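import Groth.Statements.S4886
-- import your own Groth.Agent.* helpers here
import Mathlib
import Groth.Agent.S9612

set_option autoImplicit false
universe u
open CategoryTheory AlgebraicGeometry
open EGA43

namespace Groth.Agent.S4886

/-- A field which is finitely generated as a ring is finite. -/
lemma finite_of_field_of_closure_eq_top (K : Type*) [Field K] (s : Finset K)
    (hs : Subring.closure (s : Set K) = ⊤) : Finite K := by
  haveI := Groth.Agent.S9612.isJacobsonRing_int
  have hft : Algebra.FiniteType ℤ K := by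
    refine ⟨⟨s, ?_⟩⟩
    rw [eq_top_iff]
    intro x _
    have hx : x ∈ Subring.closure (s : Set K) := by rw [hs]; trivial
    rw [← Subalgebra.mem_toSubring]
    have : Subring.closure (s : Set K) ≤ (Algebra.adjoin ℤ (s : Set K)).toSubring :=
      Subring.closure_le.mpr (fun a ha => Algebra.subset_adjoin ha)
    exact this hx
  have hfin : Module.Finite ℤ K := finite_of_finite_type_of_isJacobsonRing ℤ K
  obtain ⟨p, hp⟩ := CharP.exists K
  rcases Nat.eq_zero_or_pos p with h0 | hpos
  · subst h0
    haveI : CharZero K := CharP.charP_to_charZero K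
    exfalso
    have hint : Algebra.IsIntegral ℤ K := inferInstance
    have hinj : Function.Injective (algebraMap ℤ K) := (algebraMap ℤ K).injective_int
    exact Int.not_isField (isField_of_isIntegral_of_isField hinj (Field.toIsField K))
  · haveI : Fact p.Prime := ⟨(CharP.char_is_prime_or_zero K p).resolve_right hpos.ne'⟩
    letI := ZMod.algebra K p
    haveI : Module.Finite (ZMod p) K := Module.Finite.of_restrictScalars_finite ℤ (ZMod p) K
    exact Module.finite_of_finite (ZMod p)


section ring

variable {A : Type*} [CommRing A]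

lemma finite_residueField_of_isMaximal (s : Finset A) (hs : Subring.closure (s : Set A) = ⊤)
    (q : Ideal A) [q.IsMaximal] : Finite q.ResidueField := by
  classical
  apply finite_of_field_of_closure_eq_top q.ResidueField (s.image (algebraMap A q.ResidueField))
  rw [Finset.coe_image, ← RingHom.map_closure, hs, ← RingHom.range_eq_map,
    RingHom.range_eq_top]
  exact q.algebraMap_residueField_surjective

lemma isMaximal_of_finite_residueField (q : Ideal A) [q.IsPrime] (h : Finite q.ResidueField) :
    q.IsMaximal := by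
  have : Finite (A ⧸ q) := Finite.of_injective _ q.injective_algebraMap_quotient_residueField
  rw [Ideal.Quotient.maximal_ideal_iff_isField_quotient]
  exact Finite.isField_of_domain (A ⧸ q)

lemma finite_setOf_residueField_hom (s : Finset A) (hs : Subring.closure (s : Set A) = ⊤)
    (F : Type*) [Field F] [Finite F] :
    {q : PrimeSpectrum A | Nonempty (q.asIdeal.ResidueField →+* F)}.Finite := by
  classical
  have hfin : Finite (A →+* F) := by
    apply Finite.of_injective (fun (f : A →+* F) => fun x : s => f x)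
    intro f g hfg
    apply RingHom.eq_of_eqOn_set_dense hs
    intro x hx
    exact congrFun hfg ⟨x, hx⟩
  rw [← Set.finite_coe_iff]
  let Φ : {q : PrimeSpectrum A | Nonempty (q.asIdeal.ResidueField →+* F)} → (A →+* F) :=
    fun q => (q.2.some).comp (algebraMap A q.1.asIdeal.ResidueField)
  apply Finite.of_injective Φ
  rintro ⟨q, hq⟩ ⟨q', hq'⟩ h
  apply Subtype.ext
  apply PrimeSpectrum.ext
  have hker : ∀ (q : PrimeSpectrum A) (ψ : q.asIdeal.ResidueField →+* F),
      RingHom.ker (ψ.comp (algebraMap A q.asIdeal.ResidueField)) = q.asIdeal := by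
    intro q ψ
    ext a
    rw [RingHom.mem_ker, RingHom.comp_apply, map_eq_zero_iff ψ ψ.injective, ← RingHom.mem_ker,
      Ideal.ker_algebraMap_residueField]
  rw [← hker q hq.some, ← hker q' hq'.some]
  exact congrArg RingHom.ker h

end ring

section scheme

open IsLocalRing

lemma nonempty_residueField_equiv {Y : Scheme.{u}} {U : Y.Opens} (hU : IsAffineOpen U)
    (q : PrimeSpectrum Γ(Y, U)) :
    Nonempty (Y.residueField (hU.fromSpec q) ≃+* q.asIdeal.ResidueField) := by
  let q' : ↥(Spec Γ(Y, U)) := q
  have e1 : Y.residueField (hU.fromSpec q') ≅ (Spec Γ(Y, U)).residueField q' :=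
    asIso (hU.fromSpec.residueFieldMap q')
  have e2 := Scheme.Spec.residueFieldIso Γ(Y, U) q
  exact ⟨(e1 ≪≫ e2).commRingCatIsoToRingEquiv⟩

lemma exists_closure_eq_top {Y : Scheme.{u}}
    [LocallyOfFiniteType (Limits.IsTerminal.from specULiftZIsTerminal Y)] {U : Y.Opens}
    (hU : IsAffineOpen U) :
    ∃ s : Finset Γ(Y, U), Subring.closure (s : Set Γ(Y, U)) = ⊤ := by
  have hft := (Limits.IsTerminal.from specULiftZIsTerminal Y).finiteType_appLE
    (isAffineOpen_top _) hU (by simp)
  set φ := ((Limits.IsTerminal.from specULiftZIsTerminal Y).appLE ⊤ U (by simp)).hom with hφ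
  -- every element of the source is an integer
  have hint : ∀ r : Γ(Spec (CommRingCat.of (ULift.{u} ℤ)), ⊤), ∃ n : ℤ, r = (n : _) := by
    intro r
    let e := (Scheme.ΓSpecIso (CommRingCat.of (ULift.{u} ℤ))).commRingCatIsoToRingEquiv
    refine ⟨(e r).down, ?_⟩
    apply e.injective
    rw [map_intCast]
    rfl
  algebraize [φ]
  have hft' : Algebra.FiniteType Γ(Spec (CommRingCat.of (ULift.{u} ℤ)), ⊤) Γ(Y, U) := hft
  obtain ⟨s, hs⟩ := hft'.out
  refine ⟨s, ?_⟩
  rw [eq_top_iff]
  intro x hxtop
  clear hxtop
  have hx : x ∈ Algebra.adjoin Γ(Spec (CommRingCat.of (ULift.{u} ℤ)), ⊤) (s : Set Γ(Y, U)) := by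
    rw [hs]; trivial
  induction hx using Algebra.adjoin_induction with
  | mem x hx => exact Subring.subset_closure hx
  | algebraMap r =>
    obtain ⟨n, rfl⟩ := hint r
    rw [map_intCast]
    exact intCast_mem _ n
  | add x y _ _ hx hy => exact add_mem hx hy
  | mul x y _ _ hx hy => exact mul_mem hx hy

end scheme

/-- Let Y be a scheme of finite type over ℤ. (i) A point y of Y is closed if and only if the residue
field k(y) is finite. (ii) For every prime number p and every integer d ≥ 1, the set of points y of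
Y such that k(y) is an extension of 𝔽_p of degree dividing d, i.e. admits a ring homomorphism into
the field with p^d elements, is finite. -/
theorem result (Y : Scheme.{u}) [CompactSpace Y]
    [LocallyOfFiniteType (Limits.IsTerminal.from specULiftZIsTerminal Y)] :
    (∀ y : Y, IsClosed ({y} : Set Y) ↔ Finite ↑(Y.residueField y)) ∧
    ∀ (p d : ℕ) [Fact p.Prime], 0 < d →
      {y : Y | Nonempty (↑(Y.residueField y) →+* GaloisField p d)}.Finite := by
  classical
  -- dictionary at a point
  have hdict : ∀ y : Y, ∃ (U : Y.Opens) (hU : IsAffineOpen U) (q : PrimeSpectrum Γ(Y, U)),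
      y ∈ U ∧ hU.fromSpec q = y := by
    intro y
    obtain ⟨_, ⟨U, hU : IsAffineOpen U, rfl⟩, hyU, -⟩ :=
      Y.isBasis_affineOpens.exists_subset_of_mem_open (Set.mem_univ y) isOpen_univ
    exact ⟨U, hU, hU.primeIdealOf ⟨y, hyU⟩, hyU, hU.fromSpec_primeIdealOf ⟨y, hyU⟩⟩
  have hclosedq : ∀ (U : Y.Opens) (hU : IsAffineOpen U) (q : PrimeSpectrum Γ(Y, U)),
      IsClosed ({hU.fromSpec q} : Set Y) → q.asIdeal.IsMaximal := by
    intro U hU q hcl
    rw [← PrimeSpectrum.isClosed_singleton_iff_isMaximal]
    have : ({q} : Set (PrimeSpectrum Γ(Y, U))) = hU.fromSpec ⁻¹' {hU.fromSpec q} := by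
      ext q'
      simp only [Set.mem_singleton_iff, Set.mem_preimage]
      exact ⟨fun h => by rw [h]; rfl, fun h => hU.fromSpec.isOpenEmbedding.injective h⟩
    rw [this]
    exact hcl.preimage hU.fromSpec.continuous
  constructor
  · intro y
    constructor
    · intro hcl
      obtain ⟨U, hU, q, hyU, rfl⟩ := hdict y
      obtain ⟨s, hs⟩ := exists_closure_eq_top hU
      have := hclosedq U hU q hcl
      obtain ⟨e⟩ := nonempty_residueField_equiv hU q
      have := finite_residueField_of_isMaximal s hs q.asIdeal
      exact Finite.of_equiv _ e.symm.toEquiv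
    · intro hfin
      rw [← closure_subset_iff_isClosed]
      intro y' hy'
      rw [← specializes_iff_mem_closure] at hy'
      obtain ⟨U, hU, q', hy'U, rfl⟩ := hdict y'
      have hyU : y ∈ U := hy'.mem_open U.isOpen hy'U
      set q := hU.primeIdealOf ⟨y, hyU⟩ with hq
      have hqy : hU.fromSpec q = y := hU.fromSpec_primeIdealOf ⟨y, hyU⟩
      obtain ⟨e⟩ := nonempty_residueField_equiv hU q
      rw [hqy] at e
      have hfinq : Finite q.asIdeal.ResidueField := Finite.of_equiv _ e.toEquiv
      have hmax := isMaximal_of_finite_residueField q.asIdeal hfinq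
      have hspec : q ⤳ q' := by
        refine (hU.fromSpec.isOpenEmbedding.isInducing.specializes_iff (x := q) (y := q')).mp ?_
        rw [hqy]
        exact hy'
      have hclq : IsClosed ({q} : Set (PrimeSpectrum Γ(Y, U))) :=
        (PrimeSpectrum.isClosed_singleton_iff_isMaximal q).mpr hmax
      have : q' ∈ closure ({q} : Set (PrimeSpectrum Γ(Y, U))) :=
        specializes_iff_mem_closure.mp hspec
      rw [hclq.closure_eq, Set.mem_singleton_iff] at this
      rw [Set.mem_singleton_iff, this, hqy]
  · intro p d _ hd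
    let 𝒰 := Y.affineCover.finiteSubcover
    have hcov : ∀ y : Y, ∃ i : 𝒰.I₀, y ∈ (𝒰.f i).opensRange := fun y => by
      obtain ⟨i, x, hx⟩ := 𝒰.exists_eq y
      exact ⟨i, x, hx⟩
    have hUaff : ∀ i : 𝒰.I₀, IsAffineOpen (𝒰.f i).opensRange := fun i =>
      isAffineOpen_opensRange (𝒰.f i)
    have hfinite : ∀ i : 𝒰.I₀,
        ({y : Y | Nonempty (↑(Y.residueField y) →+* GaloisField p d)} ∩
          ((𝒰.f i).opensRange : Set Y)).Finite := by
      intro i
      obtain ⟨s, hs⟩ := exists_closure_eq_top (hUaff i)
      have hF := finite_setOf_residueField_hom s hs (GaloisField p d)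
      refine (hF.image (hUaff i).fromSpec).subset ?_
      rintro y ⟨⟨ψ⟩, hyU⟩
      refine ⟨(hUaff i).primeIdealOf ⟨y, hyU⟩, ?_, (hUaff i).fromSpec_primeIdealOf ⟨y, hyU⟩⟩
      obtain ⟨e⟩ := nonempty_residueField_equiv (hUaff i) ((hUaff i).primeIdealOf ⟨y, hyU⟩)
      rw [(hUaff i).fromSpec_primeIdealOf ⟨y, hyU⟩] at e
      exact ⟨ψ.comp e.symm.toRingHom⟩
    refine (Set.finite_iUnion hfinite).subset ?_
    intro y hy
    obtain ⟨i, hi⟩ := hcov y
    exact Set.mem_iUnion.mpr ⟨i, hy, hi⟩

end Groth.Agent.S4886
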