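import Groth.Statements.S4887
-- import your own Groth.Agent.* helpers here
import Mathlib
import Groth.Agent.Lib.Helper26FPKer
import Groth.Agent.Lib.Helper2FinPushFP
import Groth.Agent.Lib.Helper2FlatOver2
import Groth.Agent.Lib.Helper2FPAff
import Groth.Agent.Lib.Helper23FinTypeLocal

set_option autoImplicit false
universe u
open EGA43

namespace Groth.Agent.S4887

open AlgebraicGeometry CategoryTheory Limits
open Groth.Agent.Lib.Helper2 Groth.Agent.Lib.Helper2.FlatOver

open AlgebraicGeometry CategoryTheory Limits in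
/-- Let f : X ⟶ Y be locally of finite presentation, G and H quasi-coherent O_X-modules of finite
presentation with H f-flat, and p : G ⟶ H an epimorphism. Then Ker p is an O_X-module of finite
presentation. -/
theorem result {X Y : Scheme.{u}} (f : X ⟶ Y) [LocallyOfFinitePresentation f]
    (G H : X.Modules) [Coh.IsQCoh G] [Coh.IsQCoh H] (hG : CohB1.IsFP G) (hH : CohB1.IsFP H)
    (hflat : FlatMod.IsFlatOver f H) (p : G ⟶ H) [Epi p] :
    CohB1.IsFP (kernel p) := by
  haveI : G.IsQuasicoherent := ‹Coh.IsQCoh G›
  haveI : H.IsQuasicoherent := ‹Coh.IsQCoh H›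
  haveI : SheafOfModules.IsFinitePresentation (R := X.ringCatSheaf) G := hG
  haveI : SheafOfModules.IsFinitePresentation (R := X.ringCatSheaf) H := hH
  haveI : (kernel p).IsQuasicoherent :=
    Groth.Agent.Lib.Helper23.QCohLocal.isQuasicoherent_kernel p
  choose U V hU hV hxU hUV using exists_affine_nhds f
  have hcover : TopologicalSpace.IsOpenCover U := by
    rw [TopologicalSpace.IsOpenCover, eq_top_iff]
    intro x _
    exact TopologicalSpace.Opens.mem_iSup.2 ⟨x, hxU x⟩
  refine FinPushFP.isFinitePresentation_of_finitePresentation_sections (kernel p) U hcover hU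
    (fun x => ?_)
  -- ring-level data
  let e := hUV x
  letI : Algebra Γ(Y, V x) Γ(X, U x) := (f.appLE (V x) (U x) e).hom.toAlgebra
  haveI : Algebra.FinitePresentation Γ(Y, V x) Γ(X, U x) :=
    f.finitePresentation_appLE (hV x) (hU x) e
  haveI : Module.FinitePresentation Γ(X, U x) Γ(G, U x) := FPAff.finitePresentation_sections G (hU x)
  haveI : Module.FinitePresentation Γ(X, U x) Γ(H, U x) := FPAff.finitePresentation_sections H (hU x)
  letI : Module Γ(Y, V x) Γ(H, U x) := Module.compHom Γ(H, U x) (f.appLE (V x) (U x) e).hom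
  haveI : IsScalarTower Γ(Y, V x) Γ(X, U x) Γ(H, U x) :=
    ⟨fun a b m => by
      change ((f.appLE (V x) (U x) e).hom a * b) • m = (f.appLE (V x) (U x) e).hom a • (b • m)
      rw [mul_smul]⟩
  haveI : Module.Flat Γ(Y, V x) Γ(H, U x) :=
    (isFlatOver_iff_forall_affine f H).1 hflat (U x) (V x) e (hU x) (hV x)
  let pU : Γ(G, U x) →ₗ[Γ(X, U x)] Γ(H, U x) :=
    { toFun := fun m => Scheme.Modules.Hom.app p (U x) m
      map_add' := fun a b => map_add _ a b
      map_smul' := fun a m => ModExact.app_smul p (U x) a m }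
  have hpU : Function.Surjective pU :=
    Groth.Agent.Lib.Helper23.FinType.surjective_app_of_epi p (hU x)
  have hker : Module.FinitePresentation Γ(X, U x) (LinearMap.ker pU) :=
    Groth.Agent.Lib.Helper26.FPKer.finitePresentation_ker Γ(Y, V x) Γ(X, U x) Γ(H, U x) pU hpU
  -- identify the sections of the kernel
  let T : ShortComplex X.Modules := ShortComplex.mk (kernel.ι p) p (kernel.condition p)
  have hT : T.ShortExact :=
    { exact := ShortComplex.exact_kernel p
      mono_f := inferInstanceAs (Mono (kernel.ι p))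
      epi_g := inferInstanceAs (Epi p) }
  let ιU : Γ(kernel p, U x) →ₗ[Γ(X, U x)] Γ(G, U x) :=
    { toFun := fun m => Scheme.Modules.Hom.app (kernel.ι p) (U x) m
      map_add' := fun a b => map_add _ a b
      map_smul' := fun a m => ModExact.app_smul (kernel.ι p) (U x) a m }
  have hιinj : Function.Injective ιU := ModExact.app_injective_of_mono (kernel.ι p) (U x)
  have hrange : LinearMap.range ιU = LinearMap.ker pU := by
    ext m
    constructor
    · rintro ⟨t, rfl⟩
      rw [LinearMap.mem_ker]
      change Scheme.Modules.Hom.app p (U x) (Scheme.Modules.Hom.app (kernel.ι p) (U x) t) = 0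
      have h0 : kernel.ι p ≫ p = 0 := kernel.condition p
      have h1 : Scheme.Modules.Hom.app (kernel.ι p ≫ p) (U x) t = 0 := by
        rw [h0]; rfl
      exact h1
    · intro hm
      obtain ⟨t, ht⟩ := ModExact.exists_app_eq_of_shortExact T hT (U x) m hm
      exact ⟨t, ht⟩
  have e1 : Γ(kernel p, U x) ≃ₗ[Γ(X, U x)] LinearMap.range ιU := LinearEquiv.ofInjective ιU hιinj
  have e2 : LinearMap.range ιU ≃ₗ[Γ(X, U x)] LinearMap.ker pU := LinearEquiv.ofEq _ _ hrange
  exact Module.FinitePresentation.of_equiv (R := Γ(X, U x)) (M := LinearMap.ker pU)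
    (N := Γ(kernel p, U x)) (e1.trans e2).symm

end Groth.Agent.S4887
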