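import Groth.Statements.S4896
import Groth.Agent.Lib.Helper4RectDepthE

set_option autoImplicit false
set_option linter.style.haveILetI false
universe u
open CategoryTheory AlgebraicGeometry
open EGA43

namespace Groth.Agent.S4896

/-- Let S be locally Noetherian, Jacobson and regular with equidimensional irreducible components, g : X
⟶ S locally of finite type and F a coherent O_X-module. For every point x of X the rectified depth
prof*_x(F) = prof(F_x) + dim cl{x} is the unique n (a natural number or ∞) such that, for some open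
neighbourhood U of x, prof(F_{x'}) = n for every point x' of U ∩ cl{x} which is closed in U. -/
theorem result {X S : Scheme.{u}} [IsLocallyNoetherian S] [JacobsonSpace S]
    (hreg : ∀ s : S, IsRegularLocalRing ↑(S.presheaf.stalk s))
    (h3 : ∀ S' ∈ irreducibleComponents (S : Type u), ∀ s ∈ S', IsClosed ({s} : Set S) →
      topologicalKrullDim (↥S' : Type u) = topologicalKrullDim ↥{t : S | t ∈ S' ∧ t ⤳ s})
    (g : X ⟶ S) [LocallyOfFiniteType g] (F : X.Modules) (hF : Coh.IsCoh F) (x : X) :
    letI pstar : WithBot ℕ∞ :=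
      ((LocCoh.depth ↑(X.presheaf.stalk x) ↑(F.presheaf.stalk x) : ℕ∞) : WithBot ℕ∞) +
        topologicalKrullDim ↥(closure ({x} : Set X))
    ∀ n : ℕ∞,
      (∃ U : X.Opens, x ∈ U ∧ ∀ x' : ↥U, (x' : X) ∈ closure ({x} : Set X) → IsClosed ({x'} : Set ↥U) →
        LocCoh.depth ↑(X.presheaf.stalk (x' : X)) ↑(F.presheaf.stalk (x' : X)) = n) ↔
      ((n : WithBot ℕ∞) = pstar) := by
  intro n
  haveI : JacobsonSpace X := LocallyOfFiniteType.jacobsonSpace g
  obtain ⟨U₂, hxU₂, hU₂⟩ :=
    Groth.Agent.Lib.Helper4.RectDepth.exists_opens_depth_eq_rectifiedDepth hreg h3 g F hF x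
  constructor
  · rintro ⟨U₁, hxU₁, hU₁⟩
    -- a closed point of `X` in `U₁ ∩ U₂ ∩ closure {x}`
    obtain ⟨x', ⟨⟨hx'1, hx'2⟩, hx'cl⟩, hx'closed⟩ := nonempty_inter_closedPoints (X := X)
      (Z := ((U₁ : Set X) ∩ (U₂ : Set X)) ∩ closure {x}) ⟨x, ⟨hxU₁, hxU₂⟩, subset_closure rfl⟩
      ((U₁.isOpen.inter U₂.isOpen).isLocallyClosed.inter isClosed_closure.isLocallyClosed)
    have hc : IsClosed ({x'} : Set X) := hx'closed
    have hc1 : IsClosed ({⟨x', hx'1⟩} : Set ↥U₁) := by
      have := hc.preimage (continuous_subtype_val (p := fun y => y ∈ U₁))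
      convert this using 1
      ext y
      simp [Subtype.ext_iff]
    have hc2 : IsClosed ({⟨x', hx'2⟩} : Set ↥U₂) := by
      have := hc.preimage (continuous_subtype_val (p := fun y => y ∈ U₂))
      convert this using 1
      ext y
      simp [Subtype.ext_iff]
    have e1 := hU₁ ⟨x', hx'1⟩ hx'cl hc1
    have e2 := hU₂ ⟨x', hx'2⟩ hx'cl hc2
    show (n : WithBot ℕ∞) = _
    rw [← e2]
    exact congrArg _ e1.symm
  · intro hn
    refine ⟨U₂, hxU₂, fun x' hx'cl hx'closed => ?_⟩
    have e2 := hU₂ x' hx'cl hx'closed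
    have : ((LocCoh.depth ↑(X.presheaf.stalk (x' : X)) ↑(F.presheaf.stalk (x' : X)) : ℕ∞) :
        WithBot ℕ∞) = (n : WithBot ℕ∞) := e2.trans hn.symm
    exact WithBot.coe_injective this

end Groth.Agent.S4896
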