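import Groth.Statements.S4897
import Mathlib
import Groth.Agent.S12127
import Groth.Agent.Lib.Helper11QHomeo

set_option autoImplicit false
universe u
open EGA43

namespace Groth.Agent.S4897

open Groth.Agent.S12127 (QC LQC)
open Topology

section general
variable {α : Type u} [TopologicalSpace α]

theorem qc_of_lc {Z : Set α} (hZ : IsLocallyClosed Z) : QC Z :=
  ⟨{Z}, Set.finite_singleton _, fun t ht => by rw [Set.mem_singleton_iff.mp ht]; exact hZ,
    (Set.sUnion_singleton Z).symm⟩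

theorem QC.union {Z Z' : Set α} (hZ : QC Z) (hZ' : QC Z') : QC (Z ∪ Z') := by
  obtain ⟨T, hT, hlc, rfl⟩ := hZ
  obtain ⟨T', hT', hlc', rfl⟩ := hZ'
  refine ⟨T ∪ T', hT.union hT', ?_, (Set.sUnion_union T T').symm⟩
  rintro t (ht | ht)
  · exact hlc t ht
  · exact hlc' t ht

theorem QC.inter' {Z Z' : Set α} (hZ : QC Z) (hZ' : QC Z') : QC (Z ∩ Z') := by
  obtain ⟨T, hT, hlc, rfl⟩ := hZ
  obtain ⟨T', hT', hlc', rfl⟩ := hZ'
  refine ⟨Set.image2 (· ∩ ·) T T', hT.image2 _ hT', ?_, ?_⟩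
  · rintro _ ⟨t, ht, t', ht', rfl⟩
    exact (hlc t ht).inter (hlc' t' ht')
  · ext x
    simp only [Set.mem_inter_iff, Set.mem_sUnion, Set.mem_image2]
    constructor
    · rintro ⟨⟨t, ht, hxt⟩, ⟨t', ht', hxt'⟩⟩
      exact ⟨t ∩ t', ⟨t, ht, t', ht', rfl⟩, hxt, hxt'⟩
    · rintro ⟨_, ⟨t, ht, t', ht', rfl⟩, hxt, hxt'⟩
      exact ⟨⟨t, ht, hxt⟩, ⟨t', ht', hxt'⟩⟩

theorem qc_and_coqc_of_constructible {Z : Set α} (hZ : IsConstructible Z) : QC Z ∧ QC Zᶜ := by
  induction hZ using IsConstructible.empty_union_induction with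
  | open_retrocompact U hUopen hUcomp =>
    exact ⟨qc_of_lc hUopen.isLocallyClosed, qc_of_lc hUopen.isClosed_compl.isLocallyClosed⟩
  | union s hs t ht hs' ht' =>
    refine ⟨QC.union hs'.1 ht'.1, ?_⟩
    rw [Set.compl_union]
    exact QC.inter' hs'.2 ht'.2
  | compl s hs hs' =>
    refine ⟨hs'.2, ?_⟩
    rw [compl_compl]
    exact hs'.1

theorem lqc_of_locallyConstructible {Z : Set α} (hZ : IsLocallyConstructible Z) : LQC Z := by
  intro y
  obtain ⟨U, hUn, hU, hc⟩ := hZ y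
  refine ⟨U, hU, mem_of_mem_nhds hUn, ?_⟩
  exact (Groth.Agent.S12127.qc_subtype_iff hU Z).mp (qc_and_coqc_of_constructible hc).1

end general

section qh
variable {X Y : Type u} [TopologicalSpace X] [TopologicalSpace Y] (f : X → Y) (hf : Continuous f)
  (hq : Function.Bijective (fun U : TopologicalSpace.Opens Y =>
      (⟨f ⁻¹' (U : Set Y), U.isOpen.preimage hf⟩ : TopologicalSpace.Opens X)))
include hq

theorem retro_iff {U' : Set Y} (hU' : IsOpen U') :
    IsRetrocompact U' ↔ IsRetrocompact (f ⁻¹' U') := by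
  have hQ := Groth.Agent.Lib.Helper11.qhomeo_of_bijective f hf hq
  have h := Groth.Agent.Lib.Helper11.QHomeo.retrocompact_iff hQ hf
    (Groth.Agent.Lib.Helper11.lqc_of_isOpen hU')
  constructor
  · intro hr V hVc hVo
    rw [Set.inter_comm]
    exact h.mp (fun U hUo hUc => by rw [Set.inter_comm]; exact hr hUc hUo) V hVo hVc
  · intro hr U hUc hUo
    rw [Set.inter_comm]
    exact h.mpr (fun V hVo hVc => by rw [Set.inter_comm]; exact hr hVc hVo) U hUo hUc

theorem constr_preimage {Z : Set Y} (hZ : IsConstructible Z) : IsConstructible (f ⁻¹' Z) :=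
  hZ.preimage hf (fun _ hs hr => (retro_iff f hf hq hs).mp hr)

theorem constr_surj {Z : Set X} (hZ : IsConstructible Z) :
    ∃ Z' : Set Y, IsConstructible Z' ∧ f ⁻¹' Z' = Z := by
  induction hZ using IsConstructible.empty_union_induction with
  | open_retrocompact U hUopen hUcomp =>
    obtain ⟨U', hU', rfl⟩ := Groth.Agent.S12127.open_surj f hf hq hUopen
    exact ⟨U', ((retro_iff f hf hq hU').mpr hUcomp).isConstructible hU', rfl⟩
  | union s hs t ht hs' ht' =>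
    obtain ⟨s', hs'c, rfl⟩ := hs'
    obtain ⟨t', ht'c, rfl⟩ := ht'
    exact ⟨s' ∪ t', hs'c.union ht'c, Set.preimage_union⟩
  | compl s hs hs' =>
    obtain ⟨s', hs'c, rfl⟩ := hs'
    exact ⟨s'ᶜ, hs'c.compl, Set.preimage_compl⟩


theorem glue (Z : Set X) (V' W : X → Set Y) (hV' : ∀ x, IsOpen (V' x)) (hxV : ∀ x, f x ∈ V' x)
    (hW : ∀ x, QC (W x)) (hWV : ∀ x, W x ⊆ V' x) (hWZ : ∀ x, f ⁻¹' (W x) = Z ∩ f ⁻¹' (V' x)) :
    f ⁻¹' (⋃ x, W x) = Z ∧ (⋃ x, V' x) = Set.univ ∧ ∀ x, (⋃ x', W x') ∩ V' x = W x := by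
  refine ⟨?_, ?_, ?_⟩
  · rw [Set.preimage_iUnion]
    ext x
    simp only [Set.mem_iUnion]
    constructor
    · rintro ⟨x', hx'⟩
      rw [hWZ] at hx'
      exact hx'.1
    · intro hx
      refine ⟨x, ?_⟩
      rw [hWZ]
      exact ⟨hx, hxV x⟩
  · apply Groth.Agent.S12127.open_inj f hf hq (isOpen_iUnion hV') isOpen_univ
    rw [Set.preimage_iUnion, Set.preimage_univ, Set.eq_univ_iff_forall]
    intro x
    rw [Set.mem_iUnion]
    exact ⟨x, hxV x⟩
  · intro x
    apply Set.Subset.antisymm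
    · rintro z ⟨hz, hzx⟩
      obtain ⟨x', hzx'⟩ := Set.mem_iUnion.mp hz
      have hsub : W x' ∩ V' x ⊆ W x := by
        apply Groth.Agent.S12127.qc_mono f hf hq
          (Groth.Agent.S12127.QC.inter (hW x') (hV' x).isLocallyClosed) (hW x)
        rw [Set.preimage_inter, hWZ, hWZ]
        rintro w ⟨⟨hwZ, _⟩, hwx⟩
        exact ⟨hwZ, hwx⟩
      exact hsub ⟨hzx', hzx⟩
    · rintro z hz
      exact ⟨Set.mem_iUnion.mpr ⟨x, hz⟩, hWV x hz⟩

theorem restrict_bij {U' : Set Y} (hU' : IsOpen U') :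
    Function.Bijective (fun U : TopologicalSpace.Opens ↥U' =>
      (⟨(U'.restrictPreimage f) ⁻¹' (U : Set ↥U'), U.isOpen.preimage hf.restrictPreimage⟩ :
        TopologicalSpace.Opens ↥(f ⁻¹' U'))) := by
  have hQ := Groth.Agent.Lib.Helper11.qhomeo_of_bijective f hf hq
  have hQ' := Groth.Agent.Lib.Helper11.QHomeo.restrictPreimage hQ hf
    (Groth.Agent.Lib.Helper11.lqc_of_isOpen hU')
  exact Groth.Agent.Lib.Helper11.bijective_of_qhomeo _ hf.restrictPreimage hQ'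

theorem lconstr_preimage {Z : Set Y} (hZ : IsLocallyConstructible Z) :
    IsLocallyConstructible (f ⁻¹' Z) := by
  intro x
  obtain ⟨U', hUn, hU', hc⟩ := hZ (f x)
  refine ⟨f ⁻¹' U', (hU'.preimage hf).mem_nhds (show f x ∈ U' from mem_of_mem_nhds hUn), hU'.preimage hf, ?_⟩
  exact constr_preimage (U'.restrictPreimage f) hf.restrictPreimage (restrict_bij f hf hq hU') hc

theorem lconstr_local {Z : Set X} (hZ : IsLocallyConstructible Z) (x : X) :
    ∃ (U' W : Set Y), IsOpen U' ∧ f x ∈ U' ∧ QC W ∧ W ⊆ U' ∧ f ⁻¹' W = Z ∩ f ⁻¹' U' ∧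
      IsConstructible (Subtype.val ⁻¹' W : Set ↥U') := by
  obtain ⟨V, hVn, hV, hc⟩ := hZ x
  obtain ⟨U', hU', rfl⟩ := Groth.Agent.S12127.open_surj f hf hq hV
  obtain ⟨Wt, hWt, hWeq⟩ := constr_surj (U'.restrictPreimage f) hf.restrictPreimage
    (restrict_bij f hf hq hU') hc
  refine ⟨U', Subtype.val '' Wt, hU', (show x ∈ f ⁻¹' U' from mem_of_mem_nhds hVn), ?_, ?_, ?_, ?_⟩
  · exact Groth.Agent.S12127.QC.image_val hU' (qc_and_coqc_of_constructible hWt).1
  · rintro _ ⟨w, _, rfl⟩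
    exact w.2
  · ext z
    constructor
    · rintro ⟨w, hw, hwz⟩
      have hz : z ∈ f ⁻¹' U' := by
        show f z ∈ U'
        rw [← hwz]; exact w.2
      have h1 : (⟨z, hz⟩ : ↥(f ⁻¹' U')) ∈ (U'.restrictPreimage f) ⁻¹' Wt := by
        show U'.restrictPreimage f ⟨z, hz⟩ ∈ Wt
        have : U'.restrictPreimage f ⟨z, hz⟩ = w := Subtype.ext hwz.symm
        rw [this]; exact hw
      rw [hWeq] at h1
      exact ⟨h1, hz⟩
    · rintro ⟨hzZ, hz⟩
      have h1 : (⟨z, hz⟩ : ↥(f ⁻¹' U')) ∈ (Subtype.val ⁻¹' Z : Set ↥(f ⁻¹' U')) := hzZ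
      rw [← hWeq] at h1
      exact ⟨U'.restrictPreimage f ⟨z, hz⟩, h1, rfl⟩
  · rw [Set.preimage_image_eq _ Subtype.val_injective]
    exact hWt

theorem lconstr_surj {Z : Set X} (hZ : IsLocallyConstructible Z) :
    ∃ Z' : Set Y, IsLocallyConstructible Z' ∧ f ⁻¹' Z' = Z := by
  choose U' W hU' hxU hW hWU hWZ hWc using lconstr_local f hf hq hZ
  obtain ⟨h1, h2, h3⟩ := glue f hf hq Z U' W hU' hxU hW hWU hWZ
  refine ⟨⋃ x, W x, ?_, h1⟩
  intro y
  have hy : y ∈ ⋃ x, U' x := by rw [h2]; trivial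
  obtain ⟨x, hyx⟩ := Set.mem_iUnion.mp hy
  refine ⟨U' x, (hU' x).mem_nhds hyx, hU' x, ?_⟩
  have : (Subtype.val ⁻¹' (⋃ x', W x') : Set ↥(U' x)) = Subtype.val ⁻¹' (W x) := by
    rw [← h3 x, Set.preimage_inter, Subtype.coe_preimage_self, Set.inter_univ]
  show IsConstructible (Subtype.val ⁻¹' (⋃ x', W x') : Set ↥(U' x))
  rw [this]
  exact hWc x

end qh

/-- Let f : X → Y be a quasi-homeomorphism, i.e. a continuous map such that U ↦ f⁻¹(U) is a bijection
from the open subsets of Y onto the open subsets of X. Then Z ↦ f⁻¹(Z) induces bijections from the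
locally closed (resp. constructible, resp. locally constructible) subsets of Y onto those of X. -/
theorem result {X Y : Type u}
    [TopologicalSpace X] [TopologicalSpace Y] (f : X → Y) (hf : Continuous f)
    (hq : Function.Bijective (fun U : TopologicalSpace.Opens Y =>
      (⟨f ⁻¹' (U : Set Y), U.isOpen.preimage hf⟩ : TopologicalSpace.Opens X))) :
    Function.Bijective (fun Z : {Z : Set Y // IsLocallyClosed Z} =>
        (⟨f ⁻¹' Z.1, Z.2.preimage hf⟩ : {Z : Set X // IsLocallyClosed Z})) ∧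
      Set.BijOn (fun Z : Set Y => f ⁻¹' Z) {Z | Topology.IsConstructible Z} {Z | Topology.IsConstructible Z} ∧
      Set.BijOn (fun Z : Set Y => f ⁻¹' Z) {Z | Topology.IsLocallyConstructible Z}
        {Z | Topology.IsLocallyConstructible Z} := by
  refine ⟨⟨?_, ?_⟩, ⟨?_, ?_, ?_⟩, ⟨?_, ?_, ?_⟩⟩
  · intro Z Z' h
    apply Subtype.ext
    exact Groth.Agent.S12127.qc_inj f hf hq (qc_of_lc Z.2) (qc_of_lc Z'.2)
      (congrArg Subtype.val h)
  · intro Z
    obtain ⟨Z', hZ', h⟩ := Groth.Agent.S12127.lc_surj f hf hq Z.2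
    exact ⟨⟨Z', hZ'⟩, Subtype.ext h⟩
  · intro Z hZ
    exact constr_preimage f hf hq hZ
  · intro Z hZ Z' hZ' h
    exact Groth.Agent.S12127.qc_inj f hf hq (qc_and_coqc_of_constructible hZ).1
      (qc_and_coqc_of_constructible hZ').1 h
  · intro Z hZ
    obtain ⟨Z', hZ', h⟩ := constr_surj f hf hq hZ
    exact ⟨Z', hZ', h⟩
  · intro Z hZ
    exact lconstr_preimage f hf hq hZ
  · intro Z hZ Z' hZ' h
    have h1 := lqc_of_locallyConstructible hZ
    have h2 := lqc_of_locallyConstructible hZ'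
    exact Set.Subset.antisymm (Groth.Agent.S12127.lqc_mono f hf hq h1 h2 h)
      (Groth.Agent.S12127.lqc_mono f hf hq h2 h1 h.symm)
  · intro Z hZ
    obtain ⟨Z', hZ', h⟩ := lconstr_surj f hf hq hZ
    exact ⟨Z', hZ', h⟩

end Groth.Agent.S4897
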