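import Groth.Statements.S4900
-- import your own Groth.Agent.* helpers here
import Mathlib
import Groth.Agent.Lib.Helper26FlatLimD
import Groth.Agent.Lib.Helper22LimBC
import Groth.Agent.Lib.Helper6LfpComp

set_option autoImplicit false
universe u
open CategoryTheory AlgebraicGeometry
open EGA43

namespace Groth.Agent.S4900

open Limits Groth.Agent.Lib.Helper22.LimBC Groth.Agent.Lib.Helper26.FlatLim

/-- Let S be the limit of a cofiltered system (S_i) of schemes with affine transition morphisms, S_{i₀}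
a quasi-compact stage, f₀ : X₀ ⟶ Y₀ an S_{i₀}-morphism between schemes of finite presentation over
S_{i₀}, F₀ a quasi-coherent O_{X₀}-module of finite presentation, f : X ⟶ Y and F the base changes
to S, and x a point of X. Then F is f-flat at x if and only if there are an index i over i₀ and base
changes f_i : X_i ⟶ Y_i, F_i of f₀, F₀ to S_i (pullback squares, with the induced compatible
morphisms X ⟶ X_i, Y ⟶ Y_i) such that F_i is f_i-flat at the image x_i of x in X_i. -/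
theorem result {I : Type u} [SmallCategory I] [IsCofiltered I]
    (D : I ⥤ Scheme.{u}) (c : Limits.Cone D) (hc : Limits.IsLimit c)
    [∀ (i j : I) (φ : i ⟶ j), IsAffineHom (D.map φ)] (i₀ : I) [CompactSpace (D.obj i₀)]
    {X₀ Y₀ : Scheme.{u}} (f₀ : X₀ ⟶ Y₀) (g₀ : Y₀ ⟶ D.obj i₀)
    [LocallyOfFinitePresentation g₀] [QuasiCompact g₀] [QuasiSeparated g₀]
    [LocallyOfFinitePresentation (f₀ ≫ g₀)] [QuasiCompact (f₀ ≫ g₀)] [QuasiSeparated (f₀ ≫ g₀)]
    (F₀ : X₀.Modules) [Coh.IsQCoh F₀] (hF₀ : CohB1.IsFP F₀)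
    {X Y : Scheme.{u}} (f : X ⟶ Y) (g : Y ⟶ c.pt) (qY : Y ⟶ Y₀) (qX : X ⟶ X₀)
    (hY : IsPullback qY g g₀ (c.π.app i₀)) (hX : IsPullback qX f f₀ qY) (x : X) :
    FlatMod.IsFlatOverAt f ((Scheme.Modules.pullback qX).obj F₀) x ↔
      ∃ (i : I) (φ : i ⟶ i₀) (Xi Yi : Scheme.{u}) (fi : Xi ⟶ Yi) (gi : Yi ⟶ D.obj i)
        (pY : Yi ⟶ Y₀) (pX : Xi ⟶ X₀) (vY : Y ⟶ Yi) (vX : X ⟶ Xi),
        IsPullback pY gi g₀ (D.map φ) ∧ IsPullback pX fi f₀ pY ∧
          vY ≫ pY = qY ∧ vY ≫ gi = g ≫ c.π.app i ∧ vX ≫ pX = qX ∧ vX ≫ fi = f ≫ vY ∧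
          FlatMod.IsFlatOverAt fi ((Scheme.Modules.pullback pX).obj F₀) (vX x) := by
  haveI hD : ∀ {i j : I} (φ : i ⟶ j), IsAffineHom (D.map φ) := fun φ => inferInstance
  haveI : F₀.IsQuasicoherent := ‹Coh.IsQCoh F₀›
  haveI : SheafOfModules.IsFinitePresentation (R := X₀.ringCatSheaf) F₀ := hF₀
  constructor
  · intro H
    haveI : LocallyOfFinitePresentation f₀ :=
      Groth.Agent.Lib.Helper6.locallyOfFinitePresentation_of_comp (g := g₀) inferInstance inferInstance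
    let j₀ : Over i₀ := Over.mk (𝟙 i₀)
    have hc' : IsLimit (bcCone i₀ hY) := isLimitBcCone i₀ hY hc
    haveI : IsIso (dFst D i₀ g₀ j₀) := by
      unfold dFst bcFst
      have : IsIso (D.map j₀.hom) := by
        show IsIso (D.map (𝟙 i₀))
        infer_instance
      exact pullback_fst_iso_of_right_iso _ _
    let f₀' : X₀ ⟶ (bcDiagram D i₀ g₀).obj j₀ := f₀ ≫ inv (dFst D i₀ g₀ j₀)
    have hP' : IsPullback qX f f₀' ((bcCone i₀ hY).π.app j₀) := by
      refine IsPullback.of_iso hX (Iso.refl _) (Iso.refl _) (Iso.refl _) (asIso (dFst D i₀ g₀ j₀)).symm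
        (by simp) (by simp) (by simp [f₀']) ?_
      simp only [Iso.symm_hom, asIso_inv, Iso.refl_hom, Category.id_comp, bcCone_π_app,
        IsIso.comp_inv_eq]
      exact (bcπ_fst i₀ hY j₀).symm
    obtain ⟨j, hj⟩ := exists_stage_isFlatOverAt (bcDiagram D i₀ g₀) (bcCone i₀ hY) hc' j₀ f₀' F₀ hP' x H
    have hvY1 : bcπ i₀ hY j.left ≫ dFst D i₀ g₀ j.left = qY := bcπ_fst i₀ hY j.left
    have hvY2 : bcπ i₀ hY j.left ≫ dSnd D i₀ g₀ j.left = g ≫ c.π.app j.left.left := bcπ_snd i₀ hY j.left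
    let vX : X ⟶ pullback f₀ (dFst D i₀ g₀ j.left) :=
      pullback.lift qX (f ≫ bcπ i₀ hY j.left) (by rw [hX.w, Category.assoc, hvY1])
    have hvX1 : vX ≫ pullback.fst _ _ = qX := pullback.lift_fst _ _ _
    have hvX2 : vX ≫ pullback.snd _ _ = f ≫ bcπ i₀ hY j.left := pullback.lift_snd _ _ _
    refine ⟨j.left.left, j.left.hom, pullback f₀ (dFst D i₀ g₀ j.left), (bcDiagram D i₀ g₀).obj j.left,
      pullback.snd _ _, dSnd D i₀ g₀ j.left, dFst D i₀ g₀ j.left, pullback.fst _ _,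
      bcπ i₀ hY j.left, vX,
      isPullback_d D i₀ g₀ j.left, IsPullback.of_hasPullback _ _, hvY1, hvY2, hvX1, hvX2, ?_⟩
    refine hj j (𝟙 j) _ _ ?_ vX hvX1 hvX2
    refine IsPullback.of_iso (IsPullback.of_hasPullback f₀ (dFst D i₀ g₀ j.left))
      (Iso.refl _) (Iso.refl _) (Iso.refl _) (asIso (dFst D i₀ g₀ j₀)).symm
        (by simp) (by simp) (by simp [f₀']) ?_
    simp only [Iso.symm_hom, asIso_inv, Iso.refl_hom, Category.id_comp, IsIso.comp_inv_eq]
    exact (map_dFst D i₀ g₀ j.hom).symm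
  · rintro ⟨i, φ, Xi, Yi, fi, gi, pY, pX, vY, vX, h1, h2, hvY, -, hvX, hv, Hfl⟩
    exact isFlatOverAt_of_stage hX h2 hvX hvY hv F₀ x Hfl

end Groth.Agent.S4900
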