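import Groth.Statements.S4901
-- import your own Groth.Agent.* helpers here
import Mathlib
import Groth.Agent.Lib.Helper26InjLim
import Groth.Agent.Lib.Helper22LimBC

set_option autoImplicit false
universe u
open CategoryTheory AlgebraicGeometry
open EGA43

namespace Groth.Agent.S4901

open CategoryTheory.Limits
open Groth.Agent.Lib.Helper2.PullbackFlat Groth.Agent.Lib.Helper2.PullbackSec
  Groth.Agent.Lib.Helper4.NormDelta Groth.Agent.Lib.Helper26.FlatLim Groth.Agent.Lib.Helper26.ModLim2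
  Groth.Agent.Lib.Helper26.InjFlatBC Groth.Agent.Lib.Helper26.InjLim Groth.Agent.Lib.Helper22.LimBC

/-- the direction "from a stage to the limit". -/
theorem of_stage {X Y Xi Yi X₀ Y₀ : Scheme.{u}} {f : X ⟶ Y} {fi : Xi ⟶ Yi} {f₀ : X₀ ⟶ Y₀}
    [LocallyOfFinitePresentation f₀]
    {qX : X ⟶ X₀} {qY : Y ⟶ Y₀} {pX : Xi ⟶ X₀} {pY : Yi ⟶ Y₀} {vX : X ⟶ Xi} {vY : Y ⟶ Yi}
    (hX : IsPullback qX f f₀ qY) (hi : IsPullback pX fi f₀ pY) (hvX : vX ≫ pX = qX) (hvY : vY ≫ pY = qY)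
    (hv : vX ≫ fi = f ≫ vY) (F₀ G₀ : X₀.Modules) [F₀.IsQuasicoherent] [G₀.IsQuasicoherent]
    (hF₀ : SheafOfModules.IsFinitePresentation (R := X₀.ringCatSheaf) F₀)
    (hG₀ : SheafOfModules.IsFinitePresentation (R := X₀.ringCatSheaf) G₀) (h₀ : F₀ ⟶ G₀) (x : X)
    (h1 : Function.Injective (stalkHom ((Scheme.Modules.pullback pX).map h₀) (vX x)))
    (h2 : FlatMod.IsFlatOverAt fi (cokernel ((Scheme.Modules.pullback pX).map h₀)) (vX x)) :
    Function.Injective (stalkHom ((Scheme.Modules.pullback qX).map h₀) x) ∧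
      FlatMod.IsFlatOverAt f (cokernel ((Scheme.Modules.pullback qX).map h₀)) x := by
  have hleft : IsPullback vX f fi vY := by
    subst hvX hvY
    exact IsPullback.of_right hX hv hi
  haveI : LocallyOfFinitePresentation fi := MorphismProperty.of_isPullback hi inferInstance
  haveI : ((Scheme.Modules.pullback pX).obj F₀).IsQuasicoherent := isQuasicoherent_pullback pX F₀
  haveI : ((Scheme.Modules.pullback pX).obj G₀).IsQuasicoherent := isQuasicoherent_pullback pX G₀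
  have hF₁ := Groth.Agent.Helper18Strict.isFP_pullback pX F₀ hF₀
  have hG₁ := Groth.Agent.Helper18Strict.isFP_pullback pX G₀ hG₀
  obtain ⟨k1, k2⟩ := stalkHom_injective_and_coker_flat_pullback hleft _ _ hF₁ hG₁
    ((Scheme.Modules.pullback pX).map h₀) x h1 h2
  exact ⟨stalkHom_injective_comp vX pX qX h₀ hvX x k1, isFlatOverAt_cokernel_comp vX pX qX h₀ hvX f x k2⟩

open CategoryTheory.Limits in
/-- Let S be the limit of a cofiltered system (S_i) of schemes with affine transition morphisms, i₀ an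
index, f₀ : X₀ ⟶ Y₀ a morphism locally of finite presentation of S_{i₀}-schemes, F₀ and G₀
quasi-coherent O_{X₀}-modules of finite presentation and h₀ : F₀ ⟶ G₀ a homomorphism; let f : X ⟶ Y
and h = q^*h₀ be the base changes to S and x a point of X. Then the stalk map h_x is injective and
Coker h is f-flat at x if and only if there are an index i over i₀ and base changes f_i : X_i ⟶ Y_i,
h_i = p^*h₀ to S_i (pullback squares with the compatible morphisms X ⟶ X_i, Y ⟶ Y_i) such that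
(h_i)_{x_i} is injective and Coker h_i is f_i-flat at the image x_i of x. -/
theorem result {I : Type u} [SmallCategory I] [IsCofiltered I]
    (D : I ⥤ Scheme.{u}) (c : Limits.Cone D) (hc : Limits.IsLimit c)
    [∀ (i j : I) (φ : i ⟶ j), IsAffineHom (D.map φ)] (i₀ : I)
    {X₀ Y₀ : Scheme.{u}} (f₀ : X₀ ⟶ Y₀) (g₀ : Y₀ ⟶ D.obj i₀) [LocallyOfFinitePresentation f₀]
    (F₀ G₀ : X₀.Modules) [Coh.IsQCoh F₀] [Coh.IsQCoh G₀] (hF₀ : CohB1.IsFP F₀) (hG₀ : CohB1.IsFP G₀)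
    (h₀ : F₀ ⟶ G₀)
    {X Y : Scheme.{u}} (f : X ⟶ Y) (g : Y ⟶ c.pt) (qY : Y ⟶ Y₀) (qX : X ⟶ X₀)
    (hY : IsPullback qY g g₀ (c.π.app i₀)) (hX : IsPullback qX f f₀ qY) (x : X) :
    (Function.Injective ((TopCat.Presheaf.stalkFunctor Ab x).map
        (Scheme.Modules.Hom.mapPresheaf ((Scheme.Modules.pullback qX).map h₀))) ∧
      FlatMod.IsFlatOverAt f (cokernel ((Scheme.Modules.pullback qX).map h₀)) x) ↔
      ∃ (i : I) (φ : i ⟶ i₀) (Xi Yi : Scheme.{u}) (fi : Xi ⟶ Yi) (gi : Yi ⟶ D.obj i)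
        (pY : Yi ⟶ Y₀) (pX : Xi ⟶ X₀) (vY : Y ⟶ Yi) (vX : X ⟶ Xi),
        IsPullback pY gi g₀ (D.map φ) ∧ IsPullback pX fi f₀ pY ∧
          vY ≫ pY = qY ∧ vY ≫ gi = g ≫ c.π.app i ∧ vX ≫ pX = qX ∧ vX ≫ fi = f ≫ vY ∧
          Function.Injective ((TopCat.Presheaf.stalkFunctor Ab (vX x)).map
            (Scheme.Modules.Hom.mapPresheaf ((Scheme.Modules.pullback pX).map h₀))) ∧
          FlatMod.IsFlatOverAt fi (cokernel ((Scheme.Modules.pullback pX).map h₀)) (vX x) := by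
  haveI : F₀.IsQuasicoherent := ‹Coh.IsQCoh F₀›
  haveI : G₀.IsQuasicoherent := ‹Coh.IsQCoh G₀›
  constructor
  · rintro ⟨hinj, hflat⟩
    haveI hD : ∀ {i j : I} (φ : i ⟶ j), IsAffineHom (D.map φ) := fun φ => inferInstance
    have hcY : IsLimit (bcCone i₀ hY) := isLimitBcCone i₀ hY hc
    haveI : ∀ (j k : Over i₀) (a : j ⟶ k), IsAffineHom ((bcDiagram D i₀ g₀).map a) :=
      fun j k a => inferInstance
    let k₀ : Over i₀ := Over.mk (𝟙 i₀)
    let e₀ : (bcDiagram D i₀ g₀).obj k₀ ⟶ Y₀ := dFst D i₀ g₀ k₀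
    haveI : IsIso (D.map k₀.hom) := by
      show IsIso (D.map (𝟙 i₀))
      rw [D.map_id]
      infer_instance
    haveI : IsIso e₀ := show IsIso (pullback.fst g₀ (D.map k₀.hom)) from inferInstance
    let f₀' : X₀ ⟶ (bcDiagram D i₀ g₀).obj k₀ := f₀ ≫ inv e₀
    haveI : LocallyOfFinitePresentation f₀' := inferInstance
    have hP' : IsPullback qX f f₀' ((bcCone i₀ hY).π.app k₀) := by
      refine IsPullback.of_iso hX (Iso.refl _) (Iso.refl _) (Iso.refl _) (asIso e₀).symm ?_ ?_ ?_ ?_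
      · simp
      · simp
      · simp [f₀']
      · show qY ≫ inv e₀ = 𝟙 Y ≫ bcπ i₀ hY k₀
        rw [Category.id_comp, IsIso.comp_inv_eq]
        exact (bcπ_fst i₀ hY k₀).symm
    obtain ⟨j, Xj, p, b, hpb, v, hv1, hv2, hinj_j, hflat_j⟩ :=
      exists_stage_injective_coker_flat (bcDiagram D i₀ g₀) (bcCone i₀ hY) hcY k₀ f₀' F₀ G₀ hF₀ hG₀ h₀
        hP' x hinj hflat
    refine ⟨j.left.left, j.left.hom, Xj, (bcDiagram D i₀ g₀).obj j.left, b, dSnd D i₀ g₀ j.left,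
      dFst D i₀ g₀ j.left, p, bcπ i₀ hY j.left, v, isPullback_d D i₀ g₀ j.left, ?_,
      bcπ_fst i₀ hY j.left, bcπ_snd i₀ hY j.left, hv1, hv2, hinj_j, hflat_j⟩
    refine IsPullback.of_iso hpb (Iso.refl _) (Iso.refl _) (Iso.refl _) (asIso e₀) ?_ ?_ ?_ ?_
    · simp
    · simp
    · simp [f₀']
    · show (bcDiagram D i₀ g₀).map j.hom ≫ e₀ = 𝟙 _ ≫ dFst D i₀ g₀ j.left
      rw [Category.id_comp]
      exact map_dFst D i₀ g₀ j.hom
  · rintro ⟨i, φ, Xi, Yi, fi, gi, pY, pX, vY, vX, hYi, hXi, hvY, -, hvX, hv, h1, h2⟩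
    exact of_stage hX hXi hvX hvY hv F₀ G₀ hF₀ hG₀ h₀ x h1 h2

end Groth.Agent.S4901
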