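import Groth.Statements.S4902
import Mathlib
import Groth.Agent.Lib.Helper26ArtFlatGeom2
import Groth.Agent.Lib.Helper26FlatLimC
import Groth.Agent.Lib.Helper2FFComp
import Groth.Agent.Lib.Helper20FormalPull
import Groth.Agent.Lib.Helper20PrimFlatGeom2

set_option autoImplicit false
universe u
open CategoryTheory AlgebraicGeometry
open EGA43

namespace Groth.Agent.S4902

set_option linter.style.haveILetI false

open Groth.Agent.Lib.Helper2.FlatOver Groth.Agent.Lib.Helper2.PullbackSec
  Groth.Agent.Lib.Helper26.ArtFlatGeom Groth.Agent.Lib.Helper26.FlatLim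
  Groth.Agent.Lib.Helper2.FFComp Groth.Agent.Lib.Helper20.FormalPull
  Groth.Agent.Lib.Helper20.PrimNZD Groth.Agent.Lib.Helper20.PrimFlatGeom

open CategoryTheory.Limits

/-- `Spec O_{Y,y} ⟶ Y` is flat. -/
theorem flat_fromSpecStalk (Y : Scheme.{u}) (y : Y) : Flat (Y.fromSpecStalk y) := by
  obtain ⟨U, hU, hyU⟩ : ∃ U : Y.Opens, IsAffineOpen U ∧ y ∈ U := by
    obtain ⟨W, hW⟩ := (Y.isBasis_affineOpens).exists_subset_of_mem_open
      (Set.mem_univ y) isOpen_univ
    obtain ⟨⟨U, hU, rfl⟩, hyU, -⟩ := hW
    exact ⟨U, hU, hyU⟩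
  rw [← hU.fromSpecStalk_eq_fromSpecStalk hyU]
  unfold IsAffineOpen.fromSpecStalk
  haveI : Flat (Spec.map (Y.presheaf.germ U y hyU)) := by
    rw [HasRingHomProperty.Spec_iff (P := @Flat)]
    letI : Algebra Γ(Y, U) (Y.presheaf.stalk y) := (Y.presheaf.germ U y hyU).hom.toAlgebra
    haveI := hU.isLocalization_stalk ⟨y, hyU⟩
    exact IsLocalization.flat (Y.presheaf.stalk y) (hU.primeIdealOf ⟨y, hyU⟩).asIdeal.primeCompl
  infer_instance

theorem residueFieldMap_surjective_of_stalkMap {X Y : Scheme.{u}} (f : X ⟶ Y) (x : X)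
    (h : Function.Surjective (f.stalkMap x).hom) :
    Function.Surjective (f.residueFieldMap x).hom := by
  have h1 := Scheme.residue_residueFieldMap f x
  have h2 : Function.Surjective ((f.residueFieldMap x).hom ∘ (Y.residue (f x)).hom) := by
    have h3 : (f.residueFieldMap x).hom ∘ (Y.residue (f x)).hom =
        (X.residue x).hom ∘ (f.stalkMap x).hom := by
      funext r
      exact congrArg (fun φ => φ.hom r) h1
    rw [h3]
    exact (X.residue_surjective x).comp h
  exact Function.Surjective.of_comp h2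

/-- transfer of the primary hypothesis along a commutative square. -/
theorem isPrimaryHom_residueFieldMap_of_square {X₁ X S₁ Y : Scheme.{u}} (g₁ : X₁ ⟶ X) (f : X ⟶ Y)
    (f₁ : X₁ ⟶ S₁) (j : S₁ ⟶ Y) (w : g₁ ≫ f = f₁ ≫ j) (x₁ : X₁)
    (hb : Function.Surjective (g₁.residueFieldMap x₁).hom)
    (hc : Function.Surjective (j.residueFieldMap (f₁ x₁)).hom)
    (h : IsPrimaryHom (f.residueFieldMap (g₁ x₁)).hom) :
    IsPrimaryHom (f₁.residueFieldMap x₁).hom := by
  have e1 := Scheme.residueFieldMap_comp g₁ f x₁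
  have e2 := Scheme.residueFieldMap_comp f₁ j x₁
  have e3 := Scheme.Hom.residueFieldMap_congr w x₁
  rw [e1, e2] at e3
  refine IsPrimaryHom.transfer (f.residueFieldMap (g₁ x₁)).hom (g₁.residueFieldMap x₁).hom
    ((j.residueFieldMap (f₁ x₁)).hom.comp (Y.residueFieldCongr (congrArg (fun ψ : X₁ ⟶ Y => ψ x₁) w)).hom.hom)
    (f₁.residueFieldMap x₁).hom ?_ hb ?_ h
  · have := congrArg CommRingCat.Hom.hom e3
    simp only [CommRingCat.hom_comp] at this
    rw [this]
    rfl
  · refine hc.comp ?_
    exact (ConcreteCategory.bijective_of_isIso (Y.residueFieldCongr _).hom).2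


open CategoryTheory.Limits in
/-- Let Y be a locally Noetherian scheme, f : X ⟶ Y locally of finite type, F a coherent O_X-module and
x a point of X with y = f x, such that k(x) is a primary extension of k(y) (every element of k(x)
separable algebraic over k(y) lies in k(y)). Let (φ_i : O_{Y,y} → A_i) be a family of local
homomorphisms into local rings such that, for every N, some finite intersection of the ideals
φ_i⁻¹(m_{A_i}^n) is contained in m_y^N; let Y_i = Spec A_i ⟶ Y be the induced Y-schemes and X_i = X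
×_Y Y_i. If for every i there is a point of X_i above x and above the closed point of Y_i at which
the pullback of F is flat over Y_i, then F is f-flat at x. -/
theorem result {X Y : Scheme.{u}} [IsLocallyNoetherian Y]
    (f : X ⟶ Y) [LocallyOfFiniteType f] (F : X.Modules) (hF : Coh.IsCoh F) (x : X)
    (hprim : letI := (f.residueFieldMap x).hom.toAlgebra
      ∀ a : ↑(X.residueField x), IsSeparable ↑(Y.residueField (f x)) a → a ∈ (f.residueFieldMap x).hom.range)
    {ι : Type u} (A : ι → Type u) [∀ i, CommRing (A i)] [∀ i, IsLocalRing (A i)]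
    (φ : ∀ i, (Y.presheaf.stalk (f x) : Type u) →+* A i) [∀ i, IsLocalHom (φ i)]
    (htop : ∀ N : ℕ, ∃ s : Finset (ι × ℕ),
      ⨅ p ∈ s, Ideal.comap (φ p.1) (IsLocalRing.maximalIdeal (A p.1) ^ p.2) ≤
        IsLocalRing.maximalIdeal ↑(Y.presheaf.stalk (f x)) ^ N) :
    letI g : ∀ i, Spec (CommRingCat.of (A i)) ⟶ Y :=
      fun i => Spec.map (CommRingCat.ofHom (φ i)) ≫ Y.fromSpecStalk (f x)
    (∀ i : ι, ∃ x' : ↥(pullback f (g i)), pullback.fst f (g i) x' = x ∧
      pullback.snd f (g i) x' = IsLocalRing.closedPoint (A i) ∧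
      FlatMod.IsFlatOverAt (pullback.snd f (g i)) ((Scheme.Modules.pullback (pullback.fst f (g i))).obj F) x') →
    FlatMod.IsFlatOverAt f F x := by
  intro hflat
  haveI : F.IsQuasicoherent := hF.1
  haveI : SheafOfModules.IsFiniteType (R := X.ringCatSheaf) F := hF.2
  haveI : Flat (Y.fromSpecStalk (f x)) := flat_fromSpecStalk Y (f x)
  obtain ⟨x₁, hx₁, hx₁'⟩ := Scheme.Pullback.exists_preimage_pullback (f := f)
    (g := Y.fromSpecStalk (f x)) x (IsLocalRing.closedPoint ↑(Y.presheaf.stalk (f x)))
    (Scheme.fromSpecStalk_closedPoint).symm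
  haveI : ((Scheme.Modules.pullback (pullback.fst f (Y.fromSpecStalk (f x)))).obj F).IsQuasicoherent :=
    isQuasicoherent_pullback _ F
  haveI : SheafOfModules.IsFiniteType (R := (pullback f (Y.fromSpecStalk (f x))).ringCatSheaf)
      ((Scheme.Modules.pullback (pullback.fst f (Y.fromSpecStalk (f x)))).obj F) :=
    isFiniteType_pullback _ F
  -- the primary hypothesis for `X₁ ⟶ Spec O_{Y,y}` at `x₁`
  have hprim₁ : IsPrimaryHom ((pullback.snd f (Y.fromSpecStalk (f x))).residueFieldMap x₁).hom := by
    refine isPrimaryHom_residueFieldMap_of_square (pullback.fst f (Y.fromSpecStalk (f x))) f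
      (pullback.snd f (Y.fromSpecStalk (f x))) (Y.fromSpecStalk (f x)) pullback.condition x₁
      (residueFieldMap_surjective_of_stalkMap _ _
        ((pullback.fst f (Y.fromSpecStalk (f x))).stalkMap_surjective x₁))
      (residueFieldMap_surjective_of_stalkMap _ _
        ((Y.fromSpecStalk (f x)).stalkMap_surjective _)) ?_
    have h0 : IsPrimaryHom (f.residueFieldMap x).hom := isPrimaryHom_of_field _ hprim
    have hx₁'' : (pullback.fst f (Y.fromSpecStalk (f x))) x₁ = x := hx₁
    rw [hx₁'']
    exact h0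
  have key : FlatMod.IsFlatOverAt (pullback.snd f (Y.fromSpecStalk (f x)))
      ((Scheme.Modules.pullback (pullback.fst f (Y.fromSpecStalk (f x)))).obj F) x₁ := by
    refine @isFlatOverAt_of_adic_family_local_prim (↑(Y.presheaf.stalk (f x)))
      (inferInstance : CommRing ↑(Y.presheaf.stalk (f x))) inferInstance inferInstance _
      (pullback.snd f (Y.fromSpecStalk (f x))) inferInstance _ inferInstance inferInstance
      x₁ hx₁' _ A inferInstance inferInstance φ inferInstance htop hprim₁ ?_
    intro i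
    obtain ⟨x', e1, e2, hfl⟩ := hflat i
    have hX := IsPullback.paste_horiz
      (IsPullback.of_hasPullback (pullback.snd f (Y.fromSpecStalk (f x)))
        (Spec.map (CommRingCat.ofHom (φ i))))
      (IsPullback.of_hasPullback f (Y.fromSpecStalk (f x)))
    let ε := hX.isoPullback
    have hvX : ε.hom ≫ pullback.fst f (Spec.map (CommRingCat.ofHom (φ i)) ≫ Y.fromSpecStalk (f x)) =
        pullback.fst (pullback.snd f (Y.fromSpecStalk (f x))) (Spec.map (CommRingCat.ofHom (φ i))) ≫
          pullback.fst f (Y.fromSpecStalk (f x)) := hX.isoPullback_hom_fst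
    have hvs : ε.hom ≫ pullback.snd f (Spec.map (CommRingCat.ofHom (φ i)) ≫ Y.fromSpecStalk (f x)) =
        pullback.snd (pullback.snd f (Y.fromSpecStalk (f x))) (Spec.map (CommRingCat.ofHom (φ i))) :=
      hX.isoPullback_hom_snd
    have hw : ε.hom (ε.inv x') = x' := by
      rw [← Scheme.Hom.comp_apply, Iso.inv_hom_id]
      rfl
    refine ⟨ε.inv x', ?_, ?_, ?_⟩
    · -- first projection is `x₁`, by injectivity of `X₁ ⟶ X`
      apply (pullback.fst f (Y.fromSpecStalk (f x))).isEmbedding.injective
      have h : (pullback.fst f (Y.fromSpecStalk (f x)))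
          ((pullback.fst (pullback.snd f (Y.fromSpecStalk (f x)))
            (Spec.map (CommRingCat.ofHom (φ i)))) (ε.inv x')) =
          (pullback.fst f (Spec.map (CommRingCat.ofHom (φ i)) ≫ Y.fromSpecStalk (f x)))
            (ε.hom (ε.inv x')) :=
        (congrArg (fun ψ : _ ⟶ X => ψ (ε.inv x')) hvX).symm
      rw [hw] at h
      exact h.trans (e1.trans hx₁.symm)
    · have h : (pullback.snd (pullback.snd f (Y.fromSpecStalk (f x)))
              (Spec.map (CommRingCat.ofHom (φ i)))) (ε.inv x') =
          (pullback.snd f (Spec.map (CommRingCat.ofHom (φ i)) ≫ Y.fromSpecStalk (f x)))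
            (ε.hom (ε.inv x')) :=
        (congrArg (fun ψ : _ ⟶ Spec (CommRingCat.of (A i)) => ψ (ε.inv x')) hvs).symm
      rw [hw] at h
      exact h.trans e2
    · have hfl' : FlatMod.IsFlatOverAt
          (pullback.snd f (Spec.map (CommRingCat.ofHom (φ i)) ≫ Y.fromSpecStalk (f x)))
          ((Scheme.Modules.pullback
            (pullback.fst f (Spec.map (CommRingCat.ofHom (φ i)) ≫ Y.fromSpecStalk (f x)))).obj F)
          (ε.hom (ε.inv x')) := by
        rw [hw]; exact hfl
      have h3 := isFlatOverAt_of_stage hX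
        (IsPullback.of_hasPullback f (Spec.map (CommRingCat.ofHom (φ i)) ≫ Y.fromSpecStalk (f x)))
        hvX (Category.id_comp _) (hvs.trans (Category.comp_id _).symm) F (ε.inv x') hfl'
      exact isFlatOverAt_of_iso _ ((Scheme.Modules.pullbackComp _ _).app F).symm (ε.inv x') h3
  have h1 := isFlatOverAt_comp (pullback.snd f (Y.fromSpecStalk (f x))) (Y.fromSpecStalk (f x)) _ x₁
    (Flat.stalkMap _ _) key
  rw [← pullback.condition] at h1
  have h2 := (isFlatOverAt_pullback_iff (pullback.fst f (Y.fromSpecStalk (f x))) f F x₁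
    (Flat.stalkMap _ x₁)).2 h1
  have h3 : (pullback.fst f (Y.fromSpecStalk (f x))).base x₁ = x := hx₁
  rw [h3] at h2
  exact h2

end Groth.Agent.S4902
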