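import Groth.Statements.S4903
import Mathlib
import Groth.Agent.S12127

set_option autoImplicit false
universe u
open EGA43

namespace Groth.Agent.S4903

open Groth.Agent.S12127 (QC LQC exists_lc_avoiding)

/-- the statement's form of "locally quasi-constructible" -/
def L {X : Type u} [TopologicalSpace X] (Z : Set X) : Prop :=
  ∀ x : X, ∃ U : Set X, IsOpen U ∧ x ∈ U ∧
    ∃ T : Set (Set X), T.Finite ∧ (∀ t ∈ T, IsLocallyClosed t) ∧ U ∩ Z = ⋃₀ T

theorem L_iff {X : Type u} [TopologicalSpace X] (Z : Set X) : L Z ↔ LQC Z := by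
  constructor
  · intro h x
    obtain ⟨U, hU, hxU, T, hT, hlc, heq⟩ := h x
    exact ⟨U, hU, hxU, T, hT, hlc, by rw [Set.inter_comm]; exact heq⟩
  · intro h x
    obtain ⟨U, hU, hxU, T, hT, hlc, heq⟩ := h x
    exact ⟨U, hU, hxU, T, hT, hlc, by rw [Set.inter_comm]; exact heq⟩

theorem qc_of_lc {X : Type u} [TopologicalSpace X] {Z : Set X} (hZ : IsLocallyClosed Z) : QC Z :=
  ⟨{Z}, Set.finite_singleton _, fun t ht => by rw [Set.mem_singleton_iff.mp ht]; exact hZ,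
    (Set.sUnion_singleton Z).symm⟩

theorem L_of_qc {X : Type u} [TopologicalSpace X] {Z : Set X} (hZ : QC Z) : L Z := by
  intro x
  obtain ⟨T, hT, hlc, heq⟩ := hZ
  exact ⟨Set.univ, isOpen_univ, trivial, T, hT, hlc, by rw [Set.univ_inter]; exact heq⟩

section
variable {X : Type u} [TopologicalSpace X] (X₀ : Set X)
  (ha : ∀ Z : Set X, IsLocallyClosed Z → Z.Nonempty → (Z ∩ X₀).Nonempty)
include ha

theorem qc_sub {Z Z' : Set X} (hZ : QC Z) (hZ' : QC Z') (h : Z ∩ X₀ ⊆ Z' ∩ X₀) : Z ⊆ Z' := by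
  obtain ⟨T, hT, hlc, rfl⟩ := hZ
  obtain ⟨T', hT', hlc', rfl⟩ := hZ'
  rintro y ⟨t, ht, hyt⟩
  by_contra hy
  obtain ⟨s, hs, hys, hst, hdis⟩ := exists_lc_avoiding T' hT' hlc' y hy t (hlc t ht) hyt
  obtain ⟨z, hzs, hz0⟩ := ha s hs ⟨y, hys⟩
  have h1 : z ∈ ⋃₀ T ∩ X₀ := ⟨⟨t, ht, hst hzs⟩, hz0⟩
  have h2 : z ∈ s ∩ ⋃₀ T' := ⟨hzs, (h h1).1⟩
  rw [hdis] at h2
  exact h2

theorem qc_eq {Z Z' : Set X} (hZ : QC Z) (hZ' : QC Z') (h : Z ∩ X₀ = Z' ∩ X₀) : Z = Z' :=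
  Set.Subset.antisymm (qc_sub X₀ ha hZ hZ' h.subset) (qc_sub X₀ ha hZ' hZ h.symm.subset)

theorem l_sub {Z Z' : Set X} (hZ : L Z) (hZ' : L Z') (h : Z ∩ X₀ = Z' ∩ X₀) : Z ⊆ Z' := by
  intro y hy
  obtain ⟨U, hU, hyU, T, hT, hlc, heq⟩ := hZ y
  obtain ⟨U', hU', hyU', T', hT', hlc', heq'⟩ := hZ' y
  have h1 : QC (U ∩ Z ∩ U') := QC.inter ⟨T, hT, hlc, heq⟩ hU'.isLocallyClosed
  have h2 : QC (U' ∩ Z' ∩ U) := QC.inter ⟨T', hT', hlc', heq'⟩ hU.isLocallyClosed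
  have h3 : (U ∩ Z ∩ U') ∩ X₀ = (U' ∩ Z' ∩ U) ∩ X₀ := by
    ext z
    have hz : z ∈ Z ∩ X₀ ↔ z ∈ Z' ∩ X₀ := by rw [h]
    simp only [Set.mem_inter_iff] at hz ⊢
    tauto
  have h4 := qc_eq X₀ ha h1 h2 h3
  have : y ∈ U ∩ Z ∩ U' := ⟨⟨hyU, hy⟩, hyU'⟩
  rw [h4] at this
  exact this.1.2

end

/-- Conditions a), b), b′), c″), c‴) and its last assertion: given a topological space X and a subset X₀
⊆ X, the statements below are equivalent. Every locally closed subset of X that is nonempty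
intersects X₀. Every nonempty locally quasi-constructible subset of X intersects X₀; here a subset
is locally quasi-constructible when each point of X has an open neighbourhood on which the subset's
trace can be written as a union of finitely many locally closed sets. Each locally
quasi-constructible Z ⊆ X is contained in the closure of Z ∩ X₀. Any two quasi-constructible subsets
of X (unions of finitely many locally closed sets) having equal traces on X₀ coincide. Any two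
locally quasi-constructible subsets of X having equal traces on X₀ coincide. Assuming these
conditions, each locally quasi-constructible subset of the subspace X₀ arises as the trace on X₀ of
some locally quasi-constructible subset of X. -/
theorem result {X : Type u} [TopologicalSpace X] (X₀ : Set X) :
    [∀ Z : Set X, IsLocallyClosed Z → Z.Nonempty → (Z ∩ X₀).Nonempty,
      ∀ Z : Set X, (∀ x : X, ∃ U : Set X, IsOpen U ∧ x ∈ U ∧ ∃ T : Set (Set X), T.Finite ∧ (∀ t ∈ T, IsLocallyClosed t) ∧ U ∩ Z = ⋃₀ T) → Z.Nonempty → (Z ∩ X₀).Nonempty,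
      ∀ Z : Set X, (∀ x : X, ∃ U : Set X, IsOpen U ∧ x ∈ U ∧ ∃ T : Set (Set X), T.Finite ∧ (∀ t ∈ T, IsLocallyClosed t) ∧ U ∩ Z = ⋃₀ T) → Z ⊆ closure (Z ∩ X₀),
      ∀ Z Z' : Set X, (∃ T : Set (Set X), T.Finite ∧ (∀ t ∈ T, IsLocallyClosed t) ∧ Z = ⋃₀ T) → (∃ T : Set (Set X), T.Finite ∧ (∀ t ∈ T, IsLocallyClosed t) ∧ Z' = ⋃₀ T) → Z ∩ X₀ = Z' ∩ X₀ → Z = Z',
      ∀ Z Z' : Set X, (∀ x : X, ∃ U : Set X, IsOpen U ∧ x ∈ U ∧ ∃ T : Set (Set X), T.Finite ∧ (∀ t ∈ T, IsLocallyClosed t) ∧ U ∩ Z = ⋃₀ T) → (∀ x : X, ∃ U : Set X, IsOpen U ∧ x ∈ U ∧ ∃ T : Set (Set X), T.Finite ∧ (∀ t ∈ T, IsLocallyClosed t) ∧ U ∩ Z' = ⋃₀ T) → Z ∩ X₀ = Z' ∩ X₀ → Z = Z'].TFAE ∧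
    ((∀ Z : Set X, IsLocallyClosed Z → Z.Nonempty → (Z ∩ X₀).Nonempty) →
      ∀ Z₀ : Set ↥X₀, (∀ x : ↥X₀, ∃ U : Set ↥X₀, IsOpen U ∧ x ∈ U ∧ ∃ T : Set (Set ↥X₀), T.Finite ∧ (∀ t ∈ T, IsLocallyClosed t) ∧ U ∩ Z₀ = ⋃₀ T) →
        ∃ Z : Set X, (∀ x : X, ∃ U : Set X, IsOpen U ∧ x ∈ U ∧ ∃ T : Set (Set X), T.Finite ∧ (∀ t ∈ T, IsLocallyClosed t) ∧ U ∩ Z = ⋃₀ T) ∧ Subtype.val ⁻¹' Z = Z₀) := by
  constructor
  · tfae_have 1 → 2 := by
      intro ha Z hZ hne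
      obtain ⟨x, hx⟩ := hne
      obtain ⟨U, hU, hxU, T, hT, hlc, heq⟩ := hZ x
      have hx' : x ∈ ⋃₀ T := by rw [← heq]; exact ⟨hxU, hx⟩
      obtain ⟨t, ht, hxt⟩ := hx'
      obtain ⟨z, hzt, hz0⟩ := ha t (hlc t ht) ⟨x, hxt⟩
      have : z ∈ U ∩ Z := by rw [heq]; exact ⟨t, ht, hzt⟩
      exact ⟨z, this.2, hz0⟩
    tfae_have 2 → 1 := by
      intro hb Z hZ hne
      exact hb Z (L_of_qc (qc_of_lc hZ)) hne
    tfae_have 1 → 3 := by
      intro ha Z hZ x hx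
      rw [mem_closure_iff]
      intro O hO hxO
      obtain ⟨U, hU, hxU, T, hT, hlc, heq⟩ := hZ x
      have hx' : x ∈ ⋃₀ T := by rw [← heq]; exact ⟨hxU, hx⟩
      obtain ⟨t, ht, hxt⟩ := hx'
      obtain ⟨z, hzt, hz0⟩ := ha (t ∩ O) ((hlc t ht).inter hO.isLocallyClosed) ⟨x, hxt, hxO⟩
      have : z ∈ U ∩ Z := by rw [heq]; exact ⟨t, ht, hzt.1⟩
      exact ⟨z, hzt.2, this.2, hz0⟩
    tfae_have 3 → 1 := by
      intro hb Z hZ hne
      by_contra hemp
      rw [Set.not_nonempty_iff_eq_empty] at hemp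
      have := hb Z (L_of_qc (qc_of_lc hZ))
      rw [hemp, closure_empty] at this
      obtain ⟨x, hx⟩ := hne
      exact this hx
    tfae_have 1 → 4 := by
      intro ha Z Z' hZ hZ' h
      exact qc_eq X₀ ha hZ hZ' h
    tfae_have 4 → 1 := by
      intro hc Z hZ hne
      by_contra hemp
      rw [Set.not_nonempty_iff_eq_empty] at hemp
      have hE : QC (∅ : Set X) := qc_of_lc ⟨∅, ∅, isOpen_empty, isClosed_empty, by simp⟩
      have := hc Z ∅ (qc_of_lc hZ) hE (by rw [hemp, Set.empty_inter])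
      rw [this] at hne
      exact Set.not_nonempty_empty hne
    tfae_have 1 → 5 := by
      intro ha Z Z' hZ hZ' h
      exact Set.Subset.antisymm (l_sub X₀ ha hZ hZ' h) (l_sub X₀ ha hZ' hZ h.symm)
    tfae_have 5 → 1 := by
      intro hc Z hZ hne
      by_contra hemp
      rw [Set.not_nonempty_iff_eq_empty] at hemp
      have hE : QC (∅ : Set X) := qc_of_lc ⟨∅, ∅, isOpen_empty, isClosed_empty, by simp⟩
      have := hc Z ∅ (L_of_qc (qc_of_lc hZ)) (L_of_qc hE) (by rw [hemp, Set.empty_inter])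
      rw [this] at hne
      exact Set.not_nonempty_empty hne
    tfae_finish
  · intro ha Z₀ hZ₀
    have hq : Function.Bijective (fun U : TopologicalSpace.Opens X =>
        (⟨(Subtype.val : ↥X₀ → X) ⁻¹' (U : Set X), U.isOpen.preimage continuous_subtype_val⟩ :
          TopologicalSpace.Opens ↥X₀)) := by
      constructor
      · intro U W h
        have h' : (Subtype.val : ↥X₀ → X) ⁻¹' (U : Set X) = Subtype.val ⁻¹' (W : Set X) :=
          congrArg (fun O : TopologicalSpace.Opens ↥X₀ => (O : Set ↥X₀)) h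
        apply TopologicalSpace.Opens.ext
        apply qc_eq X₀ ha (qc_of_lc U.isOpen.isLocallyClosed) (qc_of_lc W.isOpen.isLocallyClosed)
        ext z
        constructor
        · rintro ⟨hzU, hz0⟩
          have : (⟨z, hz0⟩ : ↥X₀) ∈ (Subtype.val : ↥X₀ → X) ⁻¹' (U : Set X) := hzU
          rw [h'] at this
          exact ⟨this, hz0⟩
        · rintro ⟨hzW, hz0⟩
          have : (⟨z, hz0⟩ : ↥X₀) ∈ (Subtype.val : ↥X₀ → X) ⁻¹' (W : Set X) := hzW
          rw [← h'] at this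
          exact ⟨this, hz0⟩
      · intro V
        obtain ⟨U, hU, hUV⟩ := isOpen_induced_iff.mp V.isOpen
        exact ⟨⟨U, hU⟩, TopologicalSpace.Opens.ext hUV⟩
    obtain ⟨Z, hZ, hZZ₀⟩ := Groth.Agent.S12127.lqc_surj (Subtype.val : ↥X₀ → X)
      continuous_subtype_val hq ((L_iff Z₀).mp hZ₀)
    exact ⟨Z, (L_iff Z).mpr hZ, hZZ₀⟩

end Groth.Agent.S4903
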