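import Groth.Statements.S4909
import Groth.Agent.Lib.Helper4SepFamB

set_option autoImplicit false
set_option linter.style.haveILetI false
universe u
open CategoryTheory AlgebraicGeometry
open EGA43

namespace Groth.Agent.S4909
open Groth.Agent.Lib.Helper4.SepFam

/-- Case Z_λ = X: let X be a scheme, u_i : F ⟶ G_i a separating family of homomorphisms of
quasi-coherent O_X-modules (a section of F over an open subset killed by every u_i is zero) and g :
X' ⟶ X a flat morphism locally of finite presentation. Then the family (g^*u_i : g^*F ⟶ g^*G_i) is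
separating. (The published statement allows homomorphisms into direct images (f_λ)_*G_λ; this row is
the case Z_λ = X, to which the general case reduces.) -/
theorem result {X X' : Scheme.{u}} (F : X.Modules) [Coh.IsQCoh F] {ι : Type u}
    (G : ι → X.Modules) [∀ i, Coh.IsQCoh (G i)] (u : ∀ i, F ⟶ G i) (g : X' ⟶ X) [Flat g] [LocallyOfFinitePresentation g]
    (h : (∀ (V : (X).Opens) (t : ↑((F).presheaf.obj (Opposite.op V))), (∀ i, (Scheme.Modules.Hom.mapPresheaf (u i)).app (Opposite.op V) t = 0) → t = 0)) :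
    (∀ (V : (X').Opens) (t : ↑(((Scheme.Modules.pullback g).obj F).presheaf.obj (Opposite.op V))), (∀ i, (Scheme.Modules.Hom.mapPresheaf ((Scheme.Modules.pullback g).map (u i))).app (Opposite.op V) t = 0) → t = 0) := by
  haveI : F.IsQuasicoherent := ‹Coh.IsQCoh F›
  haveI : ∀ i, (G i).IsQuasicoherent := fun i => ‹∀ i, Coh.IsQCoh (G i)› i
  have hsep : Separating F G u := fun V t ht => h V t ht
  have key := separating_pullback_of_MHSD g F G u (fun x' => ?_)
  · exact fun V t ht => key V t ht
  obtain ⟨_, ⟨U, hU, rfl⟩, hxU, -⟩ := X.isBasis_affineOpens.exists_subset_of_mem_open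
    (Set.mem_univ (g x')) isOpen_univ
  obtain ⟨_, ⟨U', hU', rfl⟩, hxU', hle'⟩ := X'.isBasis_affineOpens.exists_subset_of_mem_open
    (show x' ∈ g ⁻¹ᵁ U from hxU) (g ⁻¹ᵁ U).isOpen
  have hle : U' ≤ g ⁻¹ᵁ U := hle'
  refine ⟨U, U', hU, hU', hle, hxU', ?_⟩
  letI := (g.appLE U U' hle).hom.toAlgebra
  haveI : Module.Flat Γ(X, U) Γ(X', U') :=
    HasRingHomProperty.appLE (P := @Flat) g inferInstance ⟨U, hU⟩ ⟨U', hU'⟩ hle
  haveI : Algebra.FinitePresentation Γ(X, U) Γ(X', U') :=
    HasRingHomProperty.appLE (P := @LocallyOfFinitePresentation) g inferInstance ⟨U, hU⟩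
      ⟨U', hU'⟩ hle
  exact transfers_fp _ (MHSD_of_separating F G u hsep hU)

end Groth.Agent.S4909
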