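import Groth.Statements.S4914
-- import your own Groth.Agent.* helpers here

set_option autoImplicit false
open CategoryTheory AlgebraicGeometry
universe u v w
open EGA43

namespace Groth.Agent.S4914

/-- Let ψ : X → Y be a continuous map, x a point of X, and (Y_i) a locally finite covering of Y by
closed subsets. If for every index i with ψ x ∈ Y_i the restriction ψ⁻¹(Y_i) → Y_i of ψ is open at
x, then ψ is open at x. -/
theorem result {α : Type u} {β : Type v} {ι : Type w} [TopologicalSpace α]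
    [TopologicalSpace β] (ψ : α → β) (hψ : Continuous ψ) (x : α) (Y : ι → Set β) (hY : LocallyFinite Y)
    (hcl : ∀ i, IsClosed (Y i)) (hcov : ⋃ i, Y i = Set.univ)
    (h : ∀ i, ∀ hi : ψ x ∈ Y i, EGA43.IsOpenAt ((Y i).restrictPreimage ψ) ⟨x, hi⟩) :
    EGA43.IsOpenAt ψ x := by
  intro U hU
  obtain ⟨t, ht, hF⟩ := hY (ψ x)
  have key : ∀ i, ∃ W ∈ nhds (ψ x), W ∩ Y i ⊆ ψ '' U := by
    intro i
    by_cases hi : ψ x ∈ Y i
    · have h1 : (Subtype.val ⁻¹' U : Set ↥(ψ ⁻¹' Y i)) ∈ nhds (⟨x, hi⟩ : ↥(ψ ⁻¹' Y i)) := by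
        rw [nhds_subtype_eq_comap]
        exact ⟨U, hU, subset_rfl⟩
      have h2 := h i hi _ h1
      rw [nhds_subtype_eq_comap] at h2
      obtain ⟨W, hW, hWs⟩ := h2
      refine ⟨W, hW, ?_⟩
      rintro z ⟨hzW, hzY⟩
      have : (⟨z, hzY⟩ : ↥(Y i)) ∈ (Y i).restrictPreimage ψ '' (Subtype.val ⁻¹' U) := hWs hzW
      obtain ⟨a, haU, ha⟩ := this
      exact ⟨a.1, haU, congrArg Subtype.val ha⟩
    · refine ⟨(Y i)ᶜ, (hcl i).isOpen_compl.mem_nhds hi, ?_⟩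
      rintro z ⟨hz1, hz2⟩
      exact absurd hz2 hz1
  choose W hW hWs using key
  have hN : t ∩ ⋂ i ∈ {i | (Y i ∩ t).Nonempty}, W i ∈ nhds (ψ x) :=
    Filter.inter_mem ht ((Filter.biInter_mem hF).mpr fun i _ => hW i)
  refine Filter.mem_of_superset hN ?_
  rintro z ⟨hzt, hzW⟩
  have hz : z ∈ ⋃ i, Y i := hcov ▸ Set.mem_univ z
  obtain ⟨i, hi⟩ := Set.mem_iUnion.mp hz
  have hiF : i ∈ {i | (Y i ∩ t).Nonempty} := ⟨z, hi, hzt⟩
  exact hWs i ⟨Set.mem_iInter₂.mp hzW i hiF, hi⟩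

end Groth.Agent.S4914
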