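import Groth.Statements.S4928
-- import your own Groth.Agent.* helpers here
import Mathlib
import Groth.Agent.Lib.Helper7UnivOpen
import Groth.Agent.S3404

set_option autoImplicit false
open CategoryTheory AlgebraicGeometry
universe u v w
open EGA43

namespace Groth.Agent.S4928

open CategoryTheory.Limits Groth.Agent.Lib.Helper7

open CategoryTheory.Limits in
/-- Let f : X ⟶ Y be locally of finite presentation, x a point of X, y = f x, and f₁ : X ×_Y Spec
O_{Y,y} ⟶ Spec O_{Y,y} the base change of f to the local scheme of Y at y. Then for every point x₁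
of X ×_Y Spec O_{Y,y} projecting to x, f is universally open at x if and only if f₁ is universally
open at x₁. -/
theorem result {X Y : Scheme.{u}} (f : X ⟶ Y) [LocallyOfFinitePresentation f]
    (x : X) (x₁ : ↥(pullback f (Y.fromSpecStalk (f.base x))))
    (hx₁ : (pullback.fst f (Y.fromSpecStalk (f.base x))).base x₁ = x) :
    EGA43.IsUnivOpenAt f x ↔ EGA43.IsUnivOpenAt (pullback.snd f (Y.fromSpecStalk (f.base x))) x₁ := by
  constructor
  · intro h
    exact isUnivOpenAt_of_isPullback (IsPullback.of_hasPullback f _) x h x₁ hx₁
  · intro h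
    let v := Y.fromSpecStalk (f.base x)
    have hall : ∀ x₂ : ↥(pullback f v), (pullback.fst f v).base x₂ = x →
        IsUnivOpenAt (pullback.snd f v) x₂ := by
      intro x₂ hx₂
      have : x₂ = x₁ := (pullback.fst f v).isEmbedding.injective (hx₂.trans hx₁.symm)
      rw [this]; exact h
    intro Y' g x' hx'
    have hlfp : LocallyOfFinitePresentation (pullback.snd f g) := inferInstance
    rw [(Groth.Agent.S3404.result (pullback.snd f g) x').2 hlfp]
    intro y'' hy''
    set y' := (pullback.snd f g).base x' with hy'
    have hgy' : g.base y' = f.base x := by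
      rw [hy', ← Scheme.Hom.comp_apply, ← pullback.condition, Scheme.Hom.comp_apply, hx']
    -- points of T = S ×_Y Y' over y' and y''
    have hc : v.base (IsLocalRing.closedPoint (Y.presheaf.stalk (f.base x))) = f.base x :=
      Scheme.fromSpecStalk_closedPoint
    obtain ⟨t', ht'1, ht'2⟩ := Scheme.Pullback.exists_preimage_pullback (f := v) (g := g)
      (IsLocalRing.closedPoint (Y.presheaf.stalk (f.base x))) y' (hc.trans hgy'.symm)
    have hmem : g.base y'' ∈ Set.range v.base := by
      rw [Scheme.range_fromSpecStalk]
      show g.base y'' ⤳ f.base x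
      rw [← hgy']
      exact hy''.map g.continuous
    obtain ⟨s'', hs''⟩ := hmem
    obtain ⟨t'', ht''1, ht''2⟩ := Scheme.Pullback.exists_preimage_pullback (f := v) (g := g)
      s'' y'' hs''
    have hspec : t'' ⤳ t' := by
      rw [← (pullback.snd v g).isEmbedding.isInducing.specializes_iff, ht'2, ht''2]
      exact hy''
    obtain ⟨w, hw1, hw2⟩ := Scheme.Pullback.exists_preimage_pullback (f := pullback.snd f g)
      (g := pullback.snd v g) x' t' (by rw [ht'2])
    have hopen := isOpenAt_snd_snd_of_isUnivOpenAt_snd v f x hall g x' hx' w hw1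
    obtain ⟨w'', hw''1, hw''2⟩ := (Groth.Agent.S3404.result _ w).1 hopen t'' (by rw [hw2]; exact hspec)
    refine ⟨(pullback.fst (pullback.snd f g) (pullback.snd v g)).base w'', ?_, ?_⟩
    · rw [← hw1]
      exact hw''1.map (Scheme.Hom.continuous _)
    · rw [← Scheme.Hom.comp_apply, pullback.condition, Scheme.Hom.comp_apply, hw''2, ht''2]

end Groth.Agent.S4928
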