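import Groth.Statements.S4929
import Groth.Agent.Lib.Helper7UnivOpen
import Groth.Agent.S4914

set_option autoImplicit false
open CategoryTheory AlgebraicGeometry
universe u v w
open EGA43

namespace Groth.Agent.S4929

open CategoryTheory.Limits in
/-- Let f : X ⟶ Y be a morphism of schemes, x a point of X, and (Y_i ⟶ Y) a finite family of closed
immersions whose images cover Y. If for every i the base change X ×_Y Y_i ⟶ Y_i is universally open
at every point lying over x, then f is universally open at x. -/
theorem result {X Y : Scheme.{u}} (f : X ⟶ Y) (x : X) {ι : Type w}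
    [Finite ι] (T : ι → Scheme.{u}) (g : ∀ i, T i ⟶ Y) [∀ i, IsClosedImmersion (g i)]
    (hcov : ⋃ i, Set.range (g i).base = Set.univ)
    (h : ∀ i, ∀ x' : ↥(pullback f (g i)), (pullback.fst f (g i)).base x' = x →
      EGA43.IsUnivOpenAt (pullback.snd f (g i)) x') :
    EGA43.IsUnivOpenAt f x := by
  intro Y' t x' hx'
  refine Groth.Agent.S4914.result (pullback.snd f t).base (pullback.snd f t).continuous x'
    (fun i => Set.range (pullback.snd (g i) t).base) (locallyFinite_of_finite _)
    (fun i => (pullback.snd (g i) t).isClosedEmbedding.isClosed_range) ?_ ?_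
  · rw [Set.eq_univ_iff_forall]
    intro y'
    have hy : t.base y' ∈ ⋃ i, Set.range (g i).base := hcov ▸ Set.mem_univ _
    obtain ⟨i, hi⟩ := Set.mem_iUnion.mp hy
    refine Set.mem_iUnion.mpr ⟨i, ?_⟩
    have := AlgebraicGeometry.Scheme.Pullback.range_snd (f := g i) (g := t)
    exact this ▸ hi
  · intro i hi
    obtain ⟨b₁, hb₁⟩ := hi
    obtain ⟨w, hw1, hw2⟩ := AlgebraicGeometry.Scheme.Pullback.exists_preimage_pullback
      (f := pullback.snd f t) (g := pullback.snd (g i) t) x' b₁ hb₁.symm
    have hopen : EGA43.IsOpenAt
        (pullback.snd (pullback.snd f t) (pullback.snd (g i) t)).base w :=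
      Groth.Agent.Lib.Helper7.isOpenAt_snd_snd_of_isUnivOpenAt_snd (g i) f x (h i) t x' hx' w hw1
    have hsq : ∀ w' : ↥(pullback (pullback.snd f t) (pullback.snd (g i) t)),
        (pullback.snd f t).base
          ((pullback.fst (pullback.snd f t) (pullback.snd (g i) t)).base w') =
        (pullback.snd (g i) t).base
          ((pullback.snd (pullback.snd f t) (pullback.snd (g i) t)).base w') := by
      intro w'
      rw [← Scheme.Hom.comp_apply, ← Scheme.Hom.comp_apply, pullback.condition]
    have hmem : (pullback.snd f t).base
        ((pullback.fst (pullback.snd f t) (pullback.snd (g i) t)).base w) ∈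
        Set.range (pullback.snd (g i) t).base := ⟨_, (hsq w).symm⟩
    have key := Groth.Agent.Lib.Helper7.isOpenAt_restrictPreimage_of_square
      (pullback.snd f t).base (pullback.snd (g i) t).base
      (pullback.snd (g i) t).isClosedEmbedding.isInducing
      (pullback.fst (pullback.snd f t) (pullback.snd (g i) t)).base
      (pullback.fst (pullback.snd f t) (pullback.snd (g i) t)).continuous
      (pullback.snd (pullback.snd f t) (pullback.snd (g i) t)).base hsq w hopen hmem
    convert key using 2
    exact hw1.symm

end Groth.Agent.S4929
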