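import Groth.Statements.S4932
import Groth.Agent.Lib.Helper3DomFibDim
import Mathlib

set_option autoImplicit false
open CategoryTheory AlgebraicGeometry
universe u v w
open EGA43

namespace Groth.Agent.S4932

/-- Let A be a valuation ring (not necessarily discrete), X an irreducible scheme and f : X ⟶ Spec A a
dominant morphism of finite type. If the fibre X_0 of f over the closed point is nonempty, then dim
X_0 = dim X_1, where X_1 is the fibre over the generic point. -/
theorem result {A : Type u} [CommRing A] [IsDomain A]
    [ValuationRing A] {X : Scheme.{u}} [IrreducibleSpace X] (f : X ⟶ Spec (CommRingCat.of A))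
    [LocallyOfFiniteType f] [QuasiCompact f] [IsDominant f]
    (h0 : Nonempty ↥(f.fiber (IsLocalRing.closedPoint A))) :
    topologicalKrullDim ↥(f.fiber (IsLocalRing.closedPoint A)) =
      topologicalKrullDim ↥(f.fiber (genericPoint (Spec (CommRingCat.of A)))) := by
  apply le_antisymm
  · exact Groth.Agent.Lib.Helper3.DomFibDim.dim_fiber_le_dim_genericFibre f
      (fun M _ _ h => Module.Flat.flat_iff_torsion_eq_bot_of_isBezout.mpr h) _
  · obtain ⟨z⟩ := h0
    refine (Groth.Agent.Lib.Helper3.DomFibDim.dim_genericFibre_le_fibreDimAt f
      (f.fiberι _ z)).trans ?_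
    rw [Groth.Agent.Lib.Helper3.DimCons.fibreDimAt_fiberι]
    exact Groth.Agent.Lib.Helper7.TopDim.localDim_le_dim _

end Groth.Agent.S4932
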