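import Groth.Statements.S4945
import Groth.Agent.Lib.Helper6UniF

set_option autoImplicit false
open CategoryTheory AlgebraicGeometry
universe u v w
open EGA43
open Groth.Agent.Lib.Helper6.Uni
open Groth.Agent.Lib.Helper4.DimFormula Groth.Agent.Lib.Helper4.VarDim
open Groth.Agent.Lib.Helper4.FibDim Groth.Agent.Lib.Helper6.OpenDim Groth.Agent.Lib.Helper6.EquiSub

namespace Groth.Agent.S4945

/-- Let Y be an irreducible locally Noetherian scheme with generic point η, f : X ⟶ Y a morphism locally
of finite type and y a geometrically unibranch point of Y. The following are equivalent: a) f is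
universally open at every point of X_y; b) f is open at every point of X_y; c) for every maximal
point z of X_y there is an irreducible component Z of X containing z and dominating Y with dim_z(Z ∩
X_y) = dim(Z ∩ X_η); d) for every point x closed in X_y there are an irreducible reduced scheme T
and an immersion T ⟶ X with image containing x such that T ⟶ Y is quasi-finite and dominant. -/
theorem result {X Y : Scheme.{u}} [IrreducibleSpace Y]
    [IsLocallyNoetherian Y] (f : X ⟶ Y) [LocallyOfFiniteType f] (y : Y) (hy : CAlg2.IsGeomUnibranch (Y.presheaf.stalk y)) :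
    List.TFAE [∀ x : X, f.base x = y → EGA43.IsUnivOpenAt f x,
      ∀ x : X, f.base x = y → EGA43.IsOpenAt f.base x,
      ∀ z : X, ∀ hzy : f.base z = y, (∀ z' : X, f.base z' = y → z ∈ closure {z'} → z' = z) →
        ∃ Z ∈ irreducibleComponents (X : Type u), ∃ hz : z ∈ Z, Dense (f.base '' Z) ∧
          FlatMor.localDim ↥(Z ∩ f.base ⁻¹' {y}) ⟨z, ⟨hz, hzy⟩⟩ = topologicalKrullDim ↥(Z ∩ f.base ⁻¹' {genericPoint Y}),
      ∀ x : X, f.base x = y → (∀ x' : X, f.base x' = y → x ⤳ x' → x' = x) →
        ∃ (T : Scheme.{u}) (i : T ⟶ X), IsImmersion i ∧ IrreducibleSpace ↥T ∧ IsReduced T ∧ x ∈ Set.range i.base ∧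
        LocallyOfFiniteType (i ≫ f) ∧ LocallyQuasiFinite (i ≫ f) ∧ QuasiCompact (i ≫ f) ∧ IsDominant (i ≫ f)] := by
  tfae_have 1 → 2 := fun h x hx =>
    Groth.Agent.Lib.Helper7.isOpenAt_of_isPullback (IsPullback.id_horiz f) x (h x hx) x rfl
  tfae_have 2 → 3 := by
    rintro h z rfl hmax
    exact exists_component_of_isOpenAt_maximal f z
      (fun x' h1 h2 => hmax x' h1 (specializes_iff_mem_closure.mp h2)) (h z rfl)
  -- from (c): data at a maximal point of the fibre
  have key : (∀ z : X, ∀ hzy : f.base z = y,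
      (∀ z' : X, f.base z' = y → z ∈ closure {z'} → z' = z) →
      ∃ Z ∈ irreducibleComponents (X : Type u), ∃ hz : z ∈ Z, Dense (f.base '' Z) ∧
        FlatMor.localDim ↥(Z ∩ f.base ⁻¹' {y}) ⟨z, ⟨hz, hzy⟩⟩ =
          topologicalKrullDim ↥(Z ∩ f.base ⁻¹' {genericPoint Y})) →
      ∀ z : X, f.base z = y → (∀ z' : X, f.base z' = f.base z → z' ⤳ z → z' = z) →
      ∃ (ξ : X) (hξz : ξ ⤳ z), (∀ y' : Y, y' ⤳ f.base ξ → y' = f.base ξ) ∧
        FlatMor.localDim ↥(closure {ξ} ∩ f.base ⁻¹' {f.base z}) ⟨z, hξz.mem_closure, rfl⟩ =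
          (ptTrdeg f ξ : WithBot ℕ∞) := by
    rintro h z rfl hzmax
    obtain ⟨Z, hZ, hzZ, hdense, hdim⟩ := h z rfl
      (fun z' hz' hcl => hzmax z' hz' (specializes_iff_mem_closure.mpr hcl))
    obtain ⟨ξ, hξ⟩ := QuasiSober.sober hZ.1 (isClosed_of_mem_irreducibleComponents _ hZ)
    have hξcl : closure ({ξ} : Set X) = Z := hξ.def
    subst hξcl
    have hfξ : closure ({f.base ξ} : Set Y) = Set.univ := by
      rw [← closure_image_closure_singleton]
      exact hdense.closure_eq
    have hfξgen : f.base ξ = genericPoint Y :=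
      (inseparable_iff_closure_eq.mpr (hfξ.trans (genericPoint_spec Y).def.symm)).eq
    refine ⟨ξ, specializes_iff_mem_closure.mpr hzZ, ?_, ?_⟩
    · intro y' hy'
      rw [hfξgen] at hy' ⊢
      exact (hy'.antisymm (genericPoint_specializes _)).eq
    · rw [hdim, ← hfξgen]
      exact topologicalKrullDim_closure_inter_fibre f ξ
  tfae_have 3 → 1 := by
    intro h x hxy
    apply isUnivOpenAt_of_forall_maximal f x
    intro z hz hzx hzmax
    obtain ⟨ξ, hξz, hξmax, hdim⟩ := key h z (hz.trans hxy) hzmax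
    exact isUnivOpenAt_of_closure_singleton f ξ z hξz hξmax hdim (by rw [hz, hxy]; exact hy)
  tfae_have 3 → 4 := by
    intro h x hxy hcl
    obtain ⟨w, hw, hwsp, hwmax, hfd⟩ := exists_maximal_ptTrdeg_eq_fibreDimAt f x
    obtain ⟨ξ, hξw, hξmax, hdim⟩ := key h w (hw.trans hxy) hwmax
    have h1 := localDim_eq_ptTrdeg_of_maximal f w hwmax
      (closure {ξ} ∩ f.base ⁻¹' {f.base w})
      (Set.inter_subset_inter (closure_minimal
        (Set.singleton_subset_iff.mpr hξw.mem_closure) isClosed_closure) le_rfl)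
      Set.inter_subset_right ⟨hξw.mem_closure, rfl⟩
    rw [hdim] at h1
    exact hasQuasiSection_of_component f x
      (fun x' hx' hsp => hcl x' (hx'.trans hxy) hsp) ξ (hξw.trans hwsp) hξmax (by rw [hfd, h1])
  tfae_have 4 → 1 := by
    intro h x hxy
    apply isUnivOpenAt_of_forall_closed f x
    intro x₀ hx₀ hcl₀
    have hx₀y : f.base x₀ = y := hx₀.trans hxy
    obtain ⟨T, i, hi, hTirr, hTred, ⟨t, rfl⟩, hlft, hlqf, hqc, hdom⟩ := h x₀ hx₀y
      (fun x' hx' hsp => hcl₀ x' (hx'.trans hx₀y.symm) hsp)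
    haveI := hi
    haveI := hTirr
    haveI := hlft
    haveI := hlqf
    haveI := hdom
    have hy' : CAlg2.IsGeomUnibranch (Y.presheaf.stalk ((i ≫ f).base t)) := by
      have e1 : (i ≫ f).base t = y := by
        rw [Scheme.Hom.comp_apply]; exact hx₀y
      rw [e1]; exact hy
    have h3 := isUnivOpenAt_of_quasiFinite_of_isGeomUnibranch (i ≫ f) t hy'
    exact Groth.Agent.S4926.result i f t h3
  tfae_finish

end Groth.Agent.S4945
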