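import Groth.Statements.S4950
import Groth.Agent.Lib.Helper2DvrGlue

set_option autoImplicit false
open CategoryTheory AlgebraicGeometry
universe u v w
open EGA43

namespace Groth.Agent.S4950

open CategoryTheory.Limits in
/-- Let Y be a locally Noetherian scheme, f : X ⟶ Y a separated quasi-finite morphism, y a point of Y
and y' a generization of y distinct from y; write n(z) for the geometric number of points of the
fibre X_z. Then there are a discrete valuation ring A and a morphism g : Spec A ⟶ Y mapping the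
closed point to y and the generic point to y', such that n(y) is the number of points of the fibre
of X ×_Y Spec A ⟶ Spec A over the closed point and n(y') is the number of points of its fibre over
the generic point. -/
theorem result {X Y : Scheme.{u}} [IsLocallyNoetherian Y] (f : X ⟶ Y)
    [IsSeparated f] [LocallyQuasiFinite f] [LocallyOfFiniteType f] [QuasiCompact f] (y y' : Y) (hne : y' ≠ y)
    (hgen : y' ⤳ y) :
    ∃ (A : Type u) (_ : CommRing A) (_ : IsDomain A) (_ : IsDiscreteValuationRing A) (g : Spec (CommRingCat.of A) ⟶ Y),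
      g.base (IsLocalRing.closedPoint A) = y ∧ g.base (genericPoint (Spec (CommRingCat.of A))) = y' ∧
      MoreMor.nGeomConnComp f y = ENat.card ↥((pullback.snd f g).fiber (IsLocalRing.closedPoint A)) ∧
      MoreMor.nGeomConnComp f y' = ENat.card ↥((pullback.snd f g).fiber (genericPoint (Spec (CommRingCat.of A)))) := by
  classical
  have hfin : ∀ v : Y, (f ⁻¹' {v}).Finite := fun v => f.finite_preimage_singleton v
  obtain ⟨N, iN, ι, hι, hbig⟩ := Groth.Agent.Lib.Helper2.Weight.exists_big f hfin y
  obtain ⟨N', iN', ι', hι', hbig'⟩ := Groth.Agent.Lib.Helper2.Weight.exists_big f hfin y'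
  obtain ⟨A, iA, iD, iV, ψ, ρ, ρ', h1, h2⟩ :=
    Groth.Agent.Lib.Helper2.DvrBig.exists_dvr_big
      (Groth.Agent.Lib.Helper2.Weight.chi hgen)
      (Groth.Agent.Lib.Helper2.Weight.chi_essFiniteType hgen)
      (Groth.Agent.Lib.Helper2.Weight.ker_chi_ne hgen hne) ι.hom hι ι'.hom hι'
  refine ⟨A, iA, iD, iV, Spec.map (CommRingCat.ofHom ψ) ≫ Y.fromSpecStalk y, ?_⟩
  -- closed point
  have sq1 := Groth.Agent.Lib.Helper2.Weight.square_at ψ (IsLocalRing.closedPoint A)
    (IsLocalRing.residue (Y.presheaf.stalk y)) (Y.fromSpecResidueField y) rfl ι.hom ρ h1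
  have hb1 : (Spec.map (CommRingCat.ofHom ι.hom) ≫ Y.fromSpecResidueField y)
      (IsLocalRing.closedPoint N) = y := by
    rw [Scheme.Hom.comp_apply, Scheme.fromSpecResidueField_apply]
  have c1 := Groth.Agent.Lib.Helper2.Weight.card_fiber_of_big f hfin
    (Spec.map (CommRingCat.ofHom ψ) ≫ Y.fromSpecStalk y) (IsLocalRing.closedPoint A)
    (Spec.map (CommRingCat.ofHom ι.hom) ≫ Y.fromSpecResidueField y) _ sq1
    (by rw [hb1]; exact hbig)
  rw [hb1] at c1
  -- generic point
  have hη : genericPoint (Spec (CommRingCat.of A)) = (⊥ : PrimeSpectrum A) :=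
    genericPoint_eq_bot_of_affine (CommRingCat.of A)
  have sq2 := Groth.Agent.Lib.Helper2.Weight.square_at ψ (⊥ : PrimeSpectrum A)
    (Groth.Agent.Lib.Helper2.Weight.chi hgen) (Y.fromSpecResidueField y')
    (Groth.Agent.Lib.Helper2.Weight.SpecMap_chi hgen) ι'.hom ρ' h2
  have hb2 : (Spec.map (CommRingCat.ofHom ι'.hom) ≫ Y.fromSpecResidueField y')
      (IsLocalRing.closedPoint N') = y' := by
    rw [Scheme.Hom.comp_apply, Scheme.fromSpecResidueField_apply]
  have c2 := Groth.Agent.Lib.Helper2.Weight.card_fiber_of_big f hfin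
    (Spec.map (CommRingCat.ofHom ψ) ≫ Y.fromSpecStalk y) (⊥ : PrimeSpectrum A)
    (Spec.map (CommRingCat.ofHom ι'.hom) ≫ Y.fromSpecResidueField y') _ sq2
    (by rw [hb2]; exact hbig')
  rw [hb2] at c2
  rw [hη, Groth.Agent.Lib.Helper2.Weight.nGeomConnComp_eq f y (hfin y),
    Groth.Agent.Lib.Helper2.Weight.nGeomConnComp_eq f y' (hfin y')]
  exact ⟨c1.1, c2.1, c1.2.symm, c2.2.symm⟩

end Groth.Agent.S4950
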