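import Groth.Statements.S4951
import Mathlib

set_option autoImplicit false
universe u
open EGA43

namespace Groth.Agent.S4951

open TopologicalSpace

section Helpers

/-- In a Noetherian quasi-sober space, a point in the closure of an open set is a specialization
of a point of that open set. -/
lemma exists_specializes_of_mem_closure_noeth {Y : Type u} [TopologicalSpace Y] [NoetherianSpace Y]
    [QuasiSober Y] (U : Set Y) (hU : IsOpen U) (x : Y) (hx : x ∈ closure U) :
    ∃ y ∈ U, y ⤳ x := by
  -- minimal closed `F` with `x ∈ closure (U ∩ F)`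
  let S : Set (Closeds Y) := {F | x ∈ closure (U ∩ (F : Set Y))}
  have hS : S.Nonempty := ⟨⊤, by simpa [S] using hx⟩
  obtain ⟨F, hF, hmin⟩ := wellFounded_lt.has_min S hS
  have hFx : x ∈ closure (U ∩ (F : Set Y)) := hF
  have hne : (U ∩ (F : Set Y)).Nonempty := by
    by_contra h
    rw [Set.not_nonempty_iff_eq_empty] at h
    rw [h, closure_empty] at hFx
    exact hFx
  have hirr : IsIrreducible (F : Set Y) := by
    refine ⟨hne.mono Set.inter_subset_right, ?_⟩
    rw [isPreirreducible_iff_isClosed_union_isClosed]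
    intro z₁ z₂ hz₁ hz₂ hsub
    have hcov : U ∩ (F : Set Y) = (U ∩ ((F : Set Y) ∩ z₁)) ∪ (U ∩ ((F : Set Y) ∩ z₂)) := by
      ext y
      constructor
      · rintro ⟨hyU, hyF⟩
        rcases hsub hyF with h | h
        · exact Or.inl ⟨hyU, hyF, h⟩
        · exact Or.inr ⟨hyU, hyF, h⟩
      · rintro (⟨hyU, hyF, -⟩ | ⟨hyU, hyF, -⟩) <;> exact ⟨hyU, hyF⟩
    rw [hcov, closure_union] at hFx
    rcases hFx with h | h
    · left
      let F₁ : Closeds Y := ⟨(F : Set Y) ∩ z₁, F.isClosed.inter hz₁⟩
      have hle : F₁ ≤ F := fun y hy => hy.1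
      have hF₁ : F₁ ∈ S := h
      have : ¬ F₁ < F := hmin F₁ hF₁
      have heq : F₁ = F := by
        by_contra hne'
        exact this (lt_of_le_of_ne hle hne')
      intro y hy
      have : y ∈ (F₁ : Set Y) := by rw [heq]; exact hy
      exact this.2
    · right
      let F₂ : Closeds Y := ⟨(F : Set Y) ∩ z₂, F.isClosed.inter hz₂⟩
      have hle : F₂ ≤ F := fun y hy => hy.1
      have hF₂ : F₂ ∈ S := h
      have : ¬ F₂ < F := hmin F₂ hF₂
      have heq : F₂ = F := by
        by_contra hne'
        exact this (lt_of_le_of_ne hle hne')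
      intro y hy
      have : y ∈ (F₂ : Set Y) := by rw [heq]; exact hy
      exact this.2
  obtain ⟨η, hη⟩ := QuasiSober.sober hirr F.isClosed
  obtain ⟨u, huU, huF⟩ := hne
  have hηU : η ∈ U := by
    have : u ∈ closure ({η} : Set Y) := by rw [hη.def]; exact huF
    exact (mem_closure_iff.1 this U hU huU).elim (fun z hz => by
      rcases hz with ⟨hzU, hzη⟩
      rw [Set.mem_singleton_iff] at hzη
      rwa [← hzη])
  refine ⟨η, hηU, ?_⟩
  rw [specializes_iff_mem_closure, hη.def]
  exact closure_minimal Set.inter_subset_right F.isClosed hFx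

/-- Locally Noetherian version. -/
lemma exists_specializes_of_mem_closure {X : Type u} [TopologicalSpace X] [QuasiSober X]
    (hloc : ∀ x : X, ∃ U ∈ nhds x, NoetherianSpace ↥U)
    (U : Set X) (hU : IsOpen U) (x : X) (hx : x ∈ closure U) :
    ∃ y ∈ U, y ⤳ x := by
  obtain ⟨N, hN, hNoeth⟩ := hloc x
  let V : Set X := interior N
  have hVo : IsOpen V := isOpen_interior
  have hxV : x ∈ V := mem_interior_iff_mem_nhds.2 hN
  haveI : NoetherianSpace ↥V := by
    have hi : Topology.IsInducing (Set.inclusion (interior_subset : V ⊆ N)) :=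
      (Topology.IsEmbedding.inclusion interior_subset).isInducing
    exact hi.noetherianSpace
  haveI : QuasiSober ↥V := hVo.isOpenEmbedding_subtypeVal.quasiSober
  let U' : Set ↥V := Subtype.val ⁻¹' U
  have hU' : IsOpen U' := hU.preimage continuous_subtype_val
  have hx' : (⟨x, hxV⟩ : ↥V) ∈ closure U' := by
    rw [Topology.IsInducing.subtypeVal.closure_eq_preimage_closure_image]
    show x ∈ closure (Subtype.val '' U')
    have : Subtype.val '' U' = V ∩ U := by
      ext y
      constructor
      · rintro ⟨⟨z, hz⟩, hzU, rfl⟩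
        exact ⟨hz, hzU⟩
      · rintro ⟨hyV, hyU⟩
        exact ⟨⟨y, hyV⟩, hyU, rfl⟩
    rw [this]
    exact hVo.inter_closure ⟨hxV, hx⟩
  obtain ⟨y, hyU, hy⟩ := exists_specializes_of_mem_closure_noeth U' hU' ⟨x, hxV⟩ hx'
  exact ⟨y.1, hyU, hy.map continuous_subtype_val⟩

/-- A closed subset of a quasi-sober `T₀` space containing `x₀` contains a point which has no
proper generization inside the subset. -/
lemma exists_maximal_point {X : Type u} [TopologicalSpace X] [QuasiSober X] [T0Space X]
    (F : Set X) (hF : IsClosed F) (x₀ : X) (hx₀ : x₀ ∈ F) :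
    ∃ x ∈ F, ∀ y ∈ F, y ⤳ x → y = x := by
  haveI : QuasiSober ↥F := hF.isClosedEmbedding_subtypeVal.quasiSober
  let T : Set ↥F := irreducibleComponent (⟨x₀, hx₀⟩ : ↥F)
  have hT : IsIrreducible T := isIrreducible_irreducibleComponent
  have hTc : IsClosed T := isClosed_irreducibleComponent
  obtain ⟨ξ, hξ⟩ := QuasiSober.sober hT hTc
  refine ⟨ξ.1, ξ.2, ?_⟩
  intro y hyF hy
  have hy' : (⟨y, hyF⟩ : ↥F) ⤳ ξ := Topology.IsInducing.subtypeVal.specializes_iff.1 hy
  have hsub : T ⊆ closure ({(⟨y, hyF⟩ : ↥F)} : Set ↥F) := by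
    rw [← hξ.def]
    exact closure_minimal (Set.singleton_subset_iff.2 (specializes_iff_mem_closure.1 hy'))
      isClosed_closure
  have hirr : IsPreirreducible (closure ({(⟨y, hyF⟩ : ↥F)} : Set ↥F)) :=
    (isIrreducible_singleton.closure).isPreirreducible
  have hmax := (irreducibleComponent_property (⟨x₀, hx₀⟩ : ↥F)).2.2 _ hirr hsub
  have hins : Inseparable (⟨y, hyF⟩ : ↥F) ξ := by
    rw [inseparable_iff_closure_eq, hmax, hξ.def]
  exact congrArg Subtype.val hins.eq

end Helpers

/-- Let X be a locally Noetherian topological space in which every irreducible closed subset has a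
unique generic point (X quasi-sober and T₀), and Z a closed nowhere dense subset of X such that for
every point x of Z the set of generizations of x distinct from x is connected (possibly empty). If X
is connected, then X − Z is connected. (Uniqueness of generic points, automatic for the underlying
space of a scheme, is needed: in the four-point space {u, v, z₁, z₂} whose open sets are ∅, {u},
{v}, {u, v} and the whole space, the closed nowhere dense set Z = {z₁, z₂} satisfies the hypothesis,
since z₂ is a generization of z₁ and conversely, yet X − Z = {u, v} is not connected.) -/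
theorem result {X : Type u} [TopologicalSpace X]
    [QuasiSober X] [T0Space X] (hloc : ∀ x : X, ∃ U ∈ nhds x, TopologicalSpace.NoetherianSpace ↥U) [ConnectedSpace X]
    (Z : Set X) (hZ : IsClosed Z) (hZn : IsNowhereDense Z)
    (hgen : ∀ x ∈ Z, IsPreconnected ({x' : X | x' ⤳ x} \ {x})) :
    IsConnected Zᶜ := by
  have hdense : Dense Zᶜ := by
    have : interior Z = ∅ := by
      have h := hZn
      rw [IsNowhereDense, hZ.closure_eq] at h
      exact h
    rw [← interior_eq_empty_iff_dense_compl]
    exact this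
  refine ⟨hdense.nonempty, ?_⟩
  intro u v hu hv hcov hnu hnv
  by_contra hcon
  rw [Set.not_nonempty_iff_eq_empty] at hcon
  set U₁ : Set X := Zᶜ ∩ u with hU₁
  set U₂ : Set X := Zᶜ ∩ v with hU₂
  have hU₁o : IsOpen U₁ := hZ.isOpen_compl.inter hu
  have hU₂o : IsOpen U₂ := hZ.isOpen_compl.inter hv
  have hdisj : Disjoint U₁ U₂ := by
    rw [Set.disjoint_iff_inter_eq_empty]
    rw [← hcon]
    ext y
    simp only [hU₁, hU₂, Set.mem_inter_iff]
    tauto
  have hunion : U₁ ∪ U₂ = Zᶜ := by
    ext y
    simp only [hU₁, hU₂, Set.mem_union, Set.mem_inter_iff]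
    constructor
    · rintro (h | h) <;> exact h.1
    · intro hy
      rcases hcov hy with h | h
      · exact Or.inl ⟨hy, h⟩
      · exact Or.inr ⟨hy, h⟩
  have hF : closure U₁ ∪ closure U₂ = Set.univ := by
    rw [← closure_union, hunion, hdense.closure_eq]
  -- a point of the intersection of the closures
  obtain ⟨x₀, -, hx₀⟩ := isPreconnected_closed_iff.1 isPreconnected_univ (closure U₁) (closure U₂)
    isClosed_closure isClosed_closure (by rw [hF]) 
    (by obtain ⟨y, hy⟩ := hnu; exact ⟨y, trivial, subset_closure hy⟩)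
    (by obtain ⟨y, hy⟩ := hnv; exact ⟨y, trivial, subset_closure hy⟩)
  obtain ⟨x, hxF, hxmax⟩ := exists_maximal_point (closure U₁ ∩ closure U₂)
    (isClosed_closure.inter isClosed_closure) x₀ hx₀
  have hxZ : x ∈ Z := by
    by_contra hxZ
    have : x ∈ U₁ ∪ U₂ := by rw [hunion]; exact hxZ
    rcases this with h | h
    · exact (Set.disjoint_left.1 (hdisj.closure_right hU₁o) h) hxF.2
    · exact (Set.disjoint_left.1 (hdisj.symm.closure_right hU₂o) h) hxF.1
  obtain ⟨y₁, hy₁U, hy₁⟩ := exists_specializes_of_mem_closure hloc U₁ hU₁o x hxF.1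
  obtain ⟨y₂, hy₂U, hy₂⟩ := exists_specializes_of_mem_closure hloc U₂ hU₂o x hxF.2
  have hy₁ne : y₁ ≠ x := fun h => hy₁U.1 (h ▸ hxZ)
  have hy₂ne : y₂ ≠ x := fun h => hy₂U.1 (h ▸ hxZ)
  obtain ⟨y, ⟨hyx, hyne⟩, hyF⟩ := isPreconnected_closed_iff.1 (hgen x hxZ) (closure U₁) (closure U₂)
    isClosed_closure isClosed_closure (by rw [hF]; exact Set.subset_univ _)
    ⟨y₁, ⟨hy₁, hy₁ne⟩, subset_closure hy₁U⟩ ⟨y₂, ⟨hy₂, hy₂ne⟩, subset_closure hy₂U⟩
  exact hyne (hxmax y hyF hyx)

end Groth.Agent.S4951
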