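import Groth.Statements.S4959
import Groth.Agent.Lib.Helper12Submersive2

set_option autoImplicit false
open CategoryTheory AlgebraicGeometry
universe u v w
open EGA43

namespace Groth.Agent.S4959


open CategoryTheory.Limits in


open CategoryTheory.Limits in
/-- Let f : X ⟶ Y be a morphism of schemes and g : Y' ⟶ Y a surjective morphism which is either proper,
or flat and quasi-compact. If the base change f' : X ×_Y Y' ⟶ Y' is universally submersive (all of
its base changes are topological quotient maps), then f is universally submersive. -/
theorem result {X Y Y' : Scheme.{u}} (f : X ⟶ Y) (g : Y' ⟶ Y) [Surjective g]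
    (hg : IsProper g ∨ (Flat g ∧ QuasiCompact g))
    (h : MorphismProperty.universally (topologically @Topology.IsQuotientMap) (pullback.snd f g)) :
    MorphismProperty.universally (topologically @Topology.IsQuotientMap) f := by
  have hgU : Groth.Agent.Lib.Helper12.Submersive.US g := by
    rcases hg with hp | ⟨hfl, hqc⟩
    · exact Groth.Agent.Lib.Helper12.Submersive.us_of_universallyClosed g
    · exact Groth.Agent.Lib.Helper12.Submersive.us_of_flat g
  have h' : Groth.Agent.Lib.Helper12.Submersive.US (pullback.snd f g) := h
  have hcomp : Groth.Agent.Lib.Helper12.Submersive.US (pullback.snd f g ≫ g) :=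
    MorphismProperty.comp_mem _ _ _ h' hgU
  rw [← pullback.condition] at hcomp
  exact Groth.Agent.Lib.Helper12.Submersive.us_of_comp _ _ hcomp

end Groth.Agent.S4959
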