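import Groth.Statements.S4971
import Mathlib.RingTheory.Nakayama


set_option autoImplicit false
universe u
open EGA43

namespace Groth.Agent.S4971

/-- Let B be a Noetherian local ring, M, N, P three B-modules with N finitely generated, u : M → N and v
: N → P linear maps with v ∘ u = 0, and t an element of the maximal ideal of B which is P-regular.
If the induced sequence M/tM → N/tN → P/tP is exact, then M → N → P is exact. -/
theorem result {B : Type u} [CommRing B] [IsNoetherianRing B] [IsLocalRing B]
    {M N P : Type u} [AddCommGroup M] [Module B M] [AddCommGroup N] [Module B N] [Module.Finite B N]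
    [AddCommGroup P] [Module B P] (u : M →ₗ[B] N) (v : N →ₗ[B] P) (huv : v ∘ₗ u = 0) (t : B)
    (ht : t ∈ IsLocalRing.maximalIdeal B) (hreg : IsSMulRegular P t)
    (hu : (Ideal.span {t} • ⊤ : Submodule B M) ≤ (Ideal.span {t} • ⊤ : Submodule B N).comap u)
    (hv : (Ideal.span {t} • ⊤ : Submodule B N) ≤ (Ideal.span {t} • ⊤ : Submodule B P).comap v)
    (hex : LinearMap.ker ((Ideal.span {t} • ⊤ : Submodule B N).mapQ (Ideal.span {t} • ⊤ : Submodule B P) v hv) ≤
      LinearMap.range ((Ideal.span {t} • ⊤ : Submodule B M).mapQ (Ideal.span {t} • ⊤ : Submodule B N) u hu)) :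
    LinearMap.ker v ≤ LinearMap.range u := by
  have hFG : (LinearMap.ker v).FG := IsNoetherian.noetherian _
  have hjac : Ideal.span {t} ≤ Ideal.jacobson (⊥ : Ideal B) := by
    rw [Ideal.span_singleton_le_iff_mem]
    exact (IsLocalRing.maximalIdeal_le_jacobson ⊥) ht
  refine Submodule.le_of_le_smul_of_le_jacobson_bot hFG hjac ?_
  intro n hn
  rw [LinearMap.mem_ker] at hn
  -- the class of n in N/tN is in the kernel of v̄
  have h1 : (Submodule.Quotient.mk n : N ⧸ (Ideal.span {t} • ⊤ : Submodule B N)) ∈
      LinearMap.ker ((Ideal.span {t} • ⊤ : Submodule B N).mapQ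
        (Ideal.span {t} • ⊤ : Submodule B P) v hv) := by
    rw [LinearMap.mem_ker, Submodule.mapQ_apply, hn, Submodule.Quotient.mk_zero]
  obtain ⟨mbar, hmbar⟩ := hex h1
  obtain ⟨m, rfl⟩ := Submodule.Quotient.mk_surjective _ mbar
  rw [Submodule.mapQ_apply, eq_comm, Submodule.Quotient.eq] at hmbar
  -- n - u m ∈ t N
  rw [Submodule.ideal_span_singleton_smul, Submodule.mem_smul_pointwise_iff_exists] at hmbar
  obtain ⟨n', -, hn'⟩ := hmbar
  have hvn' : v n' = 0 := by
    have h2 : v (n - u m) = 0 := by
      rw [map_sub, hn]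
      have : v (u m) = 0 := by
        have := LinearMap.congr_fun huv m
        simpa using this
      rw [this, sub_zero]
    rw [← hn', map_smul] at h2
    exact hreg (by simpa using h2)
  have : n = u m + t • n' := by rw [hn']; abel
  rw [this]
  refine Submodule.add_mem_sup ⟨m, rfl⟩ ?_
  exact Submodule.smul_mem_smul (Ideal.mem_span_singleton_self t) (LinearMap.mem_ker.mpr hvn')

end Groth.Agent.S4971
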