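import Groth.Statements.S4973
import Groth.Agent.Lib.Helper12PullbackPts

set_option autoImplicit false
open CategoryTheory AlgebraicGeometry
universe u v w
open EGA43

namespace Groth.Agent.S4973


/-- a point whose image specialises to the generic point maps to the generic point -/
lemma eq_genericPoint_of_specializes {α : Type*} [TopologicalSpace α] [QuasiSober α]
    [IrreducibleSpace α] [T0Space α] {y : α} (h : y ⤳ genericPoint α) : y = genericPoint α :=
  (h.antisymm (genericPoint_specializes y)).eq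

/-- the generic fibre is contained in any irreducible component meeting it -/
lemma fibre_subset_component {X₀ Y₀ : Scheme.{u}} [IsIntegral Y₀] (f₀ : X₀ ⟶ Y₀)
    (hirr : IsIrreducible (f₀.base ⁻¹' {genericPoint Y₀}))
    (C : Set X₀) (hC : C ∈ irreducibleComponents (X₀ : Type u))
    (hCη : (C ∩ f₀.base ⁻¹' {genericPoint Y₀}).Nonempty) :
    f₀.base ⁻¹' {genericPoint Y₀} ⊆ C := by
  obtain ⟨c, hcC, hcF⟩ := hCη
  have hCirr : IsIrreducible C := hC.1
  have hCcl : IsClosed C := isClosed_of_mem_irreducibleComponents C hC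
  let γ := hCirr.genericPoint
  have hγ : IsGenericPoint γ C := hCirr.isGenericPoint_genericPoint hCcl
  have h1 : γ ⤳ c := hγ.specializes hcC
  have h2 : f₀ γ ⤳ f₀ c := h1.map f₀.continuous
  have hcF' : f₀ c = genericPoint Y₀ := hcF
  rw [hcF'] at h2
  have h3 : f₀ γ = genericPoint Y₀ := eq_genericPoint_of_specializes h2
  have hγF : γ ∈ f₀.base ⁻¹' {genericPoint Y₀} := h3
  have h4 : C ⊆ closure (f₀.base ⁻¹' {genericPoint Y₀}) := by
    rw [← hγ.def]
    exact closure_mono (Set.singleton_subset_iff.mpr hγF)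
  have h5 : closure (f₀.base ⁻¹' {genericPoint Y₀}) ⊆ C := hC.2 hirr.closure h4
  exact subset_closure.trans h5

/-- a dominant morphism of integral schemes maps generic point to generic point -/
lemma map_genericPoint {Y Y₀ : Scheme.{u}} [IsIntegral Y₀] [IsIntegral Y] (g : Y ⟶ Y₀)
    [IsDominant g] : g (genericPoint Y) = genericPoint Y₀ := by
  have h1 : IsGenericPoint (g (genericPoint Y)) (closure (g.base '' ⊤)) :=
    (genericPoint_spec Y).image g.continuous
  have h2 : closure (g.base '' ⊤) = ⊤ := by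
    rw [Set.top_eq_univ, Set.image_univ]
    exact g.denseRange.closure_range
  rw [h2] at h1
  exact h1.eq (genericPoint_spec Y₀)

open Limits in
set_option backward.isDefEq.respectTransparency.types false in
theorem main_aux {X₀ Y₀ Y : Scheme.{u}} [IsIntegral Y₀] [IsIntegral Y]
    (g : Y ⟶ Y₀) [IsDominant g] (f₀ : X₀ ⟶ Y₀) [IsDominant f₀]
    (hirr : IsIrreducible (f₀.base ⁻¹' {genericPoint Y₀}))
    (C : TopologicalSpace.Closeds X₀) (hC : (C : Set X₀) ∈ irreducibleComponents (X₀ : Type u))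
    (hCη : ((C : Set X₀) ∩ f₀.base ⁻¹' {genericPoint Y₀}).Nonempty) [IsIntegral (pullback f₀ g)]
    (e₁ : ((Scheme.IdealSheafData.vanishingIdeal C).subschemeι ≫ f₀) ≫ 𝟙 Y₀ =
      (Scheme.IdealSheafData.vanishingIdeal C).subschemeι ≫ f₀) (e₂ : g ≫ 𝟙 Y₀ = 𝟙 Y ≫ g) :
    IsIso (pullback.map ((Scheme.IdealSheafData.vanishingIdeal C).subschemeι ≫ f₀) g f₀ g
      (Scheme.IdealSheafData.vanishingIdeal C).subschemeι (𝟙 Y) (𝟙 Y₀) e₁ e₂) := by
  set i := (Scheme.IdealSheafData.vanishingIdeal C).subschemeι with hi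
  set m := pullback.map (i ≫ f₀) g f₀ g i (𝟙 Y) (𝟙 Y₀) e₁ e₂ with hm
  have hri : Set.range i = (C : Set X₀) := by
    rw [hi, Scheme.IdealSheafData.range_subschemeι,
      Scheme.IdealSheafData.coe_support_vanishingIdeal]
  have sq : IsPullback m (pullback.fst (i ≫ f₀) g) (pullback.fst f₀ g) i := by
    apply IsPullback.of_right (h₁₂ := pullback.snd f₀ g) (h₂₂ := f₀) (v₁₃ := g)
    · have := IsPullback.of_hasPullback (i ≫ f₀) g
      convert this.flip using 1
      rw [hm, pullback.map, pullback.lift_snd, Category.comp_id]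
    · rw [hm, pullback.map, pullback.lift_fst]
    · exact (IsPullback.of_hasPullback f₀ g).flip
  have hci : IsClosedImmersion m := MorphismProperty.of_isPullback sq.flip inferInstance
  -- the generic point of the pullback lies in the range of m
  let ξ : ↥(pullback f₀ g) := genericPoint ↥(pullback f₀ g)
  have hgη : g (genericPoint Y) = genericPoint Y₀ := map_genericPoint g
  obtain ⟨x₀, hx₀⟩ := hirr.nonempty
  have hx₀' : f₀ x₀ = genericPoint Y₀ := hx₀
  obtain ⟨p, hp1, hp2⟩ := Scheme.Pullback.exists_preimage_pullback x₀ (genericPoint Y)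
    (hx₀'.trans hgη.symm)
  have hξp : ξ ⤳ p := genericPoint_specializes p
  have hsnd : pullback.snd f₀ g ξ = genericPoint Y := by
    apply eq_genericPoint_of_specializes
    rw [← hp2]
    exact hξp.map (pullback.snd f₀ g).continuous
  have hfstF : pullback.fst f₀ g ξ ∈ f₀.base ⁻¹' {genericPoint Y₀} := by
    change f₀ (pullback.fst f₀ g ξ) = genericPoint Y₀
    rw [← Scheme.Hom.comp_apply, pullback.condition, Scheme.Hom.comp_apply, hsnd, hgη]
  have hfstC : pullback.fst f₀ g ξ ∈ (C : Set X₀) :=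
    fibre_subset_component f₀ hirr C hC hCη hfstF
  rw [← hri] at hfstC
  obtain ⟨c', hc'⟩ := hfstC
  obtain ⟨a, ha1, ha2⟩ := Groth.Agent.Lib.Helper12.exists_preimage_of_isPullback sq ξ c' hc'.symm
  have hsurj : Surjective m := by
    constructor
    intro q
    have hcl : IsClosed (Set.range m) := m.isClosedEmbedding.isClosed_range
    have hξq : ξ ⤳ q := genericPoint_specializes q
    exact hξq.mem_closed hcl ⟨a, ha1⟩
  exact isIso_of_isClosedImmersion_of_surjective m

open CategoryTheory.Limits in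


open CategoryTheory.Limits in
/-- Let Y₀ and Y be integral schemes, g : Y ⟶ Y₀ a dominant morphism, f₀ : X₀ ⟶ Y₀ a dominant morphism
whose fibre over the generic point of Y₀ is irreducible, and X'₀ an irreducible component of X₀
meeting that generic fibre (it is unique), regarded as a reduced closed subscheme of X₀. If X = X₀
×_{Y₀} Y is an integral scheme, then the morphism X'₀ ×_{Y₀} Y ⟶ X induced by the inclusion of X'₀
is an isomorphism. -/
theorem result {X₀ Y₀ Y : Scheme.{u}} [IsIntegral Y₀] [IsIntegral Y]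
    (g : Y ⟶ Y₀) [IsDominant g] (f₀ : X₀ ⟶ Y₀) [IsDominant f₀]
    (hirr : IsIrreducible (f₀.base ⁻¹' {genericPoint Y₀}))
    (C : TopologicalSpace.Closeds X₀) (hC : (C : Set X₀) ∈ irreducibleComponents (X₀ : Type u))
    (hCη : ((C : Set X₀) ∩ f₀.base ⁻¹' {genericPoint Y₀}).Nonempty) [IsIntegral (pullback f₀ g)]
    (e₁ : ((Scheme.IdealSheafData.vanishingIdeal C).subschemeι ≫ f₀) ≫ 𝟙 Y₀ =
      (Scheme.IdealSheafData.vanishingIdeal C).subschemeι ≫ f₀) (e₂ : g ≫ 𝟙 Y₀ = 𝟙 Y ≫ g) :
    IsIso (pullback.map ((Scheme.IdealSheafData.vanishingIdeal C).subschemeι ≫ f₀) g f₀ g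
      (Scheme.IdealSheafData.vanishingIdeal C).subschemeι (𝟙 Y) (𝟙 Y₀) e₁ e₂) := by
  exact main_aux g f₀ hirr C hC hCη e₁ e₂

end Groth.Agent.S4973
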