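import Groth.Statements.S4988
import Groth.Agent.Lib.Helper7Unram

set_option autoImplicit false
universe u
open CategoryTheory CategoryTheory.Limits AlgebraicGeometry TopologicalSpace
open Unram17

namespace Groth.Agent.S4988

/-- Let h : Y ⟶ S be formally unramified, locally of finite type and separated, let f, g : X ⟶ Y be
morphisms over S whose common composite X ⟶ S is both open and closed as a map of topological
spaces, and let s be a point of S. If f and g have the same restriction to the scheme-theoretic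
fibre of X over s, then there is an open and closed subset V of S containing s such that f and g
agree on the preimage of V; in particular f = g when S is connected. -/
theorem result {X Y S : Scheme.{u}} (h : Y ⟶ S)
    [FormallyUnramified h] [LocallyOfFiniteType h] [IsSeparated h]
    (f g : X ⟶ Y) (w : g ≫ h = f ≫ h)
    (ho : IsOpenMap (f ≫ h).base) (hc : IsClosedMap (f ≫ h).base) (s : ↥S)
    (hs : (f ≫ h).fiberι s ≫ f = (f ≫ h).fiberι s ≫ g) :
    ∃ V : S.Opens, IsClosed (V : Set ↥S) ∧ s ∈ V ∧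
      ((f ≫ h) ⁻¹ᵁ V).ι ≫ f = ((f ≫ h) ⁻¹ᵁ V).ι ≫ g := by
  obtain ⟨E, hE, hT, hEc⟩ := Groth.Agent.Lib.Helper7.exists_opens_eq_of_formallyUnramified h f g w
  have hEcl : IsClosed (E : Set X) := hEc inferInstance
  have hfib : (f ≫ h).base ⁻¹' {s} ⊆ (E : Set X) := by
    rw [← Scheme.Hom.range_fiberι]
    exact hT _ _ hs
  have hcl : IsClosed ((f ≫ h).base '' (E : Set X)ᶜ) := hc _ E.2.isClosed_compl
  have hop : IsOpen ((f ≫ h).base '' (E : Set X)ᶜ) := ho _ hEcl.isOpen_compl
  have hs' : s ∉ (f ≫ h).base '' (E : Set X)ᶜ := by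
    rintro ⟨x, hx, hxs⟩
    exact hx (hfib hxs)
  refine ⟨⟨((f ≫ h).base '' (E : Set X)ᶜ)ᶜ, hcl.isOpen_compl⟩, hop.isClosed_compl, hs', ?_⟩
  have hle : (f ≫ h) ⁻¹ᵁ (⟨((f ≫ h).base '' (E : Set X)ᶜ)ᶜ, hcl.isOpen_compl⟩ : S.Opens) ≤ E := by
    intro x hx
    by_contra hxE
    exact hx ⟨x, hxE, rfl⟩
  rw [← X.homOfLE_ι hle, Category.assoc, Category.assoc, hE]

end Groth.Agent.S4988
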