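import Groth.Statements.S4989
import Groth.Agent.Lib.Helper7SmLoc

set_option autoImplicit false
universe u
open CategoryTheory CategoryTheory.Limits AlgebraicGeometry TopologicalSpace
open Unram17

namespace Groth.Agent.S4989

/-- Let f : X ⟶ Y be locally of finite presentation and smooth at a point x with image y. Then the local
ring of X at x is reduced if and only if the local ring of Y at y is reduced, and it is an
integrally closed domain if and only if the local ring of Y at y is one. (The published statement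
also covers geometrically unibranch local rings; this row states only the reduced and the integrally
closed cases.) -/
theorem result {X Y : Scheme.{u}} (f : X ⟶ Y)
    [LocallyOfFinitePresentation f] (x : ↥X) (hx : x ∈ f.smoothLocus) :
    (IsReduced ↑(X.presheaf.stalk x) ↔ IsReduced ↑(Y.presheaf.stalk (f.base x))) ∧
    ((IsDomain ↑(X.presheaf.stalk x) ∧ IsIntegrallyClosed ↑(X.presheaf.stalk x)) ↔
      (IsDomain ↑(Y.presheaf.stalk (f.base x)) ∧ IsIntegrallyClosed ↑(Y.presheaf.stalk (f.base x)))) := by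
  obtain ⟨U, hU, V, hV, hVU, hxV, H⟩ := exists_smooth_of_formallySmooth_stalk f x hx
  algebraize [(f.appLE U V hVU).hom]
  haveI : Algebra.Smooth Γ(Y, U) Γ(X, V) := H
  haveI hpP := (hU.primeIdealOf ⟨f x, hVU hxV⟩).2
  haveI hqP := (hV.primeIdealOf ⟨x, hxV⟩).2
  have hqp : (hV.primeIdealOf ⟨x, hxV⟩).asIdeal.comap (algebraMap Γ(Y, U) Γ(X, V)) =
      (hU.primeIdealOf ⟨f x, hVU hxV⟩).asIdeal :=
    congr($(IsAffineOpen.comap_primeIdealOf_appLE U hU V hV hVU hxV).1)
  haveI : (hV.primeIdealOf ⟨x, hxV⟩).asIdeal.LiesOver (hU.primeIdealOf ⟨f x, hVU hxV⟩).asIdeal :=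
    ⟨hqp.symm⟩
  letI := TopCat.Presheaf.algebra_section_stalk X.presheaf ⟨x, hxV⟩
  haveI := hV.isLocalization_stalk ⟨x, hxV⟩
  letI := TopCat.Presheaf.algebra_section_stalk Y.presheaf ⟨f x, hVU hxV⟩
  haveI := hU.isLocalization_stalk ⟨f x, hVU hxV⟩
  let eX : X.presheaf.stalk x ≃ₐ[Γ(X, V)] Localization.AtPrime (hV.primeIdealOf ⟨x, hxV⟩).asIdeal :=
    IsLocalization.algEquiv (hV.primeIdealOf ⟨x, hxV⟩).asIdeal.primeCompl _ _
  let eY : Y.presheaf.stalk (f x) ≃ₐ[Γ(Y, U)]
      Localization.AtPrime (hU.primeIdealOf ⟨f x, hVU hxV⟩).asIdeal :=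
    IsLocalization.algEquiv (hU.primeIdealOf ⟨f x, hVU hxV⟩).asIdeal.primeCompl _ _
  have hasc := Groth.Agent.Lib.Helper7.SmLoc.ascent Γ(Y, U) Γ(X, V)
    (hU.primeIdealOf ⟨f x, hVU hxV⟩).asIdeal (hV.primeIdealOf ⟨x, hxV⟩).asIdeal hqp
  have hdesc := Groth.Agent.Lib.Helper7.SmLoc.descent Γ(Y, U) Γ(X, V)
    (hU.primeIdealOf ⟨f x, hVU hxV⟩).asIdeal (hV.primeIdealOf ⟨x, hxV⟩).asIdeal
  refine ⟨⟨fun h => ?_, fun h => ?_⟩, ⟨fun h => ?_, fun h => ?_⟩⟩
  · haveI : IsReduced (Localization.AtPrime (hV.primeIdealOf ⟨x, hxV⟩).asIdeal) :=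
      isReduced_of_injective eX.symm.toRingEquiv.toRingHom eX.symm.injective
    haveI := hdesc.1 inferInstance
    exact isReduced_of_injective eY.toRingEquiv.toRingHom eY.injective
  · haveI : IsReduced (Localization.AtPrime (hU.primeIdealOf ⟨f x, hVU hxV⟩).asIdeal) :=
      isReduced_of_injective eY.symm.toRingEquiv.toRingHom eY.symm.injective
    haveI := hasc.1 inferInstance
    exact isReduced_of_injective eX.toRingEquiv.toRingHom eX.injective
  · have h1 := Groth.Agent.Lib.Helper6.EtNormal.normal_of_ringEquiv eX.symm.toRingEquiv h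
    exact Groth.Agent.Lib.Helper6.EtNormal.normal_of_ringEquiv eY.toRingEquiv (hdesc.2 h1)
  · have h1 := Groth.Agent.Lib.Helper6.EtNormal.normal_of_ringEquiv eY.symm.toRingEquiv h
    exact Groth.Agent.Lib.Helper6.EtNormal.normal_of_ringEquiv eX.toRingEquiv (hasc.2 h1)


end Groth.Agent.S4989
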