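import Groth.Statements.S4998
import Mathlib.RingTheory.Etale.Field
import Mathlib.RingTheory.Unramified.Finite

set_option autoImplicit false
universe u
open Unram17

namespace Groth.Agent.S4998

/-- Let A be an algebra of finite type over a field k. Then A is formally unramified over k if and only
if A is finite over k and every element of A has separable minimal polynomial over k (equivalently,
A is a finite product of finite separable extensions of k). -/
theorem result (k A : Type u) [Field k] [CommRing A]
    [Algebra k A] [Algebra.FiniteType k A] :
    Algebra.FormallyUnramified k A ↔ Module.Finite k A ∧ Algebra.IsSeparable k A := by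
  classical
  constructor
  · intro hA
    have hfin : Module.Finite k A := Algebra.FormallyUnramified.finite_of_free k A
    refine ⟨hfin, ?_⟩
    have hEt : Algebra.FormallyEtale k A :=
      Algebra.FormallyEtale.of_formallyUnramified_of_field k A
    obtain ⟨I, hI, Ai, hF, hAlg, e, hsep⟩ :=
      (Algebra.FormallyEtale.iff_exists_algEquiv_prod k A).mp hEt
    have := Fintype.ofFinite I
    constructor
    intro x
    change (minpoly k x).Separable
    rw [← minpoly.algEquiv_eq e x]
    set y := e x with hy
    have hint : ∀ i, IsIntegral k (y i) := fun i =>
      (Algebra.IsSeparable.isSeparable k (y i)).isIntegral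
    have hPsep : (∏ q ∈ Finset.univ.image (fun i => minpoly k (y i)), q).Separable := by
      apply Polynomial.separable_prod'
      · intro q1 hq1 q2 hq2 hne
        obtain ⟨i, -, rfl⟩ := Finset.mem_image.mp hq1
        obtain ⟨j, -, rfl⟩ := Finset.mem_image.mp hq2
        have irr_i := minpoly.irreducible (hint i)
        have irr_j := minpoly.irreducible (hint j)
        refine (irr_i.coprime_iff_not_dvd).mpr ?_
        intro hdvd
        exact hne (Polynomial.eq_of_monic_of_associated (minpoly.monic (hint i))
          (minpoly.monic (hint j)) (irr_i.associated_of_dvd irr_j hdvd))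
      · intro q hq
        obtain ⟨i, -, rfl⟩ := Finset.mem_image.mp hq
        exact Algebra.IsSeparable.isSeparable k (y i)
    have hPy : Polynomial.aeval y (∏ q ∈ Finset.univ.image (fun i => minpoly k (y i)), q) = 0 := by
      ext i
      have h1 := Polynomial.aeval_algHom_apply (Pi.evalAlgHom k Ai i) y
        (∏ q ∈ Finset.univ.image (fun i => minpoly k (y i)), q)
      have h2 : (Polynomial.aeval y (∏ q ∈ Finset.univ.image (fun i => minpoly k (y i)), q)) i =
          Polynomial.aeval (y i) (∏ q ∈ Finset.univ.image (fun i => minpoly k (y i)), q) :=
        h1.symm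
      rw [h2, Pi.zero_apply]
      have hd : minpoly k (y i) ∣ ∏ q ∈ Finset.univ.image (fun i => minpoly k (y i)), q :=
        Finset.dvd_prod_of_mem _ (Finset.mem_image_of_mem _ (Finset.mem_univ i))
      obtain ⟨c, hc⟩ := hd
      rw [hc, map_mul, minpoly.aeval, zero_mul]
    exact hPsep.of_dvd (minpoly.dvd k y hPy)
  · rintro ⟨hfin, hsep⟩
    refine ⟨?_⟩
    have hD : ∀ x : A, KaehlerDifferential.D k A x = 0 := by
      intro x
      have hs : (minpoly k x).Separable := Algebra.IsSeparable.isSeparable k x
      obtain ⟨a, b, hab⟩ := hs
      have h1 := congrArg (Polynomial.aeval x) hab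
      rw [map_add, map_mul, map_mul, minpoly.aeval, mul_zero, zero_add, map_one] at h1
      have h2 : KaehlerDifferential.D k A (Polynomial.aeval x (minpoly k x)) = 0 := by
        rw [minpoly.aeval, map_zero]
      rw [Derivation.map_aeval] at h2
      have h3 := congrArg (fun m => Polynomial.aeval x b • m) h2
      simp only [smul_zero, smul_smul] at h3
      rw [h1, one_smul] at h3
      exact h3
    have htop : (⊤ : Submodule A (Ω[A⁄k])) = ⊥ := by
      rw [← KaehlerDifferential.span_range_derivation, Submodule.span_eq_bot]
      rintro _ ⟨x, rfl⟩
      exact hD x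
    exact (Submodule.subsingleton_iff A).mp (subsingleton_of_bot_eq_top htop.symm)

end Groth.Agent.S4998
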