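import Groth.Statements.S5004
import Groth.Agent.Lib.Helper5NoethQuasi

set_option autoImplicit false
universe u
open CategoryTheory CategoryTheory.Limits AlgebraicGeometry TopologicalSpace
open Nrm16

namespace Groth.Agent.S5004

/-- On a locally Noetherian scheme, every quasi-regular (quasi-coherent) ideal sheaf is a regular ideal
sheaf. -/
theorem result {X : Scheme.{u}} [IsLocallyNoetherian X] (I : X.IdealSheafData)
    (h : RegImm.IsRegularIdeal RegImm.Kind.quasi I) : RegImm.IsRegularIdeal RegImm.Kind.regular I := by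
  intro x hx
  have hx' : x ∈ Set.range I.subschemeι := by
    rw [I.range_subschemeι]
    exact hx
  obtain ⟨z, rfl⟩ := hx'
  obtain ⟨U, hxU, rs, hseq, hI⟩ := h _ hx
  have hq : RegImm.IsRegularImmersionAt .quasi I.subschemeι z :=
    ⟨U, hxU, IsZariskiLocalAtTarget.restrict (P := @IsClosedImmersion) inferInstance _, rs, hseq, by
      rw [← Scheme.Hom.ker_apply, I.ker_subschemeι]
      exact hI⟩
  obtain ⟨U', hxU', _, rs', hseq', hker'⟩ :=
    Groth.Agent.Lib.Helper5.NoethQuasi.isRegularImmersionAt_regular_of_quasi I.subschemeι z hq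
  exact ⟨U', hxU', rs', hseq', by rw [← hker', ← Scheme.Hom.ker_apply, I.ker_subschemeι]⟩

end Groth.Agent.S5004
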