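import Groth.Statements.S5006
import Mathlib.RingTheory.Nakayama

set_option autoImplicit false
universe u
open Nrm16

namespace Groth.Agent.S5006

/-- Let A be a commutative ring, I a finitely generated ideal and p a prime ideal containing I. Then
some basic open neighbourhood of p in Spec A is contained in the closed set V(I) (so that V(I) ⟶
Spec A is a local homeomorphism onto an open set near p) if and only if there is an integer n > 0
with I^n A_p = I^(n+1) A_p in the local ring at p. Affine form. -/
theorem result (A : Type u) [CommRing A] (I : Ideal A) (hI : I.FG)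
    (p : Ideal A) [p.IsPrime] (hp : I ≤ p) :
    (∃ f : A, f ∉ p ∧ ∀ q : Ideal A, q.IsPrime → f ∉ q → I ≤ q) ↔
      ∃ n : ℕ, 0 < n ∧
        (I ^ n).map (algebraMap A (Localization.AtPrime p)) =
          (I ^ (n + 1)).map (algebraMap A (Localization.AtPrime p)) := by
  classical
  constructor
  · rintro ⟨f, hfp, hf⟩
    -- the image of I in A_p lies in the nilradical
    have hrad : I.map (algebraMap A (Localization.AtPrime p)) ≤
        (⊥ : Ideal (Localization.AtPrime p)).radical := by
      rw [Ideal.radical_eq_sInf, le_sInf_iff]
      rintro Q ⟨-, hQ⟩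
      rw [Ideal.map_le_iff_le_comap]
      have hqp : Q.comap (algebraMap A (Localization.AtPrime p)) ≤ p := by
        have h1 : Q ≤ IsLocalRing.maximalIdeal (Localization.AtPrime p) :=
          IsLocalRing.le_maximalIdeal hQ.ne_top
        have h2 := Ideal.comap_mono (f := algebraMap A (Localization.AtPrime p)) h1
        rwa [show (IsLocalRing.maximalIdeal (Localization.AtPrime p)).comap
          (algebraMap A (Localization.AtPrime p)) = p from
          Localization.AtPrime.under_maximalIdeal] at h2
      exact hf _ (Ideal.comap_isPrime _ Q) (fun hfq => hfp (hqp hfq))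
    obtain ⟨n, hn⟩ := Ideal.exists_pow_le_of_le_radical_of_fg hrad (hI.map _)
    refine ⟨n + 1, Nat.succ_pos n, ?_⟩
    have h1 : (I ^ (n + 1)).map (algebraMap A (Localization.AtPrime p)) = ⊥ := by
      rw [eq_bot_iff, Ideal.map_pow, pow_succ]
      exact Ideal.mul_le_left.trans hn
    have h2 : (I ^ (n + 1 + 1)).map (algebraMap A (Localization.AtPrime p)) = ⊥ := by
      rw [eq_bot_iff, pow_succ, Ideal.map_mul, h1]
      exact Ideal.mul_le_left
    rw [h1, h2]
  · rintro ⟨n, hn0, hn⟩
    set N : Ideal (Localization.AtPrime p) := (I ^ n).map (algebraMap A (Localization.AtPrime p))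
      with hN
    have hNfg : N.FG := (hI.pow (n := n)).map _
    have hle : N ≤ I.map (algebraMap A (Localization.AtPrime p)) • N := by
      rw [smul_eq_mul, hN, ← Ideal.map_mul, ← pow_succ', ← hn]
    have hjac : I.map (algebraMap A (Localization.AtPrime p)) ≤
        Ideal.jacobson (⊥ : Ideal (Localization.AtPrime p)) := by
      refine le_trans ?_ (IsLocalRing.maximalIdeal_le_jacobson ⊥)
      rw [Ideal.map_le_iff_le_comap]
      rw [show (IsLocalRing.maximalIdeal (Localization.AtPrime p)).comap
          (algebraMap A (Localization.AtPrime p)) = p from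
          Localization.AtPrime.under_maximalIdeal]
      exact hp
    have hN0 : N = ⊥ :=
      Submodule.eq_bot_of_le_smul_of_le_jacobson_bot _ N hNfg hle hjac
    -- every element of I^n is killed by some element outside p
    have hkill : ∀ a ∈ I ^ n, ∃ s : A, s ∉ p ∧ s * a = 0 := by
      intro a ha
      have h0 : algebraMap A (Localization.AtPrime p) a = 0 := by
        have : algebraMap A (Localization.AtPrime p) a ∈ N := Ideal.mem_map_of_mem _ ha
        rw [hN0] at this
        exact this
      obtain ⟨s, hs⟩ := (IsLocalization.map_eq_zero_iff p.primeCompl _ a).mp h0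
      exact ⟨s.1, s.2, hs⟩
    obtain ⟨S, hS⟩ := (hI.pow (n := n))
    have hSmem : ∀ a ∈ S, a ∈ I ^ n := fun a ha => hS ▸ Ideal.subset_span ha
    choose! s hsp hsa using hkill
    refine ⟨∏ a ∈ S, s a, ?_, ?_⟩
    · intro hmem
      obtain ⟨a, haS, ha⟩ := (Ideal.IsPrime.prod_mem_iff (p := p)).mp hmem
      exact hsp a (hSmem a haS) ha
    · intro q hq hfq
      have hall : ∀ x ∈ I ^ n, (∏ a ∈ S, s a) * x = 0 := by
        intro x hx
        rw [← hS] at hx
        induction hx using Submodule.span_induction with
        | mem a ha =>
          obtain ⟨c, hc⟩ := Finset.dvd_prod_of_mem s ha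
          rw [hc, mul_right_comm, hsa a (hSmem a ha), zero_mul]
        | zero => exact mul_zero _
        | add x y _ _ hx hy => rw [mul_add, hx, hy, add_zero]
        | smul r x _ hx => rw [smul_eq_mul, mul_left_comm, hx, mul_zero]
      have hIn : I ^ n ≤ q := by
        intro x hx
        have : (∏ a ∈ S, s a) * x ∈ q := by rw [hall x hx]; exact q.zero_mem
        exact (hq.mem_or_mem this).resolve_left hfq
      exact hq.le_of_pow_le hIn

end Groth.Agent.S5006
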