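import Groth.Statements.S5007
import Groth.Agent.Lib.Helper3FibUnr
import Mathlib

set_option autoImplicit false
universe u
open CategoryTheory CategoryTheory.Limits AlgebraicGeometry TopologicalSpace
open Unram17

namespace Groth.Agent.S5007

/-- Let g : Y ⟶ S and h : X ⟶ S be locally of finite presentation and f : X ⟶ Y a morphism over S. Then
f is (formally) unramified if and only if for every point s of S the base change of f along the
fibre Y_s ⟶ Y, which is the fibre map X_s ⟶ Y_s, is (formally) unramified. -/
theorem result {X Y S : Scheme.{u}} (g : Y ⟶ S) (h : X ⟶ S)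
    [LocallyOfFinitePresentation g] [LocallyOfFinitePresentation h] (f : X ⟶ Y) (w : f ≫ g = h) :
    FormallyUnramified f ↔ ∀ s : ↥S, FormallyUnramified (pullback.snd f (g.fiberι s)) := by
  subst w
  constructor
  · intro hf s
    exact MorphismProperty.pullback_snd (P := @FormallyUnramified) f (g.fiberι s) hf
  · intro H
    haveI : LocallyOfFiniteType f := locallyOfFiniteType_of_comp f g
    refine HasRingHomProperty.of_stalkMap RingHom.FormallyUnramified.ofLocalizationPrime
      (fun x => ?_)
    have hFM : FormallyUnramified (CohIII.fiberMapOver f (f ≫ g) g rfl ((f ≫ g) x)) := by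
      have hsq := Groth.Agent.Lib.Helper20.FlatDesc.isPullback_fiberMapOver f g ((f ≫ g) x)
      rw [← hsq.isoPullback_hom_snd]
      exact (MorphismProperty.cancel_left_of_respectsIso (P := @FormallyUnramified)
        hsq.isoPullback.hom _).mpr (H ((f ≫ g) x))
    refine Groth.Agent.Lib.Helper3.FibUnr.formallyUnramified_stalkMap_of_fibre f g x _ rfl
      ⊤ trivial ?_
    exact IsZariskiLocalAtSource.comp hFM _

end Groth.Agent.S5007
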