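import Groth.Statements.S5028
import Groth.Agent.Lib.Helper3SmUO
import Mathlib

set_option autoImplicit false
set_option linter.style.haveILetI false
universe u
open CategoryTheory CategoryTheory.Limits AlgebraicGeometry TopologicalSpace
open Unram17

namespace Groth.Agent.S5028

open Groth.Agent.Lib.Helper3.SmUO in
set_option maxHeartbeats 1000000 in

/-- Let Y be locally Noetherian, f : X ⟶ Y locally of finite type, x a point of X with image y, and
suppose the local ring of Y at y is reduced. Then f is smooth on an open neighbourhood of x if and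
only if f is universally open at every point of some neighbourhood of x in the fibre over y (that
is, for the points x' of some open neighbourhood of x in X lying over y, every base change of f is
open at each point lying over x') and the local ring of the fibre at x (the quotient of the local
ring of X at x by the extension of the maximal ideal at y) is geometrically regular over the residue
field κ(y). -/
theorem result {X Y : Scheme.{u}} (f : X ⟶ Y)
    [IsLocallyNoetherian Y] [LocallyOfFiniteType f] (x : ↥X)
    (hred : IsReduced ↑(Y.presheaf.stalk (f.base x))) :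
    letI φ := (f.stalkMap x).hom
    letI 𝔪 := IsLocalRing.maximalIdeal ↑(Y.presheaf.stalk (f.base x))
    letI : Algebra (IsLocalRing.ResidueField ↑(Y.presheaf.stalk (f.base x))) (↑(X.presheaf.stalk x) ⧸ 𝔪.map φ) :=
      (Ideal.quotientMap (𝔪.map φ) φ Ideal.le_comap_map).toAlgebra
    (∃ U : X.Opens, x ∈ U ∧ Smooth (U.ι ≫ f)) ↔
      (∃ W : X.Opens, x ∈ W ∧ ∀ x' ∈ W, f.base x' = f.base x → EGA43.IsUnivOpenAt f x') ∧
        CAlg.IsGeometricallyRegular (IsLocalRing.ResidueField ↑(Y.presheaf.stalk (f.base x)))
          (↑(X.presheaf.stalk x) ⧸ 𝔪.map φ) := by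
  haveI lfp : LocallyOfFinitePresentation f :=
    LocallyOfFinitePresentation.iff_locallyOfFiniteType.mpr inferInstance
  letI := fibOver f (f x)
  letI := algQ f x
  letI := Curv2.stalkAlgebra (Y.residueField (f x)) (f.fiber (f x)) (f.asFiber x)
  haveI : LocallyOfFiniteType (f.fiberToSpecResidueField (f x)) :=
    MorphismProperty.pullback_snd _ _ inferInstance
  haveI : LocallyOfFiniteType ((f.fiber (f x)) ↘ Spec (CommRingCat.of (Y.residueField (f x)))) :=
    ‹LocallyOfFiniteType (f.fiberToSpecResidueField (f x))›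
  obtain ⟨e⟩ := nonempty_stalk_asFiber_algEquiv f x
  have hGR : CAlg.IsGeometricallyRegular (Y.residueField (f x))
      (X.presheaf.stalk x ⧸ (IsLocalRing.maximalIdeal (Y.presheaf.stalk (f x))).map
        (f.stalkMap x).hom) ↔
      CAlg.IsGeometricallyRegular (Y.residueField (f x))
        ((f.fiber (f x)).presheaf.stalk (f.asFiber x)) :=
    ⟨Groth.Agent.Lib.Helper6.HomBC.geomRegular_of_algEquiv e.symm,
      Groth.Agent.Lib.Helper6.HomBC.geomRegular_of_algEquiv e⟩
  have hFS : CAlg.IsGeometricallyRegular (Y.residueField (f x))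
        ((f.fiber (f x)).presheaf.stalk (f.asFiber x)) ↔
      ((f.fiberToSpecResidueField (f x)).stalkMap (f.asFiber x)).hom.FormallySmooth :=
    (geomRegular_stalk_iff_formallySmooth (f.asFiber x)).trans
      (formallySmooth_stalkMap_iff_algebra (f.asFiber x)).symm
  have hx : pullback.fst f (Y.fromSpecResidueField (f x)) (f.asFiber x) = x :=
    f.fiberι_asFiber x
  show _ ↔ _ ∧ CAlg.IsGeometricallyRegular (Y.residueField (f x))
      (X.presheaf.stalk x ⧸ (IsLocalRing.maximalIdeal (Y.presheaf.stalk (f x))).map
        (f.stalkMap x).hom)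
  constructor
  · rintro ⟨U, hxU, hU⟩
    refine ⟨⟨U, hxU, fun x' hx' _ => ?_⟩, ?_⟩
    · have h1 : EGA43.IsUnivOpenAt (U.ι ≫ f) ⟨x', hx'⟩ := by
        intro Y' g p _
        exact Groth.Agent.Lib.Helper7.isOpenAt_of_isOpenMap (pullback.snd (U.ι ≫ f) g).isOpenMap p
      exact Groth.Agent.S4926.result U.ι f ⟨x', hx'⟩ h1
    · have h1 : (f.stalkMap x).hom.FormallySmooth :=
        (Groth.Agent.Lib.Helper19.SmoothNhd.exists_smooth_nhd_iff f x).mp ⟨U, hxU, hU⟩
      have h2 := formallySmooth_stalkMap_congr_pt f hx.symm h1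
      have h3 := Groth.Agent.Lib.Helper5.FibSmConstr.formallySmooth_stalkMap_pullback_snd f
        (Y.fromSpecResidueField (f x)) (f.asFiber x) h2
      exact hGR.mpr (hFS.mpr h3)
  · rintro ⟨⟨W, hxW, hW⟩, hreg⟩
    have h1 := hGR.mp hreg
    have h2 := hFS.mp h1
    have hgr : FBase.IsGeomReducedAt (f.fiberToSpecResidueField (f x)) (f.asFiber x) :=
      isGeomReducedAt_of_geomRegular _ _ h1
    have hflat : (f.stalkMap x).hom.Flat := by
      refine Groth.Agent.Lib.Helper22.VC.flat_stalkMap_of_isUnivOpenAt_of_geomReducedAt f x ?_ hgr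
        hred
      intro z₀ hz₀ _
      have hsp : z₀ ⤳ f.asFiber x := specializes_iff_mem_closure.mpr hz₀
      have hsp' : (f.fiberι (f x)) z₀ ⤳ x := by
        have := hsp.map (f.fiberι (f x)).continuous
        rwa [f.fiberι_asFiber x] at this
      have hmem : (f.fiberι (f x)) z₀ ∈ W := hsp'.mem_open W.2 hxW
      have hfz : f ((f.fiberι (f x)) z₀) = f x := by
        have : (f.fiberι (f x)) z₀ ∈ Set.range (f.fiberι (f x)) := ⟨z₀, rfl⟩
        rw [Scheme.Hom.range_fiberι] at this
        exact this
      exact hW _ hmem hfz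
    have h3 := Groth.Agent.Lib.Helper20.FlatDesc.formallySmooth_stalkMap_of_flat_of_field_fibre f
      (Y.residueField (f x)) (Field.toIsField _) (Y.fromSpecResidueField (f x)) (f.asFiber x) h2
      (flat_stalkMap_congr_pt f hx.symm hflat)
    exact (Groth.Agent.Lib.Helper19.SmoothNhd.exists_smooth_nhd_iff f x).mpr
      (formallySmooth_stalkMap_congr_pt f hx h3)

end Groth.Agent.S5028
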