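import Groth.Statements.S5013
import Groth.Agent.S5028
import Groth.Agent.S2595
import Groth.Agent.Lib.Helper3SmUO
import Groth.Agent.Lib.Helper6UniD
import Groth.Agent.Lib.Helper6UniG
import Groth.Agent.Lib.Helper5RLR3
import Groth.Agent.Lib.Helper28PolyCM
import Groth.Agent.Lib.Helper3EtGUSchE
import Mathlib

set_option autoImplicit false
set_option linter.style.haveILetI false
universe u
open CategoryTheory CategoryTheory.Limits AlgebraicGeometry TopologicalSpace
open Unram17

namespace Groth.Agent.S5013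

open Groth.Agent.Lib.Helper3.SmUO in
set_option maxHeartbeats 1000000 in
/-- Let Y be locally Noetherian, f : X ⟶ Y locally of finite type, x a point of X with image y, and
suppose the local ring of Y at y is reduced and geometrically unibranch. Then f is smooth on an open
neighbourhood of x if and only if f is equidimensional at x and the local ring of the fibre at x
(the quotient of the local ring of X at x by the extension of the maximal ideal at y) is
geometrically regular over the residue field κ(y). -/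
theorem result {X Y : Scheme.{u}} (f : X ⟶ Y)
    [IsLocallyNoetherian Y] [LocallyOfFiniteType f] (x : ↥X)
    (hred : IsReduced ↑(Y.presheaf.stalk (f.base x)))
    (hgu : CAlg2.IsGeomUnibranch ↑(Y.presheaf.stalk (f.base x))) :
    letI φ := (f.stalkMap x).hom
    letI 𝔪 := IsLocalRing.maximalIdeal ↑(Y.presheaf.stalk (f.base x))
    letI : Algebra (IsLocalRing.ResidueField ↑(Y.presheaf.stalk (f.base x))) (↑(X.presheaf.stalk x) ⧸ 𝔪.map φ) :=
      (Ideal.quotientMap (𝔪.map φ) φ Ideal.le_comap_map).toAlgebra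
    (∃ U : X.Opens, x ∈ U ∧ Smooth (U.ι ≫ f)) ↔
      EGA43.IsEquidimAt f x ∧
        CAlg.IsGeometricallyRegular (IsLocalRing.ResidueField ↑(Y.presheaf.stalk (f.base x)))
          (↑(X.presheaf.stalk x) ⧸ 𝔪.map φ) := by
  have key := Groth.Agent.S5028.result f x hred
  letI := fibOver f (f x)
  letI := algQ f x
  letI := Curv2.stalkAlgebra (Y.residueField (f x)) (f.fiber (f x)) (f.asFiber x)
  obtain ⟨e⟩ := nonempty_stalk_asFiber_algEquiv f x
  show _ ↔ _ ∧ CAlg.IsGeometricallyRegular (Y.residueField (f x))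
      (X.presheaf.stalk x ⧸ (IsLocalRing.maximalIdeal (Y.presheaf.stalk (f x))).map
        (f.stalkMap x).hom)
  have key' : (∃ U : X.Opens, x ∈ U ∧ Smooth (U.ι ≫ f)) ↔
      (∃ W : X.Opens, x ∈ W ∧ ∀ x' ∈ W, f.base x' = f.base x → EGA43.IsUnivOpenAt f x') ∧
        CAlg.IsGeometricallyRegular (Y.residueField (f x))
          (X.presheaf.stalk x ⧸ (IsLocalRing.maximalIdeal (Y.presheaf.stalk (f x))).map
            (f.stalkMap x).hom) := key
  constructor
  · intro hsm
    obtain ⟨-, hreg⟩ := key'.mp hsm
    refine ⟨?_, hreg⟩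
    have hflat : (f.stalkMap x).hom.Flat := by
      obtain ⟨U, hxU, hU⟩ := hsm
      exact Groth.Agent.Lib.Helper3.EtGUSch.flat_stalkMap_of_flat_nhd f x ⟨U, hxU, inferInstance⟩
    refine Groth.Agent.S2595.result f x hflat ?_
    have h1 : CAlg.IsGeometricallyRegular (Y.residueField (f x))
        ((f.fiber (f x)).presheaf.stalk (f.asFiber x)) :=
      Groth.Agent.Lib.Helper6.HomBC.geomRegular_of_algEquiv e.symm hreg
    have h2 := h1 (Y.residueField (f x)) (Module.Finite.self _)
    haveI : IsRegularRing ((f.fiber (f x)).presheaf.stalk (f.asFiber x)) :=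
      IsRegularRing.of_ringEquiv
        (Algebra.TensorProduct.lid (Y.residueField (f x))
          ((f.fiber (f x)).presheaf.stalk (f.asFiber x))).toRingEquiv
    haveI : IsRegularLocalRing ((f.fiber (f x)).presheaf.stalk (f.asFiber x)) :=
      IsRegularLocalRing.of_isRegularRing_of_isLocalRing _
    exact Groth.Agent.Lib.Helper5.isCohenMacaulayLocalRing_of_isRegularLocalRing _
  · rintro ⟨heq, hreg⟩
    refine key'.mpr ⟨?_, hreg⟩
    obtain ⟨d, U, hxU, h1, h2⟩ := heq
    refine ⟨U, hxU, fun x' hx' hfx' => ?_⟩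
    have heq' : EGA43.IsEquidimAt f x' := by
      refine ⟨d, U, hx', ?_, h2⟩
      intro Z hZ
      obtain ⟨W, hW, hyW, hcl⟩ := h1 Z hZ
      exact ⟨W, hW, hfx' ▸ hyW, hcl⟩
    exact Groth.Agent.Lib.Helper6.Uni.isUnivOpenAt_of_isEquidimAt f x' heq'
      (Groth.Agent.Lib.Helper6.Uni.isGeomUnibranch_stalk_congr _ _ hfx'.symm hgu)

end Groth.Agent.S5013
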