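import Groth.Statements.S5029
import Groth.Agent.Lib.Helper13SymAlgLocal
import Groth.Agent.Lib.Helper13RelSpecLocal
import Groth.Agent.Lib.Helper18FinFlat3
-- import your own Groth.Agent.* helpers here

set_option autoImplicit false
universe u
open CategoryTheory CategoryTheory.Limits AlgebraicGeometry TopologicalSpace
open Unram17

namespace Groth.Agent.S5029

open Opposite TopologicalSpace
open Groth.Agent.Helper13SymAlg Groth.Agent.Helper13SymLoc Groth.Agent.Helper13SpecQMap

variable {S : Scheme.{u}} (E : S.Modules) [E.IsQuasicoherent] (A : RelSpec.QCAlg S)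
  (j : E ⟶ A.toModule) (hA : RelSpec.IsSymAlg E A j)

include hA in
theorem smooth_str {W : S.Opens} (hW : IsAffineOpen W) {n : ℕ}
    (b : Module.Basis (Fin n) Γ(S, W) Γ(E, W)) : RingHom.Smooth (A.str.app (op W)).hom := by
  letI := (A.str.app (op W)).hom.toAlgebra
  have hb := bijective_σ E W hW hA
  let e : SymmetricAlgebra Γ(S, W) Γ(E, W) ≃ₐ[Γ(S, W)] A.presheaf.obj (op W) :=
    AlgEquiv.ofBijective
      { toRingHom := σ E A j W
        commutes' := fun r => by
          change σ E A j W (algebraMap _ _ r) = (A.str.app (op W)).hom r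
          unfold σ
          rw [symLift_algebraMap] } hb
  haveI : Algebra.Smooth Γ(S, W) (MvPolynomial (Fin n) Γ(S, W)) := {}
  haveI : Algebra.Smooth Γ(S, W) (SymmetricAlgebra Γ(S, W) Γ(E, W)) :=
    Algebra.Smooth.of_equiv (SymmetricAlgebra.equivMvPolynomial b).symm
  exact Algebra.Smooth.of_equiv e


/-- Let S be a scheme and E a quasi-coherent O_S-module that is finite locally free. If A is a
quasi-coherent O_S-algebra which is the symmetric algebra of E (through j : E ⟶ A), then the
structure morphism of the relative spectrum of A, i.e. of the vector bundle V(E), is smooth. -/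
theorem result {S : Scheme.{u}} (E : S.Modules) (hE : Coh.IsQCoh E)
    (hlf : FlatMod.IsFinLocFree E) (A : RelSpec.QCAlg S) (j : E ⟶ A.toModule) (hA : RelSpec.IsSymAlg E A j) :
    Smooth A.π := by
  haveI : E.IsQuasicoherent := hE
  let 𝒰 : A.spec.OpenCover := Scheme.Cover.mkOfCovers
    {W : S.Opens // IsAffineOpen W ∧ ∃ n : ℕ, Nonempty (Module.Basis (Fin n) Γ(S, W) Γ(E, W))}
    (fun W => Spec (A.presheaf.obj (op W.1))) (fun W => A.ι W.1 W.2.1)
    (fun x => by
      obtain ⟨U, n, hyU, ⟨e⟩⟩ := hlf (A.π.base x)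
      obtain ⟨W, hW, hyW, hb⟩ := Groth.Agent.Helper18FinFlat.exists_affine_basis_of_restrict_iso_freeMod'
        E U.ι e ⟨A.π.base x, hyU⟩
      exact ⟨⟨W, hW, n, hb⟩, (mem_range_ι_iff A hW x).mpr hyW⟩)
    (fun W => inferInstance)
  rw [IsZariskiLocalAtSource.iff_of_openCover (P := @Smooth) 𝒰]
  rintro ⟨W, hW, n, ⟨b⟩⟩
  change Smooth (A.ι W hW ≫ A.π)
  rw [A.ι_π]
  haveI : Smooth (Spec.map (A.str.app (op W))) :=
    (HasRingHomProperty.Spec_iff (P := @Smooth)).mpr (smooth_str E A j hA hW b)
  infer_instance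


end Groth.Agent.S5029
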