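import Groth.Statements.S5033
import Mathlib
import Groth.Agent.Lib.Helper5RLR

set_option autoImplicit false
universe u
open CInt

namespace Groth.Agent.S5033

open Groth.Agent.Lib.Helper5

/-- Let A be a Noetherian local ring and J an ideal such that A/J is a regular local ring. Then A is a
regular local ring if and only if J is generated by a regular sequence of A. -/
theorem result (A : Type u) [CommRing A] [IsNoetherianRing A]
    [IsLocalRing A] (J : Ideal A) [IsRegularLocalRing (A ⧸ J)] :
    IsRegularLocalRing A ↔ CInt.IsRegularIdeal J := by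
  classical
  have hloc : IsLocalRing (A ⧸ J) := inferInstance
  have hJne : J ≠ ⊤ := ne_top_of_isLocalRing_quotient J
  have hofList : ∀ (n : ℕ) (y : Fin n → A), Ideal.ofList (List.ofFn y) = Ideal.span (Set.range y) := by
    intro n y
    rw [Ideal.ofList]
    congr 1
    ext a
    exact List.mem_ofFn' y a
  constructor
  · intro hA
    obtain ⟨d, hd⟩ := exists_nat_ringKrullDim_eq A
    obtain ⟨x, c, hc, hx, hJ⟩ := exists_regular_system_of_parameters_of_quotient hd J
    have hreg := isRegular_ofFn_of_span_eq_maximalIdeal hd x hx
    have hJ' : Ideal.ofList (List.ofFn (fun i : Fin c => x (Fin.castLE hc i))) = J := by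
      rw [hofList, ← hJ]
    refine ⟨List.ofFn (fun i : Fin c => x (Fin.castLE hc i)), ⟨?_, ?_⟩, hJ'⟩
    · have h1 : List.ofFn (fun i : Fin c => x (Fin.castLE hc i)) = (List.ofFn x).take c :=
        Fin.ofFn_take_eq_take_ofFn hc x
      rw [h1]
      have h2 := hreg.toIsWeaklyRegular
      rw [← List.take_append_drop c (List.ofFn x)] at h2
      exact ((RingTheory.Sequence.isWeaklyRegular_append_iff _ _ _).mp h2).1
    · rw [hJ']
      intro h
      apply hJne
      rw [smul_eq_mul, Ideal.mul_top] at h
      exact h.symm
  · rintro ⟨rs, hreg, hJ⟩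
    have hdim := ringKrullDim_add_length_eq_ringKrullDim_of_isRegular rs hreg
    have hmem : ∀ i : Fin rs.length, rs.get i ∈ IsLocalRing.maximalIdeal A := by
      intro i
      have h1 : rs.get i ∈ Ideal.ofList rs := Ideal.subset_span (List.get_mem rs i)
      rw [hJ] at h1
      exact IsLocalRing.le_maximalIdeal hJne h1
    have hJ2 : J = Ideal.span (Set.range fun i : Fin rs.length =>
        (((⟨rs.get i, hmem i⟩ : IsLocalRing.maximalIdeal A)) : A)) := by
      rw [← hJ, Ideal.ofList]
      congr 1
      ext a
      simp only [Set.mem_ofPred_eq, Set.mem_range]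
      constructor
      · intro ha
        obtain ⟨i, hi⟩ := List.get_of_mem ha
        exact ⟨i, hi⟩
      · rintro ⟨i, rfl⟩
        exact List.get_mem rs i
    have hdim' : ringKrullDim (A ⧸ J) + (rs.length : ℕ) = ringKrullDim A := by
      have key : ∀ (K : Ideal A), K = J → ringKrullDim (A ⧸ K) + (rs.length : ℕ) = ringKrullDim A → 
          ringKrullDim (A ⧸ J) + (rs.length : ℕ) = ringKrullDim A := by
        intro K hK h
        subst hK
        exact h
      exact key _ hJ hdim
    exact (isRegularLocalRing_of_quotient_span_range' (fun i : Fin rs.length =>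
      (⟨rs.get i, hmem i⟩ : IsLocalRing.maximalIdeal A)) J hJ2 hdim').1

end Groth.Agent.S5033
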