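import Groth.Statements.S5035
import Groth.Agent.Lib.Helper3HenselLF
import Groth.Agent.Lib.Helper3HenselK
import Groth.Agent.S0502
import Mathlib

set_option autoImplicit false
universe u
open Hensel

namespace Groth.Agent.S5035

open IsLocalRing Groth.Agent.Lib.Helper3.Hensel

theorem exists_algHom_of_finite (R : Type u) [CommRing R] [IsLocalRing R]
    (S : Type u) [CommRing S] [Algebra R S] [Algebra.Etale R S] (q : Ideal S) [q.IsPrime]
    (hl : q.LiesOver (IsLocalRing.maximalIdeal R))
    (hs : Function.Surjective (algebraMap R q.ResidueField))
    (hfin : Module.Finite R (Localization.AtPrime q)) : Nonempty (S →ₐ[R] R) := by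
  let L := Localization.AtPrime q
  haveI : Module.Flat R L := Module.Flat.trans R S L
  haveI : Module.Free R L := Module.free_of_flat_of_isLocalRing
  haveI : IsLocalHom (algebraMap R L) := isLocalHom_of_finite
  haveI : Algebra.FormallyUnramified R L := Algebra.FormallyUnramified.comp R S L
  haveI : Algebra.EssFiniteType R L := Algebra.EssFiniteType.comp R S L
  have hmap : (maximalIdeal R).map (algebraMap R L) = maximalIdeal L :=
    Algebra.FormallyUnramified.map_maximalIdeal
  have hsurj : Function.Surjective (algebraMap R L) := by
    let N : Submodule R L := LinearMap.range (Algebra.linearMap R L)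
    have key : (⊤ : Submodule R L) ≤ N ⊔ (maximalIdeal R) • (⊤ : Submodule R L) := by
      intro a _
      obtain ⟨r, hr⟩ := hs (algebraMap L q.ResidueField a)
      have h2 : a - algebraMap R L r ∈ maximalIdeal L := by
        rw [← IsLocalRing.residue_eq_zero_iff]
        have : algebraMap L q.ResidueField (a - algebraMap R L r) = 0 := by
          rw [map_sub, ← hr, ← IsScalarTower.algebraMap_apply, sub_self]
        exact this
      rw [← hmap] at h2
      have h3 : a - algebraMap R L r ∈ (maximalIdeal R) • (⊤ : Submodule R L) := by
        rw [Ideal.smul_top_eq_map]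
        exact h2
      have : a = algebraMap R L r + (a - algebraMap R L r) := by ring
      rw [this]
      exact Submodule.add_mem_sup ⟨r, rfl⟩ h3
    have hN : (⊤ : Submodule R L) ≤ N :=
      Submodule.le_of_le_smul_of_le_jacobson_bot Module.Finite.fg_top
        (IsLocalRing.maximalIdeal_le_jacobson _) key
    intro a
    obtain ⟨r, hr⟩ := hN (Submodule.mem_top (x := a))
    exact ⟨r, hr⟩
  have hinj : Function.Injective (algebraMap R L) := FaithfulSMul.algebraMap_injective R L
  let e : R ≃ₐ[R] L := AlgEquiv.ofBijective (Algebra.ofId R L) ⟨hinj, hsurj⟩
  exact ⟨(e.symm : L →ₐ[R] R).comp (IsScalarTower.toAlgHom R S L)⟩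

/-- a) iff c') (affine form): a local ring R is henselian if and only if, for every R-algebra S of
finite type and every prime q of S lying over the maximal ideal of R such that S is quasi-finite
over R at q, the local ring S_q is a finitely generated R-module. -/
theorem result (R : Type u) [CommRing R] [IsLocalRing R] :
    HenselianLocalRing R ↔
      ∀ (S : Type u) [CommRing S] [Algebra R S] [Algebra.FiniteType R S] (q : Ideal S) [q.IsPrime],
        q.LiesOver (IsLocalRing.maximalIdeal R) → Algebra.QuasiFiniteAt R q →
          Module.Finite R (Localization.AtPrime q) := by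
  constructor
  · intro h S _ _ _ q _ hl hq
    exact finite_localization_of_quasiFiniteAt q
  · intro h
    apply Groth.Agent.S0502.result
    intro S _ _ _ q _ hl hs
    exact exists_algHom_of_finite R S q hl hs (h S q hl inferInstance)

end Groth.Agent.S5035
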