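import Groth.Statements.S5038
-- import your own Groth.Agent.* helpers here
import Groth.Agent.S17448
import Groth.Agent.Lib.Helper26SmoothLift

set_option autoImplicit false
open CategoryTheory AlgebraicGeometry
universe u
open Hensel

namespace Groth.Agent.S5038

/-- Let A be a henselian local ring with residue field k, S = Spec A, and f : X ⟶ S a smooth morphism.
Then the map from sections of f to k-points of the closed fibre is surjective: every u₀ : Spec k ⟶ X
lying over the closed point extends to a section u of f. -/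
theorem result (A : Type u) [CommRing A] [HenselianLocalRing A]
    {X : Scheme.{u}} (f : X ⟶ Spec (CommRingCat.of A)) [Smooth f]
    (u₀ : Spec (CommRingCat.of (IsLocalRing.ResidueField A)) ⟶ X)
    (h₀ : u₀ ≫ f = Spec.map (CommRingCat.ofHom (IsLocalRing.residue A))) :
    ∃ u : Spec (CommRingCat.of A) ⟶ X, u ≫ f = 𝟙 _ ∧
      Spec.map (CommRingCat.ofHom (IsLocalRing.residue A)) ≫ u = u₀ := by
  let k := IsLocalRing.ResidueField A
  let y₀ : Spec (CommRingCat.of k) := (⊥ : PrimeSpectrum k)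
  obtain ⟨_, ⟨V : X.Opens, hV, rfl⟩, hxV, -⟩ := X.isBasis_affineOpens.exists_subset_of_mem_open
    (Set.mem_univ (u₀ y₀)) isOpen_univ
  have hrange : Set.range u₀ ⊆ Set.range V.ι := by
    rintro _ ⟨y, rfl⟩
    have : y = y₀ := Subsingleton.elim (α := PrimeSpectrum k) y y₀
    rw [this, Scheme.Opens.range_ι]
    exact hxV
  let t' : Spec (CommRingCat.of k) ⟶ V.toScheme := IsOpenImmersion.lift V.ι u₀ hrange
  have ht' : t' ≫ V.ι = u₀ := IsOpenImmersion.lift_fac _ _ _
  haveI : IsAffine V.toScheme := hV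
  obtain ⟨ρ, hρ⟩ := Groth.Agent.S17448.affine_factor (V.ι ≫ f)
  have hρsm : ρ.hom.Smooth := by
    have h2 : Smooth (Spec.map ρ) := by
      rw [show Spec.map ρ = V.toScheme.isoSpec.inv ≫ (V.ι ≫ f) by
        rw [← hρ, Iso.inv_hom_id_assoc]]
      infer_instance
    exact (HasRingHomProperty.Spec_iff (P := @Smooth)).mp h2
  letI : Algebra A Γ(V.toScheme, ⊤) := ρ.hom.toAlgebra
  haveI : Algebra.Smooth A Γ(V.toScheme, ⊤) := RingHom.smooth_algebraMap.mp hρsm
  -- the point as a ring hom
  let θ : Spec (CommRingCat.of k) ⟶ Spec Γ(V.toScheme, ⊤) := t' ≫ V.toScheme.isoSpec.hom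
  let σ' : Γ(V.toScheme, ⊤) ⟶ CommRingCat.of k := Spec.preimage θ
  have hσ' : Spec.map σ' = θ := Spec.map_preimage θ
  have hcomm : ρ ≫ σ' = CommRingCat.ofHom (IsLocalRing.residue A) := by
    apply Spec.map_injective
    rw [Spec.map_comp, hσ']
    simp only [θ, Category.assoc]
    rw [hρ, ← Category.assoc, ht', h₀]
  let σ₀ : Γ(V.toScheme, ⊤) →ₐ[A] A ⧸ IsLocalRing.maximalIdeal A :=
    { σ'.hom with
      commutes' := fun a => by
        have := congrArg (fun u => u.hom a) hcomm
        exact this }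
  obtain ⟨τ, hτ⟩ := Groth.Agent.Lib.Helper26.SmoothLift.exists_lift_of_smooth
    (IsLocalRing.maximalIdeal A) σ₀
  let τc : Γ(V.toScheme, ⊤) ⟶ CommRingCat.of A := CommRingCat.ofHom τ.toRingHom
  have hτ1 : ρ ≫ τc = 𝟙 _ := by
    ext a
    exact τ.commutes a
  have hτ2 : τc ≫ CommRingCat.ofHom (IsLocalRing.residue A) = σ' := by
    ext e
    exact hτ e
  refine ⟨Spec.map τc ≫ V.toScheme.isoSpec.inv ≫ V.ι, ?_, ?_⟩
  · rw [Category.assoc, Category.assoc, ← hρ, Iso.inv_hom_id_assoc, ← Spec.map_comp, hτ1,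
      Spec.map_id]
  · rw [← Category.assoc, ← Spec.map_comp, hτ2, hσ']
    simp only [θ, Category.assoc, Iso.hom_inv_id_assoc]
    exact ht'

end Groth.Agent.S5038
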