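import Groth.Statements.S5039
import Mathlib
import Groth.Agent.Lib.Helper28HzFF
import Groth.Agent.Lib.Helper7NagFF
import Groth.Agent.S0567
import Groth.Agent.S2657
-- import your own Groth.Agent.* helpers here

set_option autoImplicit false
universe u
open Hensel

namespace Groth.Agent.S5039

/-- Let R be a Noetherian local ring and S its henselization. Then S is universally Japanese if and only
if R is. -/
theorem result (R S : Type u) [CommRing R] [IsLocalRing R] [IsNoetherianRing R]
    [CommRing S] [IsLocalRing S] [Algebra R S] [IsLocalHom (algebraMap R S)] [Hensel.IsHenselization R S] :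
    CAlg.IsUniversallyJapanese S ↔ CAlg.IsUniversallyJapanese R := by
  have hSN : IsNoetherianRing S := Groth.Agent.Lib.Helper3.HzP.hz_isNoetherianRing R S
  constructor
  · intro h
    have hNagS : CAlg.IsNagata S := (Groth.Agent.S0567.result S).mpr ⟨hSN, h⟩
    have hffS := Groth.Agent.Lib.Helper7.NagFF.hasGeomReducedFormalFibres_of_isNagata S hNagS
    have hffR := Groth.Agent.Lib.Helper28.HzFF.hasGeomReducedFormalFibres_of_hz R S hffS
    exact ((Groth.Agent.S0567.result R).mp (Groth.Agent.S2657.result R hffR)).2
  · intro h
    have hNagR : CAlg.IsNagata R := (Groth.Agent.S0567.result R).mpr ⟨inferInstance, h⟩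
    have hffR := Groth.Agent.Lib.Helper7.NagFF.hasGeomReducedFormalFibres_of_isNagata R hNagR
    have hffS := Groth.Agent.Lib.Helper28.HzFF.hz_hasGeomReducedFormalFibres R S hffR
    exact ((Groth.Agent.S0567.result S).mp (Groth.Agent.S2657.result S hffS)).2

end Groth.Agent.S5039
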