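import Groth.Statements.S5040
import Groth.Agent.Lib.Helper28ComplIso
import Groth.Agent.Lib.Helper28FormalCatPoly
import Groth.Agent.Lib.Helper3HzP
import Groth.Agent.Lib.Helper2Hensel2
import Groth.Agent.S2629
-- import your own Groth.Agent.* helpers here

set_option autoImplicit false
universe u
open Hensel

namespace Groth.Agent.S5040
open Groth.Agent.Lib.Helper28 IsLocalRing TensorProduct

/-- Let R be a Noetherian local ring with henselization S. If R is formally catenary (the completion of
R/p is equidimensional for every prime ideal p), then S is formally catenary. -/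
theorem result (R S : Type u) [CommRing R] [IsLocalRing R] [IsNoetherianRing R]
    [CommRing S] [IsLocalRing S] [Algebra R S] [IsLocalHom (algebraMap R S)] [Hensel.IsHenselization R S]
    (h : EGA4.IsFormallyCatenary R) : EGA4.IsFormallyCatenary S := by
  have hSN : IsNoetherianRing S := Groth.Agent.Lib.Helper3.HzP.hz_isNoetherianRing R S
  have hff : Module.FaithfullyFlat R S := Groth.Agent.Lib.Helper3.HzP.hz_faithfullyFlat R S
  have hmS : (maximalIdeal R).map (algebraMap R S) = maximalIdeal S :=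
    Groth.Agent.Lib.Helper3.HzP.hz_map_maximalIdeal R S
  intro q hq
  have hp : (q.comap (algebraMap R S)).IsPrime := Ideal.comap_isPrime _ q
  set p := q.comap (algebraMap R S) with hpdef
  have hA : EGA4.IsFormallyEquidim (R ⧸ p) := h p
  have ha_le : p.map (algebraMap R S) ≤ q := Ideal.map_comap_le
  have hane : p.map (algebraMap R S) ≠ ⊤ := fun htop => hq.ne_top (top_le_iff.mp (htop ▸ ha_le))
  set a := p.map (algebraMap R S) with hadef
  have hnt : Nontrivial (S ⧸ a) := Ideal.Quotient.nontrivial_iff.mpr hane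
  have hflatT : Module.Flat (R ⧸ p) (S ⧸ a) := flat_quotient_map' p
  have hlocT : IsLocalHom (algebraMap (R ⧸ p) (S ⧸ a)) := isLocalHom_quotient_map p
  have h1 : (maximalIdeal (R ⧸ p)).map (algebraMap (R ⧸ p) (S ⧸ a)) = maximalIdeal (S ⧸ a) := by
    rw [Groth.Agent.Lib.Helper5.maximalIdeal_quotient_eq_map,
      Groth.Agent.Lib.Helper5.maximalIdeal_quotient_eq_map, ← hmS, Ideal.map_map, Ideal.map_map]
    rfl
  have h2 : ∀ t : S ⧸ a, ∃ x : R ⧸ p, t - algebraMap (R ⧸ p) (S ⧸ a) x ∈ maximalIdeal (S ⧸ a) := by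
    intro t
    obtain ⟨s, rfl⟩ := Ideal.Quotient.mk_surjective t
    obtain ⟨r, hr⟩ := Groth.Agent.Lib.Helper2.henselization_exists_sub_mem R S s
    refine ⟨Ideal.Quotient.mk p r, ?_⟩
    rw [algebraMap_quotient_map_mk, ← map_sub,
      Groth.Agent.Lib.Helper5.mk_mem_maximalIdeal_quotient_iff, ← hmS]
    exact hr
  obtain ⟨e, -⟩ := exists_ringEquiv_adicCompletion_of_flat_of_map_maximalIdeal (R ⧸ p) (S ⧸ a) h1 h2
  have hT : EGA4.IsFormallyEquidim (S ⧸ a) := isEquidim_of_ringEquiv e hA
  have hqa : (q.map (Ideal.Quotient.mk a)).IsPrime :=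
    Ideal.map_isPrime_of_surjective Ideal.Quotient.mk_surjective (by rwa [Ideal.mk_ker])
  have hqmin : q.map (Ideal.Quotient.mk a) ∈ minimalPrimes (S ⧸ a) := by
    refine ⟨⟨hqa, bot_le⟩, ?_⟩
    rintro Q' ⟨hQ'p, -⟩ hQ'le
    have hQp : (Q'.comap (Ideal.Quotient.mk a)).IsPrime := Ideal.comap_isPrime _ Q'
    have haQ : a ≤ Q'.comap (Ideal.Quotient.mk a) := by
      intro x hx
      rw [Ideal.mem_comap, Ideal.Quotient.eq_zero_iff_mem.mpr hx]
      exact Q'.zero_mem
    have hQq : Q'.comap (Ideal.Quotient.mk a) ≤ q := by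
      have := Ideal.comap_mono (f := Ideal.Quotient.mk a) hQ'le
      rwa [Ideal.comap_map_of_surjective' _ Ideal.Quotient.mk_surjective,
        Ideal.mk_ker, sup_eq_left.mpr ha_le] at this
    have hunder : (Q'.comap (Ideal.Quotient.mk a)).under R = q.under R := by
      apply le_antisymm
      · exact Ideal.comap_mono hQq
      · exact Ideal.map_le_iff_le_comap.mp haQ
    have heq := Groth.Agent.Lib.Helper3.HzP.hz_incomparable R S _ q hQq hunder
    rw [← heq, Ideal.map_comap_of_surjective _ Ideal.Quotient.mk_surjective]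
  have h3 := ((Groth.Agent.S2629.result (S ⧸ a)).mp hT).2 (q.map (Ideal.Quotient.mk a)) hqmin
  exact isFormallyEquidim_of_ringEquiv (DoubleQuot.quotQuotEquivQuotOfLE ha_le) h3

end Groth.Agent.S5040
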