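import Groth.Statements.S5042
import Groth.Agent.S2045
import Groth.Agent.S5040
import Groth.Agent.S2655
import Groth.Agent.S2636
import Groth.Agent.Lib.Helper7J2Local

set_option autoImplicit false
universe u
open Hensel

namespace Groth.Agent.S5042

/-- The henselization S of an excellent local ring R is excellent. -/
theorem result (R S : Type u) [CommRing R] [IsLocalRing R]
    [CommRing S] [IsLocalRing S] [Algebra R S] [IsLocalHom (algebraMap R S)] [Hensel.IsHenselization R S]
    (h : EGA4.IsExcellent R) : EGA4.IsExcellent S := by
  haveI hRN : IsNoetherianRing R := h.1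
  haveI hSN : IsNoetherianRing S := Groth.Agent.Lib.Helper3.HzP.hz_isNoetherianRing R S
  have hG : CAlg.IsGRing S := Groth.Agent.S2045.result h.2.2.1
  have hFC : EGA4.IsFormallyCatenary S := Groth.Agent.S5040.result R S (Groth.Agent.S2655.result R h).1
  exact ⟨hSN, Groth.Agent.S2636.result S hFC, hG,
    Groth.Agent.Lib.Helper7.J2Local.isJ2_of_isLocalRing_of_isGRing S hG⟩


end Groth.Agent.S5042
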