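import Groth.Statements.S5043
import Groth.Agent.Lib.Helper3HzFib2
import Mathlib

set_option autoImplicit false
universe u
open Hensel

namespace Groth.Agent.S5043

/-- Let R be a Noetherian local ring with henselization S. A prime ideal P of S is an associated prime
of S if and only if its inverse image in R is an associated prime of R. -/
theorem result (R S : Type u) [CommRing R] [IsLocalRing R] [IsNoetherianRing R]
    [CommRing S] [IsLocalRing S] [Algebra R S] [IsLocalHom (algebraMap R S)] [Hensel.IsHenselization R S]
    (P : Ideal S) [P.IsPrime] :
    P ∈ associatedPrimes S S ↔ P.comap (algebraMap R S) ∈ associatedPrimes R R := by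
  haveI := Groth.Agent.Lib.Helper3.HzP.hz_faithfullyFlat R S
  haveI := Groth.Agent.Lib.Helper3.HzP.hz_isNoetherianRing R S
  have h := Groth.Agent.Lib.Helper3.HzFib.depth_eq_of_unramified P
    (Groth.Agent.Lib.Helper3.HzFib.hz_map_under R S P)
  rw [← Groth.Agent.Lib.Helper28.depth_localization_eq_zero_iff (M := S) P,
    Groth.Agent.Lib.Helper28.depth_localizedModule_self, h,
    ← Groth.Agent.Lib.Helper28.depth_localizedModule_self,
    Groth.Agent.Lib.Helper28.depth_localization_eq_zero_iff (M := R)]

end Groth.Agent.S5043
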