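import Groth.Statements.S5048
import Mathlib.AlgebraicGeometry.Morphisms.UniversallyOpen
import Mathlib.AlgebraicGeometry.Morphisms.QuasiFinite

set_option autoImplicit false
open CategoryTheory AlgebraicGeometry
universe u
open Unram

namespace Groth.Agent.S5048

/-- Let Y be an irreducible scheme with generic point η and f : X ⟶ Y flat, locally of finite type and
locally quasi-finite. Then a point x of X maps to η if and only if its closure is an irreducible
component of X; thus the irreducible components of X are in canonical bijection with the fibre over
η. -/
theorem result {X Y : Scheme.{u}} [IrreducibleSpace ↥Y] (f : X ⟶ Y)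
    [Flat f] [LocallyOfFiniteType f] [LocallyQuasiFinite f] (x : X) :
    f.base x = genericPoint Y ↔ closure ({x} : Set ↥X) ∈ irreducibleComponents ↥X := by
  constructor
  · intro hx
    refine ⟨isIrreducible_singleton.closure, ?_⟩
    intro Z hZ hxZ
    -- generic point of closure Z
    obtain ⟨ξ, hξ⟩ := QuasiSober.sober hZ.closure isClosed_closure
    have hxξ : ξ ⤳ x := by
      rw [specializes_iff_mem_closure, hξ.def]
      exact subset_closure (hxZ (subset_closure rfl))
    have hfξ : f.base ξ = genericPoint Y := by
      have h1 : f.base ξ ⤳ f.base x := hxξ.map f.continuous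
      rw [hx] at h1
      have h2 : genericPoint Y ⤳ f.base ξ := genericPoint_specializes _
      exact (h1.antisymm h2).eq
    have hdisc : DiscreteTopology ↥(f.base ⁻¹' {genericPoint Y}) :=
      (f.isDiscrete_preimage_singleton (genericPoint Y)).to_subtype
    have hspec : (⟨ξ, hfξ⟩ : ↥(f.base ⁻¹' {genericPoint Y})) ⤳ ⟨x, hx⟩ :=
      Topology.IsInducing.subtypeVal.specializes_iff.mp hxξ
    have heq : ξ = x := congrArg Subtype.val hspec.eq
    intro z hz
    have : z ∈ closure Z := subset_closure hz
    rw [← hξ.def, heq] at this
    exact this
  · intro hx
    obtain ⟨x', hx'x, hfx'⟩ := (Flat.generalizingMap f) (genericPoint_specializes (f.base x))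
    have hle : closure ({x} : Set ↥X) ⊆ closure {x'} := by
      rw [← specializes_iff_closure_subset]
      exact hx'x
    have hge := hx.2 isIrreducible_singleton.closure hle
    have hxx' : x ⤳ x' := by
      rw [specializes_iff_closure_subset]
      exact hge
    have : x' = x := (hx'x.antisymm hxx').eq
    rw [← this]; exact hfx'

end Groth.Agent.S5048
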