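import Groth.Statements.S5049
import Mathlib
import Groth.Agent.S4650

set_option autoImplicit false
open CategoryTheory AlgebraicGeometry
universe u
open Unram

namespace Groth.Agent.S5049




/-- Let f : X ⟶ Y be flat, locally of finite type and locally quasi-finite. If the irreducible
components of Y form a locally finite family of subsets, then so do the irreducible components of X. -/
theorem result {X Y : Scheme.{u}} (f : X ⟶ Y)
    [Flat f] [LocallyOfFiniteType f] [LocallyQuasiFinite f]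
    (hY : LocallyFinite (fun Z : ↥(irreducibleComponents ↥Y) => (Z : Set ↥Y))) :
    LocallyFinite (fun Z : ↥(irreducibleComponents ↥X) => (Z : Set ↥X)) := by
  intro x
  obtain ⟨N, hN, hNfin⟩ := hY (f x)
  obtain ⟨N', hN'N, hN'o, hxN'⟩ := mem_nhds_iff.mp hN
  obtain ⟨_, ⟨V, hV : IsAffineOpen V, rfl⟩, hfxV, hVN⟩ :=
    Y.isBasis_affineOpens.exists_subset_of_mem_open hxN' hN'o
  obtain ⟨_, ⟨W, hW : IsAffineOpen W, rfl⟩, hxW, hWV⟩ :=
    X.isBasis_affineOpens.exists_subset_of_mem_open
      (show x ∈ ((f ⁻¹ᵁ V : X.Opens) : Set X) from hfxV) (f ⁻¹ᵁ V).isOpen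
  refine ⟨W, W.isOpen.mem_nhds hxW, ?_⟩
  have hWV' : W ≤ f ⁻¹ᵁ V := hWV
  -- finite fibres on W
  have hfib : ∀ y : Y, ((W : Set X) ∩ f ⁻¹' {y}).Finite := by
    intro y
    by_cases hy : y ∈ V
    · have : IsAffine W := hW
      have : IsAffine V := hV
      have hfin := Scheme.Hom.finite_preimage_singleton (f.resLE V W hWV') ⟨y, hy⟩
      refine (hfin.image (Subtype.val)).subset ?_
      rintro z ⟨hzW, hzy⟩
      refine ⟨⟨z, hzW⟩, ?_, rfl⟩
      apply Subtype.ext
      have := Scheme.Hom.resLE_comp_ι f hWV'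
      have h2 := congr($(this) ⟨z, hzW⟩)
      exact h2.trans hzy
    · convert Set.finite_empty
      ext z
      simp only [Set.mem_inter_iff, SetLike.mem_coe, Set.mem_preimage, Set.mem_singleton_iff,
        Set.mem_empty_iff_false, iff_false, not_and]
      intro hzW hzy
      exact hy (hzy ▸ hWV' hzW)
  -- generic points of components meeting N
  let G : Set Y := ⋃ Z ∈ {Z : Set Y | Z ∈ irreducibleComponents Y ∧ (Z ∩ N).Nonempty},
    {η | IsGenericPoint η Z}
  have hS : {Z : Set Y | Z ∈ irreducibleComponents Y ∧ (Z ∩ N).Nonempty}.Finite := by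
    refine (hNfin.image Subtype.val).subset ?_
    rintro Z ⟨hZ, hZN⟩
    exact ⟨⟨Z, hZ⟩, hZN, rfl⟩
  have hG : G.Finite := by
    refine hS.biUnion (fun Z _ => Set.Subsingleton.finite ?_)
    intro a ha b hb
    exact IsGenericPoint.eq ha hb
  have hWG : ((W : Set X) ∩ f ⁻¹' G).Finite := by
    have : (W : Set X) ∩ f ⁻¹' G = ⋃ y ∈ G, ((W : Set X) ∩ f ⁻¹' {y}) := by
      ext z; simp
    rw [this]
    exact hG.biUnion (fun y _ => hfib y)
  -- generic points of the components of X
  have hgp : ∀ T : ↥(irreducibleComponents ↥X), ∃ ξ : X, IsGenericPoint ξ (T : Set X) := fun T =>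
    QuasiSober.sober T.2.1 (isClosed_of_mem_irreducibleComponents _ T.2)
  choose gp hgp using hgp
  refine Set.Finite.of_injOn (f := gp) ?_ ?_ hWG
  · rintro T ⟨t, htT, htW⟩
    have hξW : gp T ∈ W := by
      have : gp T ⤳ t := (hgp T).specializes htT
      exact this.mem_open W.isOpen htW
    refine ⟨hξW, ?_⟩
    have hZ := Groth.Agent.S4650.result f (Flat.generalizingMap f) T T.2
    refine Set.mem_biUnion (x := closure (f '' (T : Set X))) ⟨hZ, ?_⟩ ((hgp T).image f.continuous)
    exact ⟨f (gp T), subset_closure ⟨gp T, (hgp T).mem, rfl⟩, hN'N (hVN (hWV' hξW))⟩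
  · intro T _ T' _ h
    apply Subtype.ext
    rw [← (hgp T).def, ← (hgp T').def, h]

end Groth.Agent.S5049
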