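import Groth.Statements.S5052
import Mathlib
import Groth.Agent.S3418
import Groth.Agent.Lib.Helper20GeomCard

set_option autoImplicit false
open CategoryTheory AlgebraicGeometry
universe u
open Unram

namespace Groth.Agent.S5052
open CategoryTheory AlgebraicGeometry
open Groth.Agent.Lib.Helper20.GeomCard

theorem finite_nhd_of_const {X Y : Scheme.{u}} (f : X ⟶ Y) [Etale f] [IsSeparated f]
    [LocallyOfFiniteType f] [QuasiCompact f] (y : Y)
    (h : ∃ U : Y.Opens, y ∈ U ∧ ∀ y' : Y, y' ∈ U →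
      ENat.card ↥(MoreMor.geomFiber f y') = ENat.card ↥(MoreMor.geomFiber f y)) :
    ∃ U : Y.Opens, y ∈ U ∧ IsFinite (f ∣_ U) := by
  haveI := lqf_of_etale f
  have hfin : ∀ y : Y, (f ⁻¹' {y}).Finite := fun y => f.finite_preimage_singleton y
  have hopen : ∀ (y : Y) (V : Scheme.{u}) (gV : V ⟶ Y) [Etale gV] (z : ↥(Limits.pullback f gV)),
      f (Limits.pullback.fst f gV z) = y → ∀ U ∈ nhds z,
        (Limits.pullback.snd f gV) '' U ∈ nhds (Limits.pullback.snd f gV z) := by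
    intro y V gV _ z _ U hU
    exact (Limits.pullback.snd f gV).isOpenMap.image_mem_nhds hU
  obtain ⟨U, hyU, hU⟩ := h
  have hc' : ∃ N₀ ∈ nhds y, ∀ y' ∈ N₀, Groth.Agent.Lib.Helper2.Weight.ng f y' ≤
      Groth.Agent.Lib.Helper2.Weight.ng f y := by
    refine ⟨U, U.2.mem_nhds hyU, fun z hz => ?_⟩
    have := hU z hz
    rw [card_geomFiber_eq_nGeomConnComp, card_geomFiber_eq_nGeomConnComp,
      Groth.Agent.Lib.Helper2.Weight.nGeomConnComp_eq f y (hfin y),
      Groth.Agent.Lib.Helper2.Weight.nGeomConnComp_eq f z (hfin z)] at this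
    have h2 : Groth.Agent.Lib.Helper2.Weight.ng f z =
        Groth.Agent.Lib.Helper2.Weight.ng f y := by
      exact_mod_cast this
    exact h2.le
  obtain ⟨V', g', hg', hy, hfin'⟩ :=
    Groth.Agent.Lib.Helper2.Weight.exists_etale_nhd_finite_of_ng_le f hfin y (hopen y) hc'
  haveI := hg'
  haveI := hfin'
  exact ⟨⟨Set.range g', g'.isOpenMap.isOpen_range⟩, hy,
    Groth.Agent.Lib.Helper2.Weight.isFinite_restrict_range f g'⟩

theorem const_nhd_of_finite {X Y : Scheme.{u}} (f : X ⟶ Y) [Etale f] (y : Y)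
    (h : ∃ U : Y.Opens, y ∈ U ∧ IsFinite (f ∣_ U)) :
    ∃ U : Y.Opens, y ∈ U ∧ ∀ y' : Y, y' ∈ U →
      ENat.card ↥(MoreMor.geomFiber f y') = ENat.card ↥(MoreMor.geomFiber f y) := by
  haveI := lqf_of_etale f
  obtain ⟨U, hyU, hfin⟩ := h
  haveI := hfin
  haveI : Etale (f ∣_ U) := inferInstance
  obtain ⟨N, hyN, hN⟩ := exists_nhd_card_eq (f ∣_ U) ⟨y, hyU⟩
  have hbc : ∀ z : U, ENat.card ↥(MoreMor.geomFiber (f ∣_ U) z) =
      ENat.card ↥(MoreMor.geomFiber f (U.ι z)) := fun z =>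
    card_geomFiber_baseChange f (f ∣_ U) (f ⁻¹ᵁ U).ι U.ι (isPullback_morphismRestrict f U).flip z
  refine ⟨U.ι ''ᵁ N, ⟨⟨y, hyU⟩, hyN, rfl⟩, ?_⟩
  rintro _ ⟨z, hz, rfl⟩
  have h1 := hN z hz
  rw [hbc z, hbc ⟨y, hyU⟩] at h1
  exact h1


/-- Let f : X ⟶ Y be étale, separated and of finite type, and y a point of Y. The number of points of
the geometric fibre is constant on a neighbourhood of y if and only if the restriction of f over
some open neighbourhood of y is a finite morphism. -/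
theorem result {X Y : Scheme.{u}} (f : X ⟶ Y) [Etale f] [IsSeparated f]
    [LocallyOfFiniteType f] [QuasiCompact f] (y : Y) :
    (∃ U : Y.Opens, y ∈ U ∧ ∀ y' : Y, y' ∈ U → ENat.card ↥(MoreMor.geomFiber f y') = ENat.card ↥(MoreMor.geomFiber f y)) ↔
      ∃ U : Y.Opens, y ∈ U ∧ IsFinite (f ∣_ U) := by
  exact ⟨finite_nhd_of_const f y, const_nhd_of_finite f y⟩

end Groth.Agent.S5052
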