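import Groth.Statements.S5053
import Mathlib
import Groth.Agent.S5052
import Groth.Agent.Lib.Helper20GeomCard

set_option autoImplicit false
open CategoryTheory AlgebraicGeometry
universe u
open Unram

namespace Groth.Agent.S5053
open CategoryTheory AlgebraicGeometry
open Groth.Agent.Lib.Helper20.GeomCard


/-- Let Y be a connected scheme and f : X ⟶ Y étale, separated and of finite type. Then f is finite if
and only if all geometric fibres of f have the same number of points. -/
theorem result {X Y : Scheme.{u}} [ConnectedSpace ↥Y] (f : X ⟶ Y)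
    [Etale f] [IsSeparated f] [LocallyOfFiniteType f] [QuasiCompact f] :
    IsFinite f ↔ ∃ n : ℕ∞, ∀ y : Y, ENat.card ↥(MoreMor.geomFiber f y) = n := by
  constructor
  · intro hf
    have hloc : IsLocallyConstant (fun y : Y => ENat.card ↥(MoreMor.geomFiber f y)) := by
      rw [IsLocallyConstant.iff_exists_open]
      intro y
      have hfin : IsFinite (f ∣_ (⊤ : Y.Opens)) :=
        IsZariskiLocalAtTarget.restrict (P := @IsFinite) hf ⊤
      obtain ⟨U, hyU, hU⟩ := Groth.Agent.S5052.const_nhd_of_finite f y ⟨⊤, trivial, hfin⟩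
      exact ⟨U, U.2, hyU, fun y' hy' => hU y' hy'⟩
    obtain ⟨n, hn⟩ := hloc.exists_eq_const
    exact ⟨n, fun y => congrFun hn y⟩
  · rintro ⟨n, hn⟩
    have H : ∀ y : Y, ∃ U : Y.Opens, y ∈ U ∧ IsFinite (f ∣_ U) := fun y =>
      Groth.Agent.S5052.finite_nhd_of_const f y ⟨⊤, trivial, fun y' _ => by rw [hn y', hn y]⟩
    choose U hyU hU using H
    refine IsZariskiLocalAtTarget.of_iSup_eq_top (P := @IsFinite) U ?_ hU
    rw [eq_top_iff]
    intro y _
    exact TopologicalSpace.Opens.mem_iSup.mpr ⟨y, hyU y⟩

end Groth.Agent.S5053
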