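import Groth.Statements.S5058
import Groth.Agent.Lib.Helper7HensDesc
import Groth.Agent.S0591

set_option autoImplicit false
open CategoryTheory CategoryTheory.Limits AlgebraicGeometry
universe u
open Hensel

namespace Groth.Agent.S5058

/-- Let A be a henselian local ring and f : X ⟶ Spec A a morphism of finite presentation. Then there
exist a Noetherian henselian local ring A₀, a local ring homomorphism φ : A₀ → A, a morphism of
finite type f₀ : X₀ ⟶ Spec A₀ and a cartesian square exhibiting X as the base change of X₀ along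
Spec φ. -/
theorem result (A : Type u) [CommRing A] [HenselianLocalRing A]
    {X : Scheme.{u}} (f : X ⟶ Spec (CommRingCat.of A)) [LocallyOfFinitePresentation f] [QuasiCompact f] [QuasiSeparated f] :
    ∃ (A₀ : Type u) (_ : CommRing A₀) (_ : HenselianLocalRing A₀) (_ : IsNoetherianRing A₀) (φ : A₀ →+* A) (_ : IsLocalHom φ)
      (X₀ : Scheme.{u}) (f₀ : X₀ ⟶ Spec (CommRingCat.of A₀)) (g : X ⟶ X₀),
      LocallyOfFiniteType f₀ ∧ QuasiCompact f₀ ∧ IsPullback g f f₀ (Spec.map (CommRingCat.ofHom φ)) := by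
  classical
  let f' : X ⟶ (Groth.Agent.Lib.Helper7.HensDesc.specCone A).pt := f
  haveI i1 : LocallyOfFinitePresentation f' := ‹LocallyOfFinitePresentation f›
  haveI i2 : QuasiCompact f' := ‹QuasiCompact f›
  haveI i3 : QuasiSeparated f' := ‹QuasiSeparated f›
  obtain ⟨i, Xi, fi, g, h1, h2, h3, h4⟩ :=
    Groth.Agent.S0591.result (Groth.Agent.Lib.Helper7.HensDesc.specDiagram A)
      (Groth.Agent.Lib.Helper7.HensDesc.specCone A)
      (Groth.Agent.Lib.Helper7.HensDesc.specIsLimit A) X f'
  obtain ⟨hloc, hhens⟩ := Groth.Agent.Lib.Helper7.HensColim.henselian_G A i.unop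
  have hN : IsNoetherianRing (Groth.Agent.Lib.Helper7.HensColim.G A i.unop) :=
    (Groth.Agent.Lib.Helper7.HensColim.isGRing_G A i.unop).1
  have hlh : IsLocalHom (Groth.Agent.Lib.Helper7.HensColim.G A i.unop).subtype :=
    ⟨fun x hx => Groth.Agent.Lib.Helper7.HensColim.isUnit_of_isUnit_val A i.unop x hx⟩
  have hft : LocallyOfFiniteType fi := inferInstance
  exact ⟨Groth.Agent.Lib.Helper7.HensColim.G A i.unop, inferInstance, hhens, hN,
    (Groth.Agent.Lib.Helper7.HensColim.G A i.unop).subtype, hlh, Xi, fi, g,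
    hft, h2, h4⟩


end Groth.Agent.S5058
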