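import Groth.Statements.S5060
import Groth.Agent.Lib.Helper28NormalFlat2
import Groth.Agent.Lib.Helper5JacFlat
-- import your own Groth.Agent.* helpers here

set_option autoImplicit false
universe u
open CInt

namespace Groth.Agent.S5060

open RingTheory.Sequence Groth.Agent.Lib.Helper28.NormalFlat

/-- a) iff d) in the Noetherian case: let A be a Noetherian ring, R an ideal, f_1, …, f_n elements of
the Jacobson radical of A forming a regular sequence on A/R and on every R^k/R^(k+1), Q = R + (f_1,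
…, f_n), and M a finitely generated A-module. Then every R^k M / R^(k+1) M is flat over A/R if and
only if every Q^k M / Q^(k+1) M is flat over A/Q and, for every associated prime p of A/Q viewed as
an (A/R)-module, every localized piece (R^k M / R^(k+1) M)_p is flat over (A/R)_p. -/
theorem result (A : Type u) [CommRing A] [IsNoetherianRing A]
    (R : Ideal A) {n : ℕ} (f : Fin n → A) (hrad : ∀ i, f i ∈ (⊥ : Ideal A).jacobson)
    (hreg : RingTheory.Sequence.IsWeaklyRegular (A ⧸ R) (List.ofFn f))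
    (hreggr : ∀ k : ℕ, RingTheory.Sequence.IsWeaklyRegular (↥(R ^ k • (⊤ : Submodule A A)) ⧸ (R • (⊤ : Submodule A ↥(R ^ k • (⊤ : Submodule A A))))) (List.ofFn f))
    (M : Type u) [AddCommGroup M] [Module A M] [Module.Finite A M] :
    EGA4.IsNormallyFlat R M ↔
      EGA4.IsNormallyFlat (R ⊔ Ideal.span (Set.range f)) M ∧
        ∀ (p : Ideal (A ⧸ R)) [p.IsPrime],
          p ∈ associatedPrimes (A ⧸ R) ((A ⧸ R) ⧸ Ideal.map (Ideal.Quotient.mk R) (R ⊔ Ideal.span (Set.range f))) →
            ∀ k : ℕ, Module.Flat (Localization.AtPrime p) (LocalizedModule p.primeCompl (↥(R ^ k • (⊤ : Submodule A M)) ⧸ (R • (⊤ : Submodule A ↥(R ^ k • (⊤ : Submodule A M)))))) := by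
  have hrad' : ∀ y ∈ List.ofFn f, y ∈ (⊥ : Ideal A).jacobson := by
    intro y hy
    obtain ⟨i, rfl⟩ := (List.mem_ofFn' f y).mp hy
    exact hrad i
  have hJ : R ⊔ Ideal.ofList (List.ofFn f) = R ⊔ Ideal.span (Set.range f) := by
    rw [Groth.Agent.Lib.Helper5.ofList_ofFn]
  constructor
  · intro h
    refine ⟨?_, ?_⟩
    · intro k
      have h1 := flat_Gr_sup_ofList_of_flat M (List.ofFn f) hrad' R hreg k (fun j _ => h j)
      exact (flat_Gr_congr_ideal hJ k).mp h1
    · intro p _ _ k
      have : Module.Flat (A ⧸ R) (↥(R ^ k • (⊤ : Submodule A M)) ⧸ (R • (⊤ : Submodule A ↥(R ^ k • (⊤ : Submodule A M))))) := h k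
      infer_instance
  · rintro ⟨hQ, hloc⟩
    have hQ' : ∀ k, Module.Flat (A ⧸ (R ⊔ Ideal.ofList (List.ofFn f)))
        (Gr (R ⊔ Ideal.ofList (List.ofFn f)) M k) :=
      fun k => (flat_Gr_congr_ideal hJ k).mpr (hQ k)
    intro k
    induction k using Nat.strong_induction_on with
    | _ k ih =>
      have hF := flat_Gr_quot_sup_ofList M (List.ofFn f) hrad' R hreg k ih (hQ' k)
      have hFX : Module.Flat (A ⧸ (R ⊔ Ideal.ofList (List.ofFn f)))
          (↥(pw R M k) ⧸ ((R ⊔ Ideal.ofList (List.ofFn f)) • ⊤ : Submodule A ↥(pw R M k))) :=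
        (flat_quot_congr _ (quotQuotSMulTopEquiv le_sup_left ↥(pw R M k))).mp hF
      have hlocX : ∀ P ∈ associatedPrimes A (A ⧸ (R ⊔ Ideal.ofList (List.ofFn f))),
          LocWRX P R ↥(pw R M k) (List.ofFn f) := by
        intro P hP
        obtain ⟨p, hpprime, hpass, hpcomap⟩ := exists_associatedPrime_quot_map R
          (R ⊔ Ideal.ofList (List.ofFn f)) le_sup_left P hP
        rw [hJ] at hpass
        have := locWRX_of_flat_localizedModule R (List.ofFn f) hreg ↥(pw R M k) p
          (hloc p hpass k)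
        rwa [hpcomap] at this
      have hWR := isWeaklyRegular_quot_of_locWRX (List.ofFn f) hrad' R ↥(pw R M k) hreg hFX hlocX
      exact (Groth.Agent.Lib.Helper5.flat_quotient_iff_of_isWeaklyRegular R (List.ofFn f) hrad'
        hreg ↥(pw R M k) (R ⊔ Ideal.ofList (List.ofFn f)) rfl).mpr ⟨hF, hWR⟩

end Groth.Agent.S5060
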