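import Groth.Statements.S5064
import Groth.Agent.Lib.Helper20FlatDescSch

set_option autoImplicit false
open CategoryTheory CategoryTheory.Limits AlgebraicGeometry
universe u
open Unram

namespace Groth.Agent.S5064

/-- Let f : X ⟶ Y be locally of finite presentation. If f is étale then there are étale morphisms g_a :
Y'_a ⟶ Y and opens U_a of the fibre products X ×_Y Y'_a whose images under the first projections
cover X, such that each U_a ⟶ Y'_a (inclusion followed by the second projection) is an open
immersion. Conversely, the existence of such a family with the g_a only assumed flat implies that f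
is étale. -/
theorem result {X Y : Scheme.{u}} (f : X ⟶ Y) [LocallyOfFinitePresentation f] :
    (Etale f → ∃ (ι : Type u) (Y' : ι → Scheme.{u}) (g : ∀ a, Y' a ⟶ Y) (U : ∀ a, (pullback f (g a)).Opens),
      (∀ a, Etale (g a)) ∧ (∀ x : X, ∃ a, x ∈ (pullback.fst f (g a)).base '' (U a : Set ↥(pullback f (g a)))) ∧
        ∀ a, IsOpenImmersion ((U a).ι ≫ pullback.snd f (g a))) ∧
    ((∃ (ι : Type u) (Y' : ι → Scheme.{u}) (g : ∀ a, Y' a ⟶ Y) (U : ∀ a, (pullback f (g a)).Opens),
      (∀ a, Flat (g a)) ∧ (∀ x : X, ∃ a, x ∈ (pullback.fst f (g a)).base '' (U a : Set ↥(pullback f (g a)))) ∧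
        ∀ a, IsOpenImmersion ((U a).ι ≫ pullback.snd f (g a))) → Etale f) := by
  refine ⟨fun hf => ?_, ?_⟩
  · have := hf
    have hΔ : IsOpenImmersion (pullback.diagonal f) := inferInstance
    refine ⟨PUnit, fun _ => X, fun _ => f, fun _ => (pullback.diagonal f).opensRange,
      fun _ => hf, ?_, ?_⟩
    · intro x
      refine ⟨⟨⟩, pullback.diagonal f x, ⟨x, rfl⟩, ?_⟩
      rw [← Scheme.Hom.comp_apply, pullback.diagonal_fst]
      rfl
    · intro _
      have e : (pullback.diagonal f).opensRange.ι ≫ pullback.snd f f =
          (pullback.diagonal f).isoOpensRange.inv := by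
        rw [← Scheme.Hom.isoOpensRange_inv_comp, Category.assoc, pullback.diagonal_snd,
          Category.comp_id]
      rw [e]
      infer_instance
  · rintro ⟨ι, Y', g, U, hg, hcov, hU⟩
    apply Groth.Agent.Lib.Helper20.FlatDesc.of_forall_exists_nbhd (P := @Etale)
    intro x
    obtain ⟨a, w, hwU, rfl⟩ := hcov x
    have := hg a
    have := hU a
    apply Groth.Agent.Lib.Helper20.EtLocal.exists_etale_nbhd
    · apply Groth.Agent.Lib.Helper20.FlatDesc.formallyUnramified_stalkMap_of_flat_baseChange
      exact Groth.Agent.Lib.Helper20.EtLocal.formallyUnramified_stalkMap_of_nbhd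
        (pullback.snd f (g a)) w (U a) hwU
    · apply Groth.Agent.Lib.Helper20.FlatDesc.flat_stalkMap_of_flat_baseChange
      exact Groth.Agent.Lib.Helper20.EtLocal.flat_stalkMap_of_nbhd
        (pullback.snd f (g a)) w (U a) hwU

end Groth.Agent.S5064
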