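import Groth.Statements.S5066
import Groth.Agent.Lib.Helper3HenselN
import Groth.Agent.Lib.Helper3EssEt
import Groth.Agent.S0502
import Mathlib

set_option autoImplicit false
universe u
open Hensel

namespace Groth.Agent.S5066

/-- Case of a local ring, affine étale schemes: a local ring A with maximal ideal m is henselian if and
only if, for every finite A-algebra C and every étale A-algebra E, composing with the projection C →
C/mC is a bijection from the set of A-algebra homomorphisms E → C onto the set of A-algebra
homomorphisms E → C/mC. -/
theorem result (A : Type u) [CommRing A] [IsLocalRing A] :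
    HenselianLocalRing A ↔
      ∀ (C : Type u) [CommRing C] [Algebra A C] [Module.Finite A C] (E : Type u) [CommRing E] [Algebra A E] [Algebra.Etale A E],
        Function.Bijective (fun φ : E →ₐ[A] C =>
          (Ideal.Quotient.mkₐ A (Ideal.map (algebraMap A C) (IsLocalRing.maximalIdeal A))).comp φ) := by
  constructor
  · intro hA C _ _ _ E _ _ _
    exact Groth.Agent.Lib.Helper3.Hensel.algHom_quotient_bijective A C E
  · intro H
    apply Groth.Agent.S0502.result A
    intro S _ _ _ q _ hq hsurj
    have hq' : q.comap (algebraMap A S) = IsLocalRing.maximalIdeal A := hq.over.symm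
    obtain ⟨χ, -⟩ := Groth.Agent.Lib.Helper3.EssEt.exists_algHom_residueField A S q hq' hsurj
    have hm : IsLocalRing.maximalIdeal A =
        Ideal.map (algebraMap A A) (IsLocalRing.maximalIdeal A) := by
      rw [Algebra.algebraMap_self, Ideal.map_id]
    let ε : IsLocalRing.ResidueField A ≃ₐ[A]
        A ⧸ Ideal.map (algebraMap A A) (IsLocalRing.maximalIdeal A) :=
      Ideal.quotientEquivAlgOfEq A hm
    obtain ⟨φ, -⟩ := (H A S).2 (ε.toAlgHom.comp χ)
    exact ⟨φ⟩

end Groth.Agent.S5066
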