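import Groth.Statements.S5067
import Mathlib.AlgebraicGeometry.Morphisms.FlatMono
import Mathlib.AlgebraicGeometry.Morphisms.QuasiFinite
import Mathlib.AlgebraicGeometry.Morphisms.FormallyUnramified
import Mathlib.AlgebraicGeometry.Morphisms.Etale
import Mathlib.AlgebraicGeometry.Morphisms.UniversallyOpen
import Mathlib.RingTheory.Unramified.LocalStructure
import Mathlib.Topology.DiscreteSubset

set_option autoImplicit false
open CategoryTheory AlgebraicGeometry
universe u
open Unram

namespace Groth.Agent.S5067


set_option backward.isDefEq.respectTransparency.types false in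
/-- étale morphisms are locally quasi-finite -/
lemma locallyQuasiFinite_of_etale {X Y : Scheme.{u}} (f : X ⟶ Y) [Etale f] :
    LocallyQuasiFinite f := by
  rw [HasRingHomProperty.iff_appLE (P := @LocallyQuasiFinite)]
  intro U V e
  have h := HasRingHomProperty.appLE (P := @Etale) f inferInstance U V e
  algebraize [(f.appLE U V e).hom]
  have : Algebra.Etale Γ(Y, U) Γ(X, V) := h
  rw [RingHom.QuasiFinite]
  infer_instance

/-- in a discrete subset, specialization is equality -/
lemma eq_of_specializes_of_isDiscrete {α : Type*} [TopologicalSpace α] {s : Set α}
    (hs : IsDiscrete s) {a b : α} (ha : a ∈ s) (hb : b ∈ s) (h : a ⤳ b) : a = b := by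
  obtain ⟨u, hu, hus⟩ := (isDiscrete_iff_forall_mem_exists_isOpen.mp hs) b hb
  have hbu : b ∈ u := (hus.ge rfl).1
  have hau : a ∈ u := h.mem_open hu hbu
  have : a ∈ u ∩ s := ⟨hau, ha⟩
  rw [hus] at this
  exact this

open Limits in
set_option backward.isDefEq.respectTransparency.types false in
theorem main_aux {X Y : Scheme.{u}} [IsIntegral X] [IsIntegral Y]
    (f : X ⟶ Y) [Etale f] [IsSeparated f] (hgen : f.base (genericPoint X) = genericPoint Y)
    (hbir : Function.Bijective (f.residueFieldMap (genericPoint X)).hom) : IsOpenImmersion f := by
  have hqf : LocallyQuasiFinite f := locallyQuasiFinite_of_etale f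
  set η := genericPoint X with hη
  -- points in the generic fibre
  have hfib : ∀ x : X, f x = f η → x = η := by
    intro x hx
    have hd := f.isDiscrete_preimage_singleton (f η)
    exact (eq_of_specializes_of_isDiscrete hd (a := η) (b := x) rfl hx
      (genericPoint_specializes x)).symm
  -- the composite Spec κ(η) → X → Y is a monomorphism
  let c := X.fromSpecResidueField η
  have hiso : IsIso (f.residueFieldMap η) := by
    rw [ConcreteCategory.isIso_iff_bijective]
    exact hbir
  have hcf : Mono (c ≫ f) := by
    rw [← Scheme.Hom.SpecMap_residueFieldMap_fromSpecResidueField]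
    infer_instance
  -- surjectivity of the diagonal
  let Δ := pullback.diagonal f
  have hΔc : IsClosed (Set.range Δ) := Δ.isClosedEmbedding.isClosed_range
  have hsurj : Function.Surjective Δ := by
    intro z
    obtain ⟨z', hz'z, hz'⟩ := (Flat.generalizingMap (pullback.fst f f))
      (genericPoint_specializes (pullback.fst f f z))
    have h1 : pullback.fst f f z' = η := hz'
    have h2 : pullback.snd f f z' = η := by
      apply hfib
      rw [← h1, ← Scheme.Hom.comp_apply, ← Scheme.Hom.comp_apply, pullback.condition]
    let j := (pullback f f).fromSpecResidueField z'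
    let β1 : Spec ((pullback f f).residueField z') ⟶ Spec (X.residueField η) :=
      Spec.map ((pullback.fst f f).residueFieldMap z') ≫ Spec.map (X.residueFieldCongr h1.symm).hom
    let β2 : Spec ((pullback f f).residueField z') ⟶ Spec (X.residueField η) :=
      Spec.map ((pullback.snd f f).residueFieldMap z') ≫ Spec.map (X.residueFieldCongr h2.symm).hom
    have hb1 : β1 ≫ c = j ≫ pullback.fst f f := by
      simp only [β1, c, j, Category.assoc]
      rw [Scheme.residueFieldCongr_fromSpecResidueField,
        Scheme.Hom.SpecMap_residueFieldMap_fromSpecResidueField]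
    have hb2 : β2 ≫ c = j ≫ pullback.snd f f := by
      simp only [β2, c, j, Category.assoc]
      rw [Scheme.residueFieldCongr_fromSpecResidueField,
        Scheme.Hom.SpecMap_residueFieldMap_fromSpecResidueField]
    have hβ : β1 = β2 := by
      rw [← cancel_mono (c ≫ f), ← Category.assoc, ← Category.assoc, hb1, hb2, Category.assoc,
        Category.assoc, pullback.condition]
    have hj : j = (j ≫ pullback.fst f f) ≫ Δ := by
      apply pullback.hom_ext
      · simp [Δ]
      · simp only [Δ, Category.assoc, pullback.diagonal_snd, Category.comp_id]
        rw [← hb1, ← hb2, hβ]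
    have hz'mem : z' ∈ Set.range Δ := by
      let pt : Spec ((pullback f f).residueField z') := default
      have : j pt = z' := Scheme.fromSpecResidueField_apply _ _
      rw [← this, hj, Scheme.Hom.comp_apply]
      exact ⟨_, rfl⟩
    exact hz'z.mem_closed hΔc hz'mem
  have : Surjective Δ := ⟨hsurj⟩
  have hΔiso : IsIso Δ := (isIso_iff_isOpenImmersion_and_surjective Δ).mpr ⟨inferInstance, inferInstance⟩
  have : Mono f := (pullback.isIso_diagonal_iff f).mp hΔiso
  exact IsOpenImmersion.of_flat_of_mono f



/-- Let f : X ⟶ Y be an étale separated morphism of integral schemes which maps the generic point of X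
to the generic point of Y and induces a bijection between the residue fields of the generic points
(f is birational). Then f is an open immersion. -/
theorem result {X Y : Scheme.{u}} [IsIntegral X] [IsIntegral Y]
    (f : X ⟶ Y) [Etale f] [IsSeparated f] (hgen : f.base (genericPoint X) = genericPoint Y)
    (hbir : Function.Bijective (f.residueFieldMap (genericPoint X)).hom) : IsOpenImmersion f := by
  exact main_aux f hgen hbir

end Groth.Agent.S5067
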