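import Groth.Statements.S5069
import Mathlib.RingTheory.HopkinsLevitzki

set_option autoImplicit false
universe u v
open Hensel

namespace Groth.Agent.S5069

/-- First assertion, phrased for the images of the inductive system: let B be a Noetherian commutative
ring and (C_i) a family of Artinian subrings of B, directed under inclusion, whose union is B. Then
B is an Artinian ring. -/
theorem result (B : Type u) [CommRing B] [IsNoetherianRing B]
    {ι : Type v} [Nonempty ι] (C : ι → Subring B) (hdir : Directed (fun a b => a ≤ b) C)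
    (hart : ∀ i, IsArtinianRing ↥(C i)) (hcov : ∀ b : B, ∃ i, b ∈ C i) : IsArtinianRing B := by
  rw [isArtinianRing_iff_isNoetherianRing_krullDimLE_zero]
  refine ⟨inferInstance, ?_⟩
  rw [Ring.krullDimLE_zero_iff]
  intro p hp
  rw [Ideal.isMaximal_iff]
  refine ⟨fun h1 => hp.ne_top ((Ideal.eq_top_iff_one p).mpr h1), ?_⟩
  intro J b hpJ hbp hbJ
  obtain ⟨i, hi⟩ := hcov b
  -- the prime p ∩ C_i of the Artinian ring C_i is maximal
  have hq : (p.comap (C i).subtype).IsPrime := Ideal.comap_isPrime _ p
  have hqmax : (p.comap (C i).subtype).IsMaximal :=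
    (Ring.krullDimLE_zero_iff.mp inferInstance) _ hq
  have hb' : (⟨b, hi⟩ : ↥(C i)) ∉ p.comap (C i).subtype := hbp
  obtain ⟨c, d, hd, hcd⟩ := hqmax.exists_inv hb'
  have hdp : (d : B) ∈ p := hd
  have h2 : (c : B) * b + (d : B) = 1 := by
    have := congrArg (fun z : ↥(C i) => (z : B)) hcd
    simpa using this
  have h3 : (c : B) * b ∈ J := J.mul_mem_left _ hbJ
  rw [← h2]
  exact J.add_mem h3 (hpJ hdp)

end Groth.Agent.S5069
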