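import Groth.Statements.S5073
import Mathlib.RingTheory.Ideal.MinimalPrime.Localization
import Mathlib.RingTheory.Ideal.MinimalPrime.Noetherian

set_option autoImplicit false
universe u
open EGA418

namespace Groth.Agent.S5073

/-- Let A be a Noetherian local ring, p a prime ideal and x an element of A. Then there is an element x'
of A whose image in A_p equals that of x and which belongs to no minimal prime ideal of A not
contained in p. -/
theorem result (A : Type u) [CommRing A] [IsNoetherianRing A] [IsLocalRing A]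
    (p : Ideal A) [p.IsPrime] (x : A) :
    ∃ x' : A, algebraMap A (Localization.AtPrime p) x' = algebraMap A (Localization.AtPrime p) x ∧
      ∀ q ∈ minimalPrimes A, ¬ q ≤ p → x' ∉ q := by
  classical
  set I : Ideal A := RingHom.ker (algebraMap A (Localization.AtPrime p)) with hI
  have hfin : (minimalPrimes A).Finite := minimalPrimes.finite_of_isNoetherianRing A
  -- Claim 1: I is not contained in a minimal prime not contained in p
  have claim1 : ∀ q ∈ minimalPrimes A, ¬ q ≤ p → ¬ I ≤ q := by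
    intro q hq hqp hIq
    have hqprime : q.IsPrime := hq.1.1
    obtain ⟨t, htq, htp⟩ := Set.not_subset.mp hqp
    have hrad := IsLocalization.AtPrime.radical_map_of_mem_minimalPrimes
      (A := Localization.AtPrime q) q (⊥ : Ideal A) hq
    have htmem : algebraMap A (Localization.AtPrime q) t ∈
        ((⊥ : Ideal A).map (algebraMap A (Localization.AtPrime q))).radical := by
      rw [hrad]; exact Ideal.mem_map_of_mem _ htq
    obtain ⟨n, hn⟩ := htmem
    rw [Ideal.map_bot, Ideal.mem_bot, ← map_pow] at hn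
    obtain ⟨s, hs⟩ := (IsLocalization.map_eq_zero_iff q.primeCompl _ (t ^ n)).mp hn
    have hsI : (s : A) ∈ I := by
      rw [hI, RingHom.mem_ker]
      refine (IsLocalization.map_eq_zero_iff p.primeCompl _ (s : A)).mpr ?_
      refine ⟨⟨t ^ n, fun h => htp (Ideal.IsPrime.mem_of_pow_mem inferInstance n h)⟩, ?_⟩
      change t ^ n * (s : A) = 0
      rw [mul_comm]; exact hs
    exact s.2 (hIq hsI)
  -- the two finite sets of minimal primes
  set T1 : Finset (Ideal A) := hfin.toFinset.filter (fun q => ¬ q ≤ p ∧ x ∈ q) with hT1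
  set T2 : Finset (Ideal A) := hfin.toFinset.filter (fun q => ¬ q ≤ p ∧ x ∉ q) with hT2
  have hT1mem : ∀ q, q ∈ T1 ↔ q ∈ minimalPrimes A ∧ ¬ q ≤ p ∧ x ∈ q := by
    intro q; simp [hT1]
  have hT2mem : ∀ q, q ∈ T2 ↔ q ∈ minimalPrimes A ∧ ¬ q ≤ p ∧ x ∉ q := by
    intro q; simp [hT2]
  -- Claim 2
  have claim2 : ∃ a ∈ I * ∏ q ∈ T2, q, ∀ q ∈ T1, a ∉ q := by
    by_contra hcon
    push_neg at hcon
    have hsub : ((I * ∏ q ∈ T2, q : Ideal A) : Set A) ⊆ ⋃ q ∈ (↑T1 : Set (Ideal A)), (q : Set A) := by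
      intro a ha
      obtain ⟨q, hq, haq⟩ := hcon a ha
      exact Set.mem_biUnion (Finset.mem_coe.mpr hq) haq
    have hprime : ∀ q ∈ T1, q ≠ p → q ≠ p → (id q : Ideal A).IsPrime := by
      intro q hq _ _
      exact ((hT1mem q).mp hq).1.1.1
    obtain ⟨q₁, hq₁, hle⟩ := (Ideal.subset_union_prime (f := id) p p hprime).mp hsub
    have hq₁' := (hT1mem q₁).mp hq₁
    have hq₁prime : q₁.IsPrime := hq₁'.1.1.1
    rcases (hq₁prime.mul_le).mp hle with h1 | h2
    · exact claim1 q₁ hq₁'.1 hq₁'.2.1 h1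
    · obtain ⟨q₂, hq₂, hq₂le⟩ := (hq₁prime.prod_le).mp h2
      have hq₂' := (hT2mem q₂).mp hq₂
      have : q₁ ≤ q₂ := hq₁'.1.2 ⟨hq₂'.1.1.1, bot_le⟩ hq₂le
      exact hq₂'.2.2 (this hq₁'.2.2)
  obtain ⟨a, ha, haT1⟩ := claim2
  have haI : a ∈ I := Ideal.mul_le_right ha |> fun _ => Ideal.mul_le_left ha
  have haT2 : ∀ q ∈ T2, a ∈ q := by
    intro q hq
    have h1 : a ∈ ∏ q ∈ T2, q := Ideal.mul_le_right ha
    exact (Ideal.prod_le_inf.trans (Finset.inf_le hq)) h1
  refine ⟨x + a, ?_, ?_⟩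
  · rw [map_add, (RingHom.mem_ker).mp haI, add_zero]
  · intro q hq hqp hxa
    by_cases hxq : x ∈ q
    · have : a ∈ q := by
        have := q.sub_mem hxa hxq
        simpa using this
      exact haT1 q ((hT1mem q).mpr ⟨hq, hqp, hxq⟩) this
    · have : a ∈ q := haT2 q ((hT2mem q).mpr ⟨hq, hqp, hxq⟩)
      exact hxq (by have := q.sub_mem hxa this; simpa using this)

end Groth.Agent.S5073
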