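import Groth.Statements.S5074
import Groth.Agent.Lib.Helper19CKJac
import Groth.Agent.Lib.Helper19CKJacCp
import Groth.Agent.Lib.Helper19CKJacC0
import Groth.Agent.Lib.Helper19CKDim
import Groth.Agent.Lib.Helper5RLR

set_option autoImplicit false
universe u
open EGA418

namespace Groth.Agent.S5074

/-- Let k be a field of characteristic exponent p such that k is finite over k^p (the Frobenius
endomorphism of k is a finite ring map), A a complete Noetherian local k-algebra whose residue field
is a finite extension of k, and P a prime ideal of A such that A_P is geometrically regular over k.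
Then for every minimal prime q of A contained in P (there is exactly one), the A_P-module obtained
by localising at P the completion of the module of differentials of A over k is free of rank equal
to dim(A/q). -/
theorem result (p : ℕ) (k A : Type u) [Field k] [ExpChar k p]
    (hk : (frobenius k p).Finite) [CommRing A] [IsLocalRing A] [IsNoetherianRing A] [Algebra k A]
    [IsAdicComplete (IsLocalRing.maximalIdeal A) A] [Module.Finite k (IsLocalRing.ResidueField A)]
    (P : Ideal A) [P.IsPrime] (hP : CAlg.IsGeometricallyRegular k (Localization.AtPrime P))
    (q : Ideal A) (hq : q ∈ minimalPrimes A) (hqP : q ≤ P) (n : ℕ) (hn : ringKrullDim (A ⧸ q) = n) :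
    Module.Free (Localization.AtPrime P) (LocalizedModule P.primeCompl (AdicCompletion (IsLocalRing.maximalIdeal A) (KaehlerDifferential k A))) ∧
      Module.finrank (Localization.AtPrime P) (LocalizedModule P.primeCompl (AdicCompletion (IsLocalRing.maximalIdeal A) (KaehlerDifferential k A))) = n := by
  haveI : q.IsPrime := hq.1.1
  have hreg : IsRegularLocalRing (Localization.AtPrime P) := by
    haveI : IsRegularRing (TensorProduct k k (Localization.AtPrime P)) :=
      hP k (Module.Finite.self k)
    haveI : IsRegularRing (Localization.AtPrime P) :=
      IsRegularRing.of_ringEquiv (Algebra.TensorProduct.lid k (Localization.AtPrime P)).toRingEquiv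
    exact IsRegularLocalRing.of_isRegularRing_of_isLocalRing (Localization.AtPrime P)
  haveI : IsDomain (Localization.AtPrime P) :=
    Groth.Agent.Lib.Helper5.isDomain_of_isRegularLocalRing (Localization.AtPrime P)
  haveI : IsLocalRing (A ⧸ P) :=
    IsLocalRing.of_surjective' (Ideal.Quotient.mk P) Ideal.Quotient.mk_surjective
  obtain ⟨d, hd⟩ := Groth.Agent.Lib.Helper19.exists_nat_ringKrullDim (A ⧸ P)
  have hcot : (Module.finrank P.ResidueField
      (IsLocalRing.CotangentSpace (Localization.AtPrime P)) : WithBot ℕ∞) =
      ringKrullDim (Localization.AtPrime P) :=
    (IsRegularLocalRing.iff_finrank_cotangentSpace (Localization.AtPrime P)).1 hreg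
  have hht : ringKrullDim (Localization.AtPrime P) = P.height :=
    IsLocalization.AtPrime.ringKrullDim_eq_height P (Localization.AtPrime P)
  have hle := Groth.Agent.Lib.Helper19.CKDim.height_add_dim_quotient_le q P hq hqP
  have hsum : Module.finrank P.ResidueField
      (IsLocalRing.CotangentSpace (Localization.AtPrime P)) + d ≤ n := by
    rw [hd, hn, ← hht, ← hcot] at hle
    exact_mod_cast hle
  have hfib : Module.finrank P.ResidueField
      (TensorProduct A P.ResidueField
        (AdicCompletion (IsLocalRing.maximalIdeal A) (KaehlerDifferential k A))) ≤
      Module.finrank P.ResidueField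
        (IsLocalRing.CotangentSpace (Localization.AtPrime P)) + d := by
    rcases expChar_is_prime_or_one k p with hp | rfl
    · haveI : Fact p.Prime := ⟨hp⟩
      haveI : CharP k p := by
        cases ‹ExpChar k p› with
        | zero => exact absurd hp Nat.not_prime_one
        | prime _ => assumption
      exact (Groth.Agent.Lib.Helper19.CKJacCp.finrank_fibre_eq p k hk P hP d hd).le
    · haveI : CharZero k := charZero_of_expChar_one' (R := k)
      exact Groth.Agent.Lib.Helper19.CKJacC0.finrank_fibre_le k P d hd
  exact Groth.Agent.Lib.Helper19.CKJac.free_of_finrank_fibre_le k P q hq hqP n hn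
    (hfib.trans hsum)

end Groth.Agent.S5074
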