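import Groth.Statements.S5075
import Mathlib

set_option autoImplicit false
open CategoryTheory AlgebraicGeometry
universe u
open Unram

namespace Groth.Agent.S5075

open CategoryTheory.Limits

set_option backward.isDefEq.respectTransparency false in
lemma isOpenImmersion_equalizer_ι_left {S : Scheme.{u}} {X Y : Over S} [FormallyUnramified Y.hom]
    [LocallyOfFiniteType Y.hom]
    (f g : X ⟶ Y) : IsOpenImmersion (equalizer.ι f g).left := by
  refine MorphismProperty.of_isPullback
    ((Limits.isPullback_equalizer_prod f g).map (Over.forget _)).flip ?_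
  rw [← MorphismProperty.cancel_right_of_respectsIso @IsOpenImmersion _
    (Over.prodLeftIsoPullback Y Y).hom]
  convert! (inferInstance : IsOpenImmersion (pullback.diagonal Y.hom))
  ext1 <;> simp [← Over.comp_left]

/-- two `S`-morphisms into an unramified `S`-scheme agreeing on a surjective `Z → X` are equal. -/
lemma eq_of_surjective {S X Y : Scheme.{u}} (p : Y ⟶ S) [FormallyUnramified p]
    [LocallyOfFiniteType p] (a b : X ⟶ Y) (hab : a ≫ p = b ≫ p)
    {Z : Scheme.{u}} (z : Z ⟶ X) [Surjective z] (hz : z ≫ a = z ≫ b) : a = b := by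
  let X' : Over S := Over.mk (a ≫ p)
  let Y' : Over S := Over.mk p
  let Z' : Over S := Over.mk (z ≫ a ≫ p)
  let a' : X' ⟶ Y' := Over.homMk a
  let b' : X' ⟶ Y' := Over.homMk b hab.symm
  let z' : Z' ⟶ X' := Over.homMk z
  have h2 : FormallyUnramified Y'.hom := ‹_›
  have h3 : LocallyOfFiniteType Y'.hom := ‹_›
  have hop : IsOpenImmersion (equalizer.ι a' b').left := isOpenImmersion_equalizer_ι_left a' b'
  have hz' : z' ≫ a' = z' ≫ b' := by
    ext1; exact hz
  have hsurj : Surjective (equalizer.ι a' b').left := ⟨fun x => by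
    obtain ⟨w, rfl⟩ := z.surjective x
    refine ⟨(equalizer.lift z' hz').left.base w, ?_⟩
    rw [← Scheme.Hom.comp_apply, ← Over.comp_left, equalizer.lift_ι]
    rfl⟩
  have hiso : IsIso (equalizer.ι a' b').left :=
    (isIso_iff_isOpenImmersion_and_surjective _).mpr ⟨hop, hsurj⟩
  rw [← cancel_epi (equalizer.ι a' b').left]
  exact congr($(equalizer.condition a' b').left)

/-- a section of an unramified morphism is an open immersion. -/
lemma isOpenImmersion_of_section {Y T : Scheme.{u}} (q : Y ⟶ T) [FormallyUnramified q]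
    [LocallyOfFiniteType q] (t : T ⟶ Y) (ht : t ≫ q = 𝟙 T) : IsOpenImmersion t := by
  let Y' : Over T := Over.mk q
  let a' : Y' ⟶ Y' := 𝟙 Y'
  let b' : Y' ⟶ Y' := Over.homMk (q ≫ t) (by simp [Y', ht])
  let T' : Over T := Over.mk (𝟙 T)
  let t' : T' ⟶ Y' := Over.homMk t (by simp [Y', T', ht])
  have h2 : FormallyUnramified Y'.hom := ‹_›
  have h3 : LocallyOfFiniteType Y'.hom := ‹_›
  have hop : IsOpenImmersion (equalizer.ι a' b').left := isOpenImmersion_equalizer_ι_left a' b'
  have ht' : t' ≫ a' = t' ≫ b' := by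
    ext1
    simp only [Over.comp_left, Over.homMk_left, a', b', t', Category.comp_id]
    rw [← Category.assoc, ht]
    exact (Category.id_comp t).symm
  -- `equalizer.lift t'` is an iso with inverse `ι ≫ q`
  have hinv : (equalizer.ι a' b').left ≫ q ≫ (equalizer.lift t' ht').left = 𝟙 _ := by
    have : ((equalizer.ι a' b') ≫ b').left = ((equalizer.ι a' b') ≫ a').left := by
      rw [equalizer.condition]
    simp only [Over.comp_left, Over.homMk_left, a', b', Category.comp_id] at this
    rw [← cancel_mono (equalizer.ι a' b').left]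
    rw [Category.assoc, Category.assoc, ← Over.comp_left, equalizer.lift_ι, Category.id_comp]
    exact this
  have hiso : IsIso (equalizer.lift t' ht').left := by
    refine ⟨(equalizer.ι a' b').left ≫ q, ?_, ?_⟩
    · rw [← Category.assoc, ← Over.comp_left, equalizer.lift_ι]
      exact ht
    · rw [Category.assoc]; exact hinv
  have : t = (equalizer.lift t' ht').left ≫ (equalizer.ι a' b').left := by
    rw [← Over.comp_left, equalizer.lift_ι]; rfl
  rw [this]
  infer_instance

/-- a morphism from a reduced scheme factors through a surjective closed immersion. -/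
lemma exists_lift_of_isReduced {S₀ S T : Scheme.{u}} (i : S₀ ⟶ S) [IsClosedImmersion i]
    [Surjective i] [IsReduced T] (h : T ⟶ S) : ∃ h₀ : T ⟶ S₀, h₀ ≫ i = h := by
  have : IsIso (pullback.fst h i) := isIso_of_isClosedImmersion_of_surjective _
  refine ⟨inv (pullback.fst h i) ≫ pullback.snd h i, ?_⟩
  rw [Category.assoc, ← pullback.condition, IsIso.inv_hom_id_assoc]

/-- étale + surjective + universally injective implies iso. -/
lemma isIso_of_etale {U S : Scheme.{u}} (p : U ⟶ S) [Etale p] [Surjective p]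
    [UniversallyInjective p] : IsIso p := by
  have h1 : IsOpenImmersion (pullback.diagonal p) := inferInstance
  have h2 : Surjective (pullback.diagonal p) := (UniversallyInjective.iff_diagonal p).mp ‹_›
  have h3 : IsIso (pullback.diagonal p) :=
    (isIso_iff_isOpenImmersion_and_surjective _).mpr ⟨h1, h2⟩
  have h4 : IsIso (pullback.fst p p) := by
    have : pullback.fst p p = inv (pullback.diagonal p) := by
      rw [← cancel_epi (pullback.diagonal p), pullback.diagonal_fst, IsIso.hom_inv_id]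
    rw [this]; infer_instance
  exact MorphismProperty.of_pullback_fst_of_descendsAlong (P := MorphismProperty.isomorphisms Scheme.{u})
    (Q := @Surjective ⊓ @Flat ⊓ @LocallyOfFinitePresentation) (f := p) (g := p)
    ⟨⟨inferInstance, inferInstance⟩, inferInstance⟩ h4

/-- extension of sections of an étale morphism along a surjective closed immersion. -/
lemma exists_section {X S S₀ : Scheme.{u}} (p : X ⟶ S) [Etale p] (i : S₀ ⟶ S)
    [IsClosedImmersion i] [Surjective i] (s₀ : S₀ ⟶ X) (hs₀ : s₀ ≫ p = i) :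
    ∃ s : S ⟶ X, s ≫ p = 𝟙 S ∧ i ≫ s = s₀ := by
  -- the section over `S₀`
  let t₀ : S₀ ⟶ pullback p i := pullback.lift s₀ (𝟙 S₀) (by rw [hs₀, Category.id_comp])
  have ht₀ : t₀ ≫ pullback.snd p i = 𝟙 S₀ := pullback.lift_snd _ _ _
  have ht₀' : t₀ ≫ pullback.fst p i = s₀ := pullback.lift_fst _ _ _
  have hop₀ : IsOpenImmersion t₀ := isOpenImmersion_of_section (pullback.snd p i) t₀ ht₀
  have hj : IsOpenMap (pullback.fst p i).base := by
    have h1 : IsHomeomorph (pullback.fst p i).base := by
      rw [isHomeomorph_iff_isEmbedding_surjective]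
      exact ⟨(Scheme.Hom.isClosedEmbedding _).isEmbedding, (pullback.fst p i).surjective⟩
    exact h1.isOpenMap
  have hopen : IsOpen (Set.range s₀.base) := by
    have : Set.range s₀.base = (pullback.fst p i).base '' Set.range t₀.base := by
      rw [← ht₀', ← Set.range_comp]
      rfl
    rw [this]
    exact hj _ (Scheme.Hom.isOpenEmbedding t₀).isOpen_range
  obtain ⟨U, hU⟩ : ∃ U : X.Opens, (U : Set X) = Set.range s₀.base := ⟨⟨_, hopen⟩, rfl⟩
  have hrange : Set.range s₀.base ⊆ Set.range U.ι.base := by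
    rw [Scheme.Opens.range_ι, hU]
  let s₀' : S₀ ⟶ U := IsOpenImmersion.lift U.ι s₀ hrange
  have hs₀' : s₀' ≫ U.ι = s₀ := IsOpenImmersion.lift_fac _ _ _
  have hpU : s₀' ≫ U.ι ≫ p = i := by rw [← Category.assoc, hs₀', hs₀]
  have hsurj : Surjective (U.ι ≫ p) := ⟨fun y => by
    obtain ⟨y₀, rfl⟩ := i.surjective y
    refine ⟨s₀'.base y₀, ?_⟩
    rw [← Scheme.Hom.comp_apply, hpU]⟩
  let t : S₀ ⟶ pullback (U.ι ≫ p) i := pullback.lift s₀' (𝟙 S₀) (by rw [hpU, Category.id_comp])
  have ht : t ≫ pullback.snd (U.ι ≫ p) i = 𝟙 S₀ := pullback.lift_snd _ _ _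
  have ht' : t ≫ pullback.fst (U.ι ≫ p) i = s₀' := pullback.lift_fst _ _ _
  have hop : IsOpenImmersion t := isOpenImmersion_of_section (pullback.snd (U.ι ≫ p) i) t ht
  have htsurj : Surjective t := ⟨fun w => by
    have hw : U.ι.base ((pullback.fst (U.ι ≫ p) i).base w) ∈ Set.range s₀.base := by
      rw [← hU]
      exact ((pullback.fst (U.ι ≫ p) i).base w).2
    obtain ⟨y₀, hy₀⟩ := hw
    refine ⟨y₀, ?_⟩
    apply (Scheme.Hom.isClosedEmbedding (pullback.fst (U.ι ≫ p) i)).injective
    apply U.ι.isOpenEmbedding.injective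
    rw [← hy₀, ← Scheme.Hom.comp_apply, ← Scheme.Hom.comp_apply, ← Category.assoc, ht', hs₀']⟩
  have htiso : IsIso t := (isIso_iff_isOpenImmersion_and_surjective _).mpr ⟨hop, htsurj⟩
  have hsnd : Mono (pullback.snd (U.ι ≫ p) i) := by
    have : pullback.snd (U.ι ≫ p) i = inv t := by
      rw [← cancel_epi t, ht, IsIso.hom_inv_id]
    rw [this]; infer_instance
  have huinj : UniversallyInjective (U.ι ≫ p) := by
    refine ((tfae_universallyInjective (U.ι ≫ p)).out 0 1).mpr ?_
    intro K _ g₁ g₂ hg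
    dsimp only at hg
    obtain ⟨h₀, hh₀⟩ := exists_lift_of_isReduced i (g₁ ≫ U.ι ≫ p)
    let G₁ : Spec (.of K) ⟶ pullback (U.ι ≫ p) i := pullback.lift g₁ h₀ hh₀.symm
    let G₂ : Spec (.of K) ⟶ pullback (U.ι ≫ p) i := pullback.lift g₂ h₀ (by rw [hh₀, hg])
    have hG : G₁ = G₂ := by
      rw [← cancel_mono (pullback.snd (U.ι ≫ p) i)]
      simp only [G₁, G₂, pullback.lift_snd]
    have h1 : g₁ = G₁ ≫ pullback.fst _ _ := (pullback.lift_fst _ _ _).symm
    have h2 : g₂ = G₂ ≫ pullback.fst _ _ := (pullback.lift_fst _ _ _).symm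
    rw [h1, h2, hG]
  have hiso : IsIso (U.ι ≫ p) := isIso_of_etale _
  refine ⟨inv (U.ι ≫ p) ≫ U.ι, ?_, ?_⟩
  · rw [Category.assoc, IsIso.inv_hom_id]
  · have : i ≫ inv (U.ι ≫ p) = s₀' := by
      rw [IsIso.comp_inv_eq, hpU]
    rw [← Category.assoc, this, hs₀']


/-- Let p : X ⟶ S be étale, g : S' ⟶ S a morphism and i : S'₀ ⟶ S' a surjective closed immersion (a
closed subscheme with the same underlying space). Then for every f₀ : S'₀ ⟶ X over S there is
exactly one f : S' ⟶ X over S with i ≫ f = f₀. -/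
theorem result {X S S' S'₀ : Scheme.{u}} (p : X ⟶ S) [Etale p]
    (g : S' ⟶ S) (i : S'₀ ⟶ S') [IsClosedImmersion i] [Surjective i]
    (f₀ : S'₀ ⟶ X) (h₀ : f₀ ≫ p = i ≫ g) :
    ∃! f : S' ⟶ X, f ≫ p = g ∧ i ≫ f = f₀ := by
  obtain ⟨s, hs1, hs2⟩ := exists_section (pullback.snd p g) i (pullback.lift f₀ i h₀)
    (pullback.lift_snd _ _ _)
  refine ⟨s ≫ pullback.fst p g, ⟨?_, ?_⟩, ?_⟩
  · rw [Category.assoc, pullback.condition, ← Category.assoc, hs1, Category.id_comp]
  · rw [← Category.assoc, hs2, pullback.lift_fst]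
  · rintro f' ⟨hf1, hf2⟩
    refine eq_of_surjective p f' _ ?_ i ?_
    · rw [hf1, Category.assoc, pullback.condition, ← Category.assoc, hs1, Category.id_comp]
    · rw [hf2, ← Category.assoc, hs2, pullback.lift_fst]

end Groth.Agent.S5075
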