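import Groth.Statements.S5078
import Mathlib.RingTheory.AdicCompletion.Basic
import Mathlib.RingTheory.Finiteness.Projective

set_option autoImplicit false
universe u v
open Hensel

namespace Groth.Agent.S5078

/-- Let A be a ring, I an ideal such that A is I-adically separated and complete, and M a finitely
generated projective A-module. Then M is I-adically separated and complete. -/
theorem result {A : Type u} [CommRing A] (I : Ideal A) [IsAdicComplete I A]
    (M : Type v) [AddCommGroup M] [Module A M] [Module.Finite A M] [Module.Projective A M] :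
    IsAdicComplete I M := by
  classical
  obtain ⟨n, r, i, -, -, hri⟩ := Module.Finite.exists_comp_eq_id_of_projective A M
  -- coordinate functionals
  let φ : Fin n → M →ₗ[A] A := fun j => (LinearMap.proj j) ∘ₗ i
  have hφmem : ∀ (j : Fin n) (k : ℕ) (x : M), x ∈ (I ^ k • ⊤ : Submodule A M) →
      φ j x ∈ (I ^ k • ⊤ : Submodule A A) := by
    intro j k x hx
    have : φ j x ∈ (I ^ k • (⊤ : Submodule A M)).map (φ j) := Submodule.mem_map_of_mem hx
    rw [Submodule.map_smul''] at this
    exact Submodule.smul_mono le_rfl le_top this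
  have hrecon : ∀ x : M, x = ∑ j, φ j x • r (Pi.single j 1) := by
    intro x
    have h1 : r (i x) = x := LinearMap.congr_fun hri x
    conv_lhs => rw [← h1]
    have h2 : i x = ∑ j, (i x) j • (Pi.single j 1 : Fin n → A) := by
      ext l
      simp [Finset.sum_apply, Pi.single_apply]
    conv_lhs => rw [h2]
    rw [map_sum]
    refine Finset.sum_congr rfl fun j _ => ?_
    rw [map_smul]; rfl
  refine { toIsHausdorff := ⟨?_⟩, toIsPrecomplete := ⟨?_⟩ }
  · intro x hx
    have hφ0 : ∀ j, φ j x = 0 := by
      intro j
      apply IsHausdorff.haus (inferInstance : IsHausdorff I A)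
      intro k
      rw [SModEq.zero]
      exact hφmem j k x (SModEq.zero.mp (hx k))
    rw [hrecon x]
    simp [hφ0]
  · intro f hf
    have hcauchy : ∀ j, ∃ a : A, ∀ k, φ j (f k) ≡ a [SMOD (I ^ k • ⊤ : Submodule A A)] := by
      intro j
      apply IsPrecomplete.prec (inferInstance : IsPrecomplete I A)
      intro m k hmk
      rw [SModEq.sub_mem, ← map_sub]
      exact hφmem j m _ (SModEq.sub_mem.mp (hf hmk))
    choose a ha using hcauchy
    refine ⟨∑ j, a j • r (Pi.single j 1), ?_⟩
    intro k
    rw [SModEq.sub_mem]
    rw [hrecon (f k), ← Finset.sum_sub_distrib]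
    refine Submodule.sum_mem _ fun j _ => ?_
    rw [← sub_smul]
    have h1 : φ j (f k) - a j ∈ (I ^ k • ⊤ : Submodule A A) := SModEq.sub_mem.mp (ha j k)
    have h2 : φ j (f k) - a j ∈ I ^ k := by
      rw [smul_eq_mul, Ideal.mul_top] at h1
      exact h1
    exact Submodule.smul_mem_smul h2 Submodule.mem_top

end Groth.Agent.S5078
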