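import Groth.Statements.S5080
import Groth.Agent.Lib.Helper19CKUnits
import Groth.Agent.Lib.Helper19CKSeq
import Groth.Agent.Lib.Helper7ComplKaehler

set_option autoImplicit false
universe u
open EGA418

namespace Groth.Agent.S5080

/-- Let k be a field, A a complete Noetherian local k-algebra with maximal ideal m whose residue field
is a finite extension of k, p a prime ideal distinct from m, Ω̂ the completion of the module of
differentials of A over k, and M the least number of generators of the A_p-module Ω̂_p. Then for
every family x_1, …, x_M of elements of m not in p there are units u_1, …, u_M of A such that the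
images in Ω̂_p of the differentials d(u_i x_i) generate Ω̂_p. -/
theorem result (k A : Type u) [Field k] [CommRing A]
    [IsLocalRing A] [IsNoetherianRing A] [Algebra k A] [IsAdicComplete (IsLocalRing.maximalIdeal A) A]
    [Module.Finite k (IsLocalRing.ResidueField A)] (p : Ideal A) [p.IsPrime] (hp : p ≠ IsLocalRing.maximalIdeal A)
    (M : ℕ) (hgen : ∃ s : Fin M → (LocalizedModule p.primeCompl (AdicCompletion (IsLocalRing.maximalIdeal A) (KaehlerDifferential k A))), Submodule.span (Localization.AtPrime p) (Set.range s) = ⊤)
    (hmin : ∀ (s : Finset (LocalizedModule p.primeCompl (AdicCompletion (IsLocalRing.maximalIdeal A) (KaehlerDifferential k A)))), Submodule.span (Localization.AtPrime p) (↑s : Set (LocalizedModule p.primeCompl (AdicCompletion (IsLocalRing.maximalIdeal A) (KaehlerDifferential k A)))) = ⊤ → M ≤ s.card)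
    (x : Fin M → A) (hx : ∀ i, x i ∈ IsLocalRing.maximalIdeal A ∧ x i ∉ p) :
    ∃ u : Fin M → Aˣ, Submodule.span (Localization.AtPrime p)
      (Set.range (fun i => LocalizedModule.mkLinearMap p.primeCompl (AdicCompletion (IsLocalRing.maximalIdeal A) (KaehlerDifferential k A)) (AdicCompletion.of (IsLocalRing.maximalIdeal A) (KaehlerDifferential k A) (KaehlerDifferential.D k A ((u i : A) * x i))))) = ⊤ := by
  haveI : Algebra.EssFiniteType k (IsLocalRing.ResidueField A) := inferInstance
  haveI : Module.Finite A (AdicCompletion (IsLocalRing.maximalIdeal A) (Ω[A⁄k])) :=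
    Groth.Agent.Lib.Helper7.ComplKaehler.finite_adicCompletion_kaehler
  let d : Derivation k A (AdicCompletion (IsLocalRing.maximalIdeal A) (Ω[A⁄k])) :=
    (AdicCompletion.of (IsLocalRing.maximalIdeal A) (Ω[A⁄k])).compDer (KaehlerDifferential.D k A)
  have hd : Submodule.span A (Set.range d) = ⊤ := by
    have hsurj := Groth.Agent.Lib.Helper19.CKSeq.of_surjective_of_finite
      (IsLocalRing.maximalIdeal A) (Ω[A⁄k])
      ((isNoetherianRing_iff_ideal_fg A).1 inferInstance _)
      (IsLocalRing.maximalIdeal_le_jacobson _)
    rw [eq_top_iff]
    rintro w -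
    obtain ⟨ω, rfl⟩ := hsurj w
    have hω : ω ∈ Submodule.span A (Set.range (KaehlerDifferential.D k A)) := by
      rw [KaehlerDifferential.span_range_derivation]; trivial
    induction hω using Submodule.span_induction with
    | mem x hx =>
      obtain ⟨a, rfl⟩ := hx
      exact Submodule.subset_span ⟨a, rfl⟩
    | zero => rw [map_zero]; exact zero_mem _
    | add x y _ _ hx hy => rw [map_add]; exact add_mem hx hy
    | smul c x _ hx => rw [map_smul]; exact Submodule.smul_mem _ _ hx
  have hM := Groth.Agent.Lib.Helper19.CKUnits.finrank_fibre_eq_of_min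
    (R := Localization.AtPrime p)
    (N := LocalizedModule p.primeCompl (AdicCompletion (IsLocalRing.maximalIdeal A) (Ω[A⁄k])))
    M hgen hmin
  exact Groth.Agent.Lib.Helper19.CKUnits.exists_units_span_eq_top p d hd M hM x
    (fun i => (hx i).2)

end Groth.Agent.S5080
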