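import Groth.Statements.S5081
import Mathlib.RingTheory.Kaehler.Basic

set_option autoImplicit false
universe u
open Unram

namespace Groth.Agent.S5081

/-- Let B be a finite A-algebra generated by a single element u and F a polynomial with coefficients in
A such that F(u) = 0. Then the ideal generated by F'(u) is contained in the annihilator of the
module of differentials of B over A, and equals it when the kernel of the surjection A[T] → B
sending T to u is generated by F. -/
theorem result (A B : Type u) [CommRing A] [CommRing B] [Algebra A B]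
    [Module.Finite A B] (u : B) (hu : Algebra.adjoin A ({u} : Set B) = ⊤) (F : Polynomial A) (hF : Polynomial.aeval u F = 0) :
    Ideal.span {Polynomial.aeval u (Polynomial.derivative F)} ≤ Module.annihilator B (KaehlerDifferential A B) ∧
      (RingHom.ker (Polynomial.aeval u : Polynomial A →ₐ[A] B) = Ideal.span {F} →
        Module.annihilator B (KaehlerDifferential A B) = Ideal.span {Polynomial.aeval u (Polynomial.derivative F)}) := by
  classical
  have hsurj : Function.Surjective (Polynomial.aeval u : Polynomial A →ₐ[A] B) := by
    intro b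
    have hb : b ∈ Algebra.adjoin A ({u} : Set B) := hu ▸ Algebra.mem_top
    rw [Algebra.adjoin_singleton_eq_range_aeval] at hb
    exact hb
  -- D b is a multiple of D u
  have hDu : ∀ b : B, ∃ c : B, KaehlerDifferential.D A B b = c • KaehlerDifferential.D A B u := by
    intro b
    obtain ⟨P, rfl⟩ := hsurj b
    exact ⟨_, Derivation.map_aeval _ P u⟩
  have hkill : Polynomial.aeval u (Polynomial.derivative F) • KaehlerDifferential.D A B u = 0 := by
    rw [← Derivation.map_aeval, hF, map_zero]
  have part1 : Ideal.span {Polynomial.aeval u (Polynomial.derivative F)} ≤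
      Module.annihilator B (KaehlerDifferential A B) := by
    rw [Ideal.span_singleton_le_iff_mem, Module.mem_annihilator]
    intro ω
    have hω : ω ∈ Submodule.span B (Set.range (KaehlerDifferential.D A B)) := by
      rw [KaehlerDifferential.span_range_derivation]; exact Submodule.mem_top
    induction hω using Submodule.span_induction with
    | mem x hx =>
      obtain ⟨b, rfl⟩ := hx
      obtain ⟨c, hc⟩ := hDu b
      rw [hc, smul_comm, hkill, smul_zero]
    | zero => exact smul_zero _
    | add x y _ _ hx hy => rw [smul_add, hx, hy, add_zero]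
    | smul r x _ hx => rw [smul_comm, hx, smul_zero]
  refine ⟨part1, fun hker => le_antisymm ?_ part1⟩
  -- construct a derivation B → B ⧸ (F'(u))
  set J : Ideal B := Ideal.span {Polynomial.aeval u (Polynomial.derivative F)} with hJ
  let δ : Polynomial A →ₗ[A] (B ⧸ J) :=
    ((Ideal.Quotient.mkₐ A J).toLinearMap ∘ₗ (Polynomial.aeval u : Polynomial A →ₐ[A] B).toLinearMap) ∘ₗ
      (Polynomial.derivative : Polynomial A →ₗ[A] Polynomial A)
  have hδ : ∀ P : Polynomial A, δ P = Ideal.Quotient.mk J (Polynomial.aeval u (Polynomial.derivative P)) :=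
    fun P => rfl
  have hδker : ∀ P : Polynomial A, Polynomial.aeval u P = 0 → δ P = 0 := by
    intro P hP
    have hPmem : P ∈ RingHom.ker (Polynomial.aeval u : Polynomial A →ₐ[A] B) := hP
    rw [hker, Ideal.mem_span_singleton] at hPmem
    obtain ⟨G, rfl⟩ := hPmem
    rw [hδ, Polynomial.derivative_mul, map_add, map_mul, map_mul, hF, zero_mul, add_zero,
      Ideal.Quotient.eq_zero_iff_mem]
    exact Ideal.mul_mem_right _ _ (Ideal.mem_span_singleton_self _)
  -- the induced map on B
  have hwd : ∀ P Q : Polynomial A, Polynomial.aeval u P = Polynomial.aeval u Q → δ P = δ Q := by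
    intro P Q hPQ
    have : δ (P - Q) = 0 := hδker _ (by rw [map_sub, hPQ, sub_self])
    rwa [map_sub, sub_eq_zero] at this
  let d₀fun : B → B ⧸ J := fun b => δ (Function.surjInv hsurj b)
  have hd₀ : ∀ P : Polynomial A, d₀fun (Polynomial.aeval u P) = δ P := by
    intro P
    exact hwd _ _ (Function.surjInv_eq hsurj _)
  let d₀ : B →ₗ[A] (B ⧸ J) :=
    { toFun := d₀fun
      map_add' := by
        intro b c
        obtain ⟨P, rfl⟩ := hsurj b
        obtain ⟨Q, rfl⟩ := hsurj c
        rw [← map_add, hd₀, hd₀, hd₀, map_add]
      map_smul' := by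
        intro a b
        obtain ⟨P, rfl⟩ := hsurj b
        rw [← map_smul, hd₀, hd₀, map_smul, RingHom.id_apply] }
  have hd₀' : ∀ P : Polynomial A, d₀ (Polynomial.aeval u P) = δ P := hd₀
  let d : Derivation A B (B ⧸ J) := Derivation.mk' d₀ (by
    intro b c
    obtain ⟨P, rfl⟩ := hsurj b
    obtain ⟨Q, rfl⟩ := hsurj c
    rw [← map_mul, hd₀', hd₀', hd₀', hδ, hδ, hδ, Polynomial.derivative_mul, map_add, map_mul,
      map_mul, map_add, map_mul, map_mul]
    simp only [Algebra.smul_def, Ideal.Quotient.algebraMap_eq]
    ring)
  intro b hb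
  rw [Module.mem_annihilator] at hb
  have h1 := hb (KaehlerDifferential.D A B u)
  have h2 := congrArg d.liftKaehlerDifferential h1
  rw [map_smul, map_zero, Derivation.liftKaehlerDifferential_comp_D] at h2
  have h3 : d u = 1 := by
    have : d u = d₀ (Polynomial.aeval u (Polynomial.X : Polynomial A)) := by
      rw [Polynomial.aeval_X]; rfl
    rw [this, hd₀', hδ, Polynomial.derivative_X, map_one, map_one]
  rw [h3, Algebra.smul_def, mul_one, Ideal.Quotient.algebraMap_eq,
    Ideal.Quotient.eq_zero_iff_mem] at h2
  exact h2

end Groth.Agent.S5081
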