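import Groth.Statements.S5082
import Groth.Agent.Lib.Helper20DivDepth
import Groth.Agent.Lib.Helper28DepthLoc
import Groth.Agent.S8898

set_option autoImplicit false
universe u
open CategoryTheory CategoryTheory.Limits AlgebraicGeometry TopologicalSpace
open Mero

namespace Groth.Agent.S5082

set_option linter.style.haveILetI false

open nonZeroDivisors Groth.Agent.Lib.Helper20.DivDepth Groth.Agent.Lib.Helper20.Kmod

section Alg

variable (A : Type u) [CommRing A] [IsNoetherianRing A] [IsLocalRing A]

/-- depth zero: every nonzerodivisor is a unit. -/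
theorem isUnit_of_depth_eq_zero (h : LocCoh.depth A A = 0) (t : A) (ht : t ∈ A⁰) : IsUnit t := by
  rw [Groth.Agent.Lib.Helper28.depth_eq_zero_iff] at h
  obtain ⟨hprime, z, hz⟩ := (isAssociatedPrime_iff).1 h
  by_contra hu
  have htm : t ∈ IsLocalRing.maximalIdeal A := (IsLocalRing.mem_maximalIdeal t).2 hu
  rw [hz, Submodule.mem_colon_singleton, Submodule.mem_bot, smul_eq_mul] at htm
  have hz0 : z = 0 := (mem_nonZeroDivisors_iff.1 ht).1 z htm
  have : (1 : A) ∈ IsLocalRing.maximalIdeal A := by
    rw [hz, Submodule.mem_colon_singleton, Submodule.mem_bot, hz0, smul_zero]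
  exact (IsLocalRing.maximalIdeal.isMaximal _).ne_top ((Ideal.eq_top_iff_one _).2 this)

/-- positive depth: a nonzerodivisor in the maximal ideal. -/
theorem exists_nzd_of_depth_ne_zero (h : LocCoh.depth A A ≠ 0) :
    ∃ t : A, t ∈ IsLocalRing.maximalIdeal A ∧ t ∈ A⁰ := by
  classical
  rw [Ne, Groth.Agent.Lib.Helper28.depth_eq_zero_iff] at h
  have hfin := associatedPrimes.finite A A
  by_contra hno
  apply h
  have hzd : ((IsLocalRing.maximalIdeal A : Set A) ⊆
      ⋃ p ∈ associatedPrimes A A, (p : Set A)) := by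
    intro t ht
    rw [biUnion_associatedPrimes_eq_compl_nonZeroDivisors, Set.mem_compl_iff]
    intro htn
    exact hno ⟨t, ht, htn⟩
  have hzd' : ((IsLocalRing.maximalIdeal A : Set A) ⊆
      ⋃ p ∈ (hfin.toFinset : Set (Ideal A)), ((id p : Ideal _) : Set A)) := by
    rw [Set.Finite.coe_toFinset]
    exact hzd
  obtain ⟨p, hp, hle⟩ := (Ideal.subset_union_prime (f := id) (⊥ : Ideal A) ⊥
    (fun i hi _ _ => ((Set.Finite.mem_toFinset hfin).1 hi).isPrime)).1 hzd'
  have hp' : IsAssociatedPrime p A := (Set.Finite.mem_toFinset hfin).1 hp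
  have : IsLocalRing.maximalIdeal A = p :=
    (IsLocalRing.maximalIdeal.isMaximal _).eq_of_le hp'.isPrime.ne_top hle
  rw [this]
  exact hp'

end Alg


section Geom

variable (A : Type u) [CommRing A] [IsNoetherianRing A] [IsLocalRing A]

local notation "X" => Spec (CommRingCat.of A)

/-- the ring isomorphism `Γ(Spec A, ⊤) ≃ A`. -/
noncomputable def φ : Γ(X, ⊤) ≃+* A :=
  (Scheme.ΓSpecIso (CommRingCat.of A)).commRingCatIsoToRingEquiv

theorem φ_apply (a : Γ(X, ⊤)) : φ A a = (Scheme.ΓSpecIso (CommRingCat.of A)).hom a := rfl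

theorem top_affine : IsAffineOpen (⊤ : (X).Opens) := isAffineOpen_top X

/-- the closed point, as a point of the scheme `Spec A`. -/
def x₀ : ↥(X) := (show PrimeSpectrum A from IsLocalRing.closedPoint A)

theorem eq_top_of_closedPoint_mem (U : (X).Opens) (h : x₀ A ∈ U) : U = ⊤ := by
  have := (IsLocalRing.closed_point_mem_iff (R := A) (U := (show Opens (PrimeSpectrum A) from U))).1 h
  exact this

theorem isUnit_germ_iff (a : Γ(X, ⊤)) :
    IsUnit ((X).presheaf.germ ⊤ (x₀ A) (Opens.mem_top _) a) ↔ IsUnit (φ A a) := by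
  rw [← Scheme.mem_basicOpen _ _ _ (Opens.mem_top _), basicOpen_eq_of_affine']
  change (IsLocalRing.closedPoint A) ∈ PrimeSpectrum.basicOpen _ ↔ _
  rw [PrimeSpectrum.mem_basicOpen, IsLocalRing.closedPoint, ← φ_apply]
  change φ A a ∉ IsLocalRing.maximalIdeal A ↔ _
  rw [IsLocalRing.mem_maximalIdeal, mem_nonunits_iff, Classical.not_not]


theorem isUnit_of_isUnit_φ (a : Γ(X, ⊤)) (h : IsUnit (φ A a)) : IsUnit a := by
  have := h.map (φ A).symm
  rwa [RingEquiv.symm_apply_apply] at this

end Geom

/-- Let A be a Noetherian local ring. Then the group of divisors of Spec A is trivial (every divisor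
equals the unit divisor, divisors being written multiplicatively) if and only if A has depth 0, that
is, if and only if every element of the maximal ideal of A is a zero-divisor. -/
theorem result (A : Type u) [CommRing A] [IsNoetherianRing A] [IsLocalRing A] :
    (∀ D : Mero.Divisor (Spec (CommRingCat.of A)), D = 1) ↔ LocCoh.depth A A = 0 := by
  constructor
  · intro hD
    by_contra h0
    obtain ⟨t, htm, htn⟩ := exists_nzd_of_depth_ne_zero A h0
    let t' : Γ(Spec (CommRingCat.of A), ⊤) := (φ A).symm t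
    have ht' : t' ∈ Γ(Spec (CommRingCat.of A), ⊤)⁰ := by
      rw [mem_nonZeroDivisors_iff_right]
      intro c hc
      have h1 : φ A c * t = 0 := by
        have := congrArg (φ A) hc
        rwa [map_mul, map_zero, RingEquiv.apply_symm_apply] at this
      have h2 := (mem_nonZeroDivisors_iff_right.1 htn) _ h1
      exact (φ A).injective (by rw [h2, map_zero])
    have hreg : t' ∈ regSub (Spec (CommRingCat.of A)) ⊤ :=
      fun y => Groth.Agent.S8898.germ_mem_nonZeroDivisors (top_affine A) t' ht' y
    have hone : (1 : Γ(Spec (CommRingCat.of A), ⊤)) ∈ regSub (Spec (CommRingCat.of A)) ⊤ :=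
      one_mem _
    let f : (Γ(kmod (Spec (CommRingCat.of A)), ⊤))ˣ := (isUnit_toK_of_mem_regSub hreg).unit
    have hab : (f : Γ(kmod (Spec (CommRingCat.of A)), ⊤)) * toK _ ⊤ 1 = toK _ ⊤ t' := by
      rw [map_one, mul_one]
      rfl
    have h1 := hD (Mero.div f)
    have h2 : (Mero.div f).1 (x₀ A) = 1 := by rw [h1]; rfl
    have h3 := mem_span_of_eq_one _ _ _ (germ_mem_regStalk ⟨x₀ A, Opens.mem_top _⟩ hone)
      (rep_apply t' 1 f hab ⟨x₀ A, Opens.mem_top _⟩) (Mero.div f) rfl h2
    obtain ⟨c, hc⟩ := Ideal.mem_span_singleton'.1 h3.2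
    rw [map_one] at hc
    have hu : IsUnit ((Spec (CommRingCat.of A)).presheaf.germ ⊤ (x₀ A) (Opens.mem_top _) t') :=
      IsUnit.of_mul_eq_one c (by rw [mul_comm]; exact hc)
    rw [isUnit_germ_iff] at hu
    have : φ A t' = t := RingEquiv.apply_symm_apply _ _
    rw [this] at hu
    exact (IsLocalRing.mem_maximalIdeal t).1 htm hu
  · intro h0 D
    apply Subtype.ext
    funext y
    obtain ⟨U, hU, hxU, a, b, ha, hb, f, hf, hab⟩ := exists_local_rep D (x₀ A)
    obtain rfl := eq_top_of_closedPoint_mem A U hxU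
    have hnz : ∀ c : Γ(Spec (CommRingCat.of A), ⊤), c ∈ Γ(Spec (CommRingCat.of A), ⊤)⁰ → IsUnit c := by
      intro c hc
      apply isUnit_of_isUnit_φ
      apply isUnit_of_depth_eq_zero A h0
      rw [mem_nonZeroDivisors_iff_right]
      intro e he
      have h1 : (φ A).symm e * c = 0 := by
        apply (φ A).injective
        rw [map_mul, RingEquiv.apply_symm_apply, map_zero, he]
      have h2 := (mem_nonZeroDivisors_iff_right.1 hc) _ h1
      have := congrArg (φ A) h2
      rwa [RingEquiv.apply_symm_apply, map_zero] at this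
    have hau := hnz a ha
    have hbu := hnz b hb
    have hbreg : b ∈ regSub (Spec (CommRingCat.of A)) ⊤ :=
      fun y => Groth.Agent.S8898.germ_mem_nonZeroDivisors (top_affine A) b hb y
    have hyU : y ∈ (⊤ : (Spec (CommRingCat.of A)).Opens) := Opens.mem_top _
    have hau' := hau.map ((Spec (CommRingCat.of A)).presheaf.germ ⊤ y hyU).hom
    have hbu' := hbu.map ((Spec (CommRingCat.of A)).presheaf.germ ⊤ y hyU).hom
    exact eq_one_of_mem_span _ _ _ (germ_mem_regStalk ⟨y, hyU⟩ hbreg)
      (rep_apply a b f hab ⟨y, hyU⟩) D (hf ⟨y, hyU⟩)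
      (Groth.Agent.S8898.germ_mem_nonZeroDivisors (top_affine A) a ha ⟨y, hyU⟩)
      (by rw [Ideal.span_singleton_eq_top.2 hbu']; trivial)
      (by rw [Ideal.span_singleton_eq_top.2 hau']; trivial)

end Groth.Agent.S5082
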