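import Groth.Statements.S5083
import Groth.Agent.Lib.Helper20ModOf

set_option autoImplicit false
universe u
open CategoryTheory CategoryTheory.Limits AlgebraicGeometry TopologicalSpace
open Mero

namespace Groth.Agent.S5083

open Groth.Agent.Lib.Helper20.Kmod Groth.Agent.Lib.Helper20.ModOf

variable {X : Scheme.{u}}

/-- multiplication by a family of units carries `O_X(D)` to `O_X(D')` when `D_x = [F_x] D'_x`. -/
theorem divLoc_pred_mul (D D' : Divisor X) (f : Γ(kmod X, ⊤))
    (F : ∀ x : X, (KStalk X x)ˣ) (hF : ∀ x : X, (F x : KStalk X x) = f.1 ⟨x, Opens.mem_top x⟩)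
    (hD : ∀ x : X, D.1 x = QuotientGroup.mk (F x) * D'.1 x)
    (U : X.Opens) (t : ∀ x : U, KStalk X x.1) (ht : (divLoc X D).pred t) :
    (divLoc X D').pred fun x => LinearMap.mulLeft (X.presheaf.stalk x.1) (F x.1 : KStalk X x.1) (t x) := by
  refine ⟨?_, fun x => ?_⟩
  · have h1 : (kLoc X).pred (fun x : U => f.1 ⟨x.1, Opens.mem_top x.1⟩) :=
      (kLoc X).res (homOfLE (le_top : U ≤ ⊤)) f.1 f.2
    have h2 := kLoc_mul X U _ _ h1 ht.1
    convert h2 using 2 with x
    simp only [LinearMap.mulLeft_apply, Pi.mul_apply, hF]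
  · intro g' hg'
    have h3 := ht.2 x (F x.1 * g') (by rw [hD, hg', QuotientGroup.mk_mul])
    simp only [LinearMap.mulLeft_apply]
    rw [Units.val_mul] at h3
    convert h3 using 1
    ring


/-- Let X be a scheme and D, D' divisors on X (global sections of the sheaf of units of K_X modulo units
of O_X, written multiplicatively). If D and D' are linearly equivalent, i.e. D · D'⁻¹ is the divisor
of a unit of the ring of global sections of K_X, then the O_X-modules O_X(D) and O_X(D') are
isomorphic. (The published statement is an equivalence: O_X(D) and O_X(D') are isomorphic if and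
only if D and D' are linearly equivalent; this row states only that linearly equivalent divisors
have isomorphic modules.) -/
theorem result (X : Scheme.{u}) (D D' : Mero.Divisor X) (h : Mero.LinEquiv D D') :
    Nonempty (Mero.divMod D ≅ Mero.divMod D') := by
  obtain ⟨f, hf⟩ := h
  let F : ∀ x : X, (KStalk X x)ˣ := fun x => Units.map (evalK X ⊤ ⟨x, Opens.mem_top x⟩).toMonoidHom f
  have hF : ∀ x : X, (F x : KStalk X x) = (f : Γ(kmod X, ⊤)).1 ⟨x, Opens.mem_top x⟩ := fun x => rfl
  have hFinv : ∀ x : X, (((F x)⁻¹ : (KStalk X x)ˣ) : KStalk X x) =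
      ((f⁻¹ : (Γ(kmod X, ⊤))ˣ) : Γ(kmod X, ⊤)).1 ⟨x, Opens.mem_top x⟩ := fun x => by
    rw [← map_inv]; rfl
  have hD : ∀ x : X, D.1 x = QuotientGroup.mk (F x) * D'.1 x := by
    intro x
    have h1 : (D * D'⁻¹).1 x = (div f).1 x := by rw [hf]
    have h2 : (D * D'⁻¹).1 x = D.1 x * (D'.1 x)⁻¹ := rfl
    have h3 : (div f).1 x = QuotientGroup.mk (F x) := rfl
    rw [h2, h3] at h1
    rw [← h1, inv_mul_cancel_right]
  have hD' : ∀ x : X, D'.1 x = QuotientGroup.mk (F x)⁻¹ * D.1 x := by
    intro x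
    rw [hD x, ← mul_assoc, ← QuotientGroup.mk_mul, inv_mul_cancel, QuotientGroup.mk_one]
    exact (one_mul (D'.1 x)).symm
  refine ⟨modOfIso (divLoc X D) (divLoc X D')
    (fun x => LinearMap.mulLeft (X.presheaf.stalk x) (F x : KStalk X x))
    (fun x => LinearMap.mulLeft (X.presheaf.stalk x) (((F x)⁻¹ : (KStalk X x)ˣ) : KStalk X x))
    (divLoc_pred_mul D D' f F hF hD)
    (divLoc_pred_mul D' D (f⁻¹ : (Γ(kmod X, ⊤))ˣ) (fun x => (F x)⁻¹) hFinv hD') ?_ ?_⟩
  · intro x t
    simp only [LinearMap.mulLeft_apply]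
    rw [← mul_assoc, ← Units.val_mul, inv_mul_cancel, Units.val_one, one_mul]
  · intro x t
    simp only [LinearMap.mulLeft_apply]
    rw [← mul_assoc, ← Units.val_mul, mul_inv_cancel, Units.val_one, one_mul]

end Groth.Agent.S5083
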