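import Groth.Statements.S8862
import Groth.Agent.Lib.Helper20EffCartier

set_option autoImplicit false
universe u
open CategoryTheory CategoryTheory.Limits AlgebraicGeometry TopologicalSpace
open SDiv

namespace Groth.Agent.S8862

set_option linter.style.haveILetI false
open nonZeroDivisors

theorem mem_nonZeroDivisors_of_notMem_minimalPrimes {R : Type*} [CommRing R] [IsReduced R] (β : R)
    (h : ∀ 𝔭 ∈ minimalPrimes R, β ∉ 𝔭) : β ∈ R⁰ := by
  rw [mem_nonZeroDivisors_iff_right]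
  intro y hy
  have h1 : y ∈ sInf (minimalPrimes R) := by
    rw [Ideal.mem_sInf]
    intro 𝔭 h𝔭
    haveI : 𝔭.IsPrime := h𝔭.1.1
    have : y * β ∈ 𝔭 := hy ▸ 𝔭.zero_mem
    exact (Ideal.IsPrime.mem_or_mem ‹_› this).resolve_right (h 𝔭 h𝔭)
  have h2 : sInf (minimalPrimes R) = ⊥ := by
    rw [minimalPrimes, Ideal.sInf_minimalPrimes]
    exact nilradical_eq_zero R
  rw [h2] at h1
  exact h1

/-- preimage of support under f, on an affine chart where the ideal is principal -/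
theorem mem_basicOpen_of_notMem_support {X Y : Scheme.{u}} (f : X ⟶ Y) (𝓘 : Y.IdealSheafData)
    (V : Y.affineOpens) (a : Γ(Y, V.1)) (hV : 𝓘.ideal V = Ideal.span {a}) {U : X.Opens}
    (hUV : U ≤ f ⁻¹ᵁ V.1) (ξ : X) (hξ : ξ ∈ U) (h : f ξ ∉ 𝓘.support) :
    ξ ∈ X.basicOpen ((f.appLE V.1 U hUV).hom a) := by
  rw [Scheme.IdealSheafData.mem_support_iff_of_mem (U := V) (hUV hξ), Scheme.mem_zeroLocus_iff] at h
  push Not at h
  obtain ⟨r, hr, hξr⟩ := h
  rw [hV, SetLike.mem_coe, Ideal.mem_span_singleton'] at hr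
  obtain ⟨c, rfl⟩ := hr
  rw [Scheme.basicOpen_mul] at hξr
  have h1 : ξ ∈ f ⁻¹ᵁ Y.basicOpen a := hξr.2
  rw [Scheme.preimage_basicOpen] at h1
  have h2 : (f.appLE V.1 U hUV).hom a = (X.presheaf.map (homOfLE hUV).op).hom ((f.app V.1).hom a) := rfl
  rw [h2, Scheme.basicOpen_res]
  exact ⟨hξ, h1⟩


/-- Let f : X ⟶ Y be a morphism of schemes with X reduced and 𝓘 the ideal sheaf of an effective Cartier
divisor D ⊆ Y. If f ξ ∉ D for every generic point ξ of an irreducible component of X (every point of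
X with no proper generization), then the inverse image ideal sheaf of 𝓘 on X is the ideal of an
effective Cartier divisor. -/
theorem result {X Y : Scheme.{u}} [IsReduced X] (f : X ⟶ Y) (𝓘 : Y.IdealSheafData)
    (hD : BlowUp.IsEffCartierIdeal 𝓘)
    (h : ∀ ξ : ↥X, (∀ y : ↥X, y ⤳ ξ → y = ξ) → f ξ ∉ 𝓘.support) :
    BlowUp.IsEffCartierIdeal (𝓘.comap f) := by
  intro x
  obtain ⟨V, hfxV, a, ha, hVI⟩ := hD (f x)
  obtain ⟨U, hU, hxU, hUV⟩ := exists_isAffineOpen_mem_and_subset (x := x) (U := f ⁻¹ᵁ V.1) hfxV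
  have key := Groth.Agent.Lib.Helper20.EffCartier.ideal_comap_eq_map f 𝓘 hU V.2 hUV
  have hVI' : 𝓘.ideal ⟨V.1, V.2⟩ = Ideal.span {a} := hVI
  rw [hVI', Ideal.map_span, Set.image_singleton] at key
  refine ⟨⟨U, hU⟩, hxU, _, ?_, key⟩
  apply mem_nonZeroDivisors_of_notMem_minimalPrimes
  intro 𝔭 h𝔭
  haveI : 𝔭.IsPrime := h𝔭.1.1
  let P : PrimeSpectrum Γ(X, U) := ⟨𝔭, inferInstance⟩
  let ξ : X := hU.fromSpec P
  have hξU : ξ ∈ U := hU.opensRange_fromSpec.le (show _ ∈ hU.fromSpec.opensRange from ⟨_, rfl⟩)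
  have hgen : ∀ y : X, y ⤳ ξ → y = ξ := by
    intro y hy
    have hyU : y ∈ U := hy.mem_open U.isOpen hξU
    obtain ⟨Q, rfl⟩ : y ∈ Set.range hU.fromSpec := by rw [hU.range_fromSpec]; exact hyU
    let Q' : PrimeSpectrum Γ(X, U) := Q
    have hQP : Q' ⤳ P :=
      (hU.fromSpec.isOpenEmbedding.isInducing.specializes_iff).1 hy
    have hle : Q' ≤ P := (PrimeSpectrum.le_iff_specializes Q' P).2 hQP
    have hle' : Q'.asIdeal ≤ 𝔭 := hle
    have h3 : 𝔭 ≤ Q'.asIdeal := h𝔭.2 ⟨Q'.isPrime, bot_le⟩ hle'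
    have hQeq : Q' = P := PrimeSpectrum.ext (le_antisymm hle' h3)
    change hU.fromSpec Q' = hU.fromSpec P
    rw [hQeq]
  have h1 := mem_basicOpen_of_notMem_support f 𝓘 V a hVI hUV ξ hξU (h ξ hgen)
  have h2 : P ∈ hU.fromSpec ⁻¹ᵁ X.basicOpen ((f.appLE V.1 U hUV).hom a) := h1
  rw [hU.fromSpec_preimage_basicOpen] at h2
  exact h2


end Groth.Agent.S8862
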