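import Groth.Statements.S5086
import Groth.Agent.Lib.Helper20Kmod4
import Groth.Agent.S8862
import Mathlib.RingTheory.Ideal.AssociatedPrime.Finiteness

set_option autoImplicit false
universe u
open CategoryTheory CategoryTheory.Limits AlgebraicGeometry TopologicalSpace
open Mero

namespace Groth.Agent.S5086

set_option linter.style.haveILetI false
open Groth.Agent.Lib.Helper20.Kmod Groth.Agent.Lib.Helper2.QCoh nonZeroDivisors

variable {X : Scheme.{u}}

/-- if `q ≤ p_y` then the point of `q` specializes to `y`. -/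
theorem fromSpec_specializes {W : X.Opens} (hW : IsAffineOpen W) (q : PrimeSpectrum Γ(X, W))
    (y : X) (hyW : y ∈ W) (hle : q.asIdeal ≤ (hW.primeIdealOf ⟨y, hyW⟩).asIdeal) :
    hW.fromSpec q ⤳ y := by
  have h1 : q ⤳ hW.primeIdealOf ⟨y, hyW⟩ := (PrimeSpectrum.le_iff_specializes _ _).1 hle
  have h2 := h1.map hW.fromSpec.continuous
  rwa [hW.fromSpec_primeIdealOf ⟨y, hyW⟩] at h2

/-- Noetherian case: a schematically dense open contains the associated points. -/
theorem exists_nzd_noeth {W : X.Opens} (hW : IsAffineOpen W) [IsNoetherianRing Γ(X, W)]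
    (V' : X.Opens) (hV'W : V' ≤ W)
    (hdense : ∀ r : Γ(X, W), (∀ (y : X) (hy : y ∈ V'), X.presheaf.germ W y (hV'W hy) r = 0) → r = 0) :
    ∃ b : Γ(X, W), b ∈ Γ(X, W)⁰ ∧ X.basicOpen b ≤ V' := by
  have hfin := associatedPrimes.finite Γ(X, W) Γ(X, W)
  let T' : Set (PrimeSpectrum Γ(X, W)) := {q | q.asIdeal ∈ associatedPrimes Γ(X, W) Γ(X, W)}
  have hT' : T'.Finite := hfin.preimage (fun q _ q' _ h => PrimeSpectrum.ext h)
  refine exists_nzd_basicOpen_le hW hT'.toFinset ?_ V' ?_
  · intro s hs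
    by_contra hns
    have h1 : s ∈ ((Γ(X, W)⁰ : Submonoid Γ(X, W)) : Set Γ(X, W))ᶜ := hns
    rw [← biUnion_associatedPrimes_eq_compl_nonZeroDivisors] at h1
    obtain ⟨p, hp, hsp⟩ := Set.mem_iUnion₂.1 h1
    exact hs ⟨p, hp.isPrime⟩ ((Set.Finite.mem_toFinset hT').2 hp) hsp
  · intro q hq
    rw [Set.Finite.mem_toFinset] at hq
    obtain ⟨_, z, hz⟩ := isAssociatedPrime_iff.1 hq
    by_contra htV
    have hz0 : z = 0 := by
      apply hdense
      intro y hy
      have hyW : y ∈ W := hV'W hy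
      have hnle : ¬ q.asIdeal ≤ (hW.primeIdealOf ⟨y, hyW⟩).asIdeal := by
        intro hle
        exact htV ((fromSpec_specializes hW q y hyW hle).mem_open V'.isOpen hy)
      obtain ⟨s, hsq, hsy⟩ := SetLike.not_le_iff_exists.1 hnle
      have hsz : s * z = 0 := by
        rw [hz, Submodule.mem_colon_singleton, Submodule.mem_bot, smul_eq_mul] at hsq
        exact hsq
      have hsu : IsUnit (X.presheaf.germ W y hyW s) := by
        rw [← Scheme.mem_basicOpen, Groth.Agent.Lib.Helper2.mem_basicOpen_iff_notMem_primeIdealOf hW y hyW]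
        exact hsy
      have h3 : X.presheaf.germ W y hyW s * X.presheaf.germ W y hyW z = 0 := by
        rw [← map_mul, hsz, map_zero]
      exact (hsu.mul_right_eq_zero).1 h3
    have htop : q.asIdeal = ⊤ := by
      rw [hz, hz0]
      ext r
      simp [Submodule.mem_colon_singleton]
    exact q.isPrime.ne_top htop

/-- reduced case with finitely many minimal primes: a schematically dense open contains the generic points. -/
theorem exists_nzd_reduced [IsReduced X] {W : X.Opens} (hW : IsAffineOpen W)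
    (hfin : (minimalPrimes Γ(X, W)).Finite)
    (V' : X.Opens) (hV'W : V' ≤ W)
    (hdense : ∀ r : Γ(X, W), (∀ (y : X) (hy : y ∈ V'), X.presheaf.germ W y (hV'W hy) r = 0) → r = 0) :
    ∃ b : Γ(X, W), b ∈ Γ(X, W)⁰ ∧ X.basicOpen b ≤ V' := by
  classical
  let T' : Set (PrimeSpectrum Γ(X, W)) := {q | q.asIdeal ∈ minimalPrimes Γ(X, W)}
  have hT' : T'.Finite := hfin.preimage (fun q _ q' _ h => PrimeSpectrum.ext h)
  refine exists_nzd_basicOpen_le hW hT'.toFinset ?_ V' ?_
  · intro s hs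
    apply Groth.Agent.S8862.mem_nonZeroDivisors_of_notMem_minimalPrimes
    intro 𝔭 h𝔭
    exact hs ⟨𝔭, h𝔭.1.1⟩ ((Set.Finite.mem_toFinset hT').2 h𝔭)
  · intro q hq
    rw [Set.Finite.mem_toFinset] at hq
    have hqmin : q.asIdeal ∈ minimalPrimes Γ(X, W) := hq
    by_contra htV
    -- a function vanishing on all other components but not at `q`
    have hex : ∃ h : Γ(X, W), h ∈ (hT'.toFinset.erase q).inf PrimeSpectrum.asIdeal ∧ h ∉ q.asIdeal := by
      by_contra hcon
      push Not at hcon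
      have hle : (hT'.toFinset.erase q).inf PrimeSpectrum.asIdeal ≤ q.asIdeal := hcon
      obtain ⟨q', hq', hq'le⟩ := (Ideal.IsPrime.inf_le' q.isPrime).1 hle
      rw [Finset.mem_erase] at hq'
      have : q.asIdeal ≤ q'.asIdeal := hqmin.2 ⟨q'.isPrime, bot_le⟩ hq'le
      exact hq'.1 (PrimeSpectrum.ext (le_antisymm hq'le this))
    obtain ⟨h, hh, hhq⟩ := hex
    have hh0 : h = 0 := by
      apply hdense
      intro y hy
      have hyW : y ∈ W := hV'W hy
      -- h restricted to V' vanishes at every point, hence is zero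
      have hres : X.presheaf.map (homOfLE hV'W).op h = 0 := by
        rw [← AlgebraicGeometry.basicOpen_eq_bot_iff, Scheme.basicOpen_res, eq_bot_iff]
        rintro y' ⟨hy'V, hy'h⟩
        have hy'W : y' ∈ W := hV'W hy'V
        obtain ⟨q'', hq''min, hq''le⟩ := Ideal.exists_minimalPrimes_le
          (bot_le : (⊥ : Ideal Γ(X, W)) ≤ (hW.primeIdealOf ⟨y', hy'W⟩).asIdeal)
        haveI : q''.IsPrime := hq''min.1.1
        let Q : PrimeSpectrum Γ(X, W) := ⟨q'', inferInstance⟩
        have hQne : Q ≠ q := by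
          rintro rfl
          exact htV ((fromSpec_specializes hW Q y' hy'W hq''le).mem_open V'.isOpen hy'V)
        have hQmem : Q ∈ hT'.toFinset.erase q :=
          Finset.mem_erase.2 ⟨hQne, (Set.Finite.mem_toFinset hT').2 hq''min⟩
        have hhQ : h ∈ Q.asIdeal := (Finset.inf_le hQmem : _ ≤ Q.asIdeal) hh
        have hy'h' : y' ∈ X.basicOpen h := hy'h
        rw [Groth.Agent.Lib.Helper2.mem_basicOpen_iff_notMem_primeIdealOf hW y' hy'W] at hy'h'
        exact hy'h' (hq''le hhQ)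
      have := congrArg (X.presheaf.germ V' y hy) hres
      rwa [TopCat.Presheaf.germ_res_apply, map_zero] at this
    exact hhq (hh0 ▸ zero_mem _)

theorem closure_mem_irreducibleComponents_of_isMax (t : X) (ht : ∀ y : X, y ⤳ t → y = t) :
    closure ({t} : Set X) ∈ irreducibleComponents X := by
  refine ⟨isIrreducible_singleton.closure, ?_⟩
  intro Z hZ hle
  have hZc : IsIrreducible (closure Z) := hZ.closure
  let z := hZc.genericPoint
  have hz : IsGenericPoint z (closure Z) := hZc.isGenericPoint_genericPoint isClosed_closure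
  have htZ : t ∈ closure Z := subset_closure (hle (subset_closure (Set.mem_singleton _)))
  have hzt : z ⤳ t := by
    refine specializes_iff_mem_closure.2 ?_
    rw [hz.def]
    exact htZ
  have hzeq : z = t := ht _ hzt
  have h1 : closure Z = closure {t} := by rw [← hz.def, hzeq]
  exact subset_closure.trans h1.le

theorem finite_minimalPrimes_of_locallyFinite {W : X.Opens} (hW : IsAffineOpen W) (N : X.Opens)
    (hWN : W ≤ N)
    (hN : {Z : Set X | Z ∈ irreducibleComponents X ∧ (Z ∩ (N : Set X)).Nonempty}.Finite) :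
    (minimalPrimes Γ(X, W)).Finite := by
  classical
  let φ : Ideal Γ(X, W) → Set X := fun q =>
    if h : q.IsPrime then closure {hW.fromSpec ⟨q, h⟩} else ∅
  have hmax : ∀ q : PrimeSpectrum Γ(X, W), q.asIdeal ∈ minimalPrimes Γ(X, W) →
      ∀ y : X, y ⤳ hW.fromSpec q → y = hW.fromSpec q := by
    intro q hq y hy
    have htW : hW.fromSpec q ∈ W := fromSpec_mem hW q
    have hyW : y ∈ W := hy.mem_open W.isOpen htW
    have hle := primeIdealOf_le_of_specializes hW (hW.fromSpec q) y htW hyW hy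
    rw [primeIdealOf_fromSpec hW q] at hle
    have hge : q.asIdeal ≤ (hW.primeIdealOf ⟨y, hyW⟩).asIdeal :=
      hq.2 ⟨(hW.primeIdealOf ⟨y, hyW⟩).isPrime, bot_le⟩ hle
    have heq : hW.primeIdealOf ⟨y, hyW⟩ = q := PrimeSpectrum.ext (le_antisymm hle hge)
    rw [← heq, hW.fromSpec_primeIdealOf ⟨y, hyW⟩]
  refine Set.Finite.of_injOn (f := φ) ?_ ?_ hN
  · intro q hq
    have hqp : q.IsPrime := hq.1.1
    simp only [φ, dif_pos hqp]
    refine ⟨closure_mem_irreducibleComponents_of_isMax _ (hmax ⟨q, hqp⟩ hq), hW.fromSpec ⟨q, hqp⟩,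
      subset_closure (Set.mem_singleton _), hWN (fromSpec_mem hW ⟨q, hqp⟩)⟩
  · intro q hq q' hq' heq
    have hqp : q.IsPrime := hq.1.1
    have hq'p : q'.IsPrime := hq'.1.1
    simp only [φ, dif_pos hqp, dif_pos hq'p] at heq
    have h1 : hW.fromSpec ⟨q, hqp⟩ = hW.fromSpec ⟨q', hq'p⟩ :=
      ((inseparable_iff_closure_eq).2 heq).eq
    have h2 := hW.fromSpec.isOpenEmbedding.injective h1
    exact congrArg PrimeSpectrum.asIdeal h2

/-- two meromorphic functions on `W ⊆ U` agreeing at the points of the schematically dense `V` are equal. -/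
theorem eq_of_eq_on_dense (U V : X.Opens)
    (hV : ∀ W : X.Opens, W ≤ U →
      Function.Injective ⇑(X.presheaf.map (homOfLE (inf_le_left : W ⊓ V ≤ W)).op))
    {W : X.Opens} (hWU : W ≤ U) (s1 s2 : Γ(Mero.kmod X, W))
    (h : ∀ y : W, y.1 ∈ V → s1.1 y = s2.1 y) : s1 = s2 := by
  refine Groth.Agent.S5085.result X W (W ⊓ V) inf_le_left ?_ ?_
  · intro W1 hW1
    refine (injective_iff_map_eq_zero
      ((X.presheaf.map (homOfLE (inf_le_left : W1 ⊓ (W ⊓ V) ≤ W1)).op).hom)).2 ?_
    intro r hr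
    apply hV W1 (hW1.trans hWU)
    rw [map_zero]
    apply TopCat.Presheaf.section_ext X.sheaf
    intro y hy
    change X.presheaf.germ (W1 ⊓ V) y hy (X.presheaf.map _ r) = X.presheaf.germ (W1 ⊓ V) y hy 0
    rw [map_zero, TopCat.Presheaf.germ_res_apply]
    have hy' : y ∈ W1 ⊓ (W ⊓ V) := ⟨hy.1, hW1 hy.1, hy.2⟩
    have h1 : X.presheaf.germ (W1 ⊓ (W ⊓ V)) y hy'
        (X.presheaf.map (homOfLE (inf_le_left : W1 ⊓ (W ⊓ V) ≤ W1)).op r) = 0 := by
      rw [show X.presheaf.map (homOfLE (inf_le_left : W1 ⊓ (W ⊓ V) ≤ W1)).op r = 0 from hr, map_zero]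
    rwa [TopCat.Presheaf.germ_res_apply] at h1
  · apply kmod_ext
    intro y
    exact h ⟨y.1, y.2.1⟩ y.2.2

/-- local step: near every point of `U` the function `g` on `V` extends to a meromorphic function on an affine open. -/
theorem exists_local_extension
    (hX : IsLocallyNoetherian X ∨ (IsReduced X ∧ ∀ x : ↥X, ∃ W : X.Opens, x ∈ W ∧
      {Z : Set ↥X | Z ∈ irreducibleComponents ↥X ∧ (Z ∩ (W : Set ↥X)).Nonempty}.Finite))
    (U V : X.Opens)
    (hV : ∀ W : X.Opens, W ≤ U →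
      Function.Injective ⇑(X.presheaf.map (homOfLE (inf_le_left : W ⊓ V ≤ W)).op))
    (g : Γ(X, V)) (x : X) (hxU : x ∈ U) :
    ∃ (W : X.Opens) (_ : x ∈ W) (_ : W ≤ U) (s : Γ(Mero.kmod X, W)),
      ∀ (y : X) (hyW : y ∈ W) (hyV : y ∈ V),
        s.1 ⟨y, hyW⟩ = LocalizedModule.mk (X.presheaf.germ V y hyV g) 1 := by
  -- choose the affine open
  obtain ⟨W, hW, hxW, hWU, hnzd⟩ : ∃ (W : X.Opens) (hW : IsAffineOpen W), x ∈ W ∧ W ≤ U ∧
      ∀ (V' : X.Opens) (hV'W : V' ≤ W), (∀ r : Γ(X, W),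
        (∀ (y : X) (hy : y ∈ V'), X.presheaf.germ W y (hV'W hy) r = 0) → r = 0) →
        ∃ b : Γ(X, W), b ∈ Γ(X, W)⁰ ∧ X.basicOpen b ≤ V' := by
    rcases hX with hN | ⟨hR, hlf⟩
    · obtain ⟨W, hW, hxW, hWU⟩ :=
        (TopologicalSpace.Opens.isBasis_iff_nbhd.mp X.isBasis_affineOpens) hxU
      haveI : IsNoetherianRing Γ(X, W) := IsLocallyNoetherian.component_noetherian ⟨W, hW⟩
      exact ⟨W, hW, hxW, hWU, fun V' hV'W hd => exists_nzd_noeth hW V' hV'W hd⟩
    · obtain ⟨N, hxN, hNfin⟩ := hlf x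
      obtain ⟨W, hW, hxW, hWle⟩ :=
        (TopologicalSpace.Opens.isBasis_iff_nbhd.mp X.isBasis_affineOpens)
          (show x ∈ U ⊓ N from ⟨hxU, hxN⟩)
      have hfin := finite_minimalPrimes_of_locallyFinite hW N (hWle.trans inf_le_right) hNfin
      exact ⟨W, hW, hxW, hWle.trans inf_le_left,
        fun V' hV'W hd => exists_nzd_reduced hW hfin V' hV'W hd⟩
  have hdense : ∀ r : Γ(X, W),
      (∀ (y : X) (hy : y ∈ W ⊓ V), X.presheaf.germ W y hy.1 r = 0) → r = 0 := by
    intro r hr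
    apply hV W hWU
    rw [map_zero]
    apply TopCat.Presheaf.section_ext X.sheaf
    intro y hy
    change X.presheaf.germ (W ⊓ V) y hy (X.presheaf.map _ r) = X.presheaf.germ (W ⊓ V) y hy 0
    rw [map_zero, TopCat.Presheaf.germ_res_apply]
    exact hr y hy
  obtain ⟨b, hb, hbV⟩ := hnzd (W ⊓ V) inf_le_left hdense
  have hbreg : b ∈ Mero.regSub X W := fun y =>
    Groth.Agent.S8898.germ_mem_nonZeroDivisors hW b hb y
  obtain ⟨s, hs⟩ := exists_kmod_extension hW b hbreg (W ⊓ V) inf_le_left hbV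
    (X.presheaf.map (homOfLE (inf_le_right : W ⊓ V ≤ V)).op g)
  refine ⟨W, hxW, hWU, s, fun y hyW hyV => ?_⟩
  have h1 : ((Mero.kmod X).presheaf.map (homOfLE (inf_le_left : W ⊓ V ≤ W)).op s).1 ⟨y, hyW, hyV⟩ =
      s.1 ⟨y, hyW⟩ := rfl
  rw [← h1, hs, Mero.toK_apply]
  exact Mero.mk_congr (TopCat.Presheaf.germ_res_apply X.presheaf _ y _ g) rfl


/-- Let X be a scheme which is either locally Noetherian, or reduced with locally finite set of
irreducible components (every point has an open neighbourhood meeting only finitely many irreducible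
components). Let U be an open subset, V an open subset of U schematically dense in U (restriction of
functions from every open W ⊆ U to W ∩ V is injective) and g a function on V. Then there is a
section of the sheaf of meromorphic functions K_X over U whose restriction to V is g/1; with part
(i), meromorphic functions over U are exactly the pseudo-functions on U. -/
theorem result (X : Scheme.{u})
    (hX : IsLocallyNoetherian X ∨ (IsReduced X ∧ ∀ x : ↥X, ∃ W : X.Opens, x ∈ W ∧
      {Z : Set ↥X | Z ∈ irreducibleComponents ↥X ∧ (Z ∩ (W : Set ↥X)).Nonempty}.Finite))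
    (U V : X.Opens) (hVU : V ≤ U)
    (hV : ∀ W : X.Opens, W ≤ U →
      Function.Injective ⇑(X.presheaf.map (homOfLE (inf_le_left : W ⊓ V ≤ W)).op))
    (g : Γ(X, V)) :
    ∃ s : Γ(Mero.kmod X, U), (Mero.kmod X).presheaf.map (homOfLE hVU).op s = Mero.toK X V g := by
  choose W hxW hWU s hs using fun x : U => exists_local_extension hX U V hV g x.1 x.2
  -- compatibility on overlaps
  have hcompat : ∀ (x x' : U) (y : X) (hy : y ∈ W x) (hy' : y ∈ W x'),
      (s x).1 ⟨y, hy⟩ = (s x').1 ⟨y, hy'⟩ := by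
    intro x x' y hy hy'
    let W12 : X.Opens := W x ⊓ W x'
    let s1 : Γ(Mero.kmod X, W12) :=
      (Mero.kmod X).presheaf.map (homOfLE (inf_le_left : W12 ≤ W x)).op (s x)
    let s2 : Γ(Mero.kmod X, W12) :=
      (Mero.kmod X).presheaf.map (homOfLE (inf_le_right : W12 ≤ W x')).op (s x')
    have h12 : s1 = s2 := by
      refine eq_of_eq_on_dense U V hV (inf_le_left.trans (hWU x)) s1 s2 ?_
      intro z hzV
      change (s x).1 ⟨z.1, z.2.1⟩ = (s x').1 ⟨z.1, z.2.2⟩
      rw [hs x z.1 z.2.1 hzV, hs x' z.1 z.2.2 hzV]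
    have := congrArg (fun t : Γ(Mero.kmod X, W12) => t.1 ⟨y, hy, hy'⟩) h12
    exact this
  -- the glued section
  let σ : ∀ y : U, Mero.KStalk X y.1 := fun y => (s y).1 ⟨y.1, hxW y⟩
  have hσ : (Mero.kLoc X).pred σ := by
    intro y
    obtain ⟨W', hyW', hW'W, a, b, hfrac⟩ := exists_local_frac (s y) ⟨y.1, hxW y⟩
    refine ⟨W', hyW', homOfLE (hW'W.trans (hWU y)), a, b, fun y' => ?_⟩
    change (s ⟨y'.1, _⟩).1 ⟨y'.1, _⟩ = _
    rw [hcompat ⟨y'.1, (hW'W.trans (hWU y)) y'.2⟩ y y'.1 (hxW _) (hW'W y'.2)]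
    exact hfrac y'
  refine ⟨⟨σ, hσ⟩, ?_⟩
  apply kmod_ext
  intro y
  change (s ⟨y.1, hVU y.2⟩).1 ⟨y.1, _⟩ = _
  rw [hs ⟨y.1, hVU y.2⟩ y.1 (hxW _) y.2, Mero.toK_apply]

end Groth.Agent.S5086
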