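import Groth.Statements.S5087
import Groth.Agent.Lib.Helper20MeroDivIso
import Groth.Agent.S8863

set_option autoImplicit false
universe u
open CategoryTheory CategoryTheory.Limits AlgebraicGeometry TopologicalSpace
open Mero

namespace Groth.Agent.S5087

set_option linter.style.haveILetI false

open Groth.Agent.Lib.Helper20.MeroDivIso Groth.Agent.Lib.Helper20.Kmod

variable {X : Scheme.{u}} (D : Divisor X)

/-- a local denominator of the divisor `D`: a regular section `b` with `b ∈ O_X(D)`. -/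
structure Den where
  /-- the open -/
  U : X.Opens
  /-- the denominator -/
  b : Γ(X, U)
  hb : b ∈ regSub X U
  hd : ∀ y : U, DivCond D y.1 ((toK X U b).1 y)

variable {D}

/-- the section `b` of `O_X(D)`. -/
noncomputable def Den.sec (d : Den D) : Γ(divMod D, d.U) :=
  ⟨(toK X d.U d.b).1, ⟨(toK X d.U d.b).2, d.hd⟩⟩

theorem Den.sec_apply (d : Den D) (y : d.U) :
    d.sec.1 y = LocalizedModule.mk (X.presheaf.germ d.U y.1 y.2 d.b) 1 := rfl

variable (D) in
theorem exists_den (x : X) : ∃ d : Den D, x ∈ d.U := by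
  obtain ⟨U, hx, f, hf⟩ := D.2 x
  obtain ⟨V, hxV, i, a, b, hab⟩ := f.1.2 ⟨x, hx⟩
  refine ⟨⟨V, b.1, b.2, ?_⟩, hxV⟩
  intro y g hg
  have h1 := hf ⟨y.1, i.le y.2⟩
  rw [hg] at h1
  have h2 := QuotientGroup.eq.1 h1
  obtain ⟨w, hw⟩ := h2
  have hw' : algebraMap (X.presheaf.stalk y.1) (KStalk X y.1) w =
      ((g⁻¹ : (KStalk X y.1)ˣ) : KStalk X y.1) * f.1.1 ⟨y.1, i.le y.2⟩ := by
    have := congrArg Units.val hw
    rw [Units.val_mul] at this
    exact this
  have hf' : f.1.1 ⟨y.1, i.le y.2⟩ =
      LocalizedModule.mk (X.presheaf.germ V y.1 y.2 a) (regGerm y b) := hab y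
  refine ⟨X.presheaf.germ V y.1 y.2 a * ((w⁻¹ : (X.presheaf.stalk y.1)ˣ) : X.presheaf.stalk y.1), ?_⟩
  have h3 : (g : KStalk X y.1) * algebraMap (X.presheaf.stalk y.1) (KStalk X y.1) w =
      f.1.1 ⟨y.1, i.le y.2⟩ := by
    rw [hw', ← mul_assoc, Units.mul_inv, one_mul]
  have h4 : (toK X V b.1).1 y * f.1.1 ⟨y.1, i.le y.2⟩ =
      algebraMap (X.presheaf.stalk y.1) (KStalk X y.1) (X.presheaf.germ V y.1 y.2 a) := by
    rw [hf', toK_apply, Groth.Agent.S10856.algebraMap_eq_mk]
    refine LocalizedModule.mk_mul_mk.trans ?_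
    rw [LocalizedModule.mk_eq]
    refine ⟨1, ?_⟩
    simp only [one_smul, Submonoid.smul_def, smul_eq_mul, one_mul]
  rw [map_mul, ← h4, ← h3]
  have h5 : algebraMap (X.presheaf.stalk y.1) (KStalk X y.1) w *
      algebraMap (X.presheaf.stalk y.1) (KStalk X y.1)
        ((w⁻¹ : (X.presheaf.stalk y.1)ˣ) : X.presheaf.stalk y.1) = 1 := by
    rw [← map_mul, Units.mul_inv, map_one]
  rw [mul_assoc, mul_assoc, h5, mul_one]

theorem divMod_smul_apply {U : X.Opens} (r : Γ(X, U)) (f : Γ(divMod D, U)) (x : U) :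
    (r • f).1 x = X.presheaf.germ U x.1 x.2 r • f.1 x := rfl

theorem divMod_map_apply {U V : X.Opens} (i : V ⟶ U) (f : Γ(divMod D, U)) (x : V) :
    ((divMod D).presheaf.map i.op f).1 x = f.1 ⟨x.1, i.le x.2⟩ := rfl

theorem divMod_ext {U : X.Opens} {f g : Γ(divMod D, U)} (h : ∀ x : U, f.1 x = g.1 x) : f = g :=
  Subtype.ext (funext h)

/-- morphisms of modules commute with restriction. -/
theorem app_map {F G : X.Modules} (ψ : F ⟶ G) {V U : X.Opens} (i : V ⟶ U) (x : Γ(F, U)) :
    ψ.app V (F.presheaf.map i.op x) = G.presheaf.map i.op (ψ.app U x) := by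
  have h1 := ψ.mapPresheaf.naturality i.op
  exact ConcreteCategory.congr_hom h1 x

variable {L : X.Modules} (e : L ≅ divMod D)

/-- the section of `L` corresponding to `b`. -/
noncomputable def Den.m (d : Den D) : Γ(L, d.U) := e.inv.app d.U d.sec

/-- the value at `y` of the meromorphic section "1". -/
noncomputable def Den.val (d : Den D) (y : X) (hy : y ∈ d.U) : MStalk L y :=
  LocalizedModule.mk (L.presheaf.germ d.U y hy (d.m e)) (regGerm (⟨y, hy⟩ : d.U) ⟨d.b, d.hb⟩)

theorem Den.cross (d d' : Den D) :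
    X.presheaf.map (homOfLE (inf_le_right : d.U ⊓ d'.U ≤ d'.U)).op d'.b •
      L.presheaf.map (homOfLE (inf_le_left : d.U ⊓ d'.U ≤ d.U)).op (d.m e) =
    X.presheaf.map (homOfLE (inf_le_left : d.U ⊓ d'.U ≤ d.U)).op d.b •
      L.presheaf.map (homOfLE (inf_le_right : d.U ⊓ d'.U ≤ d'.U)).op (d'.m e) := by
  unfold Den.m
  rw [← app_map, ← app_map, ← Scheme.Modules.Hom.app_smul, ← Scheme.Modules.Hom.app_smul]
  congr 1
  apply divMod_ext
  intro y
  rw [divMod_smul_apply, divMod_smul_apply, divMod_map_apply, divMod_map_apply, Den.sec_apply,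
    Den.sec_apply, TopCat.Presheaf.germ_res_apply, TopCat.Presheaf.germ_res_apply]
  rw [LocalizedModule.smul'_mk, LocalizedModule.smul'_mk, smul_eq_mul, smul_eq_mul, mul_comm]

theorem Den.val_eq (d d' : Den D) (y : X) (hy : y ∈ d.U) (hy' : y ∈ d'.U) :
    d.val e y hy = d'.val e y hy' := by
  unfold Den.val
  rw [LocalizedModule.mk_eq]
  refine ⟨1, ?_⟩
  rw [one_smul, one_smul]
  change X.presheaf.germ d'.U y hy' d'.b • L.presheaf.germ d.U y hy (d.m e) =
    X.presheaf.germ d.U y hy d.b • L.presheaf.germ d'.U y hy' (d'.m e)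
  have hyV : y ∈ d.U ⊓ d'.U := ⟨hy, hy'⟩
  have := congrArg (L.presheaf.germ (d.U ⊓ d'.U) y hyV) (Den.cross e d d')
  rw [Mero.germ_smul, Mero.germ_smul, TopCat.Presheaf.germ_res_apply,
    TopCat.Presheaf.germ_res_apply, TopCat.Presheaf.germ_res_apply,
    TopCat.Presheaf.germ_res_apply] at this
  exact this

theorem hom_inv_app {M N : X.Modules} (e : M ≅ N) (U : X.Opens) (t : Γ(N, U)) :
    e.hom.app U (e.inv.app U t) = t := by
  have h : (e.inv ≫ e.hom).app U = 𝟙 _ := by rw [e.inv_hom_id]; rfl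
  exact ConcreteCategory.congr_hom h t

/-- an invertible module isomorphic to `O_X(D)` has a regular meromorphic section. -/
theorem hasRegularMero_of_iso (e : L ≅ divMod D) : HasRegularMero L := by
  classical
  choose d hd using exists_den D
  let σ : ∀ x : (⊤ : X.Opens), MStalk L x.1 := fun x => (d x.1).val e x.1 (hd x.1)
  have hσ : (mLoc L).pred σ := by
    intro x
    refine ⟨(d x.1).U, hd x.1, homOfLE le_top, (d x.1).m e, ⟨(d x.1).b, (d x.1).hb⟩, fun y => ?_⟩
    exact Den.val_eq e (d y.1) (d x.1) y.1 (hd y.1) y.2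
  refine ⟨⟨σ, hσ⟩, ?_⟩
  intro x q hq
  change q • (d x).val e x (hd x) = 0 at hq
  induction q using Localization.induction_on with
  | H cd =>
    obtain ⟨c, r⟩ := cd
    unfold Den.val at hq
    rw [LocalizedModule.mk_smul_mk, ← LocalizedModule.zero_mk (1 : regStalk X x),
      LocalizedModule.mk_eq] at hq
    obtain ⟨e', he'⟩ := hq
    rw [smul_zero, smul_zero, one_smul] at he'
    have h1 : (e'.1 * c) • L.presheaf.germ (d x).U x (hd x) ((d x).m e) = 0 := by
      rw [mul_smul]; exact he'
    obtain ⟨W₀, hxW₀, r₀, hr₀⟩ := X.presheaf.exists_germ_eq (e'.1 * c)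
    set V : X.Opens := W₀ ⊓ (d x).U with hV
    have hxV : x ∈ V := ⟨hxW₀, hd x⟩
    set r₁ : Γ(X, V) := X.presheaf.map (homOfLE (inf_le_left : V ≤ W₀)).op r₀ with hr₁
    set m₁ : Γ(L, V) := L.presheaf.map (homOfLE (inf_le_right : V ≤ (d x).U)).op ((d x).m e)
      with hm₁
    have h2 : L.presheaf.germ V x hxV (r₁ • m₁) = 0 := by
      rw [Mero.germ_smul, hr₁, hm₁, TopCat.Presheaf.germ_res_apply,
        TopCat.Presheaf.germ_res_apply, hr₀]
      exact h1
    rw [← map_zero (L.presheaf.germ V x hxV).hom] at h2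
    obtain ⟨V', hxV', i₁, i₂, h3⟩ := TopCat.Presheaf.germ_eq L.presheaf x hxV hxV _ _ h2
    have h4 : (divMod D).presheaf.map i₁.op (r₁ • (divMod D).presheaf.map
        (homOfLE (inf_le_right : V ≤ (d x).U)).op (d x).sec) = 0 := by
      have h5 := congrArg (e.hom.app V') h3
      rw [map_zero, map_zero, app_map, Scheme.Modules.Hom.app_smul, hm₁, app_map] at h5
      unfold Den.m at h5
      rw [hom_inv_app] at h5
      exact h5
    have h6 := congrArg (fun t : Γ(divMod D, V') => t.1 ⟨x, hxV'⟩) h4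
    simp only at h6
    rw [divMod_map_apply, divMod_smul_apply, divMod_map_apply, Den.sec_apply, hr₁,
      TopCat.Presheaf.germ_res_apply, hr₀, LocalizedModule.smul'_mk] at h6
    have h7 : (e'.1 * c) • X.presheaf.germ (d x).U x (hd x) (d x).b = 0 :=
      (mk_eq_zero_iff _ _).1 h6
    rw [smul_eq_mul, mul_assoc] at h7
    have h8 : c * X.presheaf.germ (d x).U x (hd x) (d x).b = 0 :=
      (mul_left_mem_nonZeroDivisors_eq_zero_iff (regStalk_le_nonZeroDivisors x e'.2)).1 h7
    have hc : c = 0 := (mul_right_mem_nonZeroDivisors_eq_zero_iff ((d x).hb ⟨x, hd x⟩)).1 h8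
    rw [hc, Localization.mk_zero]

/-- For a locally Noetherian scheme X (so that at every point the germs of regular functions are all the
non-zero-divisors of the local ring, and a regular meromorphic section of an invertible module is
locally a unit of K_X times a generator): an invertible O_X-module L is isomorphic to O_X(D) for
some divisor D on X if and only if L has a regular meromorphic section. (The published statement is
for an arbitrary scheme, with regular meromorphic sections defined through local trivialisations;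
this row assumes X locally Noetherian, where that notion agrees with the stalkwise one used here.) -/
theorem result (X : Scheme.{u}) [IsLocallyNoetherian X] (L : X.Modules)
    (hL : PicF.IsInvertible L) :
    (∃ D : Mero.Divisor X, Nonempty (L ≅ Mero.divMod D)) ↔ Mero.HasRegularMero L := by
  constructor
  · rintro ⟨D, ⟨e⟩⟩
    exact hasRegularMero_of_iso e
  · rintro ⟨s, hs⟩
    exact exists_iso_divMod ⟨Groth.Agent.S8863.result X, hL, hs⟩

end Groth.Agent.S5087
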