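import Groth.Statements.S5088
import Groth.Agent.Lib.Helper20MeroDivIso
import Groth.Agent.Lib.Helper20WeakAss
import Groth.Agent.S8863

set_option autoImplicit false
universe u
open CategoryTheory CategoryTheory.Limits AlgebraicGeometry TopologicalSpace
open Mero

namespace Groth.Agent.S5088

set_option linter.style.haveILetI false

open Groth.Agent.Lib.Helper20.WeakAss Groth.Agent.Lib.Helper20.MeroDivIso

/-- Case a): let X be a locally Noetherian scheme such that the set of associated points of O_X (the
points x such that the maximal ideal of O_{X,x} is an associated prime of O_{X,x}) is contained in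
an affine open subset of X. Then every invertible O_X-module is isomorphic to O_X(D) for some
divisor D on X; in other words the canonical homomorphism Div(X) → Pic(X) is surjective and Pic(X)
is the group of divisors modulo linear equivalence. -/
theorem result (X : Scheme.{u}) [IsLocallyNoetherian X]
    (hX : ∃ W : X.Opens, IsAffineOpen W ∧ ∀ x : ↥X,
      IsAssociatedPrime (IsLocalRing.maximalIdeal ↑(X.presheaf.stalk x)) ↑(X.presheaf.stalk x) → x ∈ W)
    (L : X.Modules) (hL : PicF.IsInvertible L) :
    ∃ D : Mero.Divisor X, Nonempty (L ≅ Mero.divMod D) := by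
  obtain ⟨W, hW, hWass⟩ := hX
  have hWA : ∀ x : X, WA x → x ∈ W := fun x hx => hWass x (isAssociatedPrime_of_wa x hx)
  obtain ⟨s, hs⟩ := hasRegularMero_of_wa_subset_affine L hL hW hWA
  exact exists_iso_divMod ⟨Groth.Agent.S8863.result X, hL, hs⟩

end Groth.Agent.S5088
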