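import Groth.Statements.S5091
import Groth.Agent.Lib.Helper20WeakAss
import Groth.Agent.Lib.Helper23UnitStalk
import Groth.Agent.Lib.Helper28DepthLoc
import Groth.Agent.S8871

set_option autoImplicit false
universe u
open CategoryTheory CategoryTheory.Limits AlgebraicGeometry TopologicalSpace
open Div21

namespace Groth.Agent.S5091

set_option linter.style.haveILetI false

open Groth.Agent.Lib.Helper20.WeakAss Groth.Agent.Lib.Helper23.GenLocus

variable {X : Scheme.{u}} [IsLocallyNoetherian X]

/-- depth zero at a point: the point is weakly associated to the structure sheaf (conversely). -/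
theorem depth_eq_zero_of_wa (x : X) (h : WA x) :
    LocCoh.depth (X.presheaf.stalk x) (X.presheaf.stalk x) = 0 := by
  rw [Groth.Agent.Lib.Helper28.depth_eq_zero_iff]
  exact isAssociatedPrime_of_wa x h

/-- at a point of depth zero, in an affine neighbourhood, the prime of the point is the annihilator of a function. -/
theorem exists_ann_eq {V : X.Opens} (hV : IsAffineOpen V) (x : X) (hxV : x ∈ V)
    (h : LocCoh.depth (X.presheaf.stalk x) (X.presheaf.stalk x) = 0) :
    ∃ n : Γ(X, V), n ≠ 0 ∧ ∀ r : Γ(X, V), r ∈ (hV.primeIdealOf ⟨x, hxV⟩).asIdeal → r * n = 0 := by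
  haveI : IsNoetherianRing Γ(X, V) := IsLocallyNoetherian.component_noetherian ⟨V, hV⟩
  haveI : (Coh.structureModule X).IsQuasicoherent :=
    Groth.Agent.Lib.Helper20.OmegaAff.isQuasicoherent_structureModule
  rw [Groth.Agent.Lib.Helper28.depth_eq_zero_iff] at h
  have h1 : Curv2.IsAssPoint (Coh.structureModule X) x :=
    (Groth.Agent.Lib.Helper23.UnitStalk.isAssPoint_structureModule_iff x).2 h
  have h2 := (Groth.Agent.S8871.isAssPoint_iff hV (Coh.structureModule X) x hxV).1 h1
  obtain ⟨hprime, n', hn'⟩ := (isAssociatedPrime_iff).1 h2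
  refine ⟨ofS V n', ?_, ?_⟩
  · intro h0
    have : (1 : Γ(X, V)) ∈ (hV.primeIdealOf ⟨x, hxV⟩).asIdeal := by
      rw [hn', Submodule.mem_colon_singleton, Submodule.mem_bot, one_smul]
      exact h0
    exact hprime.ne_top ((Ideal.eq_top_iff_one _).2 this)
  · intro r hr
    rw [hn', Submodule.mem_colon_singleton, Submodule.mem_bot] at hr
    exact hr


theorem dense_of_depth (U : X.Opens)
    (h : ∀ x : ↥X, x ∉ U → (1 : ℕ∞) ≤ LocCoh.depth ↑(X.presheaf.stalk x) ↑(X.presheaf.stalk x)) :
    CInt.IsSchematicallyDense U := by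
  intro V
  rw [injective_iff_map_eq_zero]
  intro s hs
  apply TopCat.Presheaf.section_ext X.sheaf V
  intro y hy
  change X.presheaf.germ V y hy s = X.presheaf.germ V y hy 0
  rw [map_zero]
  obtain ⟨_, ⟨W, hW, rfl⟩, hyW, hWV⟩ :=
    X.isBasis_affineOpens.exists_subset_of_mem_open hy V.isOpen
  have hle : W ≤ V := hWV
  have h0 : X.presheaf.map (homOfLE hle).op s = 0 := by
    apply eq_zero_of_germ_eq_zero hW
    intro η hη hwa
    have hηU : η ∈ U := by
      by_contra hn
      have := h η hn
      rw [depth_eq_zero_of_wa η hwa] at this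
      exact absurd this (by norm_num)
    rw [TopCat.Presheaf.germ_res_apply]
    have hηVU : η ∈ V ⊓ U := Opens.mem_inf.mpr ⟨hle hη, hηU⟩
    rw [← TopCat.Presheaf.germ_res_apply X.presheaf (homOfLE (inf_le_left : V ⊓ U ≤ V)) η hηVU s, hs,
      map_zero]
  rw [← TopCat.Presheaf.germ_res_apply X.presheaf (homOfLE hle) y hyW s, h0, map_zero]

theorem depth_of_dense (U : X.Opens) (h : CInt.IsSchematicallyDense U) (x : X) (hx : x ∉ U) :
    (1 : ℕ∞) ≤ LocCoh.depth ↑(X.presheaf.stalk x) ↑(X.presheaf.stalk x) := by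
  rw [Order.one_le_iff_ne_zero]
  intro h0
  obtain ⟨_, ⟨V, hV, rfl⟩, hxV, -⟩ :=
    X.isBasis_affineOpens.exists_subset_of_mem_open (Set.mem_univ x) isOpen_univ
  obtain ⟨n, hn0, hn⟩ := exists_ann_eq hV x hxV h0
  apply hn0
  apply h V
  rw [map_zero]
  apply TopCat.Presheaf.section_ext X.sheaf (V ⊓ U)
  intro y hy
  change X.presheaf.germ (V ⊓ U) y hy _ = X.presheaf.germ (V ⊓ U) y hy 0
  rw [map_zero, TopCat.Presheaf.germ_res_apply]
  have hyV : y ∈ V := (Opens.mem_inf.mp hy).1
  have hyU : y ∈ U := (Opens.mem_inf.mp hy).2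
  have hnle : ¬ (hV.primeIdealOf ⟨x, hxV⟩).asIdeal ≤ (hV.primeIdealOf ⟨y, hyV⟩).asIdeal := by
    intro hle
    have h1 : hV.primeIdealOf ⟨x, hxV⟩ ⤳ hV.primeIdealOf ⟨y, hyV⟩ :=
      (PrimeSpectrum.le_iff_specializes _ _).1 hle
    have h2 := h1.map hV.fromSpec.continuous
    rw [hV.fromSpec_primeIdealOf, hV.fromSpec_primeIdealOf] at h2
    exact hx (h2.mem_open U.isOpen hyU)
  obtain ⟨f, hfx, hfy⟩ := Set.not_subset.1 hnle
  have hfu : IsUnit (X.presheaf.germ V y hyV f) := by
    rw [← Scheme.mem_basicOpen, Groth.Agent.Lib.Helper2.mem_basicOpen_iff_notMem_primeIdealOf hV y hyV]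
    exact hfy
  have h3 : X.presheaf.germ V y hyV f * X.presheaf.germ V y hyV n = 0 := by
    rw [← map_mul, hn f hfx, map_zero]
  exact (hfu.mul_right_eq_zero).1 h3

/-- Let X be a locally Noetherian scheme, Y a closed subset and U = X − Y, with j : U → X the inclusion.
Then O_X → j_*O_U is injective — restriction of functions from every open V to V ∩ U is injective,
i.e. U is schematically dense in X — if and only if the local ring of X at every point of Y has
depth at least 1. -/
theorem result (X : Scheme.{u}) [IsLocallyNoetherian X] (U : X.Opens) :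
    CInt.IsSchematicallyDense U ↔
      ∀ x : ↥X, x ∉ U → (1 : ℕ∞) ≤ LocCoh.depth ↑(X.presheaf.stalk x) ↑(X.presheaf.stalk x) := by
  exact ⟨fun h x hx => depth_of_dense U h x hx, dense_of_depth U⟩

end Groth.Agent.S5091
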