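import Groth.Statements.S5092
import Groth.Agent.Lib.Helper20Mero
import Groth.Agent.S8861
import Groth.Agent.Lib.Helper2QCoh

set_option autoImplicit false
universe u
open CategoryTheory CategoryTheory.Limits AlgebraicGeometry TopologicalSpace
open Mero

namespace Groth.Agent.S5092

set_option linter.style.haveILetI false
open nonZeroDivisors TopologicalSpace

open Groth.Agent.Lib.Helper2.QCoh

/-- the associated point (radical sense) of the structure sheaf attached to a zero divisor relation. -/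
theorem exists_isAssociatedPrime {X : Scheme.{u}} {U : X.Opens} (hU : IsAffineOpen U) (β y : Γ(X, U))
    (hy : y * β = 0) (hy0 : y ≠ 0) :
    ∃ ξ : X, ∃ _ : ξ ∈ U, ξ ∉ X.basicOpen β ∧
      IsAssociatedPrime (IsLocalRing.maximalIdeal (X.presheaf.stalk ξ)) (X.presheaf.stalk ξ) := by
  let J : Ideal Γ(X, U) := LinearMap.ker (LinearMap.toSpanSingleton Γ(X, U) Γ(X, U) y)
  have memJ : ∀ a, a ∈ J ↔ a * y = 0 := by
    intro a
    simp [J, LinearMap.mem_ker, LinearMap.toSpanSingleton_apply]
  have hJ_ne : J ≠ ⊤ := by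
    intro htop
    have h1 : (1 : Γ(X, U)) ∈ J := by rw [htop]; trivial
    rw [memJ, one_mul] at h1
    exact hy0 h1
  obtain ⟨𝔭, h𝔭⟩ := Ideal.nonempty_minimalPrimes hJ_ne
  haveI : 𝔭.IsPrime := h𝔭.1.1
  let P : PrimeSpectrum Γ(X, U) := ⟨𝔭, inferInstance⟩
  have hβ𝔭 : β ∈ 𝔭 := h𝔭.1.2 (by rw [memJ, mul_comm]; exact hy)
  refine ⟨hU.fromSpec P, fromSpec_mem hU P, ?_, ?_⟩
  · rw [mem_basicOpen_fromSpec_iff hU P β]
    exact fun h => h hβ𝔭
  · set x := hU.fromSpec P with hx
    have hxU : x ∈ U := fromSpec_mem hU P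
    have hPx : hU.primeIdealOf ⟨x, hxU⟩ = P := primeIdealOf_fromSpec hU P
    let _ : Algebra Γ(X, U) (X.presheaf.stalk x) :=
      TopCat.Presheaf.algebra_section_stalk X.presheaf (⟨x, hxU⟩ : U)
    have hloc : IsLocalization.AtPrime (X.presheaf.stalk x) (hU.primeIdealOf ⟨x, hxU⟩).asIdeal :=
      hU.isLocalization_stalk ⟨x, hxU⟩
    set g := X.presheaf.germ U x hxU with hg
    have hgalg : ∀ r, g r = algebraMap Γ(X, U) (X.presheaf.stalk x) r := fun r => rfl
    have hunit : ∀ s : Γ(X, U), s ∉ 𝔭 → IsUnit (g s) := by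
      intro s hs
      rw [← Scheme.mem_basicOpen, mem_basicOpen_fromSpec_iff hU P s]
      exact hs
    have hm0 : g y ≠ 0 := by
      intro h0
      rw [hgalg, IsLocalization.map_eq_zero_iff (hU.primeIdealOf ⟨x, hxU⟩).asIdeal.primeCompl] at h0
      obtain ⟨s, hs⟩ := h0
      have hs1 : s.1 ∉ 𝔭 := by
        have h2 : s.1 ∉ (hU.primeIdealOf ⟨x, hxU⟩).asIdeal := s.2
        have h3 : (hU.primeIdealOf ⟨x, hxU⟩).asIdeal = 𝔭 := congrArg PrimeSpectrum.asIdeal hPx
        intro h4
        have h5 : ∀ (I : Ideal Γ(X, U)) (t : Γ(X, U)), I = 𝔭 → t ∈ 𝔭 → t ∈ I :=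
          fun I t h ht => h ▸ ht
        exact h2 (h5 _ s.1 h3 h4)
      exact hs1 (h𝔭.1.2 ((memJ _).2 hs))
    refine ⟨(IsLocalRing.maximalIdeal.isMaximal _).isPrime, g y, ?_⟩
    have memI : ∀ a, a ∈ Submodule.colon (⊥ : Submodule (X.presheaf.stalk x) (X.presheaf.stalk x)) {g y} ↔
        a * g y = 0 := by
      intro a
      rw [Submodule.mem_colon_singleton]
      simp
    apply le_antisymm
    · intro a ha
      obtain ⟨⟨b, s'⟩, hbs⟩ := IsLocalization.surj (hU.primeIdealOf ⟨x, hxU⟩).asIdeal.primeCompl a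
      have hbs' : a * g s'.1 = g b := hbs
      have hs'u : IsUnit (g s'.1) := IsLocalization.map_units (X.presheaf.stalk x) s'
      have hbp : b ∈ (hU.primeIdealOf ⟨x, hxU⟩).asIdeal := by
        rw [← germ_mem_maximalIdeal_iff hU x hxU]
        change g b ∈ _
        rw [← hbs']
        exact Ideal.mul_mem_right _ _ ha
      rw [hPx] at hbp
      obtain ⟨k, s, hs𝔭, hsk⟩ := Groth.Agent.S8861.exists_pow_mul_mem_of_mem_minimalPrimes h𝔭 hbp
      have hk : (g b) ^ k * g y = 0 := by
        have h1 : (s * b ^ k) * y = 0 := (memJ _).1 hsk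
        have h2 := congrArg g h1
        rw [map_zero, map_mul, map_mul, map_pow, mul_assoc] at h2
        exact (hunit s hs𝔭).mul_right_eq_zero.1 h2
      refine ⟨k, ?_⟩
      rw [memI]
      rw [← hbs', mul_pow, mul_assoc, mul_comm (g s'.1 ^ k), ← mul_assoc] at hk
      exact (hs'u.pow k).mul_left_eq_zero.1 hk
    · have hIne : Submodule.colon (⊥ : Submodule (X.presheaf.stalk x) (X.presheaf.stalk x)) {g y} ≠ ⊤ := by
        intro htop
        have : (1 : X.presheaf.stalk x) ∈
            Submodule.colon (⊥ : Submodule (X.presheaf.stalk x) (X.presheaf.stalk x)) {g y} := by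
          rw [htop]; trivial
        rw [memI, one_mul] at this
        exact hm0 this
      have hle := IsLocalRing.le_maximalIdeal hIne
      exact (Ideal.IsPrime.radical_le_iff (IsLocalRing.maximalIdeal.isMaximal _).isPrime).2 hle


/-- Suppose X and Y are schemes, both locally Noetherian, and f : X → Y is a morphism carrying each
associated point of O_X (that is, a point whose local ring has its maximal ideal among its
associated primes) to an associated point of O_Y. Then, given any open subset U of Y and any regular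
function s on U (one whose germ at each point of U is a non-zero-divisor), the function on f⁻¹(U)
obtained by pulling s back along f is again regular; as a result, every meromorphic function and
every divisor on Y admits a well-defined pullback along f. -/
theorem result {X Y : Scheme.{u}} [IsLocallyNoetherian X] [IsLocallyNoetherian Y]
    (f : X ⟶ Y)
    (hf : ∀ x : ↥X, IsAssociatedPrime (IsLocalRing.maximalIdeal ↑(X.presheaf.stalk x)) ↑(X.presheaf.stalk x) →
      IsAssociatedPrime (IsLocalRing.maximalIdeal ↑(Y.presheaf.stalk (f x))) ↑(Y.presheaf.stalk (f x))) :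
    ∀ (U : Y.Opens) (s : Γ(Y, U)), s ∈ Mero.regSub Y U → f.app U s ∈ Mero.regSub X (f ⁻¹ᵁ U) := by
  intro U s hs
  refine Groth.Agent.Lib.Helper20.MeroPull.app_mem_regSub_of_forall_affine f ?_ U s hs
  intro V hV U' hU' hU'V a ha
  rw [mem_nonZeroDivisors_iff_right]
  intro y hy
  by_contra hy0
  obtain ⟨ξ, hξU, hξβ, hξass⟩ := exists_isAssociatedPrime hU' _ y hy hy0
  apply hξβ
  have hass := hf ξ hξass
  have hfξV : f ξ ∈ V := hU'V hξU
  have hgerm := Groth.Agent.S8898.germ_mem_nonZeroDivisors hV a ha ⟨f ξ, hfξV⟩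
  have hnot : Y.presheaf.germ V (f ξ) hfξV a ∉ IsLocalRing.maximalIdeal (Y.presheaf.stalk (f ξ)) := by
    intro hmem
    obtain ⟨hprime, z, hz⟩ := hass
    have hmem' := hmem
    rw [hz] at hmem'
    obtain ⟨k, hk⟩ := hmem'
    rw [Submodule.mem_colon_singleton] at hk
    have hk' : (Y.presheaf.germ V (f ξ) hfξV a) ^ k * z = 0 := by simpa using hk
    have hz0 : z = 0 := by
      have := (mem_nonZeroDivisors_iff.1 (pow_mem hgerm k)).1 z hk'
      exact this
    have htop : Submodule.colon (⊥ : Submodule (Y.presheaf.stalk (f ξ)) (Y.presheaf.stalk (f ξ))) {z} = ⊤ := by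
      rw [eq_top_iff]
      intro r _
      rw [Submodule.mem_colon_singleton, hz0, smul_zero]
      exact Submodule.zero_mem _
    rw [htop, Ideal.radical_top] at hz
    exact hprime.ne_top hz
  have h1 : f ξ ∈ Y.basicOpen a := by
    rw [Scheme.mem_basicOpen _ _ _ hfξV]
    by_contra hnu
    exact hnot ((IsLocalRing.mem_maximalIdeal _).2 hnu)
  have h2 : ξ ∈ f ⁻¹ᵁ Y.basicOpen a := h1
  rw [Scheme.preimage_basicOpen] at h2
  have h3 : (f.appLE V U' hU'V).hom a = (X.presheaf.map (homOfLE hU'V).op).hom ((f.app V).hom a) := rfl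
  rw [h3, Scheme.basicOpen_res]
  exact ⟨hξU, h2⟩


end Groth.Agent.S5092
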