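import Groth.Statements.S5093
import Groth.Agent.Lib.Helper20Mero
import Groth.Agent.S8862
import Groth.Agent.S1681

set_option autoImplicit false
universe u
open CategoryTheory CategoryTheory.Limits AlgebraicGeometry TopologicalSpace
open Mero

namespace Groth.Agent.S5093

/-- Let f : X → Y be a morphism of schemes such that the set of irreducible components of Y is locally
finite, X is reduced, and every irreducible component of X dominates an irreducible component of Y
(f sends every maximal point of X, i.e. every point with no proper generization, to a maximal point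
of Y). Then for every open subset U of Y and every regular function s on U (germ a non-zero-divisor
at every point of U), the pulled-back function on f⁻¹(U) is regular; consequently the pullback along
f of every meromorphic function and of every divisor on Y is defined. -/
theorem result {X Y : Scheme.{u}} [IsReduced X] (f : X ⟶ Y)
    (hY : ∀ y : ↥Y, ∃ W : Y.Opens, y ∈ W ∧
      {Z : Set ↥Y | Z ∈ irreducibleComponents ↥Y ∧ (Z ∩ (W : Set ↥Y)).Nonempty}.Finite)
    (hf : ∀ ξ : ↥X, (∀ z : ↥X, z ⤳ ξ → z = ξ) → ∀ z : ↥Y, z ⤳ f ξ → z = f ξ) :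
    ∀ (U : Y.Opens) (s : Γ(Y, U)), s ∈ Mero.regSub Y U → f.app U s ∈ Mero.regSub X (f ⁻¹ᵁ U) := by
  intro U s hs
  refine Groth.Agent.Lib.Helper20.MeroPull.app_mem_regSub_of_forall_affine f ?_ U s hs
  intro V hV U' hU' hU'V a ha
  apply Groth.Agent.S8862.mem_nonZeroDivisors_of_notMem_minimalPrimes
  intro 𝔭 h𝔭
  haveI : 𝔭.IsPrime := h𝔭.1.1
  let P : PrimeSpectrum Γ(X, U') := ⟨𝔭, inferInstance⟩
  let ξ : X := hU'.fromSpec P
  have hξU : ξ ∈ U' := hU'.opensRange_fromSpec.le (show _ ∈ hU'.fromSpec.opensRange from ⟨_, rfl⟩)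
  have hgen : ∀ y : X, y ⤳ ξ → y = ξ := by
    intro y hy
    have hyU : y ∈ U' := hy.mem_open U'.isOpen hξU
    obtain ⟨Q, rfl⟩ : y ∈ Set.range hU'.fromSpec := by rw [hU'.range_fromSpec]; exact hyU
    let Q' : PrimeSpectrum Γ(X, U') := Q
    have hQP : Q' ⤳ P :=
      (hU'.fromSpec.isOpenEmbedding.isInducing.specializes_iff).1 hy
    have hle : Q' ≤ P := (PrimeSpectrum.le_iff_specializes Q' P).2 hQP
    have hle' : Q'.asIdeal ≤ 𝔭 := hle
    have h3 : 𝔭 ≤ Q'.asIdeal := h𝔭.2 ⟨Q'.isPrime, bot_le⟩ hle'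
    have hQeq : Q' = P := PrimeSpectrum.ext (le_antisymm hle' h3)
    change hU'.fromSpec Q' = hU'.fromSpec P
    rw [hQeq]
  have hmax := hf ξ hgen
  have h1 : f ξ ∈ Y.basicOpen a :=
    Groth.Agent.S1681.mem_basicOpen_of_isMax hV a ha (f ξ) (hU'V hξU) hmax
  have h2 : ξ ∈ f ⁻¹ᵁ Y.basicOpen a := h1
  rw [Scheme.preimage_basicOpen] at h2
  have h3 : (f.appLE V U' hU'V).hom a = (X.presheaf.map (homOfLE hU'V).op).hom ((f.app V).hom a) := rfl
  have h4 : ξ ∈ X.basicOpen ((f.appLE V U' hU'V).hom a) := by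
    rw [h3, Scheme.basicOpen_res]
    exact ⟨hξU, h2⟩
  have h5 : P ∈ hU'.fromSpec ⁻¹ᵁ X.basicOpen ((f.appLE V U' hU'V).hom a) := h4
  rw [hU'.fromSpec_preimage_basicOpen] at h5
  exact h5

end Groth.Agent.S5093
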