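import Groth.Statements.S5096
import Groth.Agent.Lib.Helper20Kmod5

set_option autoImplicit false
universe u
open CategoryTheory CategoryTheory.Limits AlgebraicGeometry TopologicalSpace

namespace Groth.Agent.S5096

open Mero Groth.Agent.Lib.Helper20.Kmod Groth.Agent.Lib.Helper20.Kmod5 Groth.Agent.S5097

variable {X : Scheme.{u}}

/-- the section `f⁻¹` of `O_X(D)` over an open where `D = div f`. -/
noncomputable def invSec (D : Divisor X) {U : X.Opens} (f : (Γ(kmod X, U))ˣ)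
    (hf : ∀ y : U, D.1 y.1 = germOf f y) (W : X.Opens) (hW : W ≤ U) : Γ(divMod D, W) :=
  ⟨fun y => ((f⁻¹ : (Γ(kmod X, U))ˣ) : Γ(kmod X, U)).1 ⟨y.1, hW y.2⟩,
    ⟨(kLoc X).res (homOfLE hW) _ ((f⁻¹ : (Γ(kmod X, U))ˣ) : Γ(kmod X, U)).2,
      fun y => divCond_inv D f ⟨y.1, hW y.2⟩ (hf _)⟩⟩

theorem result (X : Scheme.{u}) (D : Mero.Divisor X) : PicF.IsInvertible (Mero.divMod D) := by
  intro x
  obtain ⟨U, hxU, f, hf⟩ := D.2 x
  refine ⟨U, hxU, ⟨?_⟩⟩
  let L := (divMod D).restrict U.ι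
  let s : L.sections := PresheafOfModules.sectionsMk
    (fun V => (invSec D f hf (U.ι ''ᵁ V.unop) (Scheme.Opens.ι_image_le U _) : Γ(divMod D, U.ι ''ᵁ V.unop)))
    (fun V V' i => rfl)
  let φ : Coh.structureModule ↑U ⟶ L := L.unitHomEquiv.symm s
  have happ : ∀ (V : (↑U : Scheme.{u}).Opens) (r : Γ(↑U, V)),
      φ.app V r = (((U.ι.appIso V).inv r) • (invSec D f hf (U.ι ''ᵁ V) (Scheme.Opens.ι_image_le U _)) : Γ(divMod D, U.ι ''ᵁ V)) := by
    intro V r
    rfl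
  haveI : IsIso φ := by
    rw [Scheme.Modules.Hom.isIso_iff_isIso_app]
    intro V
    rw [ConcreteCategory.isIso_iff_bijective]
    have hW : U.ι ''ᵁ V ≤ U := Scheme.Opens.ι_image_le U _
    have hfinv : ∀ y : U, ((f : Γ(kmod X, U)).1 y) * ((f⁻¹ : (Γ(kmod X, U))ˣ) : Γ(kmod X, U)).1 y = 1 := by
      intro y
      have h1 : (f : Γ(kmod X, U)) * ((f⁻¹ : (Γ(kmod X, U))ˣ) : Γ(kmod X, U)) = 1 := f.mul_inv
      exact congrArg (fun g : Γ(kmod X, U) => g.1 y) h1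
    constructor
    · intro r r' hrr'
      have h1 : ((U.ι.appIso V).inv r) = ((U.ι.appIso V).inv r') := by
        apply TopCat.Presheaf.section_ext X.sheaf
        intro y hy
        have h2 := congrArg (fun t : Γ(divMod D, U.ι ''ᵁ V) => t.1 ⟨y, hy⟩) hrr'
        change X.presheaf.germ _ y hy ((U.ι.appIso V).inv r) •
            ((f⁻¹ : (Γ(kmod X, U))ˣ) : Γ(kmod X, U)).1 ⟨y, hW hy⟩ =
          X.presheaf.germ _ y hy ((U.ι.appIso V).inv r') •
            ((f⁻¹ : (Γ(kmod X, U))ˣ) : Γ(kmod X, U)).1 ⟨y, hW hy⟩ at h2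
        rw [Algebra.smul_def, Algebra.smul_def] at h2
        have h3 := congrArg (fun t => t * (f : Γ(kmod X, U)).1 ⟨y, hW hy⟩) h2
        simp only [mul_assoc] at h3
        rw [mul_comm _ ((f : Γ(kmod X, U)).1 ⟨y, hW hy⟩), hfinv, mul_one, mul_one] at h3
        exact algebraMap_KStalk_injective y h3
      have h2 := congrArg (U.ι.appIso V).hom h1
      have e : ∀ a : Γ(↑U, V), (U.ι.appIso V).hom ((U.ι.appIso V).inv a) = a :=
        fun a => Iso.inv_hom_id_apply _ _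
      exact (e r).symm.trans (h2.trans (e r'))
    · intro t
      let t' : Γ(divMod D, U.ι ''ᵁ V) := t
      let tK : Γ(kmod X, U.ι ''ᵁ V) := ⟨t'.1, t'.2.1⟩
      let fW : Γ(kmod X, U.ι ''ᵁ V) := (kmod X).presheaf.map (homOfLE hW).op (f : Γ(kmod X, U))
      have hrange : ∀ y : (U.ι ''ᵁ V : X.Opens), (tK * fW).1 y ∈
          (algebraMap (X.presheaf.stalk y.1) (KStalk X y.1)).range := by
        intro y
        exact t'.2.2 y (valU f ⟨y.1, hW y.2⟩) (hf ⟨y.1, hW y.2⟩)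
      obtain ⟨r', hr'⟩ := exists_toK_eq (tK * fW) hrange
      refine ⟨(U.ι.appIso V).hom r', ?_⟩
      rw [happ]
      apply Subtype.ext
      funext y
      change X.presheaf.germ _ y.1 y.2 ((U.ι.appIso V).inv ((U.ι.appIso V).hom r')) •
            ((f⁻¹ : (Γ(kmod X, U))ˣ) : Γ(kmod X, U)).1 ⟨y.1, hW y.2⟩ = t'.1 y
      have h1 : (U.ι.appIso V).inv ((U.ι.appIso V).hom r') = r' := Iso.hom_inv_id_apply _ _
      rw [h1, Algebra.smul_def, Groth.Agent.S10856.algebraMap_eq_mk, ← toK_apply, hr']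
      change (t'.1 y * (f : Γ(kmod X, U)).1 ⟨y.1, hW y.2⟩) * _ = _
      rw [mul_assoc, hfinv, mul_one]
  exact (asIso φ).symm

end Groth.Agent.S5096
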