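import Groth.Statements.S5102
import Groth.Agent.Lib.Helper20WeakAss
import Groth.Agent.Lib.Helper20Triv
import Groth.Agent.Lib.Helper20Kmod3

set_option autoImplicit false
universe u
open CategoryTheory CategoryTheory.Limits AlgebraicGeometry TopologicalSpace
open Mero

namespace Groth.Agent.S5102

set_option linter.style.haveILetI false

open Groth.Agent.Lib.Helper20.Kmod Opposite

variable {X : Scheme.{u}}

theorem smul_apply {V : X.Opens} (r : Γ(X, V)) (s : Γ(kmod X, V)) (y : V) :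
    (r • s).1 y = X.presheaf.germ V y.1 y.2 r • s.1 y := rfl

theorem map_apply {U V : X.Opens} (i : V ⟶ U) (s : Γ(kmod X, U)) (y : V) :
    ((kmod X).presheaf.map i.op s).1 y = s.1 ⟨y.1, i.le y.2⟩ := rfl

theorem smul_eq_toK_mul {V : X.Opens} (r : Γ(X, V)) (s : Γ(kmod X, V)) :
    r • s = toK X V r * s := by
  apply kmod_ext
  intro y
  rw [smul_apply, kmod_mul_apply, toK_apply, Algebra.smul_def]
  rfl

/-- restriction as a ring homomorphism. -/
noncomputable def resK {U V : X.Opens} (i : V ⟶ U) : Γ(kmod X, U) →+* Γ(kmod X, V) :=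
  ((kring X).obj.map i.op).hom

theorem resK_apply {U V : X.Opens} (i : V ⟶ U) (s : Γ(kmod X, U)) :
    resK i s = (kmod X).presheaf.map i.op s := rfl

theorem app_map {F G : X.Modules} (ψ : F ⟶ G) {V U : X.Opens} (i : V ⟶ U) (x : Γ(F, U)) :
    ψ.app V (F.presheaf.map i.op x) = G.presheaf.map i.op (ψ.app U x) := by
  have h1 := ψ.mapPresheaf.naturality i.op
  exact ConcreteCategory.congr_hom h1 x

variable (J : X.Modules) (ι : J ⟶ Mero.kmod X)

theorem ι_smul_res {W V : X.Opens} (hV : V ≤ W) (t : Γ(J, W)) (r : Γ(X, V)) :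
    ι.app V (r • J.presheaf.map (homOfLE hV).op t) =
      toK X V r * (kmod X).presheaf.map (homOfLE hV).op (ι.app W t) := by
  rw [Scheme.Modules.Hom.app_smul, app_map, smul_eq_toK_mul]


/-- the numerator of a generator of an invertible fractional ideal is regular. -/
theorem num_mem_regSub [Mono ι] {W W₁ : X.Opens} (hW₁ : W₁ ≤ W) (t : Γ(J, W))
    (hinj : ∀ (W' : X.Opens) (h : W' ≤ W),
      Function.Injective (fun r : Γ(X, W') => r • J.presheaf.map (homOfLE h).op t))
    (a : Γ(X, W₁)) (b : regSub X W₁)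
    (hab : ∀ y : W₁, (ι.app W t).1 ⟨y.1, hW₁ y.2⟩ =
      LocalizedModule.mk (X.presheaf.germ W₁ y.1 y.2 a) (regGerm y b)) :
    a ∈ regSub X W₁ := by
  intro y
  rw [mem_nonZeroDivisors_iff_right]
  intro c hc
  obtain ⟨W₂, hyW₂, r, rfl⟩ := X.presheaf.exists_germ_eq c
  have hy12 : y.1 ∈ W₂ ⊓ W₁ := Opens.mem_inf.mpr ⟨hyW₂, y.2⟩
  have h1 : X.presheaf.germ (W₂ ⊓ W₁) y.1 hy12
      (X.presheaf.map (homOfLE inf_le_left).op r * X.presheaf.map (homOfLE inf_le_right).op a) =
      X.presheaf.germ (W₂ ⊓ W₁) y.1 hy12 0 := by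
    rw [map_mul, map_zero, TopCat.Presheaf.germ_res_apply, TopCat.Presheaf.germ_res_apply]
    exact hc
  obtain ⟨W₃, hyW₃, i, i', h2⟩ := X.presheaf.germ_eq y.1 _ _ _ _ h1
  rw [map_zero, map_mul, ← ConcreteCategory.comp_apply, ← ConcreteCategory.comp_apply,
    ← Functor.map_comp, ← Functor.map_comp] at h2
  have hW₃W₁ : W₃ ≤ W₁ := i.le.trans inf_le_right
  have hW₃W₂ : W₃ ≤ W₂ := i.le.trans inf_le_left
  have hW₃W : W₃ ≤ W := hW₃W₁.trans hW₁
  set r₃ : Γ(X, W₃) := X.presheaf.map (homOfLE hW₃W₂).op r with hr₃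
  set a₃ : Γ(X, W₃) := X.presheaf.map (homOfLE hW₃W₁).op a with ha₃
  have h3 : r₃ * a₃ = 0 := h2
  have h4 : ι.app W₃ (r₃ • J.presheaf.map (homOfLE hW₃W).op t) = 0 := by
    rw [ι_smul_res]
    apply kmod_ext
    intro z
    rw [kmod_mul_apply, toK_apply, map_apply, hab ⟨z.1, hW₃W₁ z.2⟩, kmod_zero_apply]
    refine LocalizedModule.mk_mul_mk.trans ?_
    rw [mk_eq_zero_iff]
    have : X.presheaf.germ W₁ z.1 (hW₃W₁ z.2) a = X.presheaf.germ W₃ z.1 z.2 a₃ := by
      rw [ha₃, TopCat.Presheaf.germ_res_apply]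
    rw [this, ← map_mul, h3, map_zero]
  have h5 : r₃ • J.presheaf.map (homOfLE hW₃W).op t = 0 := by
    apply Groth.Agent.Lib.Helper20.StalkExact.injective_app_of_mono ι W₃
    rw [h4, map_zero]
  have h6 : r₃ = 0 := by
    apply hinj W₃ hW₃W
    change r₃ • _ = (0 : Γ(X, W₃)) • _
    rw [h5, zero_smul]
  have : X.presheaf.germ W₂ y.1 hyW₂ r = X.presheaf.germ W₃ y.1 hyW₃ r₃ := by
    rw [hr₃, TopCat.Presheaf.germ_res_apply]
  rw [this, h6, map_zero]


theorem isUnit_invReg {U : X.Opens} (b : regSub X U) : IsUnit (invReg b) :=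
  IsUnit.of_mul_eq_one (Mero.toK X U b.1) (by rw [mul_comm]; exact toK_mul_invReg b)

theorem forward [Mono ι] (hJ : PicF.IsInvertible J) (x : X) :
    ∃ (U : X.Opens) (_ : x ∈ U) (f : (Γ(Mero.kmod X, U))ˣ),
      ∀ (V : X.Opens) (hV : V ≤ U),
        Set.range ⇑(ι.val.app (Opposite.op V)) =
          {t : Γ(Mero.kmod X, V) | ∃ r : Γ(X, V),
            t = Mero.toK X V r * (Mero.kmod X).presheaf.map (homOfLE hV).op (f : Γ(Mero.kmod X, U))} := by
  obtain ⟨W, t, hxW, -, hbij⟩ := Groth.Agent.Lib.Helper20.WeakAss.exists_local_generator' J hJ x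
  obtain ⟨W₁, hxW₁, hW₁W, a, b, hab⟩ := exists_local_frac (ι.app W t) ⟨x, hxW⟩
  have ha : a ∈ regSub X W₁ := num_mem_regSub J ι hW₁W t (fun W' h => (hbij W' h).1) a b hab
  have hg : (kmod X).presheaf.map (homOfLE hW₁W).op (ι.app W t) = toK X W₁ a * invReg b := by
    apply kmod_ext
    intro y
    rw [map_apply, hab y, kmod_mul_apply, toK_apply, invReg_apply]
    refine (Mero.mk_congr (mul_one _).symm (one_mul _).symm).trans LocalizedModule.mk_mul_mk.symm
  have hu : IsUnit ((kmod X).presheaf.map (homOfLE hW₁W).op (ι.app W t)) := by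
    rw [hg]
    exact (isUnit_toK_of_mem_regSub ha).mul (isUnit_invReg b)
  refine ⟨W₁, hxW₁, hu.unit, fun V hV => ?_⟩
  have hcomp : (kmod X).presheaf.map (homOfLE hV).op (hu.unit : Γ(kmod X, W₁)) =
      (kmod X).presheaf.map (homOfLE (hV.trans hW₁W)).op (ι.app W t) := rfl
  rw [hcomp]
  ext s
  constructor
  · rintro ⟨m, rfl⟩
    obtain ⟨r, hr⟩ := (hbij V (hV.trans hW₁W)).2 m
    refine ⟨r, ?_⟩
    rw [← ι_smul_res, ← hr]
    rfl
  · rintro ⟨r, rfl⟩
    refine ⟨r • J.presheaf.map (homOfLE (hV.trans hW₁W)).op t, ?_⟩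
    rw [← ι_smul_res]
    rfl

theorem backward [Mono ι] (x : X) (U : X.Opens) (hxU : x ∈ U) (f : (Γ(Mero.kmod X, U))ˣ)
    (hf : ∀ (V : X.Opens) (hV : V ≤ U),
        Set.range ⇑(ι.val.app (Opposite.op V)) =
          {t : Γ(Mero.kmod X, V) | ∃ r : Γ(X, V),
            t = Mero.toK X V r * (Mero.kmod X).presheaf.map (homOfLE hV).op (f : Γ(Mero.kmod X, U))}) :
    ∃ U : X.Opens, x ∈ U ∧ Nonempty (J.restrict U.ι ≅ Coh.structureModule (↑U)) := by
  have h1 : ∃ t : Γ(J, U), ι.app U t = (f : Γ(kmod X, U)) := by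
    have h0 : (f : Γ(kmod X, U)) ∈ Set.range ⇑(ι.val.app (Opposite.op U)) := by
      rw [hf U le_rfl]
      refine ⟨1, ?_⟩
      rw [map_one, one_mul]
      rfl
    obtain ⟨t, ht⟩ := h0
    exact ⟨t, ht⟩
  obtain ⟨t, ht'⟩ := h1
  have hfu : ∀ (V : X.Opens) (hV : V ≤ U),
      IsUnit ((kmod X).presheaf.map (homOfLE hV).op (f : Γ(kmod X, U))) := fun V hV =>
    f.isUnit.map (resK (homOfLE hV))
  refine ⟨U, hxU, Groth.Agent.Lib.Helper20.Triv.nonempty_iso_of_bijective J U t fun V hV => ⟨?_, ?_⟩⟩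
  · intro r r' hrr'
    have h2 : ι.app V (r • J.presheaf.map (homOfLE hV).op t) =
        ι.app V (r' • J.presheaf.map (homOfLE hV).op t) := congrArg (ι.app V) hrr'
    rw [ι_smul_res, ι_smul_res, ht'] at h2
    exact toK_injective V ((hfu V hV).mul_left_injective h2)
  · intro m
    have h2 : ι.val.app (Opposite.op V) m ∈ Set.range ⇑(ι.val.app (Opposite.op V)) := ⟨m, rfl⟩
    rw [hf V hV] at h2
    obtain ⟨r, hr⟩ := h2
    refine ⟨r, ?_⟩
    apply Groth.Agent.Lib.Helper20.StalkExact.injective_app_of_mono ι V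
    change ι.app V (r • J.presheaf.map (homOfLE hV).op t) = ι.app V m
    rw [ι_smul_res, ht']
    exact hr.symm

/-- Let X be a scheme and J a fractional ideal, i.e. a sub-O_X-module of the sheaf of meromorphic
functions K_X (given by a monomorphism J → K_X). Then J is an invertible O_X-module if and only if
every point of X has an open neighbourhood U together with a unit f of the ring Γ(U, K_X) such that
J|_U = O_U · f: over every open subset V of U, the sections of J are exactly the r · f|_V with r a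
function on V. -/
theorem result (X : Scheme.{u}) (J : X.Modules)
    (ι : J ⟶ Mero.kmod X) [Mono ι] :
    PicF.IsInvertible J ↔ ∀ x : ↥X, ∃ (U : X.Opens) (_ : x ∈ U) (f : (Γ(Mero.kmod X, U))ˣ),
      ∀ (V : X.Opens) (hV : V ≤ U),
        Set.range ⇑(ι.val.app (Opposite.op V)) =
          {t : Γ(Mero.kmod X, V) | ∃ r : Γ(X, V),
            t = Mero.toK X V r * (Mero.kmod X).presheaf.map (homOfLE hV).op (f : Γ(Mero.kmod X, U))} := by
  constructor
  · intro hJ x
    exact forward J ι hJ x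
  · intro h x
    obtain ⟨U, hxU, f, hf⟩ := h x
    exact backward J ι x U hxU f hf

end Groth.Agent.S5102
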