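import Groth.Statements.S5104
-- import your own Groth.Agent.* helpers here
import Mathlib
import Groth.Agent.S4440
import Groth.Agent.Lib.Helper12ClosureImage

set_option autoImplicit false
universe u
open CategoryTheory CategoryTheory.Limits AlgebraicGeometry TopologicalSpace
open Rat20

namespace Groth.Agent.S5104

open CategoryTheory.Limits TopologicalSpace

/-- local version of germ-injectivity for reduced schemes with locally finitely many components -/
lemma isGermInjectiveAt_of_isReduced_of_finite_inter (X : Scheme.{u}) [IsReduced X] (W : X.Opens)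
    (hfin : {Z : Set ↥X | Z ∈ irreducibleComponents ↥X ∧ (Z ∩ (W : Set ↥X)).Nonempty}.Finite)
    (x : X) (hx : x ∈ W) : X.IsGermInjectiveAt x := by
  classical
  let Zs : Set (Set X) :=
    {Z | (Z ∈ irreducibleComponents ↥X ∧ (Z ∩ (W : Set ↥X)).Nonempty) ∧ x ∉ Z}
  have hZsfin : Zs.Finite := hfin.subset fun Z hZ => hZ.1
  have hclosed : IsClosed (⋃₀ Zs) := by
    rw [Set.sUnion_eq_biUnion]
    exact hZsfin.isClosed_biUnion fun Z hZ => isClosed_of_mem_irreducibleComponents Z hZ.1.1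
  have hxW : x ∈ (W : Set X) ∩ (⋃₀ Zs)ᶜ := by
    refine ⟨hx, ?_⟩
    rintro ⟨Z, hZ, hxZ⟩
    exact hZ.2 hxZ
  obtain ⟨_, ⟨V, hV : IsAffineOpen V, rfl⟩, hxV, hVW⟩ :=
    X.isBasis_affineOpens.exists_subset_of_mem_open hxW (W.2.inter hclosed.isOpen_compl)
  refine ⟨⟨V, hxV, hV, ?_⟩⟩
  rw [injective_iff_map_eq_zero]
  intro s hs
  obtain ⟨V', hxV', iU, iV, e⟩ := X.presheaf.germ_eq x hxV hxV s 0 (by rw [hs, map_zero])
  rw [map_zero] at e
  rw [← basicOpen_eq_bot_iff]
  rw [eq_bot_iff]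
  intro z hz
  exfalso
  have hzV : z ∈ V := X.basicOpen_le s hz
  have hZmem : irreducibleComponent z ∈ irreducibleComponents ↥X :=
    irreducibleComponent_mem_irreducibleComponents z
  have hxZ : x ∈ irreducibleComponent z := by
    by_contra hxn
    exact (hVW hzV).2 ⟨irreducibleComponent z,
      ⟨⟨hZmem, ⟨z, mem_irreducibleComponent, (hVW hzV).1⟩⟩, hxn⟩, mem_irreducibleComponent⟩
  have hirr : IsIrreducible (irreducibleComponent z) := isIrreducible_irreducibleComponent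
  obtain ⟨z', hz'Z, hz'V', hz's⟩ := hirr.2 V' (X.basicOpen s) V'.2 (X.basicOpen s).2
    ⟨x, hxZ, hxV'⟩ ⟨z, mem_irreducibleComponent, hz⟩
  have h1 : z' ∈ X.basicOpen (X.presheaf.map iU.op s) := by
    rw [Scheme.basicOpen_res]
    exact ⟨hz'V', hz's⟩
  rw [e] at h1
  simp at h1

section Agree

variable {X Y : Scheme.{u}} (U V₁ : X.Opens) (h : U.toScheme ⟶ Y) (v₁ : V₁.toScheme ⟶ Y)

/-- the two morphisms agree on the open `O` -/
def Agree (O : X.Opens) : Prop :=
  ∃ (hU : O ≤ U) (hV : O ≤ V₁), X.homOfLE hV ≫ v₁ = X.homOfLE hU ≫ h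

variable {U V₁ h v₁}

lemma Agree.mono {O O' : X.Opens} (hO : Agree U V₁ h v₁ O) (hle : O' ≤ O) :
    Agree U V₁ h v₁ O' := by
  obtain ⟨hU, hV, e⟩ := hO
  refine ⟨hle.trans hU, hle.trans hV, ?_⟩
  rw [← X.homOfLE_homOfLE hle hV, ← X.homOfLE_homOfLE hle hU, Category.assoc, Category.assoc, e]

lemma Agree.iSup {ι : Type u} {O : ι → X.Opens} (hO : ∀ i, Agree U V₁ h v₁ (O i)) :
    Agree U V₁ h v₁ (⨆ i, O i) := by
  have hU : (⨆ i, O i) ≤ U := iSup_le fun i => (hO i).1
  have hV : (⨆ i, O i) ≤ V₁ := iSup_le fun i => (hO i).2.1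
  refine ⟨hU, hV, ?_⟩
  apply (Groth.Agent.S4440.coverISup O).hom_ext
  intro i
  change X.homOfLE (le_iSup O i) ≫ _ = X.homOfLE (le_iSup O i) ≫ _
  rw [X.homOfLE_homOfLE_assoc, X.homOfLE_homOfLE_assoc]
  exact (hO i).2.2

lemma agree_image {O : X.Opens} (hU : O ≤ U) (hV : O ≤ V₁) (N' : O.toScheme.Opens)
    (e : N'.ι ≫ X.homOfLE hV ≫ v₁ = N'.ι ≫ X.homOfLE hU ≫ h) :
    Agree U V₁ h v₁ (O.ι ''ᵁ N') := by
  have hle : O.ι ''ᵁ N' ≤ O := by
    rintro _ ⟨y, -, rfl⟩
    exact y.2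
  refine ⟨hle.trans hU, hle.trans hV, ?_⟩
  rw [← cancel_epi (O.ι.isoImage N').hom]
  have e1 : (O.ι.isoImage N').hom ≫ X.homOfLE (hle.trans hV) = N'.ι ≫ X.homOfLE hV := by
    rw [← cancel_mono V₁.ι]
    simp
  have e2 : (O.ι.isoImage N').hom ≫ X.homOfLE (hle.trans hU) = N'.ι ≫ X.homOfLE hU := by
    rw [← cancel_mono U.ι]
    simp
  rw [reassoc_of% e1, reassoc_of% e2, e]

end Agree

set_option backward.isDefEq.respectTransparency false in
/-- agreement at the stalk of a generization `y` of `x` gives agreement near `y` -/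
lemma agree_near_generization {X Y : Scheme.{u}} (U V₁ : X.Opens) (h : U.toScheme ⟶ Y)
    (v₁ : V₁.toScheme ⟶ Y) (x : X) (hxV₁ : x ∈ V₁)
    (hw : pullback.fst (X.fromSpecStalk x) U.ι ≫ V₁.fromSpecStalkOfMem x hxV₁ ≫ v₁ =
      pullback.snd (X.fromSpecStalk x) U.ι ≫ h)
    (y : X) (hyx : y ⤳ x) (hyU : y ∈ U) [X.IsGermInjectiveAt y] :
    ∃ N : X.Opens, y ∈ N ∧ Agree U V₁ h v₁ N := by
  have hyV₁ : y ∈ V₁ := hyx.mem_open V₁.2 hxV₁
  let O : X.Opens := U ⊓ V₁
  have hyO : y ∈ O := ⟨hyU, hyV₁⟩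
  have hOU : O ≤ U := inf_le_left
  have hOV : O ≤ V₁ := inf_le_right
  have hgi : O.toScheme.IsGermInjectiveAt ⟨y, hyO⟩ :=
    (isGermInjectiveAt_iff_of_isOpenImmersion (f := O.ι) (x := ⟨y, hyO⟩)).mp ‹_›
  have e1 : O.fromSpecStalkOfMem y hyO ≫ X.homOfLE hOV = V₁.fromSpecStalkOfMem y hyV₁ := by
    rw [← cancel_mono V₁.ι]
    simp
  have e2 : O.fromSpecStalkOfMem y hyO ≫ X.homOfLE hOU = U.fromSpecStalkOfMem y hyU := by
    rw [← cancel_mono U.ι]
    simp
  have e3 : V₁.fromSpecStalkOfMem y hyV₁ =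
      Spec.map (X.presheaf.stalkSpecializes hyx) ≫ V₁.fromSpecStalkOfMem x hxV₁ := by
    rw [← cancel_mono V₁.ι]
    simp [Scheme.SpecMap_stalkSpecializes_fromSpecStalk]
  let ℓ : Spec (X.presheaf.stalk y) ⟶ pullback (X.fromSpecStalk x) U.ι :=
    pullback.lift (Spec.map (X.presheaf.stalkSpecializes hyx)) (U.fromSpecStalkOfMem y hyU)
      (by simp [Scheme.SpecMap_stalkSpecializes_fromSpecStalk])
  have key : O.fromSpecStalkOfMem y hyO ≫ X.homOfLE hOV ≫ v₁ =
      O.fromSpecStalkOfMem y hyO ≫ X.homOfLE hOU ≫ h := by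
    rw [reassoc_of% e1, reassoc_of% e2, e3, Category.assoc]
    have h1 : Spec.map (X.presheaf.stalkSpecializes hyx) = ℓ ≫ pullback.fst _ _ :=
      (pullback.lift_fst _ _ _).symm
    have h2 : U.fromSpecStalkOfMem y hyU = ℓ ≫ pullback.snd _ _ :=
      (pullback.lift_snd _ _ _).symm
    rw [h1, h2, Category.assoc, Category.assoc, hw]
  have key' : O.toScheme.fromSpecStalk ⟨y, hyO⟩ ≫ X.homOfLE hOV ≫ v₁ =
      O.toScheme.fromSpecStalk ⟨y, hyO⟩ ≫ X.homOfLE hOU ≫ h := by
    have e : O.toScheme.fromSpecStalk ⟨y, hyO⟩ =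
        Spec.map (O.ι.stalkMap ⟨y, hyO⟩) ≫ O.fromSpecStalkOfMem y hyO := by
      rw [← cancel_mono O.ι, Category.assoc, Scheme.Opens.fromSpecStalkOfMem_ι]
      exact (Scheme.SpecMap_stalkMap_fromSpecStalk O.ι (x := ⟨y, hyO⟩)).symm
    rw [e]
    simp only [Category.assoc]
    rw [key]
  obtain ⟨N', hyN', hN'⟩ := spread_out_unique_of_isGermInjective' _ _ key'
  exact ⟨O.ι ''ᵁ N', ⟨⟨y, hyO⟩, hyN', rfl⟩, agree_image hOU hOV N' hN'⟩

set_option backward.isDefEq.respectTransparency false in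

/-- Let X be an S-scheme which is locally Noetherian, or reduced with locally finite set of irreducible
components; let Y be separated and locally of finite presentation over S, U a schematically dense
open subset of X, h : U → Y an S-morphism (a pseudo-S-morphism ω of X into Y) and x a point of X.
Then ω is defined at x — some S-morphism from an open neighbourhood V of x to Y agrees with h on U ∩
V — if and only if the restriction of ω to Spec O_{X,x} is everywhere defined — some S-morphism Spec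
O_{X,x} → Y agrees with h after pulling back to Spec O_{X,x} ×_X U. (The published statement does
not assume Y separated over S and compares morphisms only on some schematically dense open; this row
assumes Y separated over S, where the two readings agree.) -/
theorem result {X Y S : Scheme.{u}} (pX : X ⟶ S) (pY : Y ⟶ S)
    [IsSeparated pY] [LocallyOfFinitePresentation pY]
    (hX : IsLocallyNoetherian X ∨ (IsReduced X ∧ ∀ x : ↥X, ∃ W : X.Opens, x ∈ W ∧
      {Z : Set ↥X | Z ∈ irreducibleComponents ↥X ∧ (Z ∩ (W : Set ↥X)).Nonempty}.Finite))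
    (U : X.Opens) (hU : CInt.IsSchematicallyDense U) (h : (U : Scheme.{u}) ⟶ Y) (hh : h ≫ pY = U.ι ≫ pX)
    (x : ↥X) :
    (∃ (V : X.Opens) (v : (V : Scheme.{u}) ⟶ Y), x ∈ V ∧ v ≫ pY = V.ι ≫ pX ∧
        X.homOfLE (inf_le_right : U ⊓ V ≤ V) ≫ v = X.homOfLE (inf_le_left : U ⊓ V ≤ U) ≫ h) ↔
      ∃ w : Spec (X.presheaf.stalk x) ⟶ Y, w ≫ pY = X.fromSpecStalk x ≫ pX ∧
        pullback.fst (X.fromSpecStalk x) U.ι ≫ w = pullback.snd (X.fromSpecStalk x) U.ι ≫ h := by
  classical
  -- a general lift of the fibre product into `U ⊓ V`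
  have hlift : ∀ (V : X.Opens) (hxV : x ∈ V),
      ∃ ℓ : pullback (X.fromSpecStalk x) U.ι ⟶ (U ⊓ V).toScheme,
        pullback.fst _ _ ≫ V.fromSpecStalkOfMem x hxV = ℓ ≫ X.homOfLE inf_le_right ∧
        pullback.snd _ _ = ℓ ≫ X.homOfLE inf_le_left := by
    intro V hxV
    have hrange : Set.range (pullback.snd (X.fromSpecStalk x) U.ι ≫ U.ι) ⊆
        Set.range (U ⊓ V).ι := by
      rintro _ ⟨p, rfl⟩
      have h1 : (pullback.snd (X.fromSpecStalk x) U.ι ≫ U.ι) p ∈ U := by
        rw [Scheme.Hom.comp_apply]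
        exact (pullback.snd (X.fromSpecStalk x) U.ι p).2
      have h2 : (pullback.snd (X.fromSpecStalk x) U.ι ≫ U.ι) p ∈ V := by
        rw [← pullback.condition, Scheme.Hom.comp_apply]
        have : X.fromSpecStalk x (pullback.fst (X.fromSpecStalk x) U.ι p) ∈
            Set.range (X.fromSpecStalk x) := ⟨_, rfl⟩
        rw [Scheme.range_fromSpecStalk] at this
        exact this.mem_open V.2 hxV
      rw [Scheme.Opens.range_ι]
      exact ⟨h1, h2⟩
    let ℓ := IsOpenImmersion.lift (U ⊓ V).ι (pullback.snd _ _ ≫ U.ι) hrange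
    have hℓ : ℓ ≫ (U ⊓ V).ι = pullback.snd _ _ ≫ U.ι := IsOpenImmersion.lift_fac _ _ _
    refine ⟨ℓ, ?_, ?_⟩
    · rw [← cancel_mono V.ι]
      simp only [Category.assoc, Scheme.Opens.fromSpecStalkOfMem_ι, Scheme.homOfLE_ι, hℓ]
      exact pullback.condition
    · rw [← cancel_mono U.ι]
      simp only [Category.assoc, Scheme.homOfLE_ι, hℓ]
  constructor
  · rintro ⟨V, v, hxV, hvS, hvU⟩
    refine ⟨V.fromSpecStalkOfMem x hxV ≫ v, ?_, ?_⟩
    · rw [Category.assoc, hvS, Scheme.Opens.fromSpecStalkOfMem_ι_assoc]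
    · obtain ⟨ℓ, h1, h2⟩ := hlift V hxV
      rw [reassoc_of% h1, hvU, ← reassoc_of% h2]
  · rintro ⟨w, hwS, hwU⟩
    -- germ injectivity near `x`
    obtain ⟨W₀, hxW₀, hgi⟩ : ∃ W₀ : X.Opens, x ∈ W₀ ∧ ∀ y ∈ W₀, X.IsGermInjectiveAt y := by
      rcases hX with hN | ⟨hred, hfin⟩
      · exact ⟨⊤, trivial, fun y _ => inferInstance⟩
      · obtain ⟨W, hxW, hW⟩ := hfin x
        exact ⟨W, hxW, fun y hy => isGermInjectiveAt_of_isReduced_of_finite_inter X W hW y hy⟩
    have := hgi x hxW₀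
    have : LocallyOfFiniteType pY := inferInstance
    obtain ⟨V₁', hxV₁', v₁', hv₁', hv₁S'⟩ := spread_out_of_isGermInjective' pX pY w hwS
    let V₁ : X.Opens := V₁' ⊓ W₀
    have hxV₁ : x ∈ V₁ := ⟨hxV₁', hxW₀⟩
    obtain ⟨v₁, hv₁def⟩ : ∃ v₁ : V₁.toScheme ⟶ Y,
        v₁ = X.homOfLE (inf_le_left : V₁ ≤ V₁') ≫ v₁' := ⟨_, rfl⟩
    have hv₁S : v₁ ≫ pY = V₁.ι ≫ pX := by
      simp only [hv₁def, Category.assoc, hv₁S']
      rw [Scheme.homOfLE_ι_assoc]
    have hv₁ : w = V₁.fromSpecStalkOfMem x hxV₁ ≫ v₁ := by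
      rw [hv₁']
      simp only [hv₁def]
      rw [← Category.assoc]
      congr 1
      rw [← cancel_mono V₁'.ι, Category.assoc, X.homOfLE_ι, Scheme.Opens.fromSpecStalkOfMem_ι,
        Scheme.Opens.fromSpecStalkOfMem_ι]
    have hw' : pullback.fst (X.fromSpecStalk x) U.ι ≫ V₁.fromSpecStalkOfMem x hxV₁ ≫ v₁ =
        pullback.snd (X.fromSpecStalk x) U.ι ≫ h := by
      rw [← hv₁, hwU]
    have hN : ∀ y : X, y ⤳ x → y ∈ U → ∃ N : X.Opens, y ∈ N ∧ Agree U V₁ h v₁ N := by
      intro y hyx hyU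
      have hyV₁ : y ∈ V₁ := hyx.mem_open V₁.2 hxV₁
      have := hgi y hyV₁.2
      exact agree_near_generization U V₁ h v₁ x hxV₁ hw' y hyx hyU
    choose! N hyN hNagree using hN
    let NN : X.Opens := ⨆ i : {y : X // y ⤳ x ∧ y ∈ U}, N i.1
    have hNN : Agree U V₁ h v₁ NN := Agree.iSup fun i => hNagree i.1 i.2.1 i.2.2
    have hmemNN : ∀ y : X, y ⤳ x → y ∈ U → y ∈ NN := fun y hyx hyU =>
      Opens.mem_iSup.mpr ⟨⟨y, hyx, hyU⟩, hyN y hyx hyU⟩
    obtain ⟨V, hxV, hVV₁, hUV⟩ : ∃ V : X.Opens, x ∈ V ∧ V ≤ V₁ ∧ Agree U V₁ h v₁ (U ⊓ V) := by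
      rcases hX with hNoeth | ⟨hred, hfin⟩
      · -- locally Noetherian case
        let O : X.Opens := U ⊓ V₁
        let C : Closeds O.toScheme :=
          ⟨((O.ι ⁻¹ᵁ NN : O.toScheme.Opens) : Set O.toScheme)ᶜ, (O.ι ⁻¹ᵁ NN).2.isClosed_compl⟩
        let I := Scheme.IdealSheafData.vanishingIdeal C
        let f : I.subscheme ⟶ X := I.subschemeι ≫ O.ι
        have hrange : ∀ y : X, y ∈ Set.range f ↔ (y ∈ O ∧ y ∉ NN) := by
          intro y
          constructor
          · rintro ⟨c, rfl⟩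
            have hc : I.subschemeι c ∈ Set.range I.subschemeι := ⟨c, rfl⟩
            rw [Scheme.IdealSheafData.range_subschemeι,
              Scheme.IdealSheafData.coe_support_vanishingIdeal] at hc
            refine ⟨?_, ?_⟩
            · simp only [f, Scheme.Hom.comp_apply]
              exact (I.subschemeι c).2
            · simp only [f, Scheme.Hom.comp_apply]
              exact hc
          · rintro ⟨hyO, hyN⟩
            have hc : (⟨y, hyO⟩ : O.toScheme) ∈ Set.range I.subschemeι := by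
              rw [Scheme.IdealSheafData.range_subschemeι,
                Scheme.IdealSheafData.coe_support_vanishingIdeal]
              exact hyN
            obtain ⟨c, hc⟩ := hc
            refine ⟨c, ?_⟩
            simp only [f, Scheme.Hom.comp_apply, hc]
            rfl
        have hx_not : x ∉ closure (Set.range f) := by
          intro hx
          obtain ⟨c, hc⟩ :=
            Groth.Agent.Lib.Helper12.exists_specializes_of_mem_closure_range f x hx
          have hfc : f c ∈ Set.range f := ⟨c, rfl⟩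
          rw [hrange] at hfc
          exact hfc.2 (hmemNN _ hc hfc.1.1)
        refine ⟨V₁ ⊓ ⟨(closure (Set.range f))ᶜ, isClosed_closure.isOpen_compl⟩,
          ⟨hxV₁, hx_not⟩, inf_le_left, ?_⟩
        apply hNN.mono
        rintro y ⟨hyU, hyV₁, hyK⟩
        by_contra hyn
        exact hyK (subset_closure ((hrange y).mpr ⟨⟨hyU, hyV₁⟩, hyn⟩))
      · -- reduced case
        obtain ⟨W, hxW, hW⟩ := hfin x
        let Zbad : Set (Set X) :=
          {Z | (Z ∈ irreducibleComponents ↥X ∧ (Z ∩ (W : Set ↥X)).Nonempty) ∧ x ∉ Z}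
        have hZfin : Zbad.Finite := hW.subset fun Z hZ => hZ.1
        have hclosed : IsClosed (⋃₀ Zbad) := by
          rw [Set.sUnion_eq_biUnion]
          exact hZfin.isClosed_biUnion fun Z hZ =>
            isClosed_of_mem_irreducibleComponents Z hZ.1.1
        have hxK : x ∉ ⋃₀ Zbad := by
          rintro ⟨Z, hZ, hxZ⟩
          exact hZ.2 hxZ
        let V : X.Opens := (V₁ ⊓ W) ⊓ ⟨(⋃₀ Zbad)ᶜ, hclosed.isOpen_compl⟩
        have hVV₁ : V ≤ V₁ := inf_le_left.trans inf_le_left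
        refine ⟨V, ⟨⟨hxV₁, hxW⟩, hxK⟩, hVV₁, ?_⟩
        have hOU : U ⊓ V ≤ U := inf_le_left
        have hOV : U ⊓ V ≤ V₁ := inf_le_right.trans hVV₁
        refine ⟨hOU, hOV, ?_⟩
        let G : (U ⊓ V).toScheme.Opens := (U ⊓ V).ι ⁻¹ᵁ NN
        have hGdense : Dense (G : Set (U ⊓ V).toScheme) := by
          rw [dense_iff_inter_open]
          rintro G' hG' ⟨g', hg'⟩
          have hG'' : IsOpen ((U ⊓ V).ι '' G') := (U ⊓ V).ι.isOpenEmbedding.isOpenMap _ hG'
          let g : X := g'.1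
          have hgUV : g ∈ U ⊓ V := g'.2
          have hgG'' : g ∈ (U ⊓ V).ι '' G' := ⟨g', hg', rfl⟩
          let Z := irreducibleComponent g
          have hZmem : Z ∈ irreducibleComponents ↥X := irreducibleComponent_mem_irreducibleComponents g
          have hxZ : x ∈ Z := by
            by_contra hxn
            exact hgUV.2.2 ⟨Z, ⟨⟨hZmem, ⟨g, mem_irreducibleComponent, hgUV.2.1.2⟩⟩, hxn⟩,
              mem_irreducibleComponent⟩
          have hgen := (isIrreducible_irreducibleComponent (x := g)).isGenericPoint_genericPoint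
            isClosed_irreducibleComponent
          set η := (isIrreducible_irreducibleComponent (x := g)).genericPoint with hη
          have hηG'' : η ∈ (U ⊓ V).ι '' G' :=
            (hgen.mem_open_set_iff hG'').mpr ⟨g, mem_irreducibleComponent, hgG''⟩
          obtain ⟨η', hη'G', hη'⟩ := hηG''
          have hηx : η ⤳ x := hgen.specializes hxZ
          have hηU : η ∈ U := by
            rw [← hη']
            exact η'.2.1
          have hηNN : η ∈ NN := hmemNN η hηx hηU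
          refine ⟨η', hη'G', ?_⟩
          change (U ⊓ V).ι η' ∈ NN
          rw [hη']
          exact hηNN
        have hdom : IsDominant G.ι := AlgebraicGeometry.Opens.isDominant_ι hGdense
        have : IsReduced (U ⊓ V).toScheme := inferInstance
        refine ext_of_isDominant_of_isSeparated pY ?_ G.ι ?_
        · rw [Category.assoc, Category.assoc, hv₁S, hh, Scheme.homOfLE_ι_assoc,
            Scheme.homOfLE_ι_assoc]
        · obtain ⟨hNU, hNV, e⟩ := hNN
          let r : G.toScheme ⟶ NN.toScheme := (U ⊓ V).ι ∣_ NN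
          have hr : r ≫ NN.ι = G.ι ≫ (U ⊓ V).ι := morphismRestrict_ι _ _
          have e1 : G.ι ≫ X.homOfLE hOV = r ≫ X.homOfLE hNV := by
            rw [← cancel_mono V₁.ι]
            simp only [Category.assoc, Scheme.homOfLE_ι, hr]
          have e2 : G.ι ≫ X.homOfLE hOU = r ≫ X.homOfLE hNU := by
            rw [← cancel_mono U.ι]
            simp only [Category.assoc, Scheme.homOfLE_ι, hr]
          rw [reassoc_of% e1, reassoc_of% e2, e]
    obtain ⟨hU', hV', e⟩ := hUV
    refine ⟨V, X.homOfLE hVV₁ ≫ v₁, hxV, ?_, ?_⟩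
    · rw [Category.assoc, hv₁S, Scheme.homOfLE_ι_assoc]
    · rw [X.homOfLE_homOfLE_assoc]
      exact e

end Groth.Agent.S5104
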