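import Groth.Statements.S5107
import Mathlib
import Groth.Agent.Lib.Helper7LimFlat
import Groth.Agent.Lib.Helper7LimComp
import Groth.Agent.Lib.Helper22IdealComap

set_option autoImplicit false
universe u
open CategoryTheory CategoryTheory.Limits AlgebraicGeometry TopologicalSpace
open Lim8

namespace Groth.Agent.S5107

open CategoryTheory CategoryTheory.Limits AlgebraicGeometry TopologicalSpace

/-- `f.toImage` is scheme-theoretically dominant for quasi-compact `f`. -/
theorem isSchemeTheoreticallyDominant_toImage {X Y : Scheme.{u}} (f : X ⟶ Y) [QuasiCompact f] :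
    IsSchemeTheoreticallyDominant f.toImage := by
  rw [isSchemeTheoreticallyDominant_iff]
  have haff : ∀ U : Y.affineOpens, IsAffineOpen (f.imageι ⁻¹ᵁ U.1) := fun U => U.2.preimage _
  apply Scheme.IdealSheafData.ext_of_iSup_eq_top
    (fun U : Y.affineOpens => (⟨f.imageι ⁻¹ᵁ U.1, haff U⟩ : f.image.affineOpens))
  · rw [eq_top_iff]
    intro x _
    obtain ⟨_, ⟨U, hU : IsAffineOpen U, rfl⟩, hxU, -⟩ :=
      Y.isBasis_affineOpens.exists_subset_of_mem_open (Set.mem_univ (f.imageι x)) isOpen_univ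
    exact TopologicalSpace.Opens.mem_iSup.mpr ⟨⟨U, hU⟩, hxU⟩
  · intro U
    simp only [Scheme.Hom.ker_apply, Scheme.IdealSheafData.ideal_bot, Pi.bot_apply]
    rw [← RingHom.injective_iff_ker_eq_bot]
    exact f.toImage_app_injective U

theorem isSchemeTheoreticallyDominant_snd_comp {X V S Y : Scheme.{u}} (f' : X ⟶ V) (i : V ⟶ S)
    (g : Y ⟶ S) [IsSchemeTheoreticallyDominant f'] [QuasiCompact f'] [Flat g]
    [IsIso (pullback.snd i g)] : IsSchemeTheoreticallyDominant (pullback.snd (f' ≫ i) g) := by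
  have e := pullbackRightPullbackFstIso i g f'
  have h : pullback.snd (f' ≫ i) g =
      (pullbackRightPullbackFstIso i g f').inv ≫ pullback.snd f' (pullback.fst i g) ≫
        pullback.snd i g := by
    rw [Iso.eq_inv_comp, pullbackRightPullbackFstIso_hom_snd]
  rw [h]
  infer_instance

theorem isIso_snd_of_comap_eq_bot {S Y : Scheme.{u}} (I : S.IdealSheafData) (g : Y ⟶ S)
    (h : I.comap g = ⊥) : IsIso (pullback.snd I.subschemeι g) := by
  have h1 : IsIso (I.comap g).subschemeι := by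
    rw [Scheme.isIso_subschemeι_iff_eq_bot]; exact h
  have h2 : IsIso (pullback.fst g I.subschemeι) := by
    rw [← I.comapIso_inv_subschemeι g]
    infer_instance
  rw [← pullbackSymmetry_hom_comp_fst]
  infer_instance

/-- flat base change: if the pull-back of the kernel of a quasi-compact morphism along a flat
morphism vanishes, the base-changed morphism is scheme-theoretically dominant. -/
theorem isSchemeTheoreticallyDominant_of_isPullback_of_comap_ker {X S Y Z : Scheme.{u}}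
    {f : X ⟶ S} {g : Y ⟶ S} {pX : Z ⟶ X} {pY : Z ⟶ Y} (H : IsPullback pX pY f g)
    [QuasiCompact f] [Flat g] (h : f.ker.comap g = ⊥) : IsSchemeTheoreticallyDominant pY := by
  haveI := isSchemeTheoreticallyDominant_toImage f
  haveI : IsIso (pullback.snd f.imageι g) := isIso_snd_of_comap_eq_bot f.ker g h
  have key := isSchemeTheoreticallyDominant_snd_comp f.toImage f.imageι g
  rw [← H.isoPullback_hom_snd]
  have h2 : IsSchemeTheoreticallyDominant (pullback.snd f g) := by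
    have e : f.toImage ≫ f.imageι = f := f.toImage_imageι
    rw [e] at key
    exact key
  infer_instance

theorem ι_app_eq {X : Scheme.{u}} (U V : X.Opens) :
    U.ι.app V = X.presheaf.map (homOfLE (x := U.ι ''ᵁ U.ι ⁻¹ᵁ V)
      (Set.image_preimage_subset _ _)).op := rfl

theorem image_preimage_eq_inf {X : Scheme.{u}} (U V : X.Opens) :
    U.ι ''ᵁ U.ι ⁻¹ᵁ V = V ⊓ U := by
  ext x
  constructor
  · rintro ⟨y, hy, rfl⟩
    exact ⟨hy, y.2⟩
  · rintro ⟨h1, h2⟩
    exact ⟨⟨x, h2⟩, h1, rfl⟩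

theorem isSchematicallyDense_iff {X : Scheme.{u}} (U : X.Opens) [QuasiCompact U.ι] :
    CInt.IsSchematicallyDense U ↔ IsSchemeTheoreticallyDominant U.ι := by
  constructor
  · intro h
    rw [isSchemeTheoreticallyDominant_iff]
    apply Scheme.IdealSheafData.ext_of_iSup_eq_top (fun W : X.affineOpens => W)
    · rw [eq_top_iff]
      intro x _
      obtain ⟨_, ⟨W, hW : IsAffineOpen W, rfl⟩, hxW, -⟩ :=
        X.isBasis_affineOpens.exists_subset_of_mem_open (Set.mem_univ x) isOpen_univ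
      exact TopologicalSpace.Opens.mem_iSup.mpr ⟨⟨W, hW⟩, hxW⟩
    · intro W
      simp only [Scheme.Hom.ker_apply, Scheme.IdealSheafData.ideal_bot, Pi.bot_apply]
      rw [eq_bot_iff]
      intro z hz
      rw [RingHom.mem_ker] at hz
      rw [Ideal.mem_bot]
      have hD' : U.ι ''ᵁ U.ι ⁻¹ᵁ W.1 ≤ W.1 := Set.image_preimage_subset _ _
      have hz' : (X.presheaf.map (homOfLE hD').op).hom z = 0 := hz
      have hle : W.1 ⊓ U ≤ U.ι ''ᵁ U.ι ⁻¹ᵁ W.1 := (image_preimage_eq_inf U W.1).ge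
      apply h W.1
      have h3 : X.presheaf.map (homOfLE (inf_le_left : W.1 ⊓ U ≤ W.1)).op =
          X.presheaf.map (homOfLE hD').op ≫ X.presheaf.map (homOfLE hle).op := by
        rw [← Functor.map_comp]; rfl
      rw [map_zero]
      show (X.presheaf.map (homOfLE (inf_le_left : W.1 ⊓ U ≤ W.1)).op).hom z = 0
      rw [h3, CommRingCat.hom_comp, RingHom.comp_apply, hz', map_zero]
  · intro h V
    rw [injective_iff_map_eq_zero]
    intro z hz
    apply (injective_iff_map_eq_zero _).mp (U.ι.app_injective V)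
    have hD' : U.ι ''ᵁ U.ι ⁻¹ᵁ V ≤ V := Set.image_preimage_subset _ _
    have hle : U.ι ''ᵁ U.ι ⁻¹ᵁ V ≤ V ⊓ U := (image_preimage_eq_inf U V).le
    show (X.presheaf.map (homOfLE hD').op).hom z = 0
    have h3 : X.presheaf.map (homOfLE hD').op =
        X.presheaf.map (homOfLE (inf_le_left : V ⊓ U ≤ V)).op ≫
          X.presheaf.map (homOfLE hle).op := by
      rw [← Functor.map_comp]; rfl
    have hz' : (X.presheaf.map (homOfLE (inf_le_left : V ⊓ U ≤ V)).op).hom z = 0 := hz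
    rw [h3, CommRingCat.hom_comp, RingHom.comp_apply, hz', map_zero]

theorem dense_limit_of_stage {I : Type u} [SmallCategory I]
    [IsCofiltered I] (D : I ⥤ Scheme.{u}) (c : Limits.Cone D) (hc : Limits.IsLimit c)
    [∀ (i j : I) (g : i ⟶ j), IsAffineHom (D.map g)] [∀ (i j : I) (g : i ⟶ j), Flat (D.map g)]
    [∀ i : I, IsNoetherian (D.obj i)] [IsNoetherian c.pt] (i₀ : I) (U₀ : (D.obj i₀).Opens)
    (i : I) (g : i ⟶ i₀) (h : CInt.IsSchematicallyDense ((D.map g) ⁻¹ᵁ U₀)) :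
    CInt.IsSchematicallyDense ((c.π.app i₀) ⁻¹ᵁ U₀) := by
  have heq : c.π.app i₀ ⁻¹ᵁ U₀ = c.π.app i ⁻¹ᵁ (D.map g ⁻¹ᵁ U₀) := by
    rw [← Scheme.Hom.comp_preimage, c.w]
  rw [heq]
  haveI : QuasiCompact (c.π.app i ⁻¹ᵁ D.map g ⁻¹ᵁ U₀).ι := by
    have : IsLocallyNoetherian (((Functor.const I).obj c.pt).obj i) :=
      inferInstanceAs (IsLocallyNoetherian c.pt)
    infer_instance
  rw [isSchematicallyDense_iff] at h ⊢
  haveI := h
  haveI : Flat (c.π.app i) :=
    Groth.Agent.Lib.Helper7.flat_π_app D c hc i (fun j φ => inferInstance)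
  exact IsSchemeTheoreticallyDominant.of_isPullback
    (isPullback_morphismRestrict (c.π.app i) (D.map g ⁻¹ᵁ U₀))

/-- sections in the kernel of `U₀ ↪ Y` pull back to zero along `p : X ⟶ Y` when `p⁻¹ U₀` is
schematically dense. -/
theorem app_eq_zero_of_mem_ker {X Y : Scheme.{u}} (p : X ⟶ Y) (U₀ : Y.Opens) [QuasiCompact U₀.ι]
    (h : CInt.IsSchematicallyDense (p ⁻¹ᵁ U₀)) (W : Y.affineOpens) (a : Γ(Y, W.1))
    (ha : a ∈ U₀.ι.ker.ideal W) : (p.app W.1).hom a = 0 := by
  rw [Scheme.Hom.ker_apply, RingHom.mem_ker] at ha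
  have hD' : U₀.ι ''ᵁ U₀.ι ⁻¹ᵁ W.1 ≤ W.1 := Set.image_preimage_subset _ _
  have ha' : (Y.presheaf.map (homOfLE hD').op).hom a = 0 := ha
  have hle : W.1 ⊓ U₀ ≤ U₀.ι ''ᵁ U₀.ι ⁻¹ᵁ W.1 := (image_preimage_eq_inf U₀ W.1).ge
  have ha'' : (Y.presheaf.map (homOfLE (inf_le_left : W.1 ⊓ U₀ ≤ W.1)).op).hom a = 0 := by
    have h3 : Y.presheaf.map (homOfLE (inf_le_left : W.1 ⊓ U₀ ≤ W.1)).op =
        Y.presheaf.map (homOfLE hD').op ≫ Y.presheaf.map (homOfLE hle).op := by
      rw [← Functor.map_comp]; rfl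
    rw [h3, CommRingCat.hom_comp, RingHom.comp_apply, ha', map_zero]
  apply h (p ⁻¹ᵁ W.1)
  rw [map_zero]
  have hle2 : p ⁻¹ᵁ W.1 ⊓ p ⁻¹ᵁ U₀ ≤ p ⁻¹ᵁ (W.1 ⊓ U₀) := le_of_eq rfl
  have e1 : p.app W.1 ≫ X.presheaf.map (homOfLE (inf_le_left :
      p ⁻¹ᵁ W.1 ⊓ p ⁻¹ᵁ U₀ ≤ p ⁻¹ᵁ W.1)).op =
      Y.presheaf.map (homOfLE (inf_le_left : W.1 ⊓ U₀ ≤ W.1)).op ≫
        p.appLE (W.1 ⊓ U₀) (p ⁻¹ᵁ W.1 ⊓ p ⁻¹ᵁ U₀) hle2 := by
    rw [Scheme.Hom.map_appLE]
    rfl
  have := congrArg (fun φ => φ.hom a) e1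
  simp only [CommRingCat.hom_comp, RingHom.comp_apply] at this
  rw [this, ha'', map_zero]

theorem app_eq_zero_of_eq_comp {X Y Z : Scheme.{u}} (h : X ⟶ Z) (g : X ⟶ Y) (f : Y ⟶ Z)
    (e : h = g ≫ f) (V : Z.Opens) (a : Γ(Z, V)) (ha : (f.app V).hom a = 0) :
    (h.app V).hom a = 0 := by
  subst e
  have h1 : ((g ≫ f).app V).hom a = (g.app (f ⁻¹ᵁ V)).hom ((f.app V).hom a) := by
    rw [Scheme.Hom.comp_app]; rfl
  rw [h1, ha, map_zero]
  rfl

theorem stage_of_dense_limit {I : Type u} [SmallCategory I]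
    [IsCofiltered I] (D : I ⥤ Scheme.{u}) (c : Limits.Cone D) (hc : Limits.IsLimit c)
    [∀ (i j : I) (g : i ⟶ j), IsAffineHom (D.map g)] [∀ (i j : I) (g : i ⟶ j), Flat (D.map g)]
    [∀ i : I, IsNoetherian (D.obj i)] [IsNoetherian c.pt] (i₀ : I) (U₀ : (D.obj i₀).Opens)
    (h : CInt.IsSchematicallyDense ((c.π.app i₀) ⁻¹ᵁ U₀)) :
    ∃ (i : I) (g : i ⟶ i₀), CInt.IsSchematicallyDense ((D.map g) ⁻¹ᵁ U₀) := by
  have inst : ∀ {i j : I} (f : i ⟶ j), IsAffineHom (D.map f) := fun f => inferInstance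
  set K₀ := U₀.ι.ker with hK₀
  let 𝒰 := (D.obj i₀).affineCover.finiteSubcover
  have hfin : Finite 𝒰.I₀ := inferInstance
  let W : 𝒰.I₀ → (D.obj i₀).affineOpens := fun m =>
    ⟨(𝒰.f m).opensRange, isAffineOpen_opensRange _⟩
  have hWtop : ⨆ m, (W m).1 = ⊤ := 𝒰.iSup_opensRange
  have hN : ∀ m, IsNoetherianRing Γ(D.obj i₀, (W m).1) := fun m =>
    IsLocallyNoetherian.component_noetherian (W m)
  have hfg : ∀ m, ∃ G : Finset Γ(D.obj i₀, (W m).1), Ideal.span (G : Set _) = K₀.ideal (W m) :=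
    fun m => (IsNoetherian.noetherian (K₀.ideal (W m)))
  choose G hG using hfg
  -- the finite index set
  let T : Set (Σ m, Γ(D.obj i₀, (W m).1)) := {p | p.2 ∈ G p.1}
  have hT : T.Finite := by
    have : T = ⋃ m, (fun a => (⟨m, a⟩ : Σ m, Γ(D.obj i₀, (W m).1))) '' (G m : Set _) := by
      ext ⟨m, a⟩
      simp only [T, Set.mem_iUnion, Set.mem_image, Finset.mem_coe]
      constructor
      · intro h; exact ⟨m, a, h, rfl⟩
      · rintro ⟨m', a', h', he⟩
        cases he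
        exact h'
    rw [this]
    exact Set.finite_iUnion (fun m => (G m).finite_toSet.image _)
  let Q : (Σ m, Γ(D.obj i₀, (W m).1)) → Over i₀ → Prop := fun p j =>
    ((D.map j.hom).app (W p.1).1).hom p.2 = 0
  obtain ⟨k, -, hk⟩ := Groth.Agent.Lib.Helper7.exists_forall_of_finite (I := Over i₀) T hT Q
    (by
      rintro ⟨m, a⟩ hp
      have ha : a ∈ K₀.ideal (W m) := by
        rw [← hG m]; exact Ideal.subset_span hp
      have h0 := app_eq_zero_of_mem_ker (c.π.app i₀) U₀ h (W m) a ha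
      obtain ⟨j, f, hj⟩ := exists_app_map_eq_zero_of_isLimit D c hc (W m).2.isCompact a h0
      refine ⟨Over.mk f, fun j' φ => ?_⟩
      exact app_eq_zero_of_eq_comp (D.map j'.hom) (D.map φ.left) (D.map f)
        (by rw [← D.map_comp]; congr 1; exact (Over.w φ).symm) _ a hj)
    (Over.mk (𝟙 i₀))
  refine ⟨k.left, k.hom, ?_⟩
  -- the pulled-back kernel vanishes
  have hcomap : K₀.comap (D.map k.hom) = ⊥ := by
    have haff : ∀ m, IsAffineOpen (D.map k.hom ⁻¹ᵁ (W m).1) := fun m => (W m).2.preimage _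
    apply Scheme.IdealSheafData.ext_of_iSup_eq_top
      (fun m => (⟨D.map k.hom ⁻¹ᵁ (W m).1, haff m⟩ : (D.obj k.left).affineOpens))
    · rw [eq_top_iff]
      intro x _
      have hx : D.map k.hom x ∈ (⨆ m, (W m).1 : (D.obj i₀).Opens) := by rw [hWtop]; trivial
      obtain ⟨m, hm⟩ := TopologicalSpace.Opens.mem_iSup.mp hx
      exact TopologicalSpace.Opens.mem_iSup.mpr ⟨m, hm⟩
    · intro m
      rw [Groth.Agent.Lib.Helper22.IdealComap.ideal_comap_eq_map (D.map k.hom) K₀ ⟨_, haff m⟩ (W m)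
        le_rfl, ← hG m, Ideal.map_span, Scheme.IdealSheafData.ideal_bot, Pi.bot_apply,
        Ideal.span_eq_bot]
      rintro _ ⟨a, ha, rfl⟩
      have := hk ⟨m, a⟩ ha k (𝟙 k)
      rw [Scheme.Hom.appLE_eq_app]
      exact this
  haveI : IsSchemeTheoreticallyDominant (D.map k.hom ⁻¹ᵁ U₀).ι :=
    isSchemeTheoreticallyDominant_of_isPullback_of_comap_ker
      (isPullback_morphismRestrict (D.map k.hom) U₀) hcomap
  rw [isSchematicallyDense_iff]
  infer_instance

/-- Let (X_i) be a cofiltered system of Noetherian schemes with affine and flat transition morphisms, X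
its limit, assumed Noetherian as well, and U₀ an open subset of X_{i₀}, with inverse images U_i in
X_i (for i over i₀) and U in X. Then U is schematically dense in X if and only if there is an index
i over i₀ such that U_i is schematically dense in X_i (and then, the transition morphisms being
flat, U_j is schematically dense in X_j for every j over i). -/
theorem result {I : Type u} [SmallCategory I]
    [IsCofiltered I] (D : I ⥤ Scheme.{u}) (c : Limits.Cone D) (hc : Limits.IsLimit c)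
    [∀ (i j : I) (g : i ⟶ j), IsAffineHom (D.map g)] [∀ (i j : I) (g : i ⟶ j), Flat (D.map g)]
    [∀ i : I, IsNoetherian (D.obj i)] [IsNoetherian c.pt] (i₀ : I) (U₀ : (D.obj i₀).Opens) :
    CInt.IsSchematicallyDense ((c.π.app i₀) ⁻¹ᵁ U₀) ↔
      ∃ (i : I) (g : i ⟶ i₀), CInt.IsSchematicallyDense ((D.map g) ⁻¹ᵁ U₀) := by
  constructor
  · exact stage_of_dense_limit D c hc i₀ U₀
  · rintro ⟨i, g, h⟩
    exact dense_limit_of_stage D c hc i₀ U₀ i g h

end Groth.Agent.S5107
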