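import Groth.Statements.S5110
import Mathlib
import Groth.Agent.S5106

set_option autoImplicit false
universe u
open CategoryTheory CategoryTheory.Limits AlgebraicGeometry TopologicalSpace
open Lim8

namespace Groth.Agent.S5110

open CategoryTheory CategoryTheory.Limits AlgebraicGeometry TopologicalSpace
open Groth.Agent.S5106 (exists_maximal_generization)

lemma dense_of_maximal_subset {X : Type*} [TopologicalSpace X] [QuasiSober X] [T0Space X]
    (V : Set X) (hV : ∀ η : X, (∀ z : X, z ⤳ η → z = η) → η ∈ V) : Dense V := by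
  rw [dense_iff_inter_open]
  rintro O hO ⟨x, hx⟩
  obtain ⟨η, h1, h2⟩ := exists_maximal_generization x
  exact ⟨η, h2.mem_open hO hx, hV η h1⟩

lemma maximal_mem_of_dense {X : Type*} [TopologicalSpace X] [QuasiSober X] [T0Space X]
    (hfin : {s : X | ∀ z : X, z ⤳ s → z = s}.Finite) (V : Set X) (hVo : IsOpen V)
    (hV : Dense V) (η : X) (hη : ∀ z : X, z ⤳ η → z = η) : η ∈ V := by
  let M : Set X := {μ : X | (∀ z : X, z ⤳ μ → z = μ) ∧ μ ≠ η}
  have hMfin : M.Finite := hfin.subset (fun μ h => h.1)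
  let C : Set X := ⋃ μ ∈ M, closure {μ}
  have hC : IsClosed C := hMfin.isClosed_biUnion (fun μ _ => isClosed_closure)
  have hηC : η ∈ Cᶜ := by
    intro h
    simp only [C, Set.mem_iUnion] at h
    obtain ⟨μ, hμ, hμη⟩ := h
    have : μ ⤳ η := specializes_iff_mem_closure.mpr hμη
    exact hμ.2 (hη μ this)
  obtain ⟨x, hxC, hxV⟩ := (dense_iff_inter_open.mp hV) Cᶜ hC.isOpen_compl ⟨η, hηC⟩
  obtain ⟨μ, h1, h2⟩ := exists_maximal_generization x
  by_cases hμ : μ = η
  · subst hμ
    exact h2.mem_open hVo hxV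
  · exfalso
    apply hxC
    simp only [C, Set.mem_iUnion]
    exact ⟨μ, ⟨h1, hμ⟩, specializes_iff_mem_closure.mp h2⟩

lemma map_map_apply {I : Type u} [SmallCategory I] (D : I ⥤ Scheme.{u}) {a b c : I}
    (f : a ⟶ b) (g : b ⟶ c) (h : a ⟶ c) (w : f ≫ g = h) (x : D.obj a) :
    D.map g (D.map f x) = D.map h x := by
  subst w
  rw [D.map_comp]; rfl

/-- Let (S_i) be a cofiltered system of schemes with affine transition morphisms and S its limit, such
that every S_i has finitely many maximal points and the transition morphisms send maximal points to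
maximal points; let S_{i₀} be quasi-compact and V₀ an open subset of S_{i₀}, with inverse images V_i
in the S_i over i₀ and V in S. If V₀ is dense in S_{i₀} then every V_i and V are dense. Conversely,
if V is dense in S and S has only finitely many maximal points, then V_i is dense in S_i for some i
over i₀. -/
theorem result {I : Type u} [SmallCategory I] [IsCofiltered I]
    (D : I ⥤ Scheme.{u}) (c : Limits.Cone D) (hc : Limits.IsLimit c)
    [∀ (i j : I) (g : i ⟶ j), IsAffineHom (D.map g)]
    (hfin : ∀ i : I, {s : ↥(D.obj i) | ∀ z : ↥(D.obj i), z ⤳ s → z = s}.Finite)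
    (hsys : ∀ (i j : I) (g : i ⟶ j) (s : ↥(D.obj i)), (∀ z : ↥(D.obj i), z ⤳ s → z = s) →
      ∀ z : ↥(D.obj j), z ⤳ D.map g s → z = D.map g s)
    (i₀ : I) [CompactSpace ↥(D.obj i₀)] (V₀ : (D.obj i₀).Opens) :
    (Dense (V₀ : Set ↥(D.obj i₀)) →
        (∀ (i : I) (g : i ⟶ i₀), Dense (((D.map g) ⁻¹ᵁ V₀ : (D.obj i).Opens) : Set ↥(D.obj i))) ∧
          Dense (((c.π.app i₀) ⁻¹ᵁ V₀ : c.pt.Opens) : Set ↥c.pt)) ∧
      (Dense (((c.π.app i₀) ⁻¹ᵁ V₀ : c.pt.Opens) : Set ↥c.pt) →
        {s : ↥c.pt | ∀ z : ↥c.pt, z ⤳ s → z = s}.Finite →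
          ∃ (i : I) (g : i ⟶ i₀), Dense (((D.map g) ⁻¹ᵁ V₀ : (D.obj i).Opens) : Set ↥(D.obj i))) := by
  have inst : ∀ {i j : I} (f : i ⟶ j), IsAffineHom (D.map f) := fun f => inferInstance
  have h5106 := Groth.Agent.S5106.result D c hc hfin hsys
  constructor
  · intro hV₀
    have hmax₀ : ∀ η : D.obj i₀, (∀ z : D.obj i₀, z ⤳ η → z = η) → η ∈ V₀ := fun η hη =>
      maximal_mem_of_dense (hfin i₀) _ V₀.isOpen hV₀ η hη
    constructor
    · intro i g
      apply dense_of_maximal_subset
      intro η hη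
      show D.map g η ∈ V₀
      exact hmax₀ _ (hsys i i₀ g η hη)
    · apply dense_of_maximal_subset
      intro s hs
      show c.π.app i₀ s ∈ V₀
      exact hmax₀ _ ((h5106 s).mp hs i₀)
  · intro hV hfinS
    by_contra hcon
    push_neg at hcon
    let N : Over i₀ ⥤ Type u :=
      { obj := fun j => {η : D.obj j.left // (∀ z : D.obj j.left, z ⤳ η → z = η) ∧
          D.map j.hom η ∉ V₀}
        map := fun {j k} g => TypeCat.ofHom (fun η => ⟨D.map g.left η.1,
          hsys _ _ g.left η.1 η.2.1, by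
            have e : D.map k.hom (D.map g.left η.1) = D.map j.hom η.1 :=
              map_map_apply D g.left k.hom j.hom (Over.w g) η.1
            rw [e]
            exact η.2.2⟩)
        map_id := fun j => by
          ext η
          show D.map (𝟙 j.left) η.1 = η.1
          rw [D.map_id]; rfl
        map_comp := fun {j k l} g g' => by
          ext η
          show D.map (g.left ≫ g'.left) η.1 = D.map g'.left (D.map g.left η.1)
          rw [D.map_comp]; rfl }
    have hN1 : ∀ j, Finite (N.obj j) := fun j =>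
      Set.finite_coe_iff.mpr ((hfin j.left).subset (fun η h => h.1))
    have hN2 : ∀ j, Nonempty (N.obj j) := fun j => by
      by_contra hemp
      apply hcon j.left j.hom
      apply dense_of_maximal_subset
      intro η hη
      by_contra hηV
      exact hemp ⟨⟨η, hη, hηV⟩⟩
    obtain ⟨u, hu⟩ := nonempty_sections_of_finite_cofiltered_system N
    have inst' : ∀ {i j : Over i₀} (f : i ⟶ j), IsAffineHom ((Over.forget i₀ ⋙ D).map f) :=
      fun f => inferInstanceAs (IsAffineHom (D.map f.left))
    obtain ⟨η, hη⟩ := Groth.Agent.S2152.exists_point (Over.forget i₀ ⋙ D)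
      (c.whisker (Over.forget i₀))
      ((Functor.Initial.isLimitWhiskerEquiv (Over.forget i₀) c).symm hc)
      (fun j => (u j).1) (fun {j k} f => congrArg Subtype.val (hu f))
    have hη' : ∀ j : Over i₀, c.π.app j.left η = (u j).1 := hη
    have hηmax : ∀ z : c.pt, z ⤳ η → z = η := by
      rw [h5106 η]
      intro i
      let k := IsCofiltered.min i i₀
      let a : k ⟶ i := IsCofiltered.minToLeft i i₀
      let b : k ⟶ i₀ := IsCofiltered.minToRight i i₀
      have h1 : c.π.app k η = (u (Over.mk b)).1 := hη' (Over.mk b)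
      have h2 := hsys k i a _ (u (Over.mk b)).2.1
      have e : D.map a (u (Over.mk b)).1 = c.π.app i η := by
        rw [← h1, ← c.w a]; rfl
      rw [e] at h2
      exact h2
    have hηV : η ∈ ((c.π.app i₀) ⁻¹ᵁ V₀ : c.pt.Opens) :=
      maximal_mem_of_dense hfinS _ (Opens.isOpen _) hV η hηmax
    have h3 := (u (Over.mk (𝟙 i₀))).2.2
    rw [← hη' (Over.mk (𝟙 i₀))] at h3
    apply h3
    have e : D.map (Over.mk (𝟙 i₀)).hom (c.π.app i₀ η) = c.π.app i₀ η := by
      show D.map (𝟙 i₀) (c.π.app i₀ η) = c.π.app i₀ η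
      rw [D.map_id]; rfl
    show D.map (Over.mk (𝟙 i₀)).hom (c.π.app i₀ η) ∈ V₀
    rw [e]
    exact hηV

end Groth.Agent.S5110
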