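import Groth.Statements.S5112
import Groth.Agent.Lib.Helper28LocPrin2

set_option autoImplicit false
universe u
open CategoryTheory CategoryTheory.Limits AlgebraicGeometry TopologicalSpace
open Div21

namespace Groth.Agent.S5112

/-- The implication from (b) to (a), for an integral scheme (a normal locally Noetherian scheme is the
disjoint union of its integral components): let X be a normal locally Noetherian integral scheme and
S a subset of X. A codimension-1 cycle Z (an integer-valued function on points, zero off the points
of codimension 1, i.e. of coheight 1, with locally finite support) is principal at a point x when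
there is a nonzero rational function whose order at every codimension-1 point generizing x is the
value of Z there (the trace of Z on Spec O_{X,x} is a principal divisor). Suppose (b): for every
point x of X which is not a generization of a point of S (the closure of x does not meet S) and
whose local ring has dimension at least 2, the local ring O_{X,x} is parafactorial. Then (a): every
codimension-1 cycle which is principal at all points of S is principal at every point of X (it is
locally principal). (The published statement asserts that (a) and (b) are equivalent. The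
implication from (a) to (b) fails: on the quotient of the real 2-sphere x² + y² + z² = 1 by (x, y,
z) ↦ (−x, −y, z), a normal Noetherian integral surface with exactly two singular points and divisor
class group of order 2, take S to be one singular point; every cycle principal there is principal
everywhere, while the local ring at the other singular point has dimension 2 and is not
parafactorial. This row states the implication from (b) to (a), which the published argument does
prove.) -/
theorem result (X : Scheme.{u}) [IsIntegral X]
    [IsLocallyNoetherian X] (hX : Pi1.IsNormalScheme X) (S : Set ↥X)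
    (hpar : ∀ x : ↥X, closure {x} ∩ S = ∅ → (2 : WithBot ℕ∞) ≤ ringKrullDim ↑(X.presheaf.stalk x) →
        ParaF.IsParafactorialLocalRing ↑(X.presheaf.stalk x))
    (Z : ↥X → ℤ) (hZ : ∀ x : ↥X, Order.coheight x ≠ 1 → Z x = 0)
    (hZfin : ∀ x : ↥X, ∃ W : X.Opens, x ∈ W ∧ {z : ↥X | z ∈ W ∧ Z z ≠ 0}.Finite)
    (hS : ∀ s : ↥X, s ∈ S →
        ∃ f : ↑X.functionField, f ≠ 0 ∧ ∀ x' : ↥X, Order.coheight x' = 1 → x' ⤳ s → Z x' = Scheme.ord f x')
    (x : ↥X) :
    ∃ f : ↑X.functionField, f ≠ 0 ∧ ∀ x' : ↥X, Order.coheight x' = 1 → x' ⤳ x → Z x' = Scheme.ord f x' := by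
  open Groth.Agent.Lib.Helper28.LocPrin Groth.Agent.Lib.Helper28.WeilSheaf
    Groth.Agent.Lib.Helper28.WeilOrd in
  have hD : LocallyFiniteSupport Z := fun z => by
    obtain ⟨W, hzW, hW⟩ := hZfin z
    refine ⟨W, W.2.mem_nhds hzW, hW.subset ?_⟩
    rintro y ⟨hyW, hy⟩
    exact ⟨hyW, hy⟩
  suffices key : ∀ (n : ℕ∞) (x : ↥X), Order.coheight x = n →
      ∃ f : ↑X.functionField, f ≠ 0 ∧
        ∀ x' : ↥X, Order.coheight x' = 1 → x' ⤳ x → Z x' = Scheme.ord f x' from key _ x rfl
  intro n
  induction n using WellFoundedLT.induction with
  | ind n ih =>
  intro x hx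
  by_cases hS' : closure {x} ∩ S = ∅
  · by_cases hdim : (2 : WithBot ℕ∞) ≤ ringKrullDim ↑(X.presheaf.stalk x)
    · refine principal_at_of_parafactorial hX x Z hZfin hdim (hpar x hS' hdim) ?_
      intro x'' hsp hne
      have hle : x ≤ x'' := hsp
      have hlt : x < x'' := lt_of_le_not_ge hle (fun hge => hne (hsp.antisymm hge).eq)
      have hfin : Order.coheight x'' < ⊤ := by
        have h1 := ringKrullDim_stalk_eq_coheight x''
        have h2 := ringKrullDim_lt_top (R := ↑(X.presheaf.stalk x''))
        rw [h1] at h2
        by_contra hcon
        rw [not_lt, top_le_iff] at hcon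
        rw [hcon] at h2
        exact lt_irrefl _ h2
      have h3 := Order.coheight_strictAnti hlt hfin
      rw [hx] at h3
      exact ih _ h3 x'' rfl
    · obtain ⟨W, g, hxW, hg0, hg⟩ := exists_local_div hX hD x hdim
      refine ⟨g⁻¹, inv_ne_zero hg0, fun x' hx'1 hx'x => ?_⟩
      rw [ord_inv' g hg0, hg x' (hx'x.mem_open W.2 hxW) hx'1, neg_neg]
  · obtain ⟨s, hsx, hsS⟩ := Set.nonempty_iff_ne_empty.2 hS'
    obtain ⟨f, hf0, hf⟩ := hS s hsS
    have hxs : x ⤳ s := specializes_iff_mem_closure.2 hsx
    exact ⟨f, hf0, fun x' hx'1 hx'x => hf x' hx'1 (hx'x.trans hxs)⟩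

end Groth.Agent.S5112
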