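import Groth.Statements.S5113
import Mathlib.AlgebraicGeometry.PullbackCarrier

set_option autoImplicit false
universe u
open SGA1

namespace Groth.Agent.S5113

open AlgebraicGeometry CategoryTheory CategoryTheory.Limits in
/-- Let g : S' ⟶ S be submersive, i.e. surjective and making S a topological quotient of S'. Then the
sequence of sets of open subsets Ouv(S) → Ouv(S') ⇉ Ouv(S' ×_S S') (inverse images along g and along
the two projections) is exact: an open subset U' of S' whose inverse images under the two
projections of S' ×_S S' agree is the inverse image of one and only one open subset of S. -/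
theorem result {S' S : Scheme.{u}} (g : S' ⟶ S)
    (hg : Topology.IsQuotientMap g.base) (U' : S'.Opens)
    (h : (pullback.fst g g) ⁻¹ᵁ U' = (pullback.snd g g) ⁻¹ᵁ U') :
    ∃! U : S.Opens, g ⁻¹ᵁ U = U' := by
  have hsat : g.base ⁻¹' (g.base '' (U' : Set S')) = (U' : Set S') := by
    refine Set.Subset.antisymm ?_ (Set.subset_preimage_image _ _)
    rintro x' ⟨u', hu', hux⟩
    obtain ⟨z, hz1, hz2⟩ := AlgebraicGeometry.Scheme.Pullback.exists_preimage_pullback
      (f := g) (g := g) u' x' hux
    have h1 : z ∈ (pullback.fst g g) ⁻¹ᵁ U' := by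
      change (pullback.fst g g).base z ∈ U'
      rw [hz1]; exact hu'
    rw [h] at h1
    have h2 : (pullback.snd g g).base z ∈ U' := h1
    rwa [hz2] at h2
  have hopen : IsOpen (g.base '' (U' : Set S')) := by
    rw [← hg.isOpen_preimage, hsat]
    exact U'.2
  refine ⟨⟨g.base '' (U' : Set S'), hopen⟩, ?_, ?_⟩
  · ext x
    change x ∈ g.base ⁻¹' (g.base '' (U' : Set S')) ↔ x ∈ (U' : Set S')
    rw [hsat]
  · intro U hU
    ext y
    obtain ⟨x, rfl⟩ := hg.surjective y
    have h1 : g.base x ∈ U ↔ x ∈ U' := by
      rw [← hU]; rfl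
    change g.base x ∈ U ↔ g.base x ∈ g.base '' (U' : Set S')
    rw [h1]
    constructor
    · intro hx; exact ⟨x, hx, rfl⟩
    · intro hx
      have : x ∈ g.base ⁻¹' (g.base '' (U' : Set S')) := hx
      rwa [hsat] at this

end Groth.Agent.S5113
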