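import Groth.Statements.S5114
import Groth.Agent.Lib.Helper3SubmA
import Mathlib

set_option autoImplicit false
set_option linter.style.haveILetI false
universe u
open SGA1

namespace Groth.Agent.S5114

open Groth.Agent.Lib.Helper3.SubmA in

open AlgebraicGeometry CategoryTheory CategoryTheory.Limits in
/-- Let A be a complete Noetherian local ring, S = Spec A, and g : S' ⟶ S a surjective morphism of
finite type whose fibre over the closed point s is finite. If every point of S' specialises to some
point of the fibre over s (equivalently: the disjoint union of the spectra of the local rings of S'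
at the points over s maps onto S'), then g is universally submersive. (The published statement
asserts an equivalence and does not mention surjectivity of g; the converse fails: for A a complete
discrete valuation ring with fraction field K, S' = S ⊔ Spec K ⟶ S has a section, hence is
universally submersive, while the isolated point Spec K specialises to no point over s. This row
states the implication the published proof establishes, with the surjectivity it uses.) -/
theorem result (A : Type u) [CommRing A]
    [IsNoetherianRing A] [IsLocalRing A] [IsAdicComplete (IsLocalRing.maximalIdeal A) A]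
    {S' : Scheme.{u}} (g : S' ⟶ Spec (CommRingCat.of A)) [LocallyOfFiniteType g] [QuasiCompact g]
    [Surjective g]
    (hfin : (g.base ⁻¹' {IsLocalRing.closedPoint A}).Finite)
    (hsp : ∀ t : S', ∃ s' : S', g.base s' = IsLocalRing.closedPoint A ∧ t ⤳ s') :
    SGA1.UnivSubmersive g := by
  haveI : HenselianLocalRing A :=
    Groth.Agent.Lib.Helper3.Branch.henselianLocalRing_of_isAdicComplete A
  have hqf : ∀ x : S', g x = IsLocalRing.closedPoint A → g.QuasiFiniteAt x := by
    intro x hx
    rw [Scheme.Hom.quasiFiniteAt_iff_isOpen_singleton_asFiber]
    haveI : Finite ↥(g ⁻¹' {g x}) := by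
      rw [hx]; exact hfin.to_subtype
    haveI : Finite ↥(g.fiber (g x)) := Finite.of_equiv _ (g.fiberHomeo (g x)).symm.toEquiv
    haveI := discreteTopology_of_finite_jacobson ↥(g.fiber (g x))
    exact isOpen_discrete _
  haveI : Finite ↥(g ⁻¹' {IsLocalRing.closedPoint A}) := hfin.to_subtype
  choose B ψ j hψ hj hjr using fun i : ↥(g ⁻¹' {IsLocalRing.closedPoint A}) =>
    exists_finite_nhd' g i.1 i.2 (hqf i.1 i.2)
  let c : (∐ fun i => Spec (B i)) ⟶ S' := Sigma.desc j
  have hcg : c ≫ g = Sigma.desc fun i => Spec.map (ψ i) := by
    refine Sigma.hom_ext _ _ fun i => ?_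
    rw [Sigma.ι_desc_assoc, Sigma.ι_desc, hj]
  haveI : IsFinite (c ≫ g) := by
    rw [hcg]
    exact isFinite_sigmaDesc_specMap (CommRingCat.of A) B ψ hψ
  haveI : Surjective c := by
    refine ⟨fun t => ?_⟩
    obtain ⟨s', hs', hts'⟩ := hsp t
    obtain ⟨b, hb⟩ := hjr ⟨s', hs'⟩ t hts'
    refine ⟨Sigma.ι (fun i => Spec (B i)) ⟨s', hs'⟩ b, ?_⟩
    rw [← Scheme.Hom.comp_apply, Sigma.ι_desc]
    exact hb
  haveI : UniversallyClosed g := UniversallyClosed.of_comp_surjective c g
  exact univSubmersive_of_universallyClosed g

end Groth.Agent.S5114
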