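import Groth.Statements.S5118
import Groth.Agent.S5081
import Mathlib.RingTheory.Etale.StandardEtale

set_option autoImplicit false
universe u
open SGA1t

namespace Groth.Agent.S5118

open Polynomial in
/-- The etaleness criterion for the Kummer group scheme: Let A be a commutative ring and n ≥ 1. The
group scheme μ_n over Spec A is the spectrum of A[t]/(t^n − 1), a free A-module of rank n; it is
etale over A if and only if n is a unit of A (equivalently, n is prime to the characteristic of the
residue field at every point of Spec A). -/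
theorem result (A : Type u) [CommRing A] (n : ℕ) (hn : 1 ≤ n) :
    Algebra.Etale A (AdjoinRoot ((X : A[X]) ^ n - 1)) ↔ IsUnit ((n : ℕ) : A) := by
  classical
  have hmonic : ((X : A[X]) ^ n - 1).Monic := by
    have := monic_X_pow_sub_C (1 : A) (show n ≠ 0 by omega)
    simpa using this
  have hder : derivative ((X : A[X]) ^ n - 1) = C (n : A) * X ^ (n - 1) := by
    rw [derivative_sub, derivative_X_pow, derivative_one, sub_zero, map_natCast]
  constructor
  · intro hE
    rcases subsingleton_or_nontrivial A with hA | hA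
    · exact isUnit_of_subsingleton _
    have hfin : Module.Finite A (AdjoinRoot ((X : A[X]) ^ n - 1)) := hmonic.finite_adjoinRoot
    have hker : RingHom.ker (aeval (AdjoinRoot.root ((X : A[X]) ^ n - 1)) :
        A[X] →ₐ[A] AdjoinRoot ((X : A[X]) ^ n - 1)) = Ideal.span {(X : A[X]) ^ n - 1} := by
      ext p
      rw [RingHom.mem_ker, AdjoinRoot.aeval_eq, AdjoinRoot.mk_eq_zero, Ideal.mem_span_singleton]
    have h81 := (Groth.Agent.S5081.result A (AdjoinRoot ((X : A[X]) ^ n - 1))
      (AdjoinRoot.root _) AdjoinRoot.adjoinRoot_eq_top ((X : A[X]) ^ n - 1)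
      (by rw [AdjoinRoot.aeval_eq, AdjoinRoot.mk_self])).2 hker
    have hsub : Subsingleton (Ω[AdjoinRoot ((X : A[X]) ^ n - 1)⁄A]) := inferInstance
    have htop : Module.annihilator (AdjoinRoot ((X : A[X]) ^ n - 1))
        (Ω[AdjoinRoot ((X : A[X]) ^ n - 1)⁄A]) = ⊤ := by
      rw [Ideal.eq_top_iff_one, Module.mem_annihilator]
      intro ω; exact Subsingleton.elim _ _
    rw [htop] at h81
    have h1 : (1 : AdjoinRoot ((X : A[X]) ^ n - 1)) ∈ Ideal.span
        {aeval (AdjoinRoot.root ((X : A[X]) ^ n - 1)) (derivative ((X : A[X]) ^ n - 1))} := by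
      rw [← h81]; exact Submodule.mem_top
    rw [Ideal.mem_span_singleton'] at h1
    obtain ⟨w, hw⟩ := h1
    rw [hder, map_mul, aeval_C] at hw
    -- retraction to A
    let pb := AdjoinRoot.powerBasis' hmonic
    have hdim : 0 < pb.dim := by
      change 0 < ((X : A[X]) ^ n - 1).natDegree
      have h2 : ((X : A[X]) ^ n - 1).natDegree = n := by
        have := natDegree_X_pow_sub_C (R := A) (n := n) (r := 1)
        simpa using this
      omega
    let r : AdjoinRoot ((X : A[X]) ^ n - 1) →ₗ[A] A := pb.basis.coord ⟨0, hdim⟩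
    have hr1 : r 1 = 1 := by
      have : (1 : AdjoinRoot ((X : A[X]) ^ n - 1)) = pb.basis ⟨0, hdim⟩ := by
        rw [pb.basis_eq_pow]; simp
      rw [this]
      change pb.basis.coord ⟨0, hdim⟩ (pb.basis ⟨0, hdim⟩) = 1
      rw [Module.Basis.coord_apply, Module.Basis.repr_self, Finsupp.single_eq_same]
    have h3 : (n : A) * r (w * aeval (AdjoinRoot.root ((X : A[X]) ^ n - 1)) ((X : A[X]) ^ (n - 1))) = 1 := by
      rw [← smul_eq_mul, ← map_smul, Algebra.smul_def, ← hr1]
      congr 1
      rw [← hw]; ring
    exact IsUnit.of_mul_eq_one _ h3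
  · intro hu
    obtain ⟨v, hv⟩ := hu.exists_left_inv
    let P : StandardEtalePair A :=
      { f := (X : A[X]) ^ n - 1
        monic_f := hmonic
        g := 1
        cond := ⟨C v * X, -1, 1, by
          rw [hder]
          have : C (n : A) * X ^ (n - 1) * (C v * X) = C (v * (n : A)) * (X ^ (n - 1) * X) := by
            rw [C_mul]; ring
          rw [this, hv, ← pow_succ, Nat.sub_add_cancel hn]
          simp⟩ }
    have hmap : P.HasMap (AdjoinRoot.root ((X : A[X]) ^ n - 1)) := by
      refine ⟨?_, ?_⟩
      · change aeval _ ((X : A[X]) ^ n - 1) = 0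
        rw [AdjoinRoot.aeval_eq, AdjoinRoot.mk_self]
      · change IsUnit (aeval _ (1 : A[X]))
        rw [map_one]; exact isUnit_one
    let φ : P.Ring →ₐ[A] AdjoinRoot ((X : A[X]) ^ n - 1) := P.lift _ hmap
    let ψ : AdjoinRoot ((X : A[X]) ^ n - 1) →ₐ[A] P.Ring :=
      AdjoinRoot.liftAlgHom _ (Algebra.ofId A P.Ring) P.X (by
        have := (StandardEtalePair.hasMap_X (P := P)).1
        rw [aeval_def] at this
        exact this)
    have h12 : φ.comp ψ = AlgHom.id A _ := by
      apply AdjoinRoot.algHom_ext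
      simp [φ, ψ]
    have h21 : ψ.comp φ = AlgHom.id A _ := by
      apply StandardEtalePair.hom_ext
      simp [φ, ψ]
    let e : P.Ring ≃ₐ[A] AdjoinRoot ((X : A[X]) ^ n - 1) := AlgEquiv.ofAlgHom φ ψ h12 h21
    exact Algebra.Etale.of_equiv e

end Groth.Agent.S5118
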