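import Groth.Statements.S5119
import Mathlib

set_option autoImplicit false
universe u
open scoped LaurentPolynomial
open SGA1t

namespace Groth.Agent.S5119

theorem key (A : Type u) [CommRing A] (n : ℕ) (hn : 1 ≤ n) (c : Fin n → A[T;T⁻¹]) (j : Fin n) (k : ℤ) :
    (∑ i : Fin n, (AddMonoidAlgebra.mapDomainRingHom A (AddMonoidHom.mulLeft (n : ℤ)) :
        A[T;T⁻¹] →+* A[T;T⁻¹]) (c i) * LaurentPolynomial.T (i : ℤ)).coeff ((n : ℤ) * k + (j : ℕ)) =
      (c j).coeff k := by
  have hn0 : (n : ℤ) ≠ 0 := by omega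
  have hinj : Function.Injective (fun k : ℤ => (n : ℤ) * k) := fun a b h => by
    exact mul_left_cancel₀ hn0 h
  rw [AddMonoidAlgebra.coeff_sum, Finsupp.finset_sum_apply]
  rw [Finset.sum_eq_single j]
  · unfold LaurentPolynomial.T
    rw [AddMonoidAlgebra.coeff_mul_single_apply, mul_one]
    have : (n : ℤ) * k + (j : ℕ) + -((j : ℕ) : ℤ) = (fun k : ℤ => (n : ℤ) * k) k := by
      simp
    rw [this]
    exact Finsupp.mapDomain_apply hinj _ _
  · intro i _ hij
    unfold LaurentPolynomial.T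
    rw [AddMonoidAlgebra.coeff_mul_single_apply, mul_one]
    apply Finsupp.mapDomain_notin_range
    rintro ⟨l, hl⟩
    have hl' : (n : ℤ) * l = (n : ℤ) * k + (j : ℕ) + -((i : ℕ) : ℤ) := hl
    have hi := i.2
    have hj := j.2
    have hne : (i : ℕ) ≠ (j : ℕ) := fun h => hij (Fin.ext h)
    have h1 : (n : ℤ) * (l - k) = (j : ℕ) - ((i : ℕ) : ℤ) := by linarith
    have h2 : (n : ℤ) ∣ ((j : ℕ) : ℤ) - ((i : ℕ) : ℤ) := ⟨l - k, h1.symm⟩
    have h3 := Int.eq_zero_of_abs_lt_dvd h2 (by rw [abs_lt]; constructor <;> omega)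
    omega
  · intro h
    exact absurd (Finset.mem_univ j) h

/-- The computation behind the exactness of the Kummer sequence 0 → μ_n → G_m → G_m → 0, i.e. faithful
flatness of the n-th power map u_n of G_m: Let A be a commutative ring and n ≥ 1, and let u_n be the
ring endomorphism of A[t, t⁻¹] with u_n(t) = t^n (on monomials, t^k ↦ t^{nk}). Then A[t, t⁻¹] is
free of rank n over itself via u_n, with basis 1, t, …, t^{n−1}: every Laurent polynomial q can be
written in exactly one way as Σ_{i<n} u_n(c_i) t^i. -/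
theorem result (A : Type u) [CommRing A] (n : ℕ) (hn : 1 ≤ n) (q : A[T;T⁻¹]) :
    ∃! c : Fin n → A[T;T⁻¹],
      q = ∑ i : Fin n, (AddMonoidAlgebra.mapDomainRingHom A (AddMonoidHom.mulLeft (n : ℤ)) : A[T;T⁻¹] →+* A[T;T⁻¹]) (c i) *
        LaurentPolynomial.T (i : ℤ) := by
  have hn0 : (n : ℤ) ≠ 0 := by omega
  have hinj : ∀ i : Fin n, Function.Injective (fun k : ℤ => (n : ℤ) * k + ((i : ℕ) : ℤ)) :=
    fun i a b h => by
      have h' : (n : ℤ) * a + ((i : ℕ) : ℤ) = (n : ℤ) * b + ((i : ℕ) : ℤ) := h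
      exact mul_left_cancel₀ hn0 (by linarith)
  let c : Fin n → A[T;T⁻¹] := fun i =>
    AddMonoidAlgebra.comapDomain (fun k : ℤ => (n : ℤ) * k + ((i : ℕ) : ℤ)) (hinj i) q
  have hc : ∀ (i : Fin n) (k : ℤ), (c i).coeff k = q.coeff ((n : ℤ) * k + ((i : ℕ) : ℤ)) := by
    intro i k
    show (AddMonoidAlgebra.comapDomain _ (hinj i) q).coeff k = _
    rw [AddMonoidAlgebra.coeff_comapDomain]
    rfl
  refine ⟨c, ?_, ?_⟩
  · apply AddMonoidAlgebra.coeff_injective
    ext m
    have hm : m = (n : ℤ) * (m / n) + ((⟨(m % n).toNat, by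
        have := Int.emod_lt_of_pos m (by omega : (0 : ℤ) < n)
        have := Int.emod_nonneg m hn0
        omega⟩ : Fin n) : ℕ) := by
      have h1 := Int.emod_nonneg m hn0
      have h2 := Int.mul_ediv_add_emod m n
      show m = (n : ℤ) * (m / n) + (((m % n).toNat : ℕ) : ℤ)
      rw [Int.toNat_of_nonneg h1]
      omega
    conv_rhs => rw [hm]
    rw [key A n hn c, hc]
    exact congrArg _ hm
  · intro c' hc'
    funext j
    apply AddMonoidAlgebra.coeff_injective
    ext k
    rw [hc, hc', key A n hn c']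

end Groth.Agent.S5119
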