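import Groth.Statements.S5120
import Mathlib

set_option autoImplicit false
universe u
open SGA1t

namespace Groth.Agent.S5120

open Polynomial

theorem exists_repr {A : Type u} [CommRing A] (f g : A[X]) (d : ℕ) (hd : 0 < d) (hg : g.Monic)
    (hgd : g.natDegree = d) (hfg : f = -g) :
    ∀ (n : ℕ) (q : A[X]), q.natDegree = n →
      ∃ c : Fin d → A[X], q = ∑ i : Fin d, aeval f (c i) * X ^ (i : ℕ) := by
  intro n
  induction n using Nat.strong_induction_on with
  | _ n ih =>
  intro q hn
  by_cases hlt : q.natDegree < d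
  · refine ⟨fun i => C (q.coeff i), ?_⟩
    conv_lhs => rw [q.as_sum_range' d hlt]
    rw [Fin.sum_univ_eq_sum_range (fun i => aeval f (C (q.coeff i)) * X ^ i) d]
    apply Finset.sum_congr rfl
    intro i _
    rw [aeval_C, ← C_mul_X_pow_eq_monomial]
    rfl
  · push Not at hlt
    have hg1 : g ≠ 1 := by
      intro h
      rw [h, natDegree_one] at hgd
      omega
    have hq1 : (q /ₘ g).natDegree < n := by
      rw [natDegree_divByMonic q hg, hgd]
      omega
    obtain ⟨c1, hc1⟩ := ih _ hq1 (q /ₘ g) rfl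
    have hr : (q %ₘ g).natDegree < d := hgd ▸ natDegree_modByMonic_lt q hg hg1
    refine ⟨fun i => -X * c1 i + C ((q %ₘ g).coeff i), ?_⟩
    have h1 : ∑ i : Fin d, aeval f (-X * c1 i + C ((q %ₘ g).coeff i)) * X ^ (i : ℕ) =
        g * ∑ i : Fin d, aeval f (c1 i) * X ^ (i : ℕ) +
          ∑ i : Fin d, C ((q %ₘ g).coeff i) * X ^ (i : ℕ) := by
      rw [Finset.mul_sum, ← Finset.sum_add_distrib]
      apply Finset.sum_congr rfl
      intro i _
      rw [map_add, map_mul, map_neg, aeval_X, aeval_C, hfg]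
      have : (algebraMap A A[X]) ((q %ₘ g).coeff i) = C ((q %ₘ g).coeff i) := rfl
      rw [this]
      ring
    rw [h1, ← hc1]
    have h2 : ∑ i : Fin d, C ((q %ₘ g).coeff i) * X ^ (i : ℕ) = q %ₘ g := by
      conv_rhs => rw [(q %ₘ g).as_sum_range' d hr]
      rw [Fin.sum_univ_eq_sum_range (fun i => C ((q %ₘ g).coeff i) * X ^ i) d]
      apply Finset.sum_congr rfl
      intro i _
      rw [C_mul_X_pow_eq_monomial]
    rw [h2, add_comm]
    exact (modByMonic_add_div q g).symm

theorem comp_ne_zero {A : Type u} [CommRing A] (f : A[X]) (d : ℕ) (hd : 0 < d)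
    (hfd : f.natDegree = d) (hlead : IsUnit f.leadingCoeff) (c : A[X]) (hc : c ≠ 0) :
    aeval f c ≠ 0 ∧ (aeval f c).natDegree = c.natDegree * d := by
  have hne : c.leadingCoeff * f.leadingCoeff ^ c.natDegree ≠ 0 := by
    intro h
    have hu : IsUnit (f.leadingCoeff ^ c.natDegree) := hlead.pow _
    have := (hu.mul_left_eq_zero).mp h
    exact hc (leadingCoeff_eq_zero.mp this)
  constructor
  · intro h0
    have := coeff_comp_degree_mul_degree (p := c) (q := f) (by omega)
    rw [comp_eq_aeval, h0, coeff_zero] at this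
    exact hne this.symm
  · rw [← comp_eq_aeval, natDegree_comp_eq_of_mul_ne_zero hne, hfd]

theorem repr_unique {A : Type u} [CommRing A] (f : A[X]) (d : ℕ) (hd : 0 < d)
    (hfd : f.natDegree = d) (hlead : IsUnit f.leadingCoeff) (c : Fin d → A[X])
    (h : ∑ i : Fin d, aeval f (c i) * X ^ (i : ℕ) = 0) : ∀ i, c i = 0 := by
  have hterm : ∀ i : Fin d, c i ≠ 0 → aeval f (c i) * X ^ (i : ℕ) ≠ 0 ∧
      (aeval f (c i) * X ^ (i : ℕ)).degree = (((c i).natDegree * d + (i : ℕ) : ℕ) : WithBot ℕ) := by
    intro i hi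
    obtain ⟨h1, h2⟩ := comp_ne_zero f d hd hfd hlead (c i) hi
    have : Nontrivial A := by
      by_contra hA
      rw [not_nontrivial_iff_subsingleton] at hA
      exact hi (Subsingleton.elim _ _)
    have h3 : aeval f (c i) * X ^ (i : ℕ) ≠ 0 := by
      intro h0
      exact h1 ((monic_X_pow (i : ℕ)).mul_left_eq_zero_iff.mp h0)
    refine ⟨h3, ?_⟩
    rw [degree_eq_natDegree h3, natDegree_mul_X_pow _ h1, h2]
  have hdisj : Set.Pairwise { i | i ∈ (Finset.univ : Finset (Fin d)) ∧
      (fun i : Fin d => aeval f (c i) * X ^ (i : ℕ)) i ≠ 0 }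
      (Function.onFun Ne (degree ∘ (fun i : Fin d => aeval f (c i) * X ^ (i : ℕ)))) := by
    intro i hi j hj hij
    have hci : c i ≠ 0 := by
      intro h0
      apply hi.2
      show aeval f (c i) * X ^ (i : ℕ) = 0
      rw [h0, map_zero, zero_mul]
    have hcj : c j ≠ 0 := by
      intro h0
      apply hj.2
      show aeval f (c j) * X ^ (j : ℕ) = 0
      rw [h0, map_zero, zero_mul]
    show (aeval f (c i) * X ^ (i : ℕ)).degree ≠ (aeval f (c j) * X ^ (j : ℕ)).degree
    rw [(hterm i hci).2, (hterm j hcj).2]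
    intro heq
    have heq' : (c i).natDegree * d + (i : ℕ) = (c j).natDegree * d + (j : ℕ) := by
      exact_mod_cast heq
    have hmod := congrArg (· % d) heq'
    simp only [Nat.mul_add_mod', Nat.mod_eq_of_lt i.2, Nat.mod_eq_of_lt j.2] at hmod
    exact hij (Fin.ext hmod)
  have hdeg := degree_sum_eq_of_disjoint _ _ hdisj
  rw [h, degree_zero] at hdeg
  intro i
  by_contra hi
  have h1 := (Finset.sup_eq_bot_iff _ _).mp hdeg.symm i (Finset.mem_univ i)
  exact (hterm i hi).1 (degree_eq_bot.mp h1)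

open Polynomial in
/-- The computation behind the exactness of the Artin-Schreier sequence 0 → Z/p → G_a → G_a → 0 in
characteristic p, i.e. faithful flatness of ℘ = id − F: Let p be a prime and A a ring of
characteristic p. Then A[t] is free of rank p over itself via the endomorphism t ↦ t − t^p, with
basis 1, t, …, t^{p−1}: every polynomial q can be written in exactly one way as Σ_{i<p} c_i(t − t^p)
t^i. -/
theorem result (p : ℕ) [Fact p.Prime] (A : Type u) [CommRing A] [CharP A p]
    (q : A[X]) :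
    ∃! c : Fin p → A[X], q = ∑ i : Fin p, aeval (X - X ^ p : A[X]) (c i) * X ^ (i : ℕ) := by
  have hp2 : 2 ≤ p := (Fact.out : p.Prime).two_le
  have hp0 : 0 < p := by omega
  have : Nontrivial A := CharP.nontrivial_of_char_ne_one (R := A) (v := p) (by omega)
  have hg : (X ^ p - X : A[X]).Monic := by
    apply monic_X_pow_sub
    rw [degree_X]
    exact_mod_cast (by omega : 1 < p)
  have hgd : (X ^ p - X : A[X]).natDegree = p := by
    rw [natDegree_sub_eq_left_of_natDegree_lt, natDegree_X_pow]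
    rw [natDegree_X_pow, natDegree_X]
    omega
  have hfg : (X - X ^ p : A[X]) = -(X ^ p - X) := by ring
  have hfd : (X - X ^ p : A[X]).natDegree = p := by rw [hfg, natDegree_neg, hgd]
  have hlead : IsUnit (X - X ^ p : A[X]).leadingCoeff := by
    rw [hfg, leadingCoeff_neg, hg.leadingCoeff]
    exact isUnit_one.neg
  obtain ⟨c, hc⟩ := exists_repr (X - X ^ p : A[X]) (X ^ p - X) p hp0 hg hgd hfg _ q rfl
  refine ⟨c, hc, ?_⟩
  intro c' hc'
  have h0 : ∑ i : Fin p, aeval (X - X ^ p : A[X]) ((c' - c) i) * X ^ (i : ℕ) = 0 := by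
    have : ∀ i : Fin p, aeval (X - X ^ p : A[X]) ((c' - c) i) * X ^ (i : ℕ) =
        aeval (X - X ^ p : A[X]) (c' i) * X ^ (i : ℕ) -
          aeval (X - X ^ p : A[X]) (c i) * X ^ (i : ℕ) := by
      intro i
      rw [Pi.sub_apply, map_sub, sub_mul]
    rw [Finset.sum_congr rfl (fun i _ => this i), Finset.sum_sub_distrib, ← hc, ← hc', sub_self]
  have h1 := repr_unique (X - X ^ p : A[X]) p hp0 hfd hlead (c' - c) h0
  funext i
  have := h1 i
  rw [Pi.sub_apply, sub_eq_zero] at this
  exact this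

end Groth.Agent.S5120
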