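import Groth.Statements.S5123
import Mathlib
import Groth.Agent.Lib.Helper15EtZarLoc

set_option autoImplicit false
universe u
open SGA1

namespace Groth.Agent.S5123

open AlgebraicGeometry CategoryTheory CategoryTheory.Limits in
/-- Let g : S' ⟶ S be universally submersive, D a descent datum relative to g (functor-of-points form,
for the one-member family g) whose underlying S'-scheme is etale over S', and (S_i)_{i ∈ ι} a cover
of S by open subschemes. Then D is effective in the fibred category of etale schemes (isomorphic to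
the canonical datum of some etale S-scheme) if and only if for every i the descent datum obtained by
base change along S_i ⟶ S, relative to S' ×_S S_i ⟶ S_i, is the canonical datum of some etale
S_i-scheme. -/
theorem result {S S' : Scheme.{u}} (g : S' ⟶ S) (hg : SGA1.UnivSubmersive g)
    (D : Desc.SchDDFam (fun _ : PUnit.{1} => g)) [Etale (D.obj PUnit.unit).hom]
    {ι : Type u} (V : ι → S.Opens) (hV : ⨆ i, V i = ⊤) :
    (∃ U : Over S, Etale U.hom ∧ Nonempty ((Desc.toDDFam (fun _ : PUnit.{1} => g)).obj U ≅ D)) ↔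
      ∀ i : ι, (∃ U : Over (V i : Scheme.{u}), Etale U.hom ∧
        Nonempty ((Desc.toDDFam (fun _ : PUnit.{1} => pullback.snd g (V i).ι)).obj U ≅
          (Desc.pullDDFam (f := fun _ : PUnit.{1} => g) (f' := fun _ : PUnit.{1} => pullback.snd g (V i).ι)
        (α := id) (p := (V i).ι) (p' := fun _ => pullback.fst g (V i).ι) (fun _ => pullback.condition)).obj D)) := by
  constructor
  · rintro ⟨U, hU, ⟨e⟩⟩ i
    have e₀ : (Desc.toDD g).obj U ≅ (Desc.SchDDFam.toSchDD.{0, u} g).obj D :=
      (Desc.SchDDFam.toSchDD.{0, u} g).mapIso e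
    obtain ⟨e'⟩ := Groth.Agent.Lib.Helper15EtZarLoc.pullDD_effective
      ((Desc.SchDDFam.toSchDD.{0, u} g).obj D) (pullback.fst g (V i).ι) (V i).ι
      (pullback.snd g (V i).ι) (IsPullback.of_hasPullback g (V i).ι) U e₀
    refine ⟨Over.mk (pullback.snd U.hom (V i).ι), ?_,
      ⟨(Desc.SchDDFam.ofSchDD.{0, u} (pullback.snd g (V i).ι)).mapIso e'⟩⟩
    change Etale (pullback.snd U.hom (V i).ι)
    infer_instance
  · intro h
    obtain ⟨U, hU, ⟨e⟩⟩ := Groth.Agent.Lib.Helper15EtZarLoc.effective_of_openCover g hg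
      ((Desc.SchDDFam.toSchDD.{0, u} g).obj D) V hV (fun i => by
        obtain ⟨Ui, hUi, ⟨ei⟩⟩ := h i
        exact ⟨Ui, hUi, ⟨(Desc.SchDDFam.toSchDD.{0, u} (pullback.snd g (V i).ι)).mapIso ei⟩⟩)
    exact ⟨U, hU, ⟨(Desc.SchDDFam.ofSchDD.{0, u} g).mapIso e⟩⟩

end Groth.Agent.S5123
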