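import Groth.Statements.S5128
import Groth.Agent.S3694

set_option autoImplicit false
universe u
open SGA1

namespace Groth.Agent.S5128

open AlgebraicGeometry CategoryTheory CategoryTheory.Limits in
/-- Let X and Y be S-schemes with Y etale over S. The map f ↦ Γ_f sending an S-morphism f : X ⟶ Y to the
subset of X ×_S Y underlying its graph is a bijection from Hom_S(X, Y) onto the set of open subsets
Γ of X ×_S Y for which the restriction Γ → X of the first projection is radicial (universally
injective) and surjective. Stated as: the graph of every S-morphism is an open immersion, and every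
such open Γ is the image of the graph of exactly one S-morphism. -/
theorem result {S X Y : Scheme.{u}} (p : X ⟶ S)
    (q : Y ⟶ S) [Etale q] :
    (∀ f : {f : X ⟶ Y // f ≫ q = p},
      IsOpenImmersion (pullback.lift (𝟙 X) f.1 ((Category.id_comp p).trans f.2.symm) : X ⟶ pullback p q)) ∧
    ∀ Γ : (pullback p q).Opens, UniversallyInjective (Γ.ι ≫ pullback.fst p q) → Surjective (Γ.ι ≫ pullback.fst p q) →
      ∃! f : {f : X ⟶ Y // f ≫ q = p},
        Set.range (pullback.lift (𝟙 X) f.1 ((Category.id_comp p).trans f.2.symm) : X ⟶ pullback p q).base =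
          (Γ : Set ↥(pullback p q)) := by
  have hgraph : ∀ f : {f : X ⟶ Y // f ≫ q = p},
      IsOpenImmersion (pullback.lift (𝟙 X) f.1 ((Category.id_comp p).trans f.2.symm) :
        X ⟶ pullback p q) := by
    intro f
    set γ : X ⟶ pullback p q := pullback.lift (𝟙 X) f.1 ((Category.id_comp p).trans f.2.symm)
    have h1 : γ ≫ pullback.fst p q = 𝟙 X := pullback.lift_fst _ _ _
    have : Etale (pullback.fst p q) := inferInstance
    have : Etale (γ ≫ pullback.fst p q) := by rw [h1]; infer_instance
    have : Etale γ := Etale.of_comp γ (pullback.fst p q)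
    have : Mono γ := mono_of_mono_fac h1
    exact Groth.Agent.S3694.result γ
  refine ⟨hgraph, ?_⟩
  intro Γ hinj hsurj
  have : Etale (Γ.ι ≫ pullback.fst p q) := inferInstance
  have : IsOpenImmersion (Γ.ι ≫ pullback.fst p q) := Groth.Agent.S3694.result _
  have hiso : IsIso (Γ.ι ≫ pullback.fst p q) :=
    (isIso_iff_isOpenImmersion_and_surjective _).2 ⟨inferInstance, hsurj⟩
  let e := Γ.ι ≫ pullback.fst p q
  have hcond : pullback.fst p q ≫ p = pullback.snd p q ≫ q := pullback.condition
  let f₀ : X ⟶ Y := inv e ≫ Γ.ι ≫ pullback.snd p q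
  have hf₀ : f₀ ≫ q = p := by
    simp only [f₀]
    rw [Category.assoc, Category.assoc, ← hcond, ← Category.assoc Γ.ι]
    exact IsIso.inv_hom_id_assoc e p
  have hγ₀ : (pullback.lift (𝟙 X) f₀ ((Category.id_comp p).trans hf₀.symm) : X ⟶ pullback p q) =
      inv e ≫ Γ.ι := by
    apply pullback.hom_ext
    · rw [pullback.lift_fst, Category.assoc]
      exact (IsIso.inv_hom_id e).symm
    · rw [pullback.lift_snd, Category.assoc]
  refine ⟨⟨f₀, hf₀⟩, ?_, ?_⟩
  · change Set.range (pullback.lift (𝟙 X) f₀ ((Category.id_comp p).trans hf₀.symm) :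
      X ⟶ pullback p q).base = _
    rw [hγ₀]
    have : Set.range (inv e ≫ Γ.ι).base = Set.range Γ.ι.base := by
      rw [Scheme.Hom.comp_base, TopCat.coe_comp, Set.range_comp]
      have : Function.Surjective (inv e).base := (inv e).surjective
      rw [this.range_eq, Set.image_univ]
    rw [this]
    exact Γ.range_ι
  · rintro ⟨f₁, hf₁⟩ hrange
    set γ₁ : X ⟶ pullback p q := pullback.lift (𝟙 X) f₁ ((Category.id_comp p).trans hf₁.symm)
      with hγ₁def
    have h1 : γ₁ ≫ pullback.fst p q = 𝟙 X := pullback.lift_fst _ _ _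
    have h2 : γ₁ ≫ pullback.snd p q = f₁ := pullback.lift_snd _ _ _
    have hle : Set.range γ₁.base ⊆ Set.range Γ.ι.base := by
      rw [hrange, Γ.range_ι]
    let g₁ : X ⟶ Γ := IsOpenImmersion.lift Γ.ι γ₁ hle
    have hg₁ : g₁ ≫ Γ.ι = γ₁ := IsOpenImmersion.lift_fac _ _ _
    have hg₁e : g₁ ≫ e = 𝟙 X := by
      simp only [e]
      rw [← Category.assoc, hg₁, h1]
    have hg₁inv : g₁ = inv e := by
      rw [← cancel_mono e, hg₁e, IsIso.inv_hom_id]
    apply Subtype.ext
    change f₁ = f₀
    simp only [f₀]
    rw [← hg₁inv, ← Category.assoc, hg₁, h2]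

end Groth.Agent.S5128
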