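import Groth.Statements.S5132
import Groth.Agent.Lib.Helper12Descent

set_option autoImplicit false
open CategoryTheory AlgebraicGeometry
universe u
open SGA1

namespace Groth.Agent.S5132

/-- Quasi-compactness of a morphism descends along a surjective and quasi-compact base change; flatness
of the base change is not needed for this property. -/
theorem result :
    MorphismProperty.DescendsAlong @QuasiCompact (@Surjective ⊓ @QuasiCompact : MorphismProperty Scheme.{u}) := by
  apply IsZariskiLocalAtTarget.descendsAlong_inf_quasiCompact (P := @QuasiCompact)
    (P' := @Surjective)
  · exact inf_le_right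
  intro R S Y φ g h hfst
  have hfst' : QuasiCompact (Limits.pullback.fst (Spec.map φ) g) := hfst
  have : Surjective (Spec.map φ) := h
  have h1 : CompactSpace ↥(Limits.pullback (Spec.map φ) g) :=
    (quasiCompact_iff_compactSpace (Limits.pullback.fst (Spec.map φ) g)).mp hfst'
  have h2 : CompactSpace Y :=
    Lib.Helper12.compactSpace_of_surjective (Limits.pullback.snd (Spec.map φ) g)
  exact (quasiCompact_iff_compactSpace g).mpr h2

end Groth.Agent.S5132
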