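import Groth.Statements.S5135
import Mathlib.RingTheory.Flat.Basic

set_option autoImplicit false
universe u
open scoped TensorProduct
open SGA1

namespace Groth.Agent.S5135


section Aux

variable {A A' : Type u} [CommRing A] [CommRing A'] [Algebra A A']
  {M : Type u} [AddCommGroup M] [Module A M] (N' : Submodule A' (A' ⊗[A] M))

/-- the quotient map, as an `A`-linear map -/
noncomputable def πA : (A' ⊗[A] M) →ₗ[A] ((A' ⊗[A] M) ⧸ N') := (N'.mkQ).restrictScalars A

/-- `m ↦ [1 ⊗ m]` -/
noncomputable def φ : M →ₗ[A] ((A' ⊗[A] M) ⧸ N') := (πA N').comp (TensorProduct.mk A A' M 1)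

/-- `(a ⊗ b) ⊗ m ↦ a ⊗ [b ⊗ m]` -/
noncomputable def Ψ : ((A' ⊗[A] A') ⊗[A] M) →ₗ[A] (A' ⊗[A] ((A' ⊗[A] M) ⧸ N')) :=
  ((πA N').lTensor A').comp (TensorProduct.assoc A A' A' M).toLinearMap

lemma Ψ_tmul (a b : A') (m : M) : Ψ N' ((a ⊗ₜ[A] b) ⊗ₜ[A] m) = a ⊗ₜ[A] (N'.mkQ (b ⊗ₜ[A] m)) := rfl

/-- action of `c ⊗ d` on `A' ⊗ Q'` -/
noncomputable def T (c d : A') : (A' ⊗[A] ((A' ⊗[A] M) ⧸ N')) →ₗ[A] (A' ⊗[A] ((A' ⊗[A] M) ⧸ N')) :=
  TensorProduct.map (LinearMap.mulLeft A c)
    ((LinearMap.lsmul A' ((A' ⊗[A] M) ⧸ N') d).restrictScalars A)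

lemma Ψ_smul (c d : A') (y : (A' ⊗[A] A') ⊗[A] M) :
    Ψ N' ((c ⊗ₜ[A] d) • y) = T N' c d (Ψ N' y) := by
  induction y using TensorProduct.induction_on with
  | zero => simp
  | add x y hx hy => rw [smul_add, map_add, map_add, map_add, hx, hy]
  | tmul z m =>
    induction z using TensorProduct.induction_on with
    | zero => simp
    | add x y hx hy =>
      rw [TensorProduct.add_tmul, smul_add, map_add, map_add, map_add, hx, hy]
    | tmul a b =>
      rw [TensorProduct.smul_tmul', smul_eq_mul, Algebra.TensorProduct.tmul_mul_tmul, Ψ_tmul, Ψ_tmul]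
      simp only [T, TensorProduct.map_tmul, LinearMap.mulLeft_apply, LinearMap.coe_restrictScalars,
        LinearMap.lsmul_apply]
      rw [← map_smul, TensorProduct.smul_tmul', smul_eq_mul]

theorem result' [Module.Flat A A']
    (h : Submodule.span (A' ⊗[A] A')
          ((N'.restrictScalars A).map
            ((Algebra.TensorProduct.includeLeft : A' →ₐ[A] A' ⊗[A] A').toLinearMap.rTensor M) : Set ((A' ⊗[A] A') ⊗[A] M)) =
        Submodule.span (A' ⊗[A] A')
          ((N'.restrictScalars A).map
            ((Algebra.TensorProduct.includeRight : A' →ₐ[A] A' ⊗[A] A').toLinearMap.rTensor M) : Set ((A' ⊗[A] A') ⊗[A] M))) :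
    ((N'.restrictScalars A).comap (TensorProduct.mk A A' M 1)).baseChange A' = N' := by
  set N : Submodule A M := (N'.restrictScalars A).comap (TensorProduct.mk A A' M 1) with hN
  apply le_antisymm
  · rw [Submodule.baseChange_eq_span, Submodule.span_le]
    rintro _ ⟨m, hm, rfl⟩
    exact hm
  · intro x hx
    set ι1 := (Algebra.TensorProduct.includeLeft : A' →ₐ[A] A' ⊗[A] A').toLinearMap.rTensor M
    set ι2 := (Algebra.TensorProduct.includeRight : A' →ₐ[A] A' ⊗[A] A').toLinearMap.rTensor M
    -- ker Ψ contains the span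
    have hker : ∀ y ∈ Submodule.span (A' ⊗[A] A')
        ((N'.restrictScalars A).map ι2 : Set ((A' ⊗[A] A') ⊗[A] M)), Ψ N' y = 0 := by
      intro y hy
      induction hy using Submodule.span_induction with
      | mem y hy =>
        obtain ⟨x', hx', rfl⟩ := hy
        have h2 : (Ψ N').comp ι2 = (TensorProduct.mk A A' _ 1).comp (πA N') := by
          ext a m
          rfl
        have : Ψ N' (ι2 x') = (TensorProduct.mk A A' _ 1) (πA N' x') := LinearMap.congr_fun h2 x'
        rw [this]
        have : πA N' x' = 0 := (Submodule.Quotient.mk_eq_zero N').mpr hx'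
        rw [this, map_zero]
      | zero => exact map_zero _
      | add y z _ _ hy hz => rw [map_add, hy, hz, add_zero]
      | smul r y _ hy =>
        induction r using TensorProduct.induction_on with
        | zero => rw [zero_smul, map_zero]
        | add r s hr hs => rw [add_smul, map_add, hr, hs, add_zero]
        | tmul c d => rw [Ψ_smul, hy, map_zero]
    have h1 : ι1 x ∈ Submodule.span (A' ⊗[A] A')
        ((N'.restrictScalars A).map ι2 : Set ((A' ⊗[A] A') ⊗[A] M)) := by
      rw [← h]
      exact Submodule.subset_span ⟨x, hx, rfl⟩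
    have h3 : (Ψ N').comp ι1 = (φ N').lTensor A' := by
      ext a m
      rfl
    have h4 : (φ N').lTensor A' x = 0 := by
      rw [← h3]
      exact hker _ h1
    -- exactness
    have hex : Function.Exact N.subtype (φ N') := by
      intro m
      constructor
      · intro hm
        refine ⟨⟨m, ?_⟩, rfl⟩
        change (1 : A') ⊗ₜ[A] m ∈ N'
        exact (Submodule.Quotient.mk_eq_zero N').mp hm
      · rintro ⟨n, rfl⟩
        exact (Submodule.Quotient.mk_eq_zero N').mpr n.2
    have hex' := Module.Flat.lTensor_exact A' hex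
    obtain ⟨z, hz⟩ := (hex' x).mp h4
    exact ⟨z, hz⟩

end Aux



/-- The affine case, in submodule form (descent of submodules, equivalently of quotient modules): for A
⟶ A' faithfully flat, M an A-module and N' an A'-submodule of A' ⊗ M whose two extensions to (A' ⊗
A') ⊗ M, along a ↦ a ⊗ 1 and a ↦ 1 ⊗ a, generate the same submodule, N' is the base change of the
submodule of M formed by the elements m with 1 ⊗ m in N'. -/
theorem result (A A' : Type u) [CommRing A] [CommRing A'] [Algebra A A']
    [Module.FaithfullyFlat A A'] (M : Type u) [AddCommGroup M] [Module A M] (N' : Submodule A' (A' ⊗[A] M))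
    (h : Submodule.span (A' ⊗[A] A')
          ((N'.restrictScalars A).map
            ((Algebra.TensorProduct.includeLeft : A' →ₐ[A] A' ⊗[A] A').toLinearMap.rTensor M) : Set ((A' ⊗[A] A') ⊗[A] M)) =
        Submodule.span (A' ⊗[A] A')
          ((N'.restrictScalars A).map
            ((Algebra.TensorProduct.includeRight : A' →ₐ[A] A' ⊗[A] A').toLinearMap.rTensor M) : Set ((A' ⊗[A] A') ⊗[A] M))) :
    ((N'.restrictScalars A).comap (TensorProduct.mk A A' M 1)).baseChange A' = N' := by
  exact result' N' h

end Groth.Agent.S5135
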