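import Groth.Statements.S5153
import Groth.Agent.Lib.Helper29ConnComp
import Groth.Agent.Lib.Helper28DepthMore
import Groth.Agent.Lib.Helper28Normal
import Groth.Agent.Lib.Helper14LocNoeth
import Groth.Agent.S2663

set_option autoImplicit false
universe u
open AlgebraicGeometry
open LocCoh

namespace Groth.Agent.S5153

section aux

open TopologicalSpace CategoryTheory

variable {X : Scheme.{u}} [IsLocallyNoetherian X]

/-- the stalk at a point of an affine open has the same depth as the localisation of the coordinate ring. -/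
theorem depth_stalk_eq {W : X.Opens} (hW : IsAffineOpen W) (x : W) (q : PrimeSpectrum Γ(X, W))
    (hq : hW.primeIdealOf x = q) :
    LocCoh.depth (X.presheaf.stalk x.1) (X.presheaf.stalk x.1) =
      LocCoh.depth (Localization.AtPrime q.asIdeal) (Localization.AtPrime q.asIdeal) := by
  subst hq
  letI : Algebra Γ(X, W) (X.presheaf.stalk x.1) :=
    TopCat.Presheaf.algebra_section_stalk X.presheaf x
  haveI : IsLocalization.AtPrime (X.presheaf.stalk x.1) (hW.primeIdealOf x).asIdeal :=
    hW.isLocalization_stalk x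
  haveI : IsNoetherianRing Γ(X, W) := IsLocallyNoetherian.component_noetherian ⟨W, hW⟩
  let e : X.presheaf.stalk x.1 ≃ₐ[Γ(X, W)] Localization.AtPrime (hW.primeIdealOf x).asIdeal :=
    IsLocalization.algEquiv (hW.primeIdealOf x).asIdeal.primeCompl _ _
  exact Groth.Agent.Lib.Helper28.depth_self_eq_of_ringEquiv e.toRingEquiv

theorem fromSpec_mem {W : X.Opens} (hW : IsAffineOpen W) (q : PrimeSpectrum Γ(X, W)) :
    hW.fromSpec q ∈ W := by
  have : hW.fromSpec q ∈ Set.range hW.fromSpec := ⟨q, rfl⟩
  rw [hW.range_fromSpec] at this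
  exact this

theorem primeIdealOf_fromSpec {W : X.Opens} (hW : IsAffineOpen W) (q : PrimeSpectrum Γ(X, W)) :
    hW.primeIdealOf ⟨hW.fromSpec q, fromSpec_mem hW q⟩ = q := by
  apply hW.fromSpec.isOpenEmbedding.injective
  exact hW.fromSpec_primeIdealOf ⟨hW.fromSpec q, fromSpec_mem hW q⟩

theorem depth_stalk_fromSpec {W : X.Opens} (hW : IsAffineOpen W) (q : PrimeSpectrum Γ(X, W)) :
    LocCoh.depth (X.presheaf.stalk (hW.fromSpec q)) (X.presheaf.stalk (hW.fromSpec q)) =
      LocCoh.depth (Localization.AtPrime q.asIdeal) (Localization.AtPrime q.asIdeal) :=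
  depth_stalk_eq hW ⟨hW.fromSpec q, fromSpec_mem hW q⟩ q (primeIdealOf_fromSpec hW q)

/-- depth zero at minimal primes. -/
theorem depth_localization_minimal {A : Type u} [CommRing A] [IsNoetherianRing A] (q : Ideal A)
    [q.IsPrime] (hq : q ∈ minimalPrimes A) :
    LocCoh.depth (Localization.AtPrime q) (Localization.AtPrime q) = 0 := by
  have hass : q ∈ associatedPrimes A A := by
    apply Module.associatedPrimes.minimalPrimes_annihilator_subset_associatedPrimes A A
    have : Module.annihilator A A = ⊥ := by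
      rw [eq_bot_iff]
      intro a ha
      have := Module.mem_annihilator.mp ha (1 : A)
      simpa using this
    rw [this]
    exact hq
  have h0 := (Groth.Agent.Lib.Helper28.depth_localization_eq_zero_iff (M := A) q).2 hass
  let e : LocalizedModule q.primeCompl A ≃ₗ[Localization.AtPrime q] Localization.AtPrime q :=
    LinearEquiv.extendScalarsOfIsLocalization q.primeCompl (Localization.AtPrime q)
      (IsLocalizedModule.linearEquiv q.primeCompl
        (LocalizedModule.mkLinearMap q.primeCompl A)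
        (Algebra.linearMap A (Localization.AtPrime q)))
  have hcong := Groth.Agent.Lib.Helper28.idealDepth_congr e (IsLocalRing.maximalIdeal (Localization.AtPrime q))
  exact hcong.symm.trans h0

variable (U : X.Opens)
  (h : ∀ x : X, x ∉ (U : Set X) →
    (2 : ℕ∞) ≤ LocCoh.depth (X.presheaf.stalk x) (X.presheaf.stalk x))

include h in
/-- `U` meets every nonempty open subset. -/
theorem dense_of_depth : Dense (U : Set X) := by
  rw [dense_iff_inter_open]
  rintro V hV ⟨x, hxV⟩
  have hbasis : ∀ (U : Opens X) (x : X), x ∈ U → ∃ U' ∈ X.affineOpens, x ∈ U' ∧ U' ≤ U :=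
    fun U x hx => (Opens.isBasis_iff_nbhd.mp (Scheme.isBasis_affineOpens X)) hx
  obtain ⟨W, hW', hxW, hWV⟩ := hbasis ⟨V, hV⟩ x hxV
  have hW : IsAffineOpen W := hW'
  haveI : IsNoetherianRing Γ(X, W) := IsLocallyNoetherian.component_noetherian ⟨W, hW⟩
  set p := (IsAffineOpen.primeIdealOf hW ⟨x, hxW⟩) with hp
  obtain ⟨q, hqmin, hqp⟩ := Ideal.exists_minimalPrimes_le (I := (⊥ : Ideal Γ(X, W)))
    (J := p.asIdeal) bot_le
  haveI : q.IsPrime := hqmin.1.1
  let q' : PrimeSpectrum Γ(X, W) := ⟨q, inferInstance⟩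
  refine ⟨IsAffineOpen.fromSpec hW q', hWV (fromSpec_mem hW q'), ?_⟩
  by_contra hnot
  have h2 := h _ hnot
  rw [depth_stalk_fromSpec hW q', depth_localization_minimal q hqmin] at h2
  exact absurd h2 (by norm_num)

include h in
theorem exists_nhd_preconnected (x : X) :
    ∃ W : Set X, IsOpen W ∧ x ∈ W ∧ _root_.IsPreconnected (W ∩ (U : Set X)) := by
  have hbasis : ∀ (U : Opens X) (x : X), x ∈ U → ∃ U' ∈ X.affineOpens, x ∈ U' ∧ U' ≤ U :=
    fun U x hx => (Opens.isBasis_iff_nbhd.mp (Scheme.isBasis_affineOpens X)) hx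
  obtain ⟨W₀, hW₀', hxW₀, -⟩ := hbasis ⊤ x trivial
  have hW₀ : IsAffineOpen W₀ := hW₀'
  haveI : IsNoetherianRing Γ(X, W₀) := IsLocallyNoetherian.component_noetherian ⟨W₀, hW₀⟩
  set p₀ : PrimeSpectrum Γ(X, W₀) := IsAffineOpen.primeIdealOf hW₀ ⟨x, hxW₀⟩ with hp₀
  have hclopen : IsClopen (connectedComponent p₀) :=
    ⟨isClosed_connectedComponent,
      Groth.Agent.Lib.Helper14.isOpen_connectedComponent_of_noetherianSpace p₀⟩
  obtain ⟨e, -, he⟩ := PrimeSpectrum.exists_idempotent_basicOpen_eq_of_isClopen hclopen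
  let W : X.Opens := (IsAffineOpen.fromSpec hW₀) ''ᵁ (PrimeSpectrum.basicOpen e)
  have hW : IsAffineOpen W :=
    (IsAffineOpen.Spec_basicOpen (R := Γ(X, W₀)) e).image_of_isOpenImmersion (IsAffineOpen.fromSpec hW₀)
  have hWset : (W : Set X) = (IsAffineOpen.fromSpec hW₀) '' (connectedComponent p₀) := by
    ext y
    constructor
    · rintro ⟨z, hz, rfl⟩
      exact ⟨z, he.symm.subset hz, rfl⟩
    · rintro ⟨z, hz, rfl⟩
      exact ⟨z, he.subset hz, rfl⟩
  have hxW : x ∈ (W : Set X) := by
    rw [hWset]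
    exact ⟨p₀, mem_connectedComponent, IsAffineOpen.fromSpec_primeIdealOf hW₀ ⟨x, hxW₀⟩⟩
  have hWconn : _root_.IsPreconnected (W : Set X) := by
    rw [hWset]
    exact isPreconnected_connectedComponent.image _
      (IsAffineOpen.fromSpec hW₀).continuous.continuousOn
  haveI : IsNoetherianRing Γ(X, W) := IsLocallyNoetherian.component_noetherian ⟨W, hW⟩
  -- the spectrum of `Γ(X, W)` is connected
  haveI : ConnectedSpace (PrimeSpectrum Γ(X, W)) := by
    haveI : Nonempty (PrimeSpectrum Γ(X, W)) := ⟨IsAffineOpen.primeIdealOf hW ⟨x, hxW⟩⟩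
    haveI : PreconnectedSpace (PrimeSpectrum Γ(X, W)) := by
      refine ⟨?_⟩
      have hpre : _root_.IsPreconnected (Set.univ : Set (Spec Γ(X, W))) := by
        rw [← (IsAffineOpen.fromSpec hW).isOpenEmbedding.isInducing.isPreconnected_image,
          Set.image_univ, IsAffineOpen.range_fromSpec hW]
        exact hWconn
      exact hpre
    exact { toNonempty := inferInstance }
  -- the ideal of the complement
  have hZcl : IsClosed ((IsAffineOpen.fromSpec hW) ⁻¹' ((U : Set X)ᶜ)) :=
    (U.2.isClosed_compl).preimage (IsAffineOpen.fromSpec hW).continuous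
  set I : Ideal Γ(X, W) :=
    PrimeSpectrum.vanishingIdeal ((IsAffineOpen.fromSpec hW) ⁻¹' ((U : Set X)ᶜ)) with hI
  have hzl : PrimeSpectrum.zeroLocus (I : Set Γ(X, W)) =
      (IsAffineOpen.fromSpec hW) ⁻¹' ((U : Set X)ᶜ) := by
    rw [hI, PrimeSpectrum.zeroLocus_vanishingIdeal_eq_closure]
    exact hZcl.closure_eq
  have key := Groth.Agent.S2663.result Γ(X, W) I (by
    intro p hp hIp
    have hmem : (⟨p, hp⟩ : PrimeSpectrum Γ(X, W)) ∈ PrimeSpectrum.zeroLocus (I : Set Γ(X, W)) :=
      (PrimeSpectrum.mem_zeroLocus _ _).mpr hIp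
    rw [hzl] at hmem
    have h2 := h _ hmem
    rw [depth_stalk_fromSpec hW ⟨p, hp⟩] at h2
    exact h2)
  rw [hzl] at key
  refine ⟨W, W.2, hxW, ?_⟩
  have himg := key.image _ (IsAffineOpen.fromSpec hW).continuous.continuousOn
  have hsub : (W : Set X) ∩ (U : Set X) =
      (IsAffineOpen.fromSpec hW) '' ((IsAffineOpen.fromSpec hW) ⁻¹' ((U : Set X)ᶜ))ᶜ := by
    rw [← Set.preimage_compl, compl_compl, Set.image_preimage_eq_inter_range,
      IsAffineOpen.range_fromSpec hW, Set.inter_comm]
  rw [hsub]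
  exact himg

end aux

/-- Let X be a locally Noetherian scheme and Y = X − U a closed subset such that depth O_{X,x} ≥ 2 for
every x ∈ Y. Then the inclusion U → X induces a bijection on sets of connected components. -/
theorem result (X : Scheme.{u}) [IsLocallyNoetherian X] (U : X.Opens) (h : ∀ x : X, x ∉ (U : Set X) → (2 : ℕ∞) ≤ LocCoh.depth (X.presheaf.stalk x) (X.presheaf.stalk x)) : Function.Bijective (Continuous.connectedComponentsMap (continuous_subtype_val : Continuous (fun x : U => (x : X)))) := by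
  exact Groth.Agent.Lib.Helper29.ConnComp.connectedComponentsMap_bijective (U : Set X)
    (dense_of_depth U h) (exists_nhd_preconnected U h)

end Groth.Agent.S5153
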