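import Groth.Statements.S5175
import Groth.Agent.Lib.Helper3Coext
import Groth.Agent.S0301
import Groth.Agent.S5155
import Mathlib

set_option autoImplicit false
universe u
open Matlis

namespace Groth.Agent.S5175

open IsLocalRing Groth.Agent.Lib.Helper3.Coext

section Helpers

/-- factor a linear map through a surjection -/
lemma exists_factor {k₀ : Type*} [Ring k₀] {V W U : Type*} [AddCommGroup V] [Module k₀ V]
    [AddCommGroup W] [Module k₀ W] [AddCommGroup U] [Module k₀ U]
    (f : V →ₗ[k₀] W) (hf : Function.Surjective f) (g : V →ₗ[k₀] U)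
    (hle : LinearMap.ker f ≤ LinearMap.ker g) : ∃ h : W →ₗ[k₀] U, ∀ v, h (f v) = g v := by
  refine ⟨((LinearMap.ker f).liftQ g hle) ∘ₗ (f.quotKerEquivOfSurjective hf).symm.toLinearMap, ?_⟩
  intro v
  simp [LinearMap.quotKerEquivOfSurjective_symm_apply]

/-- a nonzero functional on a finite field extension generates the dual -/
lemma exists_mul_functional {k₀ K : Type*} [Field k₀] [Field K] [Algebra k₀ K]
    [FiniteDimensional k₀ K] (ψ ψ' : K →ₗ[k₀] k₀) (hψ : ψ ≠ 0) :
    ∃ c : K, ∀ y : K, ψ (c * y) = ψ' y := by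
  let T : K →ₗ[k₀] (K →ₗ[k₀] k₀) := (LinearMap.mul k₀ K).compr₂ ψ
  have hT : ∀ c y, T c y = ψ (c * y) := fun c y => rfl
  have hinj : Function.Injective T := by
    rw [← LinearMap.ker_eq_bot, LinearMap.ker_eq_bot']
    intro c hc
    by_contra hc0
    apply hψ
    ext y
    have := LinearMap.congr_fun hc (c⁻¹ * y)
    rw [hT, ← mul_assoc, mul_inv_cancel₀ hc0, one_mul] at this
    simpa using this
  have hsurj : Function.Surjective T :=
    (LinearMap.injective_iff_surjective_of_finrank_eq_finrank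
      (Subspace.dual_finrank_eq (K := k₀) (V := K)).symm).1 hinj
  obtain ⟨c, hc⟩ := hsurj ψ'
  exact ⟨c, fun y => by rw [← hT, hc]⟩

variable {k₀ : Type u} [Field k₀] {A : Type u} [CommRing A] [IsLocalRing A] [Algebra k₀ A]

/-- the residue map as a `k₀`-linear map -/
noncomputable def resLin : A →ₗ[k₀] ResidueField A :=
  (IsScalarTower.toAlgHom k₀ A (ResidueField A)).toLinearMap

lemma resLin_apply (a : A) : resLin (k₀ := k₀) a = residue A a := rfl

lemma resLin_surjective : Function.Surjective (resLin (k₀ := k₀) (A := A)) := residue_surjective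

lemma toLin_eq_zero_of_mem (x : Obj k₀ A k₀) (hx : ∀ a ∈ maximalIdeal A, a • x = 0) (b : A)
    (hb : b ∈ maximalIdeal A) : toLin x b = 0 := by
  have : toLin (b • x) 1 = toLin x b := by rw [toLin_smul_apply, one_mul]
  rw [← this, hx b hb, toLin_zero, LinearMap.zero_apply]

lemma exists_functional (x : Obj k₀ A k₀) (hx : ∀ a ∈ maximalIdeal A, a • x = 0) :
    ∃ ψ : ResidueField A →ₗ[k₀] k₀, ∀ a : A, ψ (residue A a) = toLin x a := by
  obtain ⟨h, hh⟩ := exists_factor (resLin (k₀ := k₀) (A := A)) resLin_surjective (toLin x) (by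
    intro b hb
    rw [LinearMap.mem_ker, resLin_apply, residue_eq_zero_iff] at hb
    rw [LinearMap.mem_ker]
    exact toLin_eq_zero_of_mem x hx b hb)
  exact ⟨h, hh⟩

variable [Module.Finite k₀ (A ⧸ maximalIdeal A)]

lemma exists_smul_eq (x x' : Obj k₀ A k₀) (hx : ∀ a ∈ maximalIdeal A, a • x = 0)
    (hx' : ∀ a ∈ maximalIdeal A, a • x' = 0) (hx0 : x ≠ 0) : ∃ a : A, a • x = x' := by
  haveI : FiniteDimensional k₀ (ResidueField A) :=
    inferInstanceAs (Module.Finite k₀ (A ⧸ maximalIdeal A))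
  obtain ⟨ψ, hψ⟩ := exists_functional x hx
  obtain ⟨ψ', hψ'⟩ := exists_functional x' hx'
  have hψ0 : ψ ≠ 0 := by
    intro h0
    apply hx0
    apply toLin_injective
    ext b
    rw [← hψ, h0, toLin_zero]
    rfl
  obtain ⟨c, hc⟩ := exists_mul_functional ψ ψ' hψ0
  obtain ⟨a, rfl⟩ := residue_surjective c
  refine ⟨a, ?_⟩
  apply toLin_injective
  ext b
  rw [toLin_smul_apply, ← hψ, ← hψ', ← hc, map_mul, mul_comm]

omit [Module.Finite k₀ (A ⧸ maximalIdeal A)] in
lemma exists_socle_ne_zero : ∃ x : Obj k₀ A k₀, (∀ a ∈ maximalIdeal A, a • x = 0) ∧ x ≠ 0 := by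
  obtain ⟨ψ₀, hψ₀⟩ : ∃ ψ₀ : ResidueField A →ₗ[k₀] k₀, ψ₀ 1 ≠ 0 := by
    by_contra hcon
    push Not at hcon
    exact one_ne_zero ((Module.forall_dual_apply_eq_zero_iff k₀ (1 : ResidueField A)).1 hcon)
  refine ⟨ofLin (ψ₀ ∘ₗ resLin), ?_, ?_⟩
  · intro a ha
    apply toLin_injective
    ext b
    rw [toLin_smul_apply, toLin_ofLin, toLin_zero, LinearMap.comp_apply, resLin_apply, map_mul,
      (residue_eq_zero_iff a).2 ha, mul_zero, map_zero]
    rfl
  · intro h0
    apply hψ₀
    have : toLin (ofLin (ψ₀ ∘ₗ resLin (k₀ := k₀) (A := A))) 1 = 0 := by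
      rw [h0, toLin_zero]; rfl
    rw [toLin_ofLin, LinearMap.comp_apply, resLin_apply, map_one] at this
    exact this

end Helpers

/-- Let k₀ be a field and A a Noetherian local k₀-algebra with [k : k₀] finite, k the residue field.
Then the topological dual A' = colim_n Hom_{k₀}(A/m^n, k₀), i.e. the submodule of Hom_{k₀}(A, k₀) of
forms killing some power of m (A acting through the source), is an injective hull of k (it is the
dualizing module of A). -/
theorem result (k₀ : Type u) [Field k₀] (A : Type u) [CommRing A] [IsLocalRing A] [IsNoetherianRing A] [Algebra k₀ A] [Module.Finite k₀ (A ⧸ IsLocalRing.maximalIdeal A)] : ∃ f : IsLocalRing.ResidueField A →ₗ[A] ↥(⨆ n : ℕ, Submodule.torsionBySet A ((ModuleCat.coextendScalars (algebraMap k₀ A)).obj (ModuleCat.of k₀ k₀)) ((IsLocalRing.maximalIdeal A ^ n : Ideal A) : Set A)), InjHull.IsInjectiveHull f := by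
  have hinjC : Module.Injective A (Obj k₀ A k₀) :=
    injective_obj (Module.injective_of_isSemisimpleRing k₀ k₀)
  have hinjI := Groth.Agent.S0301.result A (Obj k₀ A k₀) hinjC (maximalIdeal A)
  have hmono : Monotone (fun n : ℕ =>
      Submodule.torsionBySet A (Obj k₀ A k₀) ((maximalIdeal A ^ n : Ideal A) : Set A)) := by
    intro n m hnm
    apply Submodule.torsionBySet_le_torsionBySet_of_subset
    exact Ideal.pow_le_pow_right hnm
  have hmem : ∀ y : Obj k₀ A k₀, y ∈ (⨆ n : ℕ,
      Submodule.torsionBySet A (Obj k₀ A k₀) ((maximalIdeal A ^ n : Ideal A) : Set A)) ↔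
      ∃ n : ℕ, y ∈ Submodule.torsionBySet A (Obj k₀ A k₀) ((maximalIdeal A ^ n : Ideal A) : Set A) :=
    fun y => Submodule.mem_iSup_of_directed _ hmono.directed_le
  have hsocmem : ∀ x : Obj k₀ A k₀, (∀ a ∈ maximalIdeal A, a • x = 0) → x ∈ (⨆ n : ℕ,
      Submodule.torsionBySet A (Obj k₀ A k₀) ((maximalIdeal A ^ n : Ideal A) : Set A)) := by
    intro x hx
    rw [hmem]
    refine ⟨1, ?_⟩
    rw [Submodule.mem_torsionBySet_iff]
    rintro ⟨a, ha⟩
    rw [pow_one] at ha
    exact hx a ha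
  refine Groth.Agent.S5155.isInjectiveHull_of hinjI ?_ ?_
  · intro x
    obtain ⟨n, hn⟩ := (hmem _).1 x.2
    refine ⟨n, fun a ha => ?_⟩
    apply Subtype.ext
    rw [Submodule.mem_torsionBySet_iff] at hn
    exact hn ⟨a, ha⟩
  · rw [isSimpleModule_iff_toSpanSingleton_surjective]
    constructor
    · obtain ⟨x₀, hx₀, hx₀ne⟩ := exists_socle_ne_zero (k₀ := k₀) (A := A)
      have hsoc : ∀ b ∈ maximalIdeal A, b • (⟨x₀, hsocmem x₀ hx₀⟩ : ↥(⨆ n : ℕ,
          Submodule.torsionBySet A (Obj k₀ A k₀) ((maximalIdeal A ^ n : Ideal A) : Set A))) = 0 :=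
        fun b hb => Subtype.ext (hx₀ b hb)
      refine ⟨⟨Groth.Agent.S5155.socleHom _ hsoc, 0, ?_⟩⟩
      intro h0
      have := LinearMap.congr_fun h0 1
      rw [Groth.Agent.S5155.socleHom_one, LinearMap.zero_apply] at this
      exact hx₀ne (congrArg Subtype.val this)
    · intro φ hφ φ'
      have hsocφ : ∀ (χ : ResidueField A →ₗ[A] ↥(⨆ n : ℕ,
          Submodule.torsionBySet A (Obj k₀ A k₀) ((maximalIdeal A ^ n : Ideal A) : Set A))),
          ∀ a ∈ maximalIdeal A, a • ((χ 1 : ↥(⨆ n : ℕ,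
          Submodule.torsionBySet A (Obj k₀ A k₀) ((maximalIdeal A ^ n : Ideal A) : Set A))) :
            Obj k₀ A k₀) = 0 := by
        intro χ a ha
        have : a • χ 1 = 0 := by
          rw [← map_smul, Groth.Agent.S5155.smul_residue_eq_zero ha, map_zero]
        exact congrArg Subtype.val this
      have hx0 : ((φ 1 : ↥(⨆ n : ℕ,
          Submodule.torsionBySet A (Obj k₀ A k₀) ((maximalIdeal A ^ n : Ideal A) : Set A))) :
            Obj k₀ A k₀) ≠ 0 := by
        intro h0
        apply hφ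
        apply Groth.Agent.S5155.hom_ext_one
        rw [LinearMap.zero_apply]
        exact Subtype.ext h0
      obtain ⟨a, ha⟩ := exists_smul_eq _ _ (hsocφ φ) (hsocφ φ') hx0
      refine ⟨a, ?_⟩
      apply Groth.Agent.S5155.hom_ext_one
      show (a • φ) 1 = φ' 1
      rw [LinearMap.smul_apply]
      exact Subtype.ext ha

end Groth.Agent.S5175
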