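import Groth.Statements.S5156
import Groth.Agent.Lib.Helper3Coext
import Groth.Agent.S5155
import Groth.Agent.S5175
import Mathlib

set_option autoImplicit false
universe u
open Matlis

namespace Groth.Agent.S5156

open IsLocalRing Groth.Agent.Lib.Helper3.Coext

section Helpers

variable {A B : Type u} [CommRing A] [IsLocalRing A] [CommRing B] [IsLocalRing B] [Algebra A B]
  [Module.Finite A B]

lemma isLocalHom_of_finite : IsLocalHom (algebraMap A B) := by
  constructor
  intro a ha
  by_contra hna
  have ham : a ∈ maximalIdeal A := (mem_maximalIdeal a).2 hna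
  obtain ⟨u, hu⟩ := ha
  have htop : (⊤ : Submodule A B) = ⊥ := by
    apply Submodule.eq_bot_of_le_smul_of_le_jacobson_bot (maximalIdeal A) ⊤ Module.Finite.fg_top
    · intro b _
      have : b = a • ((↑u⁻¹ : B) * b) := by
        rw [Algebra.smul_def, ← hu, ← mul_assoc, Units.mul_inv, one_mul]
      rw [this]
      exact Submodule.smul_mem_smul ham trivial
    · exact (IsLocalRing.jacobson_eq_maximalIdeal ⊥ bot_ne_top).ge
  have : (1 : B) ∈ (⊥ : Submodule A B) := htop ▸ trivial
  exact one_ne_zero ((Submodule.mem_bot A).1 this)

lemma exists_pow_le_map : ∃ n : ℕ, maximalIdeal B ^ n ≤ (maximalIdeal A).map (algebraMap A B) := by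
  haveI : Module.Finite (A ⧸ maximalIdeal A) (B ⧸ (maximalIdeal A).map (algebraMap A B)) :=
    Module.Finite.of_restrictScalars_finite A _ _
  letI : Field (A ⧸ maximalIdeal A) := Ideal.Quotient.field _
  haveI : IsArtinianRing (B ⧸ (maximalIdeal A).map (algebraMap A B)) :=
    IsArtinianRing.of_finite (A ⧸ maximalIdeal A) _
  exact exists_maximalIdeal_pow_le_of_isArtinianRing_quotient _

variable [IsNoetherianRing A] {E : Type u} [AddCommGroup E] [Module A E]

lemma isPowerTorsion_obj (hE : LocCoh.IsPowerTorsion (maximalIdeal A) E) :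
    LocCoh.IsPowerTorsion (maximalIdeal B) (Obj A B E) := by
  intro g
  -- a uniform exponent killing the image of `g`
  obtain ⟨T, hT⟩ := (Module.Finite.fg_top : (⊤ : Submodule A B).FG)
  choose nn hnn using fun b : B => hE (toLin g b)
  let N : ℕ := T.sup nn
  have hN : ∀ b : B, ∀ a ∈ maximalIdeal A ^ N, a • toLin g b = 0 := by
    intro b a ha
    have hb : b ∈ Submodule.span A (T : Set B) := by rw [hT]; trivial
    induction hb using Submodule.span_induction with
    | mem x hx => exact hnn x a (Ideal.pow_le_pow_right (Finset.le_sup (f := nn) hx) ha)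
    | zero => rw [map_zero, smul_zero]
    | add x y _ _ hx hy => rw [map_add, smul_add, hx, hy, add_zero]
    | smul c x _ hx => rw [map_smul, smul_comm, hx, smul_zero]
  obtain ⟨n, hn⟩ := exists_pow_le_map (A := A) (B := B)
  refine ⟨n * N, ?_⟩
  have hle : maximalIdeal B ^ (n * N) ≤ (maximalIdeal A ^ N).map (algebraMap A B) := by
    rw [pow_mul, Ideal.map_pow]
    exact Ideal.pow_right_mono hn N
  have hker : (maximalIdeal A ^ N).map (algebraMap A B) ≤
      LinearMap.ker (LinearMap.toSpanSingleton B (Obj A B E) g) := by
    rw [Ideal.map_le_iff_le_comap]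
    intro a ha
    simp only [Ideal.mem_comap, LinearMap.mem_ker, LinearMap.toSpanSingleton_apply]
    apply toLin_injective
    ext b
    rw [toLin_smul_apply, toLin_zero, LinearMap.zero_apply, mul_comm, ← Algebra.smul_def, map_smul]
    exact hN b a ha
  intro c hc
  have := hker (hle hc)
  rw [LinearMap.mem_ker, LinearMap.toSpanSingleton_apply] at this
  exact this

lemma exists_functional {f : ResidueField A →ₗ[A] E} (hf : InjHull.IsEssentialInj f)
    (lam : ResidueField B →ₗ[A] E) :
    ∃ ψ : ResidueField B →ₗ[A] ResidueField A, ∀ y, f (ψ y) = lam y := by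
  haveI := isLocalHom_of_finite (A := A) (B := B)
  have hsoc : ∀ y : ResidueField B, ∀ a ∈ maximalIdeal A, a • lam y = 0 := by
    intro y a ha
    rw [← map_smul]
    have : a • y = 0 := by
      rw [Algebra.smul_def]
      have h1 : algebraMap A (ResidueField B) a = residue B (algebraMap A B a) := rfl
      rw [h1, (residue_eq_zero_iff _).2, zero_mul]
      exact (mem_maximalIdeal _).2
        (fun hu => (mem_maximalIdeal a).1 ha (isUnit_of_map_unit (algebraMap A B) a hu))
    rw [this, map_zero]
  have hmem : ∀ y, lam y ∈ LinearMap.range f := by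
    intro y
    obtain ⟨c, hc⟩ := Groth.Agent.S5155.exists_eq_of_essential hf
      (Groth.Agent.S5155.socleHom (lam y) (hsoc y))
    rw [Groth.Agent.S5155.socleHom_one] at hc
    exact ⟨c, hc.symm⟩
  refine ⟨(LinearEquiv.ofInjective f hf.injective).symm.toLinearMap ∘ₗ
    LinearMap.codRestrict (LinearMap.range f) lam hmem, fun y => ?_⟩
  have := (LinearEquiv.ofInjective f hf.injective).apply_symm_apply ⟨lam y, hmem y⟩
  exact congrArg Subtype.val this

lemma isSimpleModule_hom {f : ResidueField A →ₗ[A] E} (hf : InjHull.IsEssentialInj f) :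
    IsSimpleModule B (ResidueField B →ₗ[B] Obj A B E) := by
  haveI := isLocalHom_of_finite (A := A) (B := B)
  have hsurj : Function.Surjective (algebraMap A (ResidueField A)) := residue_surjective
  rw [isSimpleModule_iff_toSpanSingleton_surjective]
  constructor
  · -- a nonzero element
    obtain ⟨ψ₀, hψ₀⟩ : ∃ ψ₀ : ResidueField B →ₗ[ResidueField A] ResidueField A, ψ₀ 1 ≠ 0 := by
      by_contra hcon
      push Not at hcon
      exact one_ne_zero
        ((Module.forall_dual_apply_eq_zero_iff (ResidueField A) (1 : ResidueField B)).1 hcon)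
    refine ⟨⟨linToHom (f ∘ₗ ψ₀.restrictScalars A), 0, ?_⟩⟩
    intro h0
    apply hψ₀
    have h1 := homToLin_linToHom (S := B) (f ∘ₗ ψ₀.restrictScalars A)
    rw [h0] at h1
    have h2 := LinearMap.congr_fun h1 1
    rw [homToLin_apply, LinearMap.zero_apply, toLin_zero, LinearMap.zero_apply] at h2
    have h3 : f (ψ₀ 1) = f 0 := by rw [map_zero]; exact h2.symm
    exact hf.injective h3
  · intro φ hφ φ'
    obtain ⟨ψ, hψ⟩ := exists_functional hf (homToLin φ)
    obtain ⟨ψ', hψ'⟩ := exists_functional hf (homToLin φ')
    have hψ0 : ψ.extendScalarsOfSurjective hsurj ≠ 0 := by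
      intro h0
      apply hφ
      apply homToLin_injective
      ext y
      rw [← hψ]
      have := LinearMap.congr_fun h0 y
      rw [LinearMap.extendScalarsOfSurjective_apply] at this
      rw [this]
      simp [homToLin_apply, toLin_zero]
    obtain ⟨c, hc⟩ := Groth.Agent.S5175.exists_mul_functional
      (ψ.extendScalarsOfSurjective hsurj) (ψ'.extendScalarsOfSurjective hsurj) hψ0
    obtain ⟨b, rfl⟩ := residue_surjective c
    refine ⟨b, ?_⟩
    apply homToLin_injective
    ext y
    show homToLin (b • φ) y = homToLin φ' y
    rw [← hψ', homToLin_apply, LinearMap.smul_apply, toLin_smul_apply, one_mul, toLin_hom_apply,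
      ← hψ]
    have := hc y
    rw [LinearMap.extendScalarsOfSurjective_apply, LinearMap.extendScalarsOfSurjective_apply] at this
    rw [← this]
    congr 2

end Helpers

/-- Let A and B be Noetherian local rings with B a finite A-algebra, and E an injective hull of the
residue field of A (a dualizing module for A). Then Hom_A(B, E), as a B-module through the action on
the source, is an injective hull of the residue field of B (a dualizing module for B). -/
theorem result (A B : Type u) [CommRing A] [IsLocalRing A] [IsNoetherianRing A] [CommRing B] [IsLocalRing B] [IsNoetherianRing B] [Algebra A B] [Module.Finite A B] (E : Type u) [AddCommGroup E] [Module A E] (f : IsLocalRing.ResidueField A →ₗ[A] E) (hf : InjHull.IsInjectiveHull f) : ∃ g : IsLocalRing.ResidueField B →ₗ[B] (ModuleCat.coextendScalars (algebraMap A B)).obj (ModuleCat.of A E), InjHull.IsInjectiveHull g := by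
  exact Groth.Agent.S5155.isInjectiveHull_of (injective_obj hf.isInjective)
    (isPowerTorsion_obj (Groth.Agent.S5155.isPowerTorsion_of_hull hf.toIsEssentialInj))
    (isSimpleModule_hom hf.toIsEssentialInj)

end Groth.Agent.S5156
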