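import Groth.Statements.S5157
import Groth.Agent.S11662
import Mathlib

set_option autoImplicit false
universe u
open Matlis

namespace Groth.Agent.S5157

open IsLocalRing

/-- Let A be a Noetherian local ring, a an ideal with A/a local (i.e. a ≠ A) and E an injective hull of
the residue field of A. Then the annihilator of a in E, E[a] = {e | a e = 0}, is an injective hull
of the residue field of A/a over A/a. -/
theorem result (A : Type u) [CommRing A] [IsLocalRing A] [IsNoetherianRing A] (a : Ideal A) [IsLocalRing (A ⧸ a)] (E : Type u) [AddCommGroup E] [Module A E] (f : IsLocalRing.ResidueField A →ₗ[A] E) (hf : InjHull.IsInjectiveHull f) : ∃ g : IsLocalRing.ResidueField (A ⧸ a) →ₗ[A ⧸ a] (LocCoh.torsionBy a E), InjHull.IsInjectiveHull g := by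
  haveI : IsLocalHom (Ideal.Quotient.mk a) :=
    IsLocalHom.of_surjective _ Ideal.Quotient.mk_surjective
  let ρ : ResidueField A →+* ResidueField (A ⧸ a) := ResidueField.map (Ideal.Quotient.mk a)
  have hρs : Function.Surjective ρ := by
    intro y
    obtain ⟨z, rfl⟩ := residue_surjective y
    obtain ⟨r, rfl⟩ := Ideal.Quotient.mk_surjective z
    exact ⟨residue A r, ResidueField.map_residue _ r⟩
  have hρ : Function.Bijective ρ := ⟨ρ.injective, hρs⟩
  let ρl : ResidueField A →ₗ[A] ResidueField (A ⧸ a) :=
    { toFun := ρ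
      map_add' := map_add ρ
      map_smul' := by
        intro r x
        simp only [RingHom.id_apply]
        rw [Algebra.smul_def, map_mul, Algebra.smul_def]
        congr 1 }
  let e : ResidueField A ≃ₗ[A] ResidueField (A ⧸ a) := LinearEquiv.ofBijective ρl hρ
  let f' : ResidueField (A ⧸ a) →ₗ[A] E := f ∘ₗ e.symm.toLinearMap
  have hf' : InjHull.IsInjectiveHull f' := by
    refine ⟨⟨hf.injective.comp e.symm.injective, ?_⟩, hf.isInjective⟩
    intro N hN
    have : LinearMap.range f' = LinearMap.range f := by
      apply le_antisymm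
      · rintro _ ⟨x, rfl⟩; exact ⟨e.symm x, rfl⟩
      · rintro _ ⟨x, rfl⟩; exact ⟨e x, by simp [f']⟩
    rw [this]
    exact hf.essential N hN
  obtain ⟨g, hg, -⟩ := Groth.Agent.S11662.result A a (ResidueField (A ⧸ a)) E f' hf'
  exact ⟨g, hg⟩

end Groth.Agent.S5157
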