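import Groth.Statements.S5158
import Mathlib

set_option autoImplicit false
universe u
open scoped TensorProduct
open Matlis

namespace Groth.Agent.S5158

open IsLocalRing TensorProduct

section Helpers

variable {A : Type u} [CommRing A] [IsLocalRing A] [IsNoetherianRing A]

/-- a module killed by a power of the ideal is precomplete -/
lemma isPrecomplete_of_pow_smul_eq_bot (J : Ideal A) (M : Type u) [AddCommGroup M] [Module A M]
    (n : ℕ) (hn : J ^ n • (⊤ : Submodule A M) = ⊥) : IsPrecomplete J M := by
  refine ⟨fun f hf => ⟨f n, fun k => ?_⟩⟩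
  rcases le_total k n with hkn | hnk
  · exact hf hkn
  · have h1 := hf hnk
    rw [hn, SModEq.bot] at h1
    rw [h1]

/-- for a finite module killed by a power of the maximal ideal, `x ↦ 1 ⊗ x` is bijective -/
lemma mk_one_bijective_of_finite (M : Type u) [AddCommGroup M] [Module A M] [Module.Finite A M]
    (n : ℕ) (hn : maximalIdeal A ^ n • (⊤ : Submodule A M) = ⊥) :
    Function.Bijective (TensorProduct.mk A (AdicCompletion (maximalIdeal A) A) M 1) := by
  haveI : IsPrecomplete (maximalIdeal A) M := isPrecomplete_of_pow_smul_eq_bot _ M n hn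
  haveI : IsAdicComplete (maximalIdeal A) M := {}
  have h1 : Function.Bijective (AdicCompletion.of (maximalIdeal A) M) :=
    AdicCompletion.of_bijective _ _
  have h2 := AdicCompletion.ofTensorProduct_bijective_of_finite_of_isNoetherian (maximalIdeal A) M
  have hcomp : (AdicCompletion.of (maximalIdeal A) M : M → _) =
      (AdicCompletion.ofTensorProduct (maximalIdeal A) M) ∘
        (TensorProduct.mk A (AdicCompletion (maximalIdeal A) A) M 1) := by
    funext x
    simp
  rw [hcomp] at h1
  exact ⟨Function.Injective.of_comp h1.1,
    (Function.Surjective.of_comp_iff' h2 _).1 h1.2⟩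

/-- a finitely generated power torsion module is killed by a power of the ideal -/
lemma exists_pow_smul_eq_bot {I : Type u} [AddCommGroup I] [Module A I]
    (hI : LocCoh.IsPowerTorsion (maximalIdeal A) I) (M : Submodule A I) (hM : M.FG) :
    ∃ n : ℕ, maximalIdeal A ^ n • (⊤ : Submodule A M) = ⊥ := by
  obtain ⟨S, hS⟩ := hM
  choose k hk using hI
  refine ⟨S.sup k, ?_⟩
  rw [Submodule.eq_bot_iff]
  intro y hy
  refine Submodule.smul_induction_on hy (fun a ha z _ => ?_) (fun _ _ h1 h2 => by rw [h1, h2, add_zero])
  apply Subtype.ext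
  show a • (z : I) = 0
  have hz : (z : I) ∈ Submodule.span A (S : Set I) := by rw [hS]; exact z.2
  refine Submodule.span_induction (p := fun w _ => a • w = 0) ?_ ?_ ?_ ?_ hz
  · intro w hw
    exact hk w a (Ideal.pow_le_pow_right (Finset.le_sup hw) ha)
  · exact smul_zero a
  · intro w w' _ _ h1 h2
    rw [smul_add, h1, h2, add_zero]
  · intro c w _ h1
    rw [smul_comm, h1, smul_zero]

end Helpers

/-- Let A be a Noetherian local ring, Â its m-adic completion and I an m-power torsion A-module (a union
of submodules of finite length). Then x ↦ 1 ⊗ x is a bijection I → Â ⊗_A I. -/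
theorem result (A : Type u) [CommRing A] [IsLocalRing A] [IsNoetherianRing A] (I : Type u) [AddCommGroup I] [Module A I] (hI : LocCoh.IsPowerTorsion (IsLocalRing.maximalIdeal A) I) : Function.Bijective (TensorProduct.mk A (AdicCompletion (IsLocalRing.maximalIdeal A) A) I 1) := by
  constructor
  · rw [injective_iff_map_eq_zero]
    intro x hx
    let M : Submodule A I := Submodule.span A {x}
    have hMfg : M.FG := Submodule.fg_span_singleton x
    haveI : Module.Finite A M := Module.Finite.iff_fg.2 hMfg
    obtain ⟨n, hn⟩ := exists_pow_smul_eq_bot hI M hMfg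
    have hinj : Function.Injective
        (LinearMap.lTensor (AdicCompletion (maximalIdeal A) A) M.subtype) :=
      Module.Flat.lTensor_preserves_injective_linearMap _ M.injective_subtype
    have h0 : TensorProduct.mk A (AdicCompletion (maximalIdeal A) A) M 1
        ⟨x, Submodule.mem_span_singleton_self x⟩ = 0 := by
      apply hinj
      rw [map_zero]
      simpa using hx
    have h1 : (⟨x, Submodule.mem_span_singleton_self x⟩ : M) = 0 :=
      (mk_one_bijective_of_finite M n hn).1 (h0.trans (map_zero _).symm)
    exact congrArg Subtype.val h1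
  · intro t
    obtain ⟨M, hMfin, hM⟩ := TensorProduct.exists_finite_submodule_right_of_setFinite
      ({t} : Set (AdicCompletion (maximalIdeal A) A ⊗[A] I)) (Set.finite_singleton t)
    have hMfg : M.FG := Module.Finite.iff_fg.1 hMfin
    obtain ⟨n, hn⟩ := exists_pow_smul_eq_bot hI M hMfg
    obtain ⟨t', ht'⟩ := hM (Set.mem_singleton t)
    obtain ⟨y, hy⟩ := (mk_one_bijective_of_finite M n hn).2 t'
    refine ⟨y.1, ?_⟩
    rw [← ht', ← hy]
    simp

end Groth.Agent.S5158
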