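import Groth.Statements.S5162
import Groth.Agent.Lib.Helper29LCExt

set_option autoImplicit false
universe u
open CategoryTheory
open LocCoh

namespace Groth.Agent.S5162

open Groth.Agent.Lib.Helper29LCExt

/-- The affine case. Let A be a Noetherian ring, J an ideal, G any A-module and n ≥ 0. Then: H^i_J(G) =
0 for all i < n iff Ext^i_A(F, G) = 0 for all i < n and all finite A-modules F with Supp F ⊆ V(J),
iff Ext^i_A(F, G) = 0 for all i < n for one finite F with Supp F = V(J). (G is not assumed finitely
generated.) -/
theorem result (A : Type u) [CommRing A] [IsNoetherianRing A] (J : Ideal A) (G : Type u) [AddCommGroup G] [Module A G] (n : ℕ) : ((∀ i : ℕ, i < n → Subsingleton (LocCoh.H J i G)) ↔ ∀ (F : Type u) [AddCommGroup F] [Module A F], Module.Finite A F → Module.support A F ⊆ PrimeSpectrum.zeroLocus (J : Set A) → ∀ i : ℕ, i < n → Subsingleton (Abelian.Ext (ModuleCat.of A F) (ModuleCat.of A G) i)) ∧ ((∀ i : ℕ, i < n → Subsingleton (LocCoh.H J i G)) ↔ ∃ (F : Type u) (_ : AddCommGroup F) (_ : Module A F), Module.Finite A F ∧ Module.support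 A F = PrimeSpectrum.zeroLocus (J : Set A) ∧ ∀ i : ℕ, i < n → Subsingleton (Abelian.Ext (ModuleCat.of A F) (ModuleCat.of A G) i)) := by
  have hAB : ∀ (n : ℕ) (G : Type u) [AddCommGroup G] [Module A G],
      (∀ i : ℕ, i < n → Subsingleton (LocCoh.H J i G)) →
      ∀ (F : Type u) [AddCommGroup F] [Module A F], Module.Finite A F →
        Module.support A F ⊆ PrimeSpectrum.zeroLocus (J : Set A) →
        ∀ i : ℕ, i < n → Subsingleton (Abelian.Ext (ModuleCat.of A F) (ModuleCat.of A G) i) := by
    intro n
    induction n with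
    | zero => intro G _ _ _ F _ _ _ _ i hi; omega
    | succ n ih =>
      intro G _ _ hH F _ _ hFfin hFsupp i hi
      have hG : DRing.torsionSub J G = ⊥ := (subsingleton_H0_iff J G).mp (hH 0 (Nat.succ_pos n))
      cases i with
      | zero =>
        exact (subsingleton_ext_zero_iff F G).mpr (hom_eq_zero_of_support J F hFsupp G hG)
      | succ i =>
        obtain ⟨E, _, _, f, hEinj, hE, hf⟩ := exists_torsionFree_injective J G hG
        have hg := Submodule.mkQ_surjective (LinearMap.range f)
        have hex := LinearMap.exact_map_mkQ_range f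
        rw [Ext_shift f _ hf hg hex F (hom_eq_zero_of_support J F hFsupp E hE) i]
        refine ih (E ⧸ LinearMap.range f) ?_ F hFfin hFsupp i (by omega)
        intro j hj
        rw [← H_shift J f _ hf hg hex hE j]
        exact hH (j + 1) (by omega)
  have hCA : ∀ (F : Type u) [AddCommGroup F] [Module A F], Module.Finite A F →
      Module.support A F = PrimeSpectrum.zeroLocus (J : Set A) →
      ∀ (n : ℕ) (G : Type u) [AddCommGroup G] [Module A G],
      (∀ i : ℕ, i < n → Subsingleton (Abelian.Ext (ModuleCat.of A F) (ModuleCat.of A G) i)) →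
      ∀ i : ℕ, i < n → Subsingleton (LocCoh.H J i G) := by
    intro F _ _ hFfin hFsupp n
    induction n with
    | zero => intro G _ _ _ i hi; omega
    | succ n ih =>
      intro G _ _ hExt i hi
      have hG : DRing.torsionSub J G = ⊥ :=
        torsionSub_eq_bot_of_hom_eq_zero J F hFsupp.ge G
          ((subsingleton_ext_zero_iff F G).mp (hExt 0 (Nat.succ_pos n)))
      cases i with
      | zero => exact (subsingleton_H0_iff J G).mpr hG
      | succ i =>
        obtain ⟨E, _, _, f, hEinj, hE, hf⟩ := exists_torsionFree_injective J G hG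
        have hg := Submodule.mkQ_surjective (LinearMap.range f)
        have hex := LinearMap.exact_map_mkQ_range f
        rw [H_shift J f _ hf hg hex hE i]
        refine ih (E ⧸ LinearMap.range f) ?_ i (by omega)
        intro j hj
        rw [← Ext_shift f _ hf hg hex F (hom_eq_zero_of_support J F hFsupp.le E hE) j]
        exact hExt (j + 1) (by omega)
  have hBC : (∀ (F : Type u) [AddCommGroup F] [Module A F], Module.Finite A F →
      Module.support A F ⊆ PrimeSpectrum.zeroLocus (J : Set A) → ∀ i : ℕ, i < n →
        Subsingleton (Abelian.Ext (ModuleCat.of A F) (ModuleCat.of A G) i)) →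
      ∃ (F : Type u) (_ : AddCommGroup F) (_ : Module A F), Module.Finite A F ∧
        Module.support A F = PrimeSpectrum.zeroLocus (J : Set A) ∧ ∀ i : ℕ, i < n →
          Subsingleton (Abelian.Ext (ModuleCat.of A F) (ModuleCat.of A G) i) := by
    intro h
    have hsupp : Module.support A (A ⧸ J) = PrimeSpectrum.zeroLocus (J : Set A) := by
      rw [Module.support_eq_zeroLocus, Ideal.annihilator_quotient]
    exact ⟨A ⧸ J, inferInstance, inferInstance, inferInstance, hsupp,
      h (A ⧸ J) inferInstance hsupp.le⟩
  refine ⟨⟨fun h F _ _ => hAB n G h F, fun h => ?_⟩, ⟨fun h => hBC (fun F _ _ => hAB n G h F), ?_⟩⟩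
  · obtain ⟨F, _, _, hFfin, hFsupp, hExt⟩ := hBC h
    exact hCA F hFfin hFsupp n G hExt
  · rintro ⟨F, _, _, hFfin, hFsupp, hExt⟩
    exact hCA F hFfin hFsupp n G hExt

end Groth.Agent.S5162
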