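import Groth.Statements.S5163
import Mathlib
-- import your own Groth.Agent.* helpers here

set_option autoImplicit false
universe u
open LocCoh

namespace Groth.Agent.S5163

/-- For modules over a Noetherian ring. Let P be a finite A-module and H any A-module with Supp H ⊆ Supp
P. If Hom_A(P, H) = 0 then H = 0. (The published lemma is stated over an arbitrary prescheme; its
proof uses that a nonzero module has an associated prime, so the ring is taken Noetherian here.) -/
theorem result (A : Type u) [CommRing A] [IsNoetherianRing A] (P H : Type u) [AddCommGroup P] [Module A P] [Module.Finite A P] [AddCommGroup H] [Module A H] (hsupp : Module.support A H ⊆ Module.support A P) (hhom : Subsingleton (P →ₗ[A] H)) : Subsingleton H := by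
  classical
  by_contra hH
  rw [not_subsingleton_iff_nontrivial] at hH
  obtain ⟨p, hp⟩ := associatedPrimes.nonempty A H
  rw [AssociatedPrimes.mem_iff, isAssociatedPrime_iff] at hp
  obtain ⟨hprime, x, hx⟩ := hp
  haveI := hprime
  have hmem : ∀ a : A, a ∈ p ↔ a • x = 0 := by
    intro a
    rw [hx, Submodule.mem_colon_singleton, Submodule.mem_bot]
  -- p in the support of H, hence of P
  have hpH : (⟨p, hprime⟩ : PrimeSpectrum A) ∈ Module.support A H := by
    rw [Module.mem_support_iff_exists_annihilator]
    refine ⟨x, ?_⟩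
    intro a ha
    rw [Submodule.mem_annihilator_span_singleton] at ha
    exact (hmem a).mpr ha
  have hpP := hsupp hpH
  rw [Module.mem_support_iff_nontrivial_residueField_tensorProduct] at hpP
  obtain ⟨v, hv⟩ := exists_ne (0 : TensorProduct A p.ResidueField P)
  have hφ : ∃ φ : Module.Dual p.ResidueField (TensorProduct A p.ResidueField P), φ v ≠ 0 := by
    by_contra hcon
    push Not at hcon
    exact hv ((Module.forall_dual_apply_eq_zero_iff p.ResidueField v).mp hcon)
  obtain ⟨φ, hφv⟩ := hφ
  let ψ : P →ₗ[A] p.ResidueField :=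
    (φ.restrictScalars A) ∘ₗ (TensorProduct.mk A p.ResidueField P 1)
  have hψ : ∀ m, ψ m = φ ((1 : p.ResidueField) ⊗ₜ[A] m) := fun m => rfl
  have hψne : ψ ≠ 0 := by
    intro h0
    apply hφv
    have hφ0 : ∀ w : TensorProduct A p.ResidueField P, φ w = 0 := by
      intro w
      induction w using TensorProduct.induction_on with
      | zero => exact map_zero φ
      | tmul k m =>
        have : k ⊗ₜ[A] m = k • ((1 : p.ResidueField) ⊗ₜ[A] m) := by
          rw [TensorProduct.smul_tmul', smul_eq_mul, mul_one]
        rw [this, map_smul, ← hψ, h0, LinearMap.zero_apply, smul_zero]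
      | add a b ha hb => rw [map_add, ha, hb, add_zero]
    exact hφ0 v
  -- denominators
  have hden : ∀ k : p.ResidueField, ∃ d : A, d ∉ p ∧ ∃ a : A,
      algebraMap A p.ResidueField d * k = algebraMap A p.ResidueField a := by
    intro k
    obtain ⟨xx, yy, hy, rfl⟩ := IsFractionRing.div_surjective (A := A ⧸ p) k
    obtain ⟨a, rfl⟩ := Ideal.Quotient.mk_surjective xx
    obtain ⟨d, rfl⟩ := Ideal.Quotient.mk_surjective yy
    have hd : d ∉ p := by
      intro hdp
      have : Ideal.Quotient.mk p d = 0 := Ideal.Quotient.eq_zero_iff_mem.mpr hdp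
      rw [this] at hy
      exact zero_notMem_nonZeroDivisors hy
    refine ⟨d, hd, a, ?_⟩
    have h1 : algebraMap (A ⧸ p) p.ResidueField (Ideal.Quotient.mk p d) =
        algebraMap A p.ResidueField d := by
      rw [← Ideal.Quotient.algebraMap_eq, ← IsScalarTower.algebraMap_apply]
    have h2 : algebraMap (A ⧸ p) p.ResidueField (Ideal.Quotient.mk p a) =
        algebraMap A p.ResidueField a := by
      rw [← Ideal.Quotient.algebraMap_eq, ← IsScalarTower.algebraMap_apply]
    rw [h1, h2]
    have hd0 : algebraMap A p.ResidueField d ≠ 0 := by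
      rw [Ne, Ideal.algebraMap_residueField_eq_zero]
      exact hd
    field_simp
  obtain ⟨S, hS⟩ := (Module.Finite.fg_top : (⊤ : Submodule A P).FG)
  choose dfun hdfun afun hafun using hden
  set d : A := ∏ m ∈ S, dfun (ψ m) with hddef
  have hdp : d ∉ p := by
    rw [hddef]
    intro hmem'
    obtain ⟨m, _, hm⟩ := (Ideal.IsPrime.prod_mem_iff).mp hmem'
    exact hdfun _ hm
  let θ : A →ₗ[A] p.ResidueField := Algebra.linearMap A p.ResidueField
  have hrange : ∀ m : P, algebraMap A p.ResidueField d * ψ m ∈ LinearMap.range θ := by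
    intro m
    have hm : m ∈ Submodule.span A (S : Set P) := by rw [hS]; trivial
    induction hm using Submodule.span_induction with
    | mem m hm =>
      have hsplit : d = (∏ m' ∈ S.erase m, dfun (ψ m')) * dfun (ψ m) := by
        rw [hddef, Finset.prod_erase_mul S _ hm]
      rw [hsplit, map_mul, mul_assoc, hafun, ← map_mul]
      exact ⟨_, rfl⟩
    | zero =>
      rw [map_zero, mul_zero]
      exact Submodule.zero_mem _
    | add a b _ _ ha hb =>
      rw [map_add, mul_add]
      exact Submodule.add_mem _ ha hb
    | smul r a _ ha =>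
      rw [map_smul, mul_smul_comm]
      exact Submodule.smul_mem _ r ha
  let ψd : P →ₗ[A] p.ResidueField :=
    (LinearMap.mulLeft A (algebraMap A p.ResidueField d)) ∘ₗ ψ
  have hψd : ∀ m, ψd m = algebraMap A p.ResidueField d * ψ m := fun m => rfl
  let ι₀ : A →ₗ[A] H := LinearMap.toSpanSingleton A H x
  have hkerθ : LinearMap.ker θ = p := by
    ext a
    rw [LinearMap.mem_ker]
    exact Ideal.algebraMap_residueField_eq_zero
  have hkerι : LinearMap.ker ι₀ = p := by
    ext a
    rw [LinearMap.mem_ker, LinearMap.toSpanSingleton_apply]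
    exact (hmem a).symm
  have hle : LinearMap.ker θ ≤ LinearMap.ker ι₀ := by rw [hkerθ, hkerι]
  have hle' : LinearMap.ker ι₀ ≤ LinearMap.ker θ := by rw [hkerθ, hkerι]
  let L : (A ⧸ LinearMap.ker θ) →ₗ[A] H := (LinearMap.ker θ).liftQ ι₀ hle
  have hLinj : Function.Injective L := by
    rw [← LinearMap.ker_eq_bot]
    exact Submodule.ker_liftQ_eq_bot _ _ _ hle'
  let ῑ : LinearMap.range θ →ₗ[A] H :=
    L ∘ₗ (θ.quotKerEquivRange.symm : LinearMap.range θ →ₗ[A] (A ⧸ LinearMap.ker θ))
  have hῑinj : Function.Injective ῑ := by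
    intro a b hab
    exact θ.quotKerEquivRange.symm.injective (hLinj hab)
  let g : P →ₗ[A] H := ῑ ∘ₗ (ψd.codRestrict (LinearMap.range θ) hrange)
  have hg : g = 0 := Subsingleton.elim _ _
  apply hψne
  ext m
  have h1 : ῑ ((ψd.codRestrict (LinearMap.range θ) hrange) m) = 0 := by
    have := LinearMap.congr_fun hg m
    exact this
  have h2 : (ψd.codRestrict (LinearMap.range θ) hrange) m = 0 :=
    hῑinj (by rw [h1, map_zero])
  have h3 : ψd m = 0 := by
    have := congrArg Subtype.val h2
    exact this
  rw [hψd] at h3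
  have hd0 : algebraMap A p.ResidueField d ≠ 0 := by
    rw [Ne, Ideal.algebraMap_residueField_eq_zero]
    exact hdp
  exact (mul_eq_zero.mp h3).resolve_left hd0

end Groth.Agent.S5163
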