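import Groth.Statements.S5164
import Groth.Agent.Lib.Helper8LocDualK

set_option autoImplicit false
universe u
open LocCoh

namespace Groth.Agent.S5164

open IsLocalRing

section Chain

variable {R A : Type u} [CommRing R] [IsRegularRing R] [CommRing A] [IsNoetherianRing A]
  [Algebra R A] (hπ : Function.Surjective (algebraMap R A))
  (M : Type u) [AddCommGroup M] [Module A M] [Module R M] [IsScalarTower R A M]
  [Module.Finite A M]

/-- Vanishing of the `j`-th local cohomology of the stalk at `p`. -/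
abbrev V (p : PrimeSpectrum A) (j : ℕ) : Prop :=
  Subsingleton (LocCoh.H (maximalIdeal (Localization.AtPrime p.asIdeal)) j
    (LocalizedModule p.asIdeal.primeCompl M))

omit [IsNoetherianRing A] in
theorem covBy_of_height {p : PrimeSpectrum A} (b q : Set.Ici p) (hbq : b < q) (n : ℕ)
    (hb : Order.height b = n) (hq : Order.height q = n + 1) : b.1 ⋖ q.1 := by
  refine ⟨hbq, fun x hbx hxq => ?_⟩
  let x' : Set.Ici p := ⟨x, le_trans b.2 hbx.le⟩
  have h1 : b < x' := hbx
  have h2 : x' < q := hxq
  have h3 := Order.height_add_one_le h1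
  have h4 := Order.height_add_one_le h2
  rw [hb] at h3
  rw [hq] at h4
  have h5 : ((n : ℕ∞) + 1) + 1 ≤ n + 1 := le_trans (add_le_add_left h3 1) h4
  have h6 : n + 1 + 1 ≤ n + 1 := by exact_mod_cast h5
  omega

include hπ in
theorem up_chain (p : PrimeSpectrum A) : ∀ (n : ℕ) (b : Set.Ici p), Order.height b = n →
    ∀ j, V M b.1 (j + n) → V M p j := by
  intro n
  induction n with
  | zero =>
    intro b hb j h
    have hmin : IsMin b := Order.height_eq_zero.mp (by simpa using hb)
    have hle : b.1 ≤ p := hmin (show (⟨p, Set.mem_Ici.mpr le_rfl⟩ : Set.Ici p) ≤ b from b.2)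
    have hbp : b.1 = p := le_antisymm hle b.2
    rw [hbp] at h
    exact h
  | succ n ih =>
    intro b hb j h
    obtain ⟨_, ⟨b', hb'lt, hb'⟩, _⟩ :=
      Order.height_eq_coe_add_one_iff.mp (by exact_mod_cast hb)
    have hcov := covBy_of_height b' b hb'lt n hb' (by exact_mod_cast hb)
    have h1 : V M b'.1 (j + n) :=
      Groth.Agent.Lib.Helper8.LocDualK.cov_step hπ M hcov (j + n) h
    exact ih b' hb' j h1

include hπ in
theorem main (I : Ideal A) (i : ℕ)
    (hR : ∀ p : PrimeSpectrum A, ¬ I ≤ p.asIdeal → SGA2.relCodim I p = 1 →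
      ∀ j : ℕ, j + 1 = i → V M p j)
    (p : PrimeSpectrum A) (hIp : ¬ I ≤ p.asIdeal) (c j : ℕ) (hc : SGA2.relCodim I p = c)
    (hj : j + c = i) : V M p j := by
  have hne : Nonempty {q : PrimeSpectrum A // p ≤ q ∧ I ≤ q.asIdeal} := by
    by_contra hemp
    rw [not_nonempty_iff] at hemp
    unfold SGA2.relCodim at hc
    rw [iInf_of_empty] at hc
    exact ENat.top_ne_natCast c hc
  obtain ⟨q, hq⟩ := ENat.exists_eq_iInf
    (fun q : {q : PrimeSpectrum A // p ≤ q ∧ I ≤ q.asIdeal} =>
      Order.height (⟨q.1, q.2.1⟩ : Set.Ici p))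
  have hq' : Order.height (⟨q.1, q.2.1⟩ : Set.Ici p) = c := hq.trans hc
  cases c with
  | zero =>
    exfalso
    have hmin : IsMin (⟨q.1, q.2.1⟩ : Set.Ici p) :=
      Order.height_eq_zero.mp (by simpa using hq')
    have hle : q.1 ≤ p := hmin (show (⟨p, Set.mem_Ici.mpr le_rfl⟩ : Set.Ici p) ≤ ⟨q.1, q.2.1⟩ from q.2.1)
    exact hIp (le_trans q.2.2 hle)
  | succ c' =>
    obtain ⟨_, ⟨b, hblt, hb⟩, _⟩ :=
      Order.height_eq_coe_add_one_iff.mp (by exact_mod_cast hq')
    have hcov : b.1 ⋖ q.1 :=
      covBy_of_height b ⟨q.1, q.2.1⟩ hblt c' hb (by exact_mod_cast hq')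
    have hIb : ¬ I ≤ b.1.asIdeal := by
      intro hIb
      have h1 : SGA2.relCodim I p ≤ Order.height b :=
        iInf_le (fun q : {q : PrimeSpectrum A // p ≤ q ∧ I ≤ q.asIdeal} =>
          Order.height (⟨q.1, q.2.1⟩ : Set.Ici p)) ⟨b.1, b.2, hIb⟩
      rw [hc, hb] at h1
      have h2 : c' + 1 ≤ c' := by exact_mod_cast h1
      omega
    have hcodim : SGA2.relCodim I b.1 = 1 := by
      apply le_antisymm
      · refine le_trans (iInf_le _ ⟨q.1, hcov.lt.le, q.2.2⟩) ?_
        rw [show (1 : ℕ∞) = ((1 : ℕ) : ℕ∞) from rfl, Order.height_le_coe_iff]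
        intro y hy
        have hyb : y.1 = b.1 := by
          by_contra hne
          exact hcov.2 (lt_of_le_of_ne y.2 (Ne.symm hne)) hy
        have hmin : IsMin y := by
          intro z _
          change y.1 ≤ z.1
          rw [hyb]
          exact z.2
        rw [Order.height_eq_zero.mpr hmin]
        exact_mod_cast Nat.zero_lt_one
      · unfold SGA2.relCodim
        refine le_iInf (fun q' => ?_)
        rw [Order.one_le_iff_ne_zero]
        intro h0
        have hmin := Order.height_eq_zero.mp h0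
        have hle : q'.1 ≤ b.1 :=
          hmin (show (⟨b.1, Set.mem_Ici.mpr le_rfl⟩ : Set.Ici b.1) ≤ ⟨q'.1, q'.2.1⟩ from q'.2.1)
        exact hIb (le_trans q'.2.2 hle)
    have h1 : V M b.1 (j + c') := hR b.1 hIb hcodim (j + c') (by omega)
    exact up_chain hπ M p c' b hb j h1

end Chain

/-- Affine form. Let A be a Noetherian ring which is a quotient of a regular ring, I an ideal, M a
finite A-module and i ≥ 0; c(p) denotes the codimension of V(p) ∩ V(I) in V(p). Then the hypothesis
of the finiteness criterion — H^{i−c(p)}_{pA_p}(M_p) = 0 for all primes p ⊉ I — is equivalent to its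
codimension-one case: H^{i−1}_{pA_p}(M_p) = 0 for all primes p ⊉ I with c(p) = 1. -/
theorem result (R : Type u) [CommRing R] [IsRegularRing R] (A : Type u) [CommRing A] [IsNoetherianRing A] (π : R →+* A) (hπ : Function.Surjective π) (I : Ideal A) (M : Type u) [AddCommGroup M] [Module A M] [Module.Finite A M] (i : ℕ) : (∀ p : PrimeSpectrum A, ¬ I ≤ p.asIdeal → ∀ (c j : ℕ), SGA2.relCodim I p = c → j + c = i → Subsingleton (LocCoh.H (IsLocalRing.maximalIdeal (Localization.AtPrime p.asIdeal)) j (LocalizedModule p.asIdeal.primeCompl M))) ↔ (∀ p : PrimeSpectrum A, ¬ I ≤ p.asIdeal → SGA2.relCodim I p = 1 → ∀ j : ℕ, j + 1 = i → Subsingleton (LocCoh.H (IsLocalRing.maximalIdeal (Localization.AtPrime p.asIdeal)) j (LocalizedModule p.asIdeal.primeCompl M))) := by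
  let _ : Algebra R A := π.toAlgebra
  let _ : Module R M := Module.compHom M π
  have hst : IsScalarTower R A M := IsScalarTower.of_algebraMap_smul (fun r m => rfl)
  constructor
  · intro h p hIp hc j hj
    exact h p hIp 1 j (by rw [hc]; rfl) hj
  · intro h p hIp c j hc hj
    exact main (R := R) hπ M I i h p hIp c j hc hj

end Groth.Agent.S5164
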