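import Groth.Statements.S5166
-- import your own Groth.Agent.* helpers here

set_option autoImplicit false
universe u
open LocCoh

namespace Groth.Agent.S5166

section aux

open IsLocalRing

/-- Noetherian local domain in which some nonzero `x` lies in every nonzero prime: dimension ≤ 1. -/
theorem height_le_one (D : Type u) [CommRing D] [IsDomain D] [IsLocalRing D] [IsNoetherianRing D]
    (x : D) (hx0 : x ≠ 0) (hx : ∀ Q : Ideal D, Q.IsPrime → Q ≠ ⊥ → x ∈ Q) :
    (maximalIdeal D).height ≤ 1 := by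
  classical
  by_contra hcon
  -- the maximal ideal is nonzero
  have hm0 : maximalIdeal D ≠ ⊥ := by
    intro h
    apply hcon
    rw [h, Ideal.height_bot]
    exact zero_le_one
  have hxm : x ∈ maximalIdeal D := hx _ inferInstance hm0
  have hxnu : ¬ IsUnit x := fun hu => (mem_maximalIdeal x).mp hxm hu
  -- finitely many minimal primes over (x)
  have hfin : (Ideal.span {x}).minimalPrimes.Finite :=
    Ideal.finite_minimalPrimes_of_isNoetherianRing D _
  -- prime avoidance
  have hnot : ¬ ((maximalIdeal D : Set D) ⊆ ⋃ q ∈ (hfin.toFinset : Set (Ideal D)), (q : Set D)) := by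
    intro hsub
    have hsub' : ((maximalIdeal D : Ideal D) : Set D) ⊆
        ⋃ q ∈ (hfin.toFinset : Set (Ideal D)), ((id q : Ideal D) : Set D) := hsub
    rw [Ideal.subset_union_prime (f := id) ⊥ ⊥ (fun q hq _ _ => by
      have := (hfin.mem_toFinset.mp hq)
      exact this.1.1)] at hsub'
    obtain ⟨q, hq, hle⟩ := hsub'
    have hqmin : q ∈ (Ideal.span {x}).minimalPrimes := hfin.mem_toFinset.mp hq
    have hqprime : q.IsPrime := hqmin.1.1
    have hqm : q = maximalIdeal D :=
      le_antisymm (le_maximalIdeal hqprime.ne_top) hle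
    apply hcon
    rw [← hqm]
    exact Ideal.height_le_one_of_isPrincipal_of_mem_minimalPrimes (Ideal.span {x}) q hqmin
  obtain ⟨y, hym, hy⟩ := Set.not_subset.mp hnot
  have hyq : ∀ q ∈ (Ideal.span {x}).minimalPrimes, y ∉ q := by
    intro q hq hyq
    apply hy
    refine Set.mem_biUnion (x := q) ?_ hyq
    exact hfin.mem_toFinset.mpr hq
  have hynu : ¬ IsUnit y := fun hu => (mem_maximalIdeal y).mp hym hu
  have hyne : Ideal.span {y} ≠ ⊤ := by
    rw [Ne, Ideal.span_singleton_eq_top]; exact hynu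
  obtain ⟨q', hq'⟩ := Ideal.nonempty_minimalPrimes hyne
  have hq'prime : q'.IsPrime := hq'.1.1
  have hyq' : y ∈ q' := hq'.1.2 (Ideal.subset_span rfl)
  have hq'h : q'.height ≤ 1 :=
    Ideal.height_le_one_of_isPrincipal_of_mem_minimalPrimes (Ideal.span {y}) q' hq'
  have hy0 : y ≠ 0 := by
    rintro rfl
    obtain ⟨q, hq⟩ := Ideal.nonempty_minimalPrimes
      (show Ideal.span {x} ≠ ⊤ by rw [Ne, Ideal.span_singleton_eq_top]; exact hxnu)
    exact hyq q hq (zero_mem _)
  have hq'0 : q' ≠ ⊥ := fun h => hy0 (by simpa [h] using hyq')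
  have hxq' : x ∈ q' := hx q' hq'prime hq'0
  obtain ⟨q, hq, hqq'⟩ := Ideal.exists_minimalPrimes_le
    (show Ideal.span {x} ≤ q' by rw [Ideal.span_singleton_le_iff_mem]; exact hxq')
  have hqprime : q.IsPrime := hq.1.1
  have hq0 : q ≠ ⊥ := fun h => hx0 (by simpa [h] using hq.1.2 (Ideal.subset_span rfl))
  have hqeq : q = q' := by
    by_contra hne
    have hlt : q < q' := lt_of_le_of_ne hqq' hne
    have h1 := Ideal.height_add_one_le_of_lt_of_isPrime hlt
    have h0 : (⊥ : Ideal D) < q := bot_lt_iff_ne_bot.mpr hq0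
    have h2 := Ideal.height_add_one_le_of_lt_of_isPrime h0
    rw [Ideal.height_bot, zero_add] at h2
    have : (1 : ℕ∞) + 1 ≤ 1 := le_trans (add_le_add_left h2 1) (le_trans h1 hq'h)
    exact absurd this (by decide)
  exact hyq q hq (hqeq ▸ hyq')

end aux

/-- In its local form at a point y ∈ Y (A = O_{X,y}). Let A be a Noetherian local ring and I ≠ A an
ideal contained in no minimal prime of A. Then some prime p ⊉ I has dim A/p = 1. -/
theorem result (A : Type u) [CommRing A] [IsLocalRing A] [IsNoetherianRing A] (I : Ideal A) (hI : I ≠ ⊤) (hdense : ∀ q ∈ minimalPrimes A, ¬ I ≤ q) : ∃ p : PrimeSpectrum A, ¬ I ≤ p.asIdeal ∧ ringKrullDim (A ⧸ p.asIdeal) = 1 := by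
  classical
  -- the set of primes not containing `I`
  let S : Set (Ideal A) := {p | p.IsPrime ∧ ¬ I ≤ p}
  have hSne : S.Nonempty := by
    obtain ⟨q, hq⟩ := Ideal.nonempty_minimalPrimes (show (⊥ : Ideal A) ≠ ⊤ from bot_ne_top)
    exact ⟨q, hq.1.1, hdense q hq⟩
  obtain ⟨p, ⟨hpprime, hpI⟩, hpmax⟩ : ∃ p : Ideal A, p ∈ S ∧ ∀ J ∈ S, ¬ p < J :=
    (set_has_maximal_iff_noetherian (R := A) (M := A)).mpr inferInstance S hSne
  haveI := hpprime
  haveI : IsLocalRing (A ⧸ p) :=
    IsLocalRing.of_surjective' (Ideal.Quotient.mk p) Ideal.Quotient.mk_surjective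
  refine ⟨⟨p, hpprime⟩, hpI, ?_⟩
  show ringKrullDim (A ⧸ p) = 1
  obtain ⟨a, haI, hap⟩ := Set.not_subset.mp (show ¬ ((I : Set A) ⊆ p) from hpI)
  have hx0 : Ideal.Quotient.mk p a ≠ 0 := by
    rw [Ne, Ideal.Quotient.eq_zero_iff_mem]; exact hap
  have hle : (IsLocalRing.maximalIdeal (A ⧸ p)).height ≤ 1 := by
    refine height_le_one (A ⧸ p) (Ideal.Quotient.mk p a) hx0 ?_
    intro Q hQ hQ0
    by_contra hxQ
    have hcomap_prime : (Q.comap (Ideal.Quotient.mk p)).IsPrime := Ideal.comap_isPrime _ _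
    have hnotI : ¬ I ≤ Q.comap (Ideal.Quotient.mk p) := fun h => hxQ (h haI)
    have hple : p ≤ Q.comap (Ideal.Quotient.mk p) := by
      intro z hz
      rw [Ideal.mem_comap, Ideal.Quotient.eq_zero_iff_mem.mpr hz]
      exact zero_mem _
    have hnlt := hpmax _ ⟨hcomap_prime, hnotI⟩
    have heq : Q.comap (Ideal.Quotient.mk p) = p := by
      by_contra hne
      exact hnlt (lt_of_le_of_ne hple (Ne.symm hne))
    apply hQ0
    rw [← Ideal.map_comap_of_surjective (Ideal.Quotient.mk p) Ideal.Quotient.mk_surjective Q, heq,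
      Ideal.map_quotient_self]
  have hge : 1 ≤ (IsLocalRing.maximalIdeal (A ⧸ p)).height := by
    have hnf : ¬ IsField (A ⧸ p) := by
      intro hf
      have hmax : Ideal.IsMaximal p := Ideal.Quotient.maximal_of_isField p hf
      have : p = IsLocalRing.maximalIdeal A := IsLocalRing.eq_maximalIdeal hmax
      exact hpI (this ▸ IsLocalRing.le_maximalIdeal hI)
    have hlt : (⊥ : Ideal (A ⧸ p)) < IsLocalRing.maximalIdeal (A ⧸ p) :=
      Ideal.bot_lt_of_maximal _ hnf
    haveI : (⊥ : Ideal (A ⧸ p)).IsPrime := Ideal.isPrime_bot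
    have h := Ideal.height_add_one_le_of_lt_of_isPrime hlt
    rwa [Ideal.height_bot, zero_add] at h
  rw [← IsLocalRing.maximalIdeal_height_eq_ringKrullDim, le_antisymm hle hge]
  rfl

end Groth.Agent.S5166
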