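import Groth.Statements.S5167
import Groth.Agent.Lib.Helper8FinLen
import Groth.Agent.Lib.Helper8LCDepth

set_option autoImplicit false
universe u
open LocCoh

namespace Groth.Agent.S5167

open IsLocalRing CategoryTheory Groth.Agent.Lib.Helper8.LC

theorem depth_char {B : Type u} [CommRing B] [IsLocalRing B] [IsNoetherianRing B] (N : Type u)
    [AddCommGroup N] [Module B N] [Module.Finite B N] (k : ℕ) :
    (∀ j < k, Subsingleton (LocCoh.H (maximalIdeal B) j N)) ↔
      (k : ℕ∞) ≤ LocCoh.depth B N := by
  by_cases hIN : maximalIdeal B • (⊤ : Submodule B N) = ⊤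
  · have hd : LocCoh.depth B N = ⊤ := by
      unfold LocCoh.depth LocCoh.idealDepth
      rw [if_pos hIN]
    rw [hd]
    simp only [le_top, iff_true]
    intro j _
    have htop : (⊤ : Submodule B N) = ⊥ :=
      Submodule.eq_bot_of_le_smul_of_le_jacobson_bot (maximalIdeal B) ⊤ Module.Finite.fg_top
        (le_of_eq hIN.symm) (IsLocalRing.maximalIdeal_le_jacobson ⊥)
    have hN : ∀ x : N, x = 0 := fun x => (Submodule.mem_bot B).mp (htop ▸ Submodule.mem_top)
    have h0 : 𝟙 (ModuleCat.of B N) = 0 := by
      apply ModuleCat.hom_ext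
      apply LinearMap.ext
      intro x
      exact hN _
    refine ⟨fun a b => ?_⟩
    have hz : ∀ y : (localCohomology (maximalIdeal B) j).obj (ModuleCat.of B N), y = 0 := by
      intro y
      have h1 : (localCohomology (maximalIdeal B) j).map (𝟙 (ModuleCat.of B N)) y = y := by
        rw [CategoryTheory.Functor.map_id]
        rfl
      rw [← h1, h0]
      exact H_map_zero (maximalIdeal B) j y
    exact (hz a).trans (hz b).symm
  · constructor
    · intro h
      by_contra hlt
      rw [not_le] at hlt
      have hne : LocCoh.depth B N ≠ ⊤ := ne_top_of_lt hlt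
      obtain ⟨δ, hδ⟩ := ENat.ne_top_iff_exists.mp hne
      have hδk : δ < k := by
        rw [← hδ] at hlt
        exact_mod_cast hlt
      obtain ⟨y, hy⟩ := H_ne_zero_of_depth_eq (maximalIdeal B) δ N hIN hδ.symm
      have := h δ hδk
      exact hy (Subsingleton.elim _ _)
    · intro h j hj
      refine ⟨fun a b => ?_⟩
      have hz := H_eq_zero_of_lt_depth (maximalIdeal B) k N hIN h j hj
      exact (hz a).trans (hz b).symm

/-- Let A be a Noetherian local ring which is a quotient of a regular local ring, m its maximal ideal, M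
a finite A-module and n ≥ 0. Then H^i_m(M) is of finite length for all i ≤ n if and only if
depth(M_p) > n − dim(A/p) for every prime p ≠ m. -/
theorem result (R : Type u) [CommRing R] [IsRegularLocalRing R] (A : Type u) [CommRing A] [IsLocalRing A] [IsNoetherianRing A] (π : R →+* A) (hπ : Function.Surjective π) (M : Type u) [AddCommGroup M] [Module A M] [Module.Finite A M] (n : ℕ) : (∀ i : ℕ, i ≤ n → IsFiniteLength A (LocCoh.H (IsLocalRing.maximalIdeal A) i M)) ↔ ∀ p : PrimeSpectrum A, p.asIdeal ≠ IsLocalRing.maximalIdeal A → ∀ e : ℕ, ringKrullDim (A ⧸ p.asIdeal) = e → (n : ℕ∞) < LocCoh.depth (Localization.AtPrime p.asIdeal) (LocalizedModule p.asIdeal.primeCompl M) + e := by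
  let _ : Algebra R A := π.toAlgebra
  let _ : Module R M := Module.compHom M π
  have hst : IsScalarTower R A M := IsScalarTower.of_algebraMap_smul (fun r m => rfl)
  obtain ⟨r, hr⟩ := Groth.Agent.Lib.Helper5.exists_nat_ringKrullDim_eq R
  have hfl := fun i => Groth.Agent.Lib.Helper8.FinLen.finiteLength_iff (R := R) hπ M r hr i
  constructor
  · intro h p hp e he
    have h1 : ∀ j < n + 1 - e, Subsingleton (LocCoh.H (IsLocalRing.maximalIdeal
        (Localization.AtPrime p.asIdeal)) j (LocalizedModule p.asIdeal.primeCompl M)) := by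
      intro j hj
      exact (hfl (j + e)).mp (h (j + e) (by omega)) p hp e j he rfl
    have h2 := (depth_char (LocalizedModule p.asIdeal.primeCompl M) (n + 1 - e)).mp h1
    generalize LocCoh.depth (Localization.AtPrime p.asIdeal)
      (LocalizedModule p.asIdeal.primeCompl M) = D at h2 ⊢
    cases D with
    | top => rw [top_add]; exact ENat.natCast_lt_top n
    | coe δ =>
      have h3 : n + 1 - e ≤ δ := by exact_mod_cast h2
      have h4 : n < δ + e := by omega
      exact_mod_cast h4
  · intro h i hi
    rw [hfl i]
    intro p hp e j he hj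
    have h1 := h p hp e he
    have h2 : ((j + 1 : ℕ) : ℕ∞) ≤ LocCoh.depth (Localization.AtPrime p.asIdeal)
        (LocalizedModule p.asIdeal.primeCompl M) := by
      generalize LocCoh.depth (Localization.AtPrime p.asIdeal)
        (LocalizedModule p.asIdeal.primeCompl M) = D at h1 ⊢
      cases D with
      | top => exact le_top
      | coe δ =>
        have h3 : n < δ + e := by exact_mod_cast h1
        have h4 : j + 1 ≤ δ := by omega
        exact_mod_cast h4
    exact (depth_char (LocalizedModule p.asIdeal.primeCompl M) (j + 1)).mpr h2 j (Nat.lt_succ_self j)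

end Groth.Agent.S5167
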