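import Groth.Statements.S5169
import Groth.Agent.Lib.Helper8KoszLim

set_option autoImplicit false
universe u
open LocCoh

namespace Groth.Agent.S5169

/-- Which holds over a Noetherian ring by Lemmes 8 and 11. Let A be a Noetherian ring, f = (f_1, …, f_r)
elements of A and M an injective A-module. Then colim_n H^i(f^n, M) = 0 for every i > 0, where
H^i(f^n, M) is Koszul cohomology and the colimit is taken along the maps induced between the Koszul
complexes of the powers. -/
theorem result (A : Type u) [CommRing A] [IsNoetherianRing A] (fs : List A) (M : Type u) [AddCommGroup M] [Module A M] (hM : Module.Injective A M) (i : ℕ) (hi : 0 < i) : Subsingleton (CohIII.koszulHLim fs (ModuleCat.of A M) i) := by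
  unfold CohIII.koszulHLim
  have key : ∀ z : Module.DirectLimit (fun n : ℕ => (CohIII.koszulHPow fs (ModuleCat.of A M) i n : Type u))
      (fun n m h => (HomologicalComplex.homologyMap
        (CohIII.koszulTrans (ModuleCat.of A M) n m h fs) ((i : ℤ) - fs.length)).hom), z = 0 := by
    intro z
    obtain ⟨n, c, rfl⟩ := Module.DirectLimit.exists_of z
    obtain ⟨m, h, hc⟩ := Groth.Agent.Lib.Helper8KoszLim.evZero M hM fs ((i : ℤ) - fs.length)
      (by omega) n c
    rw [← Module.DirectLimit.of_f (hij := h)]
    have hc' : (HomologicalComplex.homologyMap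
        (CohIII.koszulTrans (ModuleCat.of A M) n m h fs) ((i : ℤ) - fs.length)).hom c = 0 := hc
    rw [hc', map_zero]
  exact ⟨fun a b => (key a).trans (key b).symm⟩

end Groth.Agent.S5169
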