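import Groth.Statements.S5171
import Groth.Agent.S1806
import Groth.Agent.Lib.Helper28DepthLoc
import Groth.Agent.Lib.Helper8GV
import Groth.Agent.Lib.Helper8LCDepth

set_option autoImplicit false
universe u
open LocCoh

namespace Groth.Agent.S5171

open Groth.Agent.Lib.Helper8 Groth.Agent.Lib.Helper28

/-- Let A be a Noetherian ring, J an ideal, n ≥ 0 and G a finite Cohen–Macaulay A-module (each
localization G_p is zero or Cohen–Macaulay). Then H^i_J(G) = 0 for i < n if and only if codim(V(J) ∩
Supp G, Supp G) ≥ n, i.e. dim Supp(G_p) ≥ n for every p ∈ V(J) ∩ Supp G. -/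
theorem result (A : Type u) [CommRing A] [IsNoetherianRing A] (J : Ideal A) (G : Type u) [AddCommGroup G] [Module A G] [Module.Finite A G] (hCM : ∀ p : PrimeSpectrum A, Subsingleton (LocalizedModule p.asIdeal.primeCompl G) ∨ LocCoh.IsCohenMacaulayModule (Localization.AtPrime p.asIdeal) (LocalizedModule p.asIdeal.primeCompl G)) (n : ℕ) : (∀ i : ℕ, i < n → Subsingleton (LocCoh.H J i G)) ↔ ∀ p : PrimeSpectrum A, J ≤ p.asIdeal → p ∈ Module.support A G → (n : WithBot ℕ∞) ≤ Module.supportDim (Localization.AtPrime p.asIdeal) (LocalizedModule p.asIdeal.primeCompl G) := by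
  constructor
  · intro h p hJp hp
    have hpp : p.asIdeal.IsPrime := p.2
    have hnt : Nontrivial (LocalizedModule p.asIdeal.primeCompl G) := Module.mem_support_iff.mp hp
    have hcm : LocCoh.IsCohenMacaulayModule (Localization.AtPrime p.asIdeal)
        (LocalizedModule p.asIdeal.primeCompl G) := by
      rcases hCM p with hs | hcm
      · exact absurd hs (not_subsingleton _)
      · exact hcm
    unfold LocCoh.IsCohenMacaulayModule at hcm
    rw [hcm]
    have hJm : J.map (algebraMap A (Localization.AtPrime p.asIdeal)) ≤
        IsLocalRing.maximalIdeal (Localization.AtPrime p.asIdeal) := by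
      rw [← Localization.AtPrime.map_eq_maximalIdeal]
      exact Ideal.map_mono hJp
    have hJG : J.map (algebraMap A (Localization.AtPrime p.asIdeal)) •
        (⊤ : Submodule (Localization.AtPrime p.asIdeal) (LocalizedModule p.asIdeal.primeCompl G)) ≠ ⊤ :=
      smul_top_ne_top_of_le_maximalIdeal hJm
    have hfin := idealDepth_ne_top hJG
    obtain ⟨t, ht⟩ := ENat.ne_top_iff_exists.mp hfin
    have hmono : LocCoh.idealDepth (J.map (algebraMap A (Localization.AtPrime p.asIdeal)))
        (LocalizedModule p.asIdeal.primeCompl G) ≤
        LocCoh.depth (Localization.AtPrime p.asIdeal) (LocalizedModule p.asIdeal.primeCompl G) :=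
      idealDepth_mono_ideal _ hJm
    have hnt' : n ≤ t := by
      by_contra hcon
      push Not at hcon
      obtain ⟨y, hy⟩ := LC.H_ne_zero_of_depth_eq
        (I := J.map (algebraMap A (Localization.AtPrime p.asIdeal))) t
        (LocalizedModule p.asIdeal.primeCompl G) hJG ht.symm
      obtain ⟨e⟩ := Groth.Agent.S11618.result A J p.asIdeal.primeCompl G t
      have hs := h t hcon
      have hs2 : Subsingleton (LocalizedModule p.asIdeal.primeCompl (LocCoh.H J t G)) :=
        inferInstance
      have hs3 : Subsingleton (LocCoh.H (Ideal.map (algebraMap A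
          (Localization p.asIdeal.primeCompl)) J) t (LocalizedModule p.asIdeal.primeCompl G)) :=
        e.symm.toEquiv.subsingleton
      exact hy (Subsingleton.elim _ _)
    have h1 : (n : ℕ∞) ≤ LocCoh.depth (Localization.AtPrime p.asIdeal)
        (LocalizedModule p.asIdeal.primeCompl G) := by
      refine le_trans ?_ hmono
      rw [← ht]
      exact_mod_cast hnt'
    exact_mod_cast h1
  · intro h i hi
    apply Acyc.subsingleton_of_forall_eq_zero
    intro x
    have hkey := Groth.Agent.S1806.key (1 : A) G i J ?_ x
    · obtain ⟨k, hk⟩ := hkey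
      rwa [one_pow, one_smul] at hk
    · intro p hJp _
      have hpp : p.asIdeal.IsPrime := p.2
      apply Acyc.subsingleton_of_forall_eq_zero
      intro y
      rcases subsingleton_or_nontrivial (LocalizedModule p.asIdeal.primeCompl G) with hs | hnt
      · exact GV.H_eq_zero_of_subsingleton _ i _ y
      · have hp : p ∈ Module.support A G := Module.mem_support_iff.mpr hnt
        have hcm : LocCoh.IsCohenMacaulayModule (Localization.AtPrime p.asIdeal)
            (LocalizedModule p.asIdeal.primeCompl G) := by
          rcases hCM p with hs | hcm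
          · exact absurd hs (not_subsingleton _)
          · exact hcm
        unfold LocCoh.IsCohenMacaulayModule at hcm
        have h1 := h p hJp hp
        rw [hcm] at h1
        have h2 : (n : ℕ∞) ≤ LocCoh.depth (Localization.AtPrime p.asIdeal)
            (LocalizedModule p.asIdeal.primeCompl G) := by exact_mod_cast h1
        exact LC.H_eq_zero_of_lt_depth
          (I := IsLocalRing.maximalIdeal (Localization.AtPrime p.asIdeal)) n
          (LocalizedModule p.asIdeal.primeCompl G) maximalIdeal_smul_top_ne_top h2 i hi y

end Groth.Agent.S5171
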