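import Groth.Statements.S5178
import Groth.Agent.Lib.Helper7CIAvr2
import Groth.Agent.Lib.Helper19ComplDim

set_option autoImplicit false
universe u
open CInt

namespace Groth.Agent.S5178

/-- Let A be a Noetherian local ring of dimension d, and let the completion of A be presented as B/I
with B a regular local ring of dimension e and I an ideal whose minimal number of generators is q,
so that e − q is the geometric depth of A (this number does not depend on the presentation). Then e
− q ≤ d, and equality holds if and only if A is a complete intersection, i.e. its completion is a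
regular local ring modulo an ideal generated by a regular sequence. -/
theorem result (A : Type u) [CommRing A] [IsLocalRing A] [IsNoetherianRing A] (B : Type u) [CommRing B] [IsRegularLocalRing B] (I : Ideal B) (hpres : Nonempty (AdicCompletion (IsLocalRing.maximalIdeal A) A ≃+* B ⧸ I)) (d e : ℕ) (hd : ringKrullDim A = (d : WithBot ℕ∞)) (he : ringKrullDim B = (e : WithBot ℕ∞)) : (e : ℤ) - (I.spanFinrank : ℤ) ≤ (d : ℤ) ∧ ((e : ℤ) - (I.spanFinrank : ℤ) = (d : ℤ) ↔ Pi1.IsCompleteIntersection A) := by
  classical
  obtain ⟨ε⟩ := hpres
  haveI : IsNoetherianRing (AdicCompletion (IsLocalRing.maximalIdeal A) A) :=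
    Groth.Agent.Lib.Helper19.isNoetherianRing_adicCompletion _
  -- `I` is proper
  have hI : I ≠ ⊤ := by
    intro h
    haveI : Subsingleton (B ⧸ I) := Ideal.Quotient.subsingleton_iff.2 h
    haveI : Subsingleton (AdicCompletion (IsLocalRing.maximalIdeal A) A) := ε.injective.subsingleton
    exact not_subsingleton (AdicCompletion (IsLocalRing.maximalIdeal A) A) inferInstance
  haveI : IsLocalRing (B ⧸ I) := Groth.Agent.Lib.Helper5.isLocalRing_quotient hI
  -- dimension of the quotient
  have hdim : ringKrullDim (B ⧸ I) = (d : WithBot ℕ∞) := by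
    rw [← ringKrullDim_eq_of_ringEquiv ε,
      Groth.Agent.Lib.Helper19.ringKrullDim_adicCompletion_maximalIdeal, hd]
  -- the inequality
  have h1 := ringKrullDim_le_ringKrullDim_quotient_add_spanFinrank I (by
    rw [IsLocalRing.ringJacobson_eq_maximalIdeal]
    exact IsLocalRing.le_maximalIdeal hI)
  rw [hdim, he] at h1
  have h1' : e ≤ d + I.spanFinrank := by exact_mod_cast h1
  -- complete intersection in terms of `Good`
  have hci : Pi1.IsCompleteIntersection A ↔ Groth.Agent.Lib.Helper7.CIPres.Good B I := by
    rw [Groth.Agent.Lib.Helper7.CIAvr.ci_iff_of_flat_unramified A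
      (AdicCompletion (IsLocalRing.maximalIdeal A) A)
      AdicCompletion.maximalIdeal_eq_map.symm (AdicCompletion.residueField_map_bijective A),
      ← Groth.Agent.Lib.Helper7.CIAvr.ci_quotient_iff_good I hI]
    exact ⟨Groth.Agent.Lib.Helper7.CILocus.isCompleteIntersection_of_ringEquiv ε,
      Groth.Agent.Lib.Helper7.CILocus.isCompleteIntersection_of_ringEquiv ε.symm⟩
  refine ⟨by omega, ?_⟩
  rw [hci]
  constructor
  · intro heq
    have hfg : I.FG := IsNoetherian.noetherian I
    have hfin := Submodule.FG.finite_generators hfg
    obtain ⟨n, v, hvinj, hvr⟩ := hfin.fin_param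
    have hn : n = I.spanFinrank := by
      rw [← Submodule.FG.generators_ncard hfg, ← hvr, Set.ncard_range_of_injective hvinj,
        Nat.card_eq_fintype_card, Fintype.card_fin]
    refine ⟨n, v, ?_, ?_⟩
    · rw [hvr]; exact Submodule.span_generators I
    · rw [hdim, he]
      have : n + d ≤ e := by omega
      exact_mod_cast this
  · rintro ⟨n, v, hv, hle⟩
    rw [hdim, he] at hle
    have hle' : n + d ≤ e := by exact_mod_cast hle
    have hq : I.spanFinrank ≤ n := by
      rw [← hv]
      refine le_trans (Submodule.spanFinrank_span_le_ncard_of_finite (Set.finite_range v)) ?_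
      rw [← Set.image_univ]
      calc (v '' Set.univ).ncard ≤ (Set.univ : Set (Fin n)).ncard := Set.ncard_image_le
        _ = n := by simp
    omega


end Groth.Agent.S5178
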