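import Groth.Statements.S5182
import Mathlib
-- import your own Groth.Agent.* helpers here

set_option autoImplicit false
universe u
open CInt

namespace Groth.Agent.S5182

open RingTheory.Sequence Function
open scoped Pointwise

section
variable {R : Type*} [CommRing R]

lemma isWeaklyRegular_of_subsingleton (M : Type*) [AddCommGroup M] [Module R M] [Subsingleton M]
    (rs : List R) : IsWeaklyRegular M rs := by
  rw [isWeaklyRegular_iff_Fin]
  intro i
  exact fun a b _ => Subsingleton.elim _ _

lemma isWeaklyRegular_of_ses {M' M M'' : Type*} [AddCommGroup M'] [Module R M']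
    [AddCommGroup M] [Module R M] [AddCommGroup M''] [Module R M'']
    (i : M' →ₗ[R] M) (p : M →ₗ[R] M'') (hi : Injective i)
    (hp : Surjective p) (hex : Exact i p) (rs : List R) (h' : IsWeaklyRegular M' rs)
    (h'' : IsWeaklyRegular M'' rs) : IsWeaklyRegular M rs := by
  induction rs generalizing M' M M'' with
  | nil => exact IsWeaklyRegular.nil R M
  | cons r rs ih =>
    rw [isWeaklyRegular_cons_iff] at h' h'' ⊢
    refine ⟨isSMulRegular_of_range_eq_ker hi hex.linearMap_ker_eq.symm h'.1 h''.1,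
      ih (QuotSMulTop.map r i) (QuotSMulTop.map r p) ?_ (QuotSMulTop.map_surjective r hp)
        (QuotSMulTop.map_exact r hex hp) h'.2 h''.2⟩
    rw [injective_iff_map_eq_zero]
    intro z hz
    obtain ⟨y, rfl⟩ := Submodule.mkQ_surjective _ z
    have h1 : i y ∈ (r • ⊤ : Submodule R M) := by
      have : QuotSMulTop.map r i (Submodule.mkQ _ y) = Submodule.mkQ _ (i y) := rfl
      rw [this] at hz
      simpa using hz
    obtain ⟨m, -, hm⟩ := (Submodule.mem_smul_pointwise_iff_exists _ _ _).mp h1
    have h2 : p m = 0 := by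
      apply h''.1.right_eq_zero_of_smul
      rw [← map_smul, hm, hex.apply_apply_eq_zero]
    obtain ⟨y', rfl⟩ := (hex m).mp h2
    have h3 : y = r • y' := by
      apply hi
      rw [map_smul, hm]
    rw [h3]
    simp only [Submodule.mkQ_apply, Submodule.Quotient.mk_eq_zero]
    exact Submodule.smul_mem_pointwise_smul _ _ _ Submodule.mem_top

end

lemma isWeaklyRegular_of_forall_quotient {A : Type*} [CommRing A] [IsNoetherianRing A]
    [IsLocalRing A] (J : Ideal A) (hJ : J ≠ ⊤)
    (N : Type*) [AddCommGroup N] [Module A N] [Module.Finite A N] (F : ℕ → Submodule A N)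
    (hF : ∀ n, F n ≤ J ^ n • ⊤) (fs : List A) (h : ∀ n, IsWeaklyRegular (N ⧸ F n) fs) :
    IsWeaklyRegular N fs := by
  rw [isWeaklyRegular_iff_Fin]
  intro i
  rw [isSMulRegular_quotient_iff_mem_of_smul_mem]
  intro x hx
  set P := (Ideal.ofList (fs.take i) • ⊤ : Submodule A N) with hP
  have key : ∀ n, x ∈ P ⊔ J ^ n • ⊤ := by
    intro n
    have hn := (isWeaklyRegular_iff_Fin _ _).mp (h n) i
    rw [isSMulRegular_quotient_iff_mem_of_smul_mem] at hn
    have hmap : (Ideal.ofList (fs.take i) • ⊤ : Submodule A (N ⧸ F n)) =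
        Submodule.map (F n).mkQ P := by
      rw [hP, Submodule.map_smul'', Submodule.map_top,
        LinearMap.range_eq_top.mpr (Submodule.mkQ_surjective _)]
    have h1 : (F n).mkQ x ∈ (Ideal.ofList (fs.take i) • ⊤ : Submodule A (N ⧸ F n)) := by
      apply hn
      rw [← map_smul, hmap]
      exact Submodule.mem_map_of_mem hx
    rw [hmap] at h1
    obtain ⟨y, hy, hyx⟩ := h1
    have h2 : x - y ∈ F n := by
      rw [← Submodule.Quotient.eq]
      exact hyx.symm
    have : x = y + (x - y) := by abel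
    rw [this]
    exact Submodule.add_mem_sup hy (hF n h2)
  have hk := Ideal.iInf_pow_smul_eq_bot_of_isLocalRing (M := N ⧸ P) J hJ
  have hmem : P.mkQ x ∈ (⨅ n : ℕ, J ^ n • ⊤ : Submodule A (N ⧸ P)) := by
    rw [Submodule.mem_iInf]
    intro n
    have hmap : (J ^ n • ⊤ : Submodule A (N ⧸ P)) = Submodule.map P.mkQ (J ^ n • ⊤) := by
      rw [Submodule.map_smul'', Submodule.map_top,
        LinearMap.range_eq_top.mpr (Submodule.mkQ_surjective _)]
    rw [hmap]
    obtain ⟨y, hy, z, hz, hyz⟩ := Submodule.mem_sup.mp (key n)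
    refine ⟨z, hz, ?_⟩
    rw [← hyz, map_add]
    simp only [Submodule.mkQ_apply]
    rw [(Submodule.Quotient.mk_eq_zero P).mpr hy, zero_add]
  rw [hk] at hmem
  simpa using hmem

lemma smul_top_pow_eq_comap {A : Type*} [CommRing A] (J : Ideal A) (m : ℕ) :
    (J • ⊤ : Submodule A ↥(J ^ m)) = Submodule.comap (J ^ m).subtype (J ^ (m + 1)) := by
  ext x
  rw [Submodule.mem_smul_top_iff]
  simp [pow_succ']

/-- In the local algebraic form to which its proof reduces. Let A be a Noetherian local ring, J a proper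
ideal such that A is normally flat along J, i.e. every J^k/J^{k+1} is a flat (equivalently free)
A/J-module, and f_1, …, f_r elements of A whose images form a weakly regular sequence on A/J (each
f_i a non-zero-divisor on A/J modulo the preceding ones). Then for every k ≥ 0 the f_i form a weakly
regular sequence on the A-module J^k and on the A-module J^k/J^{k+1}; in particular (k = 0) on A
itself, so that they are regular on the Rees algebra ⊕ J^k and on the associated graded ring ⊕
J^k/J^{k+1}. -/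
theorem result (A : Type u) [CommRing A] [IsLocalRing A] [IsNoetherianRing A] (J : Ideal A) (hJ : J ≠ ⊤) (hflat : ∀ k : ℕ, Module.Flat (A ⧸ J) (↥(J ^ k) ⧸ (J • (⊤ : Submodule A ↥(J ^ k))))) (fs : List A) (hreg : RingTheory.Sequence.IsWeaklyRegular (A ⧸ J) fs) (k : ℕ) : RingTheory.Sequence.IsWeaklyRegular (↥(J ^ k)) fs ∧ RingTheory.Sequence.IsWeaklyRegular (↥(J ^ k) ⧸ (J • (⊤ : Submodule A ↥(J ^ k)))) fs := by
  -- part (b) for all k
  have hb : ∀ m : ℕ, IsWeaklyRegular (↥(J ^ m) ⧸ (J • (⊤ : Submodule A ↥(J ^ m)))) fs := by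
    intro m
    have _ := hflat m
    have h1 : IsWeaklyRegular (A ⧸ J) (fs.map (algebraMap A (A ⧸ J))) :=
      (isWeaklyRegular_map_algebraMap_iff (A ⧸ J) (A ⧸ J) fs).mpr hreg
    have h2 := h1.isWeaklyRegular_lTensor
      (M₂ := (↥(J ^ m) ⧸ (J • (⊤ : Submodule A ↥(J ^ m)))))
    have h3 := ((TensorProduct.rid (A ⧸ J)
      (↥(J ^ m) ⧸ (J • (⊤ : Submodule A ↥(J ^ m))))).isWeaklyRegular_congr _).mp h2
    exact (isWeaklyRegular_map_algebraMap_iff (A ⧸ J) _ fs).mp h3
  refine ⟨?_, hb k⟩
  let F : ℕ → Submodule A ↥(J ^ k) := fun n => Submodule.comap (J ^ k).subtype (J ^ (k + n))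
  have hF : ∀ n, F n ≤ J ^ n • ⊤ := by
    intro n x hx
    rw [Submodule.mem_smul_top_iff]
    have hx' : (x : A) ∈ J ^ (k + n) := hx
    rw [smul_eq_mul, ← pow_add, add_comm]
    exact hx'
  apply isWeaklyRegular_of_forall_quotient J hJ _ F hF
  intro n
  induction n with
  | zero =>
    have hF0 : F 0 = ⊤ := by
      ext x
      simp [F]
    have : Subsingleton (↥(J ^ k) ⧸ F 0) := by
      rw [hF0]
      infer_instance
    exact isWeaklyRegular_of_subsingleton _ _
  | succ n ih =>
    have hle : F (n + 1) ≤ F n := fun x hx =>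
      Ideal.pow_le_pow_right (show k + n ≤ k + (n + 1) by omega) hx
    have hle' : J ^ (k + n) ≤ J ^ k := Ideal.pow_le_pow_right (show k ≤ k + n by omega)
    let p : (↥(J ^ k) ⧸ F (n + 1)) →ₗ[A] (↥(J ^ k) ⧸ F n) := Submodule.factor hle
    let i0 : ↥(J ^ (k + n)) →ₗ[A] (↥(J ^ k) ⧸ F (n + 1)) :=
      (F (n + 1)).mkQ ∘ₗ Submodule.inclusion hle'
    have hker : LinearMap.ker i0 = J • ⊤ := by
      rw [smul_top_pow_eq_comap]
      ext x
      simp only [LinearMap.mem_ker, i0, LinearMap.comp_apply, Submodule.mkQ_apply,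
        Submodule.Quotient.mk_eq_zero, Submodule.mem_comap, F]
      rfl
    let i : (↥(J ^ (k + n)) ⧸ (J • ⊤ : Submodule A ↥(J ^ (k + n)))) →ₗ[A]
        (↥(J ^ k) ⧸ F (n + 1)) := Submodule.liftQ _ i0 hker.ge
    refine isWeaklyRegular_of_ses i p ?_ (Submodule.factor_surjective hle) ?_ fs (hb (k + n)) ih
    · rw [← LinearMap.ker_eq_bot]
      exact Submodule.ker_liftQ_eq_bot _ _ _ hker.le
    · intro y
      constructor
      · intro hy
        obtain ⟨x, rfl⟩ := Submodule.mkQ_surjective _ y
        have hx : x ∈ F n := by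
          have : p ((F (n + 1)).mkQ x) = (F n).mkQ x := Submodule.factor_mk hle x
          rw [this] at hy
          simpa using hy
        exact ⟨Submodule.mkQ _ ⟨x.1, hx⟩, rfl⟩
      · rintro ⟨z, rfl⟩
        obtain ⟨x, rfl⟩ := Submodule.mkQ_surjective _ z
        have : p (i (Submodule.mkQ _ x)) = (F n).mkQ (Submodule.inclusion hle' x) :=
          Submodule.factor_mk hle _
        rw [this]
        simp only [Submodule.mkQ_apply, Submodule.Quotient.mk_eq_zero]
        exact x.2

end Groth.Agent.S5182
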