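import Groth.Statements.S5210
import Groth.Agent.Lib.Helper7EffEpi

set_option autoImplicit false
open CategoryTheory CategoryTheory.Limits
universe w v₁ u₁
open DescCat

namespace Groth.Agent.S5210

/-- In a category with pullbacks, let `f : S' ⟶ S` be a universal effective epimorphism (all of its base
changes are effective epimorphisms) and `Y ⟶ S` a monomorphism. Then an object `X` over `S` admits a
morphism to `Y` over `S` if and only if it does so after base change along `f`. -/
theorem result {C : Type u₁} [Category.{v₁} C] [HasPullbacks C]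
    {S' S : C} (f : S' ⟶ S) (hf : (MorphismProperty.universally (fun (A B : C) (p : A ⟶ B) => EffectiveEpi p)) f) (X Y : Over S) [Mono Y.hom] :
    Nonempty (X ⟶ Y) ↔ Nonempty ((Over.pullback f).obj X ⟶ (Over.pullback f).obj Y) := by
  constructor
  · rintro ⟨k⟩
    exact ⟨(Over.pullback f).map k⟩
  · rintro ⟨k⟩
    have hh : Groth.Agent.Lib.Helper7.UEE C (pullback.fst X.hom f) :=
      Groth.Agent.Lib.Helper7.UEE.of_isPullback hf (IsPullback.of_hasPullback X.hom f)
    have := hh.effectiveEpi
    have hk : k.left ≫ pullback.snd Y.hom f = pullback.snd X.hom f := Over.w k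
    obtain ⟨d, -, hd⟩ := Groth.Agent.Lib.Helper7.exists_desc_of_mono (pullback.fst X.hom f) X.hom
      Y.hom (k.left ≫ pullback.fst Y.hom f) (by
        rw [Category.assoc, pullback.condition, ← Category.assoc, hk, pullback.condition])
    exact ⟨Over.homMk d hd⟩


end Groth.Agent.S5210
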