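import Groth.Statements.S5211
import Groth.Agent.Lib.Helper7EffEpi

set_option autoImplicit false
open CategoryTheory CategoryTheory.Limits
universe w v₁ u₁
open DescCat

namespace Groth.Agent.S5211

/-- In a category with pullbacks: if `f : S' ⟶ S` is a universal effective epimorphism and the canonical
map `S' ×_S S' ⟶ S' ×_T S'` induced by `g : S ⟶ T` is an isomorphism, then `g` is a monomorphism. -/
theorem result {C : Type u₁} [Category.{v₁} C] [HasPullbacks C]
    {S' S T : C} (f : S' ⟶ S) (hf : (MorphismProperty.universally (fun (A B : C) (p : A ⟶ B) => EffectiveEpi p)) f) (g : S ⟶ T)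
    [IsIso (pullback.mapDesc f f g)] : Mono g := by
  refine Groth.Agent.Lib.Helper7.mono_of_ue_of_forall
    (Groth.Agent.Lib.Helper7.UEE.ue hf) g ?_
  intro W b₁ b₂ hb
  have e1 : pullback.mapDesc f f g ≫ pullback.fst (f ≫ g) (f ≫ g) = pullback.fst f f :=
    (pullback.lift_fst _ _ _).trans (Category.comp_id _)
  have e2 : pullback.mapDesc f f g ≫ pullback.snd (f ≫ g) (f ≫ g) = pullback.snd f f :=
    (pullback.lift_snd _ _ _).trans (Category.comp_id _)
  obtain ⟨l, h1, h2⟩ : ∃ l : W ⟶ pullback f f, l ≫ pullback.fst f f = b₁ ∧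
      l ≫ pullback.snd f f = b₂ := by
    refine ⟨pullback.lift b₁ b₂ hb ≫ inv (pullback.mapDesc f f g), ?_, ?_⟩
    · rw [Category.assoc, ← e1, IsIso.inv_hom_id_assoc, pullback.lift_fst]
    · rw [Category.assoc, ← e2, IsIso.inv_hom_id_assoc, pullback.lift_snd]
  rw [← h1, ← h2, Category.assoc, Category.assoc, pullback.condition]


end Groth.Agent.S5211
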