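import Groth.Statements.S5212
import Mathlib

set_option autoImplicit false
universe u
open GrpQ

namespace Groth.Agent.S5212

/-- For `A'` finite and free as an `A`-module, a prime `p` of `A` and `a ∈ A'`, the element `a` belongs
to some prime of `A'` lying over `p` if and only if its norm belongs to `p`. (The published
statement allows `A'` projective of constant rank over `A`; this row takes `A'` free, where the norm
is the determinant of multiplication.) -/
theorem result {A A' : Type u} [CommRing A] [CommRing A'] [Algebra A A']
    [Module.Free A A'] [Module.Finite A A'] (p : Ideal A) [p.IsPrime] (a : A') :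
    (∃ q : Ideal A', q.IsPrime ∧ q.LiesOver p ∧ a ∈ q) ↔ Algebra.norm A a ∈ p := by
  classical
  let b := Module.Free.chooseBasis A A'
  have hnorm : ∀ x : A', Algebra.norm A x = (Algebra.leftMulMatrix b x).det :=
    fun x => Algebra.norm_eq_matrix_det b x
  constructor
  · rintro ⟨q, hq, hqp, haq⟩
    set Ma := Algebra.leftMulMatrix b a with hMa
    have hCH : Polynomial.aeval a Ma.charpoly = 0 := by
      apply Algebra.leftMulMatrix_injective b
      rw [map_zero, ← Polynomial.aeval_algHom_apply]
      exact Matrix.aeval_self_charpoly Ma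
    have h1 : algebraMap A A' (Ma.charpoly.coeff 0) ∈ q := by
      have h2 := congrArg (Polynomial.aeval a) (Polynomial.divX_mul_X_add Ma.charpoly)
      rw [hCH, map_add, map_mul, Polynomial.aeval_X, Polynomial.aeval_C] at h2
      have h3 : algebraMap A A' (Ma.charpoly.coeff 0) = -(Polynomial.aeval a Ma.charpoly.divX * a) := by
        linear_combination h2
      rw [h3]
      exact q.neg_mem (q.mul_mem_left _ haq)
    have h4 : Ma.charpoly.coeff 0 ∈ p := by
      rw [hqp.over]
      exact h1
    rw [hnorm, Matrix.det_eq_sign_charpoly_coeff]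
    exact p.mul_mem_left _ h4
  · intro hN
    -- entries of the matrix of an element of pA' lie in p
    have hentries : ∀ y ∈ p.map (algebraMap A A'), ∀ i j, Algebra.leftMulMatrix b y i j ∈ p := by
      intro y hy
      refine Submodule.span_induction (p := fun y _ => ∀ i j, Algebra.leftMulMatrix b y i j ∈ p)
        ?_ ?_ ?_ ?_ hy
      · rintro _ ⟨r, hr, rfl⟩ i j
        rw [Algebra.leftMulMatrix_eq_repr_mul, Algebra.algebraMap_eq_smul_one, smul_mul_assoc, one_mul,
          map_smul, Finsupp.smul_apply, smul_eq_mul]
        exact p.mul_mem_right _ hr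
      · intro i j; simp
      · intro x y _ _ hx hy i j
        rw [map_add, Matrix.add_apply]
        exact p.add_mem (hx i j) (hy i j)
      · intro c x _ hx i j
        rw [smul_eq_mul, map_mul, Matrix.mul_apply]
        exact p.sum_mem (fun l _ => p.mul_mem_left _ (hx l j))
    have hcomap : (Ideal.span {a} ⊔ p.map (algebraMap A A')).comap (algebraMap A A') ≤ p := by
      intro r hr
      rw [Ideal.mem_comap, Submodule.mem_sup] at hr
      obtain ⟨x, hx, y, hy, hxy⟩ := hr
      obtain ⟨c, rfl⟩ := Ideal.mem_span_singleton'.mp hx
      -- matrices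
      have hmat := congrArg (Algebra.leftMulMatrix b) hxy
      rw [map_add, map_mul] at hmat
      have hmat' := congrArg ((Ideal.Quotient.mk p).mapMatrix) hmat
      rw [map_add, map_mul] at hmat'
      have hy0 : (Ideal.Quotient.mk p).mapMatrix (Algebra.leftMulMatrix b y) = 0 := by
        ext i j
        simp only [RingHom.mapMatrix_apply, Matrix.map_apply, Matrix.zero_apply]
        exact Ideal.Quotient.eq_zero_iff_mem.mpr (hentries y hy i j)
      rw [hy0, add_zero] at hmat'
      have hdet := congrArg Matrix.det hmat'
      rw [Matrix.det_mul, ← RingHom.map_det, ← RingHom.map_det, ← RingHom.map_det, ← hnorm a,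
        Ideal.Quotient.eq_zero_iff_mem.mpr hN, mul_zero] at hdet
      have h5 : (Algebra.leftMulMatrix b (algebraMap A A' r)).det
          = r ^ Fintype.card (Module.Free.ChooseBasisIndex A A') := by
        rw [AlgHom.commutes, Matrix.algebraMap_eq_diagonal, Matrix.det_diagonal]
        simp
      rw [h5] at hdet
      exact (inferInstance : p.IsPrime).mem_of_pow_mem _ (Ideal.Quotient.eq_zero_iff_mem.mp hdet.symm)
    obtain ⟨q, hIq, hq, hqp⟩ := Ideal.exists_ideal_over_prime_of_isIntegral p _ hcomap
    refine ⟨q, hq, ⟨hqp.symm⟩, hIq (Ideal.mem_sup_left (Ideal.mem_span_singleton_self a))⟩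

end Groth.Agent.S5212
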