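import Groth.Statements.S5215
import Groth.Agent.Lib.Helper7EffEpi

set_option autoImplicit false
open CategoryTheory CategoryTheory.Limits
universe w v₁ u₁
open DescCat

namespace Groth.Agent.S5215

/-- In a category with pullbacks: for a universally effective equivalence relation `p₁, p₂ : R ⇉ X` with
quotient map `π : X ⟶ X/R` and a morphism `g` out of the quotient, `g` is a monomorphism if and only
if `R` is the kernel pair of `π ≫ g`. -/
theorem result {C : Type u₁} [Category.{v₁} C] [HasPullbacks C]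
    {R X Z : C} {p₁ p₂ : R ⟶ X} (e : UniversallyEffectiveEquivalenceRelation p₁ p₂)
    (f : X ⟶ Z) (g : e.B ⟶ Z) (hg : e.π ≫ g = f) :
    Mono g ↔ IsKernelPair f p₁ p₂ := by
  constructor
  · intro hm
    rw [← hg]
    exact e.isKernelPair.comp_of_mono
  · intro hk
    refine Groth.Agent.Lib.Helper7.mono_of_ue_of_forall
      (Groth.Agent.Lib.Helper7.UEE.ue e.universally_effectiveEpi_π) g ?_
    intro W b₁ b₂ hb
    rw [hg] at hb
    have hk' : IsPullback p₁ p₂ f f := hk
    obtain ⟨l, h1, h2⟩ : ∃ l : W ⟶ R, l ≫ p₁ = b₁ ∧ l ≫ p₂ = b₂ :=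
      ⟨hk'.lift b₁ b₂ hb, hk'.lift_fst _ _ _, hk'.lift_snd _ _ _⟩
    have hw : p₁ ≫ e.π = p₂ ≫ e.π := e.isKernelPair.w
    rw [← h1, ← h2, Category.assoc, Category.assoc, hw]


end Groth.Agent.S5215
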