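import Groth.Statements.S5220
import Groth.Agent.Lib.Helper7EffEpi

set_option autoImplicit false
open CategoryTheory CategoryTheory.Limits
universe w v₁ u₁
open GrpQ

namespace Groth.Agent.S5220

/-- In a category with pullbacks: let `d₀ d₁ : X₁ ⇉ X₀` admit a common section and let `f₀ : Y₀ ⟶ X₀` be
an effective epimorphism which is also a universal epimorphism. For the inverse-image pair `Y₁ :=
(Y₀ ×_{X₀,d₁} X₁) ×_{d₀,X₀} Y₀ ⇉ Y₀`, every morphism out of `Y₀` equalized by the two projections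
descends uniquely to a morphism out of `X₀` equalized by `d₀, d₁`. (Only the common section of the
groupoid structure is used.) -/
theorem result {C : Type u₁} [Category.{v₁} C] [HasPullbacks C]
    {X₁ X₀ Y₀ : C} (d₀ d₁ : X₁ ⟶ X₀) (s : X₀ ⟶ X₁) (hs₀ : s ≫ d₀ = 𝟙 X₀) (hs₁ : s ≫ d₁ = 𝟙 X₀)
    (f₀ : Y₀ ⟶ X₀) [EffectiveEpi f₀]
    (hf : MorphismProperty.universally (MorphismProperty.epimorphisms C) f₀)
    {T : C} (g : Y₀ ⟶ T)
    (hg : (pullback.fst (pullback.snd f₀ d₁ ≫ d₀) f₀ ≫ pullback.fst f₀ d₁) ≫ g =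
      pullback.snd (pullback.snd f₀ d₁ ≫ d₀) f₀ ≫ g) :
    ∃! h : X₀ ⟶ T, d₁ ≫ h = d₀ ≫ h ∧ f₀ ≫ h = g := by
  have hue : Groth.Agent.Lib.Helper7.UE C f₀ := hf
  have hepi : Epi f₀ := inferInstance
  have key : ∀ {Z : C} (a b : Z ⟶ Y₀) (x : Z ⟶ X₁), a ≫ f₀ = x ≫ d₁ → x ≫ d₀ = b ≫ f₀ →
      a ≫ g = b ≫ g := by
    intro Z a b x h1 h2
    have w2 : pullback.lift a x h1 ≫ pullback.snd f₀ d₁ ≫ d₀ = b ≫ f₀ := by
      rw [pullback.lift_snd_assoc, h2]
    have e1 : pullback.lift (pullback.lift a x h1) b w2 ≫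
        (pullback.fst (pullback.snd f₀ d₁ ≫ d₀) f₀ ≫ pullback.fst f₀ d₁) = a := by
      rw [pullback.lift_fst_assoc, pullback.lift_fst]
    have e2 : pullback.lift (pullback.lift a x h1) b w2 ≫
        pullback.snd (pullback.snd f₀ d₁ ≫ d₀) f₀ = b := pullback.lift_snd _ _ _
    calc a ≫ g = (pullback.lift (pullback.lift a x h1) b w2 ≫
          (pullback.fst (pullback.snd f₀ d₁ ≫ d₀) f₀ ≫ pullback.fst f₀ d₁)) ≫ g := by rw [e1]
      _ = pullback.lift (pullback.lift a x h1) b w2 ≫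
          (pullback.fst (pullback.snd f₀ d₁ ≫ d₀) f₀ ≫ pullback.fst f₀ d₁) ≫ g :=
            Category.assoc _ _ _
      _ = pullback.lift (pullback.lift a x h1) b w2 ≫
          pullback.snd (pullback.snd f₀ d₁ ≫ d₀) f₀ ≫ g := by rw [hg]
      _ = (pullback.lift (pullback.lift a x h1) b w2 ≫
          pullback.snd (pullback.snd f₀ d₁ ≫ d₀) f₀) ≫ g := (Category.assoc _ _ _).symm
      _ = b ≫ g := by rw [e2]
  -- `g` coequalizes the kernel pair of `f₀`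
  have hc : ∀ {Z : C} (a b : Z ⟶ Y₀), a ≫ f₀ = b ≫ f₀ → a ≫ g = b ≫ g := by
    intro Z a b hab
    refine key a b ((a ≫ f₀) ≫ s) ?_ ?_
    · rw [Category.assoc, hs₁, Category.comp_id]
    · rw [Category.assoc, hs₀, Category.comp_id, hab]
  have hfac : f₀ ≫ EffectiveEpi.desc f₀ g hc = g := EffectiveEpi.fac f₀ g hc
  refine ⟨EffectiveEpi.desc f₀ g hc, ⟨?_, hfac⟩, ?_⟩
  · obtain ⟨Q, π, b₁, b₂, hπ, hb₁, hb₂⟩ := hue.exists_lifts d₁ d₀
    have := key b₁ b₂ π hb₁ hb₂.symm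
    rw [← hfac, ← Category.assoc, ← Category.assoc, hb₁, hb₂, Category.assoc, Category.assoc] at this
    exact (cancel_epi π).1 this
  · rintro h ⟨-, hh⟩
    rw [← cancel_epi f₀, hh, hfac]


end Groth.Agent.S5220
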