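import Groth.Statements.S5221
import Groth.Agent.Lib.Helper7EffEpi
import Groth.Agent.S5220

set_option autoImplicit false
open CategoryTheory CategoryTheory.Limits
universe w v₁ u₁
open GrpQ

namespace Groth.Agent.S5221

/-- Existence part: in a category with pullbacks: with `d₀ d₁ : X₁ ⇉ X₀` admitting a common section and
`f₀ : Y₀ ⟶ X₀` an effective and universal epimorphism, the pair `(d₀, d₁)` has a coequalizer if and
only if its inverse-image pair on `Y₀` has one. -/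
theorem result {C : Type u₁} [Category.{v₁} C] [HasPullbacks C]
    {X₁ X₀ Y₀ : C} (d₀ d₁ : X₁ ⟶ X₀) (s : X₀ ⟶ X₁) (hs₀ : s ≫ d₀ = 𝟙 X₀) (hs₁ : s ≫ d₁ = 𝟙 X₀)
    (f₀ : Y₀ ⟶ X₀) [EffectiveEpi f₀]
    (hf : MorphismProperty.universally (MorphismProperty.epimorphisms C) f₀) :
    HasCoequalizer d₁ d₀ ↔
      HasCoequalizer (pullback.fst (pullback.snd f₀ d₁ ≫ d₀) f₀ ≫ pullback.fst f₀ d₁)
        (pullback.snd (pullback.snd f₀ d₁ ≫ d₀) f₀) := by
  have hepi : Epi f₀ := inferInstance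
  have he₁ : (pullback.fst (pullback.snd f₀ d₁ ≫ d₀) f₀ ≫ pullback.fst f₀ d₁) ≫ f₀ =
      (pullback.fst (pullback.snd f₀ d₁ ≫ d₀) f₀ ≫ pullback.snd f₀ d₁) ≫ d₁ := by
    rw [Category.assoc, Category.assoc, pullback.condition]
  have he₂ : pullback.snd (pullback.snd f₀ d₁ ≫ d₀) f₀ ≫ f₀ =
      (pullback.fst (pullback.snd f₀ d₁ ≫ d₀) f₀ ≫ pullback.snd f₀ d₁) ≫ d₀ := by
    rw [← pullback.condition, Category.assoc]
  have hcoeq : ∀ {T : C} (h : X₀ ⟶ T), d₁ ≫ h = d₀ ≫ h →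
      (pullback.fst (pullback.snd f₀ d₁ ≫ d₀) f₀ ≫ pullback.fst f₀ d₁) ≫ f₀ ≫ h =
        pullback.snd (pullback.snd f₀ d₁ ≫ d₀) f₀ ≫ f₀ ≫ h := by
    intro T h hh
    rw [← Category.assoc, he₁, ← Category.assoc _ f₀, he₂, Category.assoc, Category.assoc _ d₀, hh]
  constructor
  · intro _
    have H := fun (t : Cofork (pullback.fst (pullback.snd f₀ d₁ ≫ d₀) f₀ ≫ pullback.fst f₀ d₁)
        (pullback.snd (pullback.snd f₀ d₁ ≫ d₀) f₀)) =>
      Groth.Agent.S5220.result d₀ d₁ s hs₀ hs₁ f₀ hf t.π t.condition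
    refine HasColimit.mk ⟨Cofork.ofπ (f₀ ≫ coequalizer.π d₁ d₀)
      (hcoeq _ (coequalizer.condition d₁ d₀)), Cofork.IsColimit.mk' _ (fun t => ?_)⟩
    refine ⟨coequalizer.desc (H t).exists.choose (H t).exists.choose_spec.1, ?_, ?_⟩
    · show (f₀ ≫ coequalizer.π d₁ d₀) ≫ coequalizer.desc _ _ = t.π
      rw [Category.assoc, coequalizer.π_desc, (H t).exists.choose_spec.2]
    · intro m hm
      have hm' : (f₀ ≫ coequalizer.π d₁ d₀) ≫ m = t.π := hm
      have key : ∀ m' : coequalizer d₁ d₀ ⟶ t.pt, (f₀ ≫ coequalizer.π d₁ d₀) ≫ m' = t.π →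
          m' = coequalizer.desc (H t).exists.choose (H t).exists.choose_spec.1 := by
        intro m' hm''
        apply coequalizer.hom_ext
        rw [coequalizer.π_desc]
        refine (H t).unique ⟨?_, by rw [← hm'', Category.assoc]⟩ (H t).exists.choose_spec
        rw [← Category.assoc, coequalizer.condition, Category.assoc]
      exact key m hm'
  · intro _
    obtain ⟨hc, ⟨hc1, hc2⟩, -⟩ := Groth.Agent.S5220.result d₀ d₁ s hs₀ hs₁ f₀ hf
      (coequalizer.π (pullback.fst (pullback.snd f₀ d₁ ≫ d₀) f₀ ≫ pullback.fst f₀ d₁)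
        (pullback.snd (pullback.snd f₀ d₁ ≫ d₀) f₀)) (coequalizer.condition _ _)
    refine HasColimit.mk ⟨Cofork.ofπ hc hc1, Cofork.IsColimit.mk' _ (fun t => ?_)⟩
    refine ⟨coequalizer.desc (f₀ ≫ t.π) (hcoeq _ t.condition), ?_, ?_⟩
    · show hc ≫ coequalizer.desc (f₀ ≫ t.π) (hcoeq _ t.condition) = t.π
      rw [← cancel_epi f₀, ← Category.assoc, hc2, coequalizer.π_desc]
    · intro m hm
      have hm' : hc ≫ m = t.π := hm
      have key : ∀ m' : coequalizer (pullback.fst (pullback.snd f₀ d₁ ≫ d₀) f₀ ≫ pullback.fst f₀ d₁)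
          (pullback.snd (pullback.snd f₀ d₁ ≫ d₀) f₀) ⟶ t.pt, hc ≫ m' = t.π →
          m' = coequalizer.desc (f₀ ≫ t.π) (hcoeq _ t.condition) := by
        intro m' hm''
        apply coequalizer.hom_ext
        rw [coequalizer.π_desc, ← hc2, Category.assoc, hm'']
      exact key m hm'


end Groth.Agent.S5221
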