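import Groth.Statements.S5222
import Mathlib.CategoryTheory.Monoidal.Cartesian.Grp

set_option autoImplicit false
open CategoryTheory CategoryTheory.Limits MonoidalCategory
universe v₁ u₁
open DescCat

namespace Groth.Agent.S5222

open MonObj CartesianMonoidalCategory SemiCartesianMonoidalCategory in
/-- In a cartesian monoidal category with pullbacks: for a homomorphism `f : G ⟶ G'` of group objects
with kernel `K = G ×_{G'} e`, the pair `G × K ⇉ G` given by the projection and by multiplication is
the kernel pair of `f`. -/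
theorem result {C : Type u₁} [Category.{v₁} C]
    [CartesianMonoidalCategory C] [HasPullbacks C]
    {G G' : C} [GrpObj G] [GrpObj G'] (f : G ⟶ G') [IsMonHom f] :
    IsKernelPair f (fst G (pullback f η[G']))
      ((G ◁ pullback.fst f η[G']) ≫ μ[G]) := by
  set K := pullback f η[G'] with hK
  set k : K ⟶ G := pullback.fst f η[G'] with hk
  have hkmono : Mono k := pullback.fst_of_mono
  have hmul : (G ◁ k) ≫ μ[G] = fst G K * (snd G K ≫ k) := by
    rw [Hom.mul_def]
    congr 1
    apply CartesianMonoidalCategory.hom_ext
    · rw [whiskerLeft_fst, lift_fst]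
    · rw [whiskerLeft_snd, lift_snd]
  have hkf : k ≫ f = 1 := by
    rw [hk, pullback.condition, Hom.one_def]
    congr 1
    exact toUnit_unique _ _
  rw [hmul]
  refine IsPullback.mk' ?_ ?_ ?_
  · rw [MonObj.mul_comp, Category.assoc, hkf, MonObj.comp_one, _root_.mul_one]
  · intro T φ φ' h1 h2
    rw [MonObj.comp_mul, MonObj.comp_mul, h1] at h2
    have h3 := _root_.mul_left_cancel h2
    rw [← Category.assoc, ← Category.assoc] at h3
    have h4 := (cancel_mono k).1 h3
    exact CartesianMonoidalCategory.hom_ext _ _ h1 h4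
  · intro T a b hab
    have hc : (a⁻¹ * b) ≫ f = toUnit T ≫ η[G'] := by
      rw [MonObj.mul_comp, GrpObj.inv_comp, hab, _root_.inv_mul_cancel, Hom.one_def]
    refine ⟨lift a (pullback.lift (a⁻¹ * b) (toUnit T) hc), lift_fst _ _, ?_⟩
    rw [MonObj.comp_mul, lift_fst, lift_snd_assoc, hk, pullback.lift_fst, _root_.mul_inv_cancel_left]


end Groth.Agent.S5222
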