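import Groth.Statements.S5223
import Groth.Agent.Lib.Helper25FlatBC

set_option autoImplicit false
open CategoryTheory CategoryTheory.Limits AlgebraicGeometry
universe u
open GrpQ

namespace Groth.Agent.S5223

/-- In a cartesian square of schemes `F₂ = F₁ ×_{X₀} X₁` whose bottom map `u : X₁ ⟶ X₀` is flat, the
base-changed map `d' : F₂ ⟶ X₁` is flat at a point `x` if and only if `d : F₁ ⟶ X₀` is flat at the
image of `x` in `F₁`. -/
theorem result {F₂ F₁ X₁ X₀ : Scheme.{u}}
    {v : F₂ ⟶ F₁} {d' : F₂ ⟶ X₁} {d : F₁ ⟶ X₀} {u : X₁ ⟶ X₀}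
    (h : IsPullback v d' d u) [Flat u] (x : F₂) :
    (d'.stalkMap x).hom.Flat ↔ (d.stalkMap (v.base x)).hom.Flat := by
  let e := h.isoPullback
  have he1 : e.hom ≫ pullback.fst d u = v := h.isoPullback_hom_fst
  have he2 : e.hom ≫ pullback.snd d u = d' := h.isoPullback_hom_snd
  have hQ := RingHom.Flat.respectsIso
  have h1 : (d'.stalkMap x).hom.Flat ↔ ((pullback.snd d u).stalkMap (e.hom x)).hom.Flat := by
    rw [← Groth.Agent.Lib.Helper20.FlatDesc.stalkMap_comp_iff_left hQ e.hom (pullback.snd d u) x]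
    exact Groth.Agent.Lib.Helper20.FlatDesc.stalkMap_congr_iff he2.symm x
  have h2 : v.base x = pullback.fst d u (e.hom x) := by
    rw [← Scheme.Hom.comp_apply, he1]
  rw [h1, h2]
  exact ⟨Groth.Agent.Lib.Helper20.FlatDesc.flat_stalkMap_of_flat_baseChange d u _,
    Groth.Agent.Lib.Helper25.FlatBC.flat_stalkMap_snd_of_flat d u _⟩

end Groth.Agent.S5223
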