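import Groth.Statements.S5224
import Mathlib
import Groth.Agent.Lib.Helper12QuotSh

set_option autoImplicit false
open CategoryTheory CategoryTheory.Limits AlgebraicGeometry
universe u
open GrpQ

namespace Groth.Agent.S5224


open Groth.Agent.Lib.Helper12 Groth.Agent.Lib.Helper12.QuotShLib in


/-- For the fppf topology: let `s, t : R ⇉ U` be an equivalence relation of schemes over `S` with `s`
faithfully flat and locally of finite presentation. A morphism `q : U ⟶ Y` over `S` is a faithfully
flat, locally finitely presented quotient with kernel pair `R` if and only if `q` identifies `h_Y`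
with the fppf quotient sheaf `U/R`. -/
theorem result {S : Scheme.{u}} {R U Y : Over S} (s t : R ⟶ U)
    [IsEquivalenceRelation s t]
    [Flat s.left] [Surjective s.left] [LocallyOfFinitePresentation s.left]
    (q : U ⟶ Y) :
    (IsKernelPair q s t ∧ Flat q.left ∧ Surjective q.left ∧ LocallyOfFinitePresentation q.left) ↔
      QuotSh.IsQuotient Scheme.fppfPrecoverage s t q := by
  constructor
  · rintro ⟨hk, hfl, hsurj, hlfp⟩
    exact isQuotient_of_isKernelPair _ s t q hk q.left.singleton_mem_fppfPrecoverage
  · intro hq
    obtain ⟨hk, hsurj, hP⟩ := props_of_isQuotient Scheme.fppfPrecoverage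
      Scheme.fppfPrecoverage_le_fpqcPrecoverage s t q hq
    exact ⟨hk, hP @Flat descendsAlong_flat ‹_›, hsurj,
      hP @LocallyOfFinitePresentation inferInstance ‹_›⟩

end Groth.Agent.S5224
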