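import Groth.Statements.S5225
import Mathlib
import Groth.Agent.Lib.Helper12QuotSh

set_option autoImplicit false
open CategoryTheory CategoryTheory.Limits AlgebraicGeometry
universe u
open GrpQ

namespace Groth.Agent.S5225


open Groth.Agent.Lib.Helper12 Groth.Agent.Lib.Helper12.QuotShLib in


/-- For the étale topology: let `s, t : R ⇉ U` be an equivalence relation of schemes over `S` with `s`
étale and surjective. A morphism `q : U ⟶ Y` over `S` is an étale surjective quotient with kernel
pair `R` if and only if `q` identifies `h_Y` with the étale quotient sheaf `U/R`. -/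
theorem result {S : Scheme.{u}} {R U Y : Over S} (s t : R ⟶ U)
    [IsEquivalenceRelation s t] [Etale s.left] [Surjective s.left]
    (q : U ⟶ Y) :
    (IsKernelPair q s t ∧ Etale q.left ∧ Surjective q.left) ↔
      QuotSh.IsQuotient Scheme.etalePrecoverage s t q := by
  have : (QuotSh.J Scheme.etalePrecoverage S).Subcanonical :=
    GrothendieckTopology.subcanonical_over _ S
  constructor
  · rintro ⟨hk, het, hsurj⟩
    exact isQuotient_of_isKernelPair _ s t q hk (singleton_mem_etalePrecoverage q.left)
  · intro hq
    obtain ⟨hk, hsurj, hP⟩ := props_of_isQuotient Scheme.etalePrecoverage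
      etalePrecoverage_le_fpqcPrecoverage s t q hq
    exact ⟨hk, hP @Etale inferInstance ‹_›, hsurj⟩

end Groth.Agent.S5225
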