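import Groth.Statements.S5228
import Groth.Agent.Lib.Helper25Weights

set_option autoImplicit false
universe w u
open HopfRep

namespace Groth.Agent.S5228

/-- Over an affine base, in comodule form: for a representation `V` of a diagonalizable group `D(M)`
over a commutative ring `k` (a `k[M]`-comodule), every sub-representation which is a direct summand
as a `k`-module is a direct summand as a representation. (The published statement: a short exact
sequence of quasi-coherent `D(M)`-modules that splits as a sequence of modules splits
equivariantly.) -/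
theorem result {k : Type u} [CommRing k] {M : Type u} [CommGroup M]
    (V : Type w) [AddCommGroup V] [Module k V] [HopfRep.Comod k (MonoidAlgebra k M) V]
    (W : Submodule k V) (hW : HopfRep.IsSubcomod (k := k) (A := MonoidAlgebra k M) W)
    (hsplit : ∃ W' : Submodule k V, IsCompl W W') :
    ∃ W'' : Submodule k V, HopfRep.IsSubcomod (k := k) (A := MonoidAlgebra k M) W'' ∧ IsCompl W W'' := by
  open Groth.Agent.Lib.Helper25 in
  classical
  obtain ⟨W', hW'⟩ := hsplit
  set π : V →ₗ[k] V := W.subtype ∘ₗ (Submodule.linearProjOfIsCompl W W' hW') with hπ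
  have hπW : ∀ v, π v ∈ W := fun v => (Submodule.linearProjOfIsCompl W W' hW' v).2
  have hπid : ∀ w ∈ W, π w = w := by
    intro w hw
    rw [hπ, LinearMap.comp_apply]
    have := Submodule.linearProjOfIsCompl_apply_left hW' ⟨w, hw⟩
    exact congrArg Subtype.val this
  set b := MonoidAlgebra.basis M k with hbdef
  have hb : ∀ m, IsGroupLikeElem k (b m) := by
    intro m
    rw [hbdef, MonoidAlgebra.basis_apply]
    exact MonoidAlgebra.isGroupLikeElem_single_one m
  haveI : Module.Free k (MonoidAlgebra k M) := Module.Free.of_basis b
  have hpW : ∀ m, ∀ w ∈ W, T (b.coord m) w ∈ W := fun m w hw => T_mem_of_isSubcomod hW _ hw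
  let q : M → V →ₗ[k] V := fun m => T (b.coord m) ∘ₗ π ∘ₗ T (b.coord m)
  have hq : ∀ m v, q m v = T (b.coord m) (π (T (b.coord m) v)) := fun m v => rfl
  refine ⟨⨅ m, LinearMap.ker (q m), ?_, ?_⟩
  · rw [isSubcomod_iff]
    intro φ u hu
    rw [Submodule.mem_iInf] at hu ⊢
    intro m
    have := hu m
    rw [LinearMap.mem_ker] at this ⊢
    rw [hq, T_coord_T b hb, map_smul, map_smul, ← hq, this, smul_zero]
  · constructor
    · rw [Submodule.disjoint_def]
      intro v hvW hv
      apply eq_zero_of_T_coord_eq_zero b hb
      intro m
      have := (Submodule.mem_iInf _).mp hv m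
      rw [LinearMap.mem_ker, hq, hπid _ (hpW m v hvW), T_coord_T_coord b hb, if_pos rfl] at this
      exact this
    · rw [codisjoint_iff, eq_top_iff]
      intro v _
      obtain ⟨s, hs, hs0⟩ := eq_sum_T_coord (V := V) b hb v
      set w := ∑ m ∈ s, q m v with hw
      have hwW : w ∈ W := Submodule.sum_mem _ (fun m _ => hpW m _ (hπW _))
      have hkey : ∀ n, T (b.coord n) w = q n v := by
        intro n
        rw [hw, map_sum]
        simp only [hq, T_coord_T_coord b hb]
        rw [Finset.sum_ite_eq]
        split_ifs with hn
        · rfl
        · rw [hs0 n hn, map_zero, map_zero]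
      have hvw : v - w ∈ ⨅ m, LinearMap.ker (q m) := by
        rw [Submodule.mem_iInf]
        intro n
        rw [LinearMap.mem_ker, map_sub]
        have : q n w = q n v := by
          have h1 : q n v ∈ W := hpW n _ (hπW _)
          rw [hq n w, hkey n, hπid _ h1, hq, T_coord_T_coord b hb, if_pos rfl]
        rw [this, sub_self]
      have : v = w + (v - w) := by abel
      rw [this]
      exact Submodule.add_mem_sup hwW hvw

end Groth.Agent.S5228
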