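import Groth.Statements.S5231
-- import your own Groth.Agent.* helpers here

set_option autoImplicit false
open CategoryTheory
universe w v₁ u₁
open ShfCat

namespace Groth.Agent.S5231

/-- (iii) ⇒ (i): a morphism `f` of sheaves of sets on a site is a monomorphism (resp. an epimorphism) as
soon as, for every object `S`, the morphisms `T ⟶ S` over which the restriction of `f` to the
induced site `C/T` is a monomorphism (resp. an epimorphism) form a covering sieve. No sheafification
is assumed. (The published statement also treats isomorphisms in the same way; that case is left out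
here.) -/
theorem result {C : Type u₁} [Category.{v₁} C]
    (J : GrothendieckTopology C) {F G : Sheaf J (Type w)} (f : F ⟶ G) :
    ((∀ S : C, ∃ R : Sieve S, R ∈ J S ∧ ∀ ⦃T : C⦄ (g : T ⟶ S), R g →
        Mono ((J.overPullback (Type w) T).map f)) → Mono f) ∧
    ((∀ S : C, ∃ R : Sieve S, R ∈ J S ∧ ∀ ⦃T : C⦄ (g : T ⟶ S), R g →
        Epi ((J.overPullback (Type w) T).map f)) → Epi f) := by
  have key : ∀ {H K : Sheaf J (Type w)} (a b : H ⟶ K),
      (∀ S : C, ∃ R : Sieve S, R ∈ J S ∧ ∀ ⦃T : C⦄ (g : T ⟶ S), R g →
        (J.overPullback (Type w) T).map a = (J.overPullback (Type w) T).map b) → a = b := by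
    intro H K a b h
    apply Sheaf.hom_ext
    ext U s
    obtain ⟨R, hR, hRg⟩ := h U.unop
    have hsep := ((isSheaf_iff_isSheaf_of_type J K.obj).1 K.property).isSeparated
    refine (hsep R hR).ext ?_
    intro T g hg
    have h1 := hRg g hg
    have h2 : a.hom.app (Opposite.op T) = b.hom.app (Opposite.op T) :=
      congrArg (fun φ => φ.hom.app (Opposite.op (Over.mk (𝟙 T)))) h1
    have na := ConcreteCategory.congr_hom (a.hom.naturality g.op) s
    have nb := ConcreteCategory.congr_hom (b.hom.naturality g.op) s
    simp only [ConcreteCategory.comp_apply] at na nb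
    exact na.symm.trans ((congrArg (fun φ => (ConcreteCategory.hom φ)
      ((ConcreteCategory.hom (H.obj.map g.op)) s)) h2).trans nb)
  constructor
  · intro h
    constructor
    intro Z a b hab
    apply key
    intro S
    obtain ⟨R, hR, hRg⟩ := h S
    refine ⟨R, hR, fun T g hg => ?_⟩
    have := hRg g hg
    rw [← cancel_mono ((J.overPullback (Type w) T).map f), ← Functor.map_comp,
      ← Functor.map_comp, hab]
  · intro h
    constructor
    intro Z a b hab
    apply key
    intro S
    obtain ⟨R, hR, hRg⟩ := h S
    refine ⟨R, hR, fun T g hg => ?_⟩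
    have := hRg g hg
    rw [← cancel_epi ((J.overPullback (Type w) T).map f), ← Functor.map_comp,
      ← Functor.map_comp, hab]

end Groth.Agent.S5231
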