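import Groth.Statements.S5233
import Groth.Agent.Lib.Helper12IdealDescent

set_option autoImplicit false
open CategoryTheory CategoryTheory.Limits AlgebraicGeometry
universe u
open GrpQ

namespace Groth.Agent.S5233


lemma eq_of_ker_eq {X : Scheme.{u}} (A B : Subobject X) [IsClosedImmersion A.arrow]
    [IsClosedImmersion B.arrow] (h : A.arrow.ker = B.arrow.ker) : A = B := by
  have := IsClosedImmersion.isIso_lift B.arrow A.arrow h.symm
  exact Subobject.eq_of_comm (asIso (IsClosedImmersion.lift B.arrow A.arrow h.symm.le))
    (IsClosedImmersion.lift_fac _ _ _)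

instance isClosedImmersion_pullback_arrow {X X' : Scheme.{u}} (π : X ⟶ X') (Y' : Subobject X')
    [IsClosedImmersion Y'.arrow] : IsClosedImmersion ((Subobject.pullback π).obj Y').arrow :=
  MorphismProperty.of_isPullback (P := @IsClosedImmersion) (Subobject.isPullback π Y') inferInstance

lemma ker_pullback_arrow {X X' : Scheme.{u}} (π : X ⟶ X') (Y' : Subobject X')
    [IsClosedImmersion Y'.arrow] :
    ((Subobject.pullback π).obj Y').arrow.ker = Y'.arrow.ker.comap π := by
  have h := (Subobject.isPullback π Y').flip
  rw [← Scheme.IdealSheafData.ker_fst_of_isClosedImmersion, ← h.isoPullback_hom_fst,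
    Scheme.Hom.ker_comp_of_isIso]



/-- For schemes, with (M) the faithfully flat quasi-compact morphisms and (N) the closed immersions: if
`π : X ⟶ X'` is flat, surjective and quasi-compact (so `X' = X/R` for its kernel pair `R ⇉ X`), then
`Y' ↦ π⁻¹(Y')` is a bijection from closed subschemes of `X'` onto the closed subschemes of `X`
stable under `R`. -/
theorem result {X X' : Scheme.{u}} (π : X ⟶ X')
    [Flat π] [Surjective π] [QuasiCompact π] :
    Set.BijOn (Subobject.pullback π).obj
      {Y' : Subobject X' | IsClosedImmersion Y'.arrow}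
      {Y : Subobject X | IsClosedImmersion Y.arrow ∧
        (Subobject.pullback (pullback.fst π π)).obj Y = (Subobject.pullback (pullback.snd π π)).obj Y} := by
  refine ⟨?_, ?_, ?_⟩
  · intro Y' (hY' : IsClosedImmersion Y'.arrow)
    refine ⟨inferInstance, ?_⟩
    rw [← Subobject.pullback_comp, ← Subobject.pullback_comp, pullback.condition]
  · intro Y1 (h1 : IsClosedImmersion Y1.arrow) Y2 (h2 : IsClosedImmersion Y2.arrow) h12
    apply eq_of_ker_eq
    have := congrArg (fun Y : Subobject X => Y.arrow.ker) h12
    simp only [ker_pullback_arrow] at this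
    rw [← Groth.Agent.Lib.Helper12.map_comap_eq π Y1.arrow.ker, this,
      Groth.Agent.Lib.Helper12.map_comap_eq]
  · rintro Y ⟨hY : IsClosedImmersion Y.arrow, hst⟩
    have hst' := congrArg (fun Y : Subobject (pullback π π) => Y.arrow.ker) hst
    simp only [ker_pullback_arrow] at hst'
    have key := Groth.Agent.Lib.Helper12.comap_map_eq_of_stable π Y.arrow.ker hst'
    set J := Y.arrow.ker.map π with hJ
    have hV : IsClosedImmersion (Subobject.mk J.subschemeι).arrow := by
      rw [← Subobject.underlyingIso_hom_comp_eq_mk]
      infer_instance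
    have hVk : (Subobject.mk J.subschemeι).arrow.ker = J := by
      rw [← Subobject.underlyingIso_hom_comp_eq_mk, Scheme.Hom.ker_comp_of_isIso,
        Scheme.IdealSheafData.ker_subschemeι]
    refine ⟨Subobject.mk J.subschemeι, hV, ?_⟩
    apply eq_of_ker_eq
    rw [ker_pullback_arrow, hVk, key]

end Groth.Agent.S5233
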