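import Groth.Statements.S5235
import Groth.Agent.Lib.Helper12PullbackPts

set_option autoImplicit false
open CategoryTheory CategoryTheory.Limits AlgebraicGeometry
universe u
open GrpQ

namespace Groth.Agent.S5235


lemma eq_of_range_eq {X : Scheme.{u}} (A B : Subobject X) [IsOpenImmersion A.arrow]
    [IsOpenImmersion B.arrow] (h : Set.range A.arrow = Set.range B.arrow) : A = B :=
  Subobject.eq_of_comm (IsOpenImmersion.isoOfRangeEq A.arrow B.arrow h)
    (IsOpenImmersion.isoOfRangeEq_hom_fac _ _ _)

lemma range_of_isPullback {A X Y Z : Scheme.{u}} {fst : A ⟶ X} {snd : A ⟶ Y}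
    {f : X ⟶ Z} {g : Y ⟶ Z} (h : IsPullback fst snd f g) :
    Set.range snd = g ⁻¹' (Set.range f) := by
  ext y
  constructor
  · rintro ⟨a, rfl⟩
    refine ⟨fst a, ?_⟩
    rw [← Scheme.Hom.comp_apply, h.w, Scheme.Hom.comp_apply]
  · rintro ⟨x, hx⟩
    obtain ⟨a, -, ha⟩ := Groth.Agent.Lib.Helper12.exists_preimage_of_isPullback h x y hx
    exact ⟨a, ha⟩

lemma range_pullback_arrow {X X' : Scheme.{u}} (π : X ⟶ X') (Y' : Subobject X') :
    Set.range ((Subobject.pullback π).obj Y').arrow = π ⁻¹' (Set.range Y'.arrow) :=
  range_of_isPullback (Subobject.isPullback π Y')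

instance isOpenImmersion_pullback_arrow {X X' : Scheme.{u}} (π : X ⟶ X') (Y' : Subobject X')
    [IsOpenImmersion Y'.arrow] : IsOpenImmersion ((Subobject.pullback π).obj Y').arrow :=
  MorphismProperty.of_isPullback (P := @IsOpenImmersion) (Subobject.isPullback π Y') inferInstance



/-- For schemes, with (M) the faithfully flat quasi-compact morphisms and (N) the open immersions: if `π
: X ⟶ X'` is flat, surjective and quasi-compact, then `Y' ↦ π⁻¹(Y')` is a bijection from open
subschemes of `X'` onto the open subschemes of `X` stable under the kernel pair of `π`. -/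
theorem result {X X' : Scheme.{u}} (π : X ⟶ X')
    [Flat π] [Surjective π] [QuasiCompact π] :
    Set.BijOn (Subobject.pullback π).obj
      {Y' : Subobject X' | IsOpenImmersion Y'.arrow}
      {Y : Subobject X | IsOpenImmersion Y.arrow ∧
        (Subobject.pullback (pullback.fst π π)).obj Y = (Subobject.pullback (pullback.snd π π)).obj Y} := by
  refine ⟨?_, ?_, ?_⟩
  · intro Y' (hY' : IsOpenImmersion Y'.arrow)
    refine ⟨inferInstance, ?_⟩
    rw [← Subobject.pullback_comp, ← Subobject.pullback_comp, pullback.condition]
  · intro Y1 (h1 : IsOpenImmersion Y1.arrow) Y2 (h2 : IsOpenImmersion Y2.arrow) h12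
    apply eq_of_range_eq
    have := congrArg (fun Y : Subobject X => Set.range Y.arrow) h12
    simp only [range_pullback_arrow] at this
    exact π.surjective.preimage_injective this
  · rintro Y ⟨hY : IsOpenImmersion Y.arrow, hst⟩
    set U : Set X := Set.range Y.arrow with hU
    have hUo : IsOpen U := Y.arrow.isOpenEmbedding.isOpen_range
    have hsat : π ⁻¹' (π '' U) = U := by
      apply subset_antisymm
      · rintro x2 ⟨x, hxU, hx⟩
        obtain ⟨z, hz1, hz2⟩ := Scheme.Pullback.exists_preimage_pullback (f := π) (g := π) x x2 hx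
        have h1 : z ∈ Set.range ((Subobject.pullback (pullback.fst π π)).obj Y).arrow := by
          rw [range_pullback_arrow]
          change (pullback.fst π π) z ∈ U
          rw [hz1]; exact hxU
        rw [hst, range_pullback_arrow] at h1
        change (pullback.snd π π) z ∈ U at h1
        rwa [hz2] at h1
      · exact Set.subset_preimage_image _ _
    have hVo : IsOpen (π '' U) := by
      rw [← (Flat.isQuotientMap_of_surjective π).isOpen_preimage, hsat]
      exact hUo
    let V : X'.Opens := ⟨π '' U, hVo⟩
    have hV : IsOpenImmersion (Subobject.mk V.ι).arrow := by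
      rw [← Subobject.underlyingIso_hom_comp_eq_mk]
      infer_instance
    have hVr : Set.range (Subobject.mk V.ι).arrow = π '' U := by
      have e : (Subobject.mk V.ι).arrow = (Subobject.underlyingIso V.ι).hom ≫ V.ι :=
        (Subobject.underlyingIso_hom_comp_eq_mk V.ι).symm
      rw [e]
      ext y
      constructor
      · rintro ⟨a, rfl⟩
        rw [Scheme.Hom.comp_apply]
        exact ((Subobject.underlyingIso V.ι).hom a).2
      · intro hy
        let y' : ↥(V : Scheme.{u}) := ⟨y, hy⟩
        refine ⟨(Subobject.underlyingIso V.ι).inv y', ?_⟩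
        rw [← Scheme.Hom.comp_apply, Iso.inv_hom_id_assoc]
        rfl
    refine ⟨Subobject.mk V.ι, hV, ?_⟩
    apply eq_of_range_eq
    rw [range_pullback_arrow, hVr, hsat]

end Groth.Agent.S5235
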