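import Groth.Statements.S5251
import Groth.Agent.Lib.Helper25AdicE

set_option autoImplicit false
universe u
open TensorProduct SGA3b
open SGA3b

namespace Groth.Agent.S5251

/-- Let A be a Noetherian ring, separated and complete for the I-adic topology, and H = Spec C an affine
A-group with C flat and of finite type over A, such that every fibre Spec (κ(p) ⊗ C) of H is
connected and the reduction H₀ = Spec ((A/I) ⊗ C) is an isotrivial (A/I)-group of multiplicative
type. Then H is an isotrivial A-group of multiplicative type. (Affine group schemes over an affine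
base are taken in Hopf-algebra form; base change is the tensor product; a homomorphism of groups
Spec A ⟶ Spec C is a bialgebra map C → A.) -/
theorem result (A : Type u) [CommRing A] [IsNoetherianRing A] (I : Ideal A) [IsAdicComplete I A]
    (C : Type u) [CommRing C] [HopfAlgebra A C] [Module.Flat A C] (hft : Algebra.FiniteType A C)
    (hconn : ∀ (p : Ideal A) [p.IsPrime], ConnectedSpace (PrimeSpectrum (p.ResidueField ⊗[A] C)))
    (h0 : IsIsotrivial (A ⧸ I) ((A ⧸ I) ⊗[A] C)) :
    IsIsotrivial A C := by
  obtain ⟨P, _, _, M, _, hetP, hfinP, hffP, -, F, e, hFs, he, hke, -⟩ :=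
    Groth.Agent.Lib.Helper25.Adic.exists_cover_surj_idem A I C hft h0
  have he0 : e = 0 :=
    Groth.Agent.Lib.Helper25.Adic.idem_eq_zero_of_fibres_connected A P C hconn e he
      (Groth.Agent.Lib.Helper25.Adic.counit_eq_zero_of_ker_eq_span F e hke)
  exact ⟨P, inferInstance, inferInstance, hetP, hfinP, hffP, M, inferInstance,
    Groth.Agent.Lib.Helper25.Adic.nonempty_bialgEquiv_of_idem_eq_zero F hFs e hke he0⟩

end Groth.Agent.S5251
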