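import Groth.Statements.S5252
import Groth.Agent.S2969
import Groth.Agent.Lib.Helper25FlatDefF
import Groth.Agent.Lib.Helper25ArtinLift

set_option autoImplicit false
universe u
open TensorProduct SGA3b
open SGA3b

namespace Groth.Agent.S5252

/-- Let A be an Artinian local ring with residue field k and H = Spec C an affine A-group with C flat
and of finite type over A, whose closed fibre Spec (k ⊗ C) is a k-group of multiplicative type. Then
H is of multiplicative type and isotrivial. (Affine group schemes over an affine base are taken in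
Hopf-algebra form; base change is the tensor product; a homomorphism of groups Spec A ⟶ Spec C is a
bialgebra map C → A.) -/
theorem result (A : Type u) [CommRing A] [IsArtinianRing A] [IsLocalRing A]
    (C : Type u) [CommRing C] [HopfAlgebra A C] [Module.Flat A C] (hft : Algebra.FiniteType A C)
    (h0 : IsMultType (IsLocalRing.ResidueField A) (IsLocalRing.ResidueField A ⊗[A] C)) :
    IsMultType A C ∧ IsIsotrivial A C := by
  open Groth.Agent.Lib.Helper25 Groth.Agent.Lib.Helper25.BCB
    Groth.Agent.Lib.Helper25.ArtinLift in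
  classical
  have := hft
  have hft₀ : Algebra.FiniteType (IsLocalRing.ResidueField A)
      (IsLocalRing.ResidueField A ⊗[A] C) := inferInstance
  obtain ⟨k', _, _, hfin, hsep, hDFT⟩ :=
    Groth.Agent.S2969.result (IsLocalRing.ResidueField A) (IsLocalRing.ResidueField A ⊗[A] C)
      hft₀ h0
  have hD : IsDiag k' (k' ⊗[IsLocalRing.ResidueField A] (IsLocalRing.ResidueField A ⊗[A] C)) := by
    obtain ⟨M, _, _, ⟨e⟩⟩ := hDFT
    exact ⟨M, inferInstance, ⟨e⟩⟩
  -- a primitive element
  let pb := Field.powerBasisOfFiniteOfSeparable (IsLocalRing.ResidueField A) k'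
  -- lift its minimal polynomial
  have hsurj : Function.Surjective (algebraMap A (IsLocalRing.ResidueField A)) :=
    IsLocalRing.residue_surjective
  have hlifts : minpoly (IsLocalRing.ResidueField A) pb.gen ∈
      Polynomial.lifts (algebraMap A (IsLocalRing.ResidueField A)) :=
    (Polynomial.mem_lifts _).mpr (Polynomial.map_surjective _ hsurj _)
  obtain ⟨f, hmin, -, hmonic⟩ := Polynomial.lifts_and_degree_eq_and_monic hlifts
    (minpoly.monic (Algebra.IsIntegral.isIntegral pb.gen))
  -- the kernel of `A → k` is nilpotent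
  have hker : RingHom.ker (algebraMap A (IsLocalRing.ResidueField A)) =
      IsLocalRing.maximalIdeal A := IsLocalRing.ker_residue
  have hnil : IsNilpotent (RingHom.ker (algebraMap A (IsLocalRing.ResidueField A))) := by
    rw [hker]
    exact (isArtinianRing_iff_isNilpotent_maximalIdeal A).mp inferInstance
  have hnil' : ∀ x ∈ RingHom.ker (algebraMap A (IsLocalRing.ResidueField A)), IsNilpotent x := by
    intro x hx
    obtain ⟨n, hn⟩ := hnil
    refine ⟨n, ?_⟩
    have := Ideal.pow_mem_pow hx n
    rwa [hn] at this
  have hsepf : f.Separable :=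
    separable_of_map_separable (algebraMap A (IsLocalRing.ResidueField A)) hsurj hnil' f
      (by rw [hmin]; exact Algebra.IsSeparable.isSeparable _ pb.gen)
  -- algebra structures
  letI : Algebra A k' :=
    ((algebraMap (IsLocalRing.ResidueField A) k').comp
      (algebraMap A (IsLocalRing.ResidueField A))).toAlgebra
  haveI : IsScalarTower A (IsLocalRing.ResidueField A) k' :=
    IsScalarTower.of_algebraMap_eq (fun _ => rfl)
  letI : Algebra (AdjoinRoot f) k' := (phi f pb.gen hmin).toAlgebra
  haveI : IsScalarTower A (AdjoinRoot f) k' :=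
    IsScalarTower.of_algebraMap_eq (fun x => (phi_of f pb.gen hmin x).symm)
  have hφs : Function.Surjective (algebraMap (AdjoinRoot f) k') :=
    phi_surjective hsurj f pb.gen hmin (fun y => pb.exists_eq_aeval' y)
  have hφn : IsNilpotent (RingHom.ker (algebraMap (AdjoinRoot f) k')) :=
    isNilpotent_ker_phi hsurj f pb.gen hmin hnil
  -- properties of `A[X]/(f)`
  haveI : Algebra.Etale A (AdjoinRoot f) := etale_adjoinRoot f hmonic hsepf
  haveI : Module.Finite A (AdjoinRoot f) := hmonic.finite_adjoinRoot
  haveI : Module.Free A (AdjoinRoot f) := hmonic.free_adjoinRoot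
  haveI : Nontrivial (AdjoinRoot f) := (algebraMap (AdjoinRoot f) k').domain_nontrivial
  haveI : Module.FaithfullyFlat A (AdjoinRoot f) := inferInstance
  -- diagonalisability
  have hD1 : IsDiag k' (k' ⊗[A] C) :=
    isDiag_of_equiv (cancelBC A (IsLocalRing.ResidueField A) k' C).symm hD
  have hD2 : IsDiag k' (k' ⊗[AdjoinRoot f] (AdjoinRoot f ⊗[A] C)) :=
    isDiag_of_equiv (cancelBC A (AdjoinRoot f) k' C) hD1
  have hD3 : IsDiag (AdjoinRoot f) (AdjoinRoot f ⊗[A] C) :=
    FlatDef.isDiag_of_flat_of_surjective (AdjoinRoot f) (AdjoinRoot f ⊗[A] C) k' hφs hφn hD2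
  exact ⟨isMultType_of_isMultTypeConst A C
      ⟨AdjoinRoot f, inferInstance, inferInstance, inferInstance, hD3⟩,
    ⟨AdjoinRoot f, inferInstance, inferInstance, inferInstance, inferInstance, inferInstance, hD3⟩⟩

end Groth.Agent.S5252
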