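import Groth.Statements.S5253
import Groth.Agent.Lib.Helper25QFKillD
import Groth.Agent.Lib.Helper25HDescJ

set_option autoImplicit false
universe u
open TensorProduct SGA3b
open SGA3b

namespace Groth.Agent.S5253

/-- Let R be a ring and G = Spec C a commutative affine R-group (C cocommutative) with C of finite
presentation and quasi-finite over R. Then there is an integer n > 0 such that n·id_G = 0: the
endomorphism of C corresponding to the n-th power map is the one corresponding to the unit
homomorphism, c ↦ ε(c)·1. (Affine group schemes over an affine base are taken in Hopf-algebra form;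
base change is the tensor product; a homomorphism of groups Spec A ⟶ Spec C is a bialgebra map C →
A.) -/
theorem result (R : Type u) [CommRing R] (C : Type u) [CommRing C] [HopfAlgebra R C]
    [Coalgebra.IsCocomm R C] (hfp : Algebra.FinitePresentation R C) [Algebra.QuasiFinite R C] :
    ∃ n : ℕ, 0 < n ∧ ∀ c : C, powConv R C n c = algebraMap R C (Coalgebra.counit c) := by
  obtain ⟨Λ, _, _, hΛ, H, _, _, hfpH, -, ⟨e⟩⟩ :=
    Groth.Agent.Lib.Helper25.HDesc.exists_noetherian_model R C hfp
  haveI := hΛ
  haveI : IsNoetherianRing Λ := Algebra.FiniteType.isNoetherianRing ℤ Λ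
  haveI := hfpH
  haveI : Algebra.FiniteType Λ H := inferInstance
  haveI : Algebra.QuasiFinite R (R ⊗[Λ] H) :=
    (Algebra.QuasiFinite.iff_of_algEquiv (e : (R ⊗[Λ] H) ≃ₐ[R] C)).mpr inferInstance
  obtain ⟨n, hn, h0⟩ := Groth.Agent.Lib.Helper25.QFKill.exists_theta_eq_zero_of_model Λ R H
  refine ⟨n, hn, fun c => ?_⟩
  obtain ⟨x, rfl⟩ := e.surjective c
  have h1 := Groth.Agent.Lib.Helper25.QFKill.theta_bialgHom (e : (R ⊗[Λ] H) →ₐc[R] C) n x
  rw [h0 x, map_zero, Groth.Agent.Lib.Helper25.QFKill.theta_apply, sub_eq_zero] at h1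
  exact h1

end Groth.Agent.S5253
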