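import Groth.Statements.S5270
import Groth.Agent.Lib.Helper25MultRigid

set_option autoImplicit false
universe u
open TensorProduct SGA3b
open SGA3b

namespace Groth.Agent.S5270

/-- Injectivity of the map to formal homomorphisms. Let A be a Noetherian ring, separated and complete
for the I-adic topology, H = Spec B an isotrivial A-group of multiplicative type and G = Spec C an
affine A-group. If two homomorphisms H ⟶ G, given by bialgebra maps φ, ψ : C → B, have the same
reduction modulo I^(n+1) for every n ≥ 0, then φ = ψ. (Affine group schemes over an affine base are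
taken in Hopf-algebra form; base change is the tensor product; a homomorphism of groups Spec A ⟶
Spec C is a bialgebra map C → A.) -/
theorem result (A : Type u) [CommRing A] [IsNoetherianRing A] (I : Ideal A) [IsAdicComplete I A]
    (B : Type u) [CommRing B] [HopfAlgebra A B] (hH : IsIsotrivial A B)
    (C : Type u) [CommRing C] [HopfAlgebra A C] (φ ψ : C →ₐc[A] B)
    (h : ∀ (n : ℕ) (c : C), (1 : A ⧸ I ^ (n + 1)) ⊗ₜ[A] (φ c) = (1 : A ⧸ I ^ (n + 1)) ⊗ₜ[A] (ψ c)) :
    φ = ψ := by
  classical
  obtain ⟨A', _, _, -, hfin, hff, M, _, ⟨e⟩⟩ := hH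
  have hjac : I ≤ (⊥ : Ideal A).jacobson := IsAdicComplete.le_jacobson_bot I
  have hkrull : (⨅ i : ℕ, I ^ i • ⊤ : Submodule A A') = ⊥ :=
    Ideal.iInf_pow_smul_eq_bot_of_le_jacobson I hjac
  ext c
  -- the difference lies in all `I^(n+1) B`
  have hmem : ∀ n : ℕ, φ c - ψ c ∈ (I ^ (n + 1)) • (⊤ : Submodule A B) := by
    intro n
    have h1 := congrArg (TensorProduct.quotTensorEquivQuotSMul B (I ^ (n + 1))) (h n c)
    rw [TensorProduct.quotTensorEquivQuotSMul_mk_one_tmul,
      TensorProduct.quotTensorEquivQuotSMul_mk_one_tmul] at h1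
    exact (Submodule.Quotient.eq _).mp h1
  -- coordinate functionals
  let j : B →ₗ[A] A' ⊗[A] B := TensorProduct.mk A A' B 1
  let coord : M → (B →ₗ[A] A') := fun m =>
    ((Finsupp.lapply m ∘ₗ (MonoidAlgebra.coeffLinearEquiv A').toLinearMap ∘ₗ
      (e : (A' ⊗[A] B) →ₗ[A'] MonoidAlgebra A' M)).restrictScalars A) ∘ₗ j
  have hcoord : ∀ m, coord m (φ c - ψ c) = 0 := by
    intro m
    have : coord m (φ c - ψ c) ∈ (⨅ i : ℕ, I ^ i • ⊤ : Submodule A A') := by
      rw [Submodule.mem_iInf]
      intro i
      have h1 := Groth.Agent.Lib.Helper25.map_mem_smul_top (coord m) (I ^ (i + 1)) (hmem i)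
      exact Submodule.smul_mono (Ideal.pow_le_pow_right (Nat.le_succ i)) le_rfl h1
    rw [hkrull, Submodule.mem_bot] at this
    exact this
  have hzero : e (j (φ c - ψ c)) = 0 := by
    apply MonoidAlgebra.coeff_injective
    ext m
    exact hcoord m
  have h2 : j (φ c - ψ c) = 0 := by
    have := e.injective (hzero.trans (map_zero e).symm)
    exact this
  have h3 : φ c - ψ c = 0 := by
    apply Module.FaithfullyFlat.tensorProduct_mk_injective (A := A) (B := A') B
    rw [map_zero]
    exact h2
  exact sub_eq_zero.mp h3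

end Groth.Agent.S5270
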