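import Groth.Statements.S5274
import Mathlib
import Groth.Agent.Lib.Helper15MultTypeLocus

set_option autoImplicit false
open CategoryTheory MonoidalCategory CartesianMonoidalCategory MonObj GrpObj AlgebraicGeometry
universe u
open SGA3x

namespace Groth.Agent.S5274

/-- Let u : G ⟶ H be a homomorphism of S-groups of multiplicative type and of finite type. Then the set
U of points s ∈ S such that u_s : G_s ⟶ H_s is a monomorphism is open and closed in S, and the
homomorphism G|_U ⟶ H|_U induced above U is a monomorphism. -/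
theorem result {S : Scheme.{u}} (G H : Over S) [GrpObj G] [GrpObj H]
    (hG : SGA3x.IsMultTypeFT G) (hH : SGA3x.IsMultTypeFT H) (u : G ⟶ H) [IsMonHom u] :
    ∃ U : S.Opens, IsClosed (U : Set S) ∧
      (∀ s : S, s ∈ U ↔ Mono ((Over.pullback (S.fromSpecResidueField s)).map u).left) ∧
      Mono ((Over.pullback U.ι).map u).left := by
  obtain ⟨S', f, hfl, hsu, hqc, hloc⟩ := hG
  have hG' : TwC.Locally S TwC.Topology.fpqc (fun S' g => ∃ (M : Type) (_ : AddCommGroup M),
      Nonempty (Grp.mk (Red.bc g G) ≅ Grp.mk (Red.DS S' M))) :=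
    ⟨S', f, hfl, hsu, hqc, fun s' => by
      obtain ⟨V, hV, M, inst, -, e⟩ := hloc s'
      exact ⟨V, hV, M, inst, e⟩⟩
  exact Groth.Agent.Lib.Helper15MultTypeLocus.clopen_mono_locus G H hG' hH u

end Groth.Agent.S5274
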