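import Groth.Statements.S5277
import Groth.Agent.Lib.Helper25AdicF

set_option autoImplicit false
universe u
open TensorProduct SGA3b
open SGA3b

namespace Groth.Agent.S5277

/-- Let A be a Noetherian ring, separated and complete for the I-adic topology, and H = Spec C an affine
A-group with C flat and of finite type over A, all of whose fibres Spec (κ(p) ⊗ C) are connected. If
the reduction H₀ = Spec ((A/I) ⊗ C) is an isotrivial torus over A/I, then H is an isotrivial torus
over A. (Affine group schemes over an affine base are taken in Hopf-algebra form; base change is the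
tensor product; a homomorphism of groups Spec A ⟶ Spec C is a bialgebra map C → A.) -/
theorem result (A : Type u) [CommRing A] [IsNoetherianRing A] (I : Ideal A) [IsAdicComplete I A]
    (C : Type u) [CommRing C] [HopfAlgebra A C] [Module.Flat A C] (hft : Algebra.FiniteType A C)
    (hconn : ∀ (p : Ideal A) [p.IsPrime], ConnectedSpace (PrimeSpectrum (p.ResidueField ⊗[A] C)))
    (h0 : IsIsotrivial (A ⧸ I) ((A ⧸ I) ⊗[A] C) ∧ IsTorus (A ⧸ I) ((A ⧸ I) ⊗[A] C)) :
    IsIsotrivial A C ∧ IsTorus A C := by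
  obtain ⟨h0i, h0t⟩ := h0
  obtain ⟨P, _, _, M, _, hetP, hfinP, hffP, ⟨Q, _, _, hffQ, ⟨ε₀⟩⟩, F, e, hFs, he, hke, -⟩ :=
    Groth.Agent.Lib.Helper25.Adic.exists_cover_surj_idem A I C hft h0i
  have he0 : e = 0 :=
    Groth.Agent.Lib.Helper25.Adic.idem_eq_zero_of_fibres_connected A P C hconn e he
      (Groth.Agent.Lib.Helper25.Adic.counit_eq_zero_of_ker_eq_span F e hke)
  obtain ⟨ε⟩ := Groth.Agent.Lib.Helper25.Adic.nonempty_bialgEquiv_of_idem_eq_zero F hFs e hke he0
  refine ⟨⟨P, inferInstance, inferInstance, hetP, hfinP, hffP, M, inferInstance, ⟨ε⟩⟩, ?_⟩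
  rcases subsingleton_or_nontrivial A with hA | hA
  · exact Groth.Agent.Lib.Helper25.Adic.isTorus_of_subsingleton A C
  · haveI : Nontrivial (A ⧸ I) := by
      rw [Ideal.Quotient.nontrivial_iff]
      intro htop
      have h1 : I ≤ Ideal.jacobson ⊥ := IsAdicComplete.le_jacobson_bot I
      rw [htop, top_le_iff, Ideal.jacobson_eq_top_iff] at h1
      exact bot_ne_top h1
    haveI := hffQ
    haveI := hffP
    obtain ⟨n, ⟨g⟩⟩ := Groth.Agent.Lib.Helper25.Adic.exists_mulEquiv_of_isTorus (A ⧸ I)
      ((A ⧸ I) ⊗[A] C) Q ε₀ h0t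
    exact Groth.Agent.Lib.Helper25.Adic.isTorus_of_cover A C P n
      (ε.trans (MonoidAlgebra.domCongrBialgEquiv (R := P) (A := P) g))

end Groth.Agent.S5277
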