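import Groth.Statements.S5285
import Groth.Agent.Lib.Helper25AdicJ

set_option autoImplicit false
universe u
open TensorProduct SGA3b
open SGA3b Groth.Agent.Lib.Helper25.Adic

namespace Groth.Agent.S5285

/-- Let A be a Noetherian ring, separated and complete for the I-adic topology, and H = Spec C an affine
A-group with C of finite type over A, flat over A at the points of H₀ (C localised at any prime
containing IC is flat over A), such that H₀ = Spec ((A/I) ⊗ C) is an isotrivial (A/I)-group of
multiplicative type. Then H has an open and closed subgroup G which is an isotrivial A-group of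
multiplicative type with G₀ = H₀: there is an idempotent e of C lying in IC such that the ideal (e)
is a Hopf ideal and Spec (C/(e)) is isotrivial of multiplicative type. (Affine group schemes over an
affine base are taken in Hopf-algebra form; base change is the tensor product; a homomorphism of
groups Spec A ⟶ Spec C is a bialgebra map C → A.) -/
theorem result (A : Type u) [CommRing A] [IsNoetherianRing A] (I : Ideal A) [IsAdicComplete I A]
    (C : Type u) [CommRing C] [HopfAlgebra A C] (hft : Algebra.FiniteType A C)
    (hfl : ∀ (q : Ideal C) [q.IsPrime], Ideal.map (algebraMap A C) I ≤ q → Module.Flat A (Localization.AtPrime q))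
    (h0 : IsIsotrivial (A ⧸ I) ((A ⧸ I) ⊗[A] C)) :
    ∃ e : C, IsIdempotentElem e ∧ e ∈ Ideal.map (algebraMap A C) I ∧
      ∃ _ : (Ideal.span {e}).IsHopfIdeal A, IsIsotrivial A (C ⧸ Ideal.span {e}) := by
  obtain ⟨P, _, _, M, _, hetP, hfinP, hffP, _, F, eP, hFs, heP, hke, hle⟩ :=
    exists_cover_surj_idem' A I C hft hfl h0
  haveI := hfinP
  haveI := hffP
  obtain ⟨c, hc⟩ := exists_eq_one_tmul_of_idem I F eP (IsAdicComplete.le_jacobson_bot I) hFs hke
    heP hle
  subst hc
  have hinj := Module.FaithfullyFlat.tensorProduct_mk_injective (A := A) (B := P) C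
  have hc_idem : IsIdempotentElem c := by
    apply hinj
    change (1 : P) ⊗ₜ[A] (c * c) = (1 : P) ⊗ₜ[A] c
    have h1 := heP.eq
    rw [Algebra.TensorProduct.tmul_mul_tmul, mul_one] at h1
    exact h1
  have hcI : c ∈ Ideal.map (algebraMap A C) I :=
    mem_map_of_one_tmul_mem (P := P) I c (mem_map_of_mem_smul_ker I F _ hle)
  have hHopf : (Ideal.span ({c} : Set C)).IsHopfIdeal A :=
    isHopfIdeal_of_ker_eq_span_one_tmul F c hFs hke hc_idem
  refine ⟨c, hc_idem, hcI, hHopf, ?_⟩
  exact ⟨P, inferInstance, inferInstance, hetP, hfinP, hffP, M, inferInstance,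
    nonempty_equiv_quot F c hFs hke⟩

end Groth.Agent.S5285
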