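import Groth.Statements.S5290
import Mathlib
import Groth.Agent.Lib.Helper15HomLiftC

set_option autoImplicit false
open CategoryTheory MonoidalCategory CartesianMonoidalCategory MonObj GrpObj AlgebraicGeometry
universe u
open SGA3x

namespace Groth.Agent.S5290

/-- Let S = Spec R be affine, J a nilpotent ideal of R and S₀ = Spec (R/J); let G be an arbitrary
S-group and i : H ⟶ G, i' : H' ⟶ G two sub-group-schemes (homomorphisms which are immersions) of
multiplicative type (fpqc-locally on S isomorphic, as groups, to diagonalisable groups D(M), M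
allowed to vary and taken in Type 0), with H central in G (every point of G commutes with every
point of H). If H ×_S S₀ and H' ×_S S₀ coincide as subgroups of G ×_S S₀, then H = H' as subgroups
of G: there is an isomorphism H ≅ H' compatible with i and i'. -/
theorem result {R : Type u} [CommRing R] (J : Ideal R) (hJ : IsNilpotent J)
    (G H H' : Over (Spec (CommRingCat.of R))) [GrpObj G] [GrpObj H] [GrpObj H']
    (hH : TwC.Locally (Spec (CommRingCat.of R)) TwC.Topology.fpqc (fun S' f => ∃ (M : Type) (_ : AddCommGroup M), Nonempty (Grp.mk (Red.bc f H) ≅ Grp.mk (Red.DS S' M))))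
    (hH' : TwC.Locally (Spec (CommRingCat.of R)) TwC.Topology.fpqc (fun S' f => ∃ (M : Type) (_ : AddCommGroup M), Nonempty (Grp.mk (Red.bc f H') ≅ Grp.mk (Red.DS S' M))))
    (i : H ⟶ G) [IsMonHom i] [IsImmersion i.left] (i' : H' ⟶ G) [IsMonHom i'] [IsImmersion i'.left]
    (hc : ∀ (X : Over (Spec (CommRingCat.of R))) (g : X ⟶ G) (h : X ⟶ H), g * (h ≫ i) = (h ≫ i) * g)
    (h0 : ∃ ψ : Red.bc (Spec.map (CommRingCat.ofHom (Ideal.Quotient.mk J))) H ≅ Red.bc (Spec.map (CommRingCat.ofHom (Ideal.Quotient.mk J))) H',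
      ψ.hom ≫ (Over.pullback (Spec.map (CommRingCat.ofHom (Ideal.Quotient.mk J)))).map i' = (Over.pullback (Spec.map (CommRingCat.ofHom (Ideal.Quotient.mk J)))).map i) :
    ∃ φ : H ≅ H', φ.hom ≫ i' = i := by
  obtain ⟨ψ₀, hψ₀⟩ := h0
  have hψ₀' : ψ₀.inv ≫ (Over.pullback (Spec.map (CommRingCat.ofHom (Ideal.Quotient.mk J)))).map i =
      (Over.pullback (Spec.map (CommRingCat.ofHom (Ideal.Quotient.mk J)))).map i' := by
    rw [Iso.inv_comp_eq, hψ₀]
  have hm : Mono i.left := inferInstance
  have hm' : Mono i'.left := inferInstance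
  have hmono : Mono i := (Over.forget _).mono_of_mono_map (by
    show Mono i.left
    infer_instance)
  have hmono' : Mono i' := (Over.forget _).mono_of_mono_map (by
    show Mono i'.left
    infer_instance)
  obtain ⟨ψ, hψ⟩ := Groth.Agent.Lib.Helper15HomLift.exists_factor_global J hJ G H H' hH hH' i i'
    (fun Y x h => hc Y (x ≫ i') h)
    (fun Y p h => Groth.Agent.Lib.Helper15HomLift.pts_of_bc _ i i' ψ₀.hom hψ₀ Y p h)
  obtain ⟨ψ', hψ'⟩ := Groth.Agent.Lib.Helper15HomLift.exists_factor_global J hJ G H' H hH' hH i' i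
    (fun Y x h => (hc Y (h ≫ i') x).symm)
    (fun Y p h => Groth.Agent.Lib.Helper15HomLift.pts_of_bc _ i' i ψ₀.inv hψ₀' Y p h)
  refine ⟨⟨ψ, ψ', ?_, ?_⟩, hψ⟩
  · rw [← cancel_mono i, Category.assoc, hψ', hψ, Category.id_comp]
  · rw [← cancel_mono i', Category.assoc, hψ, hψ', Category.id_comp]

end Groth.Agent.S5290
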