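import Groth.Statements.S5310
import Mathlib
import Groth.Agent.Lib.Helper15PLocGrp
import Groth.Agent.Lib.Helper15PLocSq
import Groth.Agent.Lib.Helper20FlatDescSch

set_option autoImplicit false
universe u
open CategoryTheory CategoryTheory.Limits MonoidalCategory CartesianMonoidalCategory MonObj GrpObj AlgebraicGeometry
open SGA3

namespace Groth.Agent.S5310

/-- Let u : G → H be a homomorphism of S-group schemes, with G or H flat over S and G or H locally of
finite presentation over S. Let P be one of the properties 'flat and locally of finite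
presentation', 'smooth', 'etale', and let V be the largest open subscheme of G on which the
restriction of u has P. Then the image U of V in S is open and V is an open subgroup scheme of G
over U: V contains the unit point of every fibre of G that it meets, V is stable under the inversion
of G, and the product of a point of G ×_S G whose two projections lie in V lies in V. -/
theorem result (S : Scheme.{u}) (G H : Over S) [GrpObj G] [GrpObj H]
    (u : G ⟶ H) [IsMonHom u]
    (hfl : Flat G.hom ∨ Flat H.hom) (hfp : LocallyOfFinitePresentation G.hom ∨ LocallyOfFinitePresentation H.hom)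
    (P : MorphismProperty Scheme.{u})
    (hP : (∀ (X Y : Scheme.{u}) (f : X ⟶ Y), P f ↔ (Flat f ∧ LocallyOfFinitePresentation f)) ∨
      (∀ (X Y : Scheme.{u}) (f : X ⟶ Y), P f ↔ Smooth f) ∨ (∀ (X Y : Scheme.{u}) (f : X ⟶ Y), P f ↔ Etale f))
    (V : G.left.Opens) (hV : P (V.ι ≫ u.left)) (hmax : ∀ W : G.left.Opens, P (W.ι ≫ u.left) → W ≤ V) :
    IsOpen (G.hom.base '' (V : Set G.left)) ∧
    (∀ g ∈ V, ∀ p : ↥(𝟙_ (Over S)).left, (𝟙_ (Over S)).hom.base p = G.hom.base g → η[G].left.base p ∈ V) ∧
    (∀ g ∈ V, ι[G].left.base g ∈ V) ∧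
    (∀ z : ↥(G ⊗ G).left, (fst G G).left.base z ∈ V → (snd G G).left.base z ∈ V → μ[G].left.base z ∈ V) := by
  have hdescS : ∀ {X Y Y' Ω : Scheme.{u}} (f : X ⟶ Y) (g : Y' ⟶ Y) (a : Ω ⟶ Y') (b : Ω ⟶ X)
      (h : b ≫ f = a ≫ g), Flat f → LocallyOfFinitePresentation f → Flat g →
      IsOpenImmersion (pullback.lift b a h) → Surjective b → Smooth a → Smooth f := by
    intro X Y Y' Ω f g a b h hf hfp hg hj hb ha
    apply Groth.Agent.Lib.Helper20.FlatDesc.of_forall_exists_nbhd (P := @Smooth)
    intro x
    obtain ⟨ω, rfl⟩ := b.surjective x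
    exact (Groth.Agent.Lib.Helper15PLocSq.exists_nbhd_of_square f g a b h ω).1 ha
  have hdescE : ∀ {X Y Y' Ω : Scheme.{u}} (f : X ⟶ Y) (g : Y' ⟶ Y) (a : Ω ⟶ Y') (b : Ω ⟶ X)
      (h : b ≫ f = a ≫ g), Flat f → LocallyOfFinitePresentation f → Flat g →
      IsOpenImmersion (pullback.lift b a h) → Surjective b → Etale a → Etale f := by
    intro X Y Y' Ω f g a b h hf hfp hg hj hb ha
    apply Groth.Agent.Lib.Helper20.FlatDesc.of_forall_exists_nbhd (P := @Etale)
    intro x
    obtain ⟨ω, rfl⟩ := b.surjective x
    exact (Groth.Agent.Lib.Helper15PLocSq.exists_nbhd_of_square f g a b h ω).2 ha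
  rcases hP with hP | hP | hP
  · have hPeq : P = (@Flat ⊓ @LocallyOfFinitePresentation : MorphismProperty Scheme.{u}) := by
      ext X Y f
      exact hP X Y f
    subst hPeq
    exact Groth.Agent.Lib.Helper15PLocGrp.core S G H u hfl hfp _
      (fun f hf => ⟨hf.1, hf.2⟩)
      (fun f g a b h hf hfp _ _ _ _ => ⟨hf, hfp⟩) V hV hmax
  · have hPeq : P = (@Smooth : MorphismProperty Scheme.{u}) := by
      ext X Y f
      exact hP X Y f
    subst hPeq
    exact Groth.Agent.Lib.Helper15PLocGrp.core S G H u hfl hfp _
      (fun f hf => by have : Smooth f := hf; exact ⟨inferInstance, inferInstance⟩)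
      hdescS V hV hmax
  · have hPeq : P = (@Etale : MorphismProperty Scheme.{u}) := by
      ext X Y f
      exact hP X Y f
    subst hPeq
    exact Groth.Agent.Lib.Helper15PLocGrp.core S G H u hfl hfp _
      (fun f hf => by have : Etale f := hf; exact ⟨inferInstance, inferInstance⟩)
      hdescE V hV hmax

end Groth.Agent.S5310
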