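import Groth.Statements.S5312
import Groth.Agent.Lib.Helper3Isog
import Mathlib

set_option autoImplicit false
universe u
open CategoryTheory CategoryTheory.Limits MonoidalCategory CartesianMonoidalCategory MonObj GrpObj AlgebraicGeometry
open SGA3

namespace Groth.Agent.S5312

open Groth.Agent.Lib.Helper3.Isog Groth.Agent.Lib.Helper3.GrpFlat Groth.Agent.Lib.Helper3.GrpHomQF
open scoped Obj

section
variable {S : Scheme.{u}} (G H : Over S) [GrpObj G] [GrpObj H] (u : G ⟶ H) [IsMonHom u]
    [Flat G.hom] [LocallyOfFinitePresentation G.hom] [LocallyOfFiniteType H.hom]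

theorem lfp_hom : LocallyOfFinitePresentation u.left :=
  Groth.Agent.Lib.Helper6.locallyOfFinitePresentation_of_comp (g := H.hom) inferInstance
    (by rw [Over.w u]; infer_instance)

set_option maxHeartbeats 1600000 in
/-- the fibre `u_s` is flat iff `u` is flat at (any) point `x` over `s`. -/
theorem flat_fibre_iff (x : G.left) :
    Flat ((Over.pullback (S.fromSpecResidueField (G.hom x))).map u).left ↔
      (u.left.stalkMap x).hom.Flat := by
  haveI := lfp_hom G H u
  have hw : u.left ≫ H.hom = G.hom := Over.w u
  let s := G.hom x
  let t := S.fromSpecResidueField s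
  let Gs : Over (Spec (CommRingCat.of (S.residueField s))) := (Over.pullback t).obj G
  let Hs : Over (Spec (CommRingCat.of (S.residueField s))) := (Over.pullback t).obj H
  let us : Gs ⟶ Hs := (Over.pullback t).map u
  haveI : IsMonHom us := inferInstanceAs (IsMonHom ((Over.pullback t).map u))
  have hpb : IsPullback (pullback.fst G.hom t) us.left u.left (pullback.fst H.hom t) :=
    isPullback_overPullback_map G H u t
  haveI : LocallyOfFinitePresentation us.left :=
    MorphismProperty.of_isPullback (P := @LocallyOfFinitePresentation) hpb inferInstance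
  haveI : Flat Gs.hom := inferInstanceAs (Flat (pullback.snd G.hom t))
  -- a point of the fibre over `x`
  have hx : x ∈ Set.range (G.hom.fiberι s) := by
    rw [Scheme.Hom.range_fiberι]
    rfl
  obtain ⟨z₀, hz₀⟩ := hx
  have hz₀' : pullback.fst G.hom t z₀ = x := hz₀
  show Flat us.left ↔ _
  constructor
  · intro hfl
    -- fibre criterion
    haveI : LocallyOfFinitePresentation (u.left ≫ H.hom) := by rw [hw]; infer_instance
    haveI : Flat (u.left ≫ H.hom) := by rw [hw]; infer_instance
    let FM := MoreMor.fiberMap u.left H.hom s
    have hpbFM : IsPullback ((u.left ≫ H.hom).fiberι s) FM u.left (H.hom.fiberι s) :=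
      Groth.Agent.Lib.Helper3.BaseMap.isPullback_baseMap u.left H.hom t
    have he : (hpbFM.isoIsPullback _ _ hpb).hom ≫ us.left = FM :=
      IsPullback.isoIsPullback_hom_snd _ _ hpbFM hpb
    haveI : Flat FM := by
      rw [← he]
      exact (MorphismProperty.cancel_left_of_respectsIso @Flat _ _).mpr hfl
    have hx' : x ∈ Set.range ((u.left ≫ H.hom).fiberι s) := by
      rw [Scheme.Hom.range_fiberι]
      show (u.left ≫ H.hom) x = G.hom x
      rw [hw]
    obtain ⟨z, hz⟩ := hx'
    have := flat_stalkMap_of_flat_of_fiberMap' u.left H.hom s z
      (Flat.stalkMap (u.left ≫ H.hom) _) (Flat.stalkMap FM z)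
    rw [hz] at this
    exact this
  · intro hfl
    have h0 : (us.left.stalkMap z₀).hom.Flat := by
      apply flat_stalkMap_of_isPullback hpb z₀
      rw [hz₀']
      exact hfl
    refine Flat.of_stalkMap _ (fun z => ?_)
    exact (flat_hom_iff_of_base_eq Gs Hs us z z₀ (Subsingleton.elim _ _)).mpr h0

end

/-- Let u : G → H be a homomorphism of S-group schemes, with G flat and locally of finite presentation
over S and H locally of finite type over S. Then the set U of points s of S such that the fibre u_s
: G_s → H_s over κ(s) is flat is open in S, and the set of points of G at which u is flat (the local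
ring of G is flat over that of H) is the inverse image of U in G. (The published statement assumes
the finiteness and flatness conditions only at the points of the unit sections for the openness of
U; this row assumes them on all of G and H, the case in which the second assertion is stated.) -/
theorem result (S : Scheme.{u}) (G H : Over S) [GrpObj G] [GrpObj H] (u : G ⟶ H) [IsMonHom u]
    [Flat G.hom] [LocallyOfFinitePresentation G.hom] [LocallyOfFiniteType H.hom] :
    IsOpen {s : S | Flat ((Over.pullback (S.fromSpecResidueField s)).map u).left} ∧
    {x : G.left | (u.left.stalkMap x).hom.Flat} = G.hom.base ⁻¹' {s : S | Flat ((Over.pullback (S.fromSpecResidueField s)).map u).left} := by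
  haveI := lfp_hom G H u
  have hb : ∀ x : G.left, (u.left.stalkMap x).hom.Flat ↔
      Flat ((Over.pullback (S.fromSpecResidueField (G.hom x))).map u).left :=
    fun x => (flat_fibre_iff G H u x).symm
  refine ⟨?_, ?_⟩
  · have hO : IsOpen {x : G.left | (u.left.stalkMap x).hom.Flat} :=
      Groth.Agent.S0386.result u.left
    have hc : Continuous (Groth.Agent.Lib.Helper3.GrpFibDim.unitSec G) :=
      (Groth.Agent.Lib.Helper3.GrpFibDim.unitSec G).continuous
    convert hO.preimage hc using 1
    ext s
    simp only [Set.mem_setOf_eq, Set.mem_preimage]
    rw [hb, Groth.Agent.Lib.Helper3.GrpFibDim.hom_unitSec]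
  · ext x
    simp only [Set.mem_setOf_eq, Set.mem_preimage]
    exact hb x

end Groth.Agent.S5312
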