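import Groth.Statements.S5315
import Groth.Agent.Lib.Helper3GrpHomQF
import Mathlib

set_option autoImplicit false
universe u
open CategoryTheory CategoryTheory.Limits MonoidalCategory CartesianMonoidalCategory MonObj GrpObj AlgebraicGeometry
open SGA3

namespace Groth.Agent.S5315

/-- Let u : G → H be a homomorphism of S-group schemes which is locally of finite type, and suppose
every fibre G_s is locally of finite type over κ(s). Then the set U of points s of S such that u_s :
G_s → H_s is locally quasi-finite is open in S, and the set of points of G at which u is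
quasi-finite (u is locally quasi-finite on some open neighbourhood) is the inverse image of U in G.
(The published statement assumes u locally of finite type only near the unit section for the
openness of U; this row assumes it on all of G, the case in which the second assertion is stated.) -/
theorem result (S : Scheme.{u}) (G H : Over S) [GrpObj G] [GrpObj H] (u : G ⟶ H)
    [IsMonHom u] [LocallyOfFiniteType u.left] (hG : ∀ s : S, LocallyOfFiniteType (G.hom.fiberToSpecResidueField s)) :
    IsOpen {s : S | LocallyQuasiFinite ((Over.pullback (S.fromSpecResidueField s)).map u).left} ∧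
    {x : G.left | ∃ W : G.left.Opens, x ∈ W ∧ LocallyQuasiFinite (W.ι ≫ u.left)} =
      G.hom.base ⁻¹' {s : S | LocallyQuasiFinite ((Over.pullback (S.fromSpecResidueField s)).map u).left} := by
  have hA : IsOpen {x : G.left | FlatMor.fibreDimAt u.left x ≤ 0} := by
    have := Groth.Agent.S0402.result u.left 0
    simpa using this
  have hU : {s : S | LocallyQuasiFinite ((Over.pullback (S.fromSpecResidueField s)).map u).left} =
      (Groth.Agent.Lib.Helper3.GrpFibDim.unitSec G) ⁻¹' {x : G.left | FlatMor.fibreDimAt u.left x ≤ 0} := by
    ext s
    exact Groth.Agent.Lib.Helper3.GrpHomQF.locallyQuasiFinite_fibre_iff G H u s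
  refine ⟨?_, ?_⟩
  · rw [hU]
    exact hA.preimage (Groth.Agent.Lib.Helper3.GrpFibDim.unitSec G).continuous
  · rw [hU]
    ext x
    simp only [Set.mem_ofPred_eq, Set.mem_preimage]
    rw [← Groth.Agent.Lib.Helper3.GrpHomQF.fibreDimAt_hom_eq_unitSec G H u x]
    constructor
    · rintro ⟨W, hxW, hW⟩
      have := (Groth.Agent.Lib.Helper3.GrpHomQF.locallyQuasiFinite_iff_forall_fibreDimAt_le_zero
        (W.ι ≫ u.left)).mp hW ⟨x, hxW⟩
      rw [Groth.Agent.Lib.Helper3.FlatFibDim.fibreDimAt_comp_of_isOpenImmersion] at this
      exact this
    · intro hx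
      refine ⟨⟨_, hA⟩, hx, ?_⟩
      rw [Groth.Agent.Lib.Helper3.GrpHomQF.locallyQuasiFinite_iff_forall_fibreDimAt_le_zero]
      intro w
      rw [Groth.Agent.Lib.Helper3.FlatFibDim.fibreDimAt_comp_of_isOpenImmersion]
      exact w.2

end Groth.Agent.S5315
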