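import Groth.Statements.S5317
import Groth.Agent.Lib.Helper3GrpLocusD
import Groth.Agent.S3694
import Groth.Agent.S5314
import Mathlib

set_option autoImplicit false
universe u
open CategoryTheory CategoryTheory.Limits MonoidalCategory CartesianMonoidalCategory MonObj GrpObj AlgebraicGeometry
open SGA3

namespace Groth.Agent.S5317

open Groth.Agent.Lib.Helper3.GrpLocus Groth.Agent.Lib.Helper3.GrpHomQF

/-- Let u : G → H be a homomorphism of S-group schemes which is universally injective (for instance a
monomorphism), with G flat and locally of finite presentation over S and H locally of finite type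
over S. Then the set U of points s of S such that u_s : G_s → H_s is an open immersion is open in S,
and the restriction of u over every open of S contained in U is an open immersion. -/
theorem result (S : Scheme.{u}) (G H : Over S) [GrpObj G] [GrpObj H]
    (u : G ⟶ H) [IsMonHom u] [UniversallyInjective u.left]
    [Flat G.hom] [LocallyOfFinitePresentation G.hom] [LocallyOfFiniteType H.hom] :
    IsOpen {s : S | IsOpenImmersion ((Over.pullback (S.fromSpecResidueField s)).map u).left} ∧
    ∀ W : S.Opens, (W : Set S) ⊆ {s : S | IsOpenImmersion ((Over.pullback (S.fromSpecResidueField s)).map u).left} → IsOpenImmersion ((G.hom ⁻¹ᵁ W).ι ≫ u.left) := by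
  have hiff : ∀ s : S, IsOpenImmersion ((Over.pullback (S.fromSpecResidueField s)).map u).left ↔
      Etale ((Over.pullback (S.fromSpecResidueField s)).map u).left := by
    intro s
    constructor
    · intro h
      infer_instance
    · intro h
      have hpb := isPullback_overPullback_map G H u (S.fromSpecResidueField s)
      haveI : UniversallyInjective ((Over.pullback (S.fromSpecResidueField s)).map u).left :=
        MorphismProperty.of_isPullback (P := @UniversallyInjective) hpb inferInstance
      exact Groth.Agent.S3694.result _
  have hset : {s : S | IsOpenImmersion ((Over.pullback (S.fromSpecResidueField s)).map u).left} =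
      {s : S | Etale ((Over.pullback (S.fromSpecResidueField s)).map u).left} := by
    ext s
    exact hiff s
  obtain ⟨h1, h2⟩ := Groth.Agent.S5314.result S G H u
  rw [hset]
  refine ⟨h1, ?_⟩
  intro W hW
  let V : G.left.Opens := G.hom ⁻¹ᵁ W
  have hloc : ∀ z : V, ∃ W' : (V : Scheme.{u}).Opens, z ∈ W' ∧ Etale (W'.ι ≫ V.ι ≫ u.left) := by
    intro z
    have hz : (z : G.left) ∈ G.hom.base ⁻¹' {s : S | Etale ((Over.pullback (S.fromSpecResidueField s)).map u).left} :=
      hW z.2
    rw [← h2] at hz
    obtain ⟨W', hzW', hW'⟩ := hz
    refine ⟨V.ι ⁻¹ᵁ W', hzW', ?_⟩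
    rw [← Category.assoc, ← morphismRestrict_ι, Category.assoc]
    infer_instance
  haveI : Etale (V.ι ≫ u.left) := by
    choose W' hzW' hW' using hloc
    rw [IsZariskiLocalAtSource.iff_of_iSup_eq_top (P := @Etale) W']
    · exact hW'
    · rw [eq_top_iff]
      intro z _
      exact TopologicalSpace.Opens.mem_iSup.mpr ⟨z, hzW' z⟩
  haveI : UniversallyInjective (V.ι ≫ u.left) :=
    MorphismProperty.comp_mem @UniversallyInjective _ _ inferInstance inferInstance
  exact Groth.Agent.S3694.result (V.ι ≫ u.left)

end Groth.Agent.S5317
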