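import Groth.Statements.S5319
import Groth.Agent.Lib.Helper3GrpHomQF
import Mathlib

set_option autoImplicit false
universe u
open CategoryTheory CategoryTheory.Limits MonoidalCategory CartesianMonoidalCategory MonObj GrpObj AlgebraicGeometry
open SGA3

namespace Groth.Agent.S5319

/-- Let u : G → H be a homomorphism of S-group schemes which is locally of finite type, with every fibre
G_s locally of finite type over κ(s), and let i : K → G be the kernel of u (the square i, u, unit of
H is cartesian). The following are equivalent: u is locally quasi-finite; every fibre u_s : G_s →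
H_s is locally quasi-finite; K is locally quasi-finite over S; every fibre of K over S is a discrete
space. -/
theorem result (S : Scheme.{u}) (G H : Over S) [GrpObj G] [GrpObj H] (u : G ⟶ H) [IsMonHom u]
    [LocallyOfFiniteType u.left] (hG : ∀ s : S, LocallyOfFiniteType (G.hom.fiberToSpecResidueField s)) (K : Over S) [GrpObj K] (i : K ⟶ G) [IsMonHom i] (hK : AlgGrp.IsKernel i u) :
    (LocallyQuasiFinite u.left ↔ ∀ s : S, LocallyQuasiFinite ((Over.pullback (S.fromSpecResidueField s)).map u).left) ∧
    (LocallyQuasiFinite u.left ↔ LocallyQuasiFinite K.hom) ∧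
    (LocallyQuasiFinite u.left ↔ ∀ s : S, DiscreteTopology ↥(K.hom.base ⁻¹' {s})) := by
  have hpb : IsPullback i.left K.hom u.left (η[H] : 𝟙_ (Over S) ⟶ H).left := by
    have := IsPullback.map (Over.forget S) hK
    simpa using this
  haveI : LocallyOfFiniteType K.hom := MorphismProperty.of_isPullback hpb ‹_›
  -- characterisation through the unit section
  have h0 : LocallyQuasiFinite u.left ↔ ∀ s : S,
      FlatMor.fibreDimAt u.left (Groth.Agent.Lib.Helper3.GrpFibDim.unitSec G s) ≤ 0 := by
    rw [Groth.Agent.Lib.Helper3.GrpHomQF.locallyQuasiFinite_iff_forall_fibreDimAt_le_zero]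
    constructor
    · intro h s
      exact h _
    · intro h x
      rw [Groth.Agent.Lib.Helper3.GrpHomQF.fibreDimAt_hom_eq_unitSec G H u x]
      exact h _
  have h1 : LocallyQuasiFinite u.left ↔ ∀ s : S,
      LocallyQuasiFinite ((Over.pullback (S.fromSpecResidueField s)).map u).left := by
    rw [h0]
    exact forall_congr' fun s =>
      (Groth.Agent.Lib.Helper3.GrpHomQF.locallyQuasiFinite_fibre_iff G H u s).symm
  have h2 : LocallyQuasiFinite u.left ↔ LocallyQuasiFinite K.hom := by
    constructor
    · intro h
      exact MorphismProperty.of_isPullback hpb h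
    · intro h
      rw [h0]
      intro s
      have hk := (Groth.Agent.Lib.Helper3.GrpHomQF.locallyQuasiFinite_iff_forall_fibreDimAt_le_zero
        K.hom).mp h (Groth.Agent.Lib.Helper3.GrpFibDim.unitSec K s)
      rw [Groth.Agent.Lib.Helper3.LocDimBC.fibreDimAt_eq_of_isPullback u.left _ _ _ hpb] at hk
      have he : i.left (Groth.Agent.Lib.Helper3.GrpFibDim.unitSec K s) =
          Groth.Agent.Lib.Helper3.GrpFibDim.unitSec G s := by
        show (η[K].left ≫ i.left) s = η[G].left s
        rw [← Over.comp_left, IsMonHom.one_hom]
      rw [he] at hk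
      exact hk
  refine ⟨h1, h2, ?_⟩
  rw [h2, locallyQuasiFinite_iff_isDiscrete_preimage_singleton]
  exact forall_congr' fun s => isDiscrete_iff_discreteTopology

end Groth.Agent.S5319
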