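import Groth.Statements.S5320
import Groth.Agent.Lib.Helper3GrpLocusD
import Groth.Agent.Lib.Helper3GrpKer
import Mathlib

set_option autoImplicit false
universe u
open CategoryTheory CategoryTheory.Limits MonoidalCategory CartesianMonoidalCategory MonObj GrpObj AlgebraicGeometry
open SGA3

namespace Groth.Agent.S5320

open Groth.Agent.Lib.Helper3.GrpLocus Groth.Agent.Lib.Helper3.GrpHomQF Groth.Agent.Lib.Helper3.GrpKer

section
variable {S : Scheme.{u}} (G H : Over S) [GrpObj G] [GrpObj H] (u : G ⟶ H) [IsMonHom u]

/-- unramifiedness of a homomorphism is fibrewise. -/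
theorem unramified_iff_fibres [LocallyOfFiniteType u.left] :
    FormallyUnramified u.left ↔
      ∀ s : S, FormallyUnramified ((Over.pullback (S.fromSpecResidueField s)).map u).left := by
  constructor
  · intro h s
    exact MorphismProperty.of_isPullback (P := @FormallyUnramified)
      (isPullback_overPullback_map G H u (S.fromSpecResidueField s)) h
  · intro h
    rw [← locus_eq_univ_iff @FormallyUnramified u.left, Set.eq_univ_iff_forall]
    intro x
    exact mem_locus_unramified_of_fibre G H u x (h _)

/-- a section of a formally unramified morphism locally of finite type is an open immersion. -/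
theorem isOpenImmersion_of_section {X Y : Scheme.{u}} (e : Y ⟶ X) (f : X ⟶ Y) (h : e ≫ f = 𝟙 Y)
    [FormallyUnramified f] [LocallyOfFiniteType f] : IsOpenImmersion e := by
  haveI : MorphismProperty.HasOfPostcompProperty @IsOpenImmersion
      (@FormallyUnramified ⊓ @LocallyOfFiniteType : MorphismProperty Scheme.{u}) :=
    MorphismProperty.hasOfPostcompProperty_iff_le_diagonal.mpr (fun X Y f hf => by
      haveI := hf.1
      haveI := hf.2
      exact inferInstanceAs (IsOpenImmersion (pullback.diagonal f)))
  exact MorphismProperty.of_postcomp (W := @IsOpenImmersion)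
    (W' := (@FormallyUnramified ⊓ @LocallyOfFiniteType : MorphismProperty Scheme.{u})) e f
    ⟨inferInstance, inferInstance⟩ (by rw [h]; infer_instance)

variable (K : Over S) [GrpObj K] (i : K ⟶ G) [IsMonHom i]

set_option maxHeartbeats 1600000 in
/-- if the unit section of the kernel is an open immersion, the homomorphism is unramified. -/
theorem unramified_of_isOpenImmersion_unit (hK : IsPullback i (toUnit K) u η[H])
    [IsOpenImmersion η[K].left] : FormallyUnramified u.left := by
  have hT := (isPullback_torsor' u i hK).map (Over.forget S)
  simp only [Over.forget_obj, Over.forget_map] at hT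
  let σ : G ⟶ G ⊗ K := lift (𝟙 G) (toUnit G ≫ η[K])
  have hσ := (isPullback_lift_const G η[K]).map (Over.forget S)
  simp only [Over.forget_obj, Over.forget_map] at hσ
  haveI : IsOpenImmersion σ.left :=
    MorphismProperty.of_isPullback (P := @IsOpenImmersion) hσ.flip inferInstance
  have h1 : σ ≫ fst G K = 𝟙 G := lift_fst _ _
  have h2 : σ ≫ (fst G K * (snd G K ≫ i)) = 𝟙 G := by
    rw [MonObj.comp_mul, h1, ← Category.assoc, lift_snd, Category.assoc, IsMonHom.one_hom,
      ← Hom.one_def, _root_.mul_one]
  have hd : σ.left ≫ hT.isoPullback.hom = pullback.diagonal u.left := by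
    apply pullback.hom_ext
    · rw [Category.assoc, IsPullback.isoPullback_hom_fst, pullback.diagonal_fst, ← Over.comp_left,
        h1]
      rfl
    · rw [Category.assoc, IsPullback.isoPullback_hom_snd, pullback.diagonal_snd, ← Over.comp_left,
        h2]
      rfl
  haveI : IsOpenImmersion (pullback.diagonal u.left) := by
    rw [← hd]
    infer_instance
  infer_instance

end

/-- Let u : G → H be a homomorphism of S-group schemes which is locally of finite presentation, with
every fibre G_s locally of finite type over κ(s), and let i : K → G be the kernel of u (the square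
i, u, unit of H is cartesian, K with the group structure making i a homomorphism). The following are
equivalent: u is unramified (formally unramified); every fibre u_s : G_s → H_s is unramified; K is
unramified over S; the unit section of K is an open immersion. -/
theorem result (S : Scheme.{u}) (G H : Over S) [GrpObj G] [GrpObj H] (u : G ⟶ H) [IsMonHom u]
    [LocallyOfFinitePresentation u.left] (hG : ∀ s : S, LocallyOfFiniteType (G.hom.fiberToSpecResidueField s)) (K : Over S) [GrpObj K] (i : K ⟶ G) [IsMonHom i] (hK : AlgGrp.IsKernel i u) :
    (FormallyUnramified u.left ↔ ∀ s : S, FormallyUnramified ((Over.pullback (S.fromSpecResidueField s)).map u).left) ∧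
    (FormallyUnramified u.left ↔ FormallyUnramified K.hom) ∧
    (FormallyUnramified u.left ↔ IsOpenImmersion η[K].left) := by
  have hK' : IsPullback i (toUnit K) u η[H] := hK
  have hKl := hK'.map (Over.forget S)
  simp only [Over.forget_obj, Over.forget_map] at hKl
  have e1 : (toUnit K).left = K.hom := by
    have := Over.w (toUnit K)
    have e0 : (𝟙_ (Over S)).hom = 𝟙 _ := rfl
    rw [e0, Category.comp_id] at this
    exact this
  rw [e1] at hKl
  haveI : LocallyOfFinitePresentation K.hom :=
    MorphismProperty.of_isPullback (P := @LocallyOfFinitePresentation) hKl inferInstance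
  have hAC : FormallyUnramified u.left → FormallyUnramified K.hom := fun h =>
    MorphismProperty.of_isPullback (P := @FormallyUnramified) hKl h
  have hCD : FormallyUnramified K.hom → IsOpenImmersion η[K].left := fun h => by
    haveI := h
    refine isOpenImmersion_of_section η[K].left K.hom ?_
    have := Over.w η[K]
    exact this
  have hDA : IsOpenImmersion η[K].left → FormallyUnramified u.left := fun h => by
    haveI := h
    exact unramified_of_isOpenImmersion_unit G H u K i hK'
  exact ⟨unramified_iff_fibres G H u, ⟨hAC, fun h => hDA (hCD h)⟩, ⟨fun h => hCD (hAC h), hDA⟩⟩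

end Groth.Agent.S5320
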