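import Groth.Statements.S5327
import Groth.Agent.S5328
import Mathlib

set_option autoImplicit false
universe u
open CategoryTheory CategoryTheory.Limits MonoidalCategory CartesianMonoidalCategory MonObj GrpObj AlgebraicGeometry
open SGA3

namespace Groth.Agent.S5327

open Groth.Agent.Lib.Helper3.Isog Groth.Agent.Lib.Helper3.GrpFlat Groth.Agent.Lib.Helper3.GrpHomQF
  Groth.Agent.Lib.Helper3.GrpNeutral Groth.Agent.Lib.Helper25.IdComp Groth.Agent.S5328
open scoped Obj

/-- Let G be an S-group scheme whose fibres are locally of finite type over κ(s), and let i : H → G be a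
homomorphism of S-group schemes which is an open immersion (an open subgroup scheme). Then the union
G⁰ of the neutral components of the fibres of G is contained in the image of i, and G⁰ is the image
under i of the union H⁰ of the neutral components of the fibres of H. -/
theorem result (S : Scheme.{u}) (G H : Over S) [GrpObj G] [GrpObj H]
    (hG : ∀ s : S, LocallyOfFiniteType (G.hom.fiberToSpecResidueField s)) (i : H ⟶ G) [IsMonHom i]
    [IsOpenImmersion i.left] :
    SGA3x.neutralSet G ⊆ Set.range i.left.base ∧ i.left.base '' SGA3x.neutralSet H = SGA3x.neutralSet G := by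
  have hw : i.left ≫ G.hom = H.hom := Over.w i
  have key : ∀ s : S, ∃ (us : (Over.pullback (S.fromSpecResidueField s)).obj H ⟶
      (Over.pullback (S.fromSpecResidueField s)).obj G), IsMonHom us ∧
      IsPullback (pullback.fst H.hom (S.fromSpecResidueField s)) us.left i.left
        (pullback.fst G.hom (S.fromSpecResidueField s)) := fun s =>
    ⟨(Over.pullback (S.fromSpecResidueField s)).map i,
      inferInstanceAs (IsMonHom ((Over.pullback (S.fromSpecResidueField s)).map i)),
      isPullback_overPullback_map H G i (S.fromSpecResidueField s)⟩
  have hptG : ∀ y : G.left, ∃ z : ((Over.pullback (S.fromSpecResidueField (G.hom y))).obj G).left,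
      pullback.fst G.hom (S.fromSpecResidueField (G.hom y)) z = y := by
    intro y
    have : y ∈ Set.range (G.hom.fiberι (G.hom y)) := by
      rw [Scheme.Hom.range_fiberι]
      rfl
    exact this
  have hptH : ∀ x : H.left, ∃ z : ((Over.pullback (S.fromSpecResidueField (H.hom x))).obj H).left,
      pullback.fst H.hom (S.fromSpecResidueField (H.hom x)) z = x := by
    intro x
    have : x ∈ Set.range (H.hom.fiberι (H.hom x)) := by
      rw [Scheme.Hom.range_fiberι]
      rfl
    exact this
  have hfib : ∀ s : S, ∀ (us : (Over.pullback (S.fromSpecResidueField s)).obj H ⟶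
      (Over.pullback (S.fromSpecResidueField s)).obj G), IsMonHom us →
      IsPullback (pullback.fst H.hom (S.fromSpecResidueField s)) us.left i.left
        (pullback.fst G.hom (S.fromSpecResidueField s)) →
      us.left '' connectedComponent (ePt (k := S.residueField s)
        (Red.bc (S.fromSpecResidueField s) H)) = connectedComponent (ePt (k := S.residueField s)
        (Red.bc (S.fromSpecResidueField s) G)) := by
    intro s us hmon hpb
    haveI := hmon
    haveI : IsOpenImmersion us.left :=
      MorphismProperty.of_isPullback (P := @IsOpenImmersion) hpb inferInstance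
    haveI : LocallyOfFiniteType ((Over.pullback (S.fromSpecResidueField s)).obj G).hom := hG s
    haveI : LocallyOfFiniteType ((Over.pullback (S.fromSpecResidueField s)).obj H).hom := by
      rw [← Over.w us]
      infer_instance
    exact image_connectedComponent_ePt (k := S.residueField s)
      (Red.bc (S.fromSpecResidueField s) H) (Red.bc (S.fromSpecResidueField s) G) us
      us.left.isOpenEmbedding.isOpenMap
  have himg : i.left.base '' SGA3x.neutralSet H = SGA3x.neutralSet G := by
    apply Set.Subset.antisymm
    · rintro _ ⟨x, hx, rfl⟩
      obtain ⟨us, hmon, hpb⟩ := key (H.hom x)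
      obtain ⟨z, hz⟩ := hptH x
      rw [← hz, mem_neutralSet_iff] at hx
      have h1 : us.left z ∈ connectedComponent (ePt (k := S.residueField (H.hom x))
          (Red.bc (S.fromSpecResidueField (H.hom x)) G)) := by
        rw [← hfib _ us hmon hpb]
        exact ⟨z, hx, rfl⟩
      rw [← mem_neutralSet_iff] at h1
      have h2 : pullback.fst G.hom (S.fromSpecResidueField (H.hom x)) (us.left z) = i.left x := by
        rw [← Scheme.Hom.comp_apply, ← hpb.w, Scheme.Hom.comp_apply, hz]
      rw [h2] at h1
      exact h1
    · intro y hy
      obtain ⟨us, hmon, hpb⟩ := key (G.hom y)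
      obtain ⟨w, hw'⟩ := hptG y
      rw [← hw', mem_neutralSet_iff, ← hfib _ us hmon hpb] at hy
      obtain ⟨z, hz, rfl⟩ := hy
      refine ⟨pullback.fst H.hom _ z, (mem_neutralSet_iff H _ z).mpr hz, ?_⟩
      have h5 : (pullback.fst H.hom _ ≫ i.left) z = (us.left ≫ pullback.fst G.hom _) z := by
        rw [hpb.w]
      exact h5.trans hw'
  refine ⟨?_, himg⟩
  rw [← himg]
  rintro _ ⟨x, -, rfl⟩
  exact ⟨x, rfl⟩

end Groth.Agent.S5327
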