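import Groth.Statements.S5329
import Groth.Agent.Lib.Helper3GrpFibDim
import Mathlib

set_option autoImplicit false
universe u
open CategoryTheory CategoryTheory.Limits MonoidalCategory CartesianMonoidalCategory MonObj GrpObj AlgebraicGeometry
open SGA3

namespace Groth.Agent.S5329

/-- Let G be an S-group scheme locally of finite type over S. Then (i) s ↦ dim G_s is upper
semicontinuous on S; (ii) if G is locally of finite presentation over S, this function is locally
constructible: every point of S has an open neighbourhood V on which it takes finitely many values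
and on which each of its level sets is constructible. (The published statement is for an S-scheme
locally of finite type with a section ε such that dim G_s = dim_{ε(s)} G_s for all s; this row takes
the case of a group scheme, where that condition holds.) -/
theorem result (S : Scheme.{u}) (G : Over S) [GrpObj G] [LocallyOfFiniteType G.hom] :
    UpperSemicontinuous (fun s : S => topologicalKrullDim ↥(G.hom.base ⁻¹' {s})) ∧
    (LocallyOfFinitePresentation G.hom → ∀ s : S, ∃ V : S.Opens, s ∈ V ∧
      ((fun t : S => topologicalKrullDim ↥(G.hom.base ⁻¹' {t})) '' (V : Set S)).Finite ∧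
      ∀ d : WithBot ℕ∞, Topology.IsConstructible {t : V | topologicalKrullDim ↥(G.hom.base ⁻¹' {(t : S)}) = d}) := by
  refine ⟨Groth.Agent.Lib.Helper3.GrpFibDim.upperSemicontinuous_dim_fibre G, ?_⟩
  intro hfp s
  obtain ⟨_, ⟨V, hV, rfl⟩, hsV, -⟩ := S.isBasis_affineOpens.exists_subset_of_mem_open
    (Set.mem_univ s) isOpen_univ
  replace hV : IsAffineOpen V := hV
  refine ⟨V, hsV, ?_, ?_⟩
  · -- finitely many values on `V`
    have hcov : (V : Set S) ⊆ ⋃ n : ℕ, {t : S | topologicalKrullDim ↥(G.hom.base ⁻¹' {t}) ≤ n} := by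
      intro t _
      obtain ⟨n, hn⟩ := Groth.Agent.Lib.Helper3.GrpFibDim.exists_nat_fibreDimAt_eq G.hom
        (Groth.Agent.Lib.Helper3.GrpFibDim.unitSec G t)
      rw [← Groth.Agent.Lib.Helper3.GrpFibDim.dim_fibre_eq] at hn
      exact Set.mem_iUnion.mpr ⟨n, hn.le⟩
    have hdir : Directed (· ⊆ ·)
        (fun n : ℕ => {t : S | topologicalKrullDim ↥(G.hom.base ⁻¹' {t}) ≤ n}) := by
      apply Monotone.directed_le
      intro a b hab t ht
      have ht' : topologicalKrullDim ↥(G.hom.base ⁻¹' {t}) ≤ (a : WithBot ℕ∞) := ht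
      show topologicalKrullDim ↥(G.hom.base ⁻¹' {t}) ≤ (b : WithBot ℕ∞)
      exact le_trans ht' (by exact_mod_cast hab)
    obtain ⟨N, hN⟩ := hV.isCompact.elim_directed_cover _
      (fun n => Groth.Agent.Lib.Helper3.GrpFibDim.isOpen_setOf_dim_fibre_le G n) hcov hdir
    refine Set.Finite.subset ((Set.finite_le_nat N).image (fun k : ℕ => (k : WithBot ℕ∞))) ?_
    rintro _ ⟨t, ht, rfl⟩
    obtain ⟨n, hn⟩ := Groth.Agent.Lib.Helper3.GrpFibDim.exists_nat_fibreDimAt_eq G.hom
      (Groth.Agent.Lib.Helper3.GrpFibDim.unitSec G t)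
    rw [← Groth.Agent.Lib.Helper3.GrpFibDim.dim_fibre_eq] at hn
    have h1 : topologicalKrullDim ↥(G.hom.base ⁻¹' {t}) ≤ N := hN ht
    refine ⟨n, ?_, hn.symm⟩
    rw [hn] at h1
    exact_mod_cast h1
  · intro d
    have := Groth.Agent.Lib.Helper3.GrpFibDim.isConstructible_setOf_dim_fibre_eq G d
    exact this.preimage_of_isOpenEmbedding V.isOpen.isOpenEmbedding_subtypeVal

end Groth.Agent.S5329
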