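import Groth.Statements.S5333
import Mathlib

set_option autoImplicit false
universe u
open CategoryTheory CategoryTheory.Limits MonoidalCategory CartesianMonoidalCategory MonObj GrpObj AlgebraicGeometry
open SGA3

namespace Groth.Agent.S5333

section Dev
open TopologicalSpace

/-- a morphism from a reduced scheme landing set-theoretically in an immersion factors through it -/
theorem lift_of_reduced {X P U : Scheme.{u}} (j : X ⟶ P) [IsImmersion j] [IsReduced U] (u : U ⟶ P)
    (hu : Set.range u ⊆ Set.range j) : ∃ k : U ⟶ X, k ≫ j = u := by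
  let W := j.coborderRange
  have hW : Set.range u ⊆ Set.range W.ι := by
    rw [Scheme.Opens.range_ι]
    exact hu.trans subset_coborder
  let u' : U ⟶ W.toScheme := IsOpenImmersion.lift W.ι u hW
  have hu' : u' ≫ W.ι = u := IsOpenImmersion.lift_fac _ _ _
  let c := j.liftCoborder
  have hc : c ≫ W.ι = j := j.liftCoborder_ι
  have hsurj : Surjective (pullback.fst u' c) := by
    constructor
    intro y
    obtain ⟨x, hx⟩ := hu ⟨y, rfl⟩
    have h1 : u' y = c x := by
      apply W.ι.injective
      rw [← Scheme.Hom.comp_apply, ← Scheme.Hom.comp_apply, hu', hc, hx]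
    obtain ⟨q, hq1, -⟩ := Scheme.Pullback.exists_preimage_pullback (f := u') (g := c) y x h1
    exact ⟨q, hq1⟩
  have hiso : IsIso (pullback.fst u' c) := isIso_of_isClosedImmersion_of_surjective _
  refine ⟨inv (pullback.fst u' c) ≫ pullback.snd u' c, ?_⟩
  rw [Category.assoc, ← hc, ← Category.assoc (pullback.snd u' c), ← pullback.condition,
    Category.assoc, hu', IsIso.inv_hom_id_assoc]



theorem sep_of_crit {X S : Scheme.{u}} (f : X ⟶ S)
    (H : ∀ (T : Scheme.{u}) [IsReduced T] (g₁ g₂ : T ⟶ X) (U : T.Opens), g₁ ≫ f = g₂ ≫ f →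
      Dense (U : Set T) → U.ι ≫ g₁ = U.ι ≫ g₂ → g₁ = g₂) : IsSeparated f := by
  constructor
  apply IsClosedImmersion.of_isPreimmersion
  rw [← closure_subset_iff_isClosed]
  intro z hz
  set Δ := pullback.diagonal f with hΔ
  -- affine neighbourhood
  obtain ⟨_, ⟨O, hO, rfl⟩, hzO, -⟩ :=
    (pullback f f).isBasis_affineOpens.exists_subset_of_mem_open (Set.mem_univ z) isOpen_univ
  let R := Γ(pullback f f, O)
  let S₀ : Set (Spec R) := hO.fromSpec ⁻¹' (Set.range Δ)
  let I : Ideal R := PrimeSpectrum.vanishingIdeal S₀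
  have hIrad : I.IsRadical := PrimeSpectrum.isRadical_vanishingIdeal S₀
  have hred : _root_.IsReduced (R ⧸ I) := (Ideal.isRadical_iff_quotient_reduced I).mp hIrad
  let q : Spec (CommRingCat.of (R ⧸ I)) ⟶ Spec R := Spec.map (CommRingCat.ofHom (Ideal.Quotient.mk I))
  have hq : Set.range q = closure S₀ := by
    have := range_comap_of_surjective (R ⧸ I) (Ideal.Quotient.mk I)
      Ideal.Quotient.mk_surjective
    rw [Ideal.mk_ker, PrimeSpectrum.zeroLocus_vanishingIdeal_eq_closure] at this
    exact this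
  let iT : Spec (CommRingCat.of (R ⧸ I)) ⟶ pullback f f := q ≫ hO.fromSpec
  -- z is in the range of iT
  have hzT : z ∈ Set.range iT := by
    have hz0 : z ∈ Set.range hO.fromSpec := by rw [hO.range_fromSpec]; exact hzO
    obtain ⟨z₀, rfl⟩ := hz0
    have h1 : z₀ ∈ closure S₀ :=
      hO.fromSpec.isOpenEmbedding.isOpenMap.preimage_closure_subset_closure_preimage hz
    rw [← hq] at h1
    obtain ⟨t, rfl⟩ := h1
    exact ⟨t, rfl⟩
  have hrange : ∀ t, iT t ∈ closure (Set.range Δ) := by
    intro t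
    have h1 : q t ∈ closure S₀ := by rw [← hq]; exact ⟨t, rfl⟩
    have h2 : hO.fromSpec (q t) ∈ closure (hO.fromSpec '' S₀) :=
      image_closure_subset_closure_image hO.fromSpec.continuous ⟨_, h1, rfl⟩
    refine closure_mono ?_ h2
    rintro _ ⟨s, hs, rfl⟩
    exact hs
  let W := Δ.coborderRange
  let U : (Spec (CommRingCat.of (R ⧸ I))).Opens := iT ⁻¹ᵁ W
  have hU : ∀ t ∈ U, iT t ∈ Set.range Δ := by
    intro t ht
    have : iT t ∈ closure (Set.range Δ) ∩ coborder (Set.range Δ) := ⟨hrange t, ht⟩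
    rwa [closure_inter_coborder] at this
  have hdense : Dense (U : Set (Spec (CommRingCat.of (R ⧸ I)))) := by
    intro t
    rw [mem_closure_iff]
    intro N hN htN
    have hind : Topology.IsInducing q := q.isClosedEmbedding.isInducing
    obtain ⟨N', hN', rfl⟩ := hind.isOpen_iff.mp hN
    have h1 : q t ∈ closure S₀ := by rw [← hq]; exact ⟨t, rfl⟩
    obtain ⟨s, hsN, hsS⟩ := mem_closure_iff.mp h1 N' hN' htN
    have h2 : s ∈ Set.range q := by rw [hq]; exact subset_closure hsS
    obtain ⟨t', rfl⟩ := h2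
    refine ⟨t', hsN, ?_⟩
    show iT t' ∈ W
    exact subset_coborder hsS
  -- the two maps agree on U
  have hagree : U.ι ≫ (iT ≫ pullback.fst f f) = U.ι ≫ (iT ≫ pullback.snd f f) := by
    obtain ⟨k, hk⟩ := lift_of_reduced Δ (U.ι ≫ iT) (by
      rintro _ ⟨t, rfl⟩
      exact hU t.1 t.2)
    have e1 : (U.ι ≫ iT) ≫ pullback.fst f f = (U.ι ≫ iT) ≫ pullback.snd f f := by
      rw [← hk]; simp [Δ]
    simpa only [Category.assoc] using e1
  have heq := H _ (iT ≫ pullback.fst f f) (iT ≫ pullback.snd f f) U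
    (by simp only [Category.assoc, pullback.condition]) hdense hagree
  have hfac : iT = (iT ≫ pullback.fst f f) ≫ Δ := by
    apply pullback.hom_ext
    · simp [Δ]
    · rw [Category.assoc, Category.assoc]
      simp only [Δ, pullback.diagonal_snd, Category.comp_id]
      exact heq.symm
  obtain ⟨t, rfl⟩ := hzT
  rw [hfac]
  exact ⟨_, rfl⟩


theorem sep_of_pairs {X S : Scheme.{u}} (f : X ⟶ S)
    (H : ∀ x₁ x₂ : X, f x₁ = f x₂ →
      ∃ V : X.Opens, x₁ ∈ V ∧ x₂ ∈ V ∧ IsSeparated (V.ι ≫ f)) : IsSeparated f := by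
  constructor
  apply IsClosedImmersion.of_isPreimmersion
  rw [← isOpen_compl_iff, isOpen_iff_forall_mem_open]
  intro z hz
  set Δ := pullback.diagonal f with hΔ
  have hcond : f (pullback.fst f f z) = f (pullback.snd f f z) := by
    have := congr($(pullback.condition (f := f) (g := f)) z)
    simpa using this
  obtain ⟨V, h1, h2, hsep⟩ := H _ _ hcond
  let e : pullback (V.ι ≫ f) (V.ι ≫ f) ⟶ pullback f f :=
    pullback.map (V.ι ≫ f) (V.ι ≫ f) f f V.ι V.ι (𝟙 S) (by simp) (by simp)
  have he : IsOpenImmersion e := inferInstance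
  have hrange : Set.range e = pullback.fst f f ⁻¹' Set.range V.ι ∩ pullback.snd f f ⁻¹' Set.range V.ι :=
    Scheme.Pullback.range_map _ _ _ _ _ _ _ _ _
  let ΔV := pullback.diagonal (V.ι ≫ f)
  have hΔV : IsClosed (Set.range ΔV) := ΔV.isClosedEmbedding.isClosed_range
  have hcomm : ΔV ≫ e = V.ι ≫ Δ := by
    apply pullback.hom_ext
    · rw [Category.assoc, Category.assoc]
      erw [pullback.lift_fst]
      rw [← Category.assoc, pullback.diagonal_fst, Category.id_comp, pullback.diagonal_fst,
        Category.comp_id]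
    · rw [Category.assoc, Category.assoc]
      erw [pullback.lift_snd]
      rw [← Category.assoc, pullback.diagonal_snd, Category.id_comp, pullback.diagonal_snd,
        Category.comp_id]
  have hefst : e ≫ pullback.fst f f = pullback.fst _ _ ≫ V.ι := pullback.lift_fst _ _ _
  refine ⟨e '' (Set.range ΔV)ᶜ, ?_, e.isOpenEmbedding.isOpenMap _ hΔV.isOpen_compl, ?_⟩
  · rintro _ ⟨w', hw', rfl⟩ ⟨x, hx⟩
    apply hw'
    have hx1 : V.ι (pullback.fst (V.ι ≫ f) (V.ι ≫ f) w') = x := by
      have e1 := congr($hefst w')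
      simp only [Scheme.Hom.comp_apply] at e1
      rw [← e1, ← hx]
      have e2 : pullback.fst f f (Δ x) = x := by
        rw [← Scheme.Hom.comp_apply, hΔ, pullback.diagonal_fst]
        rfl
      exact e2
    refine ⟨pullback.fst (V.ι ≫ f) (V.ι ≫ f) w', ?_⟩
    apply e.injective
    have e3 := congr($hcomm (pullback.fst (V.ι ≫ f) (V.ι ≫ f) w'))
    simp only [Scheme.Hom.comp_apply] at e3
    rw [e3, hx1, hx]
  · have hz' : z ∈ Set.range e := by
      rw [hrange, Scheme.Opens.range_ι]
      exact ⟨h1, h2⟩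
    obtain ⟨w, rfl⟩ := hz'
    refine ⟨w, ?_, rfl⟩
    rintro ⟨v, rfl⟩
    apply hz
    have e3 := congr($hcomm v)
    simp only [Scheme.Hom.comp_apply] at e3
    exact ⟨V.ι v, e3.symm⟩

end Dev

/-- (i) ⟺ (iii) ⟺ (iv'): let f : X → S be a morphism of schemes. Then X is separated over S if and only
if for every reduced scheme T and every two morphisms T → X with the same composite to S which agree
on a dense open subscheme of T are equal; and X is separated over S if and only if every two points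
of X in the same fibre over S lie in a common open subscheme of X which is separated over S. -/
theorem result (X S : Scheme.{u}) (f : X ⟶ S) :
    (IsSeparated f ↔ ∀ (T : Scheme.{u}) [IsReduced T] (g₁ g₂ : T ⟶ X) (U : T.Opens), g₁ ≫ f = g₂ ≫ f →
      Dense (U : Set T) → U.ι ≫ g₁ = U.ι ≫ g₂ → g₁ = g₂) ∧
    (IsSeparated f ↔ ∀ x₁ x₂ : X, f.base x₁ = f.base x₂ →
      ∃ V : X.Opens, x₁ ∈ V ∧ x₂ ∈ V ∧ IsSeparated (V.ι ≫ f)) := by
  refine ⟨⟨fun h T _ g₁ g₂ U hf hd hU => ?_, sep_of_crit f⟩,
    ⟨fun h x₁ x₂ _ => ⟨⊤, trivial, trivial, inferInstance⟩, sep_of_pairs f⟩⟩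
  have hdom : IsDominant U.ι := by
    constructor
    show DenseRange U.ι
    rw [DenseRange, Scheme.Opens.range_ι]
    exact hd
  exact ext_of_isDominant_of_isSeparated f hf U.ι hU

end Groth.Agent.S5333
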