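import Groth.Statements.S5337
import Mathlib
import Groth.Agent.Lib.Helper15HomogP
import Groth.Agent.Lib.Helper15PLocSq
import Groth.Agent.Lib.Helper15PLocSq2
import Groth.Agent.Lib.Helper20FlatDescSch
import Groth.Agent.Lib.Helper11Homog
import Groth.Agent.S0114

set_option autoImplicit false
universe u
open CategoryTheory CategoryTheory.Limits MonoidalCategory CartesianMonoidalCategory MonObj GrpObj AlgebraicGeometry
open SGA3

namespace Groth.Agent.S5337

/-- Quasi-finite, unramified, smooth and etale cases: let A be a local artinian ring, G an A-group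
scheme which is flat and locally of finite type over A, and u : G → H a homomorphism of A-group
schemes. If u is locally quasi-finite (resp. unramified, that is formally unramified and locally of
finite presentation, resp. smooth, resp. etale) on some nonempty open subscheme of G, then u is
locally quasi-finite (resp. unramified, resp. smooth, resp. etale). (Here u is automatically locally
of finite type.) -/
theorem result (A : Type u) [CommRing A] [IsArtinianRing A] [IsLocalRing A] (G H : Over (Spec (CommRingCat.of A))) [GrpObj G] [GrpObj H]
    [Flat G.hom] [LocallyOfFiniteType G.hom] (u : G ⟶ H) [IsMonHom u] (W : G.left.Opens) (hW : (W : Set G.left).Nonempty) :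
    (LocallyQuasiFinite (W.ι ≫ u.left) → LocallyQuasiFinite u.left) ∧
    (FormallyUnramified (W.ι ≫ u.left) → LocallyOfFinitePresentation (W.ι ≫ u.left) →
      FormallyUnramified u.left ∧ LocallyOfFinitePresentation u.left) ∧
    (Smooth (W.ι ≫ u.left) → Smooth u.left) ∧ (Etale (W.ι ≫ u.left) → Etale u.left) := by
  have hS := Groth.Agent.Lib.Helper11Homog.spec_subsingleton_of_artinian_local A
  have : IsNoetherianRing (CommRingCat.of A) := inferInstanceAs (IsNoetherianRing A)
  have hGfp : LocallyOfFinitePresentation G.hom := inferInstance
  obtain ⟨Ω, Y', g, a, b, h, hgfl, hgfp, hbfl, hbfp, hbs, hj, hP⟩ :=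
    Groth.Agent.Lib.Helper15HomogP.homog_square hS G H u W hW
  have hu_lft : LocallyOfFiniteType u.left := by
    have : LocallyOfFiniteType (u.left ≫ H.hom) := by rw [Over.w u]; infer_instance
    exact locallyOfFiniteType_of_comp u.left H.hom
  have hLFP : LocallyOfFinitePresentation (W.ι ≫ u.left) → LocallyOfFinitePresentation u.left := by
    intro hW'
    have ha : LocallyOfFinitePresentation a := hP @LocallyOfFinitePresentation hW'
    have : LocallyOfFinitePresentation (b ≫ u.left) := by rw [h]; infer_instance
    exact Groth.Agent.S0114.result b u.left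
  refine ⟨?_, ?_, ?_, ?_⟩
  · intro hq
    have : LocallyQuasiFinite a := hP @LocallyQuasiFinite hq
    apply Groth.Agent.Lib.Helper15PLocSq2.locallyQuasiFinite_of_forall
    intro x
    obtain ⟨ω, rfl⟩ := b.surjective x
    exact Groth.Agent.Lib.Helper15PLocSq2.quasiFiniteAt_of_square u.left g a b h ω
  · intro hur hfp
    refine ⟨?_, hLFP hfp⟩
    have : FormallyUnramified a := hP @FormallyUnramified hur
    apply Groth.Agent.Lib.Helper20.FlatDesc.of_forall_exists_nbhd (P := @FormallyUnramified)
    intro x
    obtain ⟨ω, rfl⟩ := b.surjective x
    exact Groth.Agent.Lib.Helper15PLocSq2.unramified_nbhd_of_square u.left g a b h ω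
  · intro hs
    have : LocallyOfFinitePresentation u.left := hLFP inferInstance
    have ha : Smooth a := hP @Smooth hs
    apply Groth.Agent.Lib.Helper20.FlatDesc.of_forall_exists_nbhd (P := @Smooth)
    intro x
    obtain ⟨ω, rfl⟩ := b.surjective x
    exact (Groth.Agent.Lib.Helper15PLocSq.exists_nbhd_of_square u.left g a b h ω).1 ha
  · intro hs
    have : LocallyOfFinitePresentation u.left := hLFP inferInstance
    have ha : Etale a := hP @Etale hs
    apply Groth.Agent.Lib.Helper20.FlatDesc.of_forall_exists_nbhd (P := @Etale)
    intro x
    obtain ⟨ω, rfl⟩ := b.surjective x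
    exact (Groth.Agent.Lib.Helper15PLocSq.exists_nbhd_of_square u.left g a b h ω).2 ha

end Groth.Agent.S5337
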