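import Groth.Statements.S5343
import Mathlib.RingTheory.Ideal.IdempotentFG
import Mathlib.RingTheory.Spectrum.Prime.Topology

set_option autoImplicit false
universe u
open CategoryTheory CategoryTheory.Limits MonoidalCategory CartesianMonoidalCategory MonObj GrpObj AlgebraicGeometry
open SGA3

namespace Groth.Agent.S5343

/-- Let R be a commutative ring and B a commutative R-algebra which is projective as an R-module. Then
the image of Spec B → Spec R is an open and closed subset of Spec R. (The published statement
concerns a quasi-coherent algebra on any scheme which is a direct summand of a free module; this row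
is the affine case.) -/
theorem result (R B : Type u) [CommRing R] [CommRing B] [Algebra R B] [Module.Projective R B] :
    IsClopen (Set.range (PrimeSpectrum.comap (algebraMap R B))) := by
  classical
  obtain ⟨s, hs⟩ := (Module.projective_def (R := R) (P := B)).mp inferInstance
  set c : B →₀ R := s 1 with hc
  -- the ideal of coordinates of `1`
  let I : Ideal R := Ideal.span (c '' (c.support : Set B))
  have hIfg : I.FG := ⟨c.support.image c, by simp [I]⟩
  have hcI : ∀ y, c y ∈ I := by
    intro y
    by_cases hy : y ∈ c.support
    · exact Ideal.subset_span ⟨y, hy, rfl⟩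
    · rw [Finsupp.notMem_support_iff.mp hy]; exact I.zero_mem
  have h1 : (1 : B) = c.sum fun x r => r • x := by
    have := hs 1
    rw [Finsupp.linearCombination_apply] at this
    simpa using this.symm
  -- every coordinate of every element lies in I
  have hsI : ∀ (b : B) (y : B), s b y ∈ I := by
    intro b y
    have hb : b = c.sum fun x r => r • (b * x) := by
      conv_lhs => rw [← mul_one b, h1, Finsupp.mul_sum]
      simp
    rw [hb, Finsupp.sum, map_sum, Finsupp.finsetSum_apply]
    refine Ideal.sum_mem _ fun x _ => ?_
    rw [map_smul, Finsupp.smul_apply, smul_eq_mul]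
    exact I.mul_mem_right _ (hcI x)
  have hIidem : IsIdempotentElem I := by
    refine le_antisymm Ideal.mul_le_right ?_
    rw [Ideal.span_le]
    rintro _ ⟨y, -, rfl⟩
    have : c y = (c.sum fun x r => r • s x) y := by
      conv_lhs => rw [hc, h1, Finsupp.sum, map_sum]
      simp [Finsupp.sum]
    rw [SetLike.mem_coe, this, Finsupp.sum, Finsupp.finsetSum_apply]
    refine Ideal.sum_mem _ fun x _ => ?_
    rw [Finsupp.smul_apply, smul_eq_mul]
    exact Ideal.mul_mem_mul (hcI x) (hsI x y)
  obtain ⟨e, he, hIe⟩ := (Ideal.isIdempotentElem_iff_of_fg I hIfg).mp hIidem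
  rw [PrimeSpectrum.isClopen_iff]
  refine ⟨e, he, ?_⟩
  ext p
  simp only [PrimeSpectrum.mem_basicOpen, SetLike.mem_coe]
  constructor
  · rintro ⟨q, rfl⟩ heq
    have hIq : ∀ r ∈ I, algebraMap R B r ∈ q.asIdeal := by
      intro r hr
      rw [hIe] at hr
      obtain ⟨a, rfl⟩ := Ideal.mem_span_singleton'.mp hr
      rw [map_mul]
      exact q.asIdeal.mul_mem_left _ heq
    apply q.isPrime.ne_top
    rw [Ideal.eq_top_iff_one, h1, Finsupp.sum]
    refine Ideal.sum_mem _ fun x _ => ?_
    rw [Algebra.smul_def]
    exact q.asIdeal.mul_mem_right _ (hIq _ (hcI x))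
  · intro hep
    rw [PrimeSpectrum.mem_range_comap_iff]
    refine le_antisymm ?_ Ideal.le_comap_map
    intro r hr
    rw [Ideal.mem_comap] at hr
    -- coordinates of elements of `p B` lie in `p`
    have key : ∀ b ∈ (p.asIdeal • ⊤ : Submodule R B), ∀ y, s b y ∈ p.asIdeal := by
      intro b hb y
      refine Submodule.smul_induction_on (p := fun b => s b y ∈ p.asIdeal) hb ?_ ?_
      · intro a ha n _
        rw [map_smul, Finsupp.smul_apply, smul_eq_mul]
        exact p.asIdeal.mul_mem_right _ ha
      · intro x z hx hz
        rw [map_add, Finsupp.add_apply]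
        exact p.asIdeal.add_mem hx hz
    have hr' : algebraMap R B r ∈ (p.asIdeal • ⊤ : Submodule R B) := by
      rw [Ideal.smul_top_eq_map]
      exact hr
    have hrc : ∀ y, r * c y ∈ p.asIdeal := by
      intro y
      have := key _ hr' y
      rwa [Algebra.algebraMap_eq_smul_one, map_smul, Finsupp.smul_apply, smul_eq_mul] at this
    have hrI : ∀ a ∈ I, r * a ∈ p.asIdeal := by
      intro a ha
      induction ha using Submodule.span_induction with
      | mem a ha =>
        obtain ⟨y, -, rfl⟩ := ha
        exact hrc y
      | zero => simp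
      | add a b _ _ ha hb => rw [mul_add]; exact p.asIdeal.add_mem ha hb
      | smul t a _ ha =>
        rw [smul_eq_mul, mul_left_comm]
        exact p.asIdeal.mul_mem_left _ ha
    have heI : e ∈ I := by rw [hIe]; exact Ideal.mem_span_singleton_self e
    exact (p.isPrime.mem_or_mem (hrI e heI)).resolve_right hep

end Groth.Agent.S5343
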