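import Groth.Statements.S5344
import Mathlib
import Groth.Agent.Lib.Helper25LocFTArtin
import Groth.Agent.Lib.Helper12GeomConn
import Groth.Agent.Lib.Helper14LocNoeth

set_option autoImplicit false
universe u
open CategoryTheory CategoryTheory.Limits MonoidalCategory CartesianMonoidalCategory MonObj GrpObj AlgebraicGeometry
open SGA3

namespace Groth.Agent.S5344
open CategoryTheory CategoryTheory.Limits MonoidalCategory CartesianMonoidalCategory MonObj GrpObj AlgebraicGeometry
open Groth.Agent.Lib.Helper25.LocFT

section artin
variable (A : Type u) [CommRing A] [IsArtinianRing A] [IsLocalRing A]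

lemma subsingleton_spec : Subsingleton (Spec (CommRingCat.of A)) := by
  have hprime : ∀ p : Ideal A, p.IsPrime → p = IsLocalRing.maximalIdeal A := fun p hp =>
    IsLocalRing.eq_maximalIdeal (IsArtinianRing.isMaximal_of_isPrime p)
  constructor
  intro z w
  exact PrimeSpectrum.ext ((hprime _ z.2).trans (hprime _ w.2).symm)

/-- a surjective closed immersion is an open map -/
lemma isOpenMap_of_surjective_closedImmersion {X Y : Scheme.{u}} (j : X ⟶ Y) [IsClosedImmersion j]
    [Surjective j] : IsOpenMap j :=
  (j.isEmbedding.toHomeomorphOfSurjective j.surjective).isOpenMap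

/-- every morphism to the spectrum of a local artinian ring is universally open -/
lemma universallyOpen_artin {X : Scheme.{u}} (f : X ⟶ Spec (CommRingCat.of A)) :
    UniversallyOpen f := by
  rw [UniversallyOpen.eq]
  intro X' T g' g f' sq
  -- sq : IsPullback g' f' f g
  -- reduce to the residue field
  let i := resMap A
  let iT : pullback g i ⟶ T := pullback.fst g i
  let iX : pullback f' iT ⟶ X' := pullback.fst f' iT
  let f'₀ : pullback f' iT ⟶ pullback g i := pullback.snd f' iT
  haveI : UniversallyOpen f'₀ := by
    -- f'₀ is a base change of pullback.snd f i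
    have hbig : IsPullback f'₀ (iX ≫ g') (iT ≫ g) f :=
      (IsPullback.of_hasPullback f' iT).flip.paste_vert sq
    have hright : IsPullback (pullback.snd f i) (pullback.fst f i) i f :=
      (IsPullback.of_hasPullback f i).flip
    have hcomm : iT ≫ g = pullback.snd g i ≫ i := pullback.condition
    let l : pullback f' iT ⟶ pullback f i :=
      pullback.lift (iX ≫ g') (f'₀ ≫ pullback.snd g i) (by
        have := hbig.w
        rw [Category.assoc, Category.assoc, ← hcomm, this, Category.assoc])
    have hleft : IsPullback f'₀ l (pullback.snd g i) (pullback.snd f i) := by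
      refine IsPullback.of_bot ?_ (pullback.lift_snd _ _ _).symm hright
      rw [pullback.lift_fst, ← hcomm]
      exact hbig
    haveI : UniversallyOpen (pullback.snd f i) := inferInstance
    exact MorphismProperty.of_isPullback hleft.flip inferInstance
  haveI : Surjective iT := inferInstanceAs (Surjective (pullback.fst g i))
  haveI : IsClosedImmersion iT := inferInstanceAs (IsClosedImmersion (pullback.fst g i))
  haveI : Surjective iX := inferInstanceAs (Surjective (pullback.fst f' iT))
  haveI : IsClosedImmersion iX := inferInstanceAs (IsClosedImmersion (pullback.fst f' iT))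
  intro V hV
  have hVeq : (f' : X' → T) '' V = iT '' (f'₀ '' (iX ⁻¹' V)) := by
    ext t
    constructor
    · rintro ⟨x, hx, rfl⟩
      obtain ⟨x₀, rfl⟩ := iX.surjective x
      refine ⟨f'₀ x₀, ⟨x₀, hx, rfl⟩, ?_⟩
      have hc : iX ≫ f' = f'₀ ≫ iT := pullback.condition
      rw [← Scheme.Hom.comp_apply, ← Scheme.Hom.comp_apply, hc]
    · rintro ⟨_, ⟨x₀, hx₀, rfl⟩, rfl⟩
      refine ⟨iX x₀, hx₀, ?_⟩
      have hc : iX ≫ f' = f'₀ ≫ iT := pullback.condition
      rw [← Scheme.Hom.comp_apply, ← Scheme.Hom.comp_apply, hc]
  rw [hVeq]
  exact isOpenMap_of_surjective_closedImmersion iT _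
    (f'₀.isOpenMap _ (hV.preimage iX.continuous))

/-- a connected scheme over a local artinian ring with a section is geometrically connected -/
lemma geometricallyConnected_artin {U : Scheme.{u}} (f : U ⟶ Spec (CommRingCat.of A))
    [ConnectedSpace U] (σ : Spec (CommRingCat.of A) ⟶ U) (hσ : σ ≫ f = 𝟙 _) :
    GeometricallyConnected f := by
  let i := resMap A
  haveI : Surjective (pullback.fst f i) := inferInstance
  haveI : IsClosedImmersion (pullback.fst f i) := inferInstance
  let h : ↥(pullback f i) ≃ₜ ↥U :=
    (pullback.fst f i).isEmbedding.toHomeomorphOfSurjective (pullback.fst f i).surjective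
  haveI : ConnectedSpace ↥(pullback f i) := h.connectedSpace_iff.mpr inferInstance
  haveI : GeometricallyConnected (pullback.snd f i) :=
    Groth.Agent.Lib.Helper12.GeomConn.geometricallyConnected_of_section (pullback.snd f i)
      (pullback.lift (i ≫ σ) (𝟙 _) (by rw [Category.assoc, hσ, Category.comp_id, Category.id_comp]))
      (pullback.lift_snd _ _ _)
  exact Groth.Agent.Lib.Helper12.GeomConn.geometricallyConnected_of_isPullback_of_surjective
    (IsPullback.of_hasPullback f i).flip

end artin


section main
variable {A : Type u} [CommRing A] [IsArtinianRing A] [IsLocalRing A]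
  (G : Over (Spec (CommRingCat.of A))) [GrpObj G] [LocallyOfFiniteType G.hom]

theorem locallyConnectedSpace_of_lft : LocallyConnectedSpace G.left := by
  haveI : IsLocallyNoetherian G.left := LocallyOfFiniteType.isLocallyNoetherian G.hom
  apply Groth.Agent.Lib.Helper14.locallyConnectedSpace_of_locally_noetherian
  intro x
  obtain ⟨_, ⟨W, hW, rfl⟩, hxW, -⟩ := G.left.isBasis_affineOpens.exists_subset_of_mem_open
    (Set.mem_univ x) isOpen_univ
  replace hW : IsAffineOpen W := hW
  haveI : IsNoetherianRing Γ(G.left, W) := IsLocallyNoetherian.component_noetherian ⟨W, hW⟩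
  exact ⟨W, W.isOpen.mem_nhds hxW, noetherianSpace_of_isAffineOpen W hW⟩

/-- the subset `fst⁻¹(cc x) ∩ snd⁻¹(cc e)` of `G ×_A G` is connected. -/
theorem isConnected_prod (pt : ↥(Spec (CommRingCat.of A))) (x : G.left) :
    _root_.IsConnected {z : ↥(pullback G.hom G.hom) |
      (pullback.fst G.hom G.hom).base z ∈ connectedComponent x ∧
      (pullback.snd G.hom G.hom).base z ∈ connectedComponent (η[G].left.base pt)} := by
  haveI := locallyConnectedSpace_of_lft G
  set e := η[G].left.base pt with he
  let C : G.left.Opens := ⟨connectedComponent x, isOpen_connectedComponent⟩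
  let U : G.left.Opens := ⟨connectedComponent e, isOpen_connectedComponent⟩
  haveI : ConnectedSpace ↥(C.toScheme) :=
    (isConnected_iff_connectedSpace.mp isConnected_connectedComponent :
      ConnectedSpace (connectedComponent x))
  haveI : ConnectedSpace ↥(U.toScheme) :=
    (isConnected_iff_connectedSpace.mp isConnected_connectedComponent :
      ConnectedSpace (connectedComponent e))
  -- the section of U
  haveI := subsingleton_spec A
  haveI : Subsingleton ↥(𝟙_ (Over (Spec (CommRingCat.of A)))).left := subsingleton_spec A
  have hrange : Set.range η[G].left.base ⊆ Set.range U.ι.base := by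
    rintro _ ⟨s, rfl⟩
    rw [Scheme.Opens.range_ι]
    show η[G].left.base s ∈ connectedComponent e
    rw [Subsingleton.elim s pt]
    exact mem_connectedComponent
  let σ : Spec (CommRingCat.of A) ⟶ U := IsOpenImmersion.lift U.ι η[G].left hrange
  have hσ : σ ≫ (U.ι ≫ G.hom) = 𝟙 _ := by
    rw [← Category.assoc, IsOpenImmersion.lift_fac]
    exact Over.w η[G]
  haveI : GeometricallyConnected (U.ι ≫ G.hom) := geometricallyConnected_artin A _ σ hσ
  haveI : UniversallyOpen (U.ι ≫ G.hom) := universallyOpen_artin A _
  haveI : ConnectedSpace ↥(pullback (C.ι ≫ G.hom) (U.ι ≫ G.hom)) := inferInstance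
  let m : pullback (C.ι ≫ G.hom) (U.ι ≫ G.hom) ⟶ pullback G.hom G.hom :=
    pullback.map _ _ _ _ C.ι U.ι (𝟙 _) (by simp) (by simp)
  have hm : Set.range m.base = {z : ↥(pullback G.hom G.hom) |
      (pullback.fst G.hom G.hom).base z ∈ connectedComponent x ∧
      (pullback.snd G.hom G.hom).base z ∈ connectedComponent e} := by
    have := Scheme.Pullback.range_map (C.ι ≫ G.hom) (U.ι ≫ G.hom) G.hom G.hom C.ι U.ι (𝟙 _)
      (by simp) (by simp)
    rw [Scheme.Opens.range_ι, Scheme.Opens.range_ι] at this
    exact this
  rw [← hm]
  exact isConnected_range m.continuous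

end main


section final
variable {A : Type u} [CommRing A] [IsArtinianRing A] [IsLocalRing A]

lemma comp_left_base_apply {S : Scheme.{u}} {T X Y : Over S} (a : T ⟶ X) (b : X ⟶ Y)
    (y : T.left) : (a ≫ b).left.base y = b.left.base (a.left.base y) := rfl

lemma one_left_base_apply (G : Over (Spec (CommRingCat.of A))) [GrpObj G]
    (T : Over (Spec (CommRingCat.of A))) (y : T.left)
    (pt : ↥(𝟙_ (Over (Spec (CommRingCat.of A)))).left) :
    (1 : T ⟶ G).left.base y = η[G].left.base pt := by
  haveI : Subsingleton ↥(𝟙_ (Over (Spec (CommRingCat.of A)))).left := subsingleton_spec A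
  rw [CategoryTheory.Hom.one_def, comp_left_base_apply]
  congr 1
  exact Subsingleton.elim _ _


/-- Let A be a local artinian ring and G an A-group scheme locally of finite type, and let G⁰ be the
connected component of the unit point. Then G⁰ is open in G; it is stable under the group law: for
every A-scheme T and all points g, h : T → G whose images lie in G⁰, the image of g h⁻¹ lies in G⁰
(so G⁰ carries an open subgroup scheme, the neutral component); and it is normal: for every A-scheme
T, every point g : T → G and every point n : T → G whose image lies in G⁰, the image of g n g⁻¹ lies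
in G⁰. -/
theorem result (A : Type u) [CommRing A] [IsArtinianRing A] [IsLocalRing A] (G : Over (Spec (CommRingCat.of A))) [GrpObj G] [LocallyOfFiniteType G.hom]
    (pt : ↥(𝟙_ (Over (Spec (CommRingCat.of A)))).left) :
    IsOpen (connectedComponent (η[G].left.base pt)) ∧
    (∀ (T : Over (Spec (CommRingCat.of A))) (g h : T ⟶ G), Set.range g.left.base ⊆ connectedComponent (η[G].left.base pt) →
      Set.range h.left.base ⊆ connectedComponent (η[G].left.base pt) →
      Set.range (g * h⁻¹).left.base ⊆ connectedComponent (η[G].left.base pt)) ∧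
    ∀ (T : Over (Spec (CommRingCat.of A))) (g n : T ⟶ G), Set.range n.left.base ⊆ connectedComponent (η[G].left.base pt) →
      Set.range (g * n * g⁻¹).left.base ⊆ connectedComponent (η[G].left.base pt) := by
  haveI := locallyConnectedSpace_of_lft G
  set e := η[G].left.base pt with he
  -- key
  have key : ∀ (φ : G ⊗ G ⟶ G) (x : G.left),
      (∃ z : ↥(G ⊗ G).left, (fst G G).left.base z ∈ connectedComponent x ∧
        (snd G G).left.base z ∈ connectedComponent e ∧ φ.left.base z = e) →
      ∀ z : ↥(G ⊗ G).left, (fst G G).left.base z ∈ connectedComponent x →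
        (snd G G).left.base z ∈ connectedComponent e → φ.left.base z ∈ connectedComponent e := by
    rintro φ x ⟨z₀, h1, h2, h3⟩ z hz1 hz2
    have hconn := isConnected_prod G pt x
    have himg := hconn.image φ.left.base φ.left.continuous.continuousOn
    have hsub := himg.isPreconnected.subset_connectedComponent
      (x := e) ⟨z₀, ⟨h1, h2⟩, h3⟩
    exact hsub ⟨z, ⟨hz1, hz2⟩, rfl⟩
  -- a point over (x, e)
  have hpoint : ∀ (φ : G ⊗ G ⟶ G) (T' : Over (Spec (CommRingCat.of A))) (a : T' ⟶ G)
      (pt' : T'.left), lift a (1 : T' ⟶ G) ≫ φ = 1 →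
      ∃ z : ↥(G ⊗ G).left, (fst G G).left.base z ∈ connectedComponent (a.left.base pt') ∧
        (snd G G).left.base z ∈ connectedComponent e ∧ φ.left.base z = e := by
    intro φ T' a pt' hφ
    refine ⟨(lift a (1 : T' ⟶ G)).left.base pt', ?_, ?_, ?_⟩
    · rw [← comp_left_base_apply, lift_fst]
      exact mem_connectedComponent
    · rw [← comp_left_base_apply, lift_snd, one_left_base_apply G T' pt' pt]
      exact mem_connectedComponent
    · rw [← comp_left_base_apply, hφ, one_left_base_apply G T' pt' pt]
  refine ⟨isOpen_connectedComponent, ?_, ?_⟩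
  · intro T g h hg hh
    rintro _ ⟨y, rfl⟩
    have hfac : g * h⁻¹ = lift g h ≫ (fst G G * (snd G G)⁻¹) := by
      rw [MonObj.comp_mul, GrpObj.comp_inv, lift_fst, lift_snd]
    rw [hfac, comp_left_base_apply]
    apply key _ e
    · have h1 := hpoint (fst G G * (snd G G)⁻¹) T (1 : T ⟶ G) y (by
        rw [MonObj.comp_mul, GrpObj.comp_inv, lift_fst, lift_snd, inv_one, _root_.mul_one])
      rw [one_left_base_apply G T y pt] at h1
      exact h1
    · rw [← comp_left_base_apply, lift_fst]
      exact hg ⟨y, rfl⟩
    · rw [← comp_left_base_apply, lift_snd]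
      exact hh ⟨y, rfl⟩
  · intro T g n hn
    rintro _ ⟨y, rfl⟩
    have hfac : g * n * g⁻¹ = lift g n ≫ (fst G G * snd G G * (fst G G)⁻¹) := by
      rw [MonObj.comp_mul, MonObj.comp_mul, GrpObj.comp_inv, lift_fst, lift_snd]
    rw [hfac, comp_left_base_apply]
    apply key _ (g.left.base y)
    · exact hpoint (fst G G * snd G G * (fst G G)⁻¹) T g y (by
        rw [MonObj.comp_mul, MonObj.comp_mul, GrpObj.comp_inv, lift_fst, lift_snd,
          _root_.mul_one, _root_.mul_inv_cancel])
    · rw [← comp_left_base_apply, lift_fst]
      exact mem_connectedComponent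
    · rw [← comp_left_base_apply, lift_snd]
      exact hn ⟨y, rfl⟩

end final

end Groth.Agent.S5344
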