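import Groth.Statements.S5347
import Mathlib
import Groth.Agent.Lib.Helper11Homog
import Groth.Agent.Lib.Helper12Act

set_option autoImplicit false
universe u
open CategoryTheory CategoryTheory.Limits MonoidalCategory CartesianMonoidalCategory MonObj GrpObj AlgebraicGeometry
open SGA3

namespace Groth.Agent.S5347

open Groth.Agent.Lib.Helper11Homog Groth.Agent.Lib.Helper12


/-- Let A be a local artinian ring, G a flat A-group scheme (not assumed of finite type), X an A-scheme
with a left action of G and an A-point s₀ of X, and φ : G → X the orbit morphism g ↦ g·s₀. If φ is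
flat at some point of G (the local ring of G there is flat over the local ring of X at the image),
then φ is flat. -/
theorem result (A : Type u) [CommRing A] [IsArtinianRing A] [IsLocalRing A] (G X : Over (Spec (CommRingCat.of A))) [GrpObj G] [Flat G.hom]
    (a : AlgGrp.Action G X) (s₀ : 𝟙_ (Over (Spec (CommRingCat.of A))) ⟶ X)
    (h : ∃ g : G.left, ((a.orbitMap s₀).left.stalkMap g).hom.Flat) : Flat (a.orbitMap s₀).left := by
  obtain ⟨ξ, hξ⟩ := h
  have ha : Flat a.act.left := by
    apply flat_of_shear a.act (lift (fst G X)⁻¹ (snd G X) ≫ a.act)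
    · rw [← Category.assoc, comp_lift, GrpObj.comp_inv, lift_fst, lift_snd]
      exact lift_inv_act_act a
    · exact lift_act_inv_act a
  refine flat_of_stalkMap_flat (spec_subsingleton_of_artinian_local A) G X (a.orbitMap s₀) a.act ha
    ?_ ξ hξ
  have e1 : G ◁ a.orbitMap s₀ = lift (fst G G) (snd G G ≫ a.orbitMap s₀) := by
    apply CartesianMonoidalCategory.hom_ext
    · rw [whiskerLeft_fst, lift_fst]
    · rw [whiskerLeft_snd, lift_snd]
  have e2 : snd G G ≫ a.orbitMap s₀ = lift (snd G G) (toUnit _ ≫ s₀) ≫ a.act := by
    unfold AlgGrp.Action.orbitMap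
    rw [← Category.assoc, comp_lift, Category.comp_id, ← Category.assoc, comp_toUnit]
  have e3 : μ[G] ≫ a.orbitMap s₀ = lift (fst G G * snd G G) (toUnit _ ≫ s₀) ≫ a.act := by
    unfold AlgGrp.Action.orbitMap
    rw [← Category.assoc, comp_lift, Category.comp_id, ← Category.assoc, comp_toUnit,
      MonObj.mul_eq_mul]
  rw [e1, e2, e3, act_mul]

end Groth.Agent.S5347
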