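import Groth.Statements.S5357
import Mathlib
import Groth.Agent.Lib.Helper11FixOver
import Groth.Agent.Lib.Helper8Grp

set_option autoImplicit false
universe u
open CategoryTheory CategoryTheory.Limits MonoidalCategory CartesianMonoidalCategory MonObj GrpObj AlgebraicGeometry
open SGA3

namespace Groth.Agent.S5357


/-- Let G be a group scheme over a field k, X a k-scheme and u, v : X → G two morphisms of k-schemes.
Then the transporter of u into v, the subfunctor of G whose points with values in S' are the g such
that g u(x) g⁻¹ = v(x) for every S'' → S' and every point x of X with values in S'', is represented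
by a closed subscheme of G. (For u = v this says that the centralizer of u is represented by a
closed subscheme of G; that it is a subgroup scheme is not stated here.) -/
theorem result (k : Type u) [Field k] (G X : Over (Spec (CommRingCat.of k))) [GrpObj G]
    (u v : X ⟶ G) :
    ∃ (T : Over (Spec (CommRingCat.of k))) (t : T ⟶ G), IsClosedImmersion t.left ∧
      ∀ (S' : Over (Spec (CommRingCat.of k))) (g : S' ⟶ G), (∃ z : S' ⟶ T, z ≫ t = g) ↔
        ∀ (S'' : Over (Spec (CommRingCat.of k))) (s : S'' ⟶ S') (x : S'' ⟶ X), (s ≫ g) * (x ≫ u) * (s ≫ g)⁻¹ = x ≫ v := by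
  have hsep : IsSeparated G.hom := Groth.Agent.Lib.Helper8.isSeparated_of_discrete G
  obtain ⟨Z, j, hj, hfix, huniv⟩ :=
    Groth.Agent.Lib.Helper11FixOver.exists_closedImmersion_fix_over k X G G
      (CartesianMonoidalCategory.snd X G * (CartesianMonoidalCategory.fst X G ≫ u) *
        (CartesianMonoidalCategory.snd X G)⁻¹)
      (CartesianMonoidalCategory.fst X G ≫ v)
  have key : ∀ {S' : Over (Spec (CommRingCat.of k))} (g : S' ⟶ G),
      ((X ◁ g) ≫ (CartesianMonoidalCategory.snd X G * (CartesianMonoidalCategory.fst X G ≫ u) *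
        (CartesianMonoidalCategory.snd X G)⁻¹) = (X ◁ g) ≫ (CartesianMonoidalCategory.fst X G ≫ v)) ↔
        (CartesianMonoidalCategory.snd X S' ≫ g) * (CartesianMonoidalCategory.fst X S' ≫ u) *
          (CartesianMonoidalCategory.snd X S' ≫ g)⁻¹ = CartesianMonoidalCategory.fst X S' ≫ v := by
    intro S' g
    rw [MonObj.comp_mul, MonObj.comp_mul, GrpObj.comp_inv, whiskerLeft_fst_assoc, whiskerLeft_snd,
      whiskerLeft_fst_assoc]
  refine ⟨Z, j, hj, fun S' g => ⟨?_, ?_⟩⟩
  · rintro ⟨z, rfl⟩ S'' s x
    have h1 := (key (z ≫ j)).mp (by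
      rw [MonoidalCategory.whiskerLeft_comp, Category.assoc, Category.assoc, hfix])
    have h2 := congrArg (fun f => lift x s ≫ f) h1
    simpa [MonObj.comp_mul, GrpObj.comp_inv] using h2
  · intro hcomm
    apply huniv S' g
    rw [key]
    exact hcomm (X ⊗ S') (CartesianMonoidalCategory.snd X S') (CartesianMonoidalCategory.fst X S')

end Groth.Agent.S5357
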