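import Groth.Statements.S5358
import Mathlib
import Groth.Agent.Lib.Helper11SubGrp
import Groth.Agent.Lib.Helper25TopGrp

set_option autoImplicit false
universe u
open CategoryTheory CategoryTheory.Limits MonoidalCategory CartesianMonoidalCategory MonObj GrpObj AlgebraicGeometry
open SGA3

namespace Groth.Agent.S5358

theorem mono_of_left {S : Scheme.{u}} {X Y : Over S} (j : X ⟶ Y) [Mono j.left] : Mono j :=
  (Over.forget S).mono_of_mono_map (by change Mono j.left; infer_instance)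

/-- intersection of two closed subschemes, on points -/
theorem exists_inter {S : Scheme.{u}} {G Z₁ Z₂ : Over S} (j₁ : Z₁ ⟶ G) (j₂ : Z₂ ⟶ G)
    [IsClosedImmersion j₁.left] [IsClosedImmersion j₂.left] :
    ∃ (T : Over S) (t : T ⟶ G), IsClosedImmersion t.left ∧
      ∀ (S' : Over S) (g : S' ⟶ G), (∃ z : S' ⟶ T, z ≫ t = g) ↔
        ((∃ z₁ : S' ⟶ Z₁, z₁ ≫ j₁ = g) ∧ (∃ z₂ : S' ⟶ Z₂, z₂ ≫ j₂ = g)) := by
  refine ⟨Over.mk ((pullback.fst j₁.left j₂.left ≫ j₁.left) ≫ G.hom),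
    Over.homMk (pullback.fst j₁.left j₂.left ≫ j₁.left) rfl, ?_, ?_⟩
  · change IsClosedImmersion (pullback.fst j₁.left j₂.left ≫ j₁.left)
    infer_instance
  · intro S' g
    constructor
    · rintro ⟨z, rfl⟩
      refine ⟨⟨Over.homMk (z.left ≫ pullback.fst j₁.left j₂.left) ?_, ?_⟩,
        ⟨Over.homMk (z.left ≫ pullback.snd j₁.left j₂.left) ?_, ?_⟩⟩
      · rw [← Over.w j₁, Category.assoc, ← Over.w z]
        rfl
      · ext1
        simp
      · rw [← Over.w j₂, Category.assoc, ← pullback.condition_assoc, ← Over.w z]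
        rfl
      · ext1
        simp [pullback.condition]
    · rintro ⟨⟨z₁, h₁⟩, ⟨z₂, h₂⟩⟩
      have e : z₁.left ≫ j₁.left = z₂.left ≫ j₂.left := by
        rw [← Over.comp_left, ← Over.comp_left, h₁, h₂]
      refine ⟨Over.homMk (pullback.lift z₁.left z₂.left e) ?_, ?_⟩
      · change pullback.lift z₁.left z₂.left e ≫ (pullback.fst j₁.left j₂.left ≫ j₁.left) ≫ G.hom = _
        rw [Category.assoc, pullback.lift_fst_assoc, Over.w j₁, Over.w z₁]
      · ext1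
        change pullback.lift z₁.left z₂.left e ≫ pullback.fst j₁.left j₂.left ≫ j₁.left = g.left
        rw [pullback.lift_fst_assoc, ← Over.comp_left, h₁]

variable (k : Type u) [Field k] (G : Over (Spec (CommRingCat.of k))) [GrpObj G]

/-- the transporter of `y'` into the closed `y` -/
theorem exists_transp {Y Y' : Over (Spec (CommRingCat.of k))} (y : Y ⟶ G) [IsClosedImmersion y.left]
    (y' : Y' ⟶ G) :
    ∃ (T : Over (Spec (CommRingCat.of k))) (t : T ⟶ G), IsClosedImmersion t.left ∧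
      ∀ (S' : Over (Spec (CommRingCat.of k))) (g : S' ⟶ G), (∃ z : S' ⟶ T, z ≫ t = g) ↔
        ∀ (S'' : Over (Spec (CommRingCat.of k))) (s : S'' ⟶ S') (x : S'' ⟶ Y'),
          ∃ x' : S'' ⟶ Y, (s ≫ g) * (x ≫ y') * (s ≫ g)⁻¹ = x' ≫ y := by
  obtain ⟨Z, j, hj, hZ⟩ := Groth.Agent.Lib.Helper11SubGrp.exists_closedImmersion_transp_over_points k
    Y' G G Y (snd Y' G * (fst Y' G ≫ y') * (snd Y' G)⁻¹) y
  refine ⟨Z, j, hj, fun S' g => ?_⟩
  rw [hZ]
  refine forall_congr' fun S'' => forall_congr' fun s => forall_congr' fun x => ?_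
  rw [MonObj.comp_mul, MonObj.comp_mul, GrpObj.comp_inv, lift_fst_assoc, lift_snd]
  exact ⟨fun ⟨f, hf⟩ => ⟨f, hf.symm⟩, fun ⟨f, hf⟩ => ⟨f, hf.symm⟩⟩

/-- the inverse transporter of `y` into the closed `y'` -/
theorem exists_transp_inv {Y Y' : Over (Spec (CommRingCat.of k))} (y : Y ⟶ G)
    (y' : Y' ⟶ G) [IsClosedImmersion y'.left] :
    ∃ (T : Over (Spec (CommRingCat.of k))) (t : T ⟶ G), IsClosedImmersion t.left ∧
      ∀ (S' : Over (Spec (CommRingCat.of k))) (g : S' ⟶ G), (∃ z : S' ⟶ T, z ≫ t = g) ↔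
        ∀ (S'' : Over (Spec (CommRingCat.of k))) (s : S'' ⟶ S') (x' : S'' ⟶ Y),
          ∃ x : S'' ⟶ Y', (s ≫ g)⁻¹ * (x' ≫ y) * (s ≫ g) = x ≫ y' := by
  obtain ⟨Z, j, hj, hZ⟩ := Groth.Agent.Lib.Helper11SubGrp.exists_closedImmersion_transp_over_points k
    Y G G Y' ((snd Y G)⁻¹ * (fst Y G ≫ y) * snd Y G) y'
  refine ⟨Z, j, hj, fun S' g => ?_⟩
  rw [hZ]
  refine forall_congr' fun S'' => forall_congr' fun s => forall_congr' fun x => ?_
  rw [MonObj.comp_mul, MonObj.comp_mul, GrpObj.comp_inv, lift_fst_assoc, lift_snd]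
  exact ⟨fun ⟨f, hf⟩ => ⟨f, hf.symm⟩, fun ⟨f, hf⟩ => ⟨f, hf.symm⟩⟩

/-- the strict transporter of two closed subschemes -/
theorem exists_strict_transp {Y Y' : Over (Spec (CommRingCat.of k))} (y : Y ⟶ G)
    [IsClosedImmersion y.left] (y' : Y' ⟶ G) [IsClosedImmersion y'.left] :
    ∃ (T : Over (Spec (CommRingCat.of k))) (t : T ⟶ G), IsClosedImmersion t.left ∧
      ∀ (S' : Over (Spec (CommRingCat.of k))) (g : S' ⟶ G), (∃ z : S' ⟶ T, z ≫ t = g) ↔
        ((∀ (S'' : Over (Spec (CommRingCat.of k))) (s : S'' ⟶ S') (x : S'' ⟶ Y'),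
          ∃ x' : S'' ⟶ Y, (s ≫ g) * (x ≫ y') * (s ≫ g)⁻¹ = x' ≫ y) ∧
        (∀ (S'' : Over (Spec (CommRingCat.of k))) (s : S'' ⟶ S') (x' : S'' ⟶ Y),
          ∃ x : S'' ⟶ Y', (s ≫ g)⁻¹ * (x' ≫ y) * (s ≫ g) = x ≫ y')) := by
  obtain ⟨Z₁, j₁, hj₁, hZ₁⟩ := exists_transp k G y y'
  obtain ⟨Z₂, j₂, hj₂, hZ₂⟩ := exists_transp_inv k G y y'
  obtain ⟨T, t, ht, hT⟩ := exists_inter j₁ j₂
  refine ⟨T, t, ht, fun S' g => ?_⟩
  rw [hT, hZ₁, hZ₂]


/-- Let G be a group scheme over a field k, y' : Y' → G an immersion and y : Y → G a closed immersion.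
(ii) The transporter of Y' into Y, whose points with values in S' are the g such that conjugation by
g carries every point of Y' (after any base change S'' → S') into Y, is represented by a closed
subscheme of G; if y' is also a closed immersion, so is the strict transporter (g Y' g⁻¹ = Y
functorially). (iii) For every subgroup scheme h : H → G (a homomorphism which is an immersion), the
normalizer of H in G is represented by a closed subscheme of G. -/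
theorem result (k : Type u) [Field k] (G Y Y' : Over (Spec (CommRingCat.of k))) [GrpObj G]
    (y : Y ⟶ G) [IsClosedImmersion y.left] (y' : Y' ⟶ G) [IsImmersion y'.left] :
    (∃ (T : Over (Spec (CommRingCat.of k))) (t : T ⟶ G), IsClosedImmersion t.left ∧
      ∀ (S' : Over (Spec (CommRingCat.of k))) (g : S' ⟶ G), (∃ z : S' ⟶ T, z ≫ t = g) ↔
        ∀ (S'' : Over (Spec (CommRingCat.of k))) (s : S'' ⟶ S') (x : S'' ⟶ Y'),
          ∃ x' : S'' ⟶ Y, (s ≫ g) * (x ≫ y') * (s ≫ g)⁻¹ = x' ≫ y) ∧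
    (IsClosedImmersion y'.left →
      ∃ (T : Over (Spec (CommRingCat.of k))) (t : T ⟶ G), IsClosedImmersion t.left ∧
      ∀ (S' : Over (Spec (CommRingCat.of k))) (g : S' ⟶ G), (∃ z : S' ⟶ T, z ≫ t = g) ↔
        ((∀ (S'' : Over (Spec (CommRingCat.of k))) (s : S'' ⟶ S') (x : S'' ⟶ Y'),
          ∃ x' : S'' ⟶ Y, (s ≫ g) * (x ≫ y') * (s ≫ g)⁻¹ = x' ≫ y) ∧
        (∀ (S'' : Over (Spec (CommRingCat.of k))) (s : S'' ⟶ S') (x' : S'' ⟶ Y),
          ∃ x : S'' ⟶ Y', (s ≫ g)⁻¹ * (x' ≫ y) * (s ≫ g) = x ≫ y'))) ∧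
    (∀ (H : Over (Spec (CommRingCat.of k))) [GrpObj H] (h : H ⟶ G) [IsMonHom h] [IsImmersion h.left],
      ∃ (N : Over (Spec (CommRingCat.of k))) (_ : GrpObj N) (n : N ⟶ G), IsClosedImmersion n.left ∧
        Red.IsNormalizerOf h n) := by
  refine ⟨exists_transp k G y y', fun hy' => exists_strict_transp k G y y', ?_⟩
  intro H _ h _ _
  have hcl : IsClosedImmersion h.left :=
    Groth.Agent.Lib.Helper25.TopGrp.isClosedImmersion_of_isImmersion h
  obtain ⟨N, n, hn, hN⟩ := exists_strict_transp k G h h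
  have hmono : Mono n := mono_of_left n
  have hN' : ∀ (X : Over (Spec (CommRingCat.of k))) (g : X ⟶ G), (∃ z : X ⟶ N, z ≫ n = g) ↔
      ∀ (X' : Over (Spec (CommRingCat.of k))) (x : X' ⟶ X) (h₀ : X' ⟶ H),
        (∃ h' : X' ⟶ H, (x ≫ g) * (h₀ ≫ h) * (x ≫ g)⁻¹ = h' ≫ h) ∧
        (∃ h' : X' ⟶ H, (x ≫ g)⁻¹ * (h₀ ≫ h) * (x ≫ g) = h' ≫ h) := by
    intro X g
    rw [hN]
    exact ⟨fun ⟨h₁, h₂⟩ X' x h₀ => ⟨h₁ X' x h₀, h₂ X' x h₀⟩,
      fun hh => ⟨fun X' x h₀ => (hh X' x h₀).1, fun X' x h₀ => (hh X' x h₀).2⟩⟩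
  obtain ⟨instN, hnhom⟩ := Groth.Agent.Lib.Helper11SubGrp.exists_grpObj_of_pred n
    (fun X g => ∀ (X' : Over (Spec (CommRingCat.of k))) (x : X' ⟶ X) (h₀ : X' ⟶ H),
        (∃ h' : X' ⟶ H, (x ≫ g) * (h₀ ≫ h) * (x ≫ g)⁻¹ = h' ≫ h) ∧
        (∃ h' : X' ⟶ H, (x ≫ g)⁻¹ * (h₀ ≫ h) * (x ≫ g) = h' ≫ h)) hN'
    (by
      intro X' x h₀
      rw [MonObj.comp_one]
      exact ⟨⟨h₀, by group⟩, ⟨h₀, by group⟩⟩)
    (by
      intro X g₁ g₂ hg₁ hg₂ X' x h₀
      rw [MonObj.comp_mul]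
      constructor
      · obtain ⟨h₁, e₁⟩ := (hg₂ X' x h₀).1
        obtain ⟨h₂, e₂⟩ := (hg₁ X' x h₁).1
        refine ⟨h₂, ?_⟩
        rw [← e₂, ← e₁]
        group
      · obtain ⟨h₁, e₁⟩ := (hg₁ X' x h₀).2
        obtain ⟨h₂, e₂⟩ := (hg₂ X' x h₁).2
        refine ⟨h₂, ?_⟩
        rw [← e₂, ← e₁]
        group)
    (by
      intro X g hg X' x h₀
      rw [GrpObj.comp_inv]
      constructor
      · obtain ⟨h₁, e₁⟩ := (hg X' x h₀).2
        exact ⟨h₁, by rw [← e₁]; group⟩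
      · obtain ⟨h₁, e₁⟩ := (hg X' x h₀).1
        exact ⟨h₁, by rw [← e₁]; group⟩)
  exact ⟨N, instN, n, hn, hnhom, hmono, hN'⟩

end Groth.Agent.S5358
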