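import Groth.Statements.S5363
import Mathlib
import Groth.Agent.Lib.Helper11SubGrp
import Groth.Agent.S5357

set_option autoImplicit false
universe u
open CategoryTheory CategoryTheory.Limits MonoidalCategory CartesianMonoidalCategory MonObj GrpObj AlgebraicGeometry
open SGA3

namespace Groth.Agent.S5363

theorem mono_of_left {S : Scheme.{u}} {X Y : Over S} (j : X ⟶ Y) [Mono j.left] : Mono j :=
  (Over.forget S).mono_of_mono_map (by change Mono j.left; infer_instance)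

/-- the centralizer of `u : Y ⟶ G` is a closed subgroup scheme -/
theorem exists_centralizer (k : Type u) [Field k] (G Y : Over (Spec (CommRingCat.of k))) [GrpObj G]
    (u : Y ⟶ G) :
    ∃ (Z : Over (Spec (CommRingCat.of k))) (_ : GrpObj Z) (j : Z ⟶ G), IsMonHom j ∧
      IsClosedImmersion j.left ∧
      ∀ (T : Over (Spec (CommRingCat.of k))) (x : T ⟶ G), (∃ z : T ⟶ Z, z ≫ j = x) ↔
        ∀ (T' : Over (Spec (CommRingCat.of k))) (t : T' ⟶ T) (y : T' ⟶ Y),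
          (t ≫ x) * (y ≫ u) * (t ≫ x)⁻¹ = y ≫ u := by
  obtain ⟨Z, j, hj, hZ⟩ := Groth.Agent.S5357.result k G Y u u
  have hmonoj : Mono j := mono_of_left j
  obtain ⟨instZ, hjhom⟩ := Groth.Agent.Lib.Helper11SubGrp.exists_grpObj_of_pred j
    (fun T x => ∀ (T' : Over (Spec (CommRingCat.of k))) (t : T' ⟶ T) (y : T' ⟶ Y),
      (t ≫ x) * (y ≫ u) * (t ≫ x)⁻¹ = y ≫ u) hZ
    (by
      intro T' t y
      rw [MonObj.comp_one]
      group)
    (by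
      intro T x₁ x₂ h₁ h₂ T' t y
      have e₁ := h₁ T' t y
      have e₂ := h₂ T' t y
      rw [MonObj.comp_mul]
      calc (t ≫ x₁) * (t ≫ x₂) * (y ≫ u) * ((t ≫ x₁) * (t ≫ x₂))⁻¹
          = (t ≫ x₁) * ((t ≫ x₂) * (y ≫ u) * (t ≫ x₂)⁻¹) * (t ≫ x₁)⁻¹ := by group
        _ = y ≫ u := by rw [e₂, e₁])
    (by
      intro T x h T' t y
      have e := h T' t y
      rw [GrpObj.comp_inv]
      calc (t ≫ x)⁻¹ * (y ≫ u) * ((t ≫ x)⁻¹)⁻¹
          = (t ≫ x)⁻¹ * ((t ≫ x) * (y ≫ u) * (t ≫ x)⁻¹) * ((t ≫ x)⁻¹)⁻¹ := by rw [e]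
        _ = y ≫ u := by group)
  exact ⟨Z, instZ, j, hjhom, hj, hZ⟩


/-- Let G be a group scheme over a field k and g a k-rational point of G. Then the smallest closed
subgroup scheme Γ of G through which g factors (the closed subgroup generated by g) is commutative. -/
theorem result (k : Type u) [Field k] (G : Over (Spec (CommRingCat.of k))) [GrpObj G]
    (g : 𝟙_ (Over (Spec (CommRingCat.of k))) ⟶ G) (Γ : Over (Spec (CommRingCat.of k))) [GrpObj Γ] (i : Γ ⟶ G) [IsMonHom i] [IsClosedImmersion i.left]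
    (hf : ∃ f' : 𝟙_ (Over (Spec (CommRingCat.of k))) ⟶ Γ, f' ≫ i = g)
    (hmin : ∀ (Γ' : Over (Spec (CommRingCat.of k))) (_ : GrpObj Γ') (i' : Γ' ⟶ G), IsMonHom i' → IsClosedImmersion i'.left →
        (∃ f'' : 𝟙_ (Over (Spec (CommRingCat.of k))) ⟶ Γ', f'' ≫ i' = g) → ∃ j : Γ ⟶ Γ', j ≫ i' = i) :
    IsCommMonObj Γ := by
  have hmonoi : Mono i := mono_of_left i
  -- Step A: `Γ` centralizes `g`
  obtain ⟨C, instC, jC, hjC, hjCcl, hC⟩ := exists_centralizer k G (𝟙_ _) g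
  obtain ⟨j₁, hj₁⟩ := hmin C instC jC hjC hjCcl (by
    rw [hC]
    intro T' t y
    have : t = y := Subsingleton.elim _ _
    rw [this]
    group)
  have hA : ∀ (T : Over (Spec (CommRingCat.of k))) (c : T ⟶ Γ) (x : T ⟶ 𝟙_ _),
      (c ≫ i) * (x ≫ g) * (c ≫ i)⁻¹ = x ≫ g := by
    intro T c x
    have := (hC T (c ≫ i)).mp ⟨c ≫ j₁, by rw [Category.assoc, hj₁]⟩ T (𝟙 T) x
    rwa [Category.id_comp] at this
  -- Step B: `Γ` centralizes `Γ`
  obtain ⟨Z, instZ, jZ, hjZ, hjZcl, hZ⟩ := exists_centralizer k G Γ i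
  obtain ⟨j₂, hj₂⟩ := hmin Z instZ jZ hjZ hjZcl (by
    rw [hZ]
    intro T' t y
    have e := hA T' y t
    calc (t ≫ g) * (y ≫ i) * (t ≫ g)⁻¹
        = ((y ≫ i) * (t ≫ g) * (y ≫ i)⁻¹) * (y ≫ i) * (t ≫ g)⁻¹ := by rw [e]
      _ = y ≫ i := by group)
  have hB := (hZ (Γ ⊗ Γ) (fst Γ Γ ≫ i)).mp ⟨fst Γ Γ ≫ j₂, by rw [Category.assoc, hj₂]⟩
    (Γ ⊗ Γ) (𝟙 _) (snd Γ Γ)
  rw [Category.id_comp] at hB
  have hcomm : fst Γ Γ * snd Γ Γ = snd Γ Γ * fst Γ Γ := by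
    rw [← cancel_mono i, MonObj.mul_comp, MonObj.mul_comp]
    calc (fst Γ Γ ≫ i) * (snd Γ Γ ≫ i)
        = ((fst Γ Γ ≫ i) * (snd Γ Γ ≫ i) * (fst Γ Γ ≫ i)⁻¹) * (fst Γ Γ ≫ i) := by group
      _ = (snd Γ Γ ≫ i) * (fst Γ Γ ≫ i) := by rw [hB]
  constructor
  rw [MonObj.mul_eq_mul, MonObj.comp_mul, braiding_hom_fst, braiding_hom_snd, hcomm]

end Groth.Agent.S5363
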