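import Groth.Statements.S5364
import Mathlib
import Groth.Agent.Lib.Helper11SubGrp

set_option autoImplicit false
universe u
open CategoryTheory CategoryTheory.Limits MonoidalCategory CartesianMonoidalCategory MonObj GrpObj AlgebraicGeometry
open SGA3

namespace Groth.Agent.S5364

theorem mono_of_left {S : Scheme.{u}} {X Y : Over S} (j : X ⟶ Y) [Mono j.left] : Mono j :=
  (Over.forget S).mono_of_mono_map (by change Mono j.left; infer_instance)


/-- Let G be a group scheme over a field k and a : A → G, b : B → G two closed subgroup schemes which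
are geometrically reduced over k and normal in G. Let i : Γ → G be the commutator subgroup scheme
(A, B): the smallest closed subgroup scheme of G through which the morphism A ×_k B → G, (x, y) ↦
a(x) b(y) a(x)⁻¹ b(y)⁻¹, factors. Then Γ is normal in G. (The published statement also covers
characteristic subgroups; this row states the case of normal subgroups only.) -/
theorem result (k : Type u) [Field k] (G A B : Over (Spec (CommRingCat.of k))) [GrpObj G] [GrpObj A] [GrpObj B]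
    (a : A ⟶ G) [IsMonHom a] [IsClosedImmersion a.left] (b : B ⟶ G) [IsMonHom b] [IsClosedImmersion b.left]
    [GeometricallyReduced A.hom] [GeometricallyReduced B.hom] (hA : AlgGrp.IsNormalHom a) (hB : AlgGrp.IsNormalHom b)
    (Γ : Over (Spec (CommRingCat.of k))) [GrpObj Γ] (i : Γ ⟶ G) [IsMonHom i] [IsClosedImmersion i.left]
    (hf : ∃ f' : A ⊗ B ⟶ Γ, f' ≫ i = (((fst A B) ≫ a) * ((snd A B) ≫ b) * ((fst A B) ≫ a)⁻¹ * ((snd A B) ≫ b)⁻¹))
    (hmin : ∀ (Γ' : Over (Spec (CommRingCat.of k))) (_ : GrpObj Γ') (i' : Γ' ⟶ G), IsMonHom i' → IsClosedImmersion i'.left →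
        (∃ f'' : A ⊗ B ⟶ Γ', f'' ≫ i' = (((fst A B) ≫ a) * ((snd A B) ≫ b) * ((fst A B) ≫ a)⁻¹ * ((snd A B) ≫ b)⁻¹)) → ∃ j : Γ ⟶ Γ', j ≫ i' = i) :
    AlgGrp.IsNormalHom i := by
  obtain ⟨Z, j, hj, hZ⟩ := Groth.Agent.Lib.Helper11SubGrp.exists_closedImmersion_transp_over_points k
    G G G Γ (fst G G * snd G G * (fst G G)⁻¹) i
  have hc : ∀ {T' : Over (Spec (CommRingCat.of k))} (y x : T' ⟶ G),
      lift y x ≫ (fst G G * snd G G * (fst G G)⁻¹) = y * x * y⁻¹ := by
    intro T' y x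
    rw [MonObj.comp_mul, MonObj.comp_mul, GrpObj.comp_inv, lift_fst, lift_snd]
  have hmonoj : Mono j := mono_of_left j
  -- `Z` is a subgroup
  obtain ⟨instZ, hjhom⟩ := Groth.Agent.Lib.Helper11SubGrp.exists_grpObj_of_pred j
    (fun T x => ∀ (T' : Over (Spec (CommRingCat.of k))) (t : T' ⟶ T) (y : T' ⟶ G),
      ∃ f : T' ⟶ Γ, f ≫ i = lift y (t ≫ x) ≫ (fst G G * snd G G * (fst G G)⁻¹)) hZ
    (by
      intro T' t y
      refine ⟨1, ?_⟩
      rw [hc, MonObj.one_comp, MonObj.comp_one]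
      group)
    (by
      intro T x₁ x₂ h₁ h₂ T' t y
      obtain ⟨f₁, hf₁⟩ := h₁ T' t y
      obtain ⟨f₂, hf₂⟩ := h₂ T' t y
      rw [hc] at hf₁ hf₂ ⊢
      refine ⟨f₁ * f₂, ?_⟩
      rw [MonObj.mul_comp, hf₁, hf₂, MonObj.comp_mul]
      group)
    (by
      intro T x h T' t y
      obtain ⟨f, hf⟩ := h T' t y
      rw [hc] at hf ⊢
      refine ⟨f⁻¹, ?_⟩
      rw [GrpObj.inv_comp, hf, GrpObj.comp_inv]
      group)
  -- the commutator map factors through `Z`
  obtain ⟨f', hf'⟩ := hf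
  have hκ : ∃ f'' : A ⊗ B ⟶ Z, f'' ≫ j =
      (((fst A B) ≫ a) * ((snd A B) ≫ b) * ((fst A B) ≫ a)⁻¹ * ((snd A B) ≫ b)⁻¹) := by
    rw [hZ]
    intro T' t y
    rw [hc]
    obtain ⟨a', ha'⟩ := hA T' y (t ≫ fst A B)
    obtain ⟨b', hb'⟩ := hB T' y (t ≫ snd A B)
    refine ⟨lift a' b' ≫ f', ?_⟩
    rw [Category.assoc, hf']
    simp only [MonObj.comp_mul, GrpObj.comp_inv, lift_fst_assoc, lift_snd_assoc, ← ha', ← hb',
      Category.assoc]
    group
  obtain ⟨jΓ, hjΓ⟩ := hmin Z instZ j hjhom hj hκ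
  intro T g n
  have h1 := (hZ T (n ≫ i)).mp ⟨n ≫ jΓ, by rw [Category.assoc, hjΓ]⟩ T (𝟙 T) g
  obtain ⟨f, hf⟩ := h1
  rw [hc, Category.id_comp] at hf
  exact ⟨f, hf.symm⟩

end Groth.Agent.S5364
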