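import Groth.Statements.S5371
import Mathlib
import Groth.Agent.S5370
import Groth.Agent.S5938
import Groth.Agent.S0114
import Groth.Agent.S0115
import Groth.Agent.Lib.Helper15FppfSrc2
import Groth.Agent.Lib.Helper12Descent
import Groth.Agent.Lib.Helper15QuotFP

set_option autoImplicit false
universe u
open CategoryTheory CategoryTheory.Limits MonoidalCategory CartesianMonoidalCategory MonObj GrpObj AlgebraicGeometry
open SGA3

namespace Groth.Agent.S5371

/-- Let u : G' → G be a monomorphism of S-group schemes and p : G → G'' a morphism of S-schemes which is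
covering for the fpqc topology (some Z → G'' which is flat, surjective, with every affine open of
G'' the image of a quasi-compact open of Z, factors through p) and such that the square (g, h) ↦
g·u(h), first projection G ×_S G' → G, p, p is cartesian, so that G'' represents the fpqc quotient
sheaf G/G'. (xii) G' is flat and locally of finite presentation over S if and only if p is
surjective, flat and locally of finite presentation; in that case, if G is locally of finite
presentation (resp. locally of finite type, of finite type, smooth, etale, unramified, locally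
quasi-finite) over S, so is G''. (xiii) If G' is flat and of finite presentation over S then p is of
finite presentation, and G is of finite presentation over S if and only if G'' is. -/
theorem result (S : Scheme.{u}) (G G' G'' : Over S) [GrpObj G] [GrpObj G']
    (u : G' ⟶ G) [IsMonHom u] [Mono u] (p : G ⟶ G'')
    (hcov : (∃ (Z : Scheme.{u}) (q : Z ⟶ G''.left) (r : Z ⟶ G.left), r ≫ p.left = q ∧ Surjective q ∧ Flat q ∧
        ∀ V : G''.left.Opens, IsAffineOpen V → ∃ W : Z.Opens, IsCompact (W : Set Z) ∧ q.base '' (W : Set Z) = (V : Set G''.left)))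
    (hsq : IsPullback ((G ◁ u) ≫ μ[G]) (fst G G') p p) :
    ((Flat G'.hom ∧ LocallyOfFinitePresentation G'.hom) ↔
      (Surjective p.left ∧ Flat p.left ∧ LocallyOfFinitePresentation p.left)) ∧
    (Flat p.left → LocallyOfFinitePresentation p.left →
      (LocallyOfFinitePresentation G.hom → LocallyOfFinitePresentation G''.hom) ∧
      (LocallyOfFiniteType G.hom → LocallyOfFiniteType G''.hom) ∧
      (LocallyOfFiniteType G.hom → QuasiCompact G.hom → QuasiCompact G''.hom) ∧
      (Smooth G.hom → Smooth G''.hom) ∧ (Etale G.hom → Etale G''.hom) ∧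
      (FormallyUnramified G.hom → LocallyOfFinitePresentation G.hom → FormallyUnramified G''.hom) ∧
      (LocallyQuasiFinite G.hom → LocallyOfFiniteType G.hom → LocallyQuasiFinite G''.hom)) ∧
    (Flat G'.hom → LocallyOfFinitePresentation G'.hom → QuasiCompact G'.hom → QuasiSeparated G'.hom →
      QuasiCompact p.left ∧ QuasiSeparated p.left ∧ LocallyOfFinitePresentation p.left ∧
      ((LocallyOfFinitePresentation G.hom ∧ QuasiCompact G.hom ∧ QuasiSeparated G.hom) ↔
        (LocallyOfFinitePresentation G''.hom ∧ QuasiCompact G''.hom ∧ QuasiSeparated G''.hom))) := by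
  obtain ⟨Z, q, r, hrq, hqs, hqf, hqc⟩ := hcov
  have hq := Groth.Agent.S5370.singleton_mem_fpqcPrecoverage q hqc
  have hsq' := hsq.map (Over.forget S)
  have hps : Surjective p.left := ⟨fun y => by
    obtain ⟨z, hz⟩ := hqs.surj y
    exact ⟨r z, by rw [← Scheme.Hom.comp_apply, hrq, hz]⟩⟩
  have hw : p.left ≫ G''.hom = G.hom := Over.w p
  have hflat : Flat G'.hom ↔ Flat p.left :=
    (Groth.Agent.S5370.result S G G' G'' u p ⟨Z, q, r, hrq, hqs, hqf, hqc⟩ hsq).2.1
  have hlofp : LocallyOfFinitePresentation G'.hom → LocallyOfFinitePresentation p.left := by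
    intro hG'
    have hfst : LocallyOfFinitePresentation (fst G G').left :=
      inferInstanceAs (LocallyOfFinitePresentation (pullback.fst G.hom G'.hom))
    exact Groth.Agent.S5370.of_fpqc_factor (P := @LocallyOfFinitePresentation) inferInstance
      p.left q r hrq hq hsq' hfst
  have hlofp' : LocallyOfFinitePresentation p.left → LocallyOfFinitePresentation G'.hom := by
    intro hp
    have hfst : LocallyOfFinitePresentation (fst G G').left :=
      MorphismProperty.of_isPullback (P := @LocallyOfFinitePresentation) hsq' hp
    exact Groth.Agent.S5370.hom_of_fst (P := @LocallyOfFinitePresentation) G G' hfst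
  have hB : Flat p.left → LocallyOfFinitePresentation p.left →
      (LocallyOfFinitePresentation G.hom → LocallyOfFinitePresentation G''.hom) ∧
      (LocallyOfFiniteType G.hom → LocallyOfFiniteType G''.hom) ∧
      (LocallyOfFiniteType G.hom → QuasiCompact G.hom → QuasiCompact G''.hom) ∧
      (Smooth G.hom → Smooth G''.hom) ∧ (Etale G.hom → Etale G''.hom) ∧
      (FormallyUnramified G.hom → LocallyOfFinitePresentation G.hom →
        FormallyUnramified G''.hom) ∧
      (LocallyQuasiFinite G.hom → LocallyOfFiniteType G.hom → LocallyQuasiFinite G''.hom) := by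
    intro hpf hpl
    refine ⟨?_, ?_, ?_, ?_, ?_, ?_, ?_⟩
    · intro hG
      have : LocallyOfFinitePresentation (p.left ≫ G''.hom) := by rw [hw]; exact hG
      exact Groth.Agent.S0114.result p.left G''.hom
    · intro hG
      have : LocallyOfFiniteType (p.left ≫ G''.hom) := by rw [hw]; exact hG
      exact Groth.Agent.S5938.result p.left G''.hom
    · intro _ hG
      have : QuasiCompact (p.left ≫ G''.hom) := by rw [hw]; exact hG
      exact Groth.Agent.Lib.Helper15QuotFP.quasiCompact_of_comp_surjective p.left G''.hom
    · intro hG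
      have : Smooth (p.left ≫ G''.hom) := by rw [hw]; exact hG
      exact Groth.Agent.S0115.result p.left G''.hom
    · intro hG
      have : Etale (p.left ≫ G''.hom) := by rw [hw]; exact hG
      exact Groth.Agent.Lib.Helper15FppfSrc2.etale_of_fppf_comp p.left G''.hom
    · intro hG hG2
      have : FormallyUnramified (p.left ≫ G''.hom) := by rw [hw]; exact hG
      have : LocallyOfFinitePresentation (p.left ≫ G''.hom) := by rw [hw]; exact hG2
      exact Groth.Agent.Lib.Helper15QuotFP.formallyUnramified_of_fppf_comp p.left G''.hom
    · intro hG hG2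
      have : LocallyQuasiFinite (p.left ≫ G''.hom) := by rw [hw]; exact hG
      have : LocallyOfFiniteType (p.left ≫ G''.hom) := by rw [hw]; exact hG2
      exact Groth.Agent.Lib.Helper15QuotFP.locallyQuasiFinite_of_fppf_comp p.left G''.hom
  refine ⟨⟨fun ⟨h1, h2⟩ => ⟨hps, hflat.1 h1, hlofp h2⟩,
    fun ⟨_, h1, h2⟩ => ⟨hflat.2 h1, hlofp' h2⟩⟩, hB, ?_⟩
  intro h1 h2 h3 h4
  have hpf := hflat.1 h1
  have hpl := hlofp h2
  have hpqc : QuasiCompact p.left := by
    have hfst : QuasiCompact (fst G G').left :=
      inferInstanceAs (QuasiCompact (pullback.fst G.hom G'.hom))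
    exact Groth.Agent.S5370.of_fpqc_factor (P := @QuasiCompact)
      Groth.Agent.Lib.Helper12.descendsAlong_quasiCompact p.left q r hrq hq hsq' hfst
  have hpqs : QuasiSeparated p.left := by
    have hfst : QuasiSeparated (fst G G').left :=
      inferInstanceAs (QuasiSeparated (pullback.fst G.hom G'.hom))
    exact Groth.Agent.S5370.of_fpqc_factor (P := @QuasiSeparated)
      Groth.Agent.Lib.Helper12.descendsAlong_quasiSeparated p.left q r hrq hq hsq' hfst
  refine ⟨hpqc, hpqs, hpl, ⟨fun ⟨a, b, c⟩ => ⟨(hB hpf hpl).1 a, ?_, ?_⟩, fun ⟨a, b, c⟩ => ?_⟩⟩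
  · have : QuasiCompact (p.left ≫ G''.hom) := by rw [hw]; exact b
    exact Groth.Agent.Lib.Helper15QuotFP.quasiCompact_of_comp_surjective p.left G''.hom
  · have : QuasiSeparated (p.left ≫ G''.hom) := by rw [hw]; exact c
    exact Groth.Agent.Lib.Helper15QuotFP.quasiSeparated_of_fpqc_comp p.left G''.hom
  · rw [← hw]
    exact ⟨inferInstance, inferInstance, inferInstance⟩

end Groth.Agent.S5371
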