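import Groth.Statements.S5375
import Groth.Agent.Lib.Helper25CoeffFin
import Groth.Agent.Lib.Helper25Antipode

set_option autoImplicit false
universe u
open CategoryTheory CategoryTheory.Limits MonoidalCategory CartesianMonoidalCategory MonObj GrpObj AlgebraicGeometry
open SGA3

namespace Groth.Agent.S5375

open Groth.Agent.Lib.Helper25 HopfRep TensorProduct

section
variable {k : Type u} [Field k] {A : Type u} [CommRing A] [HopfAlgebra k A]

/-- The antipode of a commutative Hopf algebra is an involution. -/
lemma antipode_antipode (a : A) :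
    HopfAlgebra.antipode k (HopfAlgebra.antipode k a) = a := by
  have h : ((WithConv.toConv (AlgHom.id k A))⁻¹)⁻¹ = WithConv.toConv (AlgHom.id k A) := inv_inv _
  have h2 := congrArg (fun f => (WithConv.ofConv f) a) h
  exact h2

/-- The image of a subcoalgebra under the antipode is a subcoalgebra. -/
lemma isSubcoalg_map_antipode {C : Submodule k A} (hC : IsSubcoalg C) :
    IsSubcoalg (C.map (HopfAlgebra.antipode k (A := A))) := by
  rintro _ ⟨c, hc, rfl⟩
  rw [comul_antipode]
  obtain ⟨z, hz⟩ := hC c hc
  rw [← hz]
  clear hz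
  induction z using TensorProduct.induction_on with
  | zero => simp
  | add x y hx hy => simp only [map_add]; exact add_mem hx hy
  | tmul a b =>
    refine ⟨(⟨HopfAlgebra.antipode k (b : A), ⟨b, b.2, rfl⟩⟩ :
      C.map (HopfAlgebra.antipode k (A := A))) ⊗ₜ
      (⟨HopfAlgebra.antipode k (a : A), ⟨a, a.2, rfl⟩⟩ :
      C.map (HopfAlgebra.antipode k (A := A))), ?_⟩
    simp

lemma isSubcoalg_sup {B B' : Submodule k A} (hB : IsSubcoalg B) (hB' : IsSubcoalg B') :
    IsSubcoalg (B ⊔ B') := by
  have h : B ⊔ B' = ⨆ i : Bool, (if i then B else B') := by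
    rw [iSup_bool_eq]; simp
  rw [h]
  apply isSubcoalg_iSup
  intro i
  cases i <;> simpa

end

/-- Let A be a commutative Hopf algebra over a field k (an affine k-group, not necessarily of finite
type) and x an element of A. Then there is a subalgebra B of A of finite type over k containing x
which is a sub-Hopf-algebra: the comultiplication sends B into B ⊗ B and the antipode preserves B. -/
theorem result (k : Type u) [Field k] (A : Type u) [CommRing A] [HopfAlgebra k A] (x : A) :
    ∃ B : Subalgebra k A, x ∈ B ∧ B.FG ∧ SGA3.IsHopfSubalgebra k A B := by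
  classical
  -- a finite-dimensional subcoalgebra containing x
  let U : Submodule k A := gen k A x
  have hU : IsSubcomod (k := k) (A := A) U := isSubcomod_gen x
  have hUfg : U.FG := fg_gen x
  have hxU : x ∈ U := self_mem_gen x
  letI := subComod U hU
  have : Module.Finite k U := Module.Finite.iff_fg.mpr hUfg
  let C : Submodule k A := coeffSpace k A U
  have hC : IsSubcoalg C := isSubcoalg_coeffSpace
  have hCfg : C.FG := coeffSpace_fg
  have hUC : U ≤ C := le_coeffSpace_subComod U hU
  -- make it stable under the antipode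
  let D : Submodule k A := C ⊔ C.map (HopfAlgebra.antipode k (A := A))
  have hD : IsSubcoalg D := isSubcoalg_sup hC (isSubcoalg_map_antipode hC)
  have hDfg : D.FG := Submodule.FG.sup hCfg (Submodule.FG.map _ hCfg)
  have hSD : ∀ d ∈ D, HopfAlgebra.antipode k d ∈ D := by
    intro d hd
    obtain ⟨c, hc, e, he, rfl⟩ := Submodule.mem_sup.mp hd
    obtain ⟨c', hc', rfl⟩ := he
    rw [map_add, antipode_antipode]
    exact add_mem (Submodule.mem_sup_right ⟨c, hc, rfl⟩) (Submodule.mem_sup_left hc')
  let B : Subalgebra k A := Algebra.adjoin k (D : Set A)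
  have hDB : ∀ d ∈ D, d ∈ B := fun d hd => Algebra.subset_adjoin hd
  refine ⟨B, hDB x (Submodule.mem_sup_left (hUC hxU)), ?_, ?_, ?_⟩
  · obtain ⟨s, hs⟩ := hDfg
    refine ⟨s, ?_⟩
    rw [← Algebra.adjoin_span, hs]
  · -- comultiplication
    have hle : B ≤ Subalgebra.comap (Bialgebra.comulAlgHom k A)
        (Algebra.TensorProduct.map B.val B.val).range := by
      apply Algebra.adjoin_le
      intro d hd
      obtain ⟨z, hz⟩ := hD d hd
      show CoalgebraStruct.comul (R := k) d ∈ (Algebra.TensorProduct.map B.val B.val).range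
      rw [← hz]
      clear hz
      induction z using TensorProduct.induction_on with
      | zero => simp
      | add x y hx hy => rw [map_add]; exact add_mem hx hy
      | tmul a b =>
        exact ⟨(⟨a, hDB a a.2⟩ : B) ⊗ₜ (⟨b, hDB b b.2⟩ : B), by simp⟩
    intro b hb
    obtain ⟨z, hz⟩ := hle hb
    exact ⟨z, hz⟩
  · -- antipode
    have hle : B ≤ Subalgebra.comap (HopfAlgebra.antipodeAlgHom k A) B := by
      apply Algebra.adjoin_le
      intro d hd
      exact hDB _ (hSD d hd)
    intro b hb
    exact hle hb

end Groth.Agent.S5375
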