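import Groth.Statements.S5376
import Groth.Agent.Lib.Helper25Coeff
import Groth.Agent.Lib.Helper25Points

set_option autoImplicit false
universe u
open CategoryTheory CategoryTheory.Limits MonoidalCategory CartesianMonoidalCategory MonObj GrpObj AlgebraicGeometry
open SGA3

namespace Groth.Agent.S5376

open Groth.Agent.Lib.Helper25 HopfRep TensorProduct

/-- Rational points of a reduced finitely generated algebra over an algebraically closed field
separate elements from zero. -/
lemma eq_zero_of_points {k : Type u} [Field k] [IsAlgClosed k] {A : Type u} [CommRing A]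
    [Algebra k A] [Algebra.FiniteType k A] [IsReduced A] (a : A)
    (h : ∀ g : A →ₐ[k] k, g a = 0) : a = 0 := by
  by_contra ha
  have hJ : IsJacobsonRing A := isJacobsonRing_of_finiteType (A := k)
  have hrad : (⊥ : Ideal A).IsRadical := by
    rw [← Ideal.radical_eq_iff]
    exact (nilradical_eq_zero A)
  have hjac : (⊥ : Ideal A).jacobson = ⊥ := hJ.out hrad
  have ha' : a ∉ (⊥ : Ideal A).jacobson := by rw [hjac]; simpa using ha
  rw [Ideal.jacobson, Submodule.mem_sInf] at ha'
  push Not at ha'
  obtain ⟨M, ⟨-, hM⟩, haM⟩ := ha'
  obtain ⟨x, hx⟩ := exists_point_vanishing_on (k := k) M hM.ne_top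
  have hker : M = RingHom.ker x.toRingHom := by
    apply hM.eq_of_le (RingHom.ker_ne_top _)
    intro f hf
    exact hx f hf
  apply haM
  rw [hker]
  exact h x

/-- Let k be an algebraically closed field, A a finitely generated commutative Hopf algebra over k which
is reduced (a reduced affine algebraic k-group G), V a finite-dimensional A-comodule and v a vector
of V. Let E be the k-subspace of V spanned by the vectors g·v for g running over the k-points of G
(algebra maps A → k). Then E is a subcomodule of V containing v, and it is the smallest one. -/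
theorem result (k : Type u) [Field k] [IsAlgClosed k] (A : Type u) [CommRing A] [HopfAlgebra k A]
    [Algebra.FiniteType k A] [IsReduced A] (V : Type u) [AddCommGroup V] [Module k V] [HopfRep.Comod k A V]
    [Module.Finite k V] (v : V) :
    letI E : Submodule k V := Submodule.span k (Set.range fun g : A →ₐ[k] k => HopfRep.Comod.act k A V g v)
    HopfRep.IsSubcomod (k := k) (A := A) E ∧ v ∈ E ∧
      ∀ W : Submodule k V, HopfRep.IsSubcomod (k := k) (A := A) W → v ∈ W → E ≤ W := by
  have hact : ∀ g : A →ₐ[k] k, HopfRep.Comod.act k A V g v = T (A := A) g.toLinearMap v := fun g => rfl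
  have hEW : Submodule.span k (Set.range fun g : A →ₐ[k] k => HopfRep.Comod.act k A V g v) =
      gen k A v := by
    apply le_antisymm
    · rw [Submodule.span_le]
      rintro _ ⟨g, rfl⟩
      show HopfRep.Comod.act k A V g v ∈ gen k A v
      rw [hact]
      exact T_mem_gen _ v
    · intro w hw
      by_contra hwE
      obtain ⟨φ, rfl⟩ := (mem_gen_iff v w).mp hw
      obtain ⟨l, hlw, hlE⟩ := Submodule.exists_le_ker_of_notMem hwE
      apply hlw
      have ha : lslice l (Comod.coact (k := k) (A := A) v) = 0 := by
        apply eq_zero_of_points (k := k)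
        intro g
        have h1 := apply_lslice l g.toLinearMap (Comod.coact (k := k) (A := A) v)
        have h2 : g (lslice l (Comod.coact (k := k) (A := A) v)) =
            l (slice V g.toLinearMap (Comod.coact (k := k) (A := A) v)) := h1
        rw [h2]
        have h3 : HopfRep.Comod.act k A V g v ∈ LinearMap.ker l :=
          hlE (Submodule.subset_span ⟨g, rfl⟩)
        exact h3
      have h4 := apply_lslice l φ (Comod.coact (k := k) (A := A) v)
      rw [ha, map_zero] at h4
      exact h4.symm
  show HopfRep.IsSubcomod (k := k) (A := A)
      (Submodule.span k (Set.range fun g : A →ₐ[k] k => HopfRep.Comod.act k A V g v)) ∧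
    v ∈ Submodule.span k (Set.range fun g : A →ₐ[k] k => HopfRep.Comod.act k A V g v) ∧
    ∀ W : Submodule k V, HopfRep.IsSubcomod (k := k) (A := A) W → v ∈ W →
      Submodule.span k (Set.range fun g : A →ₐ[k] k => HopfRep.Comod.act k A V g v) ≤ W
  rw [hEW]
  exact ⟨isSubcomod_gen v, self_mem_gen v, fun W hW hv => gen_le hW hv⟩

end Groth.Agent.S5376
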