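import Groth.Statements.S5377
import Mathlib.RingTheory.RingHom.FaithfullyFlat
import Mathlib.RingTheory.Flat.EquationalCriterion
import Mathlib.Algebra.Category.Ring.FilteredColimits
import Mathlib.CategoryTheory.Limits.ConcreteCategory.Basic

set_option autoImplicit false
universe u
open CategoryTheory CategoryTheory.Limits MonoidalCategory CartesianMonoidalCategory MonObj GrpObj AlgebraicGeometry
open SGA3

namespace Groth.Agent.S5377

section
variable {J : Type u} [SmallCategory J] [IsFiltered J] (F : J ⥤ CommRingCat.{u})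

/-- The canonical ring homomorphism into the colimit. -/
noncomputable abbrev ιR (j : J) : F.obj j →+* (colimit F : CommRingCat.{u}) := (colimit.ι F j).hom

lemma ιR_map {j k : J} (g : j ⟶ k) (y : F.obj j) : ιR F k ((F.map g).hom y) = ιR F j y := by
  have h := colimit.w F g
  have h2 := congrArg (fun m => m.hom y) h
  exact h2

lemma exists_rep (x : (colimit F : CommRingCat.{u})) : ∃ j, ∃ y : F.obj j, ιR F j y = x :=
  Concrete.colimit_exists_rep F x

lemma exists_rep_fin {n : ℕ} (x : Fin n → (colimit F : CommRingCat.{u})) :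
    ∃ j, ∃ y : Fin n → F.obj j, ∀ t, ιR F j (y t) = x t := by
  classical
  choose idx y hy using fun t => exists_rep F (x t)
  obtain ⟨j, hj⟩ := IsFiltered.sup_objs_exists (Finset.univ.image idx)
  refine ⟨j, fun t => (F.map (hj (Finset.mem_image_of_mem _ (Finset.mem_univ t))).some).hom (y t),
    fun t => ?_⟩
  rw [ιR_map, hy]

lemma exists_map_eq_zero {j : J} (y : F.obj j) (h : ιR F j y = 0) :
    ∃ k, ∃ g : j ⟶ k, (F.map g).hom y = 0 := by
  have h' : ιR F j y = ιR F j 0 := by rw [h, map_zero]
  obtain ⟨k, f, g, hfg⟩ := Concrete.colimit_exists_of_rep_eq F y 0 h'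
  refine ⟨k, f, ?_⟩
  have h0 : (F.map g).hom (0 : F.obj j) = 0 := map_zero _
  exact hfg.trans h0

end

/-- Let (C_i → A_i)_i be a filtered direct system of homomorphisms of commutative rings, each of which
is faithfully flat. Then the induced homomorphism colim C_i → colim A_i is faithfully flat. -/
theorem result (J : Type u) [SmallCategory J] [IsFiltered J]
    (C A : J ⥤ CommRingCat.{u}) (φ : C ⟶ A) (h : ∀ j : J, (φ.app j).hom.FaithfullyFlat) :
    (colimMap φ).hom.FaithfullyFlat := by
  classical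
  -- notation
  have hcompat : ∀ (j : J) (c : C.obj j),
      (colimMap φ).hom (ιR C j c) = ιR A j ((φ.app j).hom c) := by
    intro j c
    have h1 := ι_colimMap φ j
    exact congrArg (fun m => m.hom c) h1
  have hnat : ∀ {j k : J} (g : j ⟶ k) (c : C.obj j),
      (A.map g).hom ((φ.app j).hom c) = (φ.app k).hom ((C.map g).hom c) := by
    intro j k g c
    have h1 := φ.naturality g
    exact (congrArg (fun m => m.hom c) h1).symm
  letI : Algebra (colimit C : CommRingCat.{u}) (colimit A : CommRingCat.{u}) :=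
    (colimMap φ).hom.toAlgebra
  have halg : ∀ (c : (colimit C : CommRingCat.{u})) (a : (colimit A : CommRingCat.{u})),
      c • a = (colimMap φ).hom c * a := fun c a => rfl
  show Module.FaithfullyFlat (colimit C : CommRingCat.{u}) (colimit A : CommRingCat.{u})
  have hflat : Module.Flat (colimit C : CommRingCat.{u}) (colimit A : CommRingCat.{u}) := by
    apply Module.Flat.of_forall_isTrivialRelation
    intro l c x hcx
    obtain ⟨j₁, c₁, hc₁⟩ := exists_rep_fin C c
    obtain ⟨j₂, x₂, hx₂⟩ := exists_rep_fin A x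
    let j₃ := IsFiltered.max j₁ j₂
    let c₃ : Fin l → C.obj j₃ := fun t => (C.map (IsFiltered.leftToMax j₁ j₂)).hom (c₁ t)
    let x₃ : Fin l → A.obj j₃ := fun t => (A.map (IsFiltered.rightToMax j₁ j₂)).hom (x₂ t)
    have hc₃ : ∀ t, ιR C j₃ (c₃ t) = c t := fun t => by rw [ιR_map, hc₁]
    have hx₃ : ∀ t, ιR A j₃ (x₃ t) = x t := fun t => by rw [ιR_map, hx₂]
    have hrel : ιR A j₃ (∑ t, (φ.app j₃).hom (c₃ t) * x₃ t) = 0 := by
      rw [map_sum, ← hcx]
      refine Finset.sum_congr rfl fun t _ => ?_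
      rw [map_mul, ← hcompat, hc₃, hx₃, halg]
    obtain ⟨k, g, hk⟩ := exists_map_eq_zero A _ hrel
    let c₄ : Fin l → C.obj k := fun t => (C.map g).hom (c₃ t)
    let x₄ : Fin l → A.obj k := fun t => (A.map g).hom (x₃ t)
    have hc₄ : ∀ t, ιR C k (c₄ t) = c t := fun t => by rw [ιR_map, hc₃]
    have hx₄ : ∀ t, ιR A k (x₄ t) = x t := fun t => by rw [ιR_map, hx₃]
    letI : Algebra (C.obj k) (A.obj k) := (φ.app k).hom.toAlgebra
    have hFF : Module.FaithfullyFlat (C.obj k) (A.obj k) := h k
    have hsum : ∑ t, c₄ t • x₄ t = 0 := by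
      rw [← hk, map_sum]
      refine Finset.sum_congr rfl fun t _ => ?_
      rw [map_mul, hnat]
      rfl
    obtain ⟨n, a, z, hxz, haz⟩ := Module.Flat.isTrivialRelation_of_sum_smul_eq_zero hsum
    refine ⟨n, fun t s => ιR C k (a t s), fun s => ιR A k (z s), ?_, ?_⟩
    · intro t
      rw [← hx₄ t, hxz t, map_sum]
      refine Finset.sum_congr rfl fun s _ => ?_
      rw [halg, hcompat, ← map_mul]
      rfl
    · intro s
      have := congrArg (ιR C k) (haz s)
      rw [map_sum, map_zero] at this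
      rw [← this]
      refine Finset.sum_congr rfl fun t _ => ?_
      rw [map_mul, hc₄]
  rw [Module.FaithfullyFlat.iff_flat_and_ideal_smul_eq_top]
  refine ⟨hflat, fun I hI => ?_⟩
  rw [Ideal.smul_top_eq_map] at hI
  have hI' : Ideal.map (colimMap φ).hom I = ⊤ := by
    have h1 : (1 : (colimit A : CommRingCat.{u})) ∈
        (Ideal.map (algebraMap (colimit C : CommRingCat.{u}) (colimit A : CommRingCat.{u})) I).restrictScalars
          (colimit C : CommRingCat.{u}) := by
      rw [hI]; exact Submodule.mem_top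
    exact (Ideal.eq_top_iff_one _).mpr h1
  -- every element of the extended ideal comes from an extended ideal at a finite stage
  have key : ∀ y ∈ Ideal.map (colimMap φ).hom I, ∃ k, ∃ y' : A.obj k, ιR A k y' = y ∧
      y' ∈ Ideal.map (φ.app k).hom (Ideal.comap (ιR C k) I) := by
    have hpush : ∀ {j k : J} (g : j ⟶ k) (y' : A.obj j),
        y' ∈ Ideal.map (φ.app j).hom (Ideal.comap (ιR C j) I) →
        (A.map g).hom y' ∈ Ideal.map (φ.app k).hom (Ideal.comap (ιR C k) I) := by
      intro j k g y' hy'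
      have h1 : Ideal.map (A.map g).hom (Ideal.map (φ.app j).hom (Ideal.comap (ιR C j) I)) ≤
          Ideal.map (φ.app k).hom (Ideal.comap (ιR C k) I) := by
        rw [Ideal.map_map, Ideal.map_le_iff_le_comap]
        intro c hc
        rw [Ideal.mem_comap, RingHom.comp_apply, hnat]
        apply Ideal.mem_map_of_mem
        rw [Ideal.mem_comap, ιR_map]
        exact hc
      exact h1 (Ideal.mem_map_of_mem _ hy')
    intro y hy
    induction hy using Submodule.span_induction with
    | mem y hy =>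
      obtain ⟨c, hc, rfl⟩ := hy
      obtain ⟨k, c', hc'⟩ := exists_rep C c
      refine ⟨k, (φ.app k).hom c', ?_, ?_⟩
      · rw [← hcompat, hc']
      · apply Ideal.mem_map_of_mem
        rw [Ideal.mem_comap, hc']
        exact hc
    | zero =>
      obtain ⟨k⟩ := IsFiltered.nonempty (C := J)
      exact ⟨k, 0, map_zero _, zero_mem _⟩
    | add y₁ y₂ _ _ h₁ h₂ =>
      obtain ⟨k₁, y₁', hy₁, hy₁'⟩ := h₁
      obtain ⟨k₂, y₂', hy₂, hy₂'⟩ := h₂
      refine ⟨IsFiltered.max k₁ k₂, (A.map (IsFiltered.leftToMax k₁ k₂)).hom y₁' +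
        (A.map (IsFiltered.rightToMax k₁ k₂)).hom y₂', ?_, ?_⟩
      · rw [map_add, ιR_map, ιR_map, hy₁, hy₂]
      · exact add_mem (hpush _ _ hy₁') (hpush _ _ hy₂')
    | smul a y _ hy =>
      obtain ⟨k₁, y', hy1, hy2⟩ := hy
      obtain ⟨k₂, a', ha'⟩ := exists_rep A a
      refine ⟨IsFiltered.max k₁ k₂, (A.map (IsFiltered.rightToMax k₁ k₂)).hom a' *
        (A.map (IsFiltered.leftToMax k₁ k₂)).hom y', ?_, ?_⟩
      · rw [map_mul, ιR_map, ιR_map, hy1, ha']
        rfl
      · exact Ideal.mul_mem_left _ _ (hpush _ _ hy2)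
  obtain ⟨k, y', hy1, hy2⟩ := key 1 (hI'.symm ▸ Submodule.mem_top)
  -- at a later stage the lift becomes 1
  have h1 : ιR A k (y' - 1) = 0 := by rw [map_sub, hy1, map_one, sub_self]
  obtain ⟨k', g, hg⟩ := exists_map_eq_zero A _ h1
  have h2 : (1 : A.obj k') ∈ Ideal.map (φ.app k').hom (Ideal.comap (ιR C k') I) := by
    have h3 : (A.map g).hom y' = 1 := by
      rw [map_sub, map_one, sub_eq_zero] at hg
      exact hg
    rw [← h3]
    have h1' : Ideal.map (A.map g).hom (Ideal.map (φ.app k).hom (Ideal.comap (ιR C k) I)) ≤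
        Ideal.map (φ.app k').hom (Ideal.comap (ιR C k') I) := by
      rw [Ideal.map_map, Ideal.map_le_iff_le_comap]
      intro c hc
      rw [Ideal.mem_comap, RingHom.comp_apply, hnat]
      apply Ideal.mem_map_of_mem
      rw [Ideal.mem_comap, ιR_map]
      exact hc
    exact h1' (Ideal.mem_map_of_mem _ hy2)
  letI : Algebra (C.obj k') (A.obj k') := (φ.app k').hom.toAlgebra
  have hFF : Module.FaithfullyFlat (C.obj k') (A.obj k') := h k'
  have h4 := Ideal.comap_map_eq_self_of_faithfullyFlat (B := A.obj k') (Ideal.comap (ιR C k') I)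
  have h5 : Ideal.map (algebraMap (C.obj k') (A.obj k')) (Ideal.comap (ιR C k') I) = ⊤ :=
    (Ideal.eq_top_iff_one _).mpr h2
  rw [h5, Ideal.comap_top] at h4
  have h6 : (1 : C.obj k') ∈ Ideal.comap (ιR C k') I := by rw [← h4]; exact Submodule.mem_top
  rw [Ideal.mem_comap, map_one] at h6
  exact (Ideal.eq_top_iff_one _).mpr h6

end Groth.Agent.S5377
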