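import Groth.Statements.S5380
import Groth.Agent.Lib.Helper5LocalFlat

set_option autoImplicit false
universe u
open CategoryTheory CategoryTheory.Limits MonoidalCategory CartesianMonoidalCategory MonObj GrpObj AlgebraicGeometry
open SGA3

namespace Groth.Agent.S5380

/-- Let R be a discrete valuation ring with uniformizer π, A a flat commutative R-algebra and M an
A-module which is flat over R. Suppose that M/πM is a flat module over A/πA and that M ⊗_R K is a
flat module over A ⊗_R K, K the fraction field of R (equivalently, M[1/π] is flat over A[1/π], the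
form used here). Then M is a flat A-module. -/
theorem result (R : Type u) [CommRing R] [IsDomain R] [IsDiscreteValuationRing R]
    (π : R) (hπ : Irreducible π) (A : Type u) [CommRing A] [Algebra R A] [Module.Flat R A]
    (M : Type u) [AddCommGroup M] [Module A M] [Module R M] [IsScalarTower R A M] [Module.Flat R M]
    (h1 : Module.Flat (A ⧸ Ideal.span {algebraMap R A π}) (M ⧸ (Ideal.span {algebraMap R A π} • (⊤ : Submodule A M))))
    (h2 : Module.Flat (Localization.Away (algebraMap R A π)) (LocalizedModule (Submonoid.powers (algebraMap R A π)) M)) :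
    Module.Flat A M := by
  classical
  set t : A := algebraMap R A π with ht
  set I : Ideal A := Ideal.span {t} with hI
  have hπ0 : π ≠ 0 := hπ.ne_zero
  have hπreg : π ∈ nonZeroDivisors R := mem_nonZeroDivisors_of_ne_zero hπ0
  have hregA : IsSMulRegular A π := Module.Flat.isSMulRegular_of_nonZeroDivisors hπreg
  have hregM : IsSMulRegular M π := Module.Flat.isSMulRegular_of_nonZeroDivisors hπreg
  have htA : ∀ a : A, t * a = 0 → a = 0 := by
    intro a ha
    apply hregA
    change π • a = π • (0 : A)
    rw [smul_zero, Algebra.smul_def]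
    exact ha
  -- H1
  have H1 : Function.Injective (I.subtype.lTensor M) := by
    have h := Groth.Agent.Lib.Helper5.lTensor_map_subtype_injective_of_flat (R := R) (S := A) M
      (Ideal.span {π})
    have e : (Ideal.span {π}).map (algebraMap R A) = I := by
      rw [Ideal.map_span, Set.image_singleton]
    rw [e] at h
    exact h
  -- H2
  have hfl : Module.Flat (A ⧸ I) (TensorProduct (A) (A ⧸ I) M) := by
    let e0 : TensorProduct A (A ⧸ I) M ≃ₗ[A] M ⧸ (I • (⊤ : Submodule A M)) :=
      TensorProduct.quotTensorEquivQuotSMul M I
    let e1 : TensorProduct A (A ⧸ I) M ≃ₗ[A ⧸ I] M ⧸ (I • (⊤ : Submodule A M)) :=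
      { e0 with
        map_smul' := by
          intro c x
          obtain ⟨a, rfl⟩ := Ideal.Quotient.mk_surjective c
          have h1 : ∀ y : TensorProduct A (A ⧸ I) M,
              (Ideal.Quotient.mk I a) • y = a • y := by
            intro y
            rw [← Ideal.Quotient.algebraMap_eq, algebraMap_smul]
          have h2 : ∀ y : M ⧸ (I • (⊤ : Submodule A M)),
              (Ideal.Quotient.mk I a) • y = a • y := by
            intro y
            rw [← Ideal.Quotient.algebraMap_eq, algebraMap_smul]
          simp only [RingHom.id_apply]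
          rw [h1, h2]
          exact e0.map_smul a x }
    exact (Module.Flat.equiv_iff e1).mpr h1
  have H2 := Groth.Agent.Lib.Helper5.lTensor_restrictScalars_subtype_injective_of_flat_baseChange
    (M := M) I hfl
  rw [Module.Flat.iff_lTensor_injective]
  intro J hJ
  -- t is injective on M ⊗ J
  have htJ : ∀ z : TensorProduct A M J, t • z = 0 → z = 0 := by
    have : Module.Finite A J := Module.Finite.iff_fg.mpr hJ
    obtain ⟨r, s, hs⟩ := Module.Finite.exists_fin (R := A)
      (M := (↥J) ⧸ (I • (⊤ : Submodule A J)))
    have hkill : I • (⊤ : Submodule A ((↥J) ⧸ (I • (⊤ : Submodule A J)))) = ⊥ := by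
      rw [eq_bot_iff]
      refine Submodule.smul_le.mpr ?_
      intro a ha x _
      obtain ⟨y, rfl⟩ := Submodule.Quotient.mk_surjective _ x
      rw [← Submodule.Quotient.mk_smul, Submodule.mem_bot, Submodule.Quotient.mk_eq_zero]
      exact Submodule.smul_mem_smul ha trivial
    have hT := Groth.Agent.Lib.Helper5.tor1Vanish_of_smul_top_eq_bot (M := M) I H1 H2 r _ s hs hkill
    have hinj := hT J J (t • (LinearMap.id : J →ₗ[A] J)) (Submodule.mkQ _) ?_
      (Submodule.mkQ_surjective _) ?_
    · intro z hz
      apply hinj
      rw [LinearMap.lTensor_smul, LinearMap.lTensor_id, LinearMap.smul_apply, LinearMap.id_apply,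
        hz, map_zero]
    · intro x y hxy
      have h0 : t • (x - y) = 0 := by
        rw [smul_sub]
        exact sub_eq_zero.mpr hxy
      have h1 : ((t • (x - y) : J) : A) = 0 := by rw [h0]; rfl
      rw [Submodule.coe_smul, smul_eq_mul] at h1
      have h2 := htA _ h1
      exact sub_eq_zero.mp (Subtype.ext h2)
    · intro y
      rw [Submodule.mkQ_apply, Submodule.Quotient.mk_eq_zero, hI,
        Submodule.ideal_span_singleton_smul, Submodule.mem_smul_pointwise_iff_exists]
      constructor
      · rintro ⟨x, -, hx⟩
        exact ⟨x, hx⟩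
      · rintro ⟨x, hx⟩
        exact ⟨x, trivial, hx⟩
  -- kernel is t-power torsion
  let S : Submonoid A := Submonoid.powers t
  let f : M →ₗ[A] LocalizedModule S M := LocalizedModule.mkLinearMap S M
  have hflatloc : Module.Flat A (LocalizedModule S M) :=
    Module.Flat.trans A (Localization.Away t) (LocalizedModule S M)
  have hloc : IsLocalizedModule S (TensorProduct.AlgebraTensorModule.rTensor A J f) :=
    inferInstance
  rw [injective_iff_map_eq_zero]
  intro z hz
  have hcomm : (J.subtype.lTensor (LocalizedModule S M)) ((f.rTensor J) z) =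
      (f.rTensor A) ((J.subtype.lTensor M) z) := by
    rw [← LinearMap.comp_apply, ← LinearMap.comp_apply, LinearMap.lTensor_comp_rTensor,
      LinearMap.rTensor_comp_lTensor]
  rw [hz, map_zero] at hcomm
  have hz2 : (f.rTensor J) z = 0 :=
    Module.Flat.lTensor_preserves_injective_linearMap (M := LocalizedModule S M) J.subtype
      Subtype.val_injective (by rw [hcomm, map_zero])
  have hz3 : (TensorProduct.AlgebraTensorModule.rTensor A J f) z = 0 := hz2
  obtain ⟨⟨c, n, rfl⟩, hc⟩ := (IsLocalizedModule.eq_zero_iff S _).mp hz3
  have hc' : t ^ n • z = 0 := hc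
  clear hc hz3 hz2 hcomm hz
  induction n with
  | zero => simpa using hc'
  | succ n ih =>
    apply ih
    apply htJ
    rw [← mul_smul, ← pow_succ']
    exact hc'

end Groth.Agent.S5380
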