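import Groth.Statements.S5381
import Mathlib.RingTheory.Flat.TorsionFree
import Mathlib.RingTheory.RingHom.Flat

set_option autoImplicit false
universe u
open CategoryTheory CategoryTheory.Limits MonoidalCategory CartesianMonoidalCategory MonObj GrpObj AlgebraicGeometry
open SGA3

namespace Groth.Agent.S5381

/-- For S the spectrum of a Dedekind domain R: let X be a scheme which is flat, quasi-compact and
quasi-separated over R. Then the ring of global sections Γ(X, O_X) is a flat R-module. (The
published remark takes S locally noetherian and regular of dimension 1 and also observes, when S is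
local with closed point s and uniformizer π, that Γ(X, O_X)/πΓ(X, O_X) → Γ(X_s, O_{X_s}) is
injective; this row takes S the spectrum of a Dedekind domain and omits the injectivity.) -/
theorem result (R : Type u) [CommRing R] [IsDedekindDomain R]
    (X : Scheme.{u}) (f : X ⟶ Spec (CommRingCat.of R)) [Flat f] [QuasiCompact f] [QuasiSeparated f] :
    letI := ((Scheme.ΓSpecIso (CommRingCat.of R)).inv ≫ f.appTop).hom.toAlgebra
    Module.Flat R Γ(X, ⊤) := by
  letI := ((Scheme.ΓSpecIso (CommRingCat.of R)).inv ≫ f.appTop).hom.toAlgebra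
  rw [IsDedekindDomain.flat_iff_torsion_eq_bot, eq_bot_iff]
  rintro s ⟨⟨r, hr⟩, hrs⟩
  rw [Submodule.mem_bot]
  have hrs' : ((Scheme.ΓSpecIso (CommRingCat.of R)).inv ≫ f.appTop).hom r * s = 0 := hrs
  apply X.IsSheaf.section_ext (U := Opposite.op ⊤)
  intro x _
  obtain ⟨_, ⟨V, hV : IsAffineOpen V, rfl⟩, hxV, -⟩ :=
    (X.isBasis_affineOpens).exists_subset_of_mem_open (Set.mem_univ x) isOpen_univ
  refine ⟨V, le_top, hxV, ?_⟩
  rw [map_zero]
  let φ : R →+* Γ(X, V) :=
    ((Scheme.ΓSpecIso (CommRingCat.of R)).inv ≫ f.appLE ⊤ V le_top).hom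
  have hφ : φ.Flat := by
    have h1 : (f.appLE ⊤ V le_top).hom.Flat := Flat.flat_appLE f (isAffineOpen_top _) hV _
    have h2 : ((Scheme.ΓSpecIso (CommRingCat.of R)).inv).hom.Flat :=
      RingHom.Flat.of_bijective (ConcreteCategory.bijective_of_isIso _)
    exact RingHom.Flat.comp h2 h1
  have hmul : φ r * X.presheaf.map (homOfLE (le_top : V ≤ ⊤)).op s = 0 := by
    have := congrArg (X.presheaf.map (homOfLE (le_top : V ≤ ⊤)).op) hrs'
    rw [map_mul, map_zero] at this
    convert this using 2
    simp only [φ, Scheme.Hom.appLE, CommRingCat.hom_comp, RingHom.comp_apply]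
    rfl
  algebraize [φ]
  have hreg := Module.Flat.isSMulRegular_of_nonZeroDivisors (M := Γ(X, V)) hr
  apply hreg
  simp only [smul_zero]
  exact hmul

end Groth.Agent.S5381
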