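import Groth.Statements.S5387
import Mathlib.AlgebraicGeometry.AlgClosed.Basic

set_option autoImplicit false
universe u
open CategoryTheory CategoryTheory.Limits MonoidalCategory CartesianMonoidalCategory MonObj GrpObj AlgebraicGeometry
open SGA3

namespace Groth.Agent.S5387

/-- Let k be an algebraically closed field, G a group scheme locally of finite type over k and x a
closed point of G. Then the local ring of G at x is isomorphic to the local ring of G at the unit
point (an isomorphism is induced by a translation; this row asserts the existence of an isomorphism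
of rings). -/
theorem result (k : Type u) [Field k] [IsAlgClosed k] (G : Over (Spec (CommRingCat.of k))) [GrpObj G]
    [LocallyOfFiniteType G.hom] (pt : ↥(𝟙_ (Over (Spec (CommRingCat.of k)))).left) (x : G.left) (hx : IsClosed ({x} : Set G.left)) :
    Nonempty (G.left.presheaf.stalk (η[G].left.base pt) ≅ G.left.presheaf.stalk x) := by
  let x' : 𝟙_ (Over (Spec (CommRingCat.of k))) ⟶ G :=
    Over.homMk (pointOfClosedPoint G.hom x hx) (pointOfClosedPoint_comp G.hom x hx)
  let α := GrpObj.mulRight x'
  have hα : η[G] ≫ α.hom = x' := by
    simp only [α, mulRight_hom, comp_lift_assoc, Category.comp_id, comp_toUnit_assoc]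
    have : toUnit (𝟙_ (Over (Spec (CommRingCat.of k)))) = 𝟙 _ := toUnit_unique _ _
    rw [this, Category.id_comp, ← Hom.mul_def, MonObj.one_eq_one, _root_.one_mul]
  have hαx : α.hom.left.base (η[G].left.base pt) = x := by
    have h1 : (η[G] ≫ α.hom).left.base pt = x'.left.base pt := by rw [hα]
    rw [Over.comp_left, Scheme.Hom.comp_base, TopCat.comp_app] at h1
    rw [h1]
    exact pointOfClosedPoint_apply G.hom x hx pt
  have hiso : IsIso α.hom.left := inferInstanceAs (IsIso ((Over.forget _).map α.hom))
  have hiso' : IsIso (α.hom.left.stalkMap (η[G].left.base pt)) := inferInstance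
  exact ⟨(asIso (α.hom.left.stalkMap (η[G].left.base pt))).symm ≪≫
    G.left.presheaf.stalkCongr (.of_eq hαx)⟩

end Groth.Agent.S5387
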