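import Groth.Statements.S5390
import Mathlib.AlgebraicGeometry.Morphisms.QuasiSeparated
import Mathlib.CategoryTheory.MorphismProperty.Descent

set_option autoImplicit false
universe u
open CategoryTheory CategoryTheory.Limits MonoidalCategory CartesianMonoidalCategory MonObj GrpObj AlgebraicGeometry
open SGA3

namespace Groth.Agent.S5390

section
variable {C : Type*} [Category C] [HasPullbacks C]

lemma isPullback_aux {X Y T T' : C} (f : X ⟶ Y) (h : T ⟶ Y) (k : T' ⟶ T) :
    IsPullback (pullback.lift (pullback.fst f (k ≫ h)) (pullback.snd f (k ≫ h) ≫ k)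
        (by simp [pullback.condition]))
      (pullback.snd f (k ≫ h)) (pullback.snd f h) k :=
  IsPullback.of_right (by rw [pullback.lift_fst]; exact IsPullback.of_hasPullback f (k ≫ h))
    (by rw [pullback.lift_snd]) (IsPullback.of_hasPullback f h)

end

variable (P : MorphismProperty Scheme.{u})

lemma base_change [P.IsStableUnderBaseChange] {X Y T T' : Scheme.{u}} (f : X ⟶ Y) (h : T ⟶ Y)
    (k : T' ⟶ T) (hP : P (pullback.snd f h)) : P (pullback.snd f (k ≫ h)) :=
  P.of_isPullback (isPullback_aux f h k) hP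

lemma descent [P.DescendsAlong (@Flat ⊓ @Surjective ⊓ @QuasiCompact)] {X Y T T' : Scheme.{u}}
    (f : X ⟶ Y) (h : T ⟶ Y)
    (k : T' ⟶ T) [Flat k] [Surjective k] [QuasiCompact k] (hP : P (pullback.snd f (k ≫ h))) :
    P (pullback.snd f h) :=
  MorphismProperty.of_isPullback_of_descendsAlong (Q := (@Flat ⊓ @Surjective ⊓ @QuasiCompact))
    (isPullback_aux f h k).flip ⟨⟨inferInstance, inferInstance⟩, inferInstance⟩ hP

lemma restrict_iff [P.RespectsIso] {X Y : Scheme.{u}} (f : X ⟶ Y) (U : Y.Opens) :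
    P (f ∣_ U) ↔ P (pullback.snd f U.ι) := by
  rw [← pullbackRestrictIsoRestrict_hom_morphismRestrict, P.cancel_left_of_respectsIso]

lemma restrict_snd_iff [P.RespectsIso] {X Y Y' : Scheme.{u}} (f : X ⟶ Y) (g : Y' ⟶ Y) (V : Y'.Opens) :
    P (pullback.snd f g ∣_ V) ↔ P (pullback.snd f (V.ι ≫ g)) := by
  rw [restrict_iff P, ← pullbackLeftPullbackSndIso_hom_snd, P.cancel_left_of_respectsIso]


/-- Let P be a property of morphisms of schemes which is local on the target for the fpqc topology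
(stable under base change, Zariski-local on the target, descending along flat surjective
quasi-compact morphisms). Let f : X → Y be a morphism, g : Y' → Y a flat morphism whose underlying
map is open, and f' : X ×_Y Y' → Y' the base change. If W is the largest open of Y over which f has
P and W₁' the largest open of Y' over which f' has P, then W₁' = g⁻¹(W). -/
theorem result (P : MorphismProperty Scheme.{u}) [P.IsStableUnderBaseChange] [IsZariskiLocalAtTarget P]
    [P.DescendsAlong (@Flat ⊓ @Surjective ⊓ @QuasiCompact)]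
    (X Y Y' : Scheme.{u}) (f : X ⟶ Y) (g : Y' ⟶ Y) [Flat g] (hg : IsOpenMap g.base)
    (W : Y.Opens) (hW : P (f ∣_ W)) (hmax : ∀ W₀ : Y.Opens, P (f ∣_ W₀) → W₀ ≤ W)
    (W₁ : Y'.Opens) (hW₁ : P (pullback.snd f g ∣_ W₁)) (hmax₁ : ∀ W₀ : Y'.Opens, P (pullback.snd f g ∣_ W₀) → W₀ ≤ W₁) :
    W₁ = g ⁻¹ᵁ W := by
  have hiso : P.RespectsIso := inferInstance
  apply le_antisymm
  · intro y' hy'
    obtain ⟨_, ⟨(Y₀ : Y.Opens), hY₀ : IsAffineOpen Y₀, rfl⟩, hgy, -⟩ :=
      (Y.isBasis_affineOpens).exists_subset_of_mem_open (Set.mem_univ (g.base y')) isOpen_univ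
    obtain ⟨_, ⟨(V : Y'.Opens), hV : IsAffineOpen V, rfl⟩, hyV, hVsub⟩ :=
      (Y'.isBasis_affineOpens).exists_subset_of_mem_open
        (show y' ∈ ((W₁ ⊓ g ⁻¹ᵁ Y₀ : Y'.Opens) : Set Y') from ⟨hy', hgy⟩) (W₁ ⊓ g ⁻¹ᵁ Y₀).isOpen
    have hVW₁ : V ≤ W₁ := fun z hz => (hVsub hz).1
    let W'' : Y.Opens := ⟨g.base '' V, hg _ V.isOpen⟩
    have hW''Y₀ : W'' ≤ Y₀ := by
      rintro _ ⟨z, hz, rfl⟩
      exact (hVsub hz).2
    have hrange : Set.range (V.ι ≫ g).base ⊆ Set.range W''.ι.base := by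
      rintro _ ⟨z, rfl⟩
      rw [Scheme.Opens.range_ι]
      exact ⟨z.1, z.2, rfl⟩
    let k : (V : Scheme.{u}) ⟶ (W'' : Scheme.{u}) := IsOpenImmersion.lift W''.ι (V.ι ≫ g) hrange
    have hk : k ≫ W''.ι = V.ι ≫ g := IsOpenImmersion.lift_fac _ _ _
    have hkflat : Flat k := by
      have : Flat (k ≫ W''.ι) := by rw [hk]; infer_instance
      exact MorphismProperty.of_postcomp (W := @Flat) (W' := MorphismProperty.monomorphisms _)
        k W''.ι (inferInstanceAs (Mono W''.ι)) this
    have hksurj : Surjective k := by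
      constructor
      rintro ⟨_, ⟨z, hz, rfl⟩⟩
      refine ⟨⟨z, hz⟩, ?_⟩
      apply W''.ι.isOpenEmbedding.injective
      rw [← Scheme.Hom.comp_apply, hk]
      rfl
    have hVc : CompactSpace ↥(V : Scheme.{u}) := isCompact_iff_compactSpace.mp hV.isCompact
    have hWqs : QuasiSeparatedSpace ↥(W'' : Scheme.{u}) :=
      (isQuasiSeparated_iff_quasiSeparatedSpace _ W''.isOpen).mp
        (hY₀.isQuasiSeparated.of_subset hW''Y₀)
    have hkqc : QuasiCompact k := inferInstance
    have h1 : P (pullback.snd f (V.ι ≫ g)) := by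
      have h0 := (restrict_snd_iff P f g W₁).mp hW₁
      have h0' := base_change P f (W₁.ι ≫ g) (Y'.homOfLE hVW₁) h0
      rwa [← Category.assoc, Scheme.homOfLE_ι] at h0'
    rw [← hk] at h1
    have h2 := descent P f W''.ι k h1
    have h3 : W'' ≤ W := hmax W'' ((restrict_iff P f W'').mpr h2)
    exact h3 ⟨y', hyV, rfl⟩
  · apply hmax₁
    rw [restrict_snd_iff P, ← morphismRestrict_ι]
    exact base_change P f W.ι (g ∣_ W) ((restrict_iff P f W).mp hW)

end Groth.Agent.S5390
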