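import Groth.Statements.S5389
import Groth.Agent.S5390

set_option autoImplicit false
universe u
open CategoryTheory CategoryTheory.Limits MonoidalCategory CartesianMonoidalCategory MonObj GrpObj AlgebraicGeometry
open SGA3

namespace Groth.Agent.S5389

section Cat
set_option linter.unusedSectionVars false
variable {C : Type*} [Category C] [CartesianMonoidalCategory C] {G H : C} [GrpObj G] [GrpObj H]

/-- The shear map `(g, h) ↦ (g, u(g) h)`. -/
def sh (u : G ⟶ H) : G ⊗ H ⟶ G ⊗ H := lift (fst G H) ((fst G H ≫ u) * snd G H)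

/-- Its inverse `(g, h) ↦ (g, u(g)⁻¹ h)`. -/
def shInv (u : G ⟶ H) : G ⊗ H ⟶ G ⊗ H := lift (fst G H) ((fst G H ≫ u)⁻¹ * snd G H)

@[simp] lemma sh_fst (u : G ⟶ H) : sh u ≫ fst G H = fst G H := by simp [sh]
@[simp] lemma sh_snd (u : G ⟶ H) : sh u ≫ snd G H = (fst G H ≫ u) * snd G H := by simp [sh]
@[simp] lemma shInv_fst (u : G ⟶ H) : shInv u ≫ fst G H = fst G H := by simp [shInv]
@[simp] lemma shInv_snd (u : G ⟶ H) : shInv u ≫ snd G H = (fst G H ≫ u)⁻¹ * snd G H := by
  simp [shInv]

lemma sh_shInv (u : G ⟶ H) : sh u ≫ shInv u = 𝟙 _ := by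
  apply CartesianMonoidalCategory.hom_ext
  · simp
  · simp only [Category.assoc, shInv_snd, MonObj.comp_mul, GrpObj.comp_inv, sh_snd,
      Category.id_comp]
    rw [← Category.assoc, sh_fst, inv_mul_cancel_left]

lemma shInv_sh (u : G ⟶ H) : shInv u ≫ sh u = 𝟙 _ := by
  apply CartesianMonoidalCategory.hom_ext
  · simp
  · simp only [Category.assoc, sh_snd, MonObj.comp_mul, shInv_snd, Category.id_comp]
    rw [← Category.assoc, shInv_fst, mul_inv_cancel_left]

instance (u : G ⟶ H) : IsIso (sh u) := ⟨shInv u, sh_shInv u, shInv_sh u⟩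

lemma sh_id_snd : sh (𝟙 G) ≫ snd G G = μ[G] := by
  rw [sh_snd, Category.comp_id, ← MonObj.mul_eq_mul]

lemma sh_comm (u : G ⟶ H) [IsMonHom u] : sh (𝟙 G) ≫ (G ◁ u) = (G ◁ u) ≫ sh u := by
  apply CartesianMonoidalCategory.hom_ext
  · simp
  · simp only [Category.assoc, whiskerLeft_snd, sh_snd, MonObj.comp_mul]
    rw [← Category.assoc, sh_snd, Category.comp_id, MonObj.mul_comp]
    simp

lemma isPullback_snd (u : G ⟶ H) : IsPullback (snd G G) (G ◁ u) u (snd G H) := by
  refine ⟨⟨by simp⟩, ⟨PullbackCone.IsLimit.mk _ (fun s => lift (s.snd ≫ fst G H) s.fst) ?_ ?_ ?_⟩⟩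
  · intro s
    simp
  · intro s
    apply CartesianMonoidalCategory.hom_ext
    · simp
    · simp [s.condition]
  · intro s m h1 h2
    apply CartesianMonoidalCategory.hom_ext
    · rw [lift_fst, ← h2]
      simp
    · rw [lift_snd, ← h1]

lemma isPullback_mul (u : G ⟶ H) [IsMonHom u] :
    IsPullback μ[G] (G ◁ u) u (sh u ≫ snd G H) := by
  have h1 : IsPullback (sh (𝟙 G)) (G ◁ u) (G ◁ u) (sh u) := IsPullback.of_horiz_isIso ⟨sh_comm u⟩
  have h2 := h1.paste_horiz (isPullback_snd u)
  rwa [sh_id_snd] at h2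

end Cat

open Groth.Agent.S5390 in
lemma restrict_iff_of_isPullback (P : MorphismProperty Scheme.{u}) [P.RespectsIso]
    {X X' Y Y' : Scheme.{u}} {fst' : X' ⟶ X} {snd' : X' ⟶ Y'} {f : X ⟶ Y} {g : Y' ⟶ Y}
    (h : IsPullback fst' snd' f g) (V : Y'.Opens) :
    P (snd' ∣_ V) ↔ P (pullback.snd f (V.ι ≫ g)) := by
  have h1 : IsPullback (snd' ⁻¹ᵁ V).ι (snd' ∣_ V) snd' V.ι := (isPullback_morphismRestrict snd' V).flip
  have h2 := h1.paste_horiz h
  rw [← h2.isoPullback_hom_snd, P.cancel_left_of_respectsIso]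

/-- Let P be a property of morphisms of schemes which is local on the target for the fpqc topology
(stable under base change, Zariski-local on the target, and descending along flat surjective
quasi-compact morphisms). Let u : G → H be a homomorphism of S-group schemes with G flat and
universally open over S, W the largest open subscheme of H over which the restriction of u has P,
and V = u⁻¹(W). Then the image U of V in S is open and V is an open subgroup scheme of G over U: V
contains the unit point of every fibre of G that it meets, V is stable under the inversion of G, and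
the product of a point of G ×_S G whose two projections lie in V lies in V. -/
theorem result (P : MorphismProperty Scheme.{u}) [P.IsStableUnderBaseChange] [IsZariskiLocalAtTarget P]
    [P.DescendsAlong (@Flat ⊓ @Surjective ⊓ @QuasiCompact)]
    (S : Scheme.{u}) (G H : Over S) [GrpObj G] [GrpObj H] (u : G ⟶ H) [IsMonHom u] [Flat G.hom] [UniversallyOpen G.hom]
    (W : H.left.Opens) (hW : P (u.left ∣_ W)) (hmax : ∀ W' : H.left.Opens, P (u.left ∣_ W') → W' ≤ W) :
    letI V : G.left.Opens := u.left ⁻¹ᵁ W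
    IsOpen (G.hom.base '' (V : Set G.left)) ∧
    (∀ g ∈ V, ∀ p : ↥(𝟙_ (Over S)).left, (𝟙_ (Over S)).hom.base p = G.hom.base g → η[G].left.base p ∈ V) ∧
    (∀ g ∈ V, ι[G].left.base g ∈ V) ∧
    (∀ z : ↥(G ⊗ G).left, (fst G G).left.base z ∈ V → (snd G G).left.base z ∈ V → μ[G].left.base z ∈ V) := by
  open Groth.Agent.S5390 in
  have hiso : P.RespectsIso := inferInstance
  -- the translated projection
  let m : G ⊗ H ⟶ H := sh u ≫ snd G H
  let T₀ : (G ⊗ H).left.Opens := (snd G H).left ⁻¹ᵁ W
  have sq1 : IsPullback (snd G G).left (G ◁ u).left u.left (snd G H).left :=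
    (isPullback_snd u).map (Over.forget S)
  have sq2 : IsPullback μ[G].left (G ◁ u).left u.left m.left :=
    (isPullback_mul u).map (Over.forget S)
  have hP1 : P ((G ◁ u).left ∣_ T₀) := by
    rw [restrict_iff_of_isPullback P sq1 T₀]
    have h1 : T₀.ι ≫ (snd G H).left = ((snd G H).left ∣_ W) ≫ W.ι := (morphismRestrict_ι _ _).symm
    rw [h1]
    exact base_change P u.left W.ι _ ((restrict_iff P u.left W).mp hW)
  have hP2 : P (pullback.snd u.left (T₀.ι ≫ m.left)) :=
    (restrict_iff_of_isPullback P sq2 T₀).mp hP1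
  have hshiso : IsIso (sh u).left := inferInstanceAs (IsIso ((Over.forget S).map (sh u)))
  have hsndflat : Flat (snd G H).left := by
    rw [Over.snd_left]; infer_instance
  have hsndopen : UniversallyOpen (snd G H).left := by
    rw [Over.snd_left]; infer_instance
  have hmleft : m.left = (sh u).left ≫ (snd G H).left := rfl
  have hmflat : Flat (T₀.ι ≫ m.left) := by rw [hmleft]; infer_instance
  have hmopen : UniversallyOpen (T₀.ι ≫ m.left) := by rw [hmleft]; infer_instance
  have hW₁ : P (pullback.snd u.left (T₀.ι ≫ m.left) ∣_ ⊤) := by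
    rw [restrict_snd_iff P]
    exact base_change P u.left (T₀.ι ≫ m.left) _ hP2
  have htop := Groth.Agent.S5390.result P G.left H.left T₀ u.left (T₀.ι ≫ m.left)
    (Scheme.Hom.isOpenMap _) W hW hmax ⊤ hW₁ (fun _ _ => le_top)
  have key : ∀ z' : (G ⊗ H).left, (snd G H).left.base z' ∈ W → m.left.base z' ∈ W := by
    intro z' hz'
    have h1 : (⟨z', hz'⟩ : T₀) ∈ (T₀.ι ≫ m.left) ⁻¹ᵁ W := by rw [← htop]; trivial
    exact h1
  have keyG : ∀ z : (G ⊗ G).left, (snd G G).left.base z ∈ u.left ⁻¹ᵁ W →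
      μ[G].left.base z ∈ u.left ⁻¹ᵁ W := by
    intro z hz
    have h1 : (snd G H).left.base ((G ◁ u).left.base z) ∈ W := by
      have := sq1.w
      rw [← Scheme.Hom.comp_apply, ← this, Scheme.Hom.comp_apply]
      exact hz
    have h2 := key _ h1
    have := sq2.w
    rw [← Scheme.Hom.comp_apply, ← this, Scheme.Hom.comp_apply] at h2
    exact h2
  have hunit : ∀ g ∈ u.left ⁻¹ᵁ W, η[G].left.base (G.hom.base g) ∈ u.left ⁻¹ᵁ W := by
    intro g hg
    have h1 := keyG ((lift ι[G] (𝟙 G)).left.base g) (by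
      rw [← Scheme.Hom.comp_apply, ← Over.comp_left, lift_snd]
      exact hg)
    rw [← Scheme.Hom.comp_apply, ← Over.comp_left, GrpObj.left_inv] at h1
    exact h1
  refine ⟨?_, ?_, ?_, ?_⟩
  · exact (Scheme.Hom.isOpenMap G.hom) _ (u.left ⁻¹ᵁ W).isOpen
  · intro g hg p hp
    have h1 : p = G.hom.base g := hp
    rw [h1]
    exact hunit g hg
  · intro g hg
    have h1 := keyG ((lift ι[G] (toUnit G ≫ η[G])).left.base g) (by
      rw [← Scheme.Hom.comp_apply, ← Over.comp_left, lift_snd]
      exact hunit g hg)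
    rw [← Scheme.Hom.comp_apply, ← Over.comp_left] at h1
    have h2 : lift ι[G] (toUnit G ≫ η[G]) ≫ μ[G] = ι[G] := by
      rw [← Hom.mul_def, ← Hom.one_def, _root_.mul_one]
    rw [h2] at h1
    exact h1
  · intro z _ h2
    exact keyG z h2

end Groth.Agent.S5389
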