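import Groth.Statements.S5394
import Mathlib
import Groth.Agent.Lib.Helper6LfpComp

set_option autoImplicit false
universe u
open CategoryTheory CategoryTheory.Limits MonoidalCategory CartesianMonoidalCategory MonObj GrpObj AlgebraicGeometry
open SGA3

namespace Groth.Agent.S5394

/-- every nonempty open of a quasi-sober space contains a maximal point -/
theorem exists_maximal_point_mem {A : Type*} [TopologicalSpace A] [QuasiSober A] (Ω : Set A)
    (hΩ : IsOpen Ω) (hne : Ω.Nonempty) :
    ∃ ξ ∈ Ω, closure {ξ} ∈ irreducibleComponents A := by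
  obtain ⟨w, hw⟩ := hne
  obtain ⟨ξ, hξ⟩ := QuasiSober.sober (isIrreducible_irreducibleComponent (x := w))
    isClosed_irreducibleComponent
  refine ⟨ξ, ?_, ?_⟩
  · have hwcl : w ∈ closure {ξ} := by
      rw [hξ.def]
      exact mem_irreducibleComponent
    obtain ⟨y, hy1, hy2⟩ := mem_closure_iff.mp hwcl Ω hΩ hw
    rw [Set.mem_singleton_iff] at hy2
    rwa [hy2] at hy1
  · rw [hξ.def]
    exact irreducibleComponent_mem_irreducibleComponents w

theorem dense_preimage {Y S : Scheme.{u}} (p : Y ⟶ S) (U : Y.Opens) (s : S)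
    (hU : ∀ g : ↥(p.base ⁻¹' {s}), closure {g} ∈ irreducibleComponents ↥(p.base ⁻¹' {s}) →
      g.1 ∈ U)
    {T : Scheme.{u}} (t' : T ⟶ Spec (S.residueField s)) :
    Dense ((pullback.fst p (t' ≫ S.fromSpecResidueField s)).base ⁻¹' (U : Set Y)) := by
  rw [dense_iff_inter_open]
  intro Ω' hΩ' hne
  obtain ⟨q, hq⟩ : ∃ q : pullback p (t' ≫ S.fromSpecResidueField s) ⟶ p.fiber s,
      q = pullback.lift (pullback.fst _ _) (pullback.snd _ _ ≫ t')
        (by rw [pullback.condition, Category.assoc]) := ⟨_, rfl⟩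
  have hq1 : q ≫ p.fiberι s = pullback.fst _ _ := by
    rw [hq]; exact pullback.lift_fst _ _ _
  have hq2 : q ≫ p.fiberToSpecResidueField s = pullback.snd _ _ ≫ t' := by
    rw [hq]; exact pullback.lift_snd _ _ _
  have hsq : IsPullback q (pullback.snd p (t' ≫ S.fromSpecResidueField s))
      (p.fiberToSpecResidueField s) t' := by
    have hbot : IsPullback (p.fiberToSpecResidueField s) (p.fiberι s) (S.fromSpecResidueField s) p :=
      (IsPullback.of_hasPullback p (S.fromSpecResidueField s)).flip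
    have hs : IsPullback (pullback.snd p (t' ≫ S.fromSpecResidueField s)) (q ≫ p.fiberι s)
        (t' ≫ S.fromSpecResidueField s) p := by
      rw [hq1]
      exact (IsPullback.of_hasPullback p (t' ≫ S.fromSpecResidueField s)).flip
    exact (IsPullback.of_bot hs hq2.symm hbot).flip
  have hquo : UniversallyOpen q :=
    MorphismProperty.of_isPullback (P := @UniversallyOpen) hsq.flip inferInstance
  have hopen : IsOpen ((p.fiberHomeo s) '' (q.base '' Ω')) :=
    (p.fiberHomeo s).isOpenMap _ (q.isOpenMap _ hΩ')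
  have hne' : ((p.fiberHomeo s) '' (q.base '' Ω')).Nonempty := (hne.image _).image _
  have hqs : QuasiSober ↥(p.base ⁻¹' {s}) :=
    (p.fiberHomeo s).symm.isOpenEmbedding.quasiSober
  obtain ⟨ξ, hξ1, hξ2⟩ := exists_maximal_point_mem _ hopen hne'
  obtain ⟨_, ⟨w', hw', rfl⟩, rfl⟩ := hξ1
  refine ⟨w', hw', ?_⟩
  have := hU _ hξ2
  rw [Scheme.Hom.fiberHomeo_apply, ← Scheme.Hom.comp_apply, hq1] at this
  exact this

theorem surj_aux {S : Scheme.{u}} (G : Over S) [GrpObj G] (U : Set G.left) (hUo : IsOpen U)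
    (T : Over S) (gK : T ⟶ G) [Nonempty T.left] (hD : Dense ((fst G T).left.base ⁻¹' U)) :
    ∃ z : (G ⊗ G).left, (fst G G).left.base z ∈ U ∧ (snd G G).left.base z ∈ U ∧
      ∃ τ : T.left, μ[G].left.base z = gK.left.base τ := by
  obtain ⟨ψ, hψ⟩ : ∃ ψ : G ⊗ T ⟶ G ⊗ T,
      ψ = lift ((fst G T)⁻¹ * (snd G T ≫ gK)) (snd G T) := ⟨_, rfl⟩
  obtain ⟨ψ', hψ'⟩ : ∃ ψ' : G ⊗ T ⟶ G ⊗ T,
      ψ' = lift ((snd G T ≫ gK) * (fst G T)⁻¹) (snd G T) := ⟨_, rfl⟩
  have h1 : ψ ≫ ψ' = 𝟙 _ := by
    rw [hψ, hψ']
    apply CartesianMonoidalCategory.hom_ext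
    · rw [Category.assoc, lift_fst, MonObj.comp_mul, GrpObj.comp_inv, ← Category.assoc, lift_snd,
        lift_fst, _root_.mul_inv_rev, _root_.inv_inv, mul_inv_cancel_left, Category.id_comp]
    · rw [Category.assoc, lift_snd, lift_snd, Category.id_comp]
  have h2 : ψ' ≫ ψ = 𝟙 _ := by
    rw [hψ, hψ']
    apply CartesianMonoidalCategory.hom_ext
    · rw [Category.assoc, lift_fst, MonObj.comp_mul, GrpObj.comp_inv, ← Category.assoc, lift_snd,
        lift_fst, _root_.mul_inv_rev, _root_.inv_inv, inv_mul_cancel_right, Category.id_comp]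
    · rw [Category.assoc, lift_snd, lift_snd, Category.id_comp]
  have hψiso : IsIso ψ := ⟨ψ', h1, h2⟩
  have hψliso : IsIso ψ.left := (Over.forget S).map_isIso ψ
  have hD2 : Dense (ψ.left.base ⁻¹' ((fst G T).left.base ⁻¹' U)) :=
    hD.preimage ψ.left.isOpenEmbedding.isOpenMap
  have hDo : IsOpen ((fst G T).left.base ⁻¹' U) := hUo.preimage (fst G T).left.continuous
  have hne : Nonempty (G ⊗ T).left := by
    obtain ⟨τ⟩ := ‹Nonempty T.left›
    exact ⟨(lift gK (𝟙 T)).left.base τ⟩
  obtain ⟨w, hw1, hw2⟩ := (hD.inter_of_isOpen_left hD2 hDo).nonempty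
  refine ⟨(lift (fst G T) (ψ ≫ fst G T)).left.base w, ?_, ?_, (snd G T).left.base w, ?_⟩
  · have : (fst G G).left.base ((lift (fst G T) (ψ ≫ fst G T)).left.base w) =
        (lift (fst G T) (ψ ≫ fst G T) ≫ fst G G).left.base w := by
      rw [Over.comp_left, Scheme.Hom.comp_base, TopCat.comp_app]
    rw [this, lift_fst]
    exact hw1
  · have : (snd G G).left.base ((lift (fst G T) (ψ ≫ fst G T)).left.base w) =
        (lift (fst G T) (ψ ≫ fst G T) ≫ snd G G).left.base w := by
      rw [Over.comp_left, Scheme.Hom.comp_base, TopCat.comp_app]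
    rw [this, lift_snd, Over.comp_left, Scheme.Hom.comp_base, TopCat.comp_app]
    exact hw2
  · have : μ[G].left.base ((lift (fst G T) (ψ ≫ fst G T)).left.base w) =
        (lift (fst G T) (ψ ≫ fst G T) ≫ μ[G]).left.base w := by
      rw [Over.comp_left, Scheme.Hom.comp_base, TopCat.comp_app]
    rw [this, ← Hom.mul_def, hψ, lift_fst, mul_inv_cancel_left, Over.comp_left,
      Scheme.Hom.comp_base, TopCat.comp_app]

theorem main {S : Scheme.{u}} (G V' : Over S) [GrpObj G] [LocallyOfFinitePresentation G.hom]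
    [Flat G.hom] (fV : V' ⟶ G) (hfl : Flat fV.left) (hlfp : LocallyOfFinitePresentation fV.left)
    (hmax : ∀ (s : S) (g : ↥(G.hom.base ⁻¹' {s})),
      closure {g} ∈ irreducibleComponents ↥(G.hom.base ⁻¹' {s}) → g.1 ∈ Set.range fV.left.base) :
    Flat ((fV ⊗ₘ fV) ≫ μ[G]).left ∧ LocallyOfFinitePresentation ((fV ⊗ₘ fV) ≫ μ[G]).left ∧
      Surjective ((fV ⊗ₘ fV) ≫ μ[G]).left := by
  -- μ = σ ≫ fst
  obtain ⟨σ, hσ⟩ : ∃ σ : G ⊗ G ⟶ G ⊗ G, σ = lift (fst G G * snd G G) (snd G G) := ⟨_, rfl⟩
  obtain ⟨σ', hσ'⟩ : ∃ σ' : G ⊗ G ⟶ G ⊗ G, σ' = lift (fst G G * (snd G G)⁻¹) (snd G G) :=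
    ⟨_, rfl⟩
  have h1 : σ ≫ σ' = 𝟙 _ := by
    rw [hσ, hσ']
    apply CartesianMonoidalCategory.hom_ext
    · rw [Category.assoc, lift_fst, MonObj.comp_mul, GrpObj.comp_inv, lift_snd, lift_fst,
        mul_inv_cancel_right, Category.id_comp]
    · rw [Category.assoc, lift_snd, lift_snd, Category.id_comp]
  have h2 : σ' ≫ σ = 𝟙 _ := by
    rw [hσ, hσ']
    apply CartesianMonoidalCategory.hom_ext
    · rw [Category.assoc, lift_fst, MonObj.comp_mul, lift_snd, lift_fst, inv_mul_cancel_right,
        Category.id_comp]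
    · rw [Category.assoc, lift_snd, lift_snd, Category.id_comp]
  have hσiso : IsIso σ := ⟨σ', h1, h2⟩
  have hσliso : IsIso σ.left := (Over.forget S).map_isIso σ
  have hμ : μ[G] = σ ≫ fst G G := by
    rw [hσ, lift_fst, Hom.mul_def, lift_fst_snd, Category.id_comp]
  have hfstfl : Flat (fst G G).left := by
    change Flat (pullback.fst G.hom G.hom)
    infer_instance
  have hfstlfp : LocallyOfFinitePresentation (fst G G).left := by
    change LocallyOfFinitePresentation (pullback.fst G.hom G.hom)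
    infer_instance
  have hμfl : Flat μ[G].left := by
    rw [hμ, Over.comp_left]
    infer_instance
  have hμlfp : LocallyOfFinitePresentation μ[G].left := by
    rw [hμ, Over.comp_left]
    infer_instance
  have htfl : Flat (fV ⊗ₘ fV).left := by
    rw [Over.tensorHom_left]
    exact MorphismProperty.pullbackMap (P := @Flat) hfl hfl (Over.w fV).symm (Over.w fV).symm
  have htlfp : LocallyOfFinitePresentation (fV ⊗ₘ fV).left := by
    rw [Over.tensorHom_left]
    exact MorphismProperty.pullbackMap (P := @LocallyOfFinitePresentation) hlfp hlfp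
      (Over.w fV).symm (Over.w fV).symm
  refine ⟨by rw [Over.comp_left]; infer_instance, by rw [Over.comp_left]; infer_instance,
    ⟨fun g₀ => ?_⟩⟩
  -- surjectivity
  have hfVuo : UniversallyOpen fV.left := inferInstance
  have hUo : IsOpen (Set.range fV.left.base) := fV.left.isOpenMap.isOpen_range
  obtain ⟨t', ht'⟩ : ∃ t' : Spec (G.left.residueField g₀) ⟶ Spec (S.residueField (G.hom.base g₀)),
      t' = Spec.map (G.hom.residueFieldMap g₀) := ⟨_, rfl⟩
  have htw : G.left.fromSpecResidueField g₀ ≫ G.hom =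
      t' ≫ S.fromSpecResidueField (G.hom.base g₀) := by
    rw [ht']
    exact (Scheme.Hom.SpecMap_residueFieldMap_fromSpecResidueField G.hom g₀).symm
  have hD := dense_preimage G.hom ⟨_, hUo⟩ (G.hom.base g₀) (hmax _) t'
  have hne : Nonempty (Over.mk (t' ≫ S.fromSpecResidueField (G.hom.base g₀))).left :=
    ⟨IsLocalRing.closedPoint _⟩
  obtain ⟨z, hz1, hz2, τ, hz3⟩ := surj_aux G _ hUo
    (Over.mk (t' ≫ S.fromSpecResidueField (G.hom.base g₀)))
    (Over.homMk (G.left.fromSpecResidueField g₀) htw) hD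
  have hzr : z ∈ Set.range (fV ⊗ₘ fV).left.base := by
    rw [Over.tensorHom_left]
    erw [Scheme.Pullback.range_map]
    exact ⟨hz1, hz2⟩
  obtain ⟨v, hv⟩ := hzr
  refine ⟨v, ?_⟩
  rw [Over.comp_left, Scheme.Hom.comp_base, TopCat.comp_app, hv, hz3]
  exact Scheme.fromSpecResidueField_apply _ _


/-- Let G be an S-group scheme which is flat and locally of finite presentation over S and f : X → G a
morphism of S-schemes with X locally of finite presentation over S. Suppose that for every point s
of S and every maximal point g of the fibre G_s (generic point of an irreducible component) there is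
a point x of X with f(x) = g at which f is flat. Let V be the open subscheme of X where f is flat.
Then the morphism V ×_S V → G, (x, y) ↦ f(x)·f(y), is flat, locally of finite presentation and
surjective; in particular X ×_S X → G, (x, y) ↦ f(x)·f(y), is covering for the fppf topology. (The
published statement does not assume G flat over S and asserts only the covering property; this row
assumes G flat over S, as the flatness step of the printed proof does, and concludes the flat,
locally finitely presented, surjective form that proof establishes. Without flatness of G the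
flatness conclusion fails, e.g. for the identity of the closed subgroup tx = 0 of the additive group
over k[t].) -/
theorem result (S : Scheme.{u}) (G X : Over S) [GrpObj G] [LocallyOfFinitePresentation G.hom] [Flat G.hom]
    [LocallyOfFinitePresentation X.hom] (f : X ⟶ G)
    (hf : ∀ (s : S) (g : ↥(G.hom.base ⁻¹' {s})), closure {g} ∈ irreducibleComponents ↥(G.hom.base ⁻¹' {s}) →
      ∃ x : X.left, f.left.base x = g.1 ∧ (f.left.stalkMap x).hom.Flat)
    (V : X.left.Opens) (hV : (V : Set X.left) = {x : X.left | (f.left.stalkMap x).hom.Flat}) :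
    letI fV : Over.mk (V.ι ≫ X.hom) ⟶ G := Over.homMk (V.ι ≫ f.left) ((Category.assoc _ _ _).trans (congrArg (V.ι ≫ ·) (Over.w f)))
    Flat ((fV ⊗ₘ fV) ≫ μ[G]).left ∧ LocallyOfFinitePresentation ((fV ⊗ₘ fV) ≫ μ[G]).left ∧
      Surjective ((fV ⊗ₘ fV) ≫ μ[G]).left := by
  have hflfp : LocallyOfFinitePresentation f.left := by
    apply Groth.Agent.Lib.Helper6.locallyOfFinitePresentation_of_comp (g := G.hom) inferInstance
    rw [Over.w f]
    infer_instance
  have hfl : Flat (V.ι ≫ f.left) := by
    rw [Flat.iff_flat_stalkMap]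
    intro x
    rw [Scheme.Hom.stalkMap_comp]
    have hx : (V.ι.base x) ∈ (V : Set X.left) := x.2
    rw [hV] at hx
    exact RingHom.Flat.comp (f := (f.left.stalkMap (V.ι.base x)).hom) (g := (V.ι.stalkMap x).hom)
      hx (RingHom.Flat.of_bijective (ConcreteCategory.bijective_of_isIso (V.ι.stalkMap x)))
  have hlfp : LocallyOfFinitePresentation (V.ι ≫ f.left) := inferInstance
  refine main G (Over.mk (V.ι ≫ X.hom)) (Over.homMk (V.ι ≫ f.left)
    ((Category.assoc _ _ _).trans (congrArg (V.ι ≫ ·) (Over.w f)))) hfl hlfp ?_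
  intro s g hg
  obtain ⟨x, hx1, hx2⟩ := hf s g hg
  have hxV : x ∈ (V : Set X.left) := by
    rw [hV]
    exact hx2
  refine ⟨⟨x, hxV⟩, ?_⟩
  rw [← hx1]
  rfl

end Groth.Agent.S5394
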