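import Groth.Statements.S5415
import Mathlib
import Groth.Agent.Lib.Helper11KerPair
import Groth.Agent.Lib.Helper12Descent

set_option autoImplicit false
universe u
open CategoryTheory MonoidalCategory CartesianMonoidalCategory MonObj GrpObj AlgebraicGeometry CategoryTheory.Limits
open SGA3x

namespace Groth.Agent.S5415

open Groth.Agent.Lib.Helper11KerPair Groth.Agent.Lib.Helper12 Groth.Agent.Lib.Helper11QuotTower


/-- Let G be an S-group scheme of finite presentation over S, p : G → G'' a homomorphism which is
surjective, flat and locally of finite presentation onto an S-group scheme G'' proper and of finite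
presentation over S, and i : G' → G its kernel, with G' flat and of finite presentation over S. Let
H be an S-group scheme which is of finite presentation over S, or locally of finite presentation
over a locally Noetherian S, and u : G → H a homomorphism. If the restriction u ∘ i of u to G' is
proper, then u is proper. -/
theorem result (S : Scheme.{u}) (G G' G'' : Over S) [GrpObj G] [GrpObj G'] [GrpObj G'']
    [QuasiCompact G.hom] [QuasiSeparated G.hom] [LocallyOfFinitePresentation G.hom]
    [IsProper G''.hom] [LocallyOfFinitePresentation G''.hom]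
    [Flat G'.hom] [QuasiCompact G'.hom] [QuasiSeparated G'.hom] [LocallyOfFinitePresentation G'.hom]
    (p : G ⟶ G'') [IsMonHom p] [Surjective p.left] [Flat p.left] [LocallyOfFinitePresentation p.left]
    (i : G' ⟶ G) [IsMonHom i] (hker : AlgGrp.IsKernel i p)
    (H : Over S) [GrpObj H] [LocallyOfFinitePresentation H.hom]
    (hH : (QuasiCompact H.hom ∧ QuasiSeparated H.hom) ∨ IsLocallyNoetherian S)
    (u : G ⟶ H) [IsMonHom u] (hu : IsProper (i ≫ u).left) : IsProper u.left := by
  have hpb := isPullback_of_isKernel i p hker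
  obtain ⟨m, hm⟩ : ∃ m : G ⊗ G' ⟶ G, m = (G ◁ i) ≫ μ[G] := ⟨_, rfl⟩
  rw [← hm] at hpb
  have hmpt : ∀ {T : Over S} (t : T ⟶ G ⊗ G'), t ≫ m = (t ≫ fst G G') * ((t ≫ snd G G') ≫ i) := by
    intro T t
    rw [hm, comp_whiskerLeft_comp_mul, Category.assoc]
  -- `p` is quasi-compact
  have hpqc : QuasiCompact p.left := by
    have h2 : QuasiCompact (p.left ≫ G''.hom) := by rw [Over.w p]; infer_instance
    exact QuasiCompact.of_comp p.left G''.hom
  -- the cover `H ◁ p`
  have hcflat : Flat (H ◁ p).left := flat_whiskerLeft_left H p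
  have hcsurj : Surjective (H ◁ p).left := surjective_whiskerLeft_left H p
  have hcqc : QuasiCompact (H ◁ p).left :=
    MorphismProperty.of_isPullback (P := @QuasiCompact)
      ((isPullback_whiskerLeft H p).map (Over.forget S)).flip hpqc
  -- the base change of `lift u p` along the cover
  obtain ⟨top, htop⟩ : ∃ top : G ⊗ G' ⟶ H ⊗ G, top = lift (m ≫ u) (fst G G') := ⟨_, rfl⟩
  have hsq : IsPullback top m (H ◁ p) (lift u p) := by
    refine ⟨⟨?_⟩, ⟨PullbackCone.IsLimit.mk _
      (fun s => hpb.lift (s.fst ≫ snd H G) s.snd (by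
        have := congrArg (fun φ => φ ≫ snd H G'') s.condition
        simpa only [Category.assoc, whiskerLeft_snd, lift_snd] using this)) ?_ ?_ ?_⟩⟩
    · rw [htop]
      apply CartesianMonoidalCategory.hom_ext
      · simp only [Category.assoc, whiskerLeft_fst, lift_fst]
      · simp only [Category.assoc, whiskerLeft_snd, lift_snd]
        rw [← Category.assoc, lift_snd, hpb.w]
    · intro s
      rw [htop]
      apply CartesianMonoidalCategory.hom_ext
      · rw [Category.assoc, lift_fst, ← Category.assoc, hpb.lift_snd]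
        have := congrArg (fun φ => φ ≫ fst H G'') s.condition
        simp only [Category.assoc, whiskerLeft_fst, lift_fst] at this
        exact this.symm
      · refine (Category.assoc _ _ _).trans ?_
        rw [lift_snd (m ≫ u)]
        exact hpb.lift_fst _ _ _
    · intro s
      exact hpb.lift_snd _ _ _
    · intro s t h1 h2
      apply hpb.hom_ext
      · rw [hpb.lift_fst, ← h1, htop, Category.assoc, lift_snd]
      · rw [hpb.lift_snd, h2]
  -- `top` is proper
  obtain ⟨top₀, htop₀⟩ : ∃ top₀ : G ⊗ G' ⟶ H ⊗ G, top₀ = lift (snd G G' ≫ i ≫ u) (fst G G') :=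
    ⟨_, rfl⟩
  have hsq₀ : IsPullback top₀ (snd G G') (fst H G) (i ≫ u) := by
    refine ⟨⟨by rw [htop₀, lift_fst]⟩, ⟨PullbackCone.IsLimit.mk _
      (fun s => lift (s.fst ≫ snd H G) s.snd) ?_ ?_ ?_⟩⟩
    · intro s
      rw [htop₀]
      apply CartesianMonoidalCategory.hom_ext
      · rw [Category.assoc, lift_fst, ← Category.assoc, lift_snd, s.condition]
      · rw [Category.assoc, lift_snd, lift_fst]
    · intro s
      rw [lift_snd]
    · intro s t h1 h2
      apply CartesianMonoidalCategory.hom_ext
      · rw [lift_fst, ← h1, htop₀, Category.assoc, lift_snd]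
      · rw [lift_snd, h2]
  have htop₀proper : IsProper top₀.left :=
    MorphismProperty.of_isPullback (P := @IsProper) (hsq₀.map (Over.forget S)).flip hu
  obtain ⟨τ, hτ⟩ : ∃ τ : H ⊗ G ⟶ H ⊗ G, τ = lift ((snd H G ≫ u) * fst H G) (snd H G) := ⟨_, rfl⟩
  obtain ⟨τ', hτ'⟩ : ∃ τ' : H ⊗ G ⟶ H ⊗ G, τ' = lift ((snd H G ≫ u)⁻¹ * fst H G) (snd H G) :=
    ⟨_, rfl⟩
  have hττ' : τ ≫ τ' = 𝟙 _ := by
    rw [hτ, hτ']
    apply CartesianMonoidalCategory.hom_ext
    · rw [Category.assoc, lift_fst, MonObj.comp_mul, GrpObj.comp_inv, ← Category.assoc, lift_snd,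
        lift_fst, inv_mul_cancel_left, Category.id_comp]
    · rw [Category.assoc, lift_snd, lift_snd, Category.id_comp]
  have hτ'τ : τ' ≫ τ = 𝟙 _ := by
    rw [hτ, hτ']
    apply CartesianMonoidalCategory.hom_ext
    · rw [Category.assoc, lift_fst, MonObj.comp_mul, ← Category.assoc, lift_snd,
        lift_fst, mul_inv_cancel_left, Category.id_comp]
    · rw [Category.assoc, lift_snd, lift_snd, Category.id_comp]
  have hτiso : IsIso τ := ⟨τ', hττ', hτ'τ⟩
  have hτliso : IsIso τ.left := (Over.forget S).map_isIso τ
  have htopeq : top = top₀ ≫ τ := by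
    rw [htop, htop₀, hτ]
    apply CartesianMonoidalCategory.hom_ext
    · rw [lift_fst, Category.assoc, lift_fst, MonObj.comp_mul, ← Category.assoc, lift_snd, lift_fst,
        hm, whiskerLeft_comp_mul, MonObj.mul_comp, Category.assoc]
    · rw [lift_snd, Category.assoc, lift_snd, lift_snd]
  have htopproper : IsProper top.left := by
    rw [htopeq, Over.comp_left]
    infer_instance
  -- descent
  have := descendsAlong_isProper.{u}
  have hvproper : IsProper (lift u p).left :=
    MorphismProperty.of_isPullback_of_descendsAlong (P := @IsProper)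
      (Q := @Surjective ⊓ @Flat ⊓ @QuasiCompact) (hsq.map (Over.forget S))
      ⟨⟨hcsurj, hcflat⟩, hcqc⟩ htopproper
  have hfstproper : IsProper (fst H G'').left := by
    change IsProper (pullback.fst H.hom G''.hom)
    infer_instance
  have : u.left = (lift u p).left ≫ (fst H G'').left := by
    rw [← Over.comp_left, lift_fst]
  rw [this]
  infer_instance

end Groth.Agent.S5415
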