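import Groth.Statements.S5430
import Mathlib
import Groth.Agent.Lib.Helper15ExtCentral

set_option autoImplicit false
universe u
open CategoryTheory MonoidalCategory CartesianMonoidalCategory MonObj GrpObj AlgebraicGeometry CategoryTheory.Limits
open SGA3x

namespace Groth.Agent.S5430

/-- Let S be a scheme and E an S-group scheme which is an extension of an S-group scheme U with
connected fibres by an S-group H of multiplicative type and of finite type: p : E → U is a
homomorphism which is surjective, flat and quasi-compact (U is the fpqc quotient E/H) and i : H → E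
is its kernel. Then the extension is central: every point of H commutes with every point of E. -/
theorem result (S : Scheme.{u}) (E H U : Over S) [GrpObj E] [GrpObj H] [GrpObj U]
    (p : E ⟶ U) [IsMonHom p] [Surjective p.left] [Flat p.left] [QuasiCompact p.left]
    (i : H ⟶ E) [IsMonHom i] (hker : AlgGrp.IsKernel i p) (hH : SGA3x.IsMultTypeFT H)
    (hU : ∀ s : S, _root_.IsConnected (U.hom.base ⁻¹' {s})) :
    ∀ (X : Over S) (h : X ⟶ H) (e : X ⟶ E), (h ≫ i) * e = e * (h ≫ i) := by
  obtain ⟨S', f, hfl, hsu, hqc, hloc⟩ := hH
  have hU' : ∀ s : S, ConnectedSpace (U.hom.fiber s) := by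
    intro s
    have h1 : ConnectedSpace ↥(U.hom.base ⁻¹' {s}) := isConnected_iff_connectedSpace.mp (hU s)
    exact (U.hom.fiberHomeo s).symm.surjective.connectedSpace (U.hom.fiberHomeo s).symm.continuous
  refine Groth.Agent.Lib.Helper15ExtCentral.central_of_extension E H U p i hker
    ⟨S', f, hfl, hsu, hqc, fun s' => ?_⟩ hU'
  obtain ⟨V, hV, M, inst, -, e⟩ := hloc s'
  exact ⟨V, hV, M, inst, e⟩

end Groth.Agent.S5430
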