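import Groth.Statements.S5433
import Groth.Agent.Lib.Helper25CSplitE
import Groth.Agent.S7979

set_option autoImplicit false
universe u
open TensorProduct
open SGA3

namespace Groth.Agent.S5433

/-- Let k be a perfect field and A a finitely generated commutative and cocommutative Hopf algebra over
k (a commutative affine algebraic group G). Let J be the Hopf ideal of the largest subgroup of
multiplicative type M (A/J is of multiplicative type and J lies in every Hopf ideal whose quotient
is of multiplicative type). Then there is exactly one Hopf ideal I of A (a unipotent subgroup U)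
such that A/I is unipotent in the fixed-vector sense and the map A → (A/J) ⊗ (A/I), a ↦ Σ ā₁ ⊗ ā₂
(the comorphism of the multiplication M × U → G), is bijective. -/
theorem result (k : Type u) [Field k] [PerfectField k] (A : Type u) [CommRing A] [HopfAlgebra k A] [Algebra.FiniteType k A]
    [Coalgebra.IsCocomm k A] (J : Ideal A) [J.IsHopfIdeal k] (hJ : SGA3b.IsMultTypeConst k (A ⧸ J))
    (hJmax : ∀ (I : Ideal A) [I.IsHopfIdeal k], SGA3b.IsMultTypeConst k (A ⧸ I) → J ≤ I) :
    ∃! I : Ideal A, ∃ (_ : I.IsHopfIdeal k), HopfRep.IsUnipotent k (A ⧸ I) ∧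
      Function.Bijective ((Algebra.TensorProduct.map (Ideal.Quotient.mkₐ k J) (Ideal.Quotient.mkₐ k I)).comp
        (Bialgebra.comulAlgHom k A)) := by
  open Groth.Agent.Lib.Helper25.HopfSub Groth.Agent.Lib.Helper25.CSplit
    Groth.Agent.Lib.Helper25.BCB Groth.Agent.Lib.Helper25 in
  have hJeq : J = coconnIdeal k A :=
    le_antisymm (hJmax (coconnIdeal k A) (isMultTypeConst_quot_coconn k A))
      (coconnIdeal_le_of_isMultTypeConst k A J hJ)
  subst hJeq
  have hM : HopfRep.IsDiagonalizable (AlgebraicClosure k)
      (AlgebraicClosure k ⊗[k] (A ⧸ coconnIdeal k A)) :=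
    (Groth.Agent.S7979.result k (A ⧸ coconnIdeal k A)).mpr
      ⟨inferInstance, fun f hf => eq_zero_of_isPrim_quot_coconn f hf⟩
  have hH : ∀ g : AlgebraicClosure k ⊗[k] A, IsGroupLikeElem (AlgebraicClosure k) g →
      bcQuot k A (AlgebraicClosure k) (coconnIdeal k A) g = 1 → g = 1 :=
    fun g hg h => groupLike_eq_one_of_bcQuot (AlgebraicClosure k) g hg h
  have hlift : ∀ x : AlgebraicClosure k ⊗[k] (A ⧸ coconnIdeal k A),
      IsGroupLikeElem (AlgebraicClosure k) x →
      ∃ χ : AlgebraicClosure k ⊗[k] A, IsGroupLikeElem (AlgebraicClosure k) χ ∧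
        bcQuot k A (AlgebraicClosure k) (coconnIdeal k A) χ = x :=
    fun x hx => exists_groupLike_lift (bcQuot k A (AlgebraicClosure k) (coconnIdeal k A))
      (bcQuot_surjective k A (AlgebraicClosure k) (coconnIdeal k A)) hM x hx
  obtain ⟨sK, hsK⟩ := exists_section (bcQuot k A (AlgebraicClosure k) (coconnIdeal k A)) hM
    hlift hH
  obtain ⟨s, hs⟩ := exists_descended_section (K := AlgebraicClosure k)
    (Bialgebra.Quotient.mkBialgHom (R := k) (coconnIdeal k A)) sK hM hH hsK
  exact existsUnique_of_section (AlgebraicClosure k) hM s hs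

end Groth.Agent.S5433
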