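import Groth.Statements.S5441
import Groth.Agent.Lib.Helper25EtRad

set_option autoImplicit false
universe u
open TensorProduct
open SGA3

namespace Groth.Agent.S5441

/-- Let k be a perfect field, A a finitely generated commutative Hopf algebra (an algebraic group H), ψ
: C → A an injective bialgebra map with C an étale k-algebra (the étale quotient H″), J the Hopf
ideal of A generated by the image of the augmentation ideal of C (the kernel H′ = Spec (A/J)), with
A/J a local ring (H′ radiciel). Then H″ lifts uniquely into H and the lifting is the reduced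
subgroup: there is exactly one bialgebra map r : A → C with r ∘ ψ = id, and every such r has kernel
the nilradical of A. -/
theorem result (k : Type u) [Field k] [PerfectField k] (A C : Type u) [CommRing A] [HopfAlgebra k A] [Algebra.FiniteType k A]
    [CommRing C] [HopfAlgebra k C] [Algebra.Etale k C] (ψ : C →ₐc[k] A) (hψ : Function.Injective ψ)
    (J : Ideal A) [J.IsHopfIdeal k] (hJ : J = Ideal.map (ψ : C →+* A) (RingHom.ker (Bialgebra.counitAlgHom k C)))
    [IsLocalRing (A ⧸ J)] :
    (∃! r : A →ₐc[k] C, r.comp ψ = BialgHom.id k C) ∧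
    ∀ r : A →ₐc[k] C, r.comp ψ = BialgHom.id k C → RingHom.ker (r : A →+* C) = nilradical A := by
  classical
  set B : Subalgebra k A := (ψ : C →ₐ[k] A).range with hBdef
  have hHopf := Groth.Agent.Lib.Helper25.isHopfSubalgebra_range ψ
  have hJ' : J = SGA3.augIdealSpan k A B := by
    rw [hJ]
    exact Groth.Agent.Lib.Helper25.map_ker_counit_eq_augIdealSpan ψ
  haveI : IsReduced C := Algebra.FormallyUnramified.isReduced_of_field k C
  -- (1) the augmentation ideal lies in the radical of J
  have hrad : ∀ y : A, CoalgebraStruct.counit (R := k) y = 0 →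
      ∃ n : ℕ, y ^ n ∈ SGA3.augIdealSpan k A B := by
    intro y hy
    rw [← hJ']
    have hnu : ¬ IsUnit (Ideal.Quotient.mk J y) := by
      intro hu
      have h1 := hu.map (Bialgebra.counitAlgHom k (A ⧸ J))
      rw [Bialgebra.counitAlgHom_apply, Bialgebra.Quotient.counit_mk, hy] at h1
      exact not_isUnit_zero h1
    have hmem : Ideal.Quotient.mk J y ∈ IsLocalRing.maximalIdeal (A ⧸ J) :=
      (IsLocalRing.mem_maximalIdeal _).mpr hnu
    haveI : Algebra.FiniteType k (A ⧸ J) :=
      Algebra.FiniteType.of_surjective (Ideal.Quotient.mkₐ k J) (Ideal.Quotient.mkₐ_surjective k J)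
    haveI : IsJacobsonRing (A ⧸ J) := isJacobsonRing_of_finiteType (A := k)
    have hnil : Ideal.Quotient.mk J y ∈ nilradical (A ⧸ J) := by
      rw [nilradical, Ideal.radical_eq_jacobson]
      change _ ∈ Ideal.jacobson (⊥ : Ideal (A ⧸ J))
      rw [IsLocalRing.jacobson_eq_maximalIdeal _ bot_ne_top]
      exact hmem
    obtain ⟨n, hn⟩ := mem_nilradical.mp hnil
    refine ⟨n, ?_⟩
    rw [← map_pow] at hn
    exact Ideal.Quotient.eq_zero_iff_mem.mp hn
  -- (2) nilpotency in A ⊗[B] A
  have hnilA := Groth.Agent.Lib.Helper25.EtRad.isNilpotent_tmul_sub B hHopf.1 hrad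
  -- (3) étale structure on B
  let eCB : C ≃ₐ[k] ↥B := AlgEquiv.ofInjective (ψ : C →ₐ[k] A) hψ
  haveI : Algebra.Etale k ↥B := Algebra.Etale.of_equiv eCB
  haveI : IsReduced ↥B := Algebra.FormallyUnramified.isReduced_of_field k ↥B
  haveI : IsReduced (A ⧸ nilradical A) :=
    (Ideal.isRadical_iff_quotient_reduced (nilradical A)).mp (Ideal.radical_isRadical _)
  have hinj : Function.Injective (algebraMap ↥B (A ⧸ nilradical A)) := by
    rw [injective_iff_map_eq_zero]
    intro b hb
    have h1 : Ideal.Quotient.mk (nilradical A) (b : A) = 0 := hb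
    rw [Ideal.Quotient.eq_zero_iff_mem, mem_nilradical] at h1
    have h2 : IsNilpotent b := (IsNilpotent.map_iff (f := B.val) Subtype.val_injective).mp h1
    exact h2.eq_zero
  -- (5) A = ψ(C) + nilradical
  have hdec : ∀ a : A, ∃ c : C, a - ψ c ∈ nilradical A := by
    intro a
    have h1 := (hnilA a).map (Algebra.TensorProduct.map
      (Ideal.Quotient.mkₐ ↥B (nilradical A)) (Ideal.Quotient.mkₐ ↥B (nilradical A)))
    rw [map_sub, Algebra.TensorProduct.map_tmul, Algebra.TensorProduct.map_tmul, map_one] at h1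
    obtain ⟨b, hb⟩ := Groth.Agent.Lib.Helper25.EtRad.exists_algebraMap_eq_of_isNilpotent
      (k := k) ↥B hinj _ h1
    obtain ⟨c, hc⟩ := b.2
    refine ⟨c, ?_⟩
    have h2 : Ideal.Quotient.mk (nilradical A) (b : A) = Ideal.Quotient.mk (nilradical A) a := hb
    rw [← Ideal.Quotient.eq_zero_iff_mem, map_sub, ← h2, sub_eq_zero]
    congr 1
    exact hc.symm
  -- (6) rigidity into reduced algebras
  have hext : ∀ (T : Type u) [CommRing T] [Algebra k T] [IsReduced T] (f g : A →ₐ[k] T),
      (∀ c : C, f (ψ c) = g (ψ c)) → f = g := by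
    intro T _ _ _ f g hfg
    apply AlgHom.ext
    intro a
    obtain ⟨c, hc⟩ := hdec a
    have hn : IsNilpotent (a - ψ c) := mem_nilradical.mp hc
    have e : a = ψ c + (a - ψ c) := by ring
    rw [e, map_add, map_add, hfg c, (hn.map f).eq_zero, (hn.map g).eq_zero]
  -- (7) construction of r
  let φ : C →ₐ[k] (A ⧸ nilradical A) := (Ideal.Quotient.mkₐ k (nilradical A)).comp (ψ : C →ₐ[k] A)
  have hφ : Function.Bijective φ := by
    constructor
    · rw [injective_iff_map_eq_zero]
      intro c hc
      have h1 : Ideal.Quotient.mk (nilradical A) (ψ c) = 0 := hc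
      rw [Ideal.Quotient.eq_zero_iff_mem, mem_nilradical] at h1
      have h2 : IsNilpotent c := (IsNilpotent.map_iff (f := (ψ : C →ₐ[k] A)) hψ).mp h1
      exact h2.eq_zero
    · intro x
      obtain ⟨a, rfl⟩ := Ideal.Quotient.mk_surjective x
      obtain ⟨c, hc⟩ := hdec a
      refine ⟨c, ?_⟩
      change Ideal.Quotient.mk (nilradical A) (ψ c) = Ideal.Quotient.mk (nilradical A) a
      rw [eq_comm, ← sub_eq_zero, ← map_sub, Ideal.Quotient.eq_zero_iff_mem]
      exact hc
  let e : C ≃ₐ[k] (A ⧸ nilradical A) := AlgEquiv.ofBijective φ hφ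
  let r₀ : A →ₐ[k] C := (e.symm : (A ⧸ nilradical A) →ₐ[k] C).comp
    (Ideal.Quotient.mkₐ k (nilradical A))
  have hr₀ : ∀ c : C, r₀ (ψ c) = c := by
    intro c
    change e.symm (φ c) = c
    exact e.symm_apply_apply c
  have hker₀ : RingHom.ker (r₀ : A →+* C) = nilradical A := by
    ext a
    rw [RingHom.mem_ker]
    change e.symm (Ideal.Quotient.mk (nilradical A) a) = 0 ↔ _
    rw [map_eq_zero_iff _ e.symm.injective, Ideal.Quotient.eq_zero_iff_mem]
  haveI := Groth.Agent.Lib.Helper25.NilHopf.isGeometricallyReduced_of_perfectField k C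
  haveI : IsReduced (C ⊗[k] C) :=
    Groth.Agent.Lib.Helper25.NilHopf.isReduced_tensor_of_isReduced k C C
  have hcounit : (Bialgebra.counitAlgHom k C).comp r₀ = Bialgebra.counitAlgHom k A := by
    apply hext
    intro c
    rw [AlgHom.comp_apply, hr₀, Bialgebra.counitAlgHom_apply, Bialgebra.counitAlgHom_apply]
    exact (CoalgHomClass.counit_comp_apply ψ c).symm
  have hcomul : (Algebra.TensorProduct.map r₀ r₀).comp (Bialgebra.comulAlgHom k A) =
      (Bialgebra.comulAlgHom k C).comp r₀ := by
    apply hext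
    intro c
    rw [AlgHom.comp_apply, AlgHom.comp_apply, hr₀]
    have h1 : Bialgebra.comulAlgHom k A (ψ c) =
        Algebra.TensorProduct.map (ψ : C →ₐ[k] A) (ψ : C →ₐ[k] A) (Bialgebra.comulAlgHom k C c) := by
      have := congrArg (fun f : C →ₐ[k] A ⊗[k] A => f c) (BialgHom.map_comp_comulAlgHom ψ)
      exact this.symm
    rw [h1]
    generalize Bialgebra.comulAlgHom k C c = z
    induction z using TensorProduct.induction_on with
    | zero => simp
    | add x y hx hy => rw [map_add, map_add, hx, hy]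
    | tmul x y =>
      rw [Algebra.TensorProduct.map_tmul, Algebra.TensorProduct.map_tmul]
      change r₀ (ψ x) ⊗ₜ[k] r₀ (ψ y) = _
      rw [hr₀, hr₀]
  let r : A →ₐc[k] C := BialgHom.ofAlgHom r₀ hcounit hcomul
  have hr : ∀ a : A, r a = r₀ a := fun a => rfl
  have hrψ : r.comp ψ = BialgHom.id k C := by
    apply BialgHom.ext
    intro c
    change r (ψ c) = c
    rw [hr, hr₀]
  -- uniqueness
  have huniq : ∀ r' : A →ₐc[k] C, r'.comp ψ = BialgHom.id k C → r' = r := by
    intro r' hr'
    have h1 : (r' : A →ₐ[k] C) = r₀ := by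
      apply hext
      intro c
      have := congrArg (fun f : C →ₐc[k] C => f c) hr'
      change r' (ψ c) = c at this
      change r' (ψ c) = r₀ (ψ c)
      rw [this, hr₀]
    apply BialgHom.ext
    intro a
    have := congrArg (fun f : A →ₐ[k] C => f a) h1
    exact this
  refine ⟨⟨r, hrψ, huniq⟩, ?_⟩
  intro r' hr'
  rw [huniq r' hr']
  exact hker₀

end Groth.Agent.S5441
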