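import Groth.Statements.S5444
-- import your own Groth.Agent.* helpers here
import Mathlib
import Groth.Agent.S1416

set_option autoImplicit false
universe u
open CategoryTheory AlgebraicGeometry Topology
open SGA3x

namespace Groth.Agent.S5444

open Limits TopologicalSpace

set_option linter.style.haveILetI false

/-- ring lemma: a quotient `Q` of `B` whose kernel is saturated with respect to the nonzero
elements of a Bezout domain `R` is flat over `R`. -/
theorem flat_comp_of_ker {R B Q : Type*} [CommRing R] [IsDomain R] [IsBezout R]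
    [CommRing B] [CommRing Q] (ψ : R →+* B) (π : B →+* Q) (hπ : Function.Surjective π)
    (h : ∀ r : R, r ≠ 0 → ∀ b : B, ψ r * b ∈ RingHom.ker π → b ∈ RingHom.ker π) :
    (π.comp ψ).Flat := by
  letI : Algebra R Q := (π.comp ψ).toAlgebra
  show Module.Flat R Q
  rw [Module.Flat.flat_iff_torsion_eq_bot_of_isBezout, eq_bot_iff]
  intro q hq
  obtain ⟨a, ha⟩ := (Submodule.mem_torsion_iff q).mp hq
  obtain ⟨b, rfl⟩ := hπ q
  have ha' : π (ψ (a : R)) * π b = 0 := by
    have h0 := ha
    rw [Submonoid.smul_def, Algebra.smul_def, RingHom.algebraMap_toAlgebra] at h0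
    exact h0
  have h3 : b ∈ RingHom.ker π :=
    h a (nonZeroDivisors.coe_ne_zero a) b (by rw [RingHom.mem_ker, map_mul]; exact ha')
  rw [Submodule.mem_bot]
  exact (RingHom.mem_ker).mp h3

/-- the reduced closure of a set of points of the generic fibre is flat over a valuation ring. -/
theorem flat_closure_generic {A : Type u} [CommRing A] [IsDomain A] [ValuationRing A]
    {Y : Scheme.{u}} (g : Y ⟶ Spec (CommRingCat.of A)) (T : Set Y)
    (hT : ∀ x ∈ T, g x = (⟨⊥, Ideal.isPrime_bot⟩ : Spec (CommRingCat.of A)))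
    (C : Closeds Y) (hC : (C : Set Y) = closure T) :
    Flat ((Scheme.IdealSheafData.vanishingIdeal C).subschemeι ≫ g) := by
  let eR : Γ(Spec (CommRingCat.of A), ⊤) ≃+* A :=
    (Scheme.ΓSpecIso (CommRingCat.of A)).commRingCatIsoToRingEquiv
  haveI : IsDomain Γ(Spec (CommRingCat.of A), ⊤) := MulEquiv.isDomain A eR.toMulEquiv
  haveI : IsBezout Γ(Spec (CommRingCat.of A), ⊤) :=
    Function.Surjective.isBezout eR.symm.toRingHom eR.symm.surjective
  rw [HasRingHomProperty.iff_exists_appLE (P := @Flat)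
    (RingHom.Flat.stableUnderComposition.stableUnderCompositionWithLocalizationAway
      RingHom.Flat.holdsForLocalizationAway).left]
  intro z
  obtain ⟨U', hU', hzU', -⟩ := exists_isAffineOpen_mem_and_subset
    (x := (Scheme.IdealSheafData.vanishingIdeal C).subschemeι z) (U := ⊤) trivial
  have e' : U' ≤ g ⁻¹ᵁ ⊤ := fun _ _ => trivial
  refine ⟨⟨⊤, isAffineOpen_top _⟩,
    ⟨(Scheme.IdealSheafData.vanishingIdeal C).subschemeι ⁻¹ᵁ U', hU'.preimage _⟩, hzU',
    fun _ _ => trivial, ?_⟩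
  have hcomp : (((Scheme.IdealSheafData.vanishingIdeal C).subschemeι ≫ g).appLE ⊤
      ((Scheme.IdealSheafData.vanishingIdeal C).subschemeι ⁻¹ᵁ U') (fun _ _ => trivial)).hom =
      ((Scheme.IdealSheafData.vanishingIdeal C).subschemeι.app U').hom.comp
        (g.appLE ⊤ U' e').hom := by
    rw [← CommRingCat.hom_comp, ← Scheme.Hom.appLE_eq_app, Scheme.Hom.appLE_comp_appLE]
  have hI : (Scheme.IdealSheafData.vanishingIdeal C).ideal ⟨U', hU'⟩ =
      PrimeSpectrum.vanishingIdeal (hU'.fromSpec ⁻¹' T) := by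
    rw [Scheme.IdealSheafData.vanishingIdeal_ideal]
    have hpre : hU'.fromSpec ⁻¹' (C : Set Y) = closure (hU'.fromSpec ⁻¹' T) := by
      rw [hC]
      exact hU'.fromSpec.isOpenEmbedding.isOpenMap.preimage_closure_eq_closure_preimage
        hU'.fromSpec.continuous T
    exact (congrArg PrimeSpectrum.vanishingIdeal hpre).trans
      (PrimeSpectrum.vanishingIdeal_closure _)
  have key : (((Scheme.IdealSheafData.vanishingIdeal C).subschemeι.app U').hom.comp
      (g.appLE ⊤ U' e').hom).Flat := by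
    refine flat_comp_of_ker _ _
      ((Scheme.IdealSheafData.vanishingIdeal C).subschemeι_app_surjective ⟨U', hU'⟩) ?_
    intro r hr b hb
    rw [(Scheme.IdealSheafData.vanishingIdeal C).ker_subschemeι_app ⟨U', hU'⟩, hI,
      PrimeSpectrum.mem_vanishingIdeal] at hb ⊢
    intro 𝔭 h𝔭
    rcases 𝔭.isPrime.mem_or_mem (hb 𝔭 h𝔭) with h1 | h1
    · exfalso
      have hx : g (hU'.fromSpec 𝔭) = (⟨⊥, Ideal.isPrime_bot⟩ : Spec (CommRingCat.of A)) :=
        hT _ h𝔭
      have hxU : hU'.fromSpec 𝔭 ∈ U' := by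
        have h0 : hU'.fromSpec 𝔭 ∈ Set.range hU'.fromSpec := ⟨𝔭, rfl⟩
        rw [hU'.range_fromSpec] at h0
        exact h0
      have hb0 := Scheme.basicOpen_appLE g U' ⊤ e' r
      have hmem : hU'.fromSpec 𝔭 ∈ U' ⊓ g ⁻¹ᵁ ((Spec (CommRingCat.of A)).basicOpen r) := by
        refine ⟨hxU, ?_⟩
        show g (hU'.fromSpec 𝔭) ∈ (Spec (CommRingCat.of A)).basicOpen r
        rw [hx, basicOpen_eq_of_affine']
        refine (PrimeSpectrum.mem_basicOpen _ _).mpr ?_
        show (Scheme.ΓSpecIso (CommRingCat.of A)).hom r ∉ (⊥ : Ideal A)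
        rw [Ideal.mem_bot]
        intro h0
        apply hr
        have h00 : eR r = 0 := h0
        exact (eR.map_eq_zero_iff).mp h00
      rw [← hb0] at hmem
      have h2 : 𝔭 ∈ hU'.fromSpec ⁻¹ᵁ Y.basicOpen ((g.appLE ⊤ U' e').hom r) := hmem
      rw [hU'.fromSpec_preimage_basicOpen] at h2
      exact (PrimeSpectrum.mem_basicOpen _ _).mp h2 h1
    · exact h1
  rw [← hcomp] at key
  exact key

/-- the fibre of a pullback over a pair of points with trivial residue field extension on one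
side is a single point. -/
theorem subsingleton_spec_tensor {X Y S : Scheme.{u}} {f : X ⟶ S} {g : Y ⟶ S}
    (T : Scheme.Pullback.Triplet f g) (hbij : Function.Bijective (f.residueFieldMap T.x).hom) :
    Subsingleton ↥(Spec T.tensor) := by
  haveI : IsIso (f.residueFieldMap T.x) := (ConcreteCategory.isIso_iff_bijective _).mpr hbij
  haveI : IsIso ((S.residueFieldCongr T.hx).inv ≫ f.residueFieldMap T.x) := inferInstance
  haveI : IsIso T.tensorInr :=
    (IsPushout.of_hasPushout ((S.residueFieldCongr T.hx).inv ≫ f.residueFieldMap T.x)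
      ((S.residueFieldCongr T.hy).inv ≫ g.residueFieldMap T.y)).isIso_inr_of_isIso
  let e : Y.residueField T.y ≅ T.tensor := asIso T.tensorInr
  have hfield : IsField T.tensor :=
    MulEquiv.isField (Field.toIsField (Y.residueField T.y))
      e.commRingCatIsoToRingEquiv.symm.toMulEquiv
  letI := hfield.toField
  exact (inferInstance : Subsingleton (PrimeSpectrum T.tensor))

theorem eq_of_fst_eq_of_snd_eq {X Y S : Scheme.{u}} (f : X ⟶ S) (g : Y ⟶ S)
    (z₁ z₂ : ↥(pullback f g))
    (h1 : pullback.fst f g z₁ = pullback.fst f g z₂)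
    (h2 : pullback.snd f g z₁ = pullback.snd f g z₂)
    (hbij : Function.Bijective (f.residueFieldMap (pullback.fst f g z₂)).hom) : z₁ = z₂ := by
  apply Scheme.Pullback.carrierEquiv.injective
  rw [Scheme.Pullback.carrierEquiv_eq_iff]
  have e : Scheme.Pullback.Triplet.ofPoint z₁ = Scheme.Pullback.Triplet.ofPoint z₂ :=
    Scheme.Pullback.Triplet.ext h1 h2
  refine ⟨e, ?_⟩
  exact @Subsingleton.elim _ (subsingleton_spec_tensor (Scheme.Pullback.Triplet.ofPoint z₂) hbij) _ _

theorem eq_of_isPullback {P X Y S : Scheme.{u}} {fst : P ⟶ X} {snd : P ⟶ Y} {f : X ⟶ S}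
    {g : Y ⟶ S} (h : IsPullback fst snd f g) (z₁ z₂ : P) (h1 : fst z₁ = fst z₂)
    (h2 : snd z₁ = snd z₂)
    (hbij : Function.Bijective (f.residueFieldMap (fst z₂)).hom) : z₁ = z₂ := by
  have hinj : Function.Injective h.isoPullback.hom :=
    Function.HasLeftInverse.injective ⟨h.isoPullback.inv, fun z => by
      rw [← Scheme.Hom.comp_apply, Iso.hom_inv_id]; rfl⟩
  apply hinj
  have e1 : ∀ z, pullback.fst f g (h.isoPullback.hom z) = fst z := fun z => by
    rw [← Scheme.Hom.comp_apply, h.isoPullback_hom_fst]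
  have e2 : ∀ z, pullback.snd f g (h.isoPullback.hom z) = snd z := fun z => by
    rw [← Scheme.Hom.comp_apply, h.isoPullback_hom_snd]
  refine eq_of_fst_eq_of_snd_eq f g _ _ (by rw [e1, e1, h1]) (by rw [e2, e2, h2]) ?_
  rw [e1]
  exact hbij

/-- the residue field extension at the image of a section is trivial. -/
theorem bijective_residueFieldMap_of_section {Y S : Scheme.{u}} (f : Y ⟶ S) (a : S ⟶ Y)
    (ha : a ≫ f = 𝟙 S) (s : S) : Function.Bijective (f.residueFieldMap (a s)).hom := by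
  have key : ∀ (φ : S ⟶ S), φ = 𝟙 S → Function.Bijective (φ.residueFieldMap s).hom := by
    rintro _ rfl
    rw [Scheme.residueFieldMap_id]
    exact Function.bijective_id
  have h1 := key _ ha
  rw [Scheme.residueFieldMap_comp] at h1
  have h1' : Function.Bijective ((a.residueFieldMap s).hom ∘ (f.residueFieldMap (a s)).hom) := h1
  have h2 : Function.Bijective (a.residueFieldMap s).hom :=
    ⟨(a.residueFieldMap s).hom.injective, Function.Surjective.of_comp h1'.2⟩
  exact (Function.Bijective.of_comp_iff' h2 _).mp h1'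

/-- dimension of the trace of a closed set on a fibre, under base change. -/
theorem dim_preimage_eq {Y S Y' S' : Scheme.{u}} {f : Y ⟶ S} [LocallyOfFiniteType f]
    {t : S' ⟶ S} {p : Y' ⟶ Y} {f' : Y' ⟶ S'} (hpb : IsPullback p f' f t) (E : Set Y)
    (hE : IsClosed E) (y : S') :
    topologicalKrullDim ↥(f' ⁻¹' {y} ∩ p ⁻¹' E) = topologicalKrullDim ↥(f ⁻¹' {t y} ∩ E) := by
  obtain ⟨Z, ι, hιcl, hrι⟩ := Groth.Agent.S1416.exists_closedImmersion_range E hE
  have hrq : Set.range (pullback.snd ι p) = p ⁻¹' E := by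
    rw [Scheme.Pullback.range_snd, hrι]
  have hpaste : IsPullback (pullback.fst ι p) (pullback.snd ι p ≫ f') (ι ≫ f) t :=
    (IsPullback.of_hasPullback ι p).paste_vert hpb
  have e2 : topologicalKrullDim ↥((pullback.snd ι p ≫ f').fiber y) =
      topologicalKrullDim ↥(f' ⁻¹' {y} ∩ p ⁻¹' E) := by
    rw [Groth.Agent.S1416.dim_fiber_comp (pullback.snd ι p) f'
      (pullback.snd ι p).isClosedEmbedding.isEmbedding y, hrq]
  have e3 := Groth.Agent.Lib.Helper3.FlatFibDim2.dim_fiber_eq_of_isPullback (ι ≫ f) t _ _ hpaste y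
  have e4 : topologicalKrullDim ↥((ι ≫ f).fiber (t y)) =
      topologicalKrullDim ↥(f ⁻¹' {t y} ∩ E) := by
    rw [Groth.Agent.S1416.dim_fiber_comp ι f ι.isClosedEmbedding.isEmbedding (t y), hrι]
  exact e2.symm.trans (e3.trans e4)

/-- base-changed sections are dense in the base change of the closure of the sections,
fibrewise. -/
theorem subset_closure_sections {Y S Y' S' : Scheme.{u}} (f : Y ⟶ S) (t : S' ⟶ S) (p : Y' ⟶ Y)
    (f' : Y' ⟶ S') (hpb : IsPullback p f' f t) {ι : Type u} (a : ι → (S ⟶ Y))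
    (ha : ∀ i, a i ≫ f = 𝟙 S) (b : ι → (S' ⟶ Y')) (hb1 : ∀ i, b i ≫ p = t ≫ a i)
    (hb2 : ∀ i, b i ≫ f' = 𝟙 S') (c : S') :
    f' ⁻¹' {c} ∩ p ⁻¹' closure (Set.range fun i => a i (t c)) ⊆
      closure (Set.range fun i => b i c) := by
  rintro x' ⟨hx'c, hx'E⟩
  rw [mem_closure_iff]
  intro O hO hx'O
  obtain ⟨q, hq, hqfst⟩ : ∃ q : f'.fiber c ⟶ f.fiber (t c),
      IsPullback q (f'.fiberToSpecResidueField c) (f.fiberToSpecResidueField (t c))
        (Spec.map (t.residueFieldMap c)) ∧ q ≫ f.fiberι (t c) = f'.fiberι c ≫ p :=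
    ⟨_, isPullback_fiberToSpecResidueField_of_isPullback hpb c, pullback.lift_fst _ _ _⟩
  haveI : Subsingleton ↥(Spec (S.residueField (t c))) :=
    inferInstanceAs (Subsingleton (PrimeSpectrum (S.residueField (t c))))
  haveI : UniversallyOpen (Spec.map (t.residueFieldMap c)) := inferInstance
  haveI : UniversallyOpen q :=
    MorphismProperty.of_isPullback (P := @UniversallyOpen) hq.flip inferInstance
  let z' : ↥(f'.fiber c) := (f'.fiberHomeo c).symm ⟨x', hx'c⟩
  have hz' : f'.fiberι c z' = x' := f'.fiberι_fiberHomeo_symm c ⟨x', hx'c⟩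
  have hOfib : IsOpen ((f'.fiberι c) ⁻¹' O) := hO.preimage (f'.fiberι c).continuous
  have hW : IsOpen (q '' ((f'.fiberι c) ⁻¹' O)) := q.isOpenMap _ hOfib
  obtain ⟨W', hW'o, hW'eq⟩ := (f.fiberι (t c)).isEmbedding.isInducing.isOpen_iff.mp hW
  have hqz : f.fiberι (t c) (q z') = p x' := by
    rw [← hz', ← Scheme.Hom.comp_apply, ← Scheme.Hom.comp_apply, hqfst]
  have hpW' : p x' ∈ W' := by
    have h0 : q z' ∈ (f.fiberι (t c)) ⁻¹' W' := by
      rw [hW'eq]
      exact ⟨z', (show f'.fiberι c z' ∈ O by rw [hz']; exact hx'O), rfl⟩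
    rw [← hqz]
    exact h0
  obtain ⟨_, hyW', ⟨i, rfl⟩⟩ := mem_closure_iff.mp hx'E W' hW'o hpW'
  have hfa : f (a i (t c)) = t c := by
    rw [← Scheme.Hom.comp_apply, ha]; rfl
  obtain ⟨w, hw⟩ : a i (t c) ∈ Set.range (f.fiberι (t c)) := by
    rw [Scheme.Hom.range_fiberι]; exact hfa
  have hwW : w ∈ q '' ((f'.fiberι c) ⁻¹' O) := by
    rw [← hW'eq]
    show f.fiberι (t c) w ∈ W'
    rw [hw]
    exact hyW'
  obtain ⟨o, hoO, rfl⟩ := hwW
  refine ⟨f'.fiberι c o, hoO, i, ?_⟩
  have hfo : f' (f'.fiberι c o) = c := by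
    have h0 : f'.fiberι c o ∈ Set.range (f'.fiberι c) := ⟨o, rfl⟩
    rw [Scheme.Hom.range_fiberι] at h0
    exact h0
  have hpo : p (f'.fiberι c o) = a i (t c) := by
    rw [← hw, ← Scheme.Hom.comp_apply, ← hqfst, Scheme.Hom.comp_apply]
  apply eq_of_isPullback hpb (b i c) (f'.fiberι c o)
  · rw [hpo, ← Scheme.Hom.comp_apply, hb1, Scheme.Hom.comp_apply]
  · rw [hfo, ← Scheme.Hom.comp_apply, hb2]; rfl
  · rw [hpo]
    exact bijective_residueFieldMap_of_section f (a i) (ha i) (t c)

/-- the flat model over a valuation ring. -/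
theorem exists_flat_model {Y S Y' : Scheme.{u}} (f : Y ⟶ S) [LocallyOfFiniteType f]
    {ι : Type u} (a : ι → (S ⟶ Y)) (ha : ∀ i, a i ≫ f = 𝟙 S)
    {A : Type u} [CommRing A] [IsDomain A] [ValuationRing A]
    (t : Spec (CommRingCat.of A) ⟶ S) (p : Y' ⟶ Y) (fA : Y' ⟶ Spec (CommRingCat.of A))
    (hpb : IsPullback p fA f t) (c : Spec (CommRingCat.of A)) :
    ∃ (Z : Scheme.{u}) (g : Z ⟶ Spec (CommRingCat.of A)), Flat g ∧ LocallyOfFiniteType g ∧
      topologicalKrullDim ↥(f ⁻¹' {t c} ∩ closure (Set.range fun i => a i (t c))) ≤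
        topologicalKrullDim ↥(g.fiber c) ∧
      topologicalKrullDim ↥(g.fiber (⟨⊥, Ideal.isPrime_bot⟩ : Spec (CommRingCat.of A))) ≤
        topologicalKrullDim ↥(f ⁻¹' {t (⟨⊥, Ideal.isPrime_bot⟩ : Spec (CommRingCat.of A))} ∩
          closure (Set.range fun i =>
            a i (t (⟨⊥, Ideal.isPrime_bot⟩ : Spec (CommRingCat.of A))))) := by
  haveI : LocallyOfFiniteType fA :=
    MorphismProperty.of_isPullback (P := @LocallyOfFiniteType) hpb inferInstance
  let b : ι → (Spec (CommRingCat.of A) ⟶ Y') := fun i =>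
    hpb.lift (t ≫ a i) (𝟙 _) (by rw [Category.assoc, ha, Category.comp_id, Category.id_comp])
  have hb1 : ∀ i, b i ≫ p = t ≫ a i := fun i => hpb.lift_fst _ _ _
  have hb2 : ∀ i, b i ≫ fA = 𝟙 _ := fun i => hpb.lift_snd _ _ _
  obtain ⟨η, hη⟩ : ∃ η : Spec (CommRingCat.of A), η = ⟨⊥, Ideal.isPrime_bot⟩ := ⟨_, rfl⟩
  rw [← hη]
  have hT : ∀ x ∈ Set.range (fun i => b i η), fA x = η := by
    rintro _ ⟨i, rfl⟩
    show fA (b i η) = η
    rw [← Scheme.Hom.comp_apply, hb2]; rfl
  obtain ⟨CD, hCD⟩ : ∃ CD : Closeds Y', (CD : Set Y') = closure (Set.range fun i => b i η) :=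
    ⟨⟨_, isClosed_closure⟩, rfl⟩
  have hflat : Flat ((Scheme.IdealSheafData.vanishingIdeal CD).subschemeι ≫ fA) :=
    flat_closure_generic fA _ (fun x hx => (hT x hx).trans hη) CD hCD
  have hrj : Set.range (Scheme.IdealSheafData.vanishingIdeal CD).subschemeι =
      closure (Set.range fun i => b i η) := by
    rw [Scheme.IdealSheafData.range_subschemeι, Scheme.IdealSheafData.coe_support_vanishingIdeal,
      hCD]
  have hdimg : ∀ y, topologicalKrullDim
      ↥(((Scheme.IdealSheafData.vanishingIdeal CD).subschemeι ≫ fA).fiber y) =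
      topologicalKrullDim ↥(fA ⁻¹' {y} ∩ closure (Set.range fun i => b i η)) := fun y => by
    rw [Groth.Agent.S1416.dim_fiber_comp _ fA
      (Scheme.IdealSheafData.vanishingIdeal CD).subschemeι.isClosedEmbedding.isEmbedding y, hrj]
  refine ⟨_, (Scheme.IdealSheafData.vanishingIdeal CD).subschemeι ≫ fA, hflat, inferInstance,
    ?_, ?_⟩
  · rw [hdimg c, ← dim_preimage_eq hpb (closure (Set.range fun i => a i (t c))) isClosed_closure c]
    refine (Topology.IsEmbedding.inclusion ?_).isInducing.topologicalKrullDim_le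
    intro x hx
    refine ⟨hx.1, ?_⟩
    have h1 := subset_closure_sections f t p fA hpb a ha b hb1 hb2 c hx
    refine closure_minimal ?_ isClosed_closure h1
    rintro _ ⟨i, rfl⟩
    have hsp : η ⤳ c := by
      rw [hη]
      exact (PrimeSpectrum.le_iff_specializes _ _).mp
        (show (⊥ : Ideal A) ≤ c.asIdeal from bot_le)
    exact (hsp.map (b i).continuous).mem_closed isClosed_closure (subset_closure ⟨i, rfl⟩)
  · rw [hdimg η, ← dim_preimage_eq hpb (closure (Set.range fun i => a i (t η))) isClosed_closure η]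
    refine (Topology.IsEmbedding.inclusion ?_).isInducing.topologicalKrullDim_le
    intro x hx
    refine ⟨hx.1, ?_⟩
    have h0 : closure (Set.range fun i => b i η) ⊆
        p ⁻¹' closure (Set.range fun i => a i (t η)) := by
      refine closure_minimal ?_ (isClosed_closure.preimage p.continuous)
      rintro _ ⟨i, rfl⟩
      show p (b i η) ∈ closure _
      rw [← Scheme.Hom.comp_apply, hb1, Scheme.Hom.comp_apply]
      exact subset_closure ⟨i, rfl⟩
    exact h0 hx.2

/-- Let f : Y → S be a morphism of finite presentation, (a_i)_{i ∈ I} a family of sections of f, and s₀,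
s₁ two points of S with s₀ a specialization of s₁. For j = 0, 1 let C_j be the closure in the fibre
Y_{s_j} (with its subspace topology) of the set of points a_i(s_j). Then dim C₁ ≥ dim C₀
(topological Krull dimensions). -/
theorem result (S Y : Scheme.{u}) (f : Y ⟶ S) [QuasiCompact f] [QuasiSeparated f] [LocallyOfFinitePresentation f]
    (ι : Type u) (a : ι → (S ⟶ Y)) (ha : ∀ i, a i ≫ f = 𝟙 S) (s₀ s₁ : S) (h : s₁ ⤳ s₀) :
    topologicalKrullDim ↥(f.base ⁻¹' {s₀} ∩ closure (Set.range fun i => (a i).base s₀)) ≤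
      topologicalKrullDim ↥(f.base ⁻¹' {s₁} ∩ closure (Set.range fun i => (a i).base s₁)) := by
  show topologicalKrullDim ↥(f ⁻¹' {s₀} ∩ closure (Set.range fun i => a i s₀)) ≤
    topologicalKrullDim ↥(f ⁻¹' {s₁} ∩ closure (Set.range fun i => a i s₁))
  apply Groth.Agent.Lib.Helper3.FlatFibDim2.le_of_forall_natCast_le
  intro m hm
  obtain ⟨A, t, ht1, ht2⟩ :=
    Groth.Agent.Lib.Helper10.SubtrVal.exists_valuationRing_of_specializes h
  have hgen : t (⟨⊥, Ideal.isPrime_bot⟩ : Spec (CommRingCat.of ↥A)) = s₁ := by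
    let pt : Spec (CommRingCat.of (S.residueField s₁)) := ⟨⊥, Ideal.isPrime_bot⟩
    have h1 : Spec.map (CommRingCat.ofHom A.subtype) pt =
        (⟨⊥, Ideal.isPrime_bot⟩ : Spec (CommRingCat.of ↥A)) := by
      apply PrimeSpectrum.ext
      show Ideal.comap A.subtype ⊥ = ⊥
      rw [← RingHom.ker_eq_comap_bot]
      exact (RingHom.injective_iff_ker_eq_bot _).mp Subtype.val_injective
    rw [← h1]
    show (Spec.map (CommRingCat.ofHom A.subtype) ≫ t) pt = s₁
    rw [ht2]
    exact Scheme.fromSpecResidueField_apply _ _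
  obtain ⟨Z, g, hg1, hg2, hc, hη⟩ := exists_flat_model f a ha t (pullback.fst f t)
    (pullback.snd f t) (IsPullback.of_hasPullback f t) (IsLocalRing.closedPoint ↥A)
  rw [ht1] at hc
  rw [hgen] at hη
  have h2 := Groth.Agent.Lib.Helper3.FlatFibDim2.le_dim_generic_of_le_dim_special' ↥A g m
    (hm.trans hc)
  exact h2.trans hη

end Groth.Agent.S5444
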