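import Groth.Statements.S5447
import Groth.Agent.Lib.Helper8Root9

set_option autoImplicit false
open RootD

namespace Groth.Agent.S5447

lemma single_supp' {ι : Type*} {Δ : Set ι} {a : ι} (ha : a ∈ Δ) :
    ((Finsupp.single a (1 : ℤ)).support : Set ι) ⊆ Δ := by
  intro x hx
  have hx' := Finsupp.support_single_subset (Finset.mem_coe.mp hx)
  rw [Finset.mem_singleton] at hx'
  exact hx' ▸ ha

open Groth.Agent.Lib.Helper8 in
lemma lc_mem_natSpan {ι M N : Type*} [AddCommGroup M] [AddCommGroup N]
    (P : RootPairing ι ℤ M N) {Δ : Set ι} {c : ι →₀ ℤ} (hc : ↑c.support ⊆ Δ)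
    (hnn : ∀ j, 0 ≤ c j) : Finsupp.linearCombination ℤ P.root c ∈ natSpan P Δ := by
  rw [Finsupp.linearCombination_apply, Finsupp.sum]
  refine AddSubmonoid.sum_mem _ fun j hj => ?_
  exact zsmul_root_mem_natSpan P (hc hj) (hnn j)

open Groth.Agent.Lib.Helper8 in
lemma finsupp_of_mem_natSpan {ι M N : Type*} [AddCommGroup M] [AddCommGroup N]
    (P : RootPairing ι ℤ M N) {Δ : Set ι} {x : M} (hx : x ∈ natSpan P Δ) :
    ∃ c : ι →₀ ℤ, ↑c.support ⊆ Δ ∧ (∀ j, 0 ≤ c j) ∧ Finsupp.linearCombination ℤ P.root c = x := by
  classical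
  induction hx using AddSubmonoid.closure_induction with
  | mem x hx =>
    obtain ⟨i, hi, rfl⟩ := hx
    refine ⟨Finsupp.single i 1, single_supp' hi, fun j => ?_, by simp⟩
    · rw [Finsupp.single_apply]; split_ifs <;> norm_num
  | zero => exact ⟨0, by simp, fun j => le_refl _, by simp⟩
  | add x y _ _ hx hy =>
    obtain ⟨c, hc1, hc2, rfl⟩ := hx
    obtain ⟨c', hc1', hc2', rfl⟩ := hy
    refine ⟨c + c', ?_, fun j => by rw [Finsupp.add_apply]; exact add_nonneg (hc2 j) (hc2' j),
      map_add _ _ _⟩
    intro y hy
    rcases Finset.mem_union.mp (Finsupp.support_add hy) with hy | hy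
    · exact hc1 hy
    · exact hc1' hy

/-- If every root can be written in exactly one way as an integer combination of the roots indexed by Δ
with coefficients all of the same sign, then these roots are linearly independent (so Δ is a system
of simple roots) and indivisible. -/
theorem result {ι M N : Type*} [AddCommGroup M] [AddCommGroup N]
    (P : RootPairing ι ℤ M N) [Finite ι] (Δ : Set ι)
    (h : ∀ k : ι, ∃! c : ι →₀ ℤ, (↑c.support ⊆ Δ ∧ ((∀ j, 0 ≤ c j) ∨ (∀ j, c j ≤ 0)) ∧
      Finsupp.linearCombination ℤ P.root c = P.root k)) :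
    RootD.IsSimpleSys P Δ ∧ ∀ i ∈ Δ, RootD.IsIndiv P i := by
  open Groth.Agent.Lib.Helper8 in
  classical
  -- no non-trivial non-negative relation
  have hrel : ∀ c : ι →₀ ℤ, ↑c.support ⊆ Δ → (∀ j, 0 ≤ c j) →
      Finsupp.linearCombination ℤ P.root c = 0 → c = 0 := by
    intro c hc hnn h0
    by_contra hne
    obtain ⟨i, hi⟩ : ∃ i, i ∈ c.support := by
      by_contra hcon
      push Not at hcon
      exact hne (Finsupp.support_eq_empty.mp (Finset.eq_empty_of_forall_notMem hcon))
    have hiΔ : i ∈ Δ := hc hi
    obtain ⟨c₀, _, huniq⟩ := h i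
    have e1 : Finsupp.single i (1 : ℤ) = c₀ := huniq _ ⟨single_supp' hiΔ, Or.inl (fun j => by
        rw [Finsupp.single_apply]; split_ifs <;> norm_num), by simp⟩
    have e2 : Finsupp.single i (1 : ℤ) + c = c₀ := huniq _ ⟨by
        intro x hx
        rcases Finset.mem_union.mp (Finsupp.support_add hx) with hx | hx
        · exact single_supp' hiΔ hx
        · exact hc hx, Or.inl (fun j => by
        rw [Finsupp.add_apply, Finsupp.single_apply]
        have := hnn j
        split_ifs <;> linarith), by rw [map_add, h0]; simp⟩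
    have : c = 0 := by
      have := e1.trans e2.symm
      simpa using this
    exact hne this
  -- pointedness
  have hpointed : ∀ x : M, x ∈ natSpan P Δ → -x ∈ natSpan P Δ → x = 0 := by
    intro x hx hx'
    obtain ⟨c, hc1, hc2, hc3⟩ := finsupp_of_mem_natSpan P hx
    obtain ⟨c', hc1', hc2', hc3'⟩ := finsupp_of_mem_natSpan P hx'
    have h0 : c + c' = 0 := by
      refine hrel _ ?_ (fun j => by rw [Finsupp.add_apply]; exact add_nonneg (hc2 j) (hc2' j)) ?_
      · intro y hy
        rcases Finset.mem_union.mp (Finsupp.support_add hy) with hy | hy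
        · exact hc1 hy
        · exact hc1' hy
      · rw [map_add, hc3, hc3', add_neg_cancel]
    have hc0 : c = 0 := by
      ext j
      have h1 := congrArg (fun d => d j) h0
      simp only [Finsupp.add_apply, Finsupp.zero_apply] at h1
      have := hc2 j
      have := hc2' j
      simp only [Finsupp.zero_apply]
      linarith
    rw [← hc3, hc0, map_zero]
  -- pairings of distinct elements
  have hpair : ∀ i ∈ Δ, ∀ j ∈ Δ, i ≠ j → P.pairing i j ≤ 0 := by
    intro i hi j hj hij
    by_contra hpos
    rw [not_le] at hpos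
    obtain ⟨m, hm⟩ := sub_mem P hpos hij
    obtain ⟨c, ⟨hc1, hc2, hc3⟩, _⟩ := h m
    have single_supp : ∀ a ∈ Δ, ((Finsupp.single a (1 : ℤ)).support : Set ι) ⊆ Δ :=
      fun a ha => single_supp' ha
    rcases hc2 with hnn | hnp
    · obtain ⟨c₀, _, huniq⟩ := h i
      have e1 : Finsupp.single i (1 : ℤ) = c₀ := huniq _ ⟨single_supp i hi, Or.inl (fun j => by
        rw [Finsupp.single_apply]; split_ifs <;> norm_num), by simp⟩
      have e2 : Finsupp.single j (1 : ℤ) + c = c₀ := huniq _ ⟨by
        intro x hx
        rcases Finset.mem_union.mp (Finsupp.support_add hx) with hx | hx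
        · exact single_supp j hj hx
        · exact hc1 hx, Or.inl (fun l => by
        rw [Finsupp.add_apply, Finsupp.single_apply]
        have := hnn l
        split_ifs <;> linarith), by rw [map_add, hc3, hm]; simp⟩
      have h3 := congrArg (fun d => d j) (e1.trans e2.symm)
      simp only [Finsupp.add_apply, Finsupp.single_apply, if_neg hij, if_true] at h3
      have := hnn j
      linarith
    · obtain ⟨c₀, _, huniq⟩ := h j
      have e1 : Finsupp.single j (1 : ℤ) = c₀ := huniq _ ⟨single_supp j hj, Or.inl (fun j => by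
        rw [Finsupp.single_apply]; split_ifs <;> norm_num), by simp⟩
      have e2 : Finsupp.single i (1 : ℤ) - c = c₀ := huniq _ ⟨by
        intro x hx
        rcases Finset.mem_union.mp (Finsupp.support_sub hx) with hx | hx
        · exact single_supp i hi hx
        · exact hc1 hx, Or.inl (fun l => by
        rw [Finsupp.sub_apply, Finsupp.single_apply]
        have := hnp l
        split_ifs <;> linarith), by rw [map_sub, hc3, hm]; simp⟩
      have h3 := congrArg (fun d => d i) (e1.trans e2.symm)
      simp only [Finsupp.sub_apply, Finsupp.single_apply, if_neg (Ne.symm hij), if_true] at h3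
      have := hnp i
      linarith
  have hsimple : IsSimpleSys P Δ := by
    refine ⟨linInd_of_pointed P hpointed hpair, fun k => ?_⟩
    obtain ⟨c, ⟨hc1, hc2, hc3⟩, _⟩ := h k
    rcases hc2 with hnn | hnp
    · left
      rw [← hc3]
      exact lc_mem_natSpan P hc1 hnn
    · right
      rw [← hc3, ← map_neg]
      refine lc_mem_natSpan P ?_ (fun j => by simpa using hnp j)
      rw [Finsupp.support_neg]
      exact hc1
  exact ⟨hsimple, fun i hi => simple_indiv hsimple hi⟩

end Groth.Agent.S5447
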