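import Groth.Statements.S5448
import Groth.Agent.Lib.Helper8Root

set_option autoImplicit false
open RootD

namespace Groth.Agent.S5448

/-- The elements of a system of simple roots (root-only sense) are indivisible, i.e. none of them is
twice a root. -/
theorem result {ι M N : Type*} [AddCommGroup M] [AddCommGroup N]
    (P : RootPairing ι ℤ M N) [Finite ι] (Δ : Set ι) (hΔ : RootD.IsSimpleSys P Δ)
    (i : ι) (hi : i ∈ Δ) : RootD.IsIndiv P i := by
  open Groth.Agent.Lib.Helper8 in
  intro j hj
  obtain ⟨φ, h1, _, h3⟩ := simple_exists_coord hΔ hi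
  have hφj : φ (P.root j) = 1 / 2 := by
    have := congrArg φ hj
    rw [h1, map_zsmul] at this
    have h' : (2 : ℤ) • φ (P.root j) = 2 * φ (P.root j) := by simp
    rw [h'] at this
    linarith
  rcases hΔ.mem_or_neg_mem j with h | h
  · obtain ⟨n, hn⟩ := h3 _ h
    rw [hφj] at hn
    have h2 : (2 : ℚ) * n = 1 := by linarith
    have h3 : (2 * n : ℕ) = 1 := by exact_mod_cast h2
    omega
  · obtain ⟨n, hn⟩ := h3 _ h
    rw [map_neg, hφj] at hn
    have : (0 : ℚ) ≤ n := Nat.cast_nonneg n
    linarith

end Groth.Agent.S5448
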