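import Groth.Statements.S5451
import Groth.Agent.Lib.Helper8Root3

set_option autoImplicit false
open RootD

namespace Groth.Agent.S5451

open Groth.Agent.Lib.Helper8 in
lemma chain_of_reach {ι M N : Type*} [AddCommGroup M] [AddCommGroup N]
    (P : RootPairing ι ℤ M N) {n : ℕ} (a : Fin n → ι) {k : ι}
    (h : Reach P (Set.range a) k) :
    ∃ (l : ℕ) (b : Fin l → Fin n), 0 < l ∧
      (∀ p : Fin l, ∃ j : ι, P.root j =
        ∑ q : Fin l, if q.val ≤ p.val then P.root (a (b q)) else 0) ∧
      P.root k = ∑ q, P.root (a (b q)) := by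
  induction h with
  | base hi =>
    obtain ⟨t, rfl⟩ := hi
    refine ⟨1, fun _ => t, one_pos, fun p => ⟨a t, ?_⟩, by simp⟩
    simp
  | @step j i k _ hi hk ih =>
    obtain ⟨t, rfl⟩ := hi
    obtain ⟨l, b, _, hpart, hsum⟩ := ih
    refine ⟨l + 1, Fin.snoc b t, Nat.succ_pos l, fun p => ?_, ?_⟩
    · refine Fin.lastCases ?_ (fun p' => ?_) p
      · refine ⟨k, ?_⟩
        rw [hk, hsum, Fin.sum_univ_castSucc]
        simp [Nat.le_of_lt (Fin.is_lt _)]
      · obtain ⟨j', hj'⟩ := hpart p'
        refine ⟨j', ?_⟩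
        rw [hj', Fin.sum_univ_castSucc]
        simp
    · rw [hk, hsum, Fin.sum_univ_castSucc]
      simp

/-- If a root is a positive integer combination of roots α_i, then it can be reached from 0 by
successively adding roots taken among the α_i in such a way that every partial sum is a root. -/
theorem result {ι M N : Type*} [AddCommGroup M] [AddCommGroup N]
    (P : RootPairing ι ℤ M N) [Finite ι] {n : ℕ} (a : Fin n → ι) (m : Fin n → ℕ)
    (hm : ∀ i, 0 < m i) (k : ι) (hk : P.root k = ∑ i, m i • P.root (a i)) :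
    ∃ (l : ℕ) (b : Fin l → Fin n), 0 < l ∧
      (∀ p : Fin l, ∃ j : ι, P.root j = ∑ q ∈ Finset.univ.filter (fun q : Fin l => q.val ≤ p.val), P.root (a (b q))) ∧
      P.root k = ∑ q, P.root (a (b q)) := by
  open Groth.Agent.Lib.Helper8 in
  have hmem : P.root k ∈ natSpan P (Set.range a) := by
    rw [hk]
    refine AddSubmonoid.sum_mem _ fun i _ => ?_
    exact AddSubmonoid.nsmul_mem _ (root_mem_natSpan P (Set.mem_range_self i)) _
  have hreach := reach_of_mem_natSpan P hmem
  obtain ⟨l, b, hl, hpart, hsum⟩ := chain_of_reach P a hreach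
  refine ⟨l, b, hl, fun p => ?_, hsum⟩
  obtain ⟨j, hj⟩ := hpart p
  exact ⟨j, by rw [hj, Finset.sum_filter]⟩

end Groth.Agent.S5451
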