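import Groth.Statements.S5455
import Groth.Agent.Lib.Helper8Root4
import Groth.Agent.S5454

set_option autoImplicit false
open RootPairing
open scoped Pointwise
open RootD

namespace Groth.Agent.S5455

/-- The Weyl group acts transitively on the set of systems of simple roots (root-only sense). -/
theorem result {ι M N : Type*} [AddCommGroup M] [AddCommGroup N]
    (P : RootPairing ι ℤ M N) [Finite ι] (Δ Δ' : Set ι) (hΔ : RootD.IsSimpleSys P Δ)
    (hΔ' : RootD.IsSimpleSys P Δ') :
    ∃ g : P.Aut, g ∈ P.weylGroup ∧ (fun i : ι => g • i) '' Δ = Δ' := by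
  open Groth.Agent.Lib.Helper8 in
  obtain ⟨g, hg, hgS⟩ := Groth.Agent.S5454.result P (posOf P Δ) (posOf P Δ')
    (simple_isPosSys_posOf hΔ) (simple_isPosSys_posOf hΔ')
  refine ⟨g, hg, ?_⟩
  have h1 : IsSimpleSys P ((fun i : ι => g • i) '' Δ) := simple_image g hΔ
  have h2 : (fun i : ι => g • i) '' Δ ⊆ posOf P Δ' := by
    rw [← hgS]
    exact Set.image_mono (subset_posOf P Δ)
  have h3 := simple_eq_posOf_of_subset h1 (simple_isPosSys_posOf hΔ') h2
  rw [← simple_simpleOf_posOf h1, ← h3, simple_simpleOf_posOf hΔ']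

end Groth.Agent.S5455
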