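import Groth.Statements.S5457
import Groth.Agent.Lib.Helper8Root

set_option autoImplicit false
open RootD

namespace Groth.Agent.S5457

/-- Given a translation-invariant partial order (pulled back along an additive map to an ordered abelian
group) for which every root is > 0 or < 0, the roots > 0 form a system of positive roots. -/
theorem result {ι M N : Type*} [AddCommGroup M] [AddCommGroup N]
    (P : RootPairing ι ℤ M N) [Finite ι] {G : Type*} [AddCommGroup G] [PartialOrder G]
    [IsOrderedAddMonoid G] (φ : M →+ G) (hφ : ∀ i : ι, 0 < φ (P.root i) ∨ φ (P.root i) < 0) :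
    RootD.IsPosSys P {i : ι | 0 < φ (P.root i)} := by
  open Groth.Agent.Lib.Helper8 in
  refine ⟨fun i hi hi' => ?_, fun i => ?_, fun k n hn hk => ?_⟩
  · have h1 : 0 < φ (P.root i) := hi
    have h2 : 0 < φ (P.root (P.reflectionPerm i i)) := hi'
    rw [root_neg, map_neg] at h2
    have := add_pos h1 h2
    simp at this
  · rcases hφ i with h | h
    · exact Or.inl h
    · right
      show 0 < φ (P.root (P.reflectionPerm i i))
      rw [root_neg, map_neg]
      exact neg_pos.mpr h
  · have h1 : 0 ≤ φ (n • P.root k) :=
      nonneg_of_mem_natSpan P φ (fun i hi => le_of_lt hi) hk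
    rw [map_nsmul] at h1
    rcases hφ k with h | h
    · exact h
    · exfalso
      have : n • φ (P.root k) < 0 := by
        have := nsmul_pos (neg_pos.mpr h) hn.ne'
        rw [smul_neg] at this
        exact neg_pos.mp this
      exact absurd h1 (not_le_of_gt this)

end Groth.Agent.S5457
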