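import Groth.Statements.S5458
import Groth.Agent.Lib.Helper8Root6

set_option autoImplicit false
open RootD

namespace Groth.Agent.S5458

open Groth.Agent.Lib.Helper8 in
lemma reach_mem_natSpan {ι M N : Type*} [AddCommGroup M] [AddCommGroup N]
    (P : RootPairing ι ℤ M N) {S : Set ι} {k : ι} (h : Reach P S k) :
    P.root k ∈ natSpan P S := by
  induction h with
  | base hi => exact root_mem_natSpan P hi
  | step _ hi hk ih => rw [hk]; exact AddSubmonoid.add_mem _ ih (root_mem_natSpan P hi)

open Groth.Agent.Lib.Helper8 in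
lemma key {ι M N : Type*} [AddCommGroup M] [AddCommGroup N]
    (P : RootPairing ι ℤ M N) (S Δ : Set ι) (hSeq : S = posOf P Δ)
    (P' : Set ι) (hcl : RootD.IsClosedSub P P') (hSP : S ⊆ P') {β : ι}
    (h : Reach P Δ β) (hβ : P.reflectionPerm β β ∈ P') :
    P.root β ∈ natSpan P {i : ι | i ∈ Δ ∧ P.reflectionPerm i i ∈ P'} := by
  induction h with
  | base hi => exact root_mem_natSpan P ⟨hi, hβ⟩
  | @step j i k hj hi hk ih =>
    have hjP : j ∈ P' := hSP (hSeq ▸ reach_mem_natSpan P hj)
    have hiP : i ∈ P' := hSP (hSeq ▸ subset_posOf P Δ hi)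
    have hnegi : P.reflectionPerm i i ∈ P' := by
      refine hcl hβ hjP ?_
      rw [root_neg, root_neg, hk]; abel
    have hnegj : P.reflectionPerm j j ∈ P' := by
      refine hcl hβ hiP ?_
      rw [root_neg, root_neg, hk]; abel
    rw [hk]
    exact AddSubmonoid.add_mem _ (ih hnegj) (root_mem_natSpan P ⟨hi, hnegi⟩)

/-- Let S be a system of positive roots with simple system Δ ⊆ S and let P' ⊇ S be a closed set of
roots; with Δ' the set of simple roots whose opposite lies in P', the set P' is the union of S and
of the roots that are non-positive integer combinations of Δ'. -/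
theorem result {ι M N : Type*} [AddCommGroup M] [AddCommGroup N]
    (P : RootPairing ι ℤ M N) [Finite ι] (S : Set ι) (hS : RootD.IsPosSys P S) (Δ : Set ι)
    (hΔ : RootD.IsSimpleSys P Δ) (hΔS : Δ ⊆ S) (P' : Set ι) (hcl : RootD.IsClosedSub P P')
    (hSP : S ⊆ P') :
    P' = S ∪ {k : ι | -P.root k ∈ RootD.natSpan P {i : ι | i ∈ Δ ∧ P.reflectionPerm i i ∈ P'}} := by
  open Groth.Agent.Lib.Helper8 in
  have hSeq : S = posOf P Δ := simple_eq_posOf_of_subset hΔ hS hΔS
  apply Set.Subset.antisymm
  · intro k hk
    by_cases hkS : k ∈ S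
    · exact Or.inl hkS
    · right
      have hneg : P.reflectionPerm k k ∈ posOf P Δ := hSeq ▸ pos_neg_mem_of_notMem hS hkS
      have hreach := reach_of_mem_natSpan P hneg
      have := key P S Δ hSeq P' hcl hSP hreach (by rw [neg_neg_idx]; exact hk)
      rw [root_neg] at this
      exact this
  · rintro k (hk | hk)
    · exact hSP hk
    · have h1 : ∀ x : M, x ∈ natSpan P {i : ι | i ∈ Δ ∧ P.reflectionPerm i i ∈ P'} →
          -x ∈ natSpan P P' := by
        intro x hx
        induction hx using AddSubmonoid.closure_induction with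
        | mem x hx =>
          obtain ⟨i, hi, rfl⟩ := hx
          rw [← root_neg]
          exact root_mem_natSpan P hi.2
        | zero => rw [neg_zero]; exact AddSubmonoid.zero_mem _
        | add x y _ _ hx hy => rw [neg_add]; exact AddSubmonoid.add_mem _ hx hy
      have h2 := h1 _ hk
      rw [neg_neg] at h2
      exact mem_of_closed_of_mem_natSpan P hcl h2

end Groth.Agent.S5458
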