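import Groth.Statements.S5459
import Groth.Agent.Lib.Helper8Root7
import Groth.Agent.S5458
import Groth.Agent.S5453

set_option autoImplicit false
open RootD

namespace Groth.Agent.S5459

/-- A closed set of roots containing each root or its opposite is, for a suitable system of simple roots
Δ and a subset Δ' ⊆ Δ, the set of roots lying in ℕΔ ∪ (-ℕΔ'). -/
theorem result {ι M N : Type*} [AddCommGroup M] [AddCommGroup N]
    (P : RootPairing ι ℤ M N) [Finite ι] (P' : Set ι)
    (hP2 : ∀ i : ι, i ∈ P' ∨ P.reflectionPerm i i ∈ P') (hcl : RootD.IsClosedSub P P') :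
    ∃ Δ Δ' : Set ι, RootD.IsSimpleSys P Δ ∧ Δ' ⊆ Δ ∧
      P' = RootD.posOf P Δ ∪ {k : ι | -P.root k ∈ RootD.natSpan P Δ'} := by
  open Groth.Agent.Lib.Helper8 in
  obtain ⟨S₀, hS₀⟩ := exists_isPosSys P
  obtain ⟨g, _, hgS⟩ := Groth.Agent.S5453.result P S₀ hS₀ P' hP2 hcl
  have hS : IsPosSys P ((fun i : ι => g • i) '' S₀) := pos_image g hS₀
  have hW := pos_weakPos hS
  have hΔ := weakPos_isSimpleSys hW
  have hSeq := weakPos_eq_posOf hW
  refine ⟨simpleOf P ((fun i : ι => g • i) '' S₀),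
    {i : ι | i ∈ simpleOf P ((fun i : ι => g • i) '' S₀) ∧ P.reflectionPerm i i ∈ P'},
    hΔ, fun i hi => hi.1, ?_⟩
  have := Groth.Agent.S5458.result P _ hS _ hΔ (simpleOf_subset _) P' hcl hgS
  rw [← hSeq]
  exact this

end Groth.Agent.S5459
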