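import Groth.Statements.S5460
import Groth.Agent.Lib.Helper8Root16

set_option autoImplicit false
open RootD

namespace Groth.Agent.S5460

/-- A set of roots R' is the trace on R of a vector subspace (every root with a positive multiple in the
span of R' lies in R') if and only if R' is the set of roots in the span of a subset Δ' of some
system of simple roots Δ. -/
theorem result {ι M N : Type*} [AddCommGroup M] [AddCommGroup N]
    (P : RootPairing ι ℤ M N) [Finite ι] (R' : Set ι) :
    (∀ k : ι, (∃ n : ℕ, 0 < n ∧ n • P.root k ∈ Submodule.span ℤ (P.root '' R')) → k ∈ R') ↔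
      ∃ Δ Δ' : Set ι, RootD.IsSimpleSys P Δ ∧ Δ' ⊆ Δ ∧ R' = RootD.inSpan P Δ' := by
  open Groth.Agent.Lib.Helper8 in
  classical
  constructor
  · intro hsat
    obtain ⟨ψ, hψ0, hψ1⟩ := exists_sep_family P R' hsat
    set Ψ := famHom ψ with hΨ
    have hΨR : ∀ k ∈ R', Ψ (P.root k) = 0 := fun k hk =>
      (famHom_eq_zero_iff ψ _).mpr fun j => hψ0 j _ (Submodule.subset_span ⟨k, hk, rfl⟩)
    have hΨR' : ∀ k, Ψ (P.root k) = 0 → k ∈ R' := by
      intro k hk
      by_contra hkR
      exact hψ1 k hkR ((famHom_eq_zero_iff ψ _).mp hk k)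
    have hne : ∀ k : ι, Ψ (P.root k) = 0 → lexHom P (P.root k) ≠ 0 :=
      fun k _ => lexHom_root_ne_zero P k
    have hS := lexPos_isPosSys Ψ (lexHom P) hne
    have hW := pos_weakPos hS
    have hΔ := weakPos_isSimpleSys hW
    set Δ := simpleOf P (lexPos P Ψ (lexHom P)) with hΔdef
    have hΔpos : ∀ b ∈ Δ, 0 ≤ Ψ (P.root b) := by
      intro b hb
      rcases hb.1 with h | ⟨h, _⟩
      · exact h.le
      · exact h.ge
    refine ⟨Δ, {b | b ∈ Δ ∧ Ψ (P.root b) = 0}, hΔ, fun b hb => hb.1, ?_⟩
    ext k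
    constructor
    · intro hk
      show P.root k ∈ Submodule.span ℤ (P.root '' {b | b ∈ Δ ∧ Ψ (P.root b) = 0})
      rcases hΔ.mem_or_neg_mem k with h | h
      · exact natSpan_le_span P _ ((face Ψ hΔpos h).2 (hΨR k hk))
      · have h0 : Ψ (-P.root k) = 0 := by rw [map_neg, hΨR k hk, neg_zero]
        have := natSpan_le_span P _ ((face Ψ hΔpos h).2 h0)
        simpa using Submodule.neg_mem _ this
    · intro hk
      apply hsat k
      refine ⟨1, one_pos, ?_⟩
      rw [one_smul]
      refine Submodule.span_mono ?_ hk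
      rintro _ ⟨b, hb, rfl⟩
      exact ⟨b, hΨR' b hb.2, rfl⟩
  · rintro ⟨Δ, Δ', hΔ, hsub, rfl⟩ k ⟨n, hn, hmem⟩
    show P.root k ∈ Submodule.span ℤ (P.root '' Δ')
    -- the functional vanishing exactly on `Δ'` among `Δ`
    obtain ⟨θ, hθ⟩ := exists_functional P hΔ.linInd fun a => if a ∈ Δ' then 0 else 1
    have hθΔ' : ∀ a ∈ Δ', θ (P.root a) = 0 := fun a ha => by
      rw [hθ a (hsub ha)]; simp [ha]
    have hθnn : ∀ b ∈ Δ, 0 ≤ θ (P.root b) := by
      intro b hb
      rw [hθ b hb]
      split_ifs <;> norm_num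
    have hθspan : ∀ y ∈ Submodule.span ℤ (P.root '' Δ'), θ y = 0 := by
      intro y hy
      induction hy using Submodule.span_induction with
      | mem y hy => obtain ⟨a, ha, rfl⟩ := hy; exact hθΔ' a ha
      | zero => simp
      | add x y _ _ hx hy => rw [map_add, hx, hy, add_zero]
      | smul c x _ hx => rw [map_zsmul, hx, smul_zero]
    have hle : Submodule.span ℤ (P.root '' inSpan P Δ') ≤ Submodule.span ℤ (P.root '' Δ') := by
      rw [Submodule.span_le]
      rintro _ ⟨j, hj, rfl⟩
      exact hj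
    have hθk : θ (P.root k) = 0 := by
      have := hθspan _ (hle hmem)
      rw [map_nsmul, nsmul_eq_mul] at this
      have hn' : (n : ℚ) ≠ 0 := by exact_mod_cast hn.ne'
      exact (mul_eq_zero.mp this).resolve_left hn'
    have hface : ∀ x ∈ natSpan P Δ, θ x = 0 → x ∈ Submodule.span ℤ (P.root '' Δ') := by
      intro x hx h0
      have h1 := (face θ hθnn hx).2 h0
      have h2 := natSpan_le_span P _ h1
      refine Submodule.span_mono ?_ h2
      rintro _ ⟨b, ⟨hb, hb0⟩, rfl⟩
      refine ⟨b, ?_, rfl⟩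
      by_contra hbΔ'
      rw [hθ b hb] at hb0
      simp [hbΔ'] at hb0
    rcases hΔ.mem_or_neg_mem k with h | h
    · exact hface _ h hθk
    · have := hface _ h (by rw [map_neg, hθk, neg_zero])
      simpa using Submodule.neg_mem _ this

end Groth.Agent.S5460
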