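import Groth.Statements.S5461
import Groth.Agent.Lib.Helper8Root16

set_option autoImplicit false
open RootD

namespace Groth.Agent.S5461

/-- If R' is the trace of a vector subspace on the roots, every system of simple roots Δ' of the root
datum with roots R' is contained in a system of simple roots Δ of the whole datum, and R' is the set
of roots in the span of Δ'. -/
theorem result {ι M N : Type*} [AddCommGroup M] [AddCommGroup N]
    (P : RootPairing ι ℤ M N) [Finite ι] (R' : Set ι)
    (hsat : ∀ k : ι, (∃ n : ℕ, 0 < n ∧ n • P.root k ∈ Submodule.span ℤ (P.root '' R')) → k ∈ R')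
    (Δ' : Set ι) (hΔ'R : Δ' ⊆ R') (hli : LinearIndepOn ℤ P.root Δ')
    (hgen : ∀ k ∈ R', P.root k ∈ RootD.natSpan P Δ' ∨ -P.root k ∈ RootD.natSpan P Δ') :
    ∃ Δ : Set ι, RootD.IsSimpleSys P Δ ∧ Δ' ⊆ Δ ∧ R' = RootD.inSpan P Δ' := by
  open Groth.Agent.Lib.Helper8 in
  classical
  obtain ⟨ψ, hψ0, hψ1⟩ := exists_sep_family P R' hsat
  obtain ⟨χ, hχ⟩ := exists_height P hli
  have hχpos : ∀ a ∈ Δ', 0 < χ (P.root a) := fun a ha => by rw [hχ a ha]; exact one_pos
  have hχnat : ∀ x ∈ natSpan P Δ', ∃ n : ℕ, χ x = n :=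
    fun x hx => exists_nat_of_mem_natSpan P χ (fun a ha => ⟨1, by rw [hχ a ha]; simp⟩) hx
  set Ψ := famHom ψ with hΨ
  have hΨR : ∀ k ∈ R', Ψ (P.root k) = 0 := fun k hk =>
    (famHom_eq_zero_iff ψ _).mpr fun j => hψ0 j _ (Submodule.subset_span ⟨k, hk, rfl⟩)
  have hΨR' : ∀ k, Ψ (P.root k) = 0 → k ∈ R' := by
    intro k hk
    by_contra hkR
    exact hψ1 k hkR ((famHom_eq_zero_iff ψ _).mp hk k)
  have hne : ∀ k : ι, Ψ (P.root k) = 0 → χ (P.root k) ≠ 0 := by
    intro k hk
    rcases hgen k (hΨR' k hk) with h | h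
    · rcases eq_zero_or_pos_of_mem_natSpan P χ hχpos h with h0 | h0
      · exact absurd h0 (P.ne_zero k)
      · exact h0.ne'
    · rcases eq_zero_or_pos_of_mem_natSpan P χ hχpos h with h0 | h0
      · exact absurd (neg_eq_zero.mp h0) (P.ne_zero k)
      · rw [map_neg] at h0
        exact (neg_pos.mp h0).ne
  have hS := lexPos_isPosSys Ψ χ hne
  have hW := pos_weakPos hS
  have hΔ := weakPos_isSimpleSys hW
  -- positive roots of `R'` are non-negative combinations of `Δ'`
  have hposR : ∀ i ∈ lexPos P Ψ χ, Ψ (P.root i) = 0 →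
      P.root i ∈ natSpan P Δ' ∧ 1 ≤ χ (P.root i) := by
    intro i hi hi0
    have hχi : 0 < χ (P.root i) := by
      rcases hi with h | ⟨_, h⟩
      · exact absurd hi0 h.ne'
      · exact h
    have hmem : P.root i ∈ natSpan P Δ' := by
      rcases hgen i (hΨR' i hi0) with h | h
      · exact h
      · exfalso
        obtain ⟨n, hn⟩ := hχnat _ h
        rw [map_neg] at hn
        have : (0 : ℚ) ≤ n := Nat.cast_nonneg n
        linarith
    refine ⟨hmem, ?_⟩
    obtain ⟨n, hn⟩ := hχnat _ hmem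
    rw [hn] at hχi ⊢
    have : 0 < n := by exact_mod_cast hχi
    exact_mod_cast this
  refine ⟨simpleOf P (lexPos P Ψ χ), hΔ, ?_, ?_⟩
  · intro a ha
    have haR := hΔ'R ha
    refine ⟨Or.inr ⟨hΨR a haR, hχpos a ha⟩, ?_⟩
    intro i hi j hj hsum
    have hi0 : 0 ≤ Ψ (P.root i) := by
      rcases hi with h | ⟨h, _⟩
      · exact h.le
      · exact h.ge
    have hj0 : 0 ≤ Ψ (P.root j) := by
      rcases hj with h | ⟨h, _⟩
      · exact h.le
      · exact h.ge
    have h0 : Ψ (P.root i) + Ψ (P.root j) = 0 := by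
      rw [← map_add, ← hsum]; exact hΨR a haR
    have h00 := (add_eq_zero_iff_of_nonneg hi0 hj0).mp h0
    have h1 := (hposR i hi h00.1).2
    have h2 := (hposR j hj h00.2).2
    have h3 : χ (P.root a) = χ (P.root i) + χ (P.root j) := by rw [hsum, map_add]
    rw [hχ a ha] at h3
    linarith
  · ext k
    constructor
    · intro hk
      show P.root k ∈ Submodule.span ℤ (P.root '' Δ')
      rcases hgen k hk with h | h
      · exact natSpan_le_span P Δ' h
      · have := natSpan_le_span P Δ' h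
        simpa using Submodule.neg_mem _ this
    · intro hk
      apply hsat k
      refine ⟨1, one_pos, ?_⟩
      rw [one_smul]
      exact Submodule.span_mono (Set.image_mono hΔ'R) hk

end Groth.Agent.S5461
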