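import Groth.Statements.S5462
import Groth.Agent.Lib.Helper8Root6

set_option autoImplicit false
open RootPairing
open scoped Pointwise
open RootD

namespace Groth.Agent.S5462

/-- For Δ' contained in a system of simple roots Δ, the subgroup of the Weyl group generated by the
reflections in Δ' preserves the set of positive roots not lying in the span of Δ'. -/
theorem result {ι M N : Type*} [AddCommGroup M] [AddCommGroup N]
    (P : RootPairing ι ℤ M N) [Finite ι] (Δ Δ' : Set ι) (hΔ : RootD.IsSimpleSys P Δ) (hsub : Δ' ⊆ Δ)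
    (g : P.Aut) (hg : g ∈ Subgroup.closure ((fun i : ι => Equiv.reflection P i) '' Δ'))
    (k : ι) (hk : k ∈ RootD.posOf P Δ) (hk' : k ∉ RootD.inSpan P Δ') :
    g • k ∈ RootD.posOf P Δ ∧ g • k ∉ RootD.inSpan P Δ' := by
  open Groth.Agent.Lib.Helper8 in
  have hgen : ∀ i ∈ Δ', ∀ k : ι, k ∈ posOf P Δ → k ∉ inSpan P Δ' →
      RootPairing.Equiv.reflection P i • k ∈ posOf P Δ ∧
        RootPairing.Equiv.reflection P i • k ∉ inSpan P Δ' := by
    intro i hi k hk hk'
    have hiS : P.root i ∈ Submodule.span ℤ (P.root '' Δ') :=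
      Submodule.subset_span ⟨i, hi, rfl⟩
    have hnot : ∀ n : ℕ, P.root k ≠ n • P.root i := by
      intro n h
      apply hk'
      show P.root k ∈ Submodule.span ℤ (P.root '' Δ')
      rw [h]
      exact Submodule.smul_of_tower_mem _ n hiS
    refine ⟨simple_reflection_pos hΔ hk (hsub hi) hnot, fun hmem => hk' ?_⟩
    have h1 : P.root (P.reflectionPerm i k) ∈ Submodule.span ℤ (P.root '' Δ') := hmem
    rw [RootPairing.root_reflectionPerm, RootPairing.reflection_apply_root] at h1
    have h2 := Submodule.add_mem _ h1 (Submodule.smul_mem _ (P.pairing k i) hiS)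
    rw [sub_add_cancel] at h2
    exact h2
  revert k
  induction hg using Subgroup.closure_induction'' with
  | mem x hx =>
    obtain ⟨i, hi, rfl⟩ := hx
    intro k hk hk'
    exact hgen i hi k hk hk'
  | inv_mem x hx =>
    obtain ⟨i, hi, rfl⟩ := hx
    intro k hk hk'
    rw [RootPairing.Equiv.reflection_inv]
    exact hgen i hi k hk hk'
  | one =>
    intro k hk hk'
    rw [one_smul]
    exact ⟨hk, hk'⟩
  | mul x y _ _ ihx ihy =>
    intro k hk hk'
    rw [mul_smul]
    obtain ⟨h1, h2⟩ := ihy k hk hk'
    exact ihx _ h1 h2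

end Groth.Agent.S5462
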