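import Groth.Statements.S5463
import Groth.Agent.Lib.Helper8Root9

set_option autoImplicit false
open RootPairing
open scoped Pointwise
open RootD

namespace Groth.Agent.S5463

open Groth.Agent.Lib.Helper8

variable {ι M N : Type*} [AddCommGroup M] [AddCommGroup N] {P : RootPairing ι ℤ M N}

lemma refl_root_sub (a k : ι) :
    P.root (RootPairing.Equiv.reflection P a • k) - P.root k = -(P.pairing k a) • P.root a := by
  rw [refl_smul, RootPairing.root_reflectionPerm, RootPairing.reflection_apply_root]
  simp [neg_smul]

lemma forward {Δ' : Set ι} {g : P.Aut}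
    (hg : g ∈ Subgroup.closure ((fun i : ι => RootPairing.Equiv.reflection P i) '' Δ')) :
    ∀ k : ι, P.root (g • k) - P.root k ∈ Submodule.span ℤ (P.root '' Δ') := by
  induction hg using Subgroup.closure_induction with
  | mem x hx =>
    obtain ⟨a, ha, rfl⟩ := hx
    intro k
    rw [refl_root_sub]
    exact Submodule.smul_mem _ _ (Submodule.subset_span ⟨a, ha, rfl⟩)
  | one => intro k; simp
  | mul x y _ _ hx hy =>
    intro k
    have : P.root ((x * y) • k) - P.root k =
        (P.root (x • (y • k)) - P.root (y • k)) + (P.root (y • k) - P.root k) := by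
      rw [mul_smul]; abel
    rw [this]
    exact Submodule.add_mem _ (hx _) (hy _)
  | inv x _ hx =>
    intro k
    have : P.root (x⁻¹ • k) - P.root k = -(P.root (x • (x⁻¹ • k)) - P.root (x⁻¹ • k)) := by
      rw [smul_inv_smul]; abel
    rw [this]
    exact Submodule.neg_mem _ (hx _)

lemma backward [Finite ι] {Δ Δ' : Set ι} (hΔ : IsSimpleSys P Δ) (hsub : Δ' ⊆ Δ) :
    ∀ (n : ℕ) (l : List ι), l.length ≤ n → (∀ a ∈ l, a ∈ Δ) →
      (∀ k : ι, ∃ m : ℕ, 0 < m ∧
        m • (P.root (word P l • k) - P.root k) ∈ Submodule.span ℤ (P.root '' Δ')) →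
      word P l ∈ Subgroup.closure ((fun i : ι => RootPairing.Equiv.reflection P i) '' Δ') := by
  classical
  intro n
  induction n with
  | zero =>
    intro l hl _ _
    have : l = [] := List.length_eq_zero_iff.mp (Nat.le_zero.mp hl)
    rw [this, word_nil]
    exact Subgroup.one_mem _
  | succ n ih =>
    intro l0 hl0 hl0Δ hyp0
    -- choose a minimal word for the same element
    have hex : ∃ m : ℕ, ∃ l : List ι, l.length = m ∧ (∀ a ∈ l, a ∈ Δ) ∧ word P l = word P l0 :=
      ⟨l0.length, l0, rfl, hl0Δ, rfl⟩
    obtain ⟨l, hlen, hl, hw⟩ := Nat.find_spec hex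
    have hlen_le : l.length ≤ n + 1 := by
      rw [hlen]
      exact (Nat.find_min' hex ⟨l0, rfl, hl0Δ, rfl⟩).trans hl0
    rw [← hw]
    have hyp : ∀ k : ι, ∃ m : ℕ, 0 < m ∧
        m • (P.root (word P l • k) - P.root k) ∈ Submodule.span ℤ (P.root '' Δ') := by
      rw [hw]; exact hyp0
    by_cases hne : l = []
    · rw [hne, word_nil]; exact Subgroup.one_mem _
    have hmin : ∀ l' : List ι, (∀ a ∈ l', a ∈ Δ) → word P l' = word P l →
        l.length ≤ l'.length := by
      intro l' hl' hw'
      rw [hlen]
      exact Nat.find_min' hex ⟨l', rfl, hl', hw'.trans hw⟩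
    have hnp := not_pos_of_minimal (simple_posData hΔ) l hl hne hmin
    set a := l.getLast hne with ha
    have haΔ : a ∈ Δ := hl a (List.getLast_mem hne)
    have hnotpos : word P l • a ∉ posOf P Δ := fun h =>
      hnp ⟨h, indiv_aut _ (simple_indiv hΔ haΔ)⟩
    -- the last letter is in Δ'
    have haΔ' : a ∈ Δ' := by
      by_contra hna
      obtain ⟨φ, h1, h2, h3⟩ := simple_exists_coord hΔ haΔ
      obtain ⟨m, hm, hmem⟩ := hyp a
      have hzero : ∀ x ∈ Submodule.span ℤ (P.root '' Δ'), φ x = 0 := by
        intro x hx
        induction hx using Submodule.span_induction with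
        | mem x hx =>
          obtain ⟨b, hb, rfl⟩ := hx
          exact h2 b (hsub hb) (fun h => hna (h ▸ hb))
        | zero => simp
        | add x y _ _ hx hy => rw [map_add, hx, hy, add_zero]
        | smul c x _ hx => rw [map_zsmul, hx, smul_zero]
      have h4 := hzero _ hmem
      rw [map_nsmul, map_sub, h1] at h4
      have h5 : φ (P.root (word P l • a)) = 1 := by
        have hm' : (m : ℚ) ≠ 0 := by exact_mod_cast hm.ne'
        have : (m : ℚ) * (φ (P.root (word P l • a)) - 1) = 0 := by
          rw [← nsmul_eq_mul]; exact h4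
        rcases mul_eq_zero.mp this with h | h
        · exact absurd h hm'
        · linarith
      have hneg : -P.root (word P l • a) ∈ natSpan P Δ := by
        rcases hΔ.mem_or_neg_mem (word P l • a) with h | h
        · exact absurd h hnotpos
        · exact h
      obtain ⟨c, hc⟩ := h3 _ hneg
      rw [map_neg, h5] at hc
      have : (0 : ℚ) ≤ (c : ℚ) := by positivity
      linarith
    -- split off the last letter
    have hsplit := List.dropLast_append_getLast hne
    have hwl : word P l = word P l.dropLast * RootPairing.Equiv.reflection P a := by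
      conv_lhs => rw [← hsplit]
      rw [word_append]
      simp [ha]
    have hlen2 : l.dropLast.length + 1 = l.length := by
      conv_rhs => rw [← hsplit]
      simp
    have hdl : ∀ x ∈ l.dropLast, x ∈ Δ := fun x hx => hl x (List.mem_of_mem_dropLast hx)
    have hwd : word P l.dropLast = word P l * RootPairing.Equiv.reflection P a := by
      rw [hwl, mul_assoc, refl_mul_self, mul_one]
    have hrec : word P l.dropLast ∈
        Subgroup.closure ((fun i : ι => RootPairing.Equiv.reflection P i) '' Δ') := by
      apply ih l.dropLast (by omega) hdl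
      intro k
      obtain ⟨m, hm, hmem⟩ := hyp (RootPairing.Equiv.reflection P a • k)
      refine ⟨m, hm, ?_⟩
      have : P.root (word P l.dropLast • k) - P.root k =
          (P.root (word P l • (RootPairing.Equiv.reflection P a • k)) -
            P.root (RootPairing.Equiv.reflection P a • k)) +
          (P.root (RootPairing.Equiv.reflection P a • k) - P.root k) := by
        rw [hwd, mul_smul]; abel
      rw [this, nsmul_add]
      refine Submodule.add_mem _ hmem (Submodule.smul_of_tower_mem _ m ?_)
      rw [refl_root_sub]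
      exact Submodule.smul_mem _ _ (Submodule.subset_span ⟨a, haΔ', rfl⟩)
    rw [hwl]
    exact Subgroup.mul_mem _ hrec (Subgroup.subset_closure ⟨a, haΔ', rfl⟩)

/-- An element w of the Weyl group belongs to the subgroup generated by the reflections in Δ' ⊆ Δ (Δ a
system of simple roots) if and only if w(α) - α lies in the rational span of Δ' for every root α. -/
theorem result {ι M N : Type*} [AddCommGroup M] [AddCommGroup N]
    (P : RootPairing ι ℤ M N) [Finite ι] (Δ Δ' : Set ι) (hΔ : RootD.IsSimpleSys P Δ)
    (hsub : Δ' ⊆ Δ) (g : P.Aut) (hg : g ∈ P.weylGroup) :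
    g ∈ Subgroup.closure ((fun i : ι => Equiv.reflection P i) '' Δ') ↔
      ∀ k : ι, ∃ n : ℕ, 0 < n ∧ n • (P.root (g • k) - P.root k) ∈ Submodule.span ℤ (P.root '' Δ') := by
  constructor
  · intro h k
    exact ⟨1, one_pos, by rw [one_smul]; exact forward h k⟩
  · intro h
    have hg' : g ∈ Groth.Agent.Lib.Helper8.reflSub P Δ := by
      rw [Groth.Agent.Lib.Helper8.reflSub_simple_eq_weylGroup hΔ]; exact hg
    obtain ⟨l, hl, hw⟩ := Groth.Agent.Lib.Helper8.exists_word_of_mem_closure hg'
    rw [← hw]
    exact backward hΔ hsub l.length l le_rfl hl (by rw [hw]; exact h)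

end Groth.Agent.S5463
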