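import Groth.Statements.S5464
import Groth.Agent.Lib.Helper8Root16
import Mathlib.Algebra.Order.Monoid.Prod

set_option autoImplicit false
open RootD

namespace Groth.Agent.S5464

open Groth.Agent.Lib.Helper8

variable {ι M N : Type*} [AddCommGroup M] [AddCommGroup N] {P : RootPairing ι ℤ M N}

/-- The two-step lexicographic functional. -/
noncomputable def lex2 (χ1 χ2 : M →+ ℚ) : M →+ ℚ ×ₗ ℚ where
  toFun x := toLex (χ1 x, χ2 x)
  map_zero' := by rw [map_zero, map_zero]; rfl
  map_add' x y := by rw [map_add, map_add]; rfl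

lemma lex2_pos_iff (χ1 χ2 : M →+ ℚ) (x : M) :
    0 < lex2 χ1 χ2 x ↔ 0 < χ1 x ∨ (χ1 x = 0 ∧ 0 < χ2 x) := by
  have : (0 : ℚ ×ₗ ℚ) = toLex (0, 0) := rfl
  show (0 : ℚ ×ₗ ℚ) < toLex (χ1 x, χ2 x) ↔ _
  rw [this, Prod.Lex.toLex_lt_toLex]
  simp only [eq_comm]

lemma lex2_eq_zero_iff (χ1 χ2 : M →+ ℚ) (x : M) :
    lex2 χ1 χ2 x = 0 ↔ χ1 x = 0 ∧ χ2 x = 0 := by
  have : (0 : ℚ ×ₗ ℚ) = toLex (0, 0) := rfl
  show toLex (χ1 x, χ2 x) = (0 : ℚ ×ₗ ℚ) ↔ _
  rw [this]
  simp

/-- A positive multiple of an indivisible root: the ratio is at least one. -/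
lemma ratio_ge_one {i a : ι} (hα : IsIndiv P i) {n x : ℕ} (hn : 0 < n) (hx : 0 < x)
    (h : n • P.root a = x • P.root i) : n ≤ x := by
  have htf := isAddTorsionFree P
  by_contra hlt
  rw [not_le] at hlt
  have h1 := congrArg (fun y => P.toLinearMap y (P.coroot i)) h
  simp only [map_nsmul, LinearMap.smul_apply, RootPairing.root_coroot_eq_pairing,
    RootPairing.pairing_same, nsmul_eq_mul] at h1
  -- n * p = 2 x with x < n forces p = 1
  have hp1 : P.pairing a i = 1 := by
    have hpos : 0 < P.pairing a i := by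
      by_contra hle
      rw [not_lt] at hle
      have : (n : ℤ) * P.pairing a i ≤ 0 := mul_nonpos_of_nonneg_of_nonpos (by positivity) hle
      have : (0 : ℤ) < x * 2 := by positivity
      omega
    by_contra hne
    have h2 : 2 ≤ P.pairing a i := by omega
    have : (n : ℤ) * 2 ≤ n * P.pairing a i :=
      mul_le_mul_of_nonneg_left h2 (by positivity)
    have hlt' : (x : ℤ) < n := by exact_mod_cast hlt
    omega
  rw [hp1, mul_one] at h1
  have hn2 : n = 2 * x := by
    have : (n : ℤ) = 2 * x := by rw [h1]; ring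
    exact_mod_cast this
  rw [hn2, mul_comm, mul_smul] at h
  have h3 := nsmul_right_injective hx.ne' h
  exact hα a (by rw [← h3]; simp [two_smul])

lemma mem_natSpan_pair {i j : ι} {x : M} (hx : x ∈ natSpan P {i, j}) :
    ∃ a b : ℕ, x = a • P.root i + b • P.root j := by
  induction hx using AddSubmonoid.closure_induction with
  | mem x hx =>
    obtain ⟨l, hl, rfl⟩ := hx
    rcases hl with rfl | rfl
    · exact ⟨1, 0, by simp⟩
    · exact ⟨0, 1, by simp⟩
  | zero => exact ⟨0, 0, by simp⟩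
  | add x y _ _ hx hy =>
    obtain ⟨a, b, rfl⟩ := hx
    obtain ⟨c, d, rfl⟩ := hy
    exact ⟨a + c, b + d, by rw [add_smul, add_smul]; abel⟩

lemma mem_natSpan_single {i : ι} {x : M} (hx : x ∈ natSpan P {i}) :
    ∃ a : ℕ, x = a • P.root i := by
  induction hx using AddSubmonoid.closure_induction with
  | mem x hx =>
    obtain ⟨l, hl, rfl⟩ := hx
    rw [Set.mem_singleton_iff] at hl
    subst hl
    exact ⟨1, by simp⟩
  | zero => exact ⟨0, by simp⟩
  | add x y _ _ hx hy =>
    obtain ⟨a, rfl⟩ := hx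
    obtain ⟨c, rfl⟩ := hy
    exact ⟨a + c, by rw [add_smul]⟩

/-- Given an indivisible root α and a root γ not proportional to it, there is a system of simple roots
containing α and a simple root β of it with γ = aα + bβ, a, b ∈ ℕ. -/
theorem result {ι M N : Type*} [AddCommGroup M] [AddCommGroup N]
    (P : RootPairing ι ℤ M N) [Finite ι] (i k : ι) (hα : RootD.IsIndiv P i)
    (hli : LinearIndependent ℤ ![P.root i, P.root k]) :
    ∃ Δ : Set ι, RootD.IsSimpleSys P Δ ∧ i ∈ Δ ∧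
      ∃ j ∈ Δ, ∃ a b : ℕ, P.root k = a • P.root i + b • P.root j := by
  classical
  have htf := isAddTorsionFree P
  have hli' := LinearIndependent.pair_iff.mp hli
  have hik : i ≠ k := by
    rintro rfl
    have := hli' 1 (-1) (by simp)
    omega
  have hliOn : LinearIndepOn ℤ P.root {i, k} := (LinearIndepOn.pair_iff P.root hik).mpr hli'
  set L : Submodule ℤ M := Submodule.span ℤ {P.root i, P.root k} with hL
  set R' : Set ι := {j | ∃ n : ℕ, 0 < n ∧ n • P.root j ∈ L} with hR'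
  have hiR : i ∈ R' := ⟨1, one_pos, by rw [one_smul]; exact Submodule.subset_span (by simp)⟩
  have hkR : k ∈ R' := ⟨1, one_pos, by rw [one_smul]; exact Submodule.subset_span (by simp)⟩
  -- saturation
  have hmult : ∀ y ∈ Submodule.span ℤ (P.root '' R'), ∃ m : ℕ, 0 < m ∧ m • y ∈ L := by
    intro y hy
    induction hy using Submodule.span_induction with
    | mem y hy => obtain ⟨j, hj, rfl⟩ := hy; exact hj
    | zero => exact ⟨1, one_pos, by simp⟩
    | add x y _ _ hx hy =>
      obtain ⟨m1, h1, h1'⟩ := hx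
      obtain ⟨m2, h2, h2'⟩ := hy
      refine ⟨m1 * m2, Nat.mul_pos h1 h2, ?_⟩
      rw [smul_add]
      refine L.add_mem ?_ ?_
      · rw [mul_comm, mul_smul]; exact L.smul_of_tower_mem m2 h1'
      · rw [mul_smul]; exact L.smul_of_tower_mem m1 h2'
    | smul c x _ hx =>
      obtain ⟨m, h1, h1'⟩ := hx
      exact ⟨m, h1, by rw [smul_comm]; exact L.smul_mem c h1'⟩
  have hsat : ∀ j : ι, (∃ n : ℕ, 0 < n ∧ n • P.root j ∈ Submodule.span ℤ (P.root '' R')) →
      j ∈ R' := by
    rintro j ⟨n, hn, hmem⟩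
    obtain ⟨m, hm, hm'⟩ := hmult _ hmem
    exact ⟨m * n, Nat.mul_pos hm hn, by rw [mul_smul]; exact hm'⟩
  obtain ⟨ψ, hψ0, hψ1⟩ := exists_sep_family P R' hsat
  set Ψ := famHom ψ with hΨ
  have hΨR : ∀ j ∈ R', Ψ (P.root j) = 0 := fun j hj =>
    (famHom_eq_zero_iff ψ _).mpr fun l => hψ0 l _ (Submodule.subset_span ⟨j, hj, rfl⟩)
  have hΨR' : ∀ j, Ψ (P.root j) = 0 → j ∈ R' := by
    intro j hj
    by_contra hjR
    exact hψ1 j hjR ((famHom_eq_zero_iff ψ _).mp hj j)
  -- the two coordinates on the plane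
  obtain ⟨χ1, hχ1⟩ := exists_functional P hliOn fun a => if a = k then 1 else 0
  obtain ⟨χ2, hχ2⟩ := exists_functional P hliOn fun a => if a = i then 1 else 0
  have h1i : χ1 (P.root i) = 0 := by rw [hχ1 i (by simp)]; simp [hik]
  have h1k : χ1 (P.root k) = 1 := by rw [hχ1 k (by simp)]; simp
  have h2i : χ2 (P.root i) = 1 := by rw [hχ2 i (by simp)]; simp
  have h2k : χ2 (P.root k) = 0 := by rw [hχ2 k (by simp)]; simp [hik.symm]
  -- decomposition of the roots of the plane
  have hdec : ∀ j ∈ R', ∃ n : ℕ, 0 < n ∧ True ∧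
      ∃ x y : ℤ, n • P.root j = x • P.root i + y • P.root k ∧
        (n : ℚ) * χ1 (P.root j) = y ∧ (n : ℚ) * χ2 (P.root j) = x := by
    rintro j ⟨n, hn, hmem⟩
    obtain ⟨x, y, hxy⟩ := Submodule.mem_span_pair.mp hmem
    refine ⟨n, hn, trivial, x, y, hxy.symm, ?_, ?_⟩
    · have := congrArg χ1 hxy
      rw [map_add, map_zsmul, map_zsmul, h1i, h1k, map_nsmul] at this
      simp at this
      linarith
    · have := congrArg χ2 hxy
      rw [map_add, map_zsmul, map_zsmul, h2i, h2k, map_nsmul] at this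
      simp at this
      linarith
  set χ := lex2 χ1 χ2 with hχ
  have hne : ∀ j : ι, Ψ (P.root j) = 0 → χ (P.root j) ≠ 0 := by
    intro j hj h0
    obtain ⟨n, hn, -, x, y, hxy, hy, hx⟩ := hdec j (hΨR' j hj)
    rw [hχ, lex2_eq_zero_iff] at h0
    rw [h0.1, mul_zero] at hy
    rw [h0.2, mul_zero] at hx
    have hx0 : x = 0 := by exact_mod_cast hx.symm
    have hy0 : y = 0 := by exact_mod_cast hy.symm
    rw [hx0, hy0, zero_smul, zero_smul, add_zero] at hxy
    exact nsmul_root_ne_zero P j hn hxy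
  have hS := lexPos_isPosSys Ψ χ hne
  have hW := pos_weakPos hS
  have hΔ := weakPos_isSimpleSys hW
  have hSeq := weakPos_eq_posOf hW
  set S := lexPos P Ψ χ with hSdef
  set Δ := simpleOf P S with hΔdef
  have hΨnn : ∀ j ∈ S, 0 ≤ Ψ (P.root j) := by
    intro j hj
    rcases hj with h | ⟨h, _⟩
    · exact h.le
    · exact h.ge
  -- `i` is positive and simple
  have hiS : i ∈ S := Or.inr ⟨hΨR i hiR, by
    rw [hχ, lex2_pos_iff, h1i, h2i]; exact Or.inr ⟨rfl, one_pos⟩⟩
  have hkS : k ∈ S := Or.inr ⟨hΨR k hkR, by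
    rw [hχ, lex2_pos_iff, h1k]; exact Or.inl one_pos⟩
  have hiΔ : i ∈ Δ := by
    refine ⟨hiS, ?_⟩
    intro a ha b hb hsum
    have h0 : Ψ (P.root a) + Ψ (P.root b) = 0 := by
      rw [← map_add, ← hsum]; exact hΨR i hiR
    have h00 := (add_eq_zero_iff_of_nonneg (hΨnn a ha) (hΨnn b hb)).mp h0
    have hχa : 0 < χ (P.root a) := by
      rcases ha with h | ⟨_, h⟩
      · exact absurd h00.1 h.ne'
      · exact h
    have hχb : 0 < χ (P.root b) := by
      rcases hb with h | ⟨_, h⟩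
      · exact absurd h00.2 h.ne'
      · exact h
    rw [hχ, lex2_pos_iff] at hχa hχb
    have hsum1 : χ1 (P.root a) + χ1 (P.root b) = 0 := by
      rw [← map_add, ← hsum, h1i]
    have hsum2 : χ2 (P.root a) + χ2 (P.root b) = 1 := by
      rw [← map_add, ← hsum, h2i]
    have ha1 : χ1 (P.root a) = 0 ∧ 0 < χ2 (P.root a) := by
      rcases hχa with h | h
      · rcases hχb with h' | h'
        · linarith
        · linarith [h'.1]
      · exact h
    have hb1 : χ1 (P.root b) = 0 ∧ 0 < χ2 (P.root b) := by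
      rcases hχb with h | h
      · linarith [ha1.1]
      · exact h
    -- both ratios are at least one
    have hge : ∀ c : ι, c ∈ R' → χ1 (P.root c) = 0 → 0 < χ2 (P.root c) → 1 ≤ χ2 (P.root c) := by
      intro c hc hc1 hc2
      obtain ⟨n, hn, -, x, y, hxy, hy, hx⟩ := hdec c hc
      rw [hc1, mul_zero] at hy
      have hy0 : y = 0 := by exact_mod_cast hy.symm
      rw [hy0, zero_smul, add_zero] at hxy
      have hnq : (0 : ℚ) < n := by exact_mod_cast hn
      have hxpos : (0 : ℚ) < x := by rw [← hx]; exact mul_pos hnq hc2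
      have hxpos' : 0 < x := by exact_mod_cast hxpos
      obtain ⟨x', hx'⟩ := Int.eq_ofNat_of_zero_le hxpos'.le
      rw [hx', natCast_zsmul] at hxy
      have hx'pos : 0 < x' := by omega
      have hle := ratio_ge_one hα hn hx'pos hxy
      have hle' : (n : ℚ) ≤ x := by rw [hx']; exact_mod_cast hle
      rw [← hx] at hle'
      have h3 : (n : ℚ) * 1 ≤ n * χ2 (P.root c) := by rw [mul_one]; exact hle'
      exact le_of_mul_le_mul_left h3 hnq
    have h1 := hge a (hΨR' a h00.1) ha1.1 ha1.2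
    have h2 := hge b (hΨR' b h00.2) hb1.1 hb1.2
    linarith
  -- the root `k` lies in the face of the plane
  have hk1 : P.root k ∈ natSpan P Δ := by
    have : k ∈ posOf P Δ := hSeq ▸ hkS
    exact this
  have hΔnn : ∀ b ∈ Δ, 0 ≤ Ψ (P.root b) := fun b hb => hΨnn b hb.1
  have hk2 := (face Ψ hΔnn hk1).2 (hΨR k hkR)
  set Δ0 : Set ι := {b | b ∈ Δ ∧ Ψ (P.root b) = 0} with hΔ0
  -- at most one element of the face besides `i`
  have huniq : ∀ j ∈ Δ0, ∀ l ∈ Δ0, j ≠ i → l ≠ i → j = l := by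
    intro j hj l hl hji hli2
    by_contra hjl
    obtain ⟨φj, hφj1, hφj2, -⟩ := simple_exists_coord hΔ hj.1
    obtain ⟨φl, hφl1, hφl2, -⟩ := simple_exists_coord hΔ hl.1
    obtain ⟨n, hn, -, x, y, hxy, -, -⟩ := hdec j (hΨR' j hj.2)
    obtain ⟨n', hn', -, x', y', hxy', -, -⟩ := hdec l (hΨR' l hl.2)
    have e1 := congrArg φj hxy
    have e2 := congrArg φl hxy
    have e3 := congrArg φl hxy'
    rw [map_nsmul, map_add, map_zsmul, map_zsmul, hφj1, hφj2 i hiΔ (Ne.symm hji)] at e1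
    rw [map_nsmul, map_add, map_zsmul, map_zsmul, hφl2 j hj.1 hjl, hφl2 i hiΔ (Ne.symm hli2)] at e2
    rw [map_nsmul, map_add, map_zsmul, map_zsmul, hφl1, hφl2 i hiΔ (Ne.symm hli2)] at e3
    simp only [smul_zero, zero_add, nsmul_eq_mul, mul_one, zsmul_eq_mul] at e1 e2 e3
    have hnq : (n : ℚ) ≠ 0 := by exact_mod_cast hn.ne'
    have hn'q : (n' : ℚ) ≠ 0 := by exact_mod_cast hn'.ne'
    have hy : (y : ℚ) ≠ 0 := by
      intro h
      rw [h, zero_mul] at e1
      exact hnq e1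
    have hφlk : φl (P.root k) = 0 := (mul_eq_zero.mp e2.symm).resolve_left hy
    rw [hφlk, mul_zero] at e3
    exact hn'q e3
  by_cases hT : ∃ j, j ∈ Δ0 ∧ j ≠ i
  · obtain ⟨j, hj, hji⟩ := hT
    have hsub : Δ0 ⊆ {i, j} := by
      intro l hl
      by_cases hli2 : l = i
      · exact Or.inl hli2
      · exact Or.inr (huniq l hl j hj hli2 hji)
    obtain ⟨a, b, hab⟩ := mem_natSpan_pair (natSpan_mono P hsub hk2)
    exact ⟨Δ, hΔ, hiΔ, j, hj.1, a, b, hab⟩
  · exfalso
    have hsub : Δ0 ⊆ {i} := by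
      intro l hl
      by_contra hli2
      exact hT ⟨l, hl, hli2⟩
    obtain ⟨a, ha⟩ := mem_natSpan_single (natSpan_mono P hsub hk2)
    have := hli' (a : ℤ) (-1) (by rw [natCast_zsmul, ← ha]; simp)
    omega

end Groth.Agent.S5464
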