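import Groth.Statements.S5465
import Groth.Agent.Lib.Helper8Root7

set_option autoImplicit false
open RootD

namespace Groth.Agent.S5465

/-- A map from the roots to an abelian group that is odd and additive on pairs of roots whose sum is a
root extends uniquely to a homomorphism on the lattice generated by the roots. -/
theorem result {ι M N : Type*} [AddCommGroup M] [AddCommGroup N]
    (P : RootPairing ι ℤ M N) [Finite ι] {G : Type*} [AddCommGroup G] (f : ι → G)
    (hneg : ∀ i : ι, f (P.reflectionPerm i i) = -f i)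
    (hadd : ∀ i j k : ι, P.root k = P.root i + P.root j → f k = f i + f j) :
    ∃! φ : Submodule.span ℤ (Set.range P.root) →+ G,
      ∀ i : ι, φ ⟨P.root i, Submodule.subset_span (Set.mem_range_self i)⟩ = f i := by
  open Groth.Agent.Lib.Helper8 in
  obtain ⟨Δ, hΔ⟩ := exists_isSimpleSys P
  let v : Δ → M := fun i => P.root i
  have hv : LinearIndependent ℤ v := hΔ.linInd
  have hrange : Set.range v = P.root '' Δ := by
    ext x; constructor
    · rintro ⟨⟨i, hi⟩, rfl⟩; exact ⟨i, hi, rfl⟩
    · rintro ⟨i, hi, rfl⟩; exact ⟨⟨i, hi⟩, rfl⟩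
  have hspan : ∀ x : M, x ∈ Submodule.span ℤ (Set.range P.root) →
      x ∈ Submodule.span ℤ (Set.range v) := by
    intro x hx
    refine Submodule.span_le.mpr ?_ hx
    rintro _ ⟨k, rfl⟩
    rw [hrange]
    rcases hΔ.mem_or_neg_mem k with h | h
    · exact natSpan_le_span P Δ h
    · have := natSpan_le_span P Δ h
      simpa using Submodule.neg_mem _ this
  let φ₀ : Submodule.span ℤ (Set.range v) →ₗ[ℤ] G :=
    (Finsupp.linearCombination ℤ (fun i : Δ => f i)) ∘ₗ hv.repr
  let φ : Submodule.span ℤ (Set.range P.root) →+ G :=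
    { toFun := fun x => φ₀ ⟨x.1, hspan x.1 x.2⟩
      map_zero' := by
        have : (⟨(0 : Submodule.span ℤ (Set.range P.root)).1, hspan _ (0 : Submodule.span ℤ (Set.range P.root)).2⟩ :
          Submodule.span ℤ (Set.range v)) = 0 := rfl
        rw [this, map_zero]
      map_add' := fun x y => by
        have : (⟨(x + y).1, hspan _ (x + y).2⟩ : Submodule.span ℤ (Set.range v)) =
          ⟨x.1, hspan _ x.2⟩ + ⟨y.1, hspan _ y.2⟩ := rfl
        rw [this, map_add] }
  have hφ_apply : ∀ (x : M) (hx : x ∈ Submodule.span ℤ (Set.range P.root)),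
      φ ⟨x, hx⟩ = φ₀ ⟨x, hspan x hx⟩ := fun _ _ => rfl
  have hmem : ∀ k : ι, P.root k ∈ Submodule.span ℤ (Set.range P.root) :=
    fun k => Submodule.subset_span (Set.mem_range_self k)
  -- values on simple roots
  have hsimple : ∀ i (hi : i ∈ Δ), φ ⟨P.root i, hmem i⟩ = f i := by
    intro i hi
    rw [hφ_apply]
    have h2 := hv.repr_eq_single ⟨i, hi⟩
      ⟨v ⟨i, hi⟩, Submodule.subset_span (Set.mem_range_self _)⟩ rfl
    show (Finsupp.linearCombination ℤ (fun i : Δ => f i)) (hv.repr ⟨P.root i, _⟩) = f i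
    have h3 : (⟨P.root i, hspan _ (hmem i)⟩ : Submodule.span ℤ (Set.range v)) =
      ⟨v ⟨i, hi⟩, Submodule.subset_span (Set.mem_range_self _)⟩ := rfl
    rw [h3, h2]
    simp
  -- values on positive roots
  have hpos : ∀ k : ι, Reach P Δ k → φ ⟨P.root k, hmem k⟩ = f k := by
    intro k hk
    induction hk with
    | base hi => exact hsimple _ hi
    | @step j i k _ hi hk ih =>
      have : (⟨P.root k, hmem k⟩ : Submodule.span ℤ (Set.range P.root)) =
          ⟨P.root j, hmem j⟩ + ⟨P.root i, hmem i⟩ := Subtype.ext hk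
      rw [this, map_add, ih, hsimple i hi, hadd j i k hk]
  have hall : ∀ k : ι, φ ⟨P.root k, hmem k⟩ = f k := by
    intro k
    rcases hΔ.mem_or_neg_mem k with h | h
    · exact hpos k (reach_of_mem_natSpan P h)
    · have h' : P.root (P.reflectionPerm k k) ∈ natSpan P Δ := by rw [root_neg]; exact h
      have h1 := hpos _ (reach_of_mem_natSpan P h')
      have : (⟨P.root k, hmem k⟩ : Submodule.span ℤ (Set.range P.root)) =
          -⟨P.root (P.reflectionPerm k k), hmem _⟩ := Subtype.ext (by simp)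
      rw [this, map_neg, h1, hneg, neg_neg]
  refine ⟨φ, hall, fun ψ hψ => ?_⟩
  ext ⟨x, hx⟩
  induction hx using Submodule.span_induction with
  | mem x hx =>
    obtain ⟨k, rfl⟩ := hx
    rw [hψ k, hall k]
  | zero =>
    have : (⟨0, Submodule.zero_mem _⟩ : Submodule.span ℤ (Set.range P.root)) = 0 := rfl
    rw [this, map_zero, map_zero]
  | add x y hx hy ihx ihy =>
    have : (⟨x + y, Submodule.add_mem _ hx hy⟩ : Submodule.span ℤ (Set.range P.root)) =
        ⟨x, hx⟩ + ⟨y, hy⟩ := rfl
    rw [this, map_add, map_add, ihx, ihy]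
  | smul t x hx ih =>
    have : (⟨t • x, Submodule.smul_mem _ t hx⟩ : Submodule.span ℤ (Set.range P.root)) =
        t • ⟨x, hx⟩ := rfl
    rw [this, map_zsmul, map_zsmul, ih]

end Groth.Agent.S5465
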