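import Groth.Statements.S5467
import Groth.Agent.Lib.Helper8Root4
import Groth.Agent.S5495

set_option autoImplicit false
open RootD

namespace Groth.Agent.S5467

/-- For an indivisible positive non-simple root α there is a simple root β with (β^v, α) > 0 such that
s_β(α) is positive; its order relative to Δ is then smaller than that of α by (β^v, α). -/
theorem result {ι M N : Type*} [AddCommGroup M] [AddCommGroup N]
    (P : RootPairing ι ℤ M N) [Finite ι] (Δ : Set ι) (hΔ : RootD.IsSimpleSys P Δ)
    (k : ι) (hk : k ∈ RootD.posOf P Δ) (hkΔ : k ∉ Δ) (hind : RootD.IsIndiv P k) :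
    ∃ i ∈ Δ, 0 < P.pairing k i ∧ P.reflectionPerm i k ∈ RootD.posOf P Δ := by
  open Groth.Agent.Lib.Helper8 in
  obtain ⟨i, hi, hp⟩ := exists_pos_pairing_of_mem_natSpan P hk
  refine ⟨i, hi, hp, simple_reflection_pos hΔ hk hi fun n h => ?_⟩
  have hn0 : (n : ℤ) ≠ 0 := by
    rintro h0
    have : n = 0 := by exact_mod_cast h0
    rw [this, zero_smul] at h
    exact P.ne_zero k h
  have hdvd := Groth.Agent.S5495.result P k i hind 1 n hn0 (by rw [one_smul, h, natCast_zsmul])
  have hn1 : n = 1 := by
    have := Int.natAbs_dvd_natAbs.mpr hdvd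
    simpa using this
  rw [hn1, one_smul] at h
  exact hkΔ (P.root.injective h ▸ hi)

end Groth.Agent.S5467
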