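import Groth.Statements.S5468
import Mathlib.LinearAlgebra.RootSystem.WeylGroup
import Mathlib.LinearAlgebra.RootSystem.Finite.Lemmas

set_option autoImplicit false
open RootD

namespace Groth.Agent.S5468

open RootPairing

variable {ι M N : Type*} [AddCommGroup M] [AddCommGroup N] (P : RootPairing ι ℤ M N)

include P in
lemma torsionFreeM : IsAddTorsionFree M := by
  have : Module.IsReflexive ℤ M := .of_isPerfPair P.toLinearMap
  exact .of_isTorsionFree ℤ M

include P in
lemma torsionFreeN : IsAddTorsionFree N := by
  have : Module.IsReflexive ℤ N := .of_isPerfPair P.flip.toLinearMap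
  exact .of_isTorsionFree ℤ N

lemma reflection_eq_of_root_eq_smul [Finite ι] (i j : ι) (t : ℤ) (h : P.root j = t • P.root i) :
    P.reflection i = P.reflection j := by
  have := torsionFreeN P
  have hc := smul_coroot_eq_of_root_eq_smul (P := P) i j t h
  ext x
  simp only [reflection_apply, h, smul_smul]
  have : (P.coroot' i) x = (P.coroot' j) x * t := by
    simp only [coroot', LinearMap.flip_apply]
    rw [← hc, map_smul]
    simp [_root_.mul_comm]
  rw [this]

/-- Two roots whose reflections are distinct and commute are orthogonal. -/
theorem result {ι M N : Type*} [AddCommGroup M] [AddCommGroup N]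
    (P : RootPairing ι ℤ M N) [Finite ι] (i j : ι)
    (hne : P.reflection i ≠ P.reflection j) (hc : Commute (P.reflection i) (P.reflection j)) :
    P.IsOrthogonal i j := by
  have := torsionFreeM P
  by_contra hno
  have hcne : P.pairing i j ≠ 0 := by
    intro h0
    exact hno ⟨h0, (P.pairing_eq_zero_iff' (i := i) (j := j)).mp h0⟩
  set c := P.pairing i j with hcdef
  set d := P.pairing j i with hddef
  -- apply commutation to root i
  have h1 : P.reflection i (P.reflection j (P.root i)) = P.reflection j (P.reflection i (P.root i)) := by
    have := congrArg (fun f => f (P.root i)) hc.eq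
    simpa using this
  have h2 : (2 * c) • P.root j = (c * d) • P.root i := by
    simp only [reflection_apply_self, map_neg, reflection_apply_root, map_sub, map_smul] at h1
    rw [← hcdef, ← hddef] at h1
    have : (2 * c) • P.root j - (c * d) • P.root i = 0 := by
      rw [← sub_eq_zero] at h1
      have h1' := congrArg (fun z => -z) h1
      simp only [neg_zero] at h1'
      rw [← h1']
      module
    exact sub_eq_zero.mp this
  have h3 : (2 : ℤ) • P.root j = d • P.root i := by
    have : c • ((2 : ℤ) • P.root j) = c • (d • P.root i) := by
      rw [smul_smul, smul_smul, _root_.mul_comm c 2]; exact h2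
    exact smul_right_injective M hcne this
  -- pair with coroot j : 4 = d * c
  have h4 : d * c = 4 := by
    have := congrArg (fun x => P.toLinearMap x (P.coroot j)) h3
    simp only [map_smul, LinearMap.smul_apply, root_coroot_eq_pairing, pairing_same] at this
    rw [← hcdef] at this
    simp at this
    linarith
  rcases Int.even_or_odd' d with ⟨t, ht | ht⟩
  · -- d = 2t
    have h5 : P.root j = t • P.root i := by
      have : (2 : ℤ) • P.root j = (2 : ℤ) • (t • P.root i) := by
        rw [h3, ht, mul_smul]
      exact smul_right_injective M (by norm_num : (2 : ℤ) ≠ 0) this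
    exact hne (reflection_eq_of_root_eq_smul P i j t h5)
  · -- d odd, d ∣ 4 so d = ±1
    have hd : d = 1 ∨ d = -1 := by
      have hdvd : d ∣ 4 := ⟨c, h4.symm⟩
      have habs : d.natAbs ∣ 4 := by
        have := Int.natAbs_dvd_natAbs.mpr hdvd
        simpa using this
      have hle : d.natAbs ≤ 4 := Nat.le_of_dvd (by norm_num) habs
      have hodd : d.natAbs % 2 = 1 := by omega
      interval_cases h : d.natAbs <;> omega
    rcases hd with hd | hd
    · have h5 : P.root i = (2 : ℤ) • P.root j := by rw [h3, hd, one_smul]
      exact hne (reflection_eq_of_root_eq_smul P j i 2 h5).symm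
    · have h5 : P.root i = (-2 : ℤ) • P.root j := by
        rw [neg_smul, h3, hd, neg_smul, one_smul, neg_neg]
      exact hne (reflection_eq_of_root_eq_smul P j i (-2) h5).symm

end Groth.Agent.S5468
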