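import Groth.Statements.S5469
import Groth.Agent.Lib.Helper8Root6

set_option autoImplicit false
open RootPairing
open scoped Pointwise
open RootD

namespace Groth.Agent.S5469

/-- Two non-orthogonal roots of equal length (for the canonical form ℓ(x) = Σ_{u ∈ R^v} (u, x)²) are
conjugate under the Weyl group. -/
theorem result {ι M N : Type*} [AddCommGroup M] [AddCommGroup N]
    (P : RootPairing ι ℤ M N) [Finite ι] [Fintype ι] (i j : ι) (hno : ¬ P.IsOrthogonal i j)
    (hl : P.RootForm (P.root i) (P.root i) = P.RootForm (P.root j) (P.root j)) :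
    ∃ g : P.Aut, g ∈ P.weylGroup ∧ g • i = j := by
  open Groth.Agent.Lib.Helper8 in
  have : Module.IsReflexive ℤ M := .of_isPerfPair P.toLinearMap
  have hmem := P.pairingIn_pairingIn_mem_set_of_length_eq
    (B := (P.posRootForm ℤ).toInvariantForm) (i := i) (j := j) hl
  rw [pairingIn_int, pairingIn_int] at hmem
  simp only [Set.mem_insert_iff, Set.mem_singleton_iff, Prod.mk.injEq] at hmem
  have hsi : ∀ a : ι, RootPairing.Equiv.reflection P a ∈ P.weylGroup :=
    fun a => P.reflection_mem_weylGroup a
  rcases hmem with ⟨h1, h2⟩ | ⟨h1, h2⟩ | ⟨h1, h2⟩ | ⟨h1, h2⟩ | ⟨h1, h2⟩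
  · exact absurd ⟨h1, h2⟩ hno
  · refine ⟨RootPairing.Equiv.reflection P j * RootPairing.Equiv.reflection P i *
      RootPairing.Equiv.reflection P j, mul_mem (mul_mem (hsi j) (hsi i)) (hsi j), ?_⟩
    apply P.root.injective
    rw [aut_root, mul_smul, mul_smul]
    simp only [RootPairing.Equiv.reflection_smul, RootPairing.reflection_apply_root, map_sub,
      map_smul, h1, h2]
    simp only [RootPairing.pairing_same]
    module
  · refine ⟨RootPairing.Equiv.reflection P i * RootPairing.Equiv.reflection P j,
      mul_mem (hsi i) (hsi j), ?_⟩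
    apply P.root.injective
    rw [aut_root, mul_smul]
    simp only [RootPairing.Equiv.reflection_smul, RootPairing.reflection_apply_root, map_sub,
      map_smul, h1, h2]
    simp only [RootPairing.pairing_same]
    module
  · refine ⟨1, one_mem _, ?_⟩
    rw [one_smul]
    exact (P.pairing_two_two_iff i j).mp ⟨h1, h2⟩
  · refine ⟨RootPairing.Equiv.reflection P i, hsi i, ?_⟩
    apply P.root.injective
    rw [aut_root]
    have := (P.pairing_neg_two_neg_two_iff i j).mp ⟨h1, h2⟩
    rw [RootPairing.Equiv.reflection_smul, RootPairing.reflection_apply_self, this, neg_neg]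

end Groth.Agent.S5469
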