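import Groth.Statements.S5470
import Groth.Agent.Lib.Helper8Root9
import Groth.Agent.S5469

set_option autoImplicit false
open RootPairing
open scoped Pointwise
open RootD

namespace Groth.Agent.S5470

open Groth.Agent.Lib.Helper8 in
/-- In an irreducible datum, some Weyl conjugate of a given root is not orthogonal to another
given root. -/
lemma exists_nonorth {ι M N : Type*} [AddCommGroup M] [AddCommGroup N]
    (P : RootPairing ι ℤ M N) [Finite ι]
    (hirr : ∀ R' : Set ι, RootD.IsClosedSub P R' → RootD.IsSymmSub P R' → RootD.IsClosedSub P R'ᶜ →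
      RootD.IsSymmSub P R'ᶜ → R' = ∅ ∨ R' = Set.univ) (i j : ι) :
    ∃ w : P.Aut, w ∈ P.weylGroup ∧ ¬ P.IsOrthogonal (w • i) j := by
  set A : Set ι := {k | ∃ w : P.Aut, w ∈ P.weylGroup ∧ ¬ P.IsOrthogonal (w • i) k} with hA
  have hsymm : IsSymmSub P A := by
    rintro k ⟨w, hw, hk⟩
    refine ⟨w, hw, fun h => hk ?_⟩
    have := orth_neg_right h
    rwa [neg_neg_idx] at this
  have horth : ∀ a ∈ A, ∀ c ∉ A, P.IsOrthogonal a c := by
    rintro a ⟨w, hw, ha⟩ c hc
    have hc' : ∀ w' : P.Aut, w' ∈ P.weylGroup → P.IsOrthogonal (w' • i) c := by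
      intro w' hw'
      by_contra h
      exact hc ⟨w', hw', h⟩
    have h1 := (hc' w hw).1
    have h2 := (hc' (RootPairing.Equiv.reflection P a * w)
      (mul_mem (P.reflection_mem_weylGroup a) hw)).1
    have hoa : P.pairing (w • i) a ≠ 0 := fun h0 => ha (orth_of_pairing_eq_zero h0)
    have h3 : P.pairing ((RootPairing.Equiv.reflection P a * w) • i) c =
        P.pairing (w • i) c - P.pairing (w • i) a * P.pairing a c := by
      rw [mul_smul]
      have : RootPairing.Equiv.reflection P a • (w • i) = P.reflectionPerm a (w • i) := rfl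
      rw [this]
      simp only [← RootPairing.root_coroot_eq_pairing, RootPairing.root_reflectionPerm,
        RootPairing.reflection_apply_root, map_sub, map_smul, LinearMap.sub_apply,
        LinearMap.smul_apply, smul_eq_mul]
    rw [h3, h1, zero_sub, neg_eq_zero] at h2
    have hac : P.pairing a c = 0 := (mul_eq_zero.mp h2).resolve_left hoa
    exact orth_of_pairing_eq_zero hac
  obtain ⟨h1, h2, h3, h4⟩ := closedSymm_of_orth hsymm horth
  have hiA : i ∈ A := by
    refine ⟨1, one_mem _, fun h => ?_⟩
    have := h.1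
    rw [one_smul, RootPairing.pairing_same] at this
    norm_num at this
  rcases hirr A h1 h2 h3 h4 with h | h
  · rw [h] at hiA
    exact absurd hiA (Set.notMem_empty i)
  · have : j ∈ A := by rw [h]; exact Set.mem_univ j
    exact this

/-- In an irreducible root datum the Weyl group acts transitively on the roots of any given length. -/
theorem result {ι M N : Type*} [AddCommGroup M] [AddCommGroup N]
    (P : RootPairing ι ℤ M N) [Finite ι] [Fintype ι] [Nonempty ι]
    (hirr : ∀ R' : Set ι, RootD.IsClosedSub P R' → RootD.IsSymmSub P R' → RootD.IsClosedSub P R'ᶜ →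
      RootD.IsSymmSub P R'ᶜ → R' = ∅ ∨ R' = Set.univ)
    (i j : ι) (hl : P.RootForm (P.root i) (P.root i) = P.RootForm (P.root j) (P.root j)) :
    ∃ g : P.Aut, g ∈ P.weylGroup ∧ g • i = j := by
  open Groth.Agent.Lib.Helper8 in
  obtain ⟨w, hw, hnon⟩ := exists_nonorth P hirr i j
  have hlen : P.RootForm (P.root (w • i)) (P.root (w • i)) = P.RootForm (P.root j) (P.root j) := by
    rw [← hl, aut_root]
    exact RootPairing.InvariantForm.apply_weylGroup_smul (P := P)
      (B := (P.posRootForm ℤ).toInvariantForm) ⟨w, hw⟩ (P.root i) (P.root i)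
  obtain ⟨g, hg, hgj⟩ := Groth.Agent.S5469.result P (w • i) j hnon hlen
  exact ⟨g * w, mul_mem hg hw, by rw [mul_smul, hgj]⟩

end Groth.Agent.S5470
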