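import Groth.Statements.S5471
import Groth.Agent.Lib.Helper8Root14

set_option autoImplicit false
open RootPairing
open scoped Pointwise
open RootD

namespace Groth.Agent.S5471

/-- In a reduced irreducible root datum the ratios of squared root lengths to the minimal one form one
of the sets {1}, {1, 2}, {1, 3}. -/
theorem result {ι M N : Type*} [AddCommGroup M] [AddCommGroup N]
    (P : RootPairing ι ℤ M N) [Finite ι] [Fintype ι] [Nonempty ι] [P.IsReduced]
    (hirr : ∀ R' : Set ι, RootD.IsClosedSub P R' → RootD.IsSymmSub P R' → RootD.IsClosedSub P R'ᶜ →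
      RootD.IsSymmSub P R'ᶜ → R' = ∅ ∨ R' = Set.univ)
    (i₀ : ι) (hmin : ∀ i : ι, P.RootForm (P.root i₀) (P.root i₀) ≤ P.RootForm (P.root i) (P.root i)) :
    (∀ i : ι, P.RootForm (P.root i) (P.root i) = P.RootForm (P.root i₀) (P.root i₀) ∨
        P.RootForm (P.root i) (P.root i) = 2 * P.RootForm (P.root i₀) (P.root i₀) ∨
        P.RootForm (P.root i) (P.root i) = 3 * P.RootForm (P.root i₀) (P.root i₀)) ∧
      ¬ ((∃ i : ι, P.RootForm (P.root i) (P.root i) = 2 * P.RootForm (P.root i₀) (P.root i₀)) ∧
          ∃ j : ι, P.RootForm (P.root j) (P.root j) = 3 * P.RootForm (P.root i₀) (P.root i₀)) := by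
  open Groth.Agent.Lib.Helper8 in
  have h0 := rootForm_root_pos P i₀
  constructor
  · intro i
    obtain ⟨o, ho, hoi⟩ := exists_nonorth_same_length (P := P) hirr i₀ i
    have hrel := len_rel_of_nonorth_red hoi
    have hm := hmin i
    rw [ho] at hrel
    rcases hrel with h | h | h | h | h
    · left; omega
    · right; left; omega
    · exfalso; omega
    · right; right; omega
    · exfalso; omega
  · rintro ⟨⟨i, hi⟩, ⟨j, hj⟩⟩
    obtain ⟨o, ho, hoj⟩ := exists_nonorth_same_length (P := P) hirr i j
    have hrel := len_rel_of_nonorth_red hoj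
    rw [ho, hi, hj] at hrel
    omega

end Groth.Agent.S5471
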