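import Groth.Statements.S5472
import Groth.Agent.Lib.Helper8Root9

set_option autoImplicit false
open RootPairing
open scoped Pointwise
open RootD

namespace Groth.Agent.S5472

open Groth.Agent.Lib.Helper8

variable {ι M N : Type*} [AddCommGroup M] [AddCommGroup N] {P : RootPairing ι ℤ M N}

lemma key [Finite ι] {Δ : Set ι} (hΔ : IsSimpleSys P Δ) {i j : ι} (hi : i ∈ Δ) (hj : j ∈ Δ)
    (m : M) (hα : 0 < P.coroot' i m) (hβ : 0 ≤ P.coroot' j m)
    (ht : M →+ ℚ) (hht : ∀ a ∈ Δ, ht (P.root a) = 1) :
    ∀ (n : ℕ) (l : List ι), l.length ≤ n → (∀ a ∈ l, a ∈ ({i, j} : Set ι)) →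
      0 ≤ ht (m - word P l • m) ∧
      (word P l ≠ 1 → word P l ≠ RootPairing.Equiv.reflection P j → 0 < ht (m - word P l • m)) := by
  classical
  have hsub : ({i, j} : Set ι) ⊆ Δ := by
    rintro a (rfl | rfl)
    · exact hi
    · exact hj
  have hPD : PosData P ({i, j} : Set ι) (fun k => k ∈ posOf P Δ ∧ IsIndiv P k) :=
    { simple_pos := fun a ha => (simple_posData hΔ).simple_pos a (hsub ha)
      refl_pos := fun β b hβ' hb hne => (simple_posData hΔ).refl_pos β b hβ' (hsub hb) hne
      not_both := (simple_posData hΔ).not_both }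
  have hhtpos : ∀ a ∈ Δ, 0 < ht (P.root a) := fun a ha => by rw [hht a ha]; exact one_pos
  intro n
  induction n with
  | zero =>
    intro l hl _
    have : l = [] := List.length_eq_zero_iff.mp (Nat.le_zero.mp hl)
    rw [this, word_nil, one_smul, sub_self, map_zero]
    exact ⟨le_rfl, fun h => absurd rfl h⟩
  | succ n ih =>
    intro l0 hl0 hl0Δ
    have hex : ∃ k : ℕ, ∃ l : List ι, l.length = k ∧ (∀ a ∈ l, a ∈ ({i, j} : Set ι)) ∧
        word P l = word P l0 := ⟨l0.length, l0, rfl, hl0Δ, rfl⟩
    obtain ⟨l, hlen, hl, hw⟩ := Nat.find_spec hex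
    have hlen_le : l.length ≤ n + 1 := by
      rw [hlen]
      exact (Nat.find_min' hex ⟨l0, rfl, hl0Δ, rfl⟩).trans hl0
    rw [← hw]
    by_cases hne : l = []
    · rw [hne, word_nil, one_smul, sub_self, map_zero]
      exact ⟨le_rfl, fun h => absurd rfl h⟩
    have hmin : ∀ l' : List ι, (∀ a ∈ l', a ∈ ({i, j} : Set ι)) → word P l' = word P l →
        l.length ≤ l'.length := by
      intro l' hl' hw'
      rw [hlen]
      exact Nat.find_min' hex ⟨l', rfl, hl', hw'.trans hw⟩
    have hnp := not_pos_of_minimal hPD l hl hne hmin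
    set a := l.getLast hne with ha
    have haij : a ∈ ({i, j} : Set ι) := hl a (List.getLast_mem hne)
    have haΔ : a ∈ Δ := hsub haij
    have hnotpos : word P l • a ∉ posOf P Δ := fun h =>
      hnp ⟨h, indiv_aut _ (simple_indiv hΔ haΔ)⟩
    have hsplit := List.dropLast_append_getLast hne
    have hwl : word P l = word P l.dropLast * RootPairing.Equiv.reflection P a := by
      conv_lhs => rw [← hsplit]
      rw [word_append]
      simp [ha]
    have hlen2 : l.dropLast.length + 1 = l.length := by
      conv_rhs => rw [← hsplit]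
      simp
    have hdl : ∀ x ∈ l.dropLast, x ∈ ({i, j} : Set ι) :=
      fun x hx => hl x (List.mem_of_mem_dropLast hx)
    have hpos' : word P l.dropLast • a ∈ posOf P Δ := by
      have h1 : word P l • a =
          P.reflectionPerm (word P l.dropLast • a) (word P l.dropLast • a) := by
        rw [hwl, mul_smul, refl_smul_self, gaut_neg]
      rcases (simple_isPosSys_posOf hΔ).cover (word P l.dropLast • a) with h | h
      · exact h
      · rw [← h1] at h
        exact absurd h hnotpos
    have hβpos : 0 < ht (P.root (word P l.dropLast • a)) := by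
      rcases eq_zero_or_pos_of_mem_natSpan P ht hhtpos hpos' with h | h
      · exact absurd h (P.ne_zero _)
      · exact h
    obtain ⟨ih1, ih2⟩ := ih l.dropLast (by omega) hdl
    have hdecomp : ht (m - word P l • m) = ht (m - word P l.dropLast • m) +
        (P.coroot' a m : ℚ) * ht (P.root (word P l.dropLast • a)) := by
      have : m - word P l • m = (m - word P l.dropLast • m) +
          (P.coroot' a m) • P.root (word P l.dropLast • a) := by
        rw [hwl, mul_smul, RootPairing.Equiv.reflection_smul, RootPairing.reflection_apply,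
          smul_sub, smul_comm, aut_root]
        abel
      rw [this, map_add, map_zsmul, zsmul_eq_mul]
    have hanonneg : (0 : ℚ) ≤ (P.coroot' a m : ℚ) := by
      rcases haij with h | h
      · rw [h]; exact_mod_cast hα.le
      · rw [h]; exact_mod_cast hβ
    refine ⟨?_, ?_⟩
    · rw [hdecomp]
      exact add_nonneg ih1 (mul_nonneg hanonneg hβpos.le)
    · intro hg1 hgj
      rw [hdecomp]
      by_cases hai : a = i
      · have : (0 : ℚ) < (P.coroot' a m : ℚ) := by rw [hai]; exact_mod_cast hα
        exact add_pos_of_nonneg_of_pos ih1 (mul_pos this hβpos)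
      · have haj : a = j := by
          rcases haij with h | h
          · exact absurd h hai
          · exact h
        have h1 : word P l.dropLast ≠ 1 := by
          intro h
          apply hgj
          rw [hwl, h, one_mul, haj]
        have h2 : word P l.dropLast ≠ RootPairing.Equiv.reflection P j := by
          intro h
          apply hg1
          rw [hwl, h, haj, refl_mul_self]
        exact add_pos_of_pos_of_nonneg (ih2 h1 h2) (mul_nonneg hanonneg hβpos.le)

/-- Let Δ be a system of simple roots (root-only sense), γ a positive root and α, β simple roots with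
(γ, α^v) > 0 and (γ, β^v) ≥ 0 (equivalently: the order of s_α(γ) along Δ is smaller than that of γ,
and the order of s_β(γ) is at most that of γ). Then for every w in the group generated by s_α and
s_β the order of w(γ) along Δ is at most that of γ, and strictly smaller unless w ∈ {1, s_β}. The
order is the sum of the coefficients along Δ; the conclusion is stated for the coefficient vector c
of γ - w(γ) along Δ: its coefficient sum is ≥ 0, and > 0 unless w = 1 or w = s_β. -/
theorem result {ι M N : Type*} [AddCommGroup M] [AddCommGroup N]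
    (P : RootPairing ι ℤ M N) [Finite ι] (Δ : Set ι) (hΔ : RootD.IsSimpleSys P Δ)
    (k i j : ι) (hk : k ∈ RootD.posOf P Δ) (hi : i ∈ Δ) (hj : j ∈ Δ)
    (hα : 0 < P.pairing k i) (hβ : 0 ≤ P.pairing k j)
    (g : P.Aut) (hg : g ∈ Subgroup.closure {Equiv.reflection P i, Equiv.reflection P j})
    (c : ι →₀ ℤ) (hc : ↑c.support ⊆ Δ)
    (hck : Finsupp.linearCombination ℤ P.root c = P.root k - P.root (g • k)) :
    0 ≤ c.sum (fun _ a => a) ∧ (g ≠ 1 → g ≠ Equiv.reflection P j → 0 < c.sum (fun _ a => a)) := by
  classical
  obtain ⟨ht, hht⟩ := Groth.Agent.Lib.Helper8.exists_height P hΔ.linInd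
  have hg' : g ∈ Subgroup.closure ((fun a : ι => Equiv.reflection P a) '' ({i, j} : Set ι)) := by
    rw [Set.image_pair]; exact hg
  obtain ⟨l, hl, hw⟩ := Groth.Agent.Lib.Helper8.exists_word_of_mem_closure hg'
  have hkey := key hΔ hi hj (P.root k) hα hβ ht hht l.length l le_rfl hl
  rw [hw] at hkey
  -- the coefficient sum is the height
  have hsum : ((c.sum fun _ a => a : ℤ) : ℚ) = ht (P.root k - g • P.root k) := by
    rw [← Groth.Agent.Lib.Helper8.aut_root, ← hck, Finsupp.linearCombination_apply, Finsupp.sum,
      Finsupp.sum, map_sum]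
    push_cast
    refine Finset.sum_congr rfl fun a ha => ?_
    rw [map_zsmul, hht a (hc ha)]
    simp
  constructor
  · have := hkey.1
    rw [← hsum] at this
    exact_mod_cast this
  · intro h1 h2
    have := hkey.2 h1 h2
    rw [← hsum] at this
    exact_mod_cast this

end Groth.Agent.S5472
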