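import Groth.Statements.S5473
import Groth.Agent.Lib.Helper8Root9

set_option autoImplicit false
open RootD

namespace Groth.Agent.S5473

open Groth.Agent.Lib.Helper8 in
/-- If `(α, β^v) = 2` then `β` is at most as long as `α`, with equality only for `α = β`. -/
lemma length_le {ι M N : Type*} [AddCommGroup M] [AddCommGroup N]
    (P : RootPairing ι ℤ M N) [Finite ι] [Fintype ι] {a b : ι} (h : P.pairing a b = 2) :
    P.RootForm (P.root b) (P.root b) ≤ P.RootForm (P.root a) (P.root a) ∧
      (P.RootForm (P.root b) (P.root b) = P.RootForm (P.root a) (P.root a) → a = b) := by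
  have : Module.IsReflexive ℤ M := .of_isPerfPair P.toLinearMap
  have hswap : P.pairing b a * P.RootForm (P.root a) (P.root a) =
      P.pairing a b * P.RootForm (P.root b) (P.root b) :=
    (P.posRootForm ℤ).toInvariantForm.pairing_mul_eq_pairing_mul_swap a b
  rw [h] at hswap
  have hla := rootForm_root_pos P a
  have hlb := rootForm_root_pos P b
  have hpos : 0 < P.pairing b a := (pairing_pos_iff P a b).mp (by rw [h]; norm_num)
  have hmem := P.pairingIn_pairingIn_mem_set_of_isCrystallographic a b
  rw [pairingIn_int, pairingIn_int, h] at hmem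
  have hcases : P.pairing b a = 1 ∨ P.pairing b a = 2 := by
    simp only [Set.mem_insert_iff, Set.mem_singleton_iff, Prod.mk.injEq] at hmem
    omega
  rcases hcases with h1 | h1
  · rw [h1] at hswap
    refine ⟨by linarith, fun heq => ?_⟩
    exfalso
    linarith
  · rw [h1] at hswap
    refine ⟨by linarith, fun _ => (P.pairing_two_two_iff a b).mp ⟨h, h1⟩⟩

/-- If a linear map f and its transpose g induce bijections from the roots of R' onto the roots of R and
from the coroots of R onto the coroots of R' respectively (a morphism of root data in the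
two-bijection sense), then the two bijections correspond: the coroot of α' is g applied to the
coroot of f(α'). -/
theorem result {ι M N ι' M' N' : Type*} [AddCommGroup M] [AddCommGroup N] [AddCommGroup M'] [AddCommGroup N']
    (P : RootPairing ι ℤ M N) (P' : RootPairing ι' ℤ M' N') [Finite ι] [Finite ι']
    (f : M' →ₗ[ℤ] M) (g : N →ₗ[ℤ] N') (hfg : ∀ (m' : M') (n : N), P.toLinearMap (f m') n = P'.toLinearMap m' (g n))
    (e : ι' ≃ ι) (he : ∀ i' : ι', f (P'.root i') = P.root (e i'))
    (e' : ι ≃ ι') (he' : ∀ i : ι, g (P.coroot i) = P'.coroot (e' i)) :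
    ∀ i' : ι', g (P.coroot (e i')) = P'.coroot i' := by
  open Groth.Agent.Lib.Helper8 in
  classical
  let _ := Fintype.ofFinite ι'
  -- the permutation `σ = e' ∘ e` of `ι'`
  let σ : ι' ≃ ι' := e.trans e'
  have hσ : ∀ i' : ι', g (P.coroot (e i')) = P'.coroot (σ i') := fun i' => he' (e i')
  have hpair : ∀ i' : ι', P'.pairing i' (σ i') = 2 := by
    intro i'
    rw [← RootPairing.root_coroot_eq_pairing, ← hσ, ← hfg, he, RootPairing.root_coroot_two]
  have hle : ∀ i' : ι', P'.RootForm (P'.root (σ i')) (P'.root (σ i')) ≤
      P'.RootForm (P'.root i') (P'.root i') := fun i' => (length_le P' (hpair i')).1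
  have hsum : ∑ i', P'.RootForm (P'.root (σ i')) (P'.root (σ i')) =
      ∑ i', P'.RootForm (P'.root i') (P'.root i') :=
    Equiv.sum_comp σ (fun i' => P'.RootForm (P'.root i') (P'.root i'))
  have heq : ∀ i' ∈ Finset.univ, P'.RootForm (P'.root (σ i')) (P'.root (σ i')) =
      P'.RootForm (P'.root i') (P'.root i') :=
    (Finset.sum_eq_sum_iff_of_le (fun i' _ => hle i')).mp hsum
  intro i'
  rw [hσ]
  congr 1
  exact ((length_le P' (hpair i')).2 (heq i' (Finset.mem_univ _))).symm

end Groth.Agent.S5473
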