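import Groth.Statements.S5475
import Groth.Agent.Lib.Helper8Root7

set_option autoImplicit false
open RootD

namespace Groth.Agent.S5475

/-- In an adjoint root datum every indivisible root is an indivisible element of the weight lattice. -/
theorem result {ι M N : Type*} [AddCommGroup M] [AddCommGroup N]
    (P : RootPairing ι ℤ M N) [Finite ι] (had : Submodule.span ℤ (Set.range P.root) = ⊤)
    (i : ι) (hind : RootD.IsIndiv P i) (m : M) (n : ℤ) (h : n • m = P.root i) : n = 1 ∨ n = -1 := by
  open Groth.Agent.Lib.Helper8 in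
  obtain ⟨Δ, hΔ⟩ := exists_isSimpleSys P
  obtain ⟨g, _, j, hj, hgj⟩ := exists_simple_conj hΔ hind
  obtain ⟨φ, h1, _, h3⟩ := simple_exists_coord hΔ hj
  -- `φ` is integer valued on the root lattice, which is everything
  have hint : ∀ x : M, ∃ z : ℤ, φ x = z := by
    intro x
    have hx : x ∈ Submodule.span ℤ (Set.range P.root) := by rw [had]; trivial
    induction hx using Submodule.span_induction with
    | mem x hx =>
      obtain ⟨k, rfl⟩ := hx
      rcases hΔ.mem_or_neg_mem k with h | h
      · obtain ⟨a, ha⟩ := h3 _ h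
        exact ⟨a, by rw [ha]; simp⟩
      · obtain ⟨a, ha⟩ := h3 _ h
        refine ⟨-a, ?_⟩
        rw [map_neg] at ha
        push_cast
        linarith
    | zero => exact ⟨0, by simp⟩
    | add x y _ _ ihx ihy =>
      obtain ⟨a, ha⟩ := ihx
      obtain ⟨b, hb⟩ := ihy
      exact ⟨a + b, by rw [map_add, ha, hb]; push_cast; rfl⟩
    | smul t x _ ih =>
      obtain ⟨a, ha⟩ := ih
      exact ⟨t * a, by rw [map_zsmul, ha]; simp⟩
  have hm' : n • (g⁻¹ • m) = P.root j := by
    rw [smul_comm, h, ← hgj, aut_root, inv_smul_smul]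
  obtain ⟨z, hz⟩ := hint (g⁻¹ • m)
  have h4 := congrArg φ hm'
  rw [map_zsmul, hz, h1] at h4
  have h5 : n * z = 1 := by
    have : ((n * z : ℤ) : ℚ) = 1 := by push_cast; simpa using h4
    exact_mod_cast this
  exact Int.eq_one_or_neg_one_of_mul_eq_one h5

end Groth.Agent.S5475
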