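import Groth.Statements.S5478
import Groth.Agent.Lib.Helper8Root5

set_option autoImplicit false
open RootPairing
open scoped Pointwise
open RootD

namespace Groth.Agent.S5478

/-- The group of automorphisms of a root datum that act trivially on the radical is finite. -/
theorem result {ι M N : Type*} [AddCommGroup M] [AddCommGroup N]
    (P : RootPairing ι ℤ M N) [Finite ι] :
    Set.Finite {u : P.Aut | ∀ m : M, ∃ n : ℕ, 0 < n ∧ n • (u • m - m) ∈ Submodule.span ℤ (Set.range P.root)} := by
  open Groth.Agent.Lib.Helper8 in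
  refine Set.Finite.of_injOn (f := fun u : P.Aut => RootPairing.Equiv.indexHom P u)
    (t := Set.univ) (fun _ _ => Set.mem_univ _) ?_ Set.finite_univ
  intro u hu v hv huv
  have h1 : u⁻¹ * v = 1 := by
    refine aut_eq_one_of_fix (u⁻¹ * v) (fun m => ?_) fun i => ?_
    · obtain ⟨n₁, hn₁, h₁⟩ := hv m
      obtain ⟨n₂, hn₂, h₂⟩ := hu m
      refine ⟨n₁ * n₂, Nat.mul_pos hn₁ hn₂, ?_⟩
      have e : (u⁻¹ * v) • m - m = u⁻¹ • ((v • m - m) - (u • m - m)) := by
        rw [mul_smul, smul_sub, smul_sub, smul_sub, inv_smul_smul]; abel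
      rw [e, ← smul_comm, smul_sub, mul_smul, mul_comm, mul_smul]
      refine aut_smul_mem_rootSpan u⁻¹ (Submodule.sub_mem _ ?_ ?_)
      · rw [smul_comm]
        exact Submodule.smul_of_tower_mem _ n₂ h₁
      · rw [smul_comm]
        exact Submodule.smul_of_tower_mem _ n₁ h₂
    · have : RootPairing.Equiv.indexHom P u i = RootPairing.Equiv.indexHom P v i := by
        have := congrArg (fun e : Equiv.Perm ι => e i) huv
        exact this
      show (u⁻¹ * v) • i = i
      rw [mul_smul]
      have hv' : v • i = u • i := this.symm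
      rw [hv', inv_smul_smul]
  have h2 : v = u * (u⁻¹ * v) := by rw [mul_inv_cancel_left]
  rw [h2, h1, mul_one]

end Groth.Agent.S5478
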