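import Groth.Statements.S5479
import Groth.Agent.Lib.Helper8Root8
import Groth.Agent.S5455

set_option autoImplicit false
open RootPairing
open scoped Pointwise
open RootD

namespace Groth.Agent.S5479

/-- Aut(R) is the semidirect product of the Weyl group by the stabiliser E_Δ of a system of simple
roots: every automorphism is uniquely w · e with w ∈ W and e(Δ) = Δ. -/
theorem result {ι M N : Type*} [AddCommGroup M] [AddCommGroup N]
    (P : RootPairing ι ℤ M N) [Finite ι] (Δ : Set ι) (hΔ : RootD.IsSimpleSys P Δ) (u : P.Aut) :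
    ∃! w : P.weylGroup, (fun i : ι => ((w : P.Aut)⁻¹ * u) • i) '' Δ = Δ := by
  open Groth.Agent.Lib.Helper8 in
  obtain ⟨g, hg, hgΔ⟩ := Groth.Agent.S5455.result P Δ ((fun i : ι => u • i) '' Δ) hΔ
    (simple_image u hΔ)
  have himg : ∀ (a b : P.Aut) (T : Set ι),
      (fun i : ι => (a * b) • i) '' T = (fun i : ι => a • i) '' ((fun i : ι => b • i) '' T) := by
    intro a b T
    rw [Set.image_image]
    simp only [mul_smul]
  have hinv : ∀ (a : P.Aut) (T : Set ι),
      (fun i : ι => a⁻¹ • i) '' ((fun i : ι => a • i) '' T) = T := by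
    intro a T
    rw [Set.image_image]
    simp
  refine ⟨⟨g, hg⟩, ?_, ?_⟩
  · show (fun i : ι => (g⁻¹ * u) • i) '' Δ = Δ
    rw [himg, ← hgΔ, hinv]
  · rintro ⟨w, hw⟩ hwΔ
    have hwΔ' : (fun i : ι => (w⁻¹ * u) • i) '' Δ = Δ := hwΔ
    apply Subtype.ext
    show w = g
    -- `w '' Δ = u '' Δ = g '' Δ`
    have h1 : (fun i : ι => w • i) '' Δ = (fun i : ι => u • i) '' Δ := by
      have := congrArg (fun T => (fun i : ι => w • i) '' T) hwΔ'
      rw [himg, ← himg w w⁻¹, mul_inv_cancel] at this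
      simpa using this.symm
    have h2 : (fun i : ι => (g⁻¹ * w) • i) '' Δ = Δ := by
      rw [himg, h1, ← hgΔ, hinv]
    have h3 : g⁻¹ * w = 1 :=
      weyl_eq_one_of_stab hΔ (mul_mem (inv_mem hg) hw) (h2.symm ▸ subset_posOf P Δ)
    have : w = g * (g⁻¹ * w) := by rw [mul_inv_cancel_left]
    rw [this, h3, mul_one]

end Groth.Agent.S5479
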