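import Groth.Statements.S5480
import Groth.Agent.Lib.Helper8Root9
import Groth.Agent.S5452

set_option autoImplicit false
open RootD

namespace Groth.Agent.S5480

open Groth.Agent.Lib.Helper8

section
variable {ι M N ι' M' N' : Type*} [AddCommGroup M] [AddCommGroup N] [AddCommGroup M']
  [AddCommGroup N'] {P : RootPairing ι ℤ M N} {P' : RootPairing ι' ℤ M' N'}

/-- The data of a p-morphism (without the condition on the exponents). -/
structure PMor (P : RootPairing ι ℤ M N) (P' : RootPairing ι' ℤ M' N')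
    (f : M' →ₗ[ℤ] M) (g : N →ₗ[ℤ] N') (u : ι ≃ ι') (q : ι → ℕ) : Prop where
  hfg : ∀ (m' : M') (n : N), P.toLinearMap (f m') n = P'.toLinearMap m' (g n)
  hq : ∀ i, 0 < q i
  hroot : ∀ i : ι, f (P'.root (u i)) = (q i : ℤ) • P.root i
  hcoroot : ∀ i : ι, g (P.coroot i) = (q i : ℤ) • P'.coroot (u i)

variable {f : M' →ₗ[ℤ] M} {g : N →ₗ[ℤ] N'} {u : ι ≃ ι'} {q : ι → ℕ}

lemma PMor.pairing_rel (h : PMor P P' f g u q) (i j : ι) :
    (q j : ℤ) * P'.pairing (u i) (u j) = (q i : ℤ) * P.pairing i j := by
  have h1 := h.hfg (P'.root (u i)) (P.coroot j)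
  rw [h.hroot, h.hcoroot] at h1
  simp only [map_smul, LinearMap.smul_apply, smul_eq_mul, RootPairing.root_coroot_eq_pairing]
    at h1
  exact h1.symm

lemma PMor.inj [Finite ι'] (h : PMor P P' f g u q) {x : M'} (hx : x ∈ P'.rootSpan ℤ)
    (hfx : f x = 0) : x = 0 := by
  apply eq_zero_of_mem_rootSpan_of_coroot_eq_zero hx
  intro i'
  obtain ⟨i, rfl⟩ := u.surjective i'
  have h1 := h.hfg x (P.coroot i)
  rw [hfx, h.hcoroot] at h1
  simp only [map_zero, LinearMap.zero_apply, map_smul, smul_eq_mul] at h1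
  have hq : (q i : ℤ) ≠ 0 := by exact_mod_cast (h.hq i).ne'
  exact (mul_eq_zero.mp h1.symm).resolve_left hq

lemma PMor.refl [Finite ι'] [P'.IsReduced] (h : PMor P P' f g u q) (i j : ι) :
    q (P.reflectionPerm i j) = q j ∧
      u (P.reflectionPerm i j) = P'.reflectionPerm (u i) (u j) := by
  have htf' := isAddTorsionFree P'
  set k := P.reflectionPerm i j with hk
  set k' := P'.reflectionPerm (u i) (u j) with hk'
  have hrk : P.root k = P.root j - P.pairing j i • P.root i := by
    rw [hk, RootPairing.root_reflectionPerm, RootPairing.reflection_apply_root]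
  have hrk' : P'.root k' = P'.root (u j) - P'.pairing (u j) (u i) • P'.root (u i) := by
    rw [hk', RootPairing.root_reflectionPerm, RootPairing.reflection_apply_root]
  have h1 : f (P'.root k') = (q j : ℤ) • P.root k := by
    rw [hrk', map_sub, map_smul, h.hroot, h.hroot, hrk, smul_sub, smul_smul, smul_smul,
      mul_comm (P'.pairing (u j) (u i)), h.pairing_rel j i]
  have h2 : f (P'.root (u k)) = (q k : ℤ) • P.root k := h.hroot k
  have hmem : ∀ a : ι', P'.root a ∈ P'.rootSpan ℤ := fun a =>
    Submodule.subset_span (Set.mem_range_self a)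
  have h3 : (q k : ℤ) • P'.root k' = (q j : ℤ) • P'.root (u k) := by
    rw [← sub_eq_zero]
    apply h.inj (Submodule.sub_mem _ (Submodule.smul_mem _ _ (hmem _))
      (Submodule.smul_mem _ _ (hmem _)))
    rw [map_sub, map_smul, map_smul, h1, h2, smul_smul, smul_smul, mul_comm, sub_self]
  have hqk : (0 : ℤ) < q k := by exact_mod_cast h.hq k
  have hqj : (0 : ℤ) < q j := by exact_mod_cast h.hq j
  have hnli : ¬ LinearIndependent ℤ ![P'.root k', P'.root (u k)] := by
    intro hli
    rw [LinearIndependent.pair_iff] at hli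
    have := hli (q k) (-(q j : ℤ)) (by rw [neg_smul, h3, add_neg_cancel])
    omega
  rcases ‹P'.IsReduced›.eq_or_eq_neg k' (u k) hnli with heq | heq
  · have hkk : k' = u k := P'.root.injective heq
    refine ⟨?_, hkk.symm⟩
    rw [heq] at h3
    have h4 : ((q k : ℤ) - (q j : ℤ)) • P'.root (u k) = 0 := by
      rw [sub_smul, h3, sub_self]
    rcases smul_eq_zero.mp h4 with h5 | h5
    · have : (q k : ℤ) = q j := by linarith
      exact_mod_cast this
    · exact absurd h5 (P'.ne_zero _)
  · exfalso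
    rw [heq, smul_neg] at h3
    have h4 : ((q k : ℤ) + (q j : ℤ)) • P'.root (u k) = 0 := by
      rw [add_smul, ← h3, add_neg_cancel]
    rcases smul_eq_zero.mp h4 with h5 | h5
    · omega
    · exact absurd h5 (P'.ne_zero _)

lemma PMor.weyl_q [Finite ι'] [P'.IsReduced] (h : PMor P P' f g u q) {w : P.Aut}
    (hw : w ∈ P.weylGroup) (i : ι) : q (w • i) = q i := by
  induction hw using RootPairing.weylGroup.induction generalizing i with
  | mem a => rw [refl_smul]; exact (h.refl a i).1
  | one => rw [one_smul]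
  | mul x y _ _ ihx ihy => rw [mul_smul, ihx, ihy]

lemma toPerm_apply (w : P.weylGroup) (i : ι) : P.weylGroupToPerm w i = (w : P.Aut) • i := rfl

lemma PMor.conj_mem [Finite ι'] [P'.IsReduced] (h : PMor P P' f g u q) (w : P.weylGroup) :
    u.permCongrHom (P.weylGroupToPerm w) ∈ P'.weylGroupToPerm.range := by
  have h1 : P.weylGroupToPerm w ∈ P.weylGroupToPerm.range := ⟨w, rfl⟩
  rw [RootPairing.range_weylGroupToPerm] at h1 ⊢
  have h2 : u.permCongrHom (P.weylGroupToPerm w) ∈
      (Subgroup.closure (Set.range P.reflectionPerm)).map u.permCongrHom.toMonoidHom :=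
    ⟨_, h1, rfl⟩
  rw [MonoidHom.map_closure] at h2
  refine Subgroup.closure_mono ?_ h2
  rintro _ ⟨_, ⟨i, rfl⟩, rfl⟩
  refine ⟨u i, ?_⟩
  ext j'
  show P'.reflectionPerm (u i) j' = u (P.reflectionPerm i (u.symm j'))
  rw [(h.refl i (u.symm j')).2, Equiv.apply_symm_apply]

end

/-- For a p-morphism of reduced root data with root bijection u and radicial exponents q: (a) for all
roots α, β one has q(s_α(β)) = q(β) and u(s_α(β)) = s_{u(α)}(u(β)); (b) the exponents are invariant
under the Weyl group, q(w(α)) = q(α); (c) there is an isomorphism ū from the Weyl group of the first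
datum to that of the second with ū(s_α) = s_{u(α)} and u(w(α)) = ū(w)(u(α)) for every Weyl group
element w and every root α. -/
theorem result {ι M N ι' M' N' : Type*} [AddCommGroup M] [AddCommGroup N] [AddCommGroup M'] [AddCommGroup N']
    (P : RootPairing ι ℤ M N) (P' : RootPairing ι' ℤ M' N') [Finite ι] [Finite ι'] [P.IsReduced] [P'.IsReduced]
    (p : ℕ) (hp : 0 < p) (f : M' →ₗ[ℤ] M) (g : N →ₗ[ℤ] N')
    (hfg : ∀ (m' : M') (n : N), P.toLinearMap (f m') n = P'.toLinearMap m' (g n))
    (u : ι ≃ ι') (q : ι → ℕ) (hq : ∀ i, ∃ e : ℕ, q i = p ^ e)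
    (hroot : ∀ i : ι, f (P'.root (u i)) = (q i : ℤ) • P.root i)
    (hcoroot : ∀ i : ι, g (P.coroot i) = (q i : ℤ) • P'.coroot (u i)) :
    (∀ i j : ι, q (P.reflectionPerm i j) = q j ∧ u (P.reflectionPerm i j) = P'.reflectionPerm (u i) (u j)) ∧
      (∀ w ∈ P.weylGroup, ∀ i : ι, q (w • i) = q i) ∧
      ∃ ubar : P.weylGroup ≃* P'.weylGroup,
        (∀ i : ι, ubar (RootPairing.weylGroup.ofIdx P i) = RootPairing.weylGroup.ofIdx P' (u i)) ∧
        ∀ (w : P.weylGroup) (i : ι), u ((w : P.Aut) • i) = ((ubar w : P'.weylGroup) : P'.Aut) • u i := by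
  classical
  have hP : PMor P P' f g u q :=
    ⟨hfg, fun i => by obtain ⟨e, he⟩ := hq i; rw [he]; exact pow_pos hp e, hroot, hcoroot⟩
  refine ⟨hP.refl, fun w hw i => hP.weyl_q hw i, ?_⟩
  have hinj := Groth.Agent.S5452.result P
  have hinj' := Groth.Agent.S5452.result P'
  -- the homomorphism
  let ψ : P.weylGroup →* P'.weylGroup :=
    ((MonoidHom.ofInjective hinj').symm.toMonoidHom).comp
      ((u.permCongrHom.toMonoidHom.comp P.weylGroupToPerm).codRestrict P'.weylGroupToPerm.range
        (fun w => hP.conj_mem w))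
  have hψ : ∀ w : P.weylGroup, P'.weylGroupToPerm (ψ w) =
      u.permCongrHom (P.weylGroupToPerm w) := by
    intro w
    have := (MonoidHom.ofInjective hinj').apply_symm_apply
      ((u.permCongrHom.toMonoidHom.comp P.weylGroupToPerm).codRestrict P'.weylGroupToPerm.range
        (fun w => hP.conj_mem w) w)
    exact congrArg Subtype.val this
  have hψinj : Function.Injective ψ := by
    refine (injective_iff_map_eq_one ψ).mpr fun w hw => ?_
    apply hinj
    have h1 := hψ w
    rw [hw, map_one] at h1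
    rw [map_one]
    exact (u.permCongrHom.map_eq_one_iff).mp h1.symm
  have hψsurj : Function.Surjective ψ := by
    intro w'
    -- conjugating back lands in the Weyl group of `P`
    have hP' : PMor P P' f g u q := hP
    have hmem : u.symm.permCongrHom (P'.weylGroupToPerm w') ∈ P.weylGroupToPerm.range := by
      have h1 : P'.weylGroupToPerm w' ∈ P'.weylGroupToPerm.range := ⟨w', rfl⟩
      rw [RootPairing.range_weylGroupToPerm] at h1 ⊢
      have h2 : u.symm.permCongrHom (P'.weylGroupToPerm w') ∈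
          (Subgroup.closure (Set.range P'.reflectionPerm)).map u.symm.permCongrHom.toMonoidHom :=
        ⟨_, h1, rfl⟩
      rw [MonoidHom.map_closure] at h2
      refine Subgroup.closure_mono ?_ h2
      rintro _ ⟨_, ⟨i', rfl⟩, rfl⟩
      refine ⟨u.symm i', ?_⟩
      ext j
      show P.reflectionPerm (u.symm i') j = u.symm (P'.reflectionPerm i' (u j))
      have := (hP.refl (u.symm i') j).2
      rw [Equiv.apply_symm_apply] at this
      rw [← this, Equiv.symm_apply_apply]
    obtain ⟨w, hw⟩ := hmem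
    refine ⟨w, ?_⟩
    apply hinj'
    rw [hψ, hw]
    ext j'
    simp
  refine ⟨MulEquiv.ofBijective ψ ⟨hψinj, hψsurj⟩, ?_, ?_⟩
  · intro i
    apply hinj'
    show P'.weylGroupToPerm (ψ (RootPairing.weylGroup.ofIdx P i)) = _
    rw [hψ]
    ext j'
    show u (P.reflectionPerm i (u.symm j')) = P'.reflectionPerm (u i) j'
    rw [(hP.refl i (u.symm j')).2, Equiv.apply_symm_apply]
  · intro w i
    show u ((w : P.Aut) • i) = ((ψ w : P'.weylGroup) : P'.Aut) • u i
    have h1 := congrArg (fun e : Equiv.Perm ι' => e (u i)) (hψ w)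
    simp only [Equiv.permCongrHom, MulEquiv.coe_mk, Equiv.permCongr_apply,
      Equiv.symm_apply_apply] at h1
    exact h1.symm

end Groth.Agent.S5480
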