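import Groth.Statements.S5481
import Groth.Agent.Lib.Helper8Root10
import Groth.Agent.S5480
import Groth.Agent.S5446

set_option autoImplicit false
open RootD

namespace Groth.Agent.S5481

open Groth.Agent.Lib.Helper8 Groth.Agent.S5480

section
variable {ι M N ι' M' N' : Type*} [AddCommGroup M] [AddCommGroup N] [AddCommGroup M']
  [AddCommGroup N'] {P : RootPairing ι ℤ M N} {P' : RootPairing ι' ℤ M' N'}
  {f : M' →ₗ[ℤ] M} {g : N →ₗ[ℤ] N'} {u : ι ≃ ι'} {q : ι → ℕ}

lemma indiv_of_reduced [P.IsReduced] (i : ι) : IsIndiv P i := by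
  have htf := isAddTorsionFree P
  intro j hj
  have hnli : ¬ LinearIndependent ℤ ![P.root j, P.root i] := by
    intro hli
    rw [LinearIndependent.pair_iff] at hli
    have := hli 2 (-1) (by rw [hj]; simp)
    omega
  rcases ‹P.IsReduced›.eq_or_eq_neg j i hnli with h | h
  · rw [h] at hj
    have h2 : (1 : ℤ) • P.root i = 0 := by
      have : (2 : ℤ) • P.root i - P.root i = 0 := by rw [hj, sub_self]
      rw [two_smul, add_sub_cancel_right] at this
      rw [one_smul]; exact this
    rw [one_smul] at h2
    exact P.ne_zero i h2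
  · have h3 : (3 : ℤ) • P.root j = 0 := by
      have h' : P.root i = -P.root j := by rw [h, neg_neg]
      have : (2 : ℤ) • P.root j + P.root j = 0 := by rw [hj, h', neg_add_cancel]
      rw [show (3 : ℤ) = 2 + 1 by norm_num, add_smul, one_smul]
      exact this
    rcases smul_eq_zero.mp h3 with h4 | h4
    · omega
    · exact P.ne_zero j h4

/-- Unscaling a linearly independent family. -/
lemma linearIndepOn_of_zsmul {κ A : Type*} [AddCommGroup A] {v : κ → A} {s : Set κ}
    (m : κ → ℤ) (hm : ∀ i ∈ s, m i ≠ 0) (h : LinearIndepOn ℤ (fun i => m i • v i) s) :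
    LinearIndepOn ℤ v s := by
  classical
  rw [linearIndepOn_iff''] at h ⊢
  intro t c hts hc hsum i hi
  have h1 := h t (fun i => if i ∈ t then c i * ∏ j ∈ t.erase i, m j else 0) hts
    (fun i hi => by simp [hi]) ?_ i hi
  · simp only [hi, if_true] at h1
    rcases mul_eq_zero.mp h1 with h2 | h2
    · exact h2
    · exfalso
      rw [Finset.prod_eq_zero_iff] at h2
      obtain ⟨j, hj, hj0⟩ := h2
      exact hm j (hts (Finset.mem_of_mem_erase hj)) hj0
  · have : ∀ i ∈ t, (if i ∈ t then c i * ∏ j ∈ t.erase i, m j else 0) • (m i • v i) =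
        (∏ j ∈ t, m j) • (c i • v i) := by
      intro i hi
      simp only [hi, if_true]
      rw [smul_smul, smul_smul, ← Finset.mul_prod_erase t m hi]
      congr 1
      ring
    rw [Finset.sum_congr rfl this, ← Finset.smul_sum, hsum, smul_zero]

variable [Finite ι] [Finite ι'] [P'.IsReduced]

lemma neg_u (h : PMor P P' f g u q) (i : ι) :
    u (P.reflectionPerm i i) = P'.reflectionPerm (u i) (u i) := (h.refl i i).2

lemma f_natSpan (h : PMor P P' f g u q) (S : Set ι) {x : M'} (hx : x ∈ natSpan P' (u '' S)) :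
    f x ∈ natSpan P S := by
  induction hx using AddSubmonoid.closure_induction with
  | mem x hx =>
    obtain ⟨_, ⟨i, hi, rfl⟩, rfl⟩ := hx
    rw [h.hroot, natCast_zsmul]
    exact AddSubmonoid.nsmul_mem _ (root_mem_natSpan P hi) _
  | zero => rw [map_zero]; exact AddSubmonoid.zero_mem _
  | add x y _ _ hx hy => rw [map_add]; exact AddSubmonoid.add_mem _ hx hy

lemma root_lift [Fintype ι] [DecidableEq ι] (h : PMor P P' f g u q) (k : ι) :
    f ((∏ j ∈ Finset.univ.erase k, q j) • P'.root (u k)) = (∏ j, q j) • P.root k := by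
  rw [map_nsmul, h.hroot, natCast_zsmul, smul_smul, mul_comm,
    Finset.mul_prod_erase Finset.univ q (Finset.mem_univ k)]

lemma lift_natSpan [Fintype ι] [DecidableEq ι] (h : PMor P P' f g u q) (S : Set ι) {x : M}
    (hx : x ∈ natSpan P S) : ∃ y ∈ natSpan P' (u '' S), f y = (∏ j, q j) • x := by
  induction hx using AddSubmonoid.closure_induction with
  | mem x hx =>
    obtain ⟨i, hi, rfl⟩ := hx
    exact ⟨(∏ j ∈ Finset.univ.erase i, q j) • P'.root (u i),
      AddSubmonoid.nsmul_mem _ (root_mem_natSpan P' (Set.mem_image_of_mem u hi)) _, root_lift h i⟩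
  | zero => exact ⟨0, AddSubmonoid.zero_mem _, by simp⟩
  | add x y _ _ hx hy =>
    obtain ⟨a, ha, ha'⟩ := hx
    obtain ⟨b, hb, hb'⟩ := hy
    exact ⟨a + b, AddSubmonoid.add_mem _ ha hb, by rw [map_add, ha', hb', smul_add]⟩

lemma prod_erase_pos [Fintype ι] [DecidableEq ι] (h : PMor P P' f g u q) (k : ι) :
    0 < ∏ j ∈ Finset.univ.erase k, q j := Finset.prod_pos fun j _ => h.hq j

/-- If a multiple of a root of `P` lies in the cone of `S`, a multiple of the corresponding root of
`P'` lies in the cone of `u '' S`. -/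
lemma cone_forward (h : PMor P P' f g u q) (S : Set ι) {k : ι} {n : ℕ} (hn : 0 < n) {x : M}
    (hx : x ∈ natSpan P S) (hxk : x = n • P.root k ∨ x = n • (-P.root k)) :
    ∃ n' : ℕ, 0 < n' ∧ ((x = n • P.root k → n' • P'.root (u k) ∈ natSpan P' (u '' S)) ∧
      (x = n • (-P.root k) → n' • (-P'.root (u k)) ∈ natSpan P' (u '' S))) := by
  classical
  let _ := Fintype.ofFinite ι
  obtain ⟨y, hy, hfy⟩ := lift_natSpan h S hx
  have hmem : ∀ a : ι', P'.root a ∈ P'.rootSpan ℤ := fun a =>
    Submodule.subset_span (Set.mem_range_self a)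
  have hymem : y ∈ P'.rootSpan ℤ := by
    have := natSpan_le_span P' (u '' S) hy
    exact Submodule.span_mono (Set.image_subset_range _ _) this
  refine ⟨n * ∏ j ∈ Finset.univ.erase k, q j, Nat.mul_pos hn (prod_erase_pos h k), ?_, ?_⟩
  · intro hxk'
    have : (n * ∏ j ∈ Finset.univ.erase k, q j) • P'.root (u k) = y := by
      rw [← sub_eq_zero]
      apply h.inj (Submodule.sub_mem _ (Submodule.smul_of_tower_mem _ _ (hmem _)) hymem)
      rw [map_sub, hfy, mul_smul, map_nsmul, root_lift h k, hxk', smul_comm, sub_self]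
    rw [this]; exact hy
  · intro hxk'
    have : (n * ∏ j ∈ Finset.univ.erase k, q j) • (-P'.root (u k)) = y := by
      rw [← sub_eq_zero]
      apply h.inj (Submodule.sub_mem _ (Submodule.smul_of_tower_mem _ _
        (Submodule.neg_mem _ (hmem _))) hymem)
      rw [map_sub, hfy, mul_smul, map_nsmul, smul_neg, map_neg, root_lift h k, hxk', smul_neg,
        smul_neg, smul_neg, smul_comm, sub_self]
    rw [this]; exact hy

end

/-- The root bijection u of a p-morphism of reduced root data carries systems of simple roots onto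
systems of simple roots and systems of positive roots onto systems of positive roots, bijectively. -/
theorem result {ι M N ι' M' N' : Type*} [AddCommGroup M] [AddCommGroup N] [AddCommGroup M'] [AddCommGroup N']
    (P : RootPairing ι ℤ M N) (P' : RootPairing ι' ℤ M' N') [Finite ι] [Finite ι'] [P.IsReduced] [P'.IsReduced]
    (p : ℕ) (hp : 0 < p) (f : M' →ₗ[ℤ] M) (g : N →ₗ[ℤ] N')
    (hfg : ∀ (m' : M') (n : N), P.toLinearMap (f m') n = P'.toLinearMap m' (g n))
    (u : ι ≃ ι') (q : ι → ℕ) (hq : ∀ i, ∃ e : ℕ, q i = p ^ e)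
    (hroot : ∀ i : ι, f (P'.root (u i)) = (q i : ℤ) • P.root i)
    (hcoroot : ∀ i : ι, g (P.coroot i) = (q i : ℤ) • P'.coroot (u i)) (Δ : Set ι) :
    (RootD.IsSimpleSys P Δ ↔ RootD.IsSimpleSys P' (u '' Δ)) ∧
      (RootD.IsPosSys P Δ ↔ RootD.IsPosSys P' (u '' Δ)) := by
  classical
  have hP : PMor P P' f g u q :=
    ⟨hfg, fun i => by obtain ⟨e, he⟩ := hq i; rw [he]; exact pow_pos hp e, hroot, hcoroot⟩
  have hqne : ∀ i, (q i : ℤ) ≠ 0 := fun i => by exact_mod_cast (hP.hq i).ne'
  have hfroot : ∀ i, (f ∘ P'.root ∘ u) i = (q i : ℤ) • P.root i := fun i => hroot i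
  constructor
  · -- simple systems
    constructor
    · intro hΔ
      apply Groth.Agent.S5446.result P' (u '' Δ) (fun i _ => indiv_of_reduced i)
      · -- linear independence
        apply LinearIndepOn.image_of_comp
        apply LinearIndepOn.of_comp f
        have h1 := linearIndepOn_zsmul hΔ.linInd (fun i => (q i : ℤ)) (fun i _ => hqne i)
        exact h1.congr fun i _ => (hfroot i).symm
      · intro k'
        obtain ⟨k, rfl⟩ := u.surjective k'
        rcases hΔ.mem_or_neg_mem k with hk | hk
        · obtain ⟨n', hn', h1, -⟩ := cone_forward hP Δ one_pos (x := P.root k) hk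
            (Or.inl (one_smul _ _).symm)
          exact ⟨n', hn', Or.inl (h1 (one_smul _ _).symm)⟩
        · obtain ⟨n', hn', -, h2⟩ := cone_forward hP Δ one_pos (x := -P.root k) hk
            (Or.inr (one_smul _ _).symm)
          exact ⟨n', hn', Or.inr (h2 (one_smul _ _).symm)⟩
    · intro hΔ'
      apply Groth.Agent.S5446.result P Δ (fun i _ => indiv_of_reduced i)
      · -- linear independence
        have h1 : LinearIndepOn ℤ (P'.root ∘ u) Δ :=
          hΔ'.linInd.comp_of_image u.injective.injOn
        have h2 : LinearIndepOn ℤ (f ∘ (P'.root ∘ u)) Δ := by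
          apply h1.map_injOn f
          intro x hx y hy hxy
          have hsub : Submodule.span ℤ ((P'.root ∘ u) '' Δ) ≤ P'.rootSpan ℤ :=
            Submodule.span_mono (by rintro _ ⟨i, _, rfl⟩; exact Set.mem_range_self _)
          have := hP.inj (Submodule.sub_mem _ (hsub hx) (hsub hy)) (by rw [map_sub, hxy, sub_self])
          exact sub_eq_zero.mp this
        exact linearIndepOn_of_zsmul (fun i => (q i : ℤ)) (fun i _ => hqne i)
          (h2.congr fun i _ => hfroot i)
      · intro k
        rcases hΔ'.mem_or_neg_mem (u k) with hk | hk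
        · refine ⟨q k, hP.hq k, Or.inl ?_⟩
          have := f_natSpan hP Δ hk
          rw [hroot, natCast_zsmul] at this
          exact this
        · refine ⟨q k, hP.hq k, Or.inr ?_⟩
          have := f_natSpan hP Δ hk
          rw [map_neg, hroot, natCast_zsmul, ← smul_neg] at this
          exact this
  · -- positive systems
    constructor
    · intro hS
      refine ⟨?_, ?_, ?_⟩
      · rintro _ ⟨i, hi, rfl⟩ hneg
        rw [← neg_u hP] at hneg
        obtain ⟨j, hj, hju⟩ := hneg
        rw [u.injective hju] at hj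
        exact hS.disjoint hi hj
      · intro i'
        obtain ⟨i, rfl⟩ := u.surjective i'
        rcases hS.cover i with h | h
        · exact Or.inl ⟨i, h, rfl⟩
        · right
          rw [← neg_u hP]
          exact ⟨_, h, rfl⟩
      · intro k' n hn hmem
        obtain ⟨k, rfl⟩ := u.surjective k'
        have := f_natSpan hP Δ hmem
        rw [map_nsmul, hroot, natCast_zsmul, smul_smul] at this
        exact ⟨k, hS.sat (n * q k) (Nat.mul_pos hn (hP.hq k)) this, rfl⟩
    · intro hS'
      refine ⟨?_, ?_, ?_⟩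
      · intro i hi hneg
        apply hS'.disjoint ⟨i, hi, rfl⟩
        rw [← neg_u hP]
        exact ⟨_, hneg, rfl⟩
      · intro i
        rcases hS'.cover (u i) with h | h
        · obtain ⟨j, hj, hju⟩ := h
          rw [u.injective hju] at hj
          exact Or.inl hj
        · rw [← neg_u hP] at h
          obtain ⟨j, hj, hju⟩ := h
          rw [u.injective hju] at hj
          exact Or.inr hj
      · intro k n hn hmem
        obtain ⟨n', hn', h1, -⟩ := cone_forward hP Δ hn hmem (Or.inl rfl)
        obtain ⟨j, hj, hju⟩ := hS'.sat n' hn' (h1 rfl)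
        rw [u.injective hju] at hj
        exact hj

end Groth.Agent.S5481
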