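import Groth.Statements.S5483
import Groth.Agent.Lib.Helper8Root9

set_option autoImplicit false
open RootD

namespace Groth.Agent.S5483

open Groth.Agent.Lib.Helper8 in
lemma eq_zero_of_mem_span {ι M N : Type*} [AddCommGroup M] [AddCommGroup N]
    (P : RootPairing ι ℤ M N) (φ : M →+ ℚ) {S : Set ι} (h : ∀ i ∈ S, φ (P.root i) = 0) {x : M}
    (hx : x ∈ Submodule.span ℤ (P.root '' S)) : φ x = 0 := by
  induction hx using Submodule.span_induction with
  | mem x hx => obtain ⟨i, hi, rfl⟩ := hx; exact h i hi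
  | zero => simp
  | add x y _ _ hx hy => rw [map_add, hx, hy, add_zero]
  | smul t x _ hx => rw [map_zsmul, hx, smul_zero]

open Groth.Agent.Lib.Helper8 in
lemma no_mixed {ι M N : Type*} [AddCommGroup M] [AddCommGroup N]
    (P : RootPairing ι ℤ M N) [Finite ι] {Δ A B : Set ι} (hΔ : RootD.IsSimpleSys P Δ)
    (hA : A ⊆ Δ) (hB : B ⊆ Δ) (hdisj : ∀ x ∈ A, x ∉ B)
    (horth : ∀ a ∈ A, ∀ b ∈ B, P.IsOrthogonal a b) {j i k : ι}
    (hj : P.root j ∈ natSpan P A) (hi : i ∈ B) (hk : P.root k = P.root j + P.root i) : False := by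
  classical
  -- `j` and `i` are orthogonal
  have hji : P.pairing j i = 0 := by
    have := eq_zero_of_mem_natSpan P (P.coroot' i : M →ₗ[ℤ] ℤ).toAddMonoidHom
      (fun l hl => by
        show P.toLinearMap (P.root l) (P.coroot i) = 0
        rw [RootPairing.root_coroot_eq_pairing]
        exact (horth l hl i hi).1) hj
    have h' : P.toLinearMap (P.root j) (P.coroot i) = 0 := this
    rwa [RootPairing.root_coroot_eq_pairing] at h'
  -- `root j - root i` is a root
  have hm : P.root (P.reflectionPerm i k) = P.root j - P.root i := by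
    rw [RootPairing.root_reflectionPerm, hk, map_add, RootPairing.reflection_apply_self,
      RootPairing.reflection_apply_root, hji, zero_smul, sub_zero]
    abel
  obtain ⟨c, hc1, hc2, hc3⟩ := simple_exists_coord hΔ (hB hi)
  obtain ⟨ψ, hψ⟩ := exists_functional P hΔ.linInd fun l => if l ∈ A then 1 else 0
  have hcj : c (P.root j) = 0 := by
    refine eq_zero_of_mem_natSpan P c (fun l hl => hc2 l (hA hl) ?_) hj
    rintro rfl
    exact hdisj _ hl hi
  have hψj : 0 < ψ (P.root j) := by
    refine (eq_zero_or_pos_of_mem_natSpan P ψ (fun l hl => ?_) hj).resolve_left (P.ne_zero j)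
    rw [hψ l (hA hl), if_pos hl]
    exact one_pos
  have hψi : ψ (P.root i) = 0 := by
    rw [hψ i (hB hi), if_neg (fun h => hdisj i h hi)]
  rcases hΔ.mem_or_neg_mem (P.reflectionPerm i k) with h | h
  · obtain ⟨n, hn⟩ := hc3 _ h
    rw [hm, map_sub, hcj, hc1] at hn
    have : (0 : ℚ) ≤ n := Nat.cast_nonneg n
    linarith
  · have hnn : ∀ l ∈ Δ, 0 ≤ ψ (P.root l) := by
      intro l hl
      rw [hψ l hl]
      split_ifs <;> norm_num
    have := nonneg_of_mem_natSpan P ψ hnn h
    rw [hm, map_neg, map_sub, hψi] at this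
    linarith

open Groth.Agent.Lib.Helper8 in
lemma chain_part {ι M N : Type*} [AddCommGroup M] [AddCommGroup N]
    (P : RootPairing ι ℤ M N) [Finite ι] {Δ Δ' : Set ι} (hΔ : RootD.IsSimpleSys P Δ)
    (hsub : Δ' ⊆ Δ) (horth : ∀ i ∈ Δ', ∀ j ∈ Δ \ Δ', P.IsOrthogonal i j) {k : ι}
    (h : Reach P Δ k) :
    P.root k ∈ natSpan P Δ' ∨ P.root k ∈ natSpan P (Δ \ Δ') := by
  classical
  induction h with
  | @base i hi =>
    by_cases h : i ∈ Δ'
    · exact Or.inl (root_mem_natSpan P h)
    · exact Or.inr (root_mem_natSpan P ⟨hi, h⟩)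
  | @step j i k _ hi hk ih =>
    by_cases h : i ∈ Δ'
    · rcases ih with hj | hj
      · left
        rw [hk]
        exact AddSubmonoid.add_mem _ hj (root_mem_natSpan P h)
      · exfalso
        exact no_mixed P hΔ Set.sdiff_subset hsub (fun x hx hx' => hx.2 hx')
          (fun a ha b hb => (horth b hb a ha).symm) hj h hk
    · rcases ih with hj | hj
      · exfalso
        exact no_mixed P hΔ hsub Set.sdiff_subset (fun x hx hx' => hx'.2 hx) horth hj ⟨hi, h⟩ hk
      · right
        rw [hk]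
        exact AddSubmonoid.add_mem _ hj (root_mem_natSpan P ⟨hi, h⟩)

/-- If a system of simple roots Δ is the disjoint union of two mutually orthogonal subsets Δ', Δ'', then
R_{Δ'} and R_{Δ''} partition the set of roots. -/
theorem result {ι M N : Type*} [AddCommGroup M] [AddCommGroup N]
    (P : RootPairing ι ℤ M N) [Finite ι] (Δ Δ' : Set ι) (hΔ : RootD.IsSimpleSys P Δ)
    (hsub : Δ' ⊆ Δ) (horth : ∀ i ∈ Δ', ∀ j ∈ Δ \ Δ', P.IsOrthogonal i j) (k : ι) :
    (k ∈ RootD.inSpan P Δ' ∨ k ∈ RootD.inSpan P (Δ \ Δ')) ∧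
      ¬ (k ∈ RootD.inSpan P Δ' ∧ k ∈ RootD.inSpan P (Δ \ Δ')) := by
  open Groth.Agent.Lib.Helper8 in
  classical
  have hpart : P.root k ∈ Submodule.span ℤ (P.root '' Δ') ∨
      P.root k ∈ Submodule.span ℤ (P.root '' (Δ \ Δ')) := by
    rcases hΔ.mem_or_neg_mem k with h | h
    · rcases chain_part P hΔ hsub horth (reach_of_mem_natSpan P h) with h1 | h1
      · exact Or.inl (natSpan_le_span P _ h1)
      · exact Or.inr (natSpan_le_span P _ h1)
    · have h' : P.root (P.reflectionPerm k k) ∈ natSpan P Δ := by rw [root_neg]; exact h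
      rcases chain_part P hΔ hsub horth (reach_of_mem_natSpan P h') with h1 | h1
      · left
        have := natSpan_le_span P _ h1
        rw [root_neg] at this
        simpa using Submodule.neg_mem _ this
      · right
        have := natSpan_le_span P _ h1
        rw [root_neg] at this
        simpa using Submodule.neg_mem _ this
  refine ⟨hpart, ?_⟩
  rintro ⟨h1, h2⟩
  obtain ⟨ψ', hψ'⟩ := exists_functional P hΔ.linInd fun l => if l ∈ Δ' then 1 else 0
  obtain ⟨ψ'', hψ''⟩ := exists_functional P hΔ.linInd fun l => if l ∈ Δ' then 0 else 1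
  have e1 : ψ'' (P.root k) = 0 := by
    refine eq_zero_of_mem_span P ψ'' (fun l hl => ?_) h1
    rw [hψ'' l (hsub hl), if_pos hl]
  have e2 : ψ' (P.root k) = 0 := by
    refine eq_zero_of_mem_span P ψ' (fun l hl => ?_) h2
    rw [hψ' l hl.1, if_neg hl.2]
  have hpos : ∀ l ∈ Δ, 0 < (ψ' + ψ'') (P.root l) := by
    intro l hl
    rw [AddMonoidHom.add_apply, hψ' l hl, hψ'' l hl]
    split_ifs <;> norm_num
  have hsum : (ψ' + ψ'') (P.root k) = 0 := by
    rw [AddMonoidHom.add_apply, e1, e2, add_zero]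
  rcases hΔ.mem_or_neg_mem k with h | h
  · rcases eq_zero_or_pos_of_mem_natSpan P (ψ' + ψ'') hpos h with h0 | h0
    · exact P.ne_zero k h0
    · rw [hsum] at h0
      exact lt_irrefl _ h0
  · rcases eq_zero_or_pos_of_mem_natSpan P (ψ' + ψ'') hpos h with h0 | h0
    · exact P.ne_zero k (neg_eq_zero.mp h0)
    · rw [map_neg, hsum, neg_zero] at h0
      exact lt_irrefl _ h0

end Groth.Agent.S5483
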