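import Groth.Statements.S5482
import Groth.Agent.Lib.Helper8Root9
import Groth.Agent.S5483

set_option autoImplicit false
open RootD

namespace Groth.Agent.S5482

/-- If the roots are partitioned into two closed symmetric subsets R', R'', then with Δ' = Δ ∩ R', Δ'' =
Δ ∩ R'' for a system of simple roots Δ one has R' = R_{Δ'}, R'' = R_{Δ''}, and Δ' is orthogonal to
Δ''. -/
theorem result {ι M N : Type*} [AddCommGroup M] [AddCommGroup N]
    (P : RootPairing ι ℤ M N) [Finite ι] (Δ : Set ι) (hΔ : RootD.IsSimpleSys P Δ) (R' : Set ι)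
    (hc : RootD.IsClosedSub P R') (hs : RootD.IsSymmSub P R') (hc' : RootD.IsClosedSub P R'ᶜ)
    (hs' : RootD.IsSymmSub P R'ᶜ) :
    R' = RootD.inSpan P (Δ ∩ R') ∧ R'ᶜ = RootD.inSpan P (Δ \ R') ∧
      ∀ i ∈ Δ ∩ R', ∀ j ∈ Δ \ R', P.IsOrthogonal i j := by
  open Groth.Agent.Lib.Helper8 in
  have horth : ∀ i ∈ Δ ∩ R', ∀ j ∈ Δ \ R', P.IsOrthogonal i j :=
    fun i hi j hj => orth_of_closedSymm hc hs hc' hs' hi.2 hj.2
  have hdiff : Δ \ (Δ ∩ R') = Δ \ R' := by
    ext x; constructor
    · rintro ⟨hx, hx'⟩; exact ⟨hx, fun h => hx' ⟨hx, h⟩⟩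
    · rintro ⟨hx, hx'⟩; exact ⟨hx, fun h => hx' h.2⟩
  have horth' : ∀ i ∈ Δ ∩ R', ∀ j ∈ Δ \ (Δ ∩ R'), P.IsOrthogonal i j := by
    rw [hdiff]; exact horth
  have key := fun k => Groth.Agent.S5483.result P Δ (Δ ∩ R') hΔ Set.inter_subset_left horth' k
  rw [hdiff] at key
  -- `inSpan (Δ ∩ R') ⊆ R'` and `inSpan (Δ \ R') ⊆ R'ᶜ`
  have hsub1 : inSpan P (Δ ∩ R') ⊆ R' := by
    intro k hk
    have hnot : k ∉ inSpan P (Δ \ R') := fun h => (key k).2 ⟨hk, h⟩
    rcases hΔ.mem_or_neg_mem k with h | h
    · rcases Groth.Agent.S5483.chain_part P hΔ Set.inter_subset_left horth'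
        (reach_of_mem_natSpan P h) with h1 | h1
      · exact mem_of_closed_of_mem_natSpan P hc (natSpan_mono P Set.inter_subset_right h1)
      · rw [hdiff] at h1
        exact absurd (natSpan_le_span P _ h1) hnot
    · have h' : P.root (P.reflectionPerm k k) ∈ natSpan P Δ := by rw [root_neg]; exact h
      rcases Groth.Agent.S5483.chain_part P hΔ Set.inter_subset_left horth'
        (reach_of_mem_natSpan P h') with h1 | h1
      · have := mem_of_closed_of_mem_natSpan P hc (natSpan_mono P Set.inter_subset_right h1)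
        have h2 := hs this
        rwa [neg_neg_idx] at h2
      · rw [hdiff] at h1
        exfalso
        apply hnot
        have := natSpan_le_span P _ h1
        rw [root_neg] at this
        show P.root k ∈ Submodule.span ℤ (P.root '' (Δ \ R'))
        simpa using Submodule.neg_mem _ this
  have hsub2 : inSpan P (Δ \ R') ⊆ R'ᶜ := by
    intro k hk
    have hnot : k ∉ inSpan P (Δ ∩ R') := fun h => (key k).2 ⟨h, hk⟩
    have hsubc : Δ \ R' ⊆ R'ᶜ := fun x hx => hx.2
    rcases hΔ.mem_or_neg_mem k with h | h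
    · rcases Groth.Agent.S5483.chain_part P hΔ Set.inter_subset_left horth'
        (reach_of_mem_natSpan P h) with h1 | h1
      · exact absurd (natSpan_le_span P _ h1) hnot
      · rw [hdiff] at h1
        exact mem_of_closed_of_mem_natSpan P hc' (natSpan_mono P hsubc h1)
    · have h' : P.root (P.reflectionPerm k k) ∈ natSpan P Δ := by rw [root_neg]; exact h
      rcases Groth.Agent.S5483.chain_part P hΔ Set.inter_subset_left horth'
        (reach_of_mem_natSpan P h') with h1 | h1
      · exfalso
        apply hnot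
        have := natSpan_le_span P _ h1
        rw [root_neg] at this
        show P.root k ∈ Submodule.span ℤ (P.root '' (Δ ∩ R'))
        simpa using Submodule.neg_mem _ this
      · rw [hdiff] at h1
        have := mem_of_closed_of_mem_natSpan P hc' (natSpan_mono P hsubc h1)
        have h2 := hs' this
        rwa [neg_neg_idx] at h2
  refine ⟨Set.Subset.antisymm ?_ hsub1, Set.Subset.antisymm ?_ hsub2, horth⟩
  · intro k hk
    rcases (key k).1 with h | h
    · exact h
    · exact absurd hk (hsub2 h)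
  · intro k hk
    rcases (key k).1 with h | h
    · exact absurd (hsub1 h) hk
    · exact h

end Groth.Agent.S5482
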