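import Groth.Statements.S5484
import Groth.Agent.Lib.Helper8Root11

set_option autoImplicit false
open RootD

namespace Groth.Agent.S5484

open Classical in
/-- Every principal minor of the Cartan matrix (a_{α,β} = (α^v, β), α, β simple) is strictly positive. -/
theorem result {ι M N : Type*} [AddCommGroup M] [AddCommGroup N]
    (P : RootPairing ι ℤ M N) [Finite ι] (Δ : Finset ι) (hΔ : RootD.IsSimpleSys P (↑Δ : Set ι))
    (Δ' : Finset ι) (hsub : Δ' ⊆ Δ) :
    0 < Matrix.det (Matrix.of fun (a b : ↥Δ') => P.pairing (b : ι) (a : ι)) := by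
  classical
  let _ := Fintype.ofFinite ι
  have hli : LinearIndepOn ℤ P.root (↑Δ' : Set ι) :=
    hΔ.linInd.mono (by exact_mod_cast hsub)
  have hpos := Groth.Agent.Lib.Helper8.symCartan_det_pos (P := P) Δ' hli
  have hfac : Groth.Agent.Lib.Helper8.symCartan P Δ' =
      Matrix.diagonal (fun a : ↥Δ' => P.RootForm (P.root a) (P.root a)) *
        Matrix.of fun (a b : ↥Δ') => P.pairing (b : ι) (a : ι) := by
    ext a b
    rw [Matrix.diagonal_mul]
    rfl
  rw [hfac, Matrix.det_mul, Matrix.det_diagonal] at hpos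
  have hprod : 0 < ∏ a : ↥Δ', P.RootForm (P.root a) (P.root a) :=
    Finset.prod_pos fun a _ => Groth.Agent.Lib.Helper8.rootForm_root_pos P a
  have := (mul_pos_iff_of_pos_left hprod).mp hpos
  convert this

end Groth.Agent.S5484
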