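import Groth.Statements.S5488
import Groth.Agent.Lib.Helper8Root5

set_option autoImplicit false
open RootPairing
open scoped Pointwise
open RootD

namespace Groth.Agent.S5488

/-- The reduced datum of indivisible roots has the same Weyl group: the reflections in indivisible roots
generate W. -/
theorem result {ι M N : Type*} [AddCommGroup M] [AddCommGroup N]
    (P : RootPairing ι ℤ M N) [Finite ι] :
    Subgroup.closure ((fun i : ι => Equiv.reflection P i) '' {i : ι | RootD.IsIndiv P i}) = P.weylGroup := by
  open Groth.Agent.Lib.Helper8 in
  apply le_antisymm
  · apply Subgroup.closure_mono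
    rintro _ ⟨i, _, rfl⟩
    exact Set.mem_range_self i
  · rw [RootPairing.weylGroup, Subgroup.closure_le]
    rintro _ ⟨i, rfl⟩
    by_cases hi : IsIndiv P i
    · exact Subgroup.subset_closure ⟨i, hi, rfl⟩
    · unfold IsIndiv at hi
      push Not at hi
      obtain ⟨j, hj⟩ := hi
      have hjind : IsIndiv P j := by
        intro j' hj'
        have h4 : P.root i = (4 : ℤ) • P.root j' := by
          rw [← hj, ← hj', smul_smul]; norm_num
        have := congrArg (fun x => P.toLinearMap x (P.coroot i)) h4
        simp only [RootPairing.root_coroot_two, map_smul, LinearMap.smul_apply,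
          RootPairing.root_coroot_eq_pairing, smul_eq_mul] at this
        omega
      have hs : RootPairing.Equiv.reflection P j = RootPairing.Equiv.reflection P i :=
        equivReflection_eq_of_root_eq_smul P j i 2 hj.symm
      show RootPairing.Equiv.reflection P i ∈ _
      rw [← hs]
      exact Subgroup.subset_closure ⟨j, hjind, rfl⟩

end Groth.Agent.S5488
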