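import Groth.Statements.S5489
import Groth.Agent.Lib.Helper8Root2

set_option autoImplicit false
open RootD

namespace Groth.Agent.S5489

/-- If a root α, distinct from roots α_1, ..., α_n, is a non-negative rational combination of them, then
some α_l with non-zero coefficient has (α^v, α_l) > 0 and α - α_l a root. -/
theorem result {ι M N : Type*} [AddCommGroup M] [AddCommGroup N]
    (P : RootPairing ι ℤ M N) [Finite ι] {n : ℕ} (a : Fin n → ι) (m : Fin n → ℕ)
    (k : ι) (hne : ∀ l, a l ≠ k) (c : ℕ) (hc : 0 < c) (hk : c • P.root k = ∑ l, m l • P.root (a l)) :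
    ∃ l : Fin n, m l ≠ 0 ∧ 0 < P.pairing (a l) k ∧ P.root k - P.root (a l) ∈ Set.range P.root := by
  open Groth.Agent.Lib.Helper8 in
  let _ := Fintype.ofFinite ι
  have h1 := rootForm_root_pos P k
  have h2 : P.RootForm (P.root k) (c • P.root k) = c * P.RootForm (P.root k) (P.root k) := by
    rw [map_nsmul]; simp
  have h3 : P.RootForm (P.root k) (c • P.root k) =
      ∑ l, (m l : ℤ) * P.RootForm (P.root k) (P.root (a l)) := by
    rw [hk, map_sum]
    refine Finset.sum_congr rfl fun l _ => ?_
    rw [map_nsmul]; simp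
  have hpos : 0 < ∑ l, (m l : ℤ) * P.RootForm (P.root k) (P.root (a l)) := by
    rw [← h3, h2]
    have : (0 : ℤ) < c := by exact_mod_cast hc
    positivity
  obtain ⟨l, _, hl⟩ := Finset.exists_lt_of_sum_lt (s := Finset.univ)
    (f := fun _ => (0 : ℤ)) (g := fun l => (m l : ℤ) * P.RootForm (P.root k) (P.root (a l)))
    (by simpa using hpos)
  have hm : m l ≠ 0 := by
    rintro h0
    simp [h0] at hl
  have hB : 0 < P.RootForm (P.root k) (P.root (a l)) := by
    have hm' : (0 : ℤ) < m l := by exact_mod_cast Nat.pos_of_ne_zero hm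
    by_contra hcon
    rw [not_lt] at hcon
    have := mul_nonpos_of_nonneg_of_nonpos hm'.le hcon
    linarith
  have hp : 0 < P.pairing k (a l) := (rootForm_pos_iff P k (a l)).mp hB
  refine ⟨l, hm, (pairing_pos_iff P k (a l)).mp hp, ?_⟩
  obtain ⟨j, hj⟩ := sub_mem P hp (Ne.symm (hne l))
  exact ⟨j, hj⟩

end Groth.Agent.S5489
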