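import Groth.Statements.S5491
import Groth.Agent.Lib.Helper8Root8
import Mathlib.LinearAlgebra.RootSystem.Base

set_option autoImplicit false
open RootD

namespace Groth.Agent.S5491

open Classical in
/-- The sum of the pairings of a simple root with the positive coroots is `2`. -/
lemma simple_sum {ι M N : Type*} [AddCommGroup M] [AddCommGroup N]
    (P : RootPairing ι ℤ M N) [Finite ι] [Fintype ι] [P.IsReduced] (b : P.Base) (k : ι)
    (hk : k ∈ b.support) : (∑ j, if b.IsPos j then P.pairing k j else 0) = 2 * 1 := by
  have hkpos : b.IsPos k := RootPairing.Base.isPos_of_mem_support hk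
  have hnegk : ¬ b.IsPos (P.reflectionPerm k k) := by
    intro h
    exact (RootPairing.Base.IsPos.neg_iff_not b k).mp h hkpos
  have hstab : ∀ i : ι, (b.IsPos i ∧ i ≠ k) → (b.IsPos (P.reflectionPerm k i) ∧
      P.reflectionPerm k i ≠ k) := by
    rintro i ⟨hi, hik⟩
    refine ⟨hi.reflectionPerm hk hik, fun h => ?_⟩
    have : i = P.reflectionPerm k k := by
      have h' := congrArg (P.reflectionPerm k) h
      rw [← h']
      apply P.root.injective
      simp
    rw [this] at hi
    exact hnegk hi
  have hiff : ∀ i : ι, (b.IsPos i ∧ i ≠ k) ↔ (b.IsPos (P.reflectionPerm k i) ∧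
      P.reflectionPerm k i ≠ k) := by
    intro i
    refine ⟨hstab i, fun h => ?_⟩
    have := hstab _ h
    have hinv : P.reflectionPerm k (P.reflectionPerm k i) = i := by
      apply P.root.injective
      simp
    rwa [hinv] at this
  have hsplit : (∑ j, if b.IsPos j then P.pairing k j else 0) =
      (∑ j, if b.IsPos j ∧ j ≠ k then P.pairing k j else 0) + P.pairing k k := by
    rw [← Finset.add_sum_erase _ _ (Finset.mem_univ k), ← Finset.add_sum_erase (a := k) _
      (fun j => if b.IsPos j ∧ j ≠ k then P.pairing k j else 0) (Finset.mem_univ k)]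
    simp only [hkpos, if_true, ne_eq, not_true_eq_false, and_false, if_false, zero_add]
    rw [add_comm]
    congr 1
    refine Finset.sum_congr rfl fun i hi => ?_
    have : i ≠ k := Finset.ne_of_mem_erase hi
    simp [this]
  have hzero : (∑ j, if b.IsPos j ∧ j ≠ k then P.pairing k j else 0) = 0 := by
    have h2 : (∑ j, if b.IsPos j ∧ j ≠ k then P.pairing k j else 0) =
        -(∑ j, if b.IsPos j ∧ j ≠ k then P.pairing k j else 0) := by
      conv_lhs => rw [← Equiv.sum_comp (P.reflectionPerm k)
        (fun j => if b.IsPos j ∧ j ≠ k then P.pairing k j else 0)]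
      rw [← Finset.sum_neg_distrib]
      refine Finset.sum_congr rfl fun i _ => ?_
      have hp : P.pairing k (P.reflectionPerm k i) = - P.pairing k i := by
        rw [RootPairing.pairing_reflectionPerm, RootPairing.pairing_reflectionPerm_self_left]
      by_cases h : b.IsPos i ∧ i ≠ k
      · rw [if_pos h, if_pos ((hiff i).mp h), hp]
      · rw [if_neg h, if_neg (fun h' => h ((hiff i).mpr h'))]; simp
    linarith
  rw [hsplit, hzero, RootPairing.pairing_same]
  norm_num

open Classical in
/-- With ρ^v the half-sum of the positive coroots, the order (height) of any root α relative to the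
simple system equals (ρ^v, α); equivalently 2·height(α) = Σ_{β > 0} (β^v, α). -/
theorem result {ι M N : Type*} [AddCommGroup M] [AddCommGroup N]
    (P : RootPairing ι ℤ M N) [Finite ι] [Fintype ι] [P.IsReduced] (b : P.Base) (i : ι) :
    2 * b.height i = ∑ j, if b.IsPos j then P.pairing i j else 0 := by
  -- additivity of the right-hand side
  have hadd : ∀ i j k : ι, P.root k = P.root i + P.root j →
      (∑ l, if b.IsPos l then P.pairing k l else 0) =
        (∑ l, if b.IsPos l then P.pairing i l else 0) +
          (∑ l, if b.IsPos l then P.pairing j l else 0) := by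
    intro i j k hk
    rw [← Finset.sum_add_distrib]
    refine Finset.sum_congr rfl fun l _ => ?_
    have : P.pairing k l = P.pairing i l + P.pairing j l := by
      simp only [← RootPairing.root_coroot_eq_pairing, hk, map_add, LinearMap.add_apply]
    split_ifs
    · exact this
    · simp
  have hneg : ∀ i : ι, (∑ l, if b.IsPos l then P.pairing (P.reflectionPerm i i) l else 0) =
      -(∑ l, if b.IsPos l then P.pairing i l else 0) := by
    intro i
    rw [← Finset.sum_neg_distrib]
    refine Finset.sum_congr rfl fun l _ => ?_
    split_ifs
    · exact RootPairing.pairing_reflectionPerm_self_left P i l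
    · simp
  refine b.induction_add i (p := fun i => 2 * b.height i =
    ∑ j, if b.IsPos j then P.pairing i j else 0) ?_ ?_ ?_
  · intro i hi
    have h1 := b.height_reflectionPerm_self i
    simp only [RootPairing.indexNeg_neg] at h1
    rw [hneg, h1, ← hi]
    ring
  · intro k hk
    rw [RootPairing.Base.height_one_of_mem_support hk]
    exact (simple_sum P b k hk).symm
  · intro i j k hk hi hj
    rw [hadd i j k hk, b.height_add hk, ← hi, RootPairing.Base.height_one_of_mem_support hj,
      simple_sum P b j hj]
    ring

end Groth.Agent.S5491
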