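import Groth.Statements.S5492
import Groth.Agent.Lib.Helper8Root

set_option autoImplicit false
open RootD

namespace Groth.Agent.S5492

/-- Off-diagonal entries of the Cartan matrix of a system of simple roots are non-positive: (α^v, β) ≤ 0
for distinct simple roots α, β. -/
theorem result {ι M N : Type*} [AddCommGroup M] [AddCommGroup N]
    (P : RootPairing ι ℤ M N) [Finite ι] (Δ : Set ι) (hΔ : RootD.IsSimpleSys P Δ) (i j : ι)
    (hi : i ∈ Δ) (hj : j ∈ Δ) (hij : i ≠ j) : P.pairing j i ≤ 0 := by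
  open Groth.Agent.Lib.Helper8 in
  by_contra hpos
  rw [not_le] at hpos
  obtain ⟨k, hk⟩ := sub_mem P hpos (Ne.symm hij)
  obtain ⟨φi, hi1, hi2, hi3⟩ := simple_exists_coord hΔ hi
  obtain ⟨φj, hj1, hj2, hj3⟩ := simple_exists_coord hΔ hj
  rcases hΔ.mem_or_neg_mem k with h | h
  · obtain ⟨n, hn⟩ := hi3 _ h
    rw [hk, map_sub, hi1, hi2 j hj (Ne.symm hij)] at hn
    have : (0 : ℚ) ≤ n := Nat.cast_nonneg n
    linarith
  · obtain ⟨n, hn⟩ := hj3 _ h
    rw [hk, map_neg, map_sub, hj1, hj2 i hi hij] at hn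
    have : (0 : ℚ) ≤ n := Nat.cast_nonneg n
    linarith

end Groth.Agent.S5492
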