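import Groth.Statements.S5493
import Mathlib.LinearAlgebra.RootSystem.Base
import Mathlib.LinearAlgebra.RootSystem.Hom

set_option autoImplicit false
open RootD

namespace Groth.Agent.S5493

section
set_option linter.unusedSectionVars false
variable {ι M N ι' M' N' : Type*} [AddCommGroup M] [AddCommGroup N] [AddCommGroup M']
  [AddCommGroup N'] {P : RootPairing ι ℤ M N} {P' : RootPairing ι' ℤ M' N'}

open Submodule Set

lemma span_support (had : Submodule.span ℤ (Set.range P.root) = ⊤) (b : P.Base) :
    Submodule.span ℤ (P.root '' (b.support : Set ι)) = ⊤ := by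
  rw [b.span_int_root_support, had]

lemma core [Finite ι] [P.IsReduced] (had : Submodule.span ℤ (Set.range P.root) = ⊤)
    (b : P.Base) (b' : P'.Base) (u : ↥b.support → ↥b'.support)
    (hu : ∀ i j : ↥b.support, P.pairing (i : ι) (j : ι) = P'.pairing (u i : ι') (u j : ι'))
    (f : M →ₗ[ℤ] M') (hf : ∀ i : ↥b.support, f (P.root i) = P'.root (u i)) (i : ι) :
    ∃ i' : ι', f (P.root i) = P'.root i' ∧
      ∀ x, P'.toLinearMap (f x) (P'.coroot i') = P.toLinearMap x (P.coroot i) := by
  have hsimple : ∀ j : ↥b.support, ∀ x,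
      P'.toLinearMap (f x) (P'.coroot (u j)) = P.toLinearMap x (P.coroot j) := by
    intro j x
    have hspan := span_support had b
    have h := LinearMap.ext_on hspan
      (f := (P'.toLinearMap.flip (P'.coroot (u j))) ∘ₗ f)
      (g := P.toLinearMap.flip (P.coroot j)) ?_
    · exact LinearMap.congr_fun h x
    · rintro _ ⟨k, hk, rfl⟩
      simp only [LinearMap.comp_apply, LinearMap.flip_apply]
      rw [hf ⟨k, hk⟩]
      exact (hu ⟨k, hk⟩ j).symm
  refine b.induction_reflect i (p := fun i => ∃ i' : ι', f (P.root i) = P'.root i' ∧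
      ∀ x, P'.toLinearMap (f x) (P'.coroot i') = P.toLinearMap x (P.coroot i)) ?_ ?_ ?_
  · rintro i ⟨i', h1, h2⟩
    refine ⟨P'.reflectionPerm i' i', ?_, ?_⟩
    · rw [RootPairing.root_reflectionPerm, RootPairing.root_reflectionPerm,
        RootPairing.reflection_apply_self, RootPairing.reflection_apply_self, map_neg, h1]
    · intro x
      rw [RootPairing.coroot_reflectionPerm, RootPairing.coroot_reflectionPerm,
        RootPairing.coreflection_apply_self, RootPairing.coreflection_apply_self, map_neg,
        map_neg, h2]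
  · intro j hj
    exact ⟨u ⟨j, hj⟩, hf ⟨j, hj⟩, hsimple ⟨j, hj⟩⟩
  · rintro i j ⟨i', h1, h2⟩ hj
    refine ⟨P'.reflectionPerm (u ⟨j, hj⟩) i', ?_, ?_⟩
    · rw [RootPairing.root_reflectionPerm, RootPairing.root_reflectionPerm,
        RootPairing.reflection_apply, RootPairing.reflection_apply, map_sub, map_smul, h1,
        hf ⟨j, hj⟩]
      congr 2
      show P.toLinearMap (P.root i) (P.coroot j) =
        P'.toLinearMap (P'.root i') (P'.coroot (u ⟨j, hj⟩))
      rw [← h1, hsimple ⟨j, hj⟩]
    · intro x
      rw [RootPairing.coroot_reflectionPerm, RootPairing.coroot_reflectionPerm,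
        RootPairing.coreflection_apply, RootPairing.coreflection_apply, map_sub, map_sub,
        map_smul, map_smul, h2, hsimple ⟨j, hj⟩]
      congr 2
      show P'.toLinearMap (P'.root (u ⟨j, hj⟩)) (P'.coroot i') =
        P.toLinearMap (P.root j) (P.coroot i)
      rw [← hf ⟨j, hj⟩, h2]

end

/-- Adjoint case; the simply connected case is dual: two reduced adjoint root data with systems of
simple roots Δ, Δ' and a bijection u : Δ → Δ' respecting the Cartan matrices are isomorphic through
a unique isomorphism inducing u on Δ. -/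
theorem result {ι M N ι' M' N' : Type*} [AddCommGroup M] [AddCommGroup N] [AddCommGroup M'] [AddCommGroup N']
    (P : RootPairing ι ℤ M N) (P' : RootPairing ι' ℤ M' N') [Finite ι] [Finite ι'] [P.IsReduced] [P'.IsReduced]
    (had : Submodule.span ℤ (Set.range P.root) = ⊤) (had' : Submodule.span ℤ (Set.range P'.root) = ⊤)
    (b : P.Base) (b' : P'.Base) (u : ↥b.support ≃ ↥b'.support)
    (hu : ∀ i j : ↥b.support, P.pairing (i : ι) (j : ι) = P'.pairing (u i : ι') (u j : ι')) :
    ∃! e : RootPairing.Equiv P P', ∀ i : ↥b.support, e.indexEquiv (i : ι) = (u i : ι') := by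
  classical
  have hspan := span_support had b
  have hspan' := span_support had' b'
  have hBtop : ⊤ ≤ Submodule.span ℤ (Set.range fun i : ↥b.support => P.root (i : ι)) := by
    have : (Set.range fun i : ↥b.support => P.root (i : ι)) = P.root '' (b.support : Set ι) := by
      ext x; simp
    rw [this, hspan]
  have hBtop' : ⊤ ≤ Submodule.span ℤ (Set.range fun i : ↥b'.support => P'.root (i : ι')) := by
    have : (Set.range fun i : ↥b'.support => P'.root (i : ι')) =
        P'.root '' (b'.support : Set ι') := by
      ext x; simp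
    rw [this, hspan']
  let B : Module.Basis ↥b.support ℤ M := Module.Basis.mk b.linearIndepOn_root hBtop
  let B' : Module.Basis ↥b'.support ℤ M' := Module.Basis.mk b'.linearIndepOn_root hBtop'
  have hB : ∀ i : ↥b.support, B i = P.root (i : ι) := fun i => by
    simp [B]
  have hB' : ∀ i : ↥b'.support, B' i = P'.root (i : ι') := fun i => by
    simp [B']
  let f : M ≃ₗ[ℤ] M' := B.equiv B' u
  have hf : ∀ i : ↥b.support, f (P.root i) = P'.root (u i) := by
    intro i
    rw [← hB, ← hB']
    exact B.equiv_apply i B' u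
  have hfs : ∀ i : ↥b'.support, f.symm (P'.root i) = P.root (u.symm i) := by
    intro i
    rw [LinearEquiv.symm_apply_eq, hf, Equiv.apply_symm_apply]
  have hu' : ∀ i j : ↥b'.support,
      P'.pairing (i : ι') (j : ι') = P.pairing (u.symm i : ι) (u.symm j : ι) := by
    intro i j
    rw [hu, Equiv.apply_symm_apply, Equiv.apply_symm_apply]
  have hc := core had b b' u hu f.toLinearMap hf
  have hc' := core had' b' b u.symm hu' f.symm.toLinearMap hfs
  choose e he1 he2 using hc
  choose e' he1' he2' using hc'
  have hee' : ∀ i, e' (e i) = i := fun i => P.root.injective (by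
    rw [← he1', ← he1]; simp)
  have he'e : ∀ i, e (e' i) = i := fun i => P'.root.injective (by
    rw [← he1, ← he1']; simp)
  let E : ι ≃ ι' := ⟨e, e', hee', he'e⟩
  let g : N' ≃ₗ[ℤ] N := P'.flip.toPerfPair.trans (f.dualMap.trans P.flip.toPerfPair.symm)
  have hg : ∀ (x : M) (n : N'), P.toLinearMap x (g n) = P'.toLinearMap (f x) n := by
    intro x n
    have : P.flip.toPerfPair (g n) = f.dualMap (P'.flip.toPerfPair n) := by
      simp [g]
    have h2 := LinearMap.congr_fun this x
    simpa using h2
  have hsimple : ∀ i : ↥b.support, e (i : ι) = (u i : ι') := by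
    intro i
    apply P'.root.injective
    rw [← he1, ← hf]
    rfl
  have huniq : ∀ e₁ e₂ : RootPairing.Equiv P P',
      (∀ i : ↥b.support, e₁.indexEquiv (i : ι) = (u i : ι')) →
      (∀ i : ↥b.support, e₂.indexEquiv (i : ι) = (u i : ι')) → e₁ = e₂ := by
    intro e₁ e₂ h₁ h₂
    have hw : e₁.weightMap = e₂.weightMap := by
      apply LinearMap.ext_on hspan
      rintro _ ⟨k, hk, rfl⟩
      rw [RootPairing.Hom.root_weightMap_apply, RootPairing.Hom.root_weightMap_apply,
        h₁ ⟨k, hk⟩, h₂ ⟨k, hk⟩]
    have hi : e₁.indexEquiv = e₂.indexEquiv := by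
      ext i
      apply P'.root.injective
      rw [← RootPairing.Hom.root_weightMap_apply, ← RootPairing.Hom.root_weightMap_apply, hw]
    have hcw : e₁.coweightMap = e₂.coweightMap := by
      ext n
      apply P.flip.toPerfPair.injective
      rw [← RootPairing.Hom.weight_coweight_transpose_apply,
        ← RootPairing.Hom.weight_coweight_transpose_apply, hw]
    exact RootPairing.Equiv.ext hw hcw hi
  refine ⟨⟨⟨f.toLinearMap, g.toLinearMap, E, ?_, ?_, ?_⟩, f.bijective, g.bijective⟩, ?_, ?_⟩
  · ext n x
    simp [g]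
  · ext i
    exact he1 i
  · ext i'
    show g (P'.coroot i') = P.coroot (e' i')
    apply P.flip.toPerfPair.injective
    ext x
    show P.toLinearMap x (g (P'.coroot i')) = P.toLinearMap x (P.coroot (e' i'))
    rw [hg, ← he2 (e' i'), he'e]
    rfl
  · intro i
    exact hsimple i
  · intro e₁ h₁
    exact huniq _ _ h₁ hsimple

end Groth.Agent.S5493
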