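import Groth.Statements.S5494
import Groth.Agent.Lib.Helper8Root9
import Groth.Agent.S5482

set_option autoImplicit false
open RootD

namespace Groth.Agent.S5494

/-- If a system of simple roots has no partition into two non-empty orthogonal subsets, then any two
roots are linked by a chain of roots with consecutive members non-orthogonal. -/
theorem result {ι M N : Type*} [AddCommGroup M] [AddCommGroup N]
    (P : RootPairing ι ℤ M N) [Finite ι] (Δ : Set ι) (hΔ : RootD.IsSimpleSys P Δ)
    (hconn : ∀ Δ' : Set ι, Δ' ⊆ Δ → (∀ i ∈ Δ', ∀ j ∈ Δ \ Δ', P.IsOrthogonal i j) → Δ' = ∅ ∨ Δ' = Δ)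
    (i j : ι) : Relation.ReflTransGen (fun a b : ι => ¬ P.IsOrthogonal a b) i j := by
  open Groth.Agent.Lib.Helper8 in
  obtain ⟨h1, h2, h3, h4⟩ := class_closedSymm (P := P) i
  set C : Set ι := {j : ι | Relation.ReflTransGen (fun a b : ι => ¬ P.IsOrthogonal a b) i j}
    with hC
  obtain ⟨e1, _, e3⟩ := Groth.Agent.S5482.result P Δ hΔ C h1 h2 h3 h4
  have hiC : i ∈ C := Relation.ReflTransGen.refl
  have hdiff : Δ \ (Δ ∩ C) = Δ \ C := by
    ext x; constructor
    · rintro ⟨hx, hx'⟩; exact ⟨hx, fun h => hx' ⟨hx, h⟩⟩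
    · rintro ⟨hx, hx'⟩; exact ⟨hx, fun h => hx' h.2⟩
  rcases hconn (Δ ∩ C) Set.inter_subset_left (by rw [hdiff]; exact e3) with h | h
  · exfalso
    rw [e1, h] at hiC
    have h0 : P.root i ∈ Submodule.span ℤ (P.root '' (∅ : Set ι)) := hiC
    simp at h0
    exact P.ne_zero i h0
  · show j ∈ C
    rw [e1, h]
    show P.root j ∈ Submodule.span ℤ (P.root '' Δ)
    rcases hΔ.mem_or_neg_mem j with h' | h'
    · exact natSpan_le_span P Δ h'
    · have := natSpan_le_span P Δ h'
      simpa using Submodule.neg_mem _ this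

end Groth.Agent.S5494
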