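import Groth.Statements.S5496
import Groth.Agent.Lib.Helper8Root9

set_option autoImplicit false
open RootPairing
open scoped Pointwise
open RootD

namespace Groth.Agent.S5496

open Groth.Agent.Lib.Helper8

variable {ι M N : Type*} [AddCommGroup M] [AddCommGroup N] {P : RootPairing ι ℤ M N}

/-- Elements of the group generated by two reflections move vectors within the plane. -/
lemma sub_mem_plane (i j : ι) {g : P.Aut}
    (hg : g ∈ Subgroup.closure ({Equiv.reflection P i, Equiv.reflection P j} : Set P.Aut)) :
    ∀ x : M, g • x - x ∈ Submodule.span ℤ {P.root i, P.root j} := by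
  induction hg using Subgroup.closure_induction with
  | mem g hg =>
    intro x
    rcases hg with rfl | rfl
    · rw [RootPairing.Equiv.reflection_smul, RootPairing.reflection_apply]
      have : x - (P.coroot' i) x • P.root i - x = (-(P.coroot' i) x) • P.root i := by
        rw [neg_smul]; abel
      rw [this]
      exact Submodule.smul_mem _ _ (Submodule.subset_span (by simp))
    · rw [RootPairing.Equiv.reflection_smul, RootPairing.reflection_apply]
      have : x - (P.coroot' j) x • P.root j - x = (-(P.coroot' j) x) • P.root j := by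
        rw [neg_smul]; abel
      rw [this]
      exact Submodule.smul_mem _ _ (Submodule.subset_span (by simp))
  | one => intro x; simp
  | mul g h _ _ ihg ihh =>
    intro x
    have : (g * h) • x - x = (g • (h • x) - h • x) + (h • x - x) := by
      rw [mul_smul]; abel
    rw [this]
    exact Submodule.add_mem _ (ihg _) (ihh _)
  | inv g _ ihg =>
    intro x
    have : g⁻¹ • x - x = -(g • (g⁻¹ • x) - g⁻¹ • x) := by
      rw [smul_inv_smul]; abel
    rw [this]
    exact Submodule.neg_mem _ (ihg _)

/-- An element of the group generated by two reflections in independent roots which fixes both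
roots is trivial. -/
lemma eq_one_of_fix [Finite ι] (i j : ι) (hli : LinearIndependent ℤ ![P.root i, P.root j])
    {g : P.Aut}
    (hg : g ∈ Subgroup.closure ({Equiv.reflection P i, Equiv.reflection P j} : Set P.Aut))
    (hi : g • i = i) (hj : g • j = j) : g = 1 := by
  have htf := isAddTorsionFree P
  apply RootPairing.Equiv.weightHom_injective
  ext x
  show g • x = x
  obtain ⟨a, b, hab⟩ := Submodule.mem_span_pair.mp (sub_mem_plane i j hg x)
  have e1 := pairing_aut_smul g x i
  have e2 := pairing_aut_smul g x j
  rw [hi] at e1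
  rw [hj] at e2
  have h1 : P.toLinearMap (g • x - x) (P.coroot i) = 0 := by
    rw [map_sub, LinearMap.sub_apply, e1, sub_self]
  have h2 : P.toLinearMap (g • x - x) (P.coroot j) = 0 := by
    rw [map_sub, LinearMap.sub_apply, e2, sub_self]
  rw [← hab] at h1 h2
  simp only [map_add, map_smul, LinearMap.add_apply, LinearMap.smul_apply, smul_eq_mul,
    RootPairing.root_coroot_eq_pairing, RootPairing.pairing_same] at h1 h2
  have hcw := P.coxeterWeight_ne_four_of_linearIndependent hli
  rw [RootPairing.coxeterWeight] at hcw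
  have ha : a * (4 - P.pairing i j * P.pairing j i) = 0 := by
    linear_combination 2 * h1 - P.pairing j i * h2
  have hb : b * (4 - P.pairing i j * P.pairing j i) = 0 := by
    linear_combination 2 * h2 - P.pairing i j * h1
  have hne : (4 - P.pairing i j * P.pairing j i) ≠ 0 := fun h => hcw (by linarith)
  have ha0 : a = 0 := (mul_eq_zero.mp ha).resolve_right hne
  have hb0 : b = 0 := (mul_eq_zero.mp hb).resolve_right hne
  rw [ha0, hb0, zero_smul, zero_smul, add_zero] at hab
  exact (sub_eq_zero.mp hab.symm)

/-- For non-proportional roots α, β let n be the least integer n > 0 with (s_α s_β)^n(α) = α and (s_α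
s_β)^n(β) = β. Then the subgroup W_{α,β} generated by s_α and s_β is presented by s_α² = s_β² = (s_α
s_β)^n = 1; equivalently it has exactly 2n elements. -/
theorem result {ι M N : Type*} [AddCommGroup M] [AddCommGroup N]
    (P : RootPairing ι ℤ M N) [Finite ι] (i j : ι) (hli : LinearIndependent ℤ ![P.root i, P.root j])
    (n : ℕ) (hn : IsLeast {m : ℕ | 0 < m ∧ ((Equiv.reflection P i * Equiv.reflection P j) ^ m) • i = i ∧
      ((Equiv.reflection P i * Equiv.reflection P j) ^ m) • j = j} n) :
    Nat.card (Subgroup.closure ({Equiv.reflection P i, Equiv.reflection P j} : Set P.Aut)) = 2 * n := by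
  classical
  set s := Equiv.reflection P i with hs
  set t := Equiv.reflection P j with ht
  set ρ := s * t with hρ
  set H := Subgroup.closure ({s, t} : Set P.Aut) with hH
  have hsH : s ∈ H := Subgroup.subset_closure (by simp)
  have htH : t ∈ H := Subgroup.subset_closure (by simp)
  have hρH : ρ ∈ H := H.mul_mem hsH htH
  have hss : s * s = 1 := Groth.Agent.Lib.Helper8.refl_mul_self i
  have htt : t * t = 1 := Groth.Agent.Lib.Helper8.refl_mul_self j
  have hsinv : s⁻¹ = s := inv_eq_of_mul_eq_one_right hss
  -- the order of ρ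
  obtain ⟨⟨hn0, hni, hnj⟩, hnmin⟩ := hn
  have hpowH : ∀ m : ℕ, ρ ^ m ∈ H := fun m => H.pow_mem hρH m
  have hord : orderOf ρ = n := by
    rw [orderOf_eq_iff hn0]
    refine ⟨eq_one_of_fix i j hli (hpowH n) hni hnj, fun m hmn hm0 hm1 => ?_⟩
    have : n ≤ m := hnmin ⟨hm0, by rw [hm1, one_smul], by rw [hm1, one_smul]⟩
    omega
  -- conjugation by `s` inverts `ρ`
  have hconj : s * ρ * s⁻¹ = ρ⁻¹ := by
    rw [hsinv, hρ]
    have : (s * t)⁻¹ = t * s := by
      rw [mul_inv_rev]
      rw [inv_eq_of_mul_eq_one_right htt, inv_eq_of_mul_eq_one_right hss]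
    rw [this, ← mul_assoc, hss, one_mul]
  have hconjz : ∀ z ∈ Subgroup.zpowers ρ, s * z * s = z⁻¹ := by
    rintro z ⟨k, rfl⟩
    have := conj_zpow (i := k) (a := s) (b := ρ)
    rw [hconj, hsinv] at this
    rw [← this, inv_zpow]
  set Z := Subgroup.zpowers ρ with hZ
  -- `s` and `t` are non-trivial
  have hrefl_ne : ∀ a : ι, Equiv.reflection P a ≠ 1 := by
    intro a h
    have htf := Groth.Agent.Lib.Helper8.isAddTorsionFree P
    have h1 : Equiv.reflection P a • a = a := by rw [h, one_smul]
    rw [Groth.Agent.Lib.Helper8.refl_smul] at h1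
    have h2 := Groth.Agent.Lib.Helper8.root_neg P a
    rw [h1] at h2
    have h3 : (2 : ℤ) • P.root a = 0 := by
      rw [two_smul]
      nth_rewrite 1 [h2]
      exact neg_add_cancel _
    rcases smul_eq_zero.mp h3 with h4 | h4
    · omega
    · exact P.ne_zero a h4
  -- `s` is not a power of `ρ`
  have hsZ : s ∉ Z := by
    intro hsz
    obtain ⟨k, hk⟩ := hsz
    have hk' : ρ ^ k = s := hk
    have hcomm : s * ρ = ρ * s := by
      rw [← hk']
      exact ((Commute.refl ρ).zpow_left k).eq
    have hρ2 : ρ * ρ = 1 := by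
      have h1 : ρ = ρ⁻¹ := by
        rw [← hconj, hcomm, mul_assoc, hsinv, hss, mul_one]
      calc ρ * ρ = ρ * ρ⁻¹ := by rw [← h1]
        _ = 1 := mul_inv_cancel ρ
    have hρsq : ρ ^ (2 : ℤ) = 1 := by rw [zpow_two, hρ2]
    obtain ⟨m, hm | hm⟩ := Int.even_or_odd' k
    · rw [hm, zpow_mul, hρsq, one_zpow] at hk'
      exact hrefl_ne i hk'.symm
    · rw [hm, zpow_add, zpow_mul, hρsq, one_zpow, one_mul, zpow_one] at hk'
      have : t = 1 := by
        have h2 : s * t = s * 1 := by rw [mul_one]; exact hk'
        exact mul_left_cancel h2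
      exact hrefl_ne j this
  -- the group is the union of two cosets
  have hZH : Z ≤ H := (Subgroup.zpowers_le).mpr hρH
  have hset : (H : Set P.Aut) = (Z : Set P.Aut) ∪ (fun z => s * z) '' (Z : Set P.Aut) := by
    apply Set.Subset.antisymm
    · intro g hg
      have hg' : g ∈ H := hg
      clear hg
      rw [hH] at hg'
      induction hg' using Subgroup.closure_induction with
      | mem g hgm =>
        rcases hgm with rfl | rfl
        · exact Or.inr ⟨1, Z.one_mem, mul_one _⟩
        · refine Or.inr ⟨ρ, Subgroup.mem_zpowers ρ, ?_⟩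
          show s * (s * t) = t
          rw [← mul_assoc, hss, one_mul]
      | one => exact Or.inl Z.one_mem
      | mul g h hg1 hh1 ihg ihh =>
        have ihg' := ihg
        have ihh' := ihh
        rcases ihg' with hgZ | ⟨z1, hz1, rfl⟩
        · rcases ihh' with hhZ | ⟨z2, hz2, rfl⟩
          · exact Or.inl (Z.mul_mem hgZ hhZ)
          · refine Or.inr ⟨g⁻¹ * z2, Z.mul_mem (Z.inv_mem hgZ) hz2, ?_⟩
            show s * (g⁻¹ * z2) = g * (s * z2)
            rw [← hconjz g hgZ]
            simp only [mul_assoc]
            rw [← mul_assoc s s, hss, one_mul]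
        · rcases ihh' with hhZ | ⟨z2, hz2, rfl⟩
          · exact Or.inr ⟨z1 * h, Z.mul_mem hz1 hhZ, (mul_assoc _ _ _).symm⟩
          · left
            have : s * z1 * (s * z2) = z1⁻¹ * z2 := by
              rw [← hconjz z1 hz1]
              simp only [mul_assoc]
            rw [this]
            exact Z.mul_mem (Z.inv_mem hz1) hz2
      | inv g hg1 ihg =>
        have ihg' := ihg
        rcases ihg' with hgZ | ⟨z1, hz1, rfl⟩
        · exact Or.inl (Z.inv_mem hgZ)
        · refine Or.inr ⟨z1, hz1, ?_⟩
          show s * z1 = (s * z1)⁻¹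
          rw [mul_inv_rev, hsinv, ← hconjz z1 hz1]
          simp only [mul_assoc]
          rw [hss, mul_one]
    · rintro g (hg | ⟨z, hz, rfl⟩)
      · exact hZH hg
      · exact H.mul_mem hsH (hZH hz)
  have hcardZ : Nat.card Z = n := by rw [hZ, Nat.card_zpowers, hord]
  have hfinZ : Finite Z := Nat.finite_of_card_ne_zero (by rw [hcardZ]; exact hn0.ne')
  have hfinZset : (Z : Set P.Aut).Finite := Set.toFinite _
  have hdisj : Disjoint (Z : Set P.Aut) ((fun z => s * z) '' (Z : Set P.Aut)) := by
    rw [Set.disjoint_left]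
    rintro g hg ⟨z, hz, rfl⟩
    apply hsZ
    have : s = (s * z) * z⁻¹ := by rw [mul_assoc, mul_inv_cancel, mul_one]
    rw [this]
    exact Z.mul_mem hg (Z.inv_mem hz)
  have h1 : Nat.card H = (H : Set P.Aut).ncard := rfl
  rw [h1, hset, Set.ncard_union_eq hdisj hfinZset (hfinZset.image _),
    Set.ncard_image_of_injective _ (mul_right_injective s)]
  have h2 : (Z : Set P.Aut).ncard = Nat.card Z := rfl
  rw [h2, hcardZ]
  ring

end Groth.Agent.S5496
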