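import Groth.Statements.S5497
import Groth.Agent.Lib.Helper8Root2

set_option autoImplicit false
open RootD

namespace Groth.Agent.S5497

/-- For a partition of the roots into two closed symmetric subsets, whenever α, β, α + β are roots they
lie in the same part. -/
theorem result {ι M N : Type*} [AddCommGroup M] [AddCommGroup N]
    (P : RootPairing ι ℤ M N) [Finite ι] (R' : Set ι) (hc : RootD.IsClosedSub P R')
    (hs : RootD.IsSymmSub P R') (hc' : RootD.IsClosedSub P R'ᶜ) (hs' : RootD.IsSymmSub P R'ᶜ)
    (i j k : ι) (h : P.root k = P.root i + P.root j) :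
    (i ∈ R' ∧ j ∈ R' ∧ k ∈ R') ∨ (i ∉ R' ∧ j ∉ R' ∧ k ∉ R') := by
  open Groth.Agent.Lib.Helper8 in
  by_cases hi : i ∈ R'
  · left
    have hj : j ∈ R' := by
      by_contra hj
      by_cases hk : k ∈ R'
      · -- root j = root k + root (-i)
        refine hj (hc hk (hs hi) ?_)
        rw [root_neg, h]; abel
      · -- root i = root k + root (-j)
        have : i ∈ R'ᶜ := hc' hk (hs' hj) (by rw [root_neg, h]; abel)
        exact this hi
    exact ⟨hi, hj, hc hi hj h⟩
  · right
    have hj : j ∉ R' := by
      intro hj
      by_cases hk : k ∈ R'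
      · have : i ∈ R' := hc hk (hs hj) (by rw [root_neg, h]; abel)
        exact hi this
      · have : j ∈ R'ᶜ := hc' hk (hs' hi) (by rw [root_neg, h]; abel)
        exact this hj
    exact ⟨hi, hj, hc' hi hj h⟩

end Groth.Agent.S5497
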