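import Groth.Statements.S5498
import Groth.Agent.Lib.Helper8Root9
import Groth.Agent.S5487

set_option autoImplicit false
open RootD

namespace Groth.Agent.S5498

/-- If R is irreducible then so is the dual datum R^v, and long(α)·long(α^v) (equivalently ℓ(α) ℓ(α^v))
is constant on the roots. -/
theorem result {ι M N : Type*} [AddCommGroup M] [AddCommGroup N]
    (P : RootPairing ι ℤ M N) [Finite ι] [Fintype ι] [Nonempty ι]
    (hirr : ∀ R' : Set ι, RootD.IsClosedSub P R' → RootD.IsSymmSub P R' → RootD.IsClosedSub P R'ᶜ →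
      RootD.IsSymmSub P R'ᶜ → R' = ∅ ∨ R' = Set.univ) :
    (∀ R' : Set ι, RootD.IsClosedSub P.flip R' → RootD.IsSymmSub P.flip R' → RootD.IsClosedSub P.flip R'ᶜ →
      RootD.IsSymmSub P.flip R'ᶜ → R' = ∅ ∨ R' = Set.univ) ∧
    ∀ i j : ι, P.RootForm (P.root i) (P.root i) * P.CorootForm (P.coroot i) (P.coroot i) =
      P.RootForm (P.root j) (P.root j) * P.CorootForm (P.coroot j) (P.coroot j) := by
  open Groth.Agent.Lib.Helper8 in
  constructor
  · intro R' hc hs hc' hs'
    have horth : ∀ a ∈ R', ∀ c ∉ R', P.IsOrthogonal a c := by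
      intro a ha c hc0
      have := orth_of_closedSymm (P := P.flip) hc hs hc' hs' ha hc0
      exact ⟨this.2, this.1⟩
    have hsymm : IsSymmSub P R' := fun a ha => hs ha
    obtain ⟨h1, h2, h3, h4⟩ := closedSymm_of_orth hsymm horth
    exact hirr R' h1 h2 h3 h4
  · intro i j
    have hchain := connected_of_irr hirr i j
    induction hchain with
    | refl => rfl
    | tail _ hbc ih => rw [ih]; exact Groth.Agent.S5487.result P _ _ hbc

end Groth.Agent.S5498
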