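import Groth.Statements.S5499
import Groth.Agent.Lib.Helper8Root14

set_option autoImplicit false
open RootD

namespace Groth.Agent.S5499

open Groth.Agent.Lib.Helper8

variable {ι M N : Type*} [AddCommGroup M] [AddCommGroup N] {P : RootPairing ι ℤ M N}

lemma len_dvd [Finite ι] [Fintype ι]
    (hirr : ∀ R' : Set ι, IsClosedSub P R' → IsSymmSub P R' → IsClosedSub P R'ᶜ →
      IsSymmSub P R'ᶜ → R' = ∅ ∨ R' = Set.univ)
    (i₀ : ι) (hmin : ∀ i : ι, P.RootForm (P.root i₀) (P.root i₀) ≤ P.RootForm (P.root i) (P.root i))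
    (i : ι) : P.RootForm (P.root i₀) (P.root i₀) ∣ P.RootForm (P.root i) (P.root i) := by
  have h0 := rootForm_root_pos P i₀
  obtain ⟨o, ho, hoi⟩ := exists_nonorth_same_length (P := P) hirr i₀ i
  have hrel := len_rel_of_nonorth hoi
  have hm := hmin i
  rw [ho] at hrel
  rcases hrel with h | h | h | h | h | h | h
  · exact ⟨1, by omega⟩
  · exact ⟨2, by omega⟩
  · exfalso; omega
  · exact ⟨3, by omega⟩
  · exfalso; omega
  · exact ⟨4, by omega⟩
  · exfalso; omega

lemma exists_div [Finite ι] [Fintype ι]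
    (i₀ : ι) (hdvd : ∀ i, P.RootForm (P.root i₀) (P.root i₀) ∣ P.RootForm (P.root i) (P.root i))
    {x : M} (hx : x ∈ Submodule.span ℤ (Set.range P.root)) :
    ∃ y : N, P.RootForm (P.root i₀) (P.root i₀) • y = (2 : ℤ) • P.Polarization x := by
  induction hx using Submodule.span_induction with
  | mem x hx =>
    obtain ⟨i, rfl⟩ := hx
    refine ⟨(P.RootForm (P.root i) (P.root i) / P.RootForm (P.root i₀) (P.root i₀)) • P.coroot i, ?_⟩
    rw [smul_smul, Int.mul_ediv_cancel' (hdvd i), RootPairing.rootForm_self_smul_coroot,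
      two_nsmul, two_smul]
  | zero => exact ⟨0, by simp⟩
  | add x y _ _ hx hy =>
    obtain ⟨a, ha⟩ := hx
    obtain ⟨b, hb⟩ := hy
    exact ⟨a + b, by rw [smul_add, ha, hb, map_add, smul_add]⟩
  | smul c x _ hx =>
    obtain ⟨a, ha⟩ := hx
    exact ⟨c • a, by rw [smul_comm, ha, map_smul, smul_comm]⟩

/-- For an irreducible datum, where long(α) = ℓ(α)/ℓ(α₀) with ℓ(α₀) minimal: there is a unique
homomorphism u : Γ_0(R) → M^v with u(α) = long(α) α^v for every root α. -/
theorem result {ι M N : Type*} [AddCommGroup M] [AddCommGroup N]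
    (P : RootPairing ι ℤ M N) [Finite ι] [Fintype ι]
    (hirr : ∀ R' : Set ι, RootD.IsClosedSub P R' → RootD.IsSymmSub P R' → RootD.IsClosedSub P R'ᶜ →
      RootD.IsSymmSub P R'ᶜ → R' = ∅ ∨ R' = Set.univ)
    (i₀ : ι) (hmin : ∀ i : ι, P.RootForm (P.root i₀) (P.root i₀) ≤ P.RootForm (P.root i) (P.root i)) :
    ∃! u : Submodule.span ℤ (Set.range P.root) →+ N, ∀ i : ι,
      u ⟨P.root i, Submodule.subset_span (Set.mem_range_self i)⟩ =
        (P.RootForm (P.root i) (P.root i) / P.RootForm (P.root i₀) (P.root i₀)) • P.coroot i := by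
  classical
  have htf' := isAddTorsionFree' P
  have h0 := rootForm_root_pos P i₀
  have hdvd := len_dvd hirr i₀ hmin
  have hinj : Function.Injective fun y : N => P.RootForm (P.root i₀) (P.root i₀) • y :=
    zsmul_right_injective h0.ne'
  -- the map
  let F : Submodule.span ℤ (Set.range P.root) → N := fun x =>
    Classical.choose (exists_div i₀ hdvd x.2)
  have hF : ∀ x : Submodule.span ℤ (Set.range P.root),
      P.RootForm (P.root i₀) (P.root i₀) • F x = (2 : ℤ) • P.Polarization (x : M) := fun x =>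
    Classical.choose_spec (exists_div i₀ hdvd x.2)
  have hadd : ∀ a b, F (a + b) = F a + F b := by
    intro a b
    apply hinj
    show P.RootForm (P.root i₀) (P.root i₀) • F (a + b) =
      P.RootForm (P.root i₀) (P.root i₀) • (F a + F b)
    rw [smul_add, hF, hF, hF, Submodule.coe_add, map_add, smul_add]
  refine ⟨AddMonoidHom.mk' F hadd, ?_, ?_⟩
  · intro i
    apply hinj
    show P.RootForm (P.root i₀) (P.root i₀) • F _ = P.RootForm (P.root i₀) (P.root i₀) • _
    rw [hF, smul_smul, Int.mul_ediv_cancel' (hdvd i), RootPairing.rootForm_self_smul_coroot,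
      two_nsmul, two_smul]
  · intro u' hu'
    ext ⟨x, hx⟩
    show u' ⟨x, hx⟩ = F ⟨x, hx⟩
    apply hinj
    show P.RootForm (P.root i₀) (P.root i₀) • u' ⟨x, hx⟩ =
      P.RootForm (P.root i₀) (P.root i₀) • F ⟨x, hx⟩
    rw [hF]
    induction hx using Submodule.span_induction with
    | mem x hx =>
      obtain ⟨i, rfl⟩ := hx
      rw [hu' i, smul_smul, Int.mul_ediv_cancel' (hdvd i), RootPairing.rootForm_self_smul_coroot,
        two_nsmul, two_smul]
    | zero =>
      have : (⟨0, Submodule.zero_mem _⟩ : Submodule.span ℤ (Set.range P.root)) = 0 := rfl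
      rw [this, map_zero]
      simp
    | add x y hx hy ihx ihy =>
      have : (⟨x + y, Submodule.add_mem _ hx hy⟩ : Submodule.span ℤ (Set.range P.root)) =
          ⟨x, hx⟩ + ⟨y, hy⟩ := rfl
      rw [this, map_add, smul_add, ihx, ihy, Submodule.coe_add, map_add, smul_add]
    | smul c x hx ihx =>
      have : (⟨c • x, Submodule.smul_mem _ c hx⟩ : Submodule.span ℤ (Set.range P.root)) =
          c • ⟨x, hx⟩ := rfl
      rw [this, map_zsmul, smul_comm, ihx, Submodule.coe_smul, map_smul, smul_comm]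

end Groth.Agent.S5499
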