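import Groth.Statements.S5500
import Groth.Agent.Lib.Helper8Root9

set_option autoImplicit false
open RootD

namespace Groth.Agent.S5500

open Groth.Agent.Lib.Helper8

/-- For two roots `i`, `j`: `p_ij ℓ_j = p_ji ℓ_i`. -/
lemma pairing_mul_len {ι M N : Type*} [AddCommGroup M] [AddCommGroup N]
    (P : RootPairing ι ℤ M N) [Fintype ι] (i j : ι) :
    P.pairing i j * P.RootForm (P.root j) (P.root j) =
      P.pairing j i * P.RootForm (P.root i) (P.root i) := by
  have h1 := two_mul_rootForm P i j
  have h2 := two_mul_rootForm P j i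
  have hs := (P.rootForm_symmetric).eq (P.root i) (P.root j)
  simp only [RingHom.id_apply] at hs
  rw [← h1, ← h2, hs]

/-- For a p-morphism between irreducible reduced root data there is a rational constant k with k ·
long(u(α)) = q(α)² · long(α) for every root α; stated as the proportionality q(α)² ℓ(α) ℓ'(u β) =
q(β)² ℓ(β) ℓ'(u α) of the canonical quadratic forms. -/
theorem result {ι M N ι' M' N' : Type*} [AddCommGroup M] [AddCommGroup N] [AddCommGroup M'] [AddCommGroup N']
    (P : RootPairing ι ℤ M N) (P' : RootPairing ι' ℤ M' N') [Finite ι] [Finite ι'] [Fintype ι] [Fintype ι'] [P.IsReduced] [P'.IsReduced]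
    (hirr : ∀ R₁ : Set ι, RootD.IsClosedSub P R₁ → RootD.IsSymmSub P R₁ → RootD.IsClosedSub P R₁ᶜ →
      RootD.IsSymmSub P R₁ᶜ → R₁ = ∅ ∨ R₁ = Set.univ)
    (hirr' : ∀ R₁ : Set ι', RootD.IsClosedSub P' R₁ → RootD.IsSymmSub P' R₁ → RootD.IsClosedSub P' R₁ᶜ →
      RootD.IsSymmSub P' R₁ᶜ → R₁ = ∅ ∨ R₁ = Set.univ)
    (p : ℕ) (hp : 0 < p) (f : M' →ₗ[ℤ] M) (g : N →ₗ[ℤ] N')
    (hfg : ∀ (m' : M') (n : N), P.toLinearMap (f m') n = P'.toLinearMap m' (g n))
    (u : ι ≃ ι') (q : ι → ℕ) (hq : ∀ i, ∃ e : ℕ, q i = p ^ e)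
    (hroot : ∀ i : ι, f (P'.root (u i)) = (q i : ℤ) • P.root i)
    (hcoroot : ∀ i : ι, g (P.coroot i) = (q i : ℤ) • P'.coroot (u i)) (i j : ι) :
    ((q i : ℤ) ^ 2 * P.RootForm (P.root i) (P.root i)) * P'.RootForm (P'.root (u j)) (P'.root (u j)) =
      ((q j : ℤ) ^ 2 * P.RootForm (P.root j) (P.root j)) * P'.RootForm (P'.root (u i)) (P'.root (u i)) := by
  classical
  -- the invariant
  set c : ι → ℚ := fun i =>
    ((q i : ℚ) ^ 2 * P.RootForm (P.root i) (P.root i)) / P'.RootForm (P'.root (u i)) (P'.root (u i))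
    with hc
  have hℓ : ∀ i, (0 : ℚ) < P.RootForm (P.root i) (P.root i) := fun i => by
    exact_mod_cast rootForm_root_pos P i
  have hℓ' : ∀ i', (0 : ℚ) < P'.RootForm (P'.root i') (P'.root i') := fun i' => by
    exact_mod_cast rootForm_root_pos P' i'
  have hqpos : ∀ i, (0 : ℚ) < q i := fun i => by
    obtain ⟨e, he⟩ := hq i
    rw [he]
    exact_mod_cast pow_pos hp e
  -- the transposition relation
  have hb : ∀ i j : ι, (q j : ℤ) * P'.pairing (u i) (u j) = (q i : ℤ) * P.pairing i j := by
    intro i j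
    have h1 := hfg (P'.root (u i)) (P.coroot j)
    rw [hroot, hcoroot] at h1
    simp only [map_smul, LinearMap.smul_apply, smul_eq_mul, RootPairing.root_coroot_eq_pairing]
      at h1
    exact h1.symm
  have hstep : ∀ i j : ι, ¬ P.IsOrthogonal i j → c i = c j := by
    intro i j hij
    have hA : P.pairing i j ≠ 0 := fun h => hij (orth_of_pairing_eq_zero h)
    have hB : P.pairing j i ≠ 0 := fun h => hij (orth_of_pairing_eq_zero h).symm
    have ha := pairing_mul_len P i j
    have ha' := pairing_mul_len P' (u i) (u j)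
    have hb1 := hb i j
    have hb2 := hb j i
    have hA' : P'.pairing (u i) (u j) ≠ 0 := by
      intro h
      rw [h, mul_zero] at hb1
      have hqi : (q i : ℤ) ≠ 0 := by
        have := hqpos i
        exact_mod_cast this.ne'
      exact hA ((mul_eq_zero.mp hb1.symm).resolve_left hqi)
    rw [hc]
    simp only
    rw [div_eq_div_iff (hℓ' _).ne' (hℓ' _).ne']
    have key : ((q i : ℤ) ^ 2 * P.RootForm (P.root i) (P.root i)) *
        P'.RootForm (P'.root (u j)) (P'.root (u j)) =
        ((q j : ℤ) ^ 2 * P.RootForm (P.root j) (P.root j)) *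
        P'.RootForm (P'.root (u i)) (P'.root (u i)) := by
      have hne : P.pairing j i * P'.pairing (u i) (u j) ≠ 0 := mul_ne_zero hB hA'
      apply mul_left_cancel₀ hne
      linear_combination
        ((q i : ℤ) ^ 2 * P'.RootForm (P'.root (u j)) (P'.root (u j)) * P'.pairing (u i) (u j)) * (-ha)
        + ((q i : ℤ) ^ 2 * P.pairing i j * P.RootForm (P.root j) (P.root j)) * ha'
        + ((q i : ℤ) * P.pairing i j * P.RootForm (P.root j) (P.root j) *
            P'.RootForm (P'.root (u i)) (P'.root (u i))) * hb2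
        + ((q j : ℤ) * P.pairing j i * P.RootForm (P.root j) (P.root j) *
            P'.RootForm (P'.root (u i)) (P'.root (u i))) * (-hb1)
    exact_mod_cast key
  have hconn := connected_of_irr (P := P) hirr i j
  have hcij : c i = c j := by
    induction hconn with
    | refl => rfl
    | tail _ hbc ih => exact ih.trans (hstep _ _ hbc)
  rw [hc] at hcij
  simp only at hcij
  rw [div_eq_div_iff (hℓ' _).ne' (hℓ' _).ne'] at hcij
  exact_mod_cast hcij

end Groth.Agent.S5500
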