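import Groth.Statements.S5502
import Groth.Agent.Lib.Helper8Root10

set_option autoImplicit false
open RootD

namespace Groth.Agent.S5502

open Groth.Agent.Lib.Helper8

variable {ι M N : Type*} [AddCommGroup M] [AddCommGroup N] {P : RootPairing ι ℤ M N}

/-- The coefficient relation. -/
lemma coeff_rel [Finite ι] [Fintype ι] {Δ : Set ι} (hΔ : IsSimpleSys P Δ)
    (k : ι) (c : ι →₀ ℤ) (hc : ↑c.support ⊆ Δ)
    (hck : Finsupp.linearCombination ℤ P.root c = P.root k) (i : ι) (hi : i ∈ Δ) :
    ∃ d m : ℤ, (m = 1 ∨ m = 2) ∧ (m = 1 ↔ IsIndiv P.flip i) ∧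
      P.RootForm (P.root k) (P.root k) * d = c i * P.RootForm (P.root i) (P.root i) * m := by
  classical
  have hΔ' := isSimpleSys_flip_indCo hΔ
  obtain ⟨j, hj, m, hm, h1, h2, h3⟩ := exists_indCo (P := P) hi
  obtain ⟨ψ, hψ1, hψ2, hψ3⟩ := simple_exists_coord hΔ' hj
  -- the coordinate of the coroot of `k` is an integer
  have hd : ∃ d : ℤ, ψ (P.coroot k) = d := by
    rcases hΔ'.mem_or_neg_mem k with h | h
    · obtain ⟨n, hn⟩ := hψ3 _ h
      exact ⟨n, by simpa using hn⟩
    · obtain ⟨n, hn⟩ := hψ3 _ h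
      refine ⟨-n, ?_⟩
      have : ψ (-P.coroot k) = n := hn
      rw [map_neg] at this
      push_cast
      linarith
  obtain ⟨d, hd⟩ := hd
  refine ⟨d, m, hm, h3, ?_⟩
  -- apply ψ ∘ 2 Pol to the decomposition
  let T : M →+ ℚ := ψ.comp (((2 : ℤ) • P.Polarization).toAddMonoidHom)
  have hpol : ∀ i' : ι, T (P.root i') =
      P.RootForm (P.root i') (P.root i') * ψ (P.coroot i') := by
    intro i'
    show ψ ((2 : ℤ) • P.Polarization (P.root i')) = _
    rw [two_smul ℤ, ← two_nsmul, ← RootPairing.rootForm_self_smul_coroot, map_zsmul]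
    simp
  have hother : ∀ i' ∈ Δ, i' ≠ i → ψ (P.coroot i') = 0 := by
    intro i' hi' hne
    obtain ⟨j', hj', m', hm', h1', h2', -⟩ := exists_indCo (P := P) hi'
    have hjj : j' ≠ j := by
      rintro rfl
      obtain ⟨φ, hφ1, hφ2, -⟩ := simple_exists_coord hΔ hi
      have e1 := congrArg φ h1
      have e2 := congrArg φ h1'
      rw [map_zsmul, hφ1] at e1
      rw [map_zsmul, hφ2 i' hi' hne, smul_zero] at e2
      rw [e2] at e1
      rcases hm with rfl | rfl <;> norm_num at e1
    have : ψ (P.coroot j') = 0 := hψ2 j' hj' hjj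
    rw [h2', map_zsmul, this, smul_zero]
  have hsum : T (P.root k) = c i * P.RootForm (P.root i) (P.root i) * m := by
    rw [← hck, Finsupp.linearCombination_apply, Finsupp.sum, map_sum]
    rw [Finset.sum_eq_single i]
    · rw [map_zsmul, hpol, h2, map_zsmul]
      have : ψ (P.coroot j) = 1 := hψ1
      rw [this]
      simp
      ring
    · intro i' hi' hne
      rw [map_zsmul, hpol, hother i' (hc hi') hne]
      simp
    · intro hni
      have : c i = 0 := by simpa using hni
      rw [this]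
      simp
  have hk := hpol k
  rw [hsum, hd] at hk
  have : ((c i * P.RootForm (P.root i) (P.root i) * m : ℤ) : ℚ) =
      ((P.RootForm (P.root k) (P.root k) * d : ℤ) : ℚ) := by
    push_cast
    exact hk
  exact (Int.cast_injective this).symm

/-- If β = Σ_{α ∈ Δ} a_α α along a system of simple roots Δ, then ℓ(β) divides 2 a_α ℓ(α), and 2ℓ(β)
divides it when α^v is indivisible (ℓ the canonical quadratic form). -/
theorem result {ι M N : Type*} [AddCommGroup M] [AddCommGroup N]
    (P : RootPairing ι ℤ M N) [Finite ι] [Fintype ι] (Δ : Set ι) (hΔ : RootD.IsSimpleSys P Δ)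
    (k : ι) (c : ι →₀ ℤ) (hc : ↑c.support ⊆ Δ) (hck : Finsupp.linearCombination ℤ P.root c = P.root k)
    (i : ι) (hi : i ∈ Δ) :
    P.RootForm (P.root k) (P.root k) ∣ 2 * c i * P.RootForm (P.root i) (P.root i) ∧
      (RootD.IsIndiv P.flip i → 2 * P.RootForm (P.root k) (P.root k) ∣ 2 * c i * P.RootForm (P.root i) (P.root i)) := by
  obtain ⟨d, m, hm, hind, hrel⟩ := coeff_rel hΔ k c hc hck i hi
  constructor
  · rcases hm with rfl | rfl
    · exact ⟨2 * d, by rw [mul_one] at hrel; linear_combination (-2 : ℤ) * hrel⟩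
    · exact ⟨d, by linear_combination (-1 : ℤ) * hrel⟩
  · intro hi'
    have hm1 : m = 1 := hind.mpr hi'
    subst hm1
    exact ⟨d, by rw [mul_one] at hrel; linear_combination (-2 : ℤ) * hrel⟩

end Groth.Agent.S5502
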