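import Groth.Statements.S5503
import Mathlib.LinearAlgebra.RootSystem.WeylGroup

set_option autoImplicit false
open RootPairing
open scoped Pointwise
open RootD

namespace Groth.Agent.S5503

lemma pairing_transpose {ι M N : Type*} [AddCommGroup M] [AddCommGroup N]
    (P : RootPairing ι ℤ M N) (u : P.Aut) (y : M) (n : N) :
    P.toLinearMap (u.weightMap y) n = P.toLinearMap y (u.coweightMap n) := by
  have := Hom.weight_coweight_transpose_apply P P n u.toHom
  have h2 := LinearMap.congr_fun this y
  simpa using h2

/-- For an automorphism u of a root datum and a root α, u s_α u⁻¹ = s_{u(α)}; hence W(R) is a normal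
subgroup of Aut(R). -/
theorem result {ι M N : Type*} [AddCommGroup M] [AddCommGroup N]
    (P : RootPairing ι ℤ M N) [Finite ι] (u : P.Aut) (i : ι) :
    u * Equiv.reflection P i * u⁻¹ = Equiv.reflection P (u • i) := by
  apply Equiv.weightHom_injective
  ext x
  have hx : x = u • (u⁻¹ • x) := by simp
  set y := u⁻¹ • x with hy
  show u • (Equiv.reflection P i • y) = P.reflection (u • i) x
  rw [hx]
  simp only [Equiv.reflection_smul, reflection_apply, smul_sub, smul_comm u]
  have h1 : u • P.root i = P.root (u • i) := (Equiv.root_indexEquiv_eq_smul P i u).symm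
  rw [h1]
  congr 2
  have h2 := pairing_transpose P u y (P.coroot (u • i))
  have h3 : u.coweightMap (P.coroot (u • i)) = P.coroot i := by
    have := Hom.coroot_coweightMap_apply P P (u • i) u.toHom
    rw [this]
    congr 1
    exact u.indexEquiv.symm_apply_apply i
  rw [h3] at h2
  exact h2.symm

end Groth.Agent.S5503
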