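import Groth.Statements.S5505
import Groth.Agent.Lib.Helper8Root2
import Groth.Agent.S5497

set_option autoImplicit false
open RootD

namespace Groth.Agent.S5505

/-- A subset of roots which, together with its complement, is closed and symmetric contains with any
root every root not orthogonal to it; so it is a union of irreducible components. -/
theorem result {ι M N : Type*} [AddCommGroup M] [AddCommGroup N]
    (P : RootPairing ι ℤ M N) [Finite ι] (R' : Set ι) (hc : RootD.IsClosedSub P R')
    (hs : RootD.IsSymmSub P R') (hc' : RootD.IsClosedSub P R'ᶜ) (hs' : RootD.IsSymmSub P R'ᶜ)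
    (i j : ι) (hi : i ∈ R') (hij : ¬ P.IsOrthogonal i j) : j ∈ R' := by
  open Groth.Agent.Lib.Helper8 in
  by_cases hij' : i = j
  · exact hij' ▸ hi
  have hpair : P.pairing i j ≠ 0 := by
    intro h0
    exact hij ⟨h0, (pairing_eq_zero_iff' P i j).mp h0⟩
  rcases lt_or_gt_of_ne hpair with hneg | hpos
  · by_cases hn : P.root i = - P.root j
    · have : j = P.reflectionPerm i i := by
        apply P.root.injective
        rw [root_neg, hn, neg_neg]
      rw [this]
      exact hs hi
    · obtain ⟨k, hk⟩ := add_mem P hneg hn
      rcases Groth.Agent.S5497.result P R' hc hs hc' hs' i j k hk with h | h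
      · exact h.2.1
      · exact absurd hi h.1
  · obtain ⟨k, hk⟩ := sub_mem P hpos hij'
    rcases Groth.Agent.S5497.result P R' hc hs hc' hs' k j i (by rw [hk]; abel) with h | h
    · exact h.2.1
    · exact absurd hi h.2.2

end Groth.Agent.S5505
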