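import Groth.Statements.S5506
import Groth.Agent.Lib.Helper8Root2

set_option autoImplicit false
open RootD

namespace Groth.Agent.S5506

open Groth.Agent.Lib.Helper8 in
lemma nonorth_neg {ι M N : Type*} [AddCommGroup M] [AddCommGroup N]
    (P : RootPairing ι ℤ M N) (a : ι) : ¬ P.IsOrthogonal a (P.reflectionPerm a a) := by
  intro h
  have := h.1
  simp at this

open Groth.Agent.Lib.Helper8 in
lemma nonorth_of_add {ι M N : Type*} [AddCommGroup M] [AddCommGroup N]
    (P : RootPairing ι ℤ M N) [Finite ι] {a b k : ι} (hk : P.root k = P.root a + P.root b) :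
    ¬ P.IsOrthogonal a k ∨ ¬ P.IsOrthogonal b k := by
  let _ := Fintype.ofFinite ι
  have h1 := rootForm_root_pos P k
  have h2 : P.RootForm (P.root k) (P.root k) =
      P.RootForm (P.root k) (P.root a) + P.RootForm (P.root k) (P.root b) := by
    have : P.RootForm (P.root k) (P.root a + P.root b) =
      P.RootForm (P.root k) (P.root a) + P.RootForm (P.root k) (P.root b) := map_add _ _ _
    rw [← this, ← hk]
  by_contra hcon
  push Not at hcon
  have ha : P.RootForm (P.root k) (P.root a) = 0 := by
    have := two_mul_rootForm P k a
    rw [hcon.1.2] at this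
    linarith
  have hb : P.RootForm (P.root k) (P.root b) = 0 := by
    have := two_mul_rootForm P k b
    rw [hcon.2.2] at this
    linarith
  linarith

/-- The class of a root under 'joined by a chain of pairwise non-orthogonal roots' is closed and
symmetric, and so is its complement; these classes are the irreducible components. -/
theorem result {ι M N : Type*} [AddCommGroup M] [AddCommGroup N]
    (P : RootPairing ι ℤ M N) [Finite ι] (i : ι) :
    RootD.IsClosedSub P {j : ι | Relation.ReflTransGen (fun a b : ι => ¬ P.IsOrthogonal a b) i j} ∧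
      RootD.IsSymmSub P {j : ι | Relation.ReflTransGen (fun a b : ι => ¬ P.IsOrthogonal a b) i j} ∧
      RootD.IsClosedSub P {j : ι | Relation.ReflTransGen (fun a b : ι => ¬ P.IsOrthogonal a b) i j}ᶜ ∧
      RootD.IsSymmSub P {j : ι | Relation.ReflTransGen (fun a b : ι => ¬ P.IsOrthogonal a b) i j}ᶜ := by
  open Groth.Agent.Lib.Helper8 in
  refine ⟨?_, ?_, ?_, ?_⟩
  · intro a b k ha hb hk
    rcases nonorth_of_add P hk with h | h
    · exact Relation.ReflTransGen.tail ha h
    · exact Relation.ReflTransGen.tail hb h
  · intro a ha
    exact Relation.ReflTransGen.tail ha (nonorth_neg P a)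
  · intro a b k ha hb hk hkC
    rcases nonorth_of_add P hk with h | h
    · exact ha (Relation.ReflTransGen.tail hkC (fun h' => h h'.symm))
    · exact hb (Relation.ReflTransGen.tail hkC (fun h' => h h'.symm))
  · intro a ha hna
    exact ha (Relation.ReflTransGen.tail hna (fun h' => nonorth_neg P a h'.symm))

end Groth.Agent.S5506
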