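import Groth.Statements.S5580
import Groth.Agent.Lib.Helper9QC

set_option autoImplicit false
open CategoryTheory CategoryTheory.Limits Opposite
universe u
open ToposFin

namespace Groth.Agent.S5580

/-- Quasi-compact and coherent cases: for the topos of sheaves of sets on a small site: let (X_i) be a
finite family of objects with coproduct X (given as a colimit cofan) and f : X -> Y a morphism with
components f_i : X_i -> Y. Then f is quasi-compact (resp. coherent) if and only if every f_i is. -/
theorem result {C : Type u} [SmallCategory C] {J : GrothendieckTopology C}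
    {Y : ToposFin.Sh J} {n : ℕ} (X : Fin n → ToposFin.Sh J) (c : Cofan X) (hc : IsColimit c)
    (f : c.pt ⟶ Y) :
    (ToposFin.IsQCHom f ↔ ∀ i, ToposFin.IsQCHom (c.inj i ≫ f)) ∧
    (ToposFin.IsCohHom f ↔ ∀ i, ToposFin.IsCohHom (c.inj i ≫ f)) := by
  open Groth.Agent.Lib.Helper9 in
  have hc' := cofanReindexIsColimit (Equiv.ulift.{u} (α := Fin n)) c hc
  have hqc : ToposFin.IsQCHom f ↔ ∀ i, ToposFin.IsQCHom (c.inj i ≫ f) := by
    constructor
    · intro hf i
      exact IsQCHom.comp (isQCHom_cofan_inj _ hc' ⟨i⟩) hf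
    · intro h T t hT
      exact isQC_pullback_of_finite_cover_left f t c.inj (jEpi_of_isColimit c hc)
        fun k => h k T t hT
  have hqs : ToposFin.IsQSHom f ↔ ∀ i, ToposFin.IsQSHom (c.inj i ≫ f) := by
    rw [isQSHom_cofan_iff _ hc' f]
    exact ⟨fun h i => h ⟨i⟩, fun h i => h i.down⟩
  refine ⟨hqc, ?_⟩
  constructor
  · intro h i
    exact ⟨hqc.1 h.1 i, hqs.1 h.2 i⟩
  · intro h
    exact ⟨hqc.2 fun i => (h i).1, hqs.2 fun i => (h i).2⟩

end Groth.Agent.S5580
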