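import Groth.Statements.S5585
import Groth.Agent.Lib.Helper9QC2

set_option autoImplicit false
open CategoryTheory CategoryTheory.Limits Opposite
universe u
open ToposFin

namespace Groth.Agent.S5585

/-- For an algebraic topos of sheaves of sets on a small site and a morphism f : X -> Y: if Y is
quasi-separated (resp. coherent), then X is quasi-separated (resp. coherent) if and only if f is a
quasi-separated (resp. coherent) morphism. -/
theorem result {C : Type u} [SmallCategory C] {J : GrothendieckTopology C}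
    (hE : ToposFin.IsAlgebraic J) {X Y : ToposFin.Sh J} (f : X ⟶ Y) :
    (ToposFin.IsQS Y → (ToposFin.IsQS X ↔ ToposFin.IsQSHom f)) ∧
    (ToposFin.IsCoherent Y → (ToposFin.IsCoherent X ↔ ToposFin.IsCohHom f)) := by
  open Groth.Agent.Lib.Helper9 in
  have hdiag : ∀ {A B : ToposFin.Sh J} (φ : A ⟶ B), ToposFin.IsQSHom φ → ToposFin.IsQS B →
      ToposFin.IsQS A := by
    intro A B φ hφ hB P Q a b hP hQ
    exact IsQCHom.isQC_of_isPullback hφ (pullback_map_diagonal_isPullback a b φ)
      (hB P Q (a ≫ φ) (b ≫ φ) hP hQ)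
  refine ⟨fun hY => ⟨fun hX => isQSHom_of_isQS_of_isAlgebraic hE f hX, fun hf => hdiag f hf hY⟩,
    fun hY => ⟨fun hX => ⟨isQCHom_of_isQC_of_isQS f hX.1 hY.2,
      isQSHom_of_isQS_of_isAlgebraic hE f hX.2⟩, fun hf => ⟨isQC_of_isQCHom f hf.1 hY.1,
        hdiag f hf.2 hY.2⟩⟩⟩

end Groth.Agent.S5585
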