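import Groth.Statements.S5594
import Groth.Agent.Lib.Helper3IndEtDesc
import Groth.Agent.Lib.Helper3IndEtHz
import Mathlib

set_option autoImplicit false
open CategoryTheory CategoryTheory.Limits AlgebraicGeometry Opposite
universe u
open EtDesc

namespace Groth.Agent.S5594

open IsLocalRing Groth.Agent.Lib.Helper3.IndEt in
-- maps from an ind-etale algebra to a henselian local ring are determined by the residue map
theorem ringHom_ext_of_isIndEtale {O R R' : Type u} [CommRing O] [CommRing R] [Algebra O R]
    (hind : EtPBC.IsIndEtale O R) [CommRing R'] [HenselianLocalRing R'] (φ₁ φ₂ : R →+* R')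
    (h1 : φ₁.comp (algebraMap O R) = φ₂.comp (algebraMap O R))
    (h2 : (residue R').comp φ₁ = (residue R').comp φ₂) : φ₁ = φ₂ := by
  letI : Algebra O R' := (φ₁.comp (algebraMap O R)).toAlgebra
  letI : Algebra O (ResidueField R') :=
    ((residue R').comp (φ₁.comp (algebraMap O R))).toAlgebra
  let uT : R' →ₐ[O] ResidueField R' := { residue R' with commutes' := fun b => rfl }
  let f₁ : R →ₐ[O] R' := { φ₁ with commutes' := fun b => rfl }
  let f₂ : R →ₐ[O] R' := { φ₂ with commutes' := fun b => (RingHom.congr_fun h1 b).symm }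
  obtain ⟨g, hg, hguniq⟩ := existsUnique_algHom_of_isIndEtale hind uT residue_surjective
    (ker_residue (R := R')) (uT.comp f₁)
  have e1 : f₁ = g := hguniq f₁ rfl
  have e2 : f₂ = g := hguniq f₂ (AlgHom.ext fun r => (RingHom.congr_fun h2 r).symm)
  have : f₁ = f₂ := e1.trans e2.symm
  ext r
  exact congr($this r)

open IsLocalRing Groth.Agent.Lib.Helper3.IndEt in
-- maps from an ind-etale algebra to a henselian local ring exist with prescribed residue map
theorem exists_ringHom_of_isIndEtale {O R R' : Type u} [CommRing O] [CommRing R] [Algebra O R]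
    (hind : EtPBC.IsIndEtale O R) [CommRing R'] [HenselianLocalRing R'] (α : O →+* R')
    (η : R →+* ResidueField R') (hη : η.comp (algebraMap O R) = (residue R').comp α) :
    ∃ φ : R →+* R', φ.comp (algebraMap O R) = α ∧ (residue R').comp φ = η := by
  letI : Algebra O R' := α.toAlgebra
  letI : Algebra O (ResidueField R') := ((residue R').comp α).toAlgebra
  let uT : R' →ₐ[O] ResidueField R' := { residue R' with commutes' := fun b => rfl }
  let uS : R →ₐ[O] ResidueField R' := { η with commutes' := fun b => RingHom.congr_fun hη b }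
  obtain ⟨g, hg, -⟩ := existsUnique_algHom_of_isIndEtale hind uT residue_surjective
    (ker_residue (R := R')) uS
  refine ⟨g.toRingHom, ?_, ?_⟩
  · ext b; exact g.commutes b
  · ext r; exact congr($hg r)

/-- Let X be a scheme, x, x' points of X with strict localisations Spec R -> X and Spec R' -> X, and ξ'
: Spec κ(R') -> Spec R' the closed point, a geometric point of X over x'. Then restricting along ξ'
is a bijection from the X-morphisms Spec R' -> Spec R (specialization arrows) onto the X-morphisms
from the geometric point Spec κ(R') to Spec R: injectivity and surjectivity are stated separately. -/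
theorem result (X : Scheme.{u}) (x x' : X)
    (R : Type u) [CommRing R] [IsLocalRing R] [Algebra (X.presheaf.stalk x) R]
    [IsLocalHom (algebraMap (X.presheaf.stalk x) R)] [Hensel.IsStrictHenselization (X.presheaf.stalk x) R]
    (R' : Type u) [CommRing R'] [IsLocalRing R'] [Algebra (X.presheaf.stalk x') R']
    [IsLocalHom (algebraMap (X.presheaf.stalk x') R')] [Hensel.IsStrictHenselization (X.presheaf.stalk x') R'] :
    (∀ g₁ g₂ : Spec (CommRingCat.of R') ⟶ Spec (CommRingCat.of R),
      g₁ ≫ Hens2.specOf X x R = Hens2.specOf X x' R' → g₂ ≫ Hens2.specOf X x R = Hens2.specOf X x' R' →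
      Spec.map (CommRingCat.ofHom (IsLocalRing.residue R')) ≫ g₁ =
        Spec.map (CommRingCat.ofHom (IsLocalRing.residue R')) ≫ g₂ → g₁ = g₂) ∧
    (∀ h : Spec (CommRingCat.of (IsLocalRing.ResidueField R')) ⟶ Spec (CommRingCat.of R),
      h ≫ Hens2.specOf X x R = Hens2.geomPt X x' R' →
      ∃ g : Spec (CommRingCat.of R') ⟶ Spec (CommRingCat.of R),
        g ≫ Hens2.specOf X x R = Hens2.specOf X x' R' ∧
        Spec.map (CommRingCat.ofHom (IsLocalRing.residue R')) ≫ g = h) := by
  have hind : EtPBC.IsIndEtale (X.presheaf.stalk x) R :=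
    Groth.Agent.Lib.Helper3.IndEt.isIndEtale_of_isStrictHenselization _ R
  haveI : HenselianLocalRing R' :=
    (inferInstance : Hensel.IsStrictHenselization (X.presheaf.stalk x') R').henselian
  constructor
  · intro g₁ g₂ h₁ h₂ hres
    obtain ⟨φ₁, rfl⟩ : ∃ φ₁, g₁ = Spec.map φ₁ := ⟨Spec.preimage g₁, (Spec.map_preimage g₁).symm⟩
    obtain ⟨φ₂, rfl⟩ : ∃ φ₂, g₂ = Spec.map φ₂ := ⟨Spec.preimage g₂, (Spec.map_preimage g₂).symm⟩
    have e1 : Spec.map φ₁ ≫ Spec.map (CommRingCat.ofHom (algebraMap (X.presheaf.stalk x) R))
        = Spec.map φ₂ ≫ Spec.map (CommRingCat.ofHom (algebraMap (X.presheaf.stalk x) R)) := by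
      rw [← cancel_mono (X.fromSpecStalk x), Category.assoc, Category.assoc]
      exact h₁.trans h₂.symm
    rw [← Spec.map_comp, ← Spec.map_comp] at e1
    have e2 := Spec.map_injective e1
    rw [← Spec.map_comp, ← Spec.map_comp] at hres
    have e3 := Spec.map_injective hres
    have key : φ₁.hom = φ₂.hom := by
      apply ringHom_ext_of_isIndEtale hind
      · ext b
        exact congr($(e2).hom b)
      · ext r
        exact congr($(e3).hom r)
    congr 1
    ext r
    exact congr($key r)
  · intro h hh
    obtain ⟨η, rfl⟩ : ∃ η, h = Spec.map η := ⟨Spec.preimage h, (Spec.map_preimage h).symm⟩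
    -- `x'` is a generization of `x`
    have hsp : x' ⤳ x := by
      obtain ⟨pt⟩ : Nonempty (Spec (CommRingCat.of (IsLocalRing.ResidueField R'))) :=
        ⟨IsLocalRing.closedPoint (IsLocalRing.ResidueField R')⟩
      have h1 := congr(($hh).base pt)
      have hL : (Spec.map η ≫ Hens2.specOf X x R).base pt ∈ Set.range (X.fromSpecStalk x) :=
        ⟨(Spec.map η ≫ Spec.map (CommRingCat.ofHom (algebraMap (X.presheaf.stalk x) R))).base pt,
          rfl⟩
      rw [Scheme.range_fromSpecStalk] at hL
      have hR : (Hens2.geomPt X x' R').base pt = x' := by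
        have hpt : pt = IsLocalRing.closedPoint (IsLocalRing.ResidueField R') :=
          Subsingleton.elim _ _
        show (X.fromSpecStalk x') (PrimeSpectrum.comap (algebraMap (X.presheaf.stalk x') R')
          (PrimeSpectrum.comap (IsLocalRing.residue R') pt)) = x'
        rw [hpt, IsLocalRing.comap_closedPoint, IsLocalRing.comap_closedPoint]
        exact Scheme.fromSpecStalk_closedPoint
      rw [h1, hR] at hL
      exact hL
    have e1 : Spec.map η ≫ Spec.map (CommRingCat.ofHom (algebraMap (X.presheaf.stalk x) R))
        = Spec.map (CommRingCat.ofHom (IsLocalRing.residue R')) ≫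
          Spec.map (CommRingCat.ofHom (algebraMap (X.presheaf.stalk x') R')) ≫
          Spec.map (X.presheaf.stalkSpecializes hsp) := by
      rw [← cancel_mono (X.fromSpecStalk x), Category.assoc, Category.assoc, Category.assoc,
        Scheme.SpecMap_stalkSpecializes_fromSpecStalk]
      exact hh
    rw [← Spec.map_comp, ← Spec.map_comp, ← Spec.map_comp] at e1
    have e2 := Spec.map_injective e1
    obtain ⟨φ, hφ1, hφ2⟩ := exists_ringHom_of_isIndEtale hind
      ((algebraMap (X.presheaf.stalk x') R').comp (X.presheaf.stalkSpecializes hsp).hom) η.hom (by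
        ext b
        exact congr($(e2).hom b))
    refine ⟨Spec.map (CommRingCat.ofHom φ), ?_, ?_⟩
    · show Spec.map (CommRingCat.ofHom φ) ≫
        Spec.map (CommRingCat.ofHom (algebraMap (X.presheaf.stalk x) R)) ≫ X.fromSpecStalk x = _
      rw [← Category.assoc, ← Spec.map_comp]
      have e3 : CommRingCat.ofHom (algebraMap (X.presheaf.stalk x) R) ≫ CommRingCat.ofHom φ
          = X.presheaf.stalkSpecializes hsp ≫
            CommRingCat.ofHom (algebraMap (X.presheaf.stalk x') R') := by
        ext b
        exact congr($hφ1 b)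
      rw [e3, Spec.map_comp, Category.assoc, Scheme.SpecMap_stalkSpecializes_fromSpecStalk]
      rfl
    · rw [← Spec.map_comp]
      congr 1
      ext r
      exact congr($hφ2 r)

end Groth.Agent.S5594
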