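import Groth.Statements.S5593
import Groth.Agent.Lib.Helper3IndEtDesc
import Groth.Agent.Lib.Helper3IndEtHz
import Groth.Agent.Lib.Helper3IndEtField
import Groth.Agent.Lib.Helper3HzP
import Groth.Agent.S0733
import Groth.Agent.S5594
import Mathlib

set_option autoImplicit false
open CategoryTheory CategoryTheory.Limits AlgebraicGeometry Opposite
universe u
open EtDesc

namespace Groth.Agent.S5593

open TensorProduct Groth.Agent.Lib.Helper3.IndEt in
-- a faithfully flat ind-etale algebra admits a point in every separably closed field over the base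
theorem exists_ringHom_sepClosed {O R Ω : Type u} [CommRing O] [CommRing R] [Algebra O R]
    (hind : EtPBC.IsIndEtale O R) [Module.FaithfullyFlat O R] [Field Ω] [IsSepClosed Ω]
    (β : O →+* Ω) : ∃ η : R →+* Ω, η.comp (algebraMap O R) = β := by
  letI : Algebra O Ω := β.toAlgebra
  haveI : Nontrivial (Ω ⊗[O] R) := inferInstance
  have h1 : EtPBC.IsIndEtale Ω (Ω ⊗[O] R) := Groth.Agent.S0733.result O R Ω hind
  have H := factor_of_isIndEtale h1
  obtain ⟨M, hM⟩ := Ideal.exists_maximal (Ω ⊗[O] R)
  letI : Field ((Ω ⊗[O] R) ⧸ M) := Ideal.Quotient.field M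
  haveI : Algebra.IsSeparable Ω ((Ω ⊗[O] R) ⧸ M) := by
    refine ⟨fun y => ?_⟩
    obtain ⟨t, rfl⟩ := Ideal.Quotient.mk_surjective y
    exact isSeparable_of_factor_field H (Ideal.Quotient.mkₐ Ω M) t
  have hbij := IsSepClosed.algebraMap_bijective Ω ((Ω ⊗[O] R) ⧸ M)
  let e : Ω ≃+* ((Ω ⊗[O] R) ⧸ M) := RingEquiv.ofBijective _ hbij
  refine ⟨(e.symm : _ →+* Ω).comp ((Ideal.Quotient.mk M).comp
    (Algebra.TensorProduct.includeRight : R →ₐ[O] Ω ⊗[O] R).toRingHom), ?_⟩
  ext b
  simp only [RingHom.comp_apply]
  have h2 : (Algebra.TensorProduct.includeRight : R →ₐ[O] Ω ⊗[O] R).toRingHom (algebraMap O R b)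
      = algebraMap Ω (Ω ⊗[O] R) (β b) := by
    show (1 : Ω) ⊗ₜ[O] (algebraMap O R b) = (β b) ⊗ₜ[O] (1 : R)
    rw [Algebra.algebraMap_eq_smul_one, ← TensorProduct.smul_tmul, Algebra.smul_def, mul_one]
    rfl
  rw [h2]
  show e.symm (algebraMap Ω ((Ω ⊗[O] R) ⧸ M) (β b)) = β b
  exact e.symm_apply_apply (β b)

/-- Let X be a scheme, x, x' points of X with strict localisations Spec R -> X and Spec R' -> X (R, R'
strict henselisations of the local rings at x and x'). There is an X-morphism Spec R' -> Spec R,
i.e. the geometric point over x is a specialization of the one over x', if and only if x lies in the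
closure of x'. -/
theorem result (X : Scheme.{u}) (x x' : X)
    (R : Type u) [CommRing R] [IsLocalRing R] [Algebra (X.presheaf.stalk x) R]
    [IsLocalHom (algebraMap (X.presheaf.stalk x) R)] [Hensel.IsStrictHenselization (X.presheaf.stalk x) R]
    (R' : Type u) [CommRing R'] [IsLocalRing R'] [Algebra (X.presheaf.stalk x') R']
    [IsLocalHom (algebraMap (X.presheaf.stalk x') R')] [Hensel.IsStrictHenselization (X.presheaf.stalk x') R'] :
    (∃ g : Spec (CommRingCat.of R') ⟶ Spec (CommRingCat.of R), g ≫ Hens2.specOf X x R = Hens2.specOf X x' R') ↔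
      x' ⤳ x := by
  have hind : EtPBC.IsIndEtale (X.presheaf.stalk x) R :=
    Groth.Agent.Lib.Helper3.IndEt.isIndEtale_of_isStrictHenselization _ R
  haveI : HenselianLocalRing R' :=
    (inferInstance : Hensel.IsStrictHenselization (X.presheaf.stalk x') R').henselian
  haveI : IsSepClosed (IsLocalRing.ResidueField R') :=
    (inferInstance : Hensel.IsStrictHenselization (X.presheaf.stalk x') R').isSepClosure.sep_closed
  haveI : Module.FaithfullyFlat (X.presheaf.stalk x) R :=
    Groth.Agent.Lib.Helper3.HzP.sh_faithfullyFlat _ R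
  constructor
  · rintro ⟨g, hg⟩
    have h1 := congr(($hg).base (IsLocalRing.closedPoint R'))
    have hL : (g ≫ Hens2.specOf X x R).base (IsLocalRing.closedPoint R')
        ∈ Set.range (X.fromSpecStalk x) :=
      ⟨(g ≫ Spec.map (CommRingCat.ofHom (algebraMap (X.presheaf.stalk x) R))).base
        (IsLocalRing.closedPoint R'), rfl⟩
    rw [Scheme.range_fromSpecStalk] at hL
    have hR : (Hens2.specOf X x' R').base (IsLocalRing.closedPoint R') = x' := by
      show (X.fromSpecStalk x') (PrimeSpectrum.comap (algebraMap (X.presheaf.stalk x') R')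
        (IsLocalRing.closedPoint R')) = x'
      rw [IsLocalRing.comap_closedPoint]
      exact Scheme.fromSpecStalk_closedPoint
    rw [h1, hR] at hL
    exact hL
  · intro hsp
    obtain ⟨η, hη⟩ := exists_ringHom_sepClosed hind
      ((IsLocalRing.residue R').comp ((algebraMap (X.presheaf.stalk x') R').comp
        (X.presheaf.stalkSpecializes hsp).hom))
    obtain ⟨φ, hφ1, -⟩ := Groth.Agent.S5594.exists_ringHom_of_isIndEtale hind
      ((algebraMap (X.presheaf.stalk x') R').comp (X.presheaf.stalkSpecializes hsp).hom) η hη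
    refine ⟨Spec.map (CommRingCat.ofHom φ), ?_⟩
    show Spec.map (CommRingCat.ofHom φ) ≫
      Spec.map (CommRingCat.ofHom (algebraMap (X.presheaf.stalk x) R)) ≫ X.fromSpecStalk x = _
    rw [← Category.assoc, ← Spec.map_comp]
    have e3 : CommRingCat.ofHom (algebraMap (X.presheaf.stalk x) R) ≫ CommRingCat.ofHom φ
        = X.presheaf.stalkSpecializes hsp ≫
          CommRingCat.ofHom (algebraMap (X.presheaf.stalk x') R') := by
      ext b
      exact congr($hφ1 b)
    rw [e3, Spec.map_comp, Category.assoc, Scheme.SpecMap_stalkSpecializes_fromSpecStalk]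
    rfl

end Groth.Agent.S5593
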