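import Groth.Statements.S5596
import Groth.Agent.Lib.Helper9EtPoint

set_option autoImplicit false
open CategoryTheory CategoryTheory.Limits AlgebraicGeometry Opposite
universe u
open EtDesc

namespace Groth.Agent.S5596

/-- A morphism v : F -> G of etale sheaves of sets on a scheme X is a monomorphism (resp. an
epimorphism) if and only if for every geometric point ξ of X (a morphism from the spectrum of a
separably closed field) the map of stalks F_ξ -> G_ξ is injective (resp. surjective). -/
theorem result {X : Scheme.{u}} {F G : EtDesc.Sh X} (v : F ⟶ G) :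
    (Mono v ↔ ∀ (Ω : Type u) [Field Ω] [IsSepClosed Ω] (ξ : Spec (CommRingCat.of Ω) ⟶ X),
      Function.Injective (((Scheme.pointSmallEtale ξ).sheafFiber (A := Type (u + 1))).map v)) ∧
    (Epi v ↔ ∀ (Ω : Type u) [Field Ω] [IsSepClosed Ω] (ξ : Spec (CommRingCat.of Ω) ⟶ X),
      Function.Surjective (((Scheme.pointSmallEtale ξ).sheafFiber (A := Type (u + 1))).map v)) := by
  haveI : AB5OfSize.{u, u} (Type (u + 1)) := AB5OfSize_of_univLE.{u, u, u + 1, u + 1} _
  have key : ∀ (Q : ∀ {A B : Type (u + 1)}, (A → B) → Prop),
      (∀ (Ω : Type u) [Field Ω] [IsSepClosed Ω] (ξ : Spec (CommRingCat.of Ω) ⟶ X),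
        Q (((Scheme.pointSmallEtale ξ).sheafFiber (A := Type (u + 1))).map v)) →
      ∀ Φ ∈ Groth.Agent.Lib.Helper9.EtPoint.geomPoints X,
        Q (Φ.presheafFiber.map v.hom) := by
    intro Q h Φ hΦ
    obtain ⟨Ω, _, _, ξ, rfl⟩ := hΦ
    exact h Ω ξ
  constructor
  · constructor
    · intro hM Ω _ _ ξ
      haveI := hM
      have hM' : Mono (((Scheme.pointSmallEtale ξ).sheafFiber (A := Type (u + 1))).map v) :=
        Functor.map_mono _ v
      exact (mono_iff_injective _).1 hM'
    · intro h
      haveI : Presheaf.IsLocallyInjective X.smallEtaleTopology v.hom :=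
        Groth.Agent.Lib.Helper9.SpPoint.isLocallyInjective_of_points.{u}
          (Groth.Agent.Lib.Helper9.EtPoint.geomPoints X)
          (Groth.Agent.Lib.Helper9.EtPoint.geomPoints_detect X) v.hom
          (key (fun f => Function.Injective f) h)
      exact Sheaf.mono_of_isLocallyInjective v
  · constructor
    · intro hE Ω _ _ ξ
      haveI := hE
      have hE' : Epi (((Scheme.pointSmallEtale ξ).sheafFiber (A := Type (u + 1))).map v) :=
        Functor.map_epi _ v
      exact (epi_iff_surjective _).1 hE'
    · intro h
      haveI : Presheaf.IsLocallySurjective X.smallEtaleTopology v.hom :=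
        Groth.Agent.Lib.Helper9.SpPoint.isLocallySurjective_of_points.{u}
          (Groth.Agent.Lib.Helper9.EtPoint.geomPoints X)
          (Groth.Agent.Lib.Helper9.EtPoint.geomPoints_detect X) v.hom
          (key (fun f => Function.Surjective f) h)
      exact Sheaf.epi_of_isLocallySurjective' v

end Groth.Agent.S5596
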