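import Groth.Statements.S5605
import Mathlib
import Groth.Agent.Lib.Helper17PCoh14
-- import your own Groth.Agent.* helpers here

set_option autoImplicit false
universe w v u
open CategoryTheory CategoryTheory.Limits
open PCoh

namespace Groth.Agent.S5605

open Groth.Agent.Lib.Helper17.PCoh8 Groth.Agent.Lib.Helper17.PCoh12 Groth.Agent.Lib.Helper17.PCoh13
  Groth.Agent.Lib.Helper17.PCoh14 DerivedCategory Pretriangulated ZeroObject

variable {C : Type u} [Category.{v} C] [Abelian C] [HasDerivedCategory.{w} C]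

/-- vanishing of the homology of the cone in degrees `≥ n`. -/
lemma isZero_homology_obj₃ (T : Triangle (DerivedCategory C)) (hT : T ∈ distTriang _) (n : ℤ)
    (h₁ : ∀ i : ℤ, n < i → IsZero ((homologyFunctor C i).obj T.obj₁))
    (h₂ : ∀ i : ℤ, n < i → IsZero ((homologyFunctor C i).obj T.obj₂))
    (hepi : Epi ((homologyFunctor C n).map T.mor₁)) (i : ℤ) (hi : n ≤ i) :
    IsZero ((homologyFunctor C i).obj T.obj₃) := by
  have hδ : HomologySequence.δ T i (i + 1) rfl = 0 := (h₁ (i + 1) (by omega)).eq_of_tgt _ _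
  have he : Epi ((homologyFunctor C i).map T.mor₂) :=
    (HomologySequence.epi_homologyMap_mor₂_iff T hT i (i + 1) rfl).2 hδ
  have hz : (homologyFunctor C i).map T.mor₂ = 0 := by
    rcases hi.eq_or_lt with rfl | hlt
    · exact (HomologySequence.epi_homologyMap_mor₁_iff T hT n).1 hepi
    · exact (h₂ i hlt).eq_of_src _ _
  exact IsZero.of_epi_eq_zero _ hz

variable (P : ObjectProperty C) [P.IsClosedUnderIsomorphisms] [P.ContainsZero]
  (hsum : ∀ X Y : C, P X → P Y → P (X ⨯ Y))
  (hqs : PCoh.IsQuasiStableUnderKernels P) (hql : PCoh.IsQuasiLiftable P)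

include hql in
lemma exists_single_epi (F : DerivedCategory C) (n : ℤ)
    (hft : PCoh.IsOfFiniteType P ((homologyFunctor C n).obj F)) :
    ∃ (L : C) (ψ : Q.obj ((HomologicalComplex.single C (ComplexShape.up ℤ) n).obj L) ⟶ F),
      P L ∧ Epi ((homologyFunctor C n).map ψ) := by
  let F₀ := (DerivedCategory.Q (C := C)).objPreimage F
  let e₀ : DerivedCategory.Q.obj F₀ ≅ F := (DerivedCategory.Q (C := C)).objObjPreimageIso F
  have hft₀ : PCoh.IsOfFiniteType P (F₀.homology n) :=
    Groth.Agent.Lib.Helper17.PCoh1.isOfFiniteType_of_epi P (homologyIsoOfIso e₀ n).inv hft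
  obtain ⟨L, z, hL, hz⟩ := exists_cycle_lift P hql F₀ n hft₀
  have hζn := epi_homologyMap_cycleMap z hz
  refine ⟨L, Q.map (cycleMap z) ≫ e₀.hom, hL, ?_⟩
  rw [Functor.map_comp]
  have := (epi_homologyFunctor_map_Q_iff (cycleMap z) n).2 hζn
  infer_instance

lemma isStrictPC_single' (n k : ℤ) {L : C} (hL : P L) :
    PCoh.IsStrictPC P k ((HomologicalComplex.single C (ComplexShape.up ℤ) n).obj L) := by
  refine ⟨⟨n, fun i hi => HomologicalComplex.isZero_single_obj_X _ _ _ _ (by omega)⟩,
    fun i _ => ?_⟩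
  by_cases h : i = n
  · subst h
    exact P.prop_of_iso (HomologicalComplex.singleObjXSelf (ComplexShape.up ℤ) i L).symm hL
  · exact P.prop_of_isZero (HomologicalComplex.isZero_single_obj_X _ _ _ _ h)

lemma isNPC_single (n k : ℤ) {L : C} (hL : P L) :
    IsNPC P k (Q.obj ((HomologicalComplex.single C (ComplexShape.up ℤ) n).obj L)) :=
  ⟨_, isStrictPC_single' P n k hL, ⟨Iso.refl _⟩⟩

/-- products indexed by `WalkingPair` are binary biproducts -/
noncomputable def piIsoBiprod {D : Type*} [Category D] [Preadditive D] [HasBinaryBiproducts D]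
    (g : WalkingPair → D) [HasProduct g] : ∏ᶜ g ≅ g .left ⊞ g .right where
  hom := biprod.lift (Pi.π g .left) (Pi.π g .right)
  inv := Pi.lift (fun j => match j with
    | .left => biprod.fst
    | .right => biprod.snd)
  hom_inv_id := by
    apply Pi.hom_ext
    intro j
    cases j <;> simp
  inv_hom_id := by
    apply biprod.hom_ext <;> simp

/-- the pair of triangles -/
def pairT (T₁ T₂ : Triangle (DerivedCategory C)) : WalkingPair → Triangle (DerivedCategory C)
  | .left => T₁
  | .right => T₂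

include hsum hqs hql in
lemma isNPC_biprod_obj₃ (T₁ T₂ : Triangle (DerivedCategory C))
    (hT₁ : T₁ ∈ distTriang _) (hT₂ : T₂ ∈ distTriang _) (m : ℤ)
    (h₁ : IsNPC P (m + 1) (T₁.obj₁ ⊞ T₂.obj₁)) (h₂ : IsNPC P m (T₁.obj₂ ⊞ T₂.obj₂)) :
    IsNPC P m (T₁.obj₃ ⊞ T₂.obj₃) := by
  have hT : productTriangle (pairT T₁ T₂) ∈ distTriang _ :=
    productTriangle_distinguished _ (fun j => by cases j <;> assumption)
  have e₁ : (productTriangle (pairT T₁ T₂)).obj₁ ≅ T₁.obj₁ ⊞ T₂.obj₁ :=
    piIsoBiprod (fun j => (pairT T₁ T₂ j).obj₁)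
  have e₂ : (productTriangle (pairT T₁ T₂)).obj₂ ≅ T₁.obj₂ ⊞ T₂.obj₂ :=
    piIsoBiprod (fun j => (pairT T₁ T₂ j).obj₂)
  have e₃ : (productTriangle (pairT T₁ T₂)).obj₃ ≅ T₁.obj₃ ⊞ T₂.obj₃ :=
    piIsoBiprod (fun j => (pairT T₁ T₂ j).obj₃)
  exact isNPC_of_iso P e₃ (isNPC_obj₃ P hsum hqs hql m _ hT (isNPC_of_iso P e₁.symm h₁)
    (isNPC_of_iso P e₂.symm h₂))

include hsum hqs hql in
lemma isNPC_biprod (n : ℤ) (K L : DerivedCategory C) (h₁ : IsNPC P n K) (h₂ : IsNPC P n L) :
    IsNPC P n (K ⊞ L) :=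
  isNPC_obj₂ P hsum hqs hql n _ (binaryBiproductTriangle_distinguished K L) h₁ h₂

lemma isZero_homology_fst (K L : DerivedCategory C) (i : ℤ)
    (h : IsZero ((homologyFunctor C i).obj (K ⊞ L))) : IsZero ((homologyFunctor C i).obj K) := by
  rw [IsZero.iff_id_eq_zero, ← CategoryTheory.Functor.map_id, ← biprod.inl_fst (X := K) (Y := L),
    Functor.map_comp, h.eq_of_tgt ((homologyFunctor C i).map biprod.inl) 0, zero_comp]

lemma isZero_homology_snd (K L : DerivedCategory C) (i : ℤ)
    (h : IsZero ((homologyFunctor C i).obj (K ⊞ L))) : IsZero ((homologyFunctor C i).obj L) := by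
  rw [IsZero.iff_id_eq_zero, ← CategoryTheory.Functor.map_id, ← biprod.inr_snd (X := K) (Y := L),
    Functor.map_comp, h.eq_of_tgt ((homologyFunctor C i).map biprod.inr) 0, zero_comp]

lemma isZero_homology_biprod (K L : DerivedCategory C) (i : ℤ)
    (hK : IsZero ((homologyFunctor C i).obj K)) (hL : IsZero ((homologyFunctor C i).obj L)) :
    IsZero ((homologyFunctor C i).obj (K ⊞ L)) := by
  rw [IsZero.iff_id_eq_zero, ← CategoryTheory.Functor.map_id, ← biprod.total, Functor.map_add,
    Functor.map_comp, Functor.map_comp, hK.eq_of_tgt ((homologyFunctor C i).map biprod.fst) 0,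
    hL.eq_of_tgt ((homologyFunctor C i).map biprod.snd) 0, zero_comp, zero_comp, add_zero]


include hsum hqs hql in
lemma isNPC_of_biprod_aux (m : ℤ) (k : ℕ) : ∀ (K L : DerivedCategory C) (n : ℤ),
    n < m + k → (∀ i : ℤ, n < i → IsZero ((homologyFunctor C i).obj K)) →
    (∀ i : ℤ, n < i → IsZero ((homologyFunctor C i).obj L)) →
    IsNPC P m (K ⊞ L) → IsNPC P m K ∧ IsNPC P m L := by
  induction k with
  | zero =>
    intro K L n hn hK hL _
    have hft : ∀ X : DerivedCategory C, IsZero ((homologyFunctor C m).obj X) →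
        PCoh.IsOfFiniteType P ((homologyFunctor C m).obj X) := fun X hX =>
      ⟨0, 0, P.prop_of_isZero (isZero_zero _), ⟨fun _ _ _ => hX.eq_of_src _ _⟩⟩
    exact ⟨isNPC_of_isOfFiniteType_homology P hql m K (fun i hi => hK i (by push_cast at hn; omega))
        (hft K (hK m (by push_cast at hn; omega))),
      isNPC_of_isOfFiniteType_homology P hql m L (fun i hi => hL i (by push_cast at hn; omega))
        (hft L (hL m (by push_cast at hn; omega)))⟩
  | succ k ih =>
    intro K L n hn hK hL h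
    by_cases hn' : n < m + k
    · exact ih K L n hn' hK hL h
    have hmn : m ≤ n := by push_cast at hn; omega
    have hKL : ∀ i : ℤ, n < i → IsZero ((homologyFunctor C i).obj (K ⊞ L)) := fun i hi =>
      isZero_homology_biprod K L i (hK i hi) (hL i hi)
    have hfin := isOfFiniteType_homology_of_isNPC P hqs n (K ⊞ L) (isNPC_of_le P hmn h) hKL
    have hfinK : PCoh.IsOfFiniteType P ((homologyFunctor C n).obj K) := by
      have : Epi ((homologyFunctor C n).map (biprod.fst : K ⊞ L ⟶ K)) :=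
        ⟨fun a b hab => by
          have h1 : (homologyFunctor C n).map (biprod.inl : K ⟶ K ⊞ L) ≫
              (homologyFunctor C n).map (biprod.fst : K ⊞ L ⟶ K) = 𝟙 _ := by
            rw [← Functor.map_comp, biprod.inl_fst, CategoryTheory.Functor.map_id]
          rw [← Category.id_comp a, ← Category.id_comp b, ← h1, Category.assoc, Category.assoc, hab]⟩
      exact Groth.Agent.Lib.Helper17.PCoh1.isOfFiniteType_of_epi P
        ((homologyFunctor C n).map (biprod.fst : K ⊞ L ⟶ K)) hfin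
    have hfinL : PCoh.IsOfFiniteType P ((homologyFunctor C n).obj L) := by
      have : Epi ((homologyFunctor C n).map (biprod.snd : K ⊞ L ⟶ L)) :=
        ⟨fun a b hab => by
          have h1 : (homologyFunctor C n).map (biprod.inr : L ⟶ K ⊞ L) ≫
              (homologyFunctor C n).map (biprod.snd : K ⊞ L ⟶ L) = 𝟙 _ := by
            rw [← Functor.map_comp, biprod.inr_snd, CategoryTheory.Functor.map_id]
          rw [← Category.id_comp a, ← Category.id_comp b, ← h1, Category.assoc, Category.assoc, hab]⟩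
      exact Groth.Agent.Lib.Helper17.PCoh1.isOfFiniteType_of_epi P
        ((homologyFunctor C n).map (biprod.snd : K ⊞ L ⟶ L)) hfin
    obtain ⟨F₁, ψ₁, hF₁, hψ₁⟩ := exists_single_epi P hql K n hfinK
    obtain ⟨F₂, ψ₂, hF₂, hψ₂⟩ := exists_single_epi P hql L n hfinL
    obtain ⟨K', v₁, w₁, hT₁⟩ := distinguished_cocone_triangle ψ₁
    obtain ⟨L', v₂, w₂, hT₂⟩ := distinguished_cocone_triangle ψ₂
    have hsingle : ∀ (F : C) (i : ℤ), n < i → IsZero ((homologyFunctor C i).obj
        (Q.obj ((HomologicalComplex.single C (ComplexShape.up ℤ) n).obj F))) := fun F i hi =>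
      IsZero.of_iso (HomologicalComplex.isZero_single_obj_homology (ComplexShape.up ℤ) n F i
        (by omega)) (homologyIsoQ _ i)
    have hK' : ∀ i : ℤ, n - 1 < i → IsZero ((homologyFunctor C i).obj K') := fun i hi =>
      isZero_homology_obj₃ _ hT₁ n (hsingle F₁) hK hψ₁ i (by omega)
    have hL' : ∀ i : ℤ, n - 1 < i → IsZero ((homologyFunctor C i).obj L') := fun i hi =>
      isZero_homology_obj₃ _ hT₂ n (hsingle F₂) hL hψ₂ i (by omega)
    have hP : IsNPC P (m + 1)
        (Q.obj ((HomologicalComplex.single C (ComplexShape.up ℤ) n).obj F₁) ⊞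
          Q.obj ((HomologicalComplex.single C (ComplexShape.up ℤ) n).obj F₂)) :=
      isNPC_biprod P hsum hqs hql (m + 1) _ _ (isNPC_single P n (m + 1) hF₁)
        (isNPC_single P n (m + 1) hF₂)
    have h' : IsNPC P m (K' ⊞ L') := isNPC_biprod_obj₃ P hsum hqs hql _ _ hT₁ hT₂ m hP h
    obtain ⟨hK'pc, hL'pc⟩ := ih K' L' (n - 1) (by push_cast at hn; omega) hK' hL' h'
    exact ⟨isNPC_obj₂ P hsum hqs hql m _ hT₁ (isNPC_single P n m hF₁) hK'pc,
      isNPC_obj₂ P hsum hqs hql m _ hT₂ (isNPC_single P n m hF₂) hL'pc⟩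

include hsum hqs hql in
theorem isNPC_of_biprod (m : ℤ) (K L : DerivedCategory C) (h : IsNPC P m (K ⊞ L)) :
    IsNPC P m K ∧ IsNPC P m L := by
  obtain ⟨E, ⟨⟨b, hb⟩, hE⟩, ⟨e⟩⟩ := h
  have hz : ∀ i : ℤ, b < i → IsZero ((homologyFunctor C i).obj (K ⊞ L)) := fun i hi =>
    IsZero.of_iso (Groth.Agent.Lib.Helper17.PCoh10.isZero_homology_of_isZero_X E i (hb i hi))
      (homologyIsoOfIso e i).symm
  exact isNPC_of_biprod_aux P hsum hqs hql m (max b m - m + 1).toNat K L (max b m)
    (by
      have h1 := le_max_right b m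
      have h2 : max b m - m + 1 ≤ ((max b m - m + 1).toNat : ℤ) := Int.self_le_toNat _
      omega)
    (fun i hi => isZero_homology_fst K L i (hz i (lt_of_le_of_lt (le_max_left b m) hi)))
    (fun i hi => isZero_homology_snd K L i (hz i (lt_of_le_of_lt (le_max_left b m) hi)))
    ⟨E, ⟨⟨b, hb⟩, hE⟩, ⟨e⟩⟩

/-- Let C be an abelian category and C₀ a strictly full additive subcategory, quasi-stable under kernels
of epimorphisms and quasi-liftable. For F', F'' in D(C), the direct sum F' ⊞ F'' is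
n-pseudo-coherent (isomorphic to a strictly n-pseudo-coherent complex) if and only if F' and F''
are. -/
theorem result {C : Type u} [Category.{v} C] [Abelian C] [HasDerivedCategory.{w} C]
    (P : ObjectProperty C) [P.IsClosedUnderIsomorphisms] [P.ContainsZero] (hsum : ∀ X Y : C, P X → P Y → P (X ⨯ Y))
    (hqs : PCoh.IsQuasiStableUnderKernels P) (hql : PCoh.IsQuasiLiftable P)
    (n : ℤ) (F' F'' : DerivedCategory C) [HasBinaryBiproduct F' F''] :
    (∃ E : CochainComplex C ℤ, PCoh.IsStrictPC P n E ∧ Nonempty (DerivedCategory.Q.obj E ≅ (F' ⊞ F''))) ↔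
      (∃ E : CochainComplex C ℤ, PCoh.IsStrictPC P n E ∧ Nonempty (DerivedCategory.Q.obj E ≅ F')) ∧ (∃ E : CochainComplex C ℤ, PCoh.IsStrictPC P n E ∧ Nonempty (DerivedCategory.Q.obj E ≅ F'')) := by
  constructor
  · intro h
    exact isNPC_of_biprod P hsum hqs hql n F' F'' h
  · rintro ⟨h₁, h₂⟩
    exact isNPC_biprod P hsum hqs hql n F' F'' h₁ h₂

end Groth.Agent.S5605
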