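import Groth.Statements.S5610
import Mathlib
import Groth.Agent.Lib.Helper21SPerf

set_option autoImplicit false
universe w v u
open CategoryTheory CategoryTheory.Limits
open PCoh

namespace Groth.Agent.S5610

/-- Let C be an abelian category and C₀ a strictly full additive subcategory, liftable and stable under
kernels of epimorphisms. Let a ≤ b, a ≤ c, and let F be a strictly perfect complex (terms in C₀)
vanishing outside [a, c] with H^i(F) = 0 for i > b. Then F has perfect amplitude in [a, min b c]: it
is isomorphic in D(C) to a strictly perfect complex vanishing outside that interval. -/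
theorem result {C : Type u} [Category.{v} C] [Abelian C] [HasDerivedCategory.{w} C]
    (P : ObjectProperty C) [P.IsClosedUnderIsomorphisms] [P.ContainsZero] (hsum : ∀ X Y : C, P X → P Y → P (X ⨯ Y))
    (hlift : ∀ (E F : C) (u : E ⟶ F), Epi u → P F → IsSplitEpi u)
    (hst : ∀ (E F : C) (u : E ⟶ F), Epi u → P E → P F → P (kernel u))
    (a b c : ℤ) (hab : a ≤ b) (hac : a ≤ c) (F : CochainComplex C ℤ)
    (hP : ∀ i : ℤ, P (F.X i)) (hvan : ∀ i : ℤ, i < a ∨ c < i → IsZero (F.X i))
    (hcoh : ∀ i : ℤ, b < i → IsZero (F.homology i)) :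
    ∃ F' : CochainComplex C ℤ, (∀ i : ℤ, P (F'.X i)) ∧ (∀ i : ℤ, i < a ∨ min b c < i → IsZero (F'.X i)) ∧
      Nonempty (DerivedCategory.Q.obj F' ≅ DerivedCategory.Q.obj F) := by
  by_cases hcb : c ≤ b
  · refine ⟨F, hP, ?_, ⟨Iso.refl _⟩⟩
    intro i hi
    apply hvan
    rw [min_eq_right hcb] at hi
    exact hi
  · have hbc : b < c := by omega
    have hmin : min b c = b := min_eq_left hbc.le
    have hZ : P (F.cycles b) :=
      Groth.Agent.Lib.Helper21.SPerf.prop_cycles_of_acyclic_above P hst F hP c
        (fun i hi => hvan i (Or.inr hi)) b hcoh (c + 1 - b).toNat b le_rfl le_rfl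
    have hLE : F.IsLE b := by
      rw [CochainComplex.isLE_iff]
      intro i hi
      rw [HomologicalComplex.exactAt_iff_isZero_homology]
      exact hcoh i hi
    have hq : QuasiIso (F.ιTruncLE b) := (CochainComplex.quasiIso_ιTruncLE_iff F b).2 hLE
    have hiso : IsIso (DerivedCategory.Q.map (F.ιTruncLE b)) := by
      rw [DerivedCategory.isIso_Q_map_iff_quasiIso]
      exact hq
    refine ⟨F.truncLE b, ?_, ?_, ⟨asIso (DerivedCategory.Q.map (F.ιTruncLE b))⟩⟩
    · intro i
      rcases lt_trichotomy i b with hi | hi | hi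
      · exact P.prop_of_iso (F.truncLEXIso b i hi).symm (hP i)
      · subst hi
        exact P.prop_of_iso (F.truncLEXIsoCycles i).symm hZ
      · exact P.prop_of_isZero ((F.truncLE b).isZero_of_isStrictlyLE b i hi)
    · intro i hi
      rw [hmin] at hi
      rcases hi with hi | hi
      · exact (hvan i (Or.inl hi)).of_iso (F.truncLEXIso b i (by omega))
      · exact (F.truncLE b).isZero_of_isStrictlyLE b i hi

end Groth.Agent.S5610
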