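import Groth.Statements.S5612
import Mathlib
import Groth.Agent.Lib.Helper1TorH
import Groth.Agent.Lib.Helper1Devissage
import Groth.Agent.S7019
-- import your own Groth.Agent.* helpers here

set_option autoImplicit false
universe u
open CategoryTheory CategoryTheory.Limits
attribute [local instance] HasDerivedCategory.standard
open DRing

namespace Groth.Agent.S5612

open Groth.Agent.Lib.Helper1.Tor DerivedCategory Pretriangulated Groth.Agent.S14388
open Groth.Agent.Lib.Helper1.Devissage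

variable {A : Type u} [CommRing A]

/-- vanishing of `Tor` passes to retracts in the first variable -/
lemma subsingleton_tor_of_retract (M M' N : Type u) [AddCommGroup M] [Module A M]
    [AddCommGroup M'] [Module A M'] [AddCommGroup N] [Module A N] (p : ℕ)
    (ι : M →ₗ[A] M') (π : M' →ₗ[A] M) (h : π ∘ₗ ι = LinearMap.id)
    (hs : Subsingleton (DRing.Tor A p M' N)) : Subsingleton (DRing.Tor A p M N) := by
  have hz : IsZero (((Tor (ModuleCat.{u} A) p).obj (ModuleCat.of A M')).obj (ModuleCat.of A N)) :=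
    ModuleCat.isZero_of_subsingleton _
  have hcomp : ModuleCat.ofHom ι ≫ ModuleCat.ofHom π = 𝟙 (ModuleCat.of A M) := by
    rw [← ModuleCat.ofHom_comp, h]
    rfl
  have hid : ((Tor (ModuleCat.{u} A) p).map (ModuleCat.ofHom ι)).app (ModuleCat.of A N) ≫
      ((Tor (ModuleCat.{u} A) p).map (ModuleCat.ofHom π)).app (ModuleCat.of A N) = 𝟙 _ := by
    rw [← NatTrans.comp_app, ← Functor.map_comp, hcomp, CategoryTheory.Functor.map_id,
      NatTrans.id_app]
  have hz' : IsZero (((Tor (ModuleCat.{u} A) p).obj (ModuleCat.of A M)).obj (ModuleCat.of A N)) := by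
    rw [IsZero.iff_id_eq_zero, ← hid, hz.eq_of_tgt (((Tor (ModuleCat.{u} A) p).map
      (ModuleCat.ofHom ι)).app (ModuleCat.of A N)) 0, zero_comp]
  exact ModuleCat.subsingleton_of_isZero hz'

/-- uniform bound on the tor dimension of cyclic modules -/
lemma exists_uniform_bound
    (hA : ∀ (M : Type u) [AddCommGroup M] [Module A M], DRing.HasFiniteTorDim A M) :
    ∃ n₀ : ℕ, ∀ (I : Ideal A) (N : Type u) [AddCommGroup N] [Module A N] (p : ℕ), n₀ < p →
      Subsingleton (DRing.Tor A p (A ⧸ I) N) := by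
  classical
  obtain ⟨n₀, hn₀⟩ := hA (DirectSum (Ideal A) (fun I => A ⧸ I))
  refine ⟨n₀, fun I N _ _ p hp => ?_⟩
  refine subsingleton_tor_of_retract (A ⧸ I) (DirectSum (Ideal A) (fun I => A ⧸ I)) N p
    (DirectSum.lof A (Ideal A) (fun I => A ⧸ I) I)
    (DirectSum.component A (Ideal A) (fun I => A ⧸ I) I) ?_ (hn₀ N p hp)
  ext
  simp

/-- every module has tor amplitude in `[-n₀, 0]` -/
lemma hasTorAmp_module (n₀ : ℕ)
    (h : ∀ (I : Ideal A) (N : Type u) [AddCommGroup N] [Module A N] (p : ℕ), n₀ < p →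
      Subsingleton (DRing.Tor A p (A ⧸ I) N))
    (N : Type u) [AddCommGroup N] [Module A N] :
    DRing.HasTorAmplitudeIn A (-(n₀ : ℤ)) 0 (Dual.inD A N) := by
  let P := ProjectiveResolution.of (ModuleCat.of A N)
  set G := P.cochainComplex with hG
  have e : Q.obj G ≅ Dual.inD A N :=
    asIso (Q.map P.π') ≪≫ ((singleFunctorIsoCompQ (ModuleCat.{u} A) 0).app _).symm
  refine hasTorAmp_of_iso e ?_
  have hGb : DRing.VanishesAbove G 0 := fun i hi => G.isZero_of_isStrictlyLE 0 i hi
  have hGf : DRing.TermwiseFlat G := termwiseFlat_of_projective G (fun k => inferInstance)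
  have hGge : G.IsGE 0 := inferInstance
  rw [CochainComplex.isGE_iff] at hGge
  refine hasTorAmp_of_flat_opcycles G 0 hGb hGf _ 0 (fun i hi => hGge i (by lia))
    (fun i hi => exactAt_of_isZero_X G i (hGb i hi)) ?_
  set a : ℤ := -(n₀ : ℤ) with ha
  have := hGf a
  refine flat_of_forall_exact_lTensor (G.d (a - 1 - 1) (a - 1)).hom (G.d (a - 1) a).hom
    (G.pOpcycles a).hom ((ModuleCat.epi_iff_surjective _).1 inferInstance)
    (fexact_d_pOpcycles G a) ?_ (fun I => ?_)
  · exact (exactAt_iff_fexact G (a - 1 - 1) (a - 1) a (by lia) (by lia)).1 (hGge (a - 1) (by lia))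
  · have h1 := exactAt_TC_of_subsingleton_tor (A ⧸ I) N P n₀ (h I N (n₀ + 1) (by lia))
    have h2 : (-((n₀ + 1 : ℕ) : ℤ)) = a - 1 := by
      push_cast
      ring
    rw [h2] at h1
    exact (exactAt_TC_iff _ G (a - 1 - 1) (a - 1) a (by lia) (by lia)).1 h1

lemma bounded_of_finiteTorDim (K : Dual.D A) (h : DRing.HasFiniteTorDimCx A K) :
    ∃ a b : ℤ, ∀ i : ℤ, i < a ∨ b < i → Subsingleton (Dual.HD A K i) := by
  obtain ⟨a, b, E, hE, _, ⟨e⟩⟩ := h
  refine ⟨a, b, fun i hi => ?_⟩
  have h1 := (exactAt_iff_isZero_H E i).1 (exactAt_of_isZero_X E i (hE i hi))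
  exact ModuleCat.subsingleton_of_isZero
    (h1.of_iso ((homologyFunctor (ModuleCat.{u} A) i).mapIso e.symm))

lemma finiteTorDim_of_bounded
    (hA : ∀ (M : Type u) [AddCommGroup M] [Module A M], DRing.HasFiniteTorDim A M) (K : Dual.D A)
    (h : ∃ a b : ℤ, ∀ i : ℤ, i < a ∨ b < i → Subsingleton (Dual.HD A K i)) :
    DRing.HasFiniteTorDimCx A K := by
  obtain ⟨c, d, hcd⟩ := h
  obtain ⟨n₀, hn₀⟩ := exists_uniform_bound hA
  refine ⟨c - n₀, d, ?_⟩
  exact induction_homology' (TAProp A (c - n₀) d) (fun X hX => hasTorAmp_of_isZero X hX _ _)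
    (fun T hT h₁ h₃ => (hasTorAmp_two_out_of_three _ _ T hT).2.1 h₁ h₃)
    K c d (fun i hi => by
      have := hcd i hi
      exact ModuleCat.isZero_of_subsingleton _)
    (fun j hj1 hj2 => hasTorAmp_single _ _ _ j
      (hasTorAmp_mono (by lia) (by lia) (hasTorAmp_module n₀ hn₀ (Dual.HD A K j))))

/-- Let A be a commutative ring all of whose modules have finite tor dimension (for instance A of finite
global dimension) and K ∈ D(A). (i) K has finite tor dimension if and only if K has bounded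
cohomology. (ii) K is perfect if and only if K has bounded cohomology and is pseudo-coherent. -/
theorem result {A : Type u} [CommRing A]
    (hA : ∀ (M : Type u) [AddCommGroup M] [Module A M], DRing.HasFiniteTorDim A M) (K : Dual.D A) :
    (DRing.HasFiniteTorDimCx A K ↔ ∃ a b : ℤ, ∀ i : ℤ, i < a ∨ b < i → Subsingleton (Dual.HD A K i)) ∧
      (DRing.IsPerfect A K ↔
        (∃ a b : ℤ, ∀ i : ℤ, i < a ∨ b < i → Subsingleton (Dual.HD A K i)) ∧ DRing.IsPseudoCoherent' A K) := by
  refine ⟨⟨bounded_of_finiteTorDim K, finiteTorDim_of_bounded hA K⟩, ?_, ?_⟩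
  · intro h
    refine ⟨bounded_of_finiteTorDim K ?_, Groth.Agent.S7019.isPC'_of_isPerfect K h⟩
    obtain ⟨E, a, b, hE, hP, ⟨e⟩⟩ := h
    exact ⟨a, b, E, hE, fun i => by
      have := (hP i).2
      infer_instance, ⟨e⟩⟩
  · rintro ⟨hb, hpc⟩
    obtain ⟨a, b, hTA⟩ := finiteTorDim_of_bounded hA K hb
    obtain ⟨E, hE, hEp, hiso⟩ := exists_finiteProjective_of_pc_of_torAmp K hpc a b hTA
    exact ⟨E, a, b, hE, hEp, hiso⟩

end Groth.Agent.S5612
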