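import Groth.Statements.S5614
-- (no helper imports)

set_option autoImplicit false
universe v u
open CategoryTheory CategoryTheory.Limits CategoryTheory.Pretriangulated
open KZero

namespace Groth.Agent.S5614

/-- Let C be a pretriangulated category and S a dense set of objects, meaning that every set of objects
which contains S and which contains the third vertex of a distinguished triangle as soon as it
contains the other two is all of C. Then K₀(C) is generated by the classes of the objects of S. -/
theorem result {C : Type u} [Category.{v} C] [Preadditive C] [HasZeroObject C]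
    [HasShift C ℤ] [∀ n : ℤ, (shiftFunctor C n).Additive] [Pretriangulated C]
    (S : Set C)
    (hdense : ∀ T : Set C, S ⊆ T →
      (∀ tr : Triangle C, tr ∈ distinguishedTriangles →
        (tr.obj₁ ∈ T → tr.obj₂ ∈ T → tr.obj₃ ∈ T) ∧ (tr.obj₁ ∈ T → tr.obj₃ ∈ T → tr.obj₂ ∈ T) ∧
          (tr.obj₂ ∈ T → tr.obj₃ ∈ T → tr.obj₁ ∈ T)) → T = Set.univ) :
    AddSubgroup.closure (KZero.clTri '' S) = (⊤ : AddSubgroup (KZero.K0tri C)) := by
  have hrel : ∀ tr : Triangle C, tr ∈ distinguishedTriangles →
      KZero.clTri tr.obj₂ = KZero.clTri tr.obj₁ + KZero.clTri tr.obj₃ := by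
    intro tr htr
    have hmem : FreeAbelianGroup.of (⟨tr.obj₂, trivial⟩ : Subtype (⊤ : ObjectProperty C)) -
        FreeAbelianGroup.of ⟨tr.obj₁, trivial⟩ - FreeAbelianGroup.of ⟨tr.obj₃, trivial⟩ ∈
        KZero.relTr (⊤ : ObjectProperty C) :=
      AddSubgroup.subset_closure ⟨tr, trivial, trivial, trivial, htr, rfl⟩
    have h0 := (QuotientAddGroup.eq_zero_iff _).2 hmem
    have h1 : KZero.clTri tr.obj₂ - KZero.clTri tr.obj₁ - KZero.clTri tr.obj₃ = 0 := h0
    rw [sub_sub, sub_eq_zero] at h1
    exact h1
  have hT := hdense {X | KZero.clTri X ∈ AddSubgroup.closure (KZero.clTri '' S)}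
    (fun X hX => AddSubgroup.subset_closure ⟨X, hX, rfl⟩) (by
      intro X hX
      have e := hrel X hX
      refine ⟨fun h1 h2 => ?_, fun h1 h3 => ?_, fun h2 h3 => ?_⟩
      · have : KZero.clTri X.obj₃ = KZero.clTri X.obj₂ - KZero.clTri X.obj₁ := by rw [e]; abel
        change KZero.clTri X.obj₃ ∈ AddSubgroup.closure (KZero.clTri '' S)
        rw [this]
        exact AddSubgroup.sub_mem _ h2 h1
      · change KZero.clTri X.obj₂ ∈ AddSubgroup.closure (KZero.clTri '' S)
        rw [e]
        exact AddSubgroup.add_mem _ h1 h3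
      · have : KZero.clTri X.obj₁ = KZero.clTri X.obj₂ - KZero.clTri X.obj₃ := by rw [e]; abel
        change KZero.clTri X.obj₁ ∈ AddSubgroup.closure (KZero.clTri '' S)
        rw [this]
        exact AddSubgroup.sub_mem _ h2 h3)
  rw [eq_top_iff]
  rintro x -
  obtain ⟨y, rfl⟩ := QuotientAddGroup.mk_surjective x
  induction y using FreeAbelianGroup.induction_on with
  | zero => exact AddSubgroup.zero_mem _
  | of X =>
    obtain ⟨X, hX⟩ := X
    have : X ∈ {X | KZero.clTri X ∈ AddSubgroup.closure (KZero.clTri '' S)} := by rw [hT]; trivial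
    exact this
  | neg X ih =>
    have : ((-(FreeAbelianGroup.of X) : FreeAbelianGroup (Subtype (⊤ : ObjectProperty C))) :
        KZero.K0tri C) =
        -((FreeAbelianGroup.of X : FreeAbelianGroup (Subtype (⊤ : ObjectProperty C))) :
          KZero.K0tri C) := rfl
    rw [this]
    exact AddSubgroup.neg_mem _ ih
  | add x y hx hy =>
    have : ((x + y : FreeAbelianGroup (Subtype (⊤ : ObjectProperty C))) : KZero.K0tri C) =
        (x : KZero.K0tri C) + (y : KZero.K0tri C) := rfl
    rw [this]
    exact AddSubgroup.add_mem _ hx hy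


end Groth.Agent.S5614
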