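import Groth.Statements.S5615
-- (no helper imports)

set_option autoImplicit false
universe v u
open CategoryTheory CategoryTheory.Limits
open KZero

namespace Groth.Agent.S5615

/-- Let A be an abelian category and S a dense set of objects, meaning that every set of objects which
contains S and which contains the third term of a short exact sequence as soon as it contains the
other two is all of A. Then K₀(A) is generated by the classes of the objects of S. -/
theorem result {A : Type u} [Category.{v} A] [Abelian A] (S : Set A)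
    (hdense : ∀ T : Set A, S ⊆ T →
      (∀ X : ShortComplex A, X.ShortExact →
        (X.X₁ ∈ T → X.X₂ ∈ T → X.X₃ ∈ T) ∧ (X.X₁ ∈ T → X.X₃ ∈ T → X.X₂ ∈ T) ∧
          (X.X₂ ∈ T → X.X₃ ∈ T → X.X₁ ∈ T)) → T = Set.univ) :
    AddSubgroup.closure (KZero.cl '' S) = (⊤ : AddSubgroup (KZero.K0 A)) := by
  have hrel : ∀ X : ShortComplex A, X.ShortExact → KZero.cl X.X₂ = KZero.cl X.X₁ + KZero.cl X.X₃ := by
    intro X hX
    have hmem : FreeAbelianGroup.of X.X₂ - FreeAbelianGroup.of X.X₁ - FreeAbelianGroup.of X.X₃ ∈
        KZero.relAb A := AddSubgroup.subset_closure ⟨X, hX, rfl⟩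
    have h0 := (QuotientAddGroup.eq_zero_iff _).2 hmem
    have h1 : KZero.cl X.X₂ - KZero.cl X.X₁ - KZero.cl X.X₃ = 0 := h0
    rw [sub_sub, sub_eq_zero] at h1
    exact h1
  have hT := hdense {X | KZero.cl X ∈ AddSubgroup.closure (KZero.cl '' S)}
    (fun X hX => AddSubgroup.subset_closure ⟨X, hX, rfl⟩) (by
      intro X hX
      have e := hrel X hX
      refine ⟨fun h1 h2 => ?_, fun h1 h3 => ?_, fun h2 h3 => ?_⟩
      · have : KZero.cl X.X₃ = KZero.cl X.X₂ - KZero.cl X.X₁ := by rw [e]; abel
        change KZero.cl X.X₃ ∈ AddSubgroup.closure (KZero.cl '' S)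
        rw [this]
        exact AddSubgroup.sub_mem _ h2 h1
      · change KZero.cl X.X₂ ∈ AddSubgroup.closure (KZero.cl '' S)
        rw [e]
        exact AddSubgroup.add_mem _ h1 h3
      · have : KZero.cl X.X₁ = KZero.cl X.X₂ - KZero.cl X.X₃ := by rw [e]; abel
        change KZero.cl X.X₁ ∈ AddSubgroup.closure (KZero.cl '' S)
        rw [this]
        exact AddSubgroup.sub_mem _ h2 h3)
  rw [eq_top_iff]
  rintro x -
  obtain ⟨y, rfl⟩ := QuotientAddGroup.mk_surjective x
  induction y using FreeAbelianGroup.induction_on with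
  | zero => exact AddSubgroup.zero_mem _
  | of X =>
    have : X ∈ {X | KZero.cl X ∈ AddSubgroup.closure (KZero.cl '' S)} := by rw [hT]; trivial
    exact this
  | neg X ih =>
    have : ((-(FreeAbelianGroup.of X) : FreeAbelianGroup A) : KZero.K0 A) =
        -((FreeAbelianGroup.of X : FreeAbelianGroup A) : KZero.K0 A) := rfl
    rw [this]
    exact AddSubgroup.neg_mem _ ih
  | add x y hx hy =>
    have : ((x + y : FreeAbelianGroup A) : KZero.K0 A) = (x : KZero.K0 A) + (y : KZero.K0 A) := rfl
    rw [this]
    exact AddSubgroup.add_mem _ hx hy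


end Groth.Agent.S5615
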