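import Groth.Statements.S5616
import Mathlib
import Groth.Agent.Lib.Helper21Efface

set_option autoImplicit false
universe w w' v v' u u'
open CategoryTheory CategoryTheory.Limits
open CohDer

namespace Groth.Agent.S5616

open CategoryTheory.Abelian in
theorem key_ind {A : Type u} [Category.{v} A] [Abelian A] [HasExt.{w} A]
    {B : Type u'} [Category.{v'} B] [Abelian B] [HasExt.{w'} B]
    (φ : A ⥤ B) [φ.Additive] [PreservesFiniteLimits φ] [PreservesFiniteColimits φ] (M : A)
    (heff : ∀ (L : A) (n : ℕ), 1 ≤ n → ∀ x : Abelian.Ext.{w'} (φ.obj L) (φ.obj M) n,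
          ∃ (L' : A) (p : L' ⟶ L), Epi p ∧ (Abelian.Ext.mk₀ (φ.map p)).comp x (zero_add n) = 0)
    (n : ℕ)
    (ih : ∀ L : A, Function.Bijective
      (fun f : Abelian.Ext.{w} L M n => Abelian.Ext.mapExactFunctor φ f)) (L : A) :
    Function.Bijective
      (fun f : Abelian.Ext.{w} L M (n + 1) => Abelian.Ext.mapExactFunctor φ f) := by
  constructor
  · -- injectivity
    have hinj : Function.Injective (φ.mapExtAddHom L M (n + 1)) := by
      rw [injective_iff_map_eq_zero]
      intro y hy
      have hy' : y.mapExactFunctor φ = 0 := hy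
      obtain ⟨L', p, hp, hpy⟩ :=
        Groth.Agent.Lib.Helper21.Efface.exists_epi_comp_eq_zero (by omega : 1 ≤ n + 1) y
      have hK : (ShortComplex.mk (kernel.ι p) p (kernel.condition p)).ShortExact :=
        { exact := ShortComplex.exact_of_f_is_kernel _ (kernelIsKernel p) }
      obtain ⟨z, hz⟩ := Ext.contravariant_sequence_exact₃ hK M y hpy (add_comm 1 n)
      have e1 := Ext.mapExactFunctor_comp φ hK.extClass z (add_comm 1 n)
      rw [Ext.mapExactFunctor_extClass, hz, hy'] at e1
      have h1 : (hK.map_of_exact φ).extClass.comp (z.mapExactFunctor φ) (add_comm 1 n) = 0 :=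
        e1.symm
      obtain ⟨w₀, hw₀⟩ := Ext.contravariant_sequence_exact₁ (hK.map_of_exact φ) (φ.obj M)
        (z.mapExactFunctor φ) (add_comm 1 n) h1
      obtain ⟨w', hw'⟩ := (ih L').2 w₀
      have hw'' : w'.mapExactFunctor φ = w₀ := hw'
      have h2 : ((Ext.mk₀ (kernel.ι p)).comp w' (zero_add n)).mapExactFunctor φ =
          z.mapExactFunctor φ := by
        rw [Ext.mapExactFunctor_comp, Ext.mapExactFunctor_mk₀, hw'']
        exact hw₀
      have h3 : (Ext.mk₀ (kernel.ι p)).comp w' (zero_add n) = z := (ih (kernel p)).1 h2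
      rw [← hz, ← h3]
      exact hK.extClass_comp_assoc w'
    exact hinj
  · -- surjectivity
    intro x
    obtain ⟨L', p, hp, hpx⟩ := heff L (n + 1) (by omega) x
    have hK : (ShortComplex.mk (kernel.ι p) p (kernel.condition p)).ShortExact :=
      { exact := ShortComplex.exact_of_f_is_kernel _ (kernelIsKernel p) }
    obtain ⟨z, hz⟩ := Ext.contravariant_sequence_exact₃ (hK.map_of_exact φ) (φ.obj M) x hpx
      (add_comm 1 n)
    obtain ⟨z', hz'⟩ := (ih (kernel p)).2 z
    have hz'' : z'.mapExactFunctor φ = z := hz'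
    refine ⟨hK.extClass.comp z' (add_comm 1 n), ?_⟩
    show (hK.extClass.comp z' (add_comm 1 n)).mapExactFunctor φ = x
    rw [Ext.mapExactFunctor_comp, Ext.mapExactFunctor_extClass, hz'']
    exact hz

/-- Let φ : A ⥤ B be an exact functor of abelian categories and M an object of A. The following are
equivalent: (i) for every L in A and every n, the map Ext^n_A(L, M) → Ext^n_B(φ L, φ M) induced by φ
is bijective; (ii) for every L the map Hom_A(L, M) → Hom_B(φ L, φ M) is bijective, and for every L,
every n ≥ 1 and every x ∈ Ext^n_B(φ L, φ M) there is an epimorphism L' ⟶ L of A such that x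
precomposed with its image under φ vanishes. -/
theorem result
    {A : Type u} [Category.{v} A] [Abelian A] [HasExt.{w} A]
    {B : Type u'} [Category.{v'} B] [Abelian B] [HasExt.{w'} B]
    (φ : A ⥤ B) [φ.Additive] [PreservesFiniteLimits φ] [PreservesFiniteColimits φ] (M : A) :
    (∀ (L : A) (n : ℕ), Function.Bijective (fun f : Abelian.Ext.{w} L M n => Abelian.Ext.mapExactFunctor φ f)) ↔
      ((∀ L : A, Function.Bijective (fun f : L ⟶ M => φ.map f)) ∧
        ∀ (L : A) (n : ℕ), 1 ≤ n → ∀ x : Abelian.Ext.{w'} (φ.obj L) (φ.obj M) n,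
          ∃ (L' : A) (p : L' ⟶ L), Epi p ∧ (Abelian.Ext.mk₀ (φ.map p)).comp x (zero_add n) = 0) := by
  constructor
  · intro h
    refine ⟨fun L => ?_, fun L n hn x => ?_⟩
    · have h0 := h L 0
      constructor
      · intro f₁ f₂ hf
        have hf' : φ.map f₁ = φ.map f₂ := hf
        apply (Abelian.Ext.mk₀_bijective L M).1
        apply h0.1
        show (Abelian.Ext.mk₀ f₁).mapExactFunctor φ = (Abelian.Ext.mk₀ f₂).mapExactFunctor φ
        rw [Abelian.Ext.mapExactFunctor_mk₀, Abelian.Ext.mapExactFunctor_mk₀, hf']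
      · intro g
        obtain ⟨y, hy⟩ := h0.2 (Abelian.Ext.mk₀ g)
        obtain ⟨f, rfl⟩ := (Abelian.Ext.mk₀_bijective L M).2 y
        refine ⟨f, ?_⟩
        have hy' : (Abelian.Ext.mk₀ f).mapExactFunctor φ = Abelian.Ext.mk₀ g := hy
        rw [Abelian.Ext.mapExactFunctor_mk₀] at hy'
        exact (Abelian.Ext.mk₀_bijective _ _).1 hy'
    · obtain ⟨y, hy⟩ := (h L n).2 x
      have hy' : y.mapExactFunctor φ = x := hy
      obtain ⟨L', p, hp, hpy⟩ :=
        Groth.Agent.Lib.Helper21.Efface.exists_epi_comp_eq_zero hn y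
      refine ⟨L', p, hp, ?_⟩
      rw [← hy', ← Abelian.Ext.mapExactFunctor_mk₀, ← Abelian.Ext.mapExactFunctor_comp, hpy,
        Abelian.Ext.mapExactFunctor_zero]
  · rintro ⟨h0, heff⟩
    intro L n
    induction n generalizing L with
    | zero =>
      have e : (fun f : Abelian.Ext.{w} L M 0 => Abelian.Ext.mapExactFunctor φ f) =
          Abelian.Ext.homEquiv₀.symm ∘ (fun f : L ⟶ M => φ.map f) ∘ Abelian.Ext.homEquiv₀ := by
        funext f
        exact congrFun (Abelian.Ext.mapExactFunctor₀ φ L M) f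
      rw [e]
      exact Abelian.Ext.homEquiv₀.symm.bijective.comp ((h0 L).comp Abelian.Ext.homEquiv₀.bijective)
    | succ n ih =>
      exact key_ind φ M heff n ih L

end Groth.Agent.S5616
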