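import Groth.Statements.S5620
import Mathlib
import Groth.Agent.Lib.Helper17PCoh19
-- import your own Groth.Agent.* helpers here

set_option autoImplicit false
universe w v u w' v' u'
open CategoryTheory CategoryTheory.Limits
open PCoh

namespace Groth.Agent.S5620

open Groth.Agent.Lib.Helper17.PCoh12 Groth.Agent.Lib.Helper17.PCoh13
  Groth.Agent.Lib.Helper17.PCoh14 Groth.Agent.Lib.Helper17.PCoh19 DerivedCategory
  Groth.Agent.Lib.Helper1.Devissage Pretriangulated ZeroObject

section
variable {C : Type u} [Category.{v} C] [Abelian C] [HasDerivedCategory.{w} C]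

/-- homology of a shift -/
noncomputable def homologyShiftIso (F : DerivedCategory C) (k i j : ℤ) (h : k + i = j) :
    (DerivedCategory.homologyFunctor C i).obj (F⟦k⟧) ≅ (DerivedCategory.homologyFunctor C j).obj F :=
  ((DerivedCategory.homologyFunctor C 0).shiftIso k i j h).app F

variable {C' : Type u'} [Category.{v'} C'] [Abelian C'] [HasDerivedCategory.{w'} C']
  (u : DerivedCategory C ⥤ DerivedCategory C') [u.CommShift ℤ] (b : ℤ)
  (hii : ∀ F : DerivedCategory C, (∀ i : ℤ, 0 < i → IsZero ((DerivedCategory.homologyFunctor C i).obj F)) →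
      ∀ i : ℤ, b < i → IsZero ((DerivedCategory.homologyFunctor C' i).obj (u.obj F)))

include hii in
theorem acyclic_map (k : ℤ) (F : DerivedCategory C)
    (hF : ∀ i : ℤ, k < i → IsZero ((DerivedCategory.homologyFunctor C i).obj F)) :
    ∀ i : ℤ, k + b < i → IsZero ((DerivedCategory.homologyFunctor C' i).obj (u.obj F)) := by
  intro i hi
  have h1 : ∀ j : ℤ, 0 < j → IsZero ((DerivedCategory.homologyFunctor C j).obj (F⟦k⟧)) := fun j hj =>
    (hF (k + j) (by omega)).of_iso (homologyShiftIso F k j (k + j) rfl)
  have h2 := hii (F⟦k⟧) h1 (i - k) (by omega)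
  have e1 : (DerivedCategory.homologyFunctor C' (i - k)).obj (u.obj (F⟦k⟧)) ≅
      (DerivedCategory.homologyFunctor C' (i - k)).obj ((u.obj F)⟦k⟧) :=
    (DerivedCategory.homologyFunctor C' (i - k)).mapIso ((u.commShiftIso k).app F)
  have e2 := homologyShiftIso (u.obj F) k (i - k) i (by omega)
  exact (h2.of_iso e1.symm).of_iso e2.symm

variable (P : ObjectProperty C) [P.IsClosedUnderIsomorphisms] [P.ContainsZero]
variable (P' : ObjectProperty C') [P'.IsClosedUnderIsomorphisms] [P'.ContainsZero]
  (hsum' : ∀ X Y : C', P' X → P' Y → P' (X ⨯ Y))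
  (hqs' : PCoh.IsQuasiStableUnderKernels P') (hql' : PCoh.IsQuasiLiftable P')

include hql' in
/-- acyclic in degrees `≥ N` implies `N`-pseudo-coherent -/
theorem isNPC_of_acyclic (N : ℤ) (G : DerivedCategory C')
    (hG : ∀ i : ℤ, N ≤ i → IsZero ((DerivedCategory.homologyFunctor C' i).obj G)) :
    IsNPC P' N G :=
  isNPC_of_isOfFiniteType_homology P' hql' N G (fun i hi => hG i (by omega))
    ⟨0, 0, P'.prop_of_isZero (isZero_zero _),
      Groth.Agent.Lib.Helper17.PCoh9.epi_of_isZero_tgt _ (hG N le_rfl)⟩

variable [u.IsTriangulated] (a : ℤ)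
  (hi : ∀ E : C, P E → IsNPC P' a (u.obj ((DerivedCategory.singleFunctor C 0).obj E)))

include hsum' hqs' hql' hi hii in
theorem isNPC_map_aux (m n N : ℤ) (hN1 : m + b ≤ N) (hN2 : n + a ≤ N) (k : ℕ) :
    ∀ (F : CochainComplex C ℤ) (t : ℤ), t < m + k → t ≤ n →
    (∀ i : ℤ, t < i → IsZero (F.X i)) → (∀ i : ℤ, m ≤ i → P (F.X i)) →
    IsNPC P' N (u.obj (DerivedCategory.Q.obj F)) := by
  have hlow : ∀ (F : CochainComplex C ℤ) (t : ℤ), t < m → (∀ i : ℤ, t < i → IsZero (F.X i)) →
      IsNPC P' N (u.obj (DerivedCategory.Q.obj F)) := by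
    intro F t ht hF
    apply isNPC_of_acyclic P' hql'
    intro i hi'
    apply acyclic_map u b hii (m - 1) _ _ i (by omega)
    intro j hj
    refine IsZero.of_iso ?_ (homologyIsoQ F j)
    exact ShortComplex.isZero_homology_of_isZero_X₂ _ (hF j (by omega))
  induction k with
  | zero =>
    intro F t htm _ hF _
    exact hlow F t (by simpa using htm) hF
  | succ k ih =>
    intro F t htm htn hF hP
    by_cases htm' : t < m
    · exact hlow F t htm' hF
    · obtain ⟨K, f, g, δ, hT, hKt, hKi⟩ := exists_step F t hF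
      have h₃ : IsNPC P' N (u.obj (DerivedCategory.Q.obj K)) := by
        apply ih K (t - 1) (by push_cast at htm; omega) (by omega)
        · intro i hi'
          by_cases hit : i = t
          · subst hit; exact hKt
          · obtain ⟨e⟩ := hKi i hit
            exact (hF i (by omega)).of_iso e.symm
        · intro i hi'
          by_cases hit : i = t
          · subst hit; exact P.prop_of_isZero hKt
          · obtain ⟨e⟩ := hKi i hit
            exact P.prop_of_iso e (hP i hi')
      have h₁ : IsNPC P' N (u.obj ((DerivedCategory.singleFunctor C t).obj (F.X t))) := by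
        have h0 := hi (F.X t) (hP t (by omega))
        have h1 := isNPC_shift P' h0 (-t)
        have e : (shiftFunctor (DerivedCategory C) (-t)).obj
            ((DerivedCategory.singleFunctor C 0).obj (F.X t)) ≅
            (DerivedCategory.singleFunctor C t).obj (F.X t) :=
          ((DerivedCategory.singleFunctors C).shiftIso (-t) t 0 (by omega)).app (F.X t)
        have e' := ((u.commShiftIso (-t)).app _).symm ≪≫ u.mapIso e
        exact isNPC_of_le P' (by omega) (isNPC_of_iso P' e' h1)
      exact isNPC_obj₂ P' hsum' hqs' hql' N _ (u.map_distinguished _ hT) h₁ h₃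

end

/-- Let (C, C₀) and (C', C₀') be abelian categories with strictly full additive subcategories, each
quasi-stable under kernels of epimorphisms and quasi-liftable, and let u : D(C) ⥤ D(C') be a
triangulated functor. Suppose there are integers a, b such that (i) for every E in C₀ the object
u(E[0]) is a-pseudo-coherent relative to C₀', and (ii) u sends objects acyclic in degrees > 0 to
objects acyclic in degrees > b. Then if F ∈ D(C) is m-pseudo-coherent and acyclic in degrees > n,
u(F) is max(m + b, n + a)-pseudo-coherent relative to C₀' and acyclic in degrees > n + b. (The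
source lets u be defined on D^+, D^- or D^b; here u is defined on all of D(C).) -/
theorem result {C : Type u} [Category.{v} C] [Abelian C] [HasDerivedCategory.{w} C]
    (P : ObjectProperty C) [P.IsClosedUnderIsomorphisms] [P.ContainsZero] (hsum : ∀ X Y : C, P X → P Y → P (X ⨯ Y))
    (hqs : PCoh.IsQuasiStableUnderKernels P) (hql : PCoh.IsQuasiLiftable P)
    {C' : Type u'} [Category.{v'} C'] [Abelian C'] [HasDerivedCategory.{w'} C']
    (P' : ObjectProperty C') [P'.IsClosedUnderIsomorphisms] [P'.ContainsZero] (hsum' : ∀ X Y : C', P' X → P' Y → P' (X ⨯ Y))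
    (hqs' : PCoh.IsQuasiStableUnderKernels P') (hql' : PCoh.IsQuasiLiftable P')
    (u : DerivedCategory C ⥤ DerivedCategory C') [u.CommShift ℤ] [u.IsTriangulated] (a b : ℤ)
    (hi : ∀ E : C, P E → ∃ E' : CochainComplex C' ℤ, PCoh.IsStrictPC P' a E' ∧
      Nonempty (DerivedCategory.Q.obj E' ≅ u.obj ((DerivedCategory.singleFunctor C 0).obj E)))
    (hii : ∀ F : DerivedCategory C, (∀ i : ℤ, 0 < i → IsZero ((DerivedCategory.homologyFunctor C i).obj F)) →
      ∀ i : ℤ, b < i → IsZero ((DerivedCategory.homologyFunctor C' i).obj (u.obj F)))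
    (m n : ℤ) (F : DerivedCategory C) (hF : (∃ E : CochainComplex C ℤ, PCoh.IsStrictPC P m E ∧ Nonempty (DerivedCategory.Q.obj E ≅ F)))
    (hac : ∀ i : ℤ, n < i → IsZero ((DerivedCategory.homologyFunctor C i).obj F)) :
    (∃ E' : CochainComplex C' ℤ, PCoh.IsStrictPC P' (max (m + b) (n + a)) E' ∧ Nonempty (DerivedCategory.Q.obj E' ≅ u.obj F)) ∧
      ∀ i : ℤ, n + b < i → IsZero ((DerivedCategory.homologyFunctor C' i).obj (u.obj F)) := by
  have hacu := acyclic_map u b hii n F hac
  refine ⟨?_, hacu⟩
  show IsNPC P' (max (m + b) (n + a)) (u.obj F)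
  by_cases hnm : n < m
  · apply isNPC_of_acyclic P' hql'
    intro i hi'
    exact hacu i (by have := le_max_left (m + b) (n + a); omega)
  · obtain ⟨E, hE, hEz, ⟨e⟩⟩ := exists_strictPC_iso_vanishing_above P hsum hqs hql m (n + 1)
      (by omega) F hF (fun i hi' => hac i (by omega))
    have h := isNPC_map_aux u b hii P P' hsum' hqs' hql' a hi m n (max (m + b) (n + a))
      (le_max_left _ _) (le_max_right _ _) (n + 1 - m).toNat E n
      (by have := Int.self_le_toNat (n + 1 - m); omega) le_rfl
      (fun i hi' => hEz i (by omega)) hE.2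
    exact isNPC_of_iso P' (u.mapIso e) h

end Groth.Agent.S5620
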