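import Groth.Statements.S5621
import Mathlib
import Groth.Agent.Lib.Helper21SPerf

set_option autoImplicit false
universe w v u
open CategoryTheory CategoryTheory.Limits
open PCoh

namespace Groth.Agent.S5621

open Groth.Agent.Lib.Helper21.SPerf in
theorem main {C : Type u} [Category.{v} C] [Abelian C] [HasDerivedCategory.{w} C]
    (P : ObjectProperty C) [P.IsClosedUnderIsomorphisms] [P.ContainsZero]
    (hsum : ∀ X Y : C, P X → P Y → P (X ⨯ Y))
    (hlift : ∀ (E F : C) (u : E ⟶ F), Epi u → P F → IsSplitEpi u)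
    (hst : ∀ (E F : C) (u : E ⟶ F), Epi u → P E → P F → P (kernel u))
    (a' b : ℤ) (F : CochainComplex C ℤ)
    (hvan : ∀ i : ℤ, i < a' + 1 ∨ b < i → IsZero (F.X i)) (hP : ∀ i : ℤ, a' + 1 < i → P (F.X i))
    (E : CochainComplex C ℤ) (hPE : ∀ i : ℤ, P (E.X i))
    (hzE : ∀ i : ℤ, i < a' + 1 ∨ b < i → IsZero (E.X i))
    (e : DerivedCategory.Q.obj E ≅ DerivedCategory.Q.obj F) :
    P (F.X (a' + 1)) := by
  have : E.IsKProjective := isKProjective_of_liftable P hlift E hPE b
    (fun i hi => hzE i (Or.inr hi))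
  obtain ⟨f, hf⟩ := exists_map_eq_of_isKProjective E F e.hom
  have hiso : IsIso (DerivedCategory.Q.map f) := by rw [hf]; infer_instance
  have hKac : ∀ i, IsZero ((CochainComplex.mappingCone f).homology i) :=
    fun i => isZero_homology_mappingCone f hiso i
  -- terms of the cone
  have hK2 : ∀ i, a' + 1 + 1 ≤ i → P ((CochainComplex.mappingCone f).X i) := fun i hi =>
    mappingCone_X_prop P hsum f i (hPE _) (hP i (by omega))
  have hKz : ∀ i, b < i → IsZero ((CochainComplex.mappingCone f).X i) := fun i hi =>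
    mappingCone_X_isZero f i (hzE _ (Or.inr (by omega))) (hvan i (Or.inr hi))
  have hK0 : P ((CochainComplex.mappingCone f).X a') :=
    mappingCone_X_prop P hsum f a' (hPE _) (P.prop_of_isZero (hvan a' (Or.inl (by omega))))
  have hKm : IsZero ((CochainComplex.mappingCone f).X (a' - 1)) :=
    mappingCone_X_isZero f (a' - 1) (hzE _ (Or.inl (by omega))) (hvan _ (Or.inl (by omega)))
  -- Z² ∈ P
  have hZ2 : P ((CochainComplex.mappingCone f).cycles (a' + 1 + 1)) :=
    prop_cycles_of_acyclic_above' P hst _ (a' + 1 + 1) hK2 b hKz (fun i _ => hKac i)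
      (b + 1 - (a' + 1 + 1)).toNat (a' + 1 + 1) le_rfl le_rfl
  -- Z¹ ≅ K^{a'}
  have hepi1 : Epi ((CochainComplex.mappingCone f).toCycles a' (a' + 1)) :=
    epi_toCycles_of_isZero_homology _ a' (hKac _)
  have hmono_d : Mono ((CochainComplex.mappingCone f).d a' (a' + 1)) := by
    have hex : (CochainComplex.mappingCone f).ExactAt a' := by
      rw [HomologicalComplex.exactAt_iff_isZero_homology]; exact hKac a'
    rw [(CochainComplex.mappingCone f).exactAt_iff' (a' - 1) a' (a' + 1) (by simp) (by simp)] at hex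
    exact hex.mono_g (hKm.eq_of_src _ _)
  have hmono1 : Mono ((CochainComplex.mappingCone f).toCycles a' (a' + 1)) := by
    have : Mono ((CochainComplex.mappingCone f).toCycles a' (a' + 1) ≫
        (CochainComplex.mappingCone f).iCycles (a' + 1)) := by
      rw [HomologicalComplex.toCycles_i]; exact hmono_d
    exact mono_of_mono _ ((CochainComplex.mappingCone f).iCycles (a' + 1))
  have hiso1 : IsIso ((CochainComplex.mappingCone f).toCycles a' (a' + 1)) :=
    isIso_of_mono_of_epi _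
  have hZ1 : P ((CochainComplex.mappingCone f).cycles (a' + 1)) :=
    P.prop_of_iso (asIso ((CochainComplex.mappingCone f).toCycles a' (a' + 1))) hK0
  -- K^{a'+1} ≅ Z¹ ⊞ Z²
  have hepi2 : Epi ((CochainComplex.mappingCone f).toCycles (a' + 1) (a' + 1 + 1)) :=
    epi_toCycles_of_isZero_homology _ (a' + 1) (hKac _)
  have hsplit := hlift _ _ _ hepi2 hZ2
  let S : ShortComplex C := ShortComplex.mk
    (kernel.ι ((CochainComplex.mappingCone f).toCycles (a' + 1) (a' + 1 + 1)))
    ((CochainComplex.mappingCone f).toCycles (a' + 1) (a' + 1 + 1)) (kernel.condition _)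
  have hSex : S.Exact := ShortComplex.exact_of_f_is_kernel _ (kernelIsKernel _)
  have hSmono : Mono S.f := inferInstanceAs (Mono (kernel.ι _))
  let spl : S.Splitting := ShortComplex.Splitting.ofExactOfSection S hSex
    (section_ ((CochainComplex.mappingCone f).toCycles (a' + 1) (a' + 1 + 1)))
    (IsSplitEpi.id _) hSmono
  have hker : P (kernel ((CochainComplex.mappingCone f).toCycles (a' + 1) (a' + 1 + 1))) :=
    P.prop_of_iso (cyclesIsoKernelToCycles _ (a' + 1)) hZ1
  have hK1 : P ((CochainComplex.mappingCone f).X (a' + 1)) :=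
    P.prop_of_iso (spl.isoBinaryBiproduct ≪≫ biprod.isoProd _ _).symm (hsum _ _ hker hZ2)
  -- F^{a'+1} = ker (K^{a'+1} → E^{a'+2})
  let eX : (CochainComplex.mappingCone f).X (a' + 1) ≅ E.X (a' + 1 + 1) ⊞ F.X (a' + 1) :=
    HomologicalComplex.homotopyCofiber.XIsoBiprod f (a' + 1) (a' + 1 + 1) rfl
  have hv : Epi (eX.hom ≫ (biprod.fst : E.X (a' + 1 + 1) ⊞ F.X (a' + 1) ⟶ _)) := epi_comp _ _
  have hkv := hst _ _ _ hv hK1 (hPE _)
  have e1 : kernel (eX.hom ≫ (biprod.fst : E.X (a' + 1 + 1) ⊞ F.X (a' + 1) ⟶ _)) ≅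
      kernel (biprod.fst : E.X (a' + 1 + 1) ⊞ F.X (a' + 1) ⟶ _) := kernelIsIsoComp _ _
  have e2 : kernel (biprod.fst : E.X (a' + 1 + 1) ⊞ F.X (a' + 1) ⟶ _) ≅ F.X (a' + 1) :=
    IsLimit.conePointUniqueUpToIso (kernelIsKernel _) (biprod.isKernelFstKernelFork _ _)
  exact P.prop_of_iso (e1 ≪≫ e2) hkv

/-- Let C be an abelian category and C₀ a strictly full additive subcategory, liftable and stable under
kernels of epimorphisms. Let a ≤ b and let F be a complex with F^i = 0 for i outside [a, b], of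
perfect amplitude in [a, b] (isomorphic in D(C) to a strictly perfect complex vanishing outside [a,
b]), and with F^i in C₀ for i > a. Then F^a lies in C₀. -/
theorem result {C : Type u} [Category.{v} C] [Abelian C] [HasDerivedCategory.{w} C]
    (P : ObjectProperty C) [P.IsClosedUnderIsomorphisms] [P.ContainsZero] (hsum : ∀ X Y : C, P X → P Y → P (X ⨯ Y))
    (hlift : ∀ (E F : C) (u : E ⟶ F), Epi u → P F → IsSplitEpi u)
    (hst : ∀ (E F : C) (u : E ⟶ F), Epi u → P E → P F → P (kernel u))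
    (a b : ℤ) (hab : a ≤ b) (F : CochainComplex C ℤ)
    (hvan : ∀ i : ℤ, i < a ∨ b < i → IsZero (F.X i)) (hP : ∀ i : ℤ, a < i → P (F.X i))
    (hamp : (∃ E : CochainComplex C ℤ, (∀ i : ℤ, P (E.X i)) ∧ (∀ i : ℤ, i < a ∨ b < i → IsZero (E.X i)) ∧ Nonempty (DerivedCategory.Q.obj E ≅ DerivedCategory.Q.obj F))) :
    P (F.X a) := by
  obtain ⟨a', rfl⟩ : ∃ a', a = a' + 1 := ⟨a - 1, by omega⟩
  obtain ⟨E, hPE, hzE, ⟨e⟩⟩ := hamp
  exact main P hsum hlift hst a' b F hvan hP E hPE hzE e

end Groth.Agent.S5621
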