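import Groth.Statements.S5622
import Mathlib
import Groth.Agent.S5605
import Groth.Agent.S5621
import Groth.Agent.Lib.Helper17PCoh19
-- import your own Groth.Agent.* helpers here

set_option autoImplicit false
universe w v u
open CategoryTheory CategoryTheory.Limits
open PCoh

namespace Groth.Agent.S5622

open Groth.Agent.Lib.Helper17.PCoh12 Groth.Agent.Lib.Helper17.PCoh13
  Groth.Agent.Lib.Helper17.PCoh14 Groth.Agent.Lib.Helper17.PCoh17 DerivedCategory ZeroObject

section
variable {C : Type u} [Category.{v} C] [Abelian C] [HasDerivedCategory.{w} C]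
variable (P : ObjectProperty C) [P.IsClosedUnderIsomorphisms] [P.ContainsZero]
  (hlift : ∀ (E F : C) (u : E ⟶ F), Epi u → P F → IsSplitEpi u)
  (hst : ∀ (E F : C) (u : E ⟶ F), Epi u → P E → P F → P (kernel u))

include hlift in
omit [P.IsClosedUnderIsomorphisms] [P.ContainsZero] in
theorem isQuasiLiftable_of_liftable : PCoh.IsQuasiLiftable P := by
  intro E F u hu hF
  have := hlift E F u hu hF
  refine ⟨F, section_ u, hF, ?_⟩
  rw [IsSplitEpi.id]
  infer_instance

include hst in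
theorem prop_Z (K : CochainComplex C ℕ) (hex : ∀ i : ℕ, K.ExactAt i) (n : ℕ)
    (hz : ∀ i : ℕ, n < i → IsZero (K.X i)) (hK : ∀ i : ℕ, 1 ≤ i → P (K.X i)) (d : ℕ) :
    ∀ i : ℕ, 1 ≤ i → n + 1 ≤ i + d → P (Z K i) := by
  induction d with
  | zero =>
    intro i hi hid
    exact P.prop_of_isZero (IsZero.of_mono (kernel.ι _) (hz i (by omega)))
  | succ d ih =>
    intro i hi hid
    have h3 : P (Z K (i + 1)) := ih (i + 1) (by omega) (by omega)
    have hS := zS_shortExact K i (hex _)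
    have := hS.epi_g
    have h4 := hst _ _ (zS K i).g hS.epi_g (hK i hi) h3
    have e : kernel (zS K i).g ≅ Z K i :=
      IsLimit.conePointUniqueUpToIso (kernelIsKernel _) hS.fIsKernel
    exact P.prop_of_iso e h4

include hst in
theorem isQuasiStable_of_stable : PCoh.IsQuasiStableUnderKernels P := by
  intro K hex hbd hK
  obtain ⟨n, hz⟩ := hbd
  have hZ1 : P (Z K 1) := prop_Z P hst K hex n hz hK n 1 le_rfl (by omega)
  have hmono : Mono (K.d 0 1) := by
    have h := hex 0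
    rw [K.exactAt_iff' 0 0 1 (by simp) (by simp)] at h
    exact (ShortComplex.exact_iff_mono _ (K.shape 0 0 (by simp))).1 h
  have hm : Mono (toZ K 0) := by
    have : Mono (toZ K 0 ≫ kernel.ι (K.d (0 + 1) (0 + 1 + 1))) := by
      rw [toZ_ι]; exact hmono
    exact mono_of_mono _ (kernel.ι (K.d (0 + 1) (0 + 1 + 1)))
  have he : Epi (toZ K 0) := epi_toZ K 0 (hex _)
  have hiso : IsIso (toZ K 0) := isIso_of_mono_of_epi _
  have h0 : P (K.X 0) := P.prop_of_iso (asIso (toZ K 0)).symm hZ1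
  exact ⟨K.X 0, 𝟙 _, h0, inferInstance⟩

variable (hsum : ∀ X Y : C, P X → P Y → P (X ⨯ Y))

omit [HasDerivedCategory C] in
theorem isZero_biprod' {X Y : C} (hX : IsZero X) (hY : IsZero Y) : IsZero (X ⊞ Y) := by
  rw [IsZero.iff_id_eq_zero, ← biprod.total, hX.eq_of_tgt biprod.fst 0, hY.eq_of_tgt biprod.snd 0]
  simp

include hsum hlift hst in
theorem exists_trunc (a b : ℤ) (hab : a ≤ b) (X : DerivedCategory C) (hX : IsNPC P a X)
    (hac : ∀ i : ℤ, i < a ∨ b < i → IsZero ((DerivedCategory.homologyFunctor C i).obj X)) :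
    ∃ T : CochainComplex C ℤ, (∀ i : ℤ, i < a ∨ b < i → IsZero (T.X i)) ∧
      (∀ i : ℤ, a < i → P (T.X i)) ∧ Nonempty (DerivedCategory.Q.obj T ≅ X) := by
  have hql := isQuasiLiftable_of_liftable P hlift
  have hqs := isQuasiStable_of_stable P hst
  obtain ⟨E₁, hE₁, hz, ⟨e⟩⟩ := exists_strictPC_iso_vanishing_above P hsum hqs hql a (b + 1)
    (by omega) X hX (fun i hi => hac i (Or.inr (by omega)))
  have : E₁.IsGE a := by
    rw [CochainComplex.isGE_iff]
    intro i hi
    rw [HomologicalComplex.exactAt_iff_isZero_homology]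
    exact isZero_homology_of_iso e i (hac i (Or.inl hi))
  refine ⟨E₁.truncGE a, ?_, ?_, ⟨(asIso (DerivedCategory.Q.map (E₁.πTruncGE a))).symm ≪≫ e⟩⟩
  · rintro i (hi | hi)
    · exact (E₁.truncGE a).isZero_of_isStrictlyGE a i hi
    · exact (hz i (by omega)).of_iso (E₁.truncGEXIso a i (by omega))
  · intro i hi
    exact P.prop_of_iso (E₁.truncGEXIso a i hi).symm (hE₁.2 i hi.le)

end

/-- Let C be an abelian category and C₀ a strictly full additive subcategory, liftable and stable under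
kernels of epimorphisms, and a ≤ b. For F', F'' in D(C): (i) ⇒ (ii), where (i) says F' and F'' have
perfect amplitude in [a, b] (each isomorphic to a strictly perfect complex vanishing outside [a, b])
and (ii) says F' ⊞ F'' does; and (ii) ⇒ (i) when C₀ is stable under direct factors. -/
theorem result {C : Type u} [Category.{v} C] [Abelian C] [HasDerivedCategory.{w} C]
    (P : ObjectProperty C) [P.IsClosedUnderIsomorphisms] [P.ContainsZero] (hsum : ∀ X Y : C, P X → P Y → P (X ⨯ Y))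
    (hlift : ∀ (E F : C) (u : E ⟶ F), Epi u → P F → IsSplitEpi u)
    (hst : ∀ (E F : C) (u : E ⟶ F), Epi u → P E → P F → P (kernel u))
    (a b : ℤ) (hab : a ≤ b) (F' F'' : DerivedCategory C) [HasBinaryBiproduct F' F''] :
    (((∃ E : CochainComplex C ℤ, (∀ i : ℤ, P (E.X i)) ∧ (∀ i : ℤ, i < a ∨ b < i → IsZero (E.X i)) ∧ Nonempty (DerivedCategory.Q.obj E ≅ F')) ∧ (∃ E : CochainComplex C ℤ, (∀ i : ℤ, P (E.X i)) ∧ (∀ i : ℤ, i < a ∨ b < i → IsZero (E.X i)) ∧ Nonempty (DerivedCategory.Q.obj E ≅ F''))) →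
        (∃ E : CochainComplex C ℤ, (∀ i : ℤ, P (E.X i)) ∧ (∀ i : ℤ, i < a ∨ b < i → IsZero (E.X i)) ∧ Nonempty (DerivedCategory.Q.obj E ≅ (F' ⊞ F'')))) ∧
      ((∀ (E' E'' : C) [HasBinaryBiproduct E' E''], P (E' ⊞ E'') → P E' ∧ P E'') →
        (∃ E : CochainComplex C ℤ, (∀ i : ℤ, P (E.X i)) ∧ (∀ i : ℤ, i < a ∨ b < i → IsZero (E.X i)) ∧ Nonempty (DerivedCategory.Q.obj E ≅ (F' ⊞ F''))) →
          (∃ E : CochainComplex C ℤ, (∀ i : ℤ, P (E.X i)) ∧ (∀ i : ℤ, i < a ∨ b < i → IsZero (E.X i)) ∧ Nonempty (DerivedCategory.Q.obj E ≅ F')) ∧ (∃ E : CochainComplex C ℤ, (∀ i : ℤ, P (E.X i)) ∧ (∀ i : ℤ, i < a ∨ b < i → IsZero (E.X i)) ∧ Nonempty (DerivedCategory.Q.obj E ≅ F''))) := by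
  have hQ : PreservesBinaryBiproducts (DerivedCategory.Q : CochainComplex C ℤ ⥤ DerivedCategory C) :=
    preservesBinaryBiproducts_of_preservesBiproducts _
  constructor
  · rintro ⟨⟨E', hP', hz', ⟨e'⟩⟩, ⟨E'', hP'', hz'', ⟨e''⟩⟩⟩
    refine ⟨E' ⊞ E'', fun i => ?_, fun i hi => ?_, ⟨?_⟩⟩
    · exact P.prop_of_iso (HomologicalComplex.biprodXIso E' E'' i ≪≫ biprod.isoProd _ _).symm
        (hsum _ _ (hP' i) (hP'' i))
    · exact (isZero_biprod' (hz' i hi) (hz'' i hi)).of_iso (HomologicalComplex.biprodXIso E' E'' i)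
    · exact (DerivedCategory.Q.mapBiprod E' E'') ≪≫ biprod.mapIso e' e''
  · intro hfac
    rintro ⟨E, hPE, hzE, ⟨e⟩⟩
    have hql := isQuasiLiftable_of_liftable P hlift
    have hqs := isQuasiStable_of_stable P hst
    have hNPC : IsNPC P a (F' ⊞ F'') := ⟨E, ⟨⟨b, fun i hi => hzE i (Or.inr hi)⟩, fun i _ => hPE i⟩, ⟨e⟩⟩
    obtain ⟨h', h''⟩ := Groth.Agent.S5605.isNPC_of_biprod P hsum hqs hql a F' F'' hNPC
    have hac : ∀ i : ℤ, i < a ∨ b < i →
        IsZero ((DerivedCategory.homologyFunctor C i).obj (F' ⊞ F'')) := fun i hi =>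
      IsZero.of_iso (Groth.Agent.Lib.Helper17.PCoh10.isZero_homology_of_isZero_X E i (hzE i hi))
        (homologyIsoOfIso e i).symm
    obtain ⟨T', hz', hP', ⟨e'⟩⟩ := exists_trunc P hlift hst hsum a b hab F' h'
      (fun i hi => Groth.Agent.S5605.isZero_homology_fst F' F'' i (hac i hi))
    obtain ⟨T'', hz'', hP'', ⟨e''⟩⟩ := exists_trunc P hlift hst hsum a b hab F'' h''
      (fun i hi => Groth.Agent.S5605.isZero_homology_snd F' F'' i (hac i hi))
    have key : P ((T' ⊞ T'').X a) := by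
      apply Groth.Agent.S5621.result P hsum hlift hst a b hab (T' ⊞ T'')
      · intro i hi
        exact (isZero_biprod' (hz' i hi) (hz'' i hi)).of_iso (HomologicalComplex.biprodXIso T' T'' i)
      · intro i hi
        exact P.prop_of_iso (HomologicalComplex.biprodXIso T' T'' i ≪≫ biprod.isoProd _ _).symm
          (hsum _ _ (hP' i hi) (hP'' i hi))
      · exact ⟨E, hPE, hzE, ⟨e ≪≫ (biprod.mapIso e' e'').symm ≪≫
          (DerivedCategory.Q.mapBiprod T' T'').symm⟩⟩
    have key' : P (T'.X a ⊞ T''.X a) := P.prop_of_iso (HomologicalComplex.biprodXIso T' T'' a) key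
    obtain ⟨k', k''⟩ := hfac _ _ key'
    refine ⟨⟨T', fun i => ?_, hz', ⟨e'⟩⟩, ⟨T'', fun i => ?_, hz'', ⟨e''⟩⟩⟩
    · rcases lt_trichotomy i a with hi | rfl | hi
      · exact P.prop_of_isZero (hz' i (Or.inl hi))
      · exact k'
      · exact hP' i hi
    · rcases lt_trichotomy i a with hi | rfl | hi
      · exact P.prop_of_isZero (hz'' i (Or.inl hi))
      · exact k''
      · exact hP'' i hi

end Groth.Agent.S5622
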