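import Groth.Statements.S5625
import Groth.Agent.Lib.Helper23QCohLocal
import Groth.Agent.Lib.Helper20PullbackAff

set_option autoImplicit false
universe u
open CategoryTheory AlgebraicGeometry
open QCohCat

namespace Groth.Agent.S5625

section Aux
variable {X Y : Scheme.{u}} (f : X ⟶ Y)

/-- pullback on quasi-coherent modules -/
noncomputable def pbQ : QCohCat.QCoh Y ⥤ QCohCat.QCoh X :=
  (QCohCat.isQCoh X).lift ((QCohCat.isQCoh Y).ι ⋙ Scheme.Modules.pullback f) (fun G => by
    have : G.obj.IsQuasicoherent := G.property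
    exact Groth.Agent.Lib.Helper20.PullbackAff.isQuasicoherent_pullback f G.obj)

/-- pushforward on quasi-coherent modules (qcqs) -/
noncomputable def pfQ [QuasiCompact f] [QuasiSeparated f] : QCohCat.QCoh X ⥤ QCohCat.QCoh Y :=
  (QCohCat.isQCoh Y).lift ((QCohCat.isQCoh X).ι ⋙ Scheme.Modules.pushforward f) (fun F => by
    have : F.obj.IsQuasicoherent := F.property
    exact Groth.Agent.Lib.Helper23.QCohLocal.isQuasicoherent_pushforward f F.obj)

noncomputable def adjQ [QuasiCompact f] [QuasiSeparated f] : pbQ f ⊣ pfQ f :=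
  (Scheme.Modules.pullbackPushforwardAdjunction f).restrictFullyFaithful
    (QCohCat.isQCoh Y).fullyFaithfulι (QCohCat.isQCoh X).fullyFaithfulι
    (Iso.refl _) (Iso.refl _)


end Aux

/-- Let f : X ⟶ Y be a morphism of quasi-compact quasi-separated schemes and Q_X, Q_Y coherators (right
adjoints of the inclusions QCoh ⥤ Mod) on X and Y. Then Q_Y ∘ f_* and f_* ∘ Q_X agree: the two
composite functors Mod(O_X) ⥤ Mod(O_Y) are naturally isomorphic (existence of a natural isomorphism;
the source's isomorphism is the canonical one between two right adjoints of the same functor). -/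
theorem result {X Y : Scheme.{u}} [CompactSpace X] [QuasiSeparatedSpace X]
    [CompactSpace Y] [QuasiSeparatedSpace Y] (f : X ⟶ Y)
    (QX : X.Modules ⥤ QCohCat.QCoh X) (adjX : (QCohCat.isQCoh X).ι ⊣ QX)
    (QY : Y.Modules ⥤ QCohCat.QCoh Y) (adjY : (QCohCat.isQCoh Y).ι ⊣ QY) :
    Nonempty ((QX ⋙ (QCohCat.isQCoh X).ι ⋙ Scheme.Modules.pushforward f) ≅
      (Scheme.Modules.pushforward f ⋙ QY ⋙ (QCohCat.isQCoh Y).ι)) := by
  have : QuasiCompact f := inferInstance
  have : QuasiSeparated f := inferInstance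
  -- two right adjoints of `ιY ⋙ f^*`
  let A1 : ((QCohCat.isQCoh Y).ι ⋙ Scheme.Modules.pullback f) ⊣ (QX ⋙ pfQ f) :=
    ((adjQ f).comp adjX).ofNatIsoLeft (Iso.refl _)
  let A2 : ((QCohCat.isQCoh Y).ι ⋙ Scheme.Modules.pullback f) ⊣
      (Scheme.Modules.pushforward f ⋙ QY) :=
    adjY.comp (Scheme.Modules.pullbackPushforwardAdjunction f)
  let e : QX ⋙ pfQ f ≅ Scheme.Modules.pushforward f ⋙ QY := A1.rightAdjointUniq A2
  exact ⟨(Iso.refl _ : QX ⋙ (QCohCat.isQCoh X).ι ⋙ Scheme.Modules.pushforward f ≅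
      (QX ⋙ pfQ f) ⋙ (QCohCat.isQCoh Y).ι) ≪≫ Functor.isoWhiskerRight e (QCohCat.isQCoh Y).ι ≪≫
      Functor.associator _ _ _⟩

end Groth.Agent.S5625
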