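import Groth.Statements.S5629
import Mathlib
import Groth.Agent.Lib.Helper1FibPerfB
import Groth.Agent.Lib.Helper1PC13
set_option maxHeartbeats 400000
-- import your own Groth.Agent.* helpers here

set_option autoImplicit false
universe u
open CategoryTheory CategoryTheory.Limits AlgebraicGeometry Opposite
attribute [local instance] HasDerivedCategory.standard
open KSix

namespace Groth.Agent.S5629

/-- Last assertion (criterion of perfection by fibres): let f : X ⟶ S be flat and locally of finite
presentation and E ∈ D⁻(O_X). Then E is perfect if and only if E is perfect relative to f and, for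
every s ∈ S, the derived pullback E_{X_s} = Li_s^* E to the fibre is perfect. Since f is flat and
locally of finite presentation, "perfect relative to f" is written as: pseudo-coherent and locally
of finite tor dimension relative to S (locally represented by bounded complexes of S-flat modules).
The derived pullbacks to the fibres are taken under their existence binders. -/
theorem result {X S : Scheme.{u}} (f : X ⟶ S) [Flat f] [LocallyOfFinitePresentation f]
    [∀ s : S, DCoh.HasLpull (f.fiberι s)]
    (E : DCoh.D X) (b : ℤ) [E.IsLE b] :
    DCoh.IsPerfect E ↔
      ((∀ m : ℤ, DCoh.IsPseudoCoherentD m E) ∧ DCoh.LocHasFiniteRelTorDim f E ∧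
        ∀ s : S, DCoh.IsPerfect ((DCoh.Lpull (f.fiberι s)).obj E)) := by
  constructor
  · intro h
    exact ⟨((Groth.Agent.Lib.Helper1.SPL.isPerfect_iff_pseudoCoherent_locFiniteTorDim E).1 h).1,
      Groth.Agent.Lib.Helper1.FibPerf.locHasFiniteRelTorDim_of_isPerfect f E h,
      fun s => Groth.Agent.Lib.Helper1.Sky.isPerfect_lpull (f.fiberι s) E h⟩
  · rintro ⟨h1, h2, h3⟩
    exact Groth.Agent.Lib.Helper1.FibPerf.isPerfect_of_fibres f E h1 h2 h3

end Groth.Agent.S5629
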