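import Groth.Statements.S5657
import Mathlib

set_option autoImplicit false
universe u
open TensorProduct
open W4sga6xxiii

namespace Groth.Agent.S5657

open TensorProduct


lemma step {A : Type u} [CommRing A] (y : A) (m : ℕ) (hy : y ^ (m + 1) = 0) (n : ℤ) :
    (∑ k ∈ Finset.range (m + 1), Ring.choose (n + 1) k • y ^ k)
      = (∑ k ∈ Finset.range (m + 1), Ring.choose n k • y ^ k) * (1 + y) := by
  rw [mul_add, mul_one, Finset.sum_mul]
  have h1 : ∑ k ∈ Finset.range (m + 1), Ring.choose (n + 1) k • y ^ k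
      = ∑ k ∈ Finset.range m, (Ring.choose n k + Ring.choose n (k + 1)) • y ^ (k + 1) + 1 := by
    rw [Finset.sum_range_succ']
    simp [Ring.choose_succ_succ]
  have h2 : ∑ k ∈ Finset.range (m + 1), Ring.choose n k • y ^ k
      = ∑ k ∈ Finset.range m, Ring.choose n (k + 1) • y ^ (k + 1) + 1 := by
    rw [Finset.sum_range_succ']
    simp
  have h3 : ∑ k ∈ Finset.range (m + 1), Ring.choose n k • y ^ k * y
      = ∑ k ∈ Finset.range m, Ring.choose n k • y ^ (k + 1) := by
    rw [Finset.sum_range_succ]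
    rw [smul_mul_assoc, ← pow_succ, hy, smul_zero, add_zero]
    refine Finset.sum_congr rfl fun k _ => ?_
    rw [smul_mul_assoc, ← pow_succ]
  rw [h1, h2, h3]
  simp only [add_smul, Finset.sum_add_distrib]
  ring

lemma unit_zpow {A : Type u} [CommRing A] (y : A) (m : ℕ) (hy : y ^ (m + 1) = 0) (u : Aˣ)
    (hu : (u : A) = 1 + y) (n : ℤ) :
    ((u ^ n : Aˣ) : A) = ∑ k ∈ Finset.range (m + 1), Ring.choose n k • y ^ k := by
  induction n using Int.induction_on with
  | zero =>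
    rw [zpow_zero, Finset.sum_range_succ']
    simp
  | succ n ih =>
    rw [zpow_add_one, Units.val_mul, ih, hu, step y m hy]
  | pred n ih =>
    have h := step y m hy (-(n : ℤ) - 1)
    rw [sub_add_cancel, ← ih, ← hu] at h
    rw [zpow_sub_one, Units.val_mul, h, mul_assoc, ← Units.val_mul, mul_inv_cancel, Units.val_one,
      mul_one]

/-- Let A be a commutative ring, I an ideal of A with I^{m+1} = 0, and P ⊆ Aˣ the subgroup of units of
the form 1 + y with y ∈ I. Then the map P → A ⊗_ℤ ℚ, x ↦ x ⊗ 1, is a polynomial map of degree ≤ m on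
the abelian group P (written additively): along every finite sequence x_1, …, x_r in P one has
x_1^{n_1}⋯x_r^{n_r} ⊗ 1 = Σ_k Π_i C(n_i, k_i) y_k with y_k = 0 whenever k_1 + ⋯ + k_r > m. -/
theorem result (A : Type u) [CommRing A] (I : Ideal A) (m : ℕ) (hI : I ^ (m + 1) = ⊥)
    (P : Subgroup Aˣ) (hP : ∀ u : Aˣ, u ∈ P ↔ (u : A) - 1 ∈ I) :
    W4sga6xxiii.IsPolyMapLE (fun u : Additive P => (((Additive.toMul u : P) : Aˣ) : A) ⊗ₜ[ℤ] (1 : ℚ)) m := by
  intro r x
  -- y i := x i - 1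
  let yy : Fin r → A := fun i => (((Additive.toMul (x i) : P) : Aˣ) : A) - 1
  have hyy : ∀ i, yy i ∈ I := fun i => (hP _).mp (Additive.toMul (x i) : P).2
  have hpow : ∀ i, yy i ^ (m + 1) = 0 := by
    intro i
    have : yy i ^ (m + 1) ∈ I ^ (m + 1) := Ideal.pow_mem_pow (hyy i) _
    rw [hI] at this
    exact this
  refine ⟨fun k => (∏ i, yy i ^ (k i : ℕ)) ⊗ₜ[ℤ] (1 : ℚ), ?_, ?_⟩
  · intro k hk
    have h1 : (∏ i, yy i ^ (k i : ℕ)) ∈ I ^ (∑ i, (k i : ℕ)) := by
      rw [← Finset.prod_pow_eq_pow_sum]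
      exact Ideal.prod_mem_prod fun i _ => Ideal.pow_mem_pow (hyy i) _
    have h2 : I ^ (∑ i, (k i : ℕ)) ≤ I ^ (m + 1) := Ideal.pow_le_pow_right (by omega)
    have h3 : (∏ i, yy i ^ (k i : ℕ)) = 0 := by
      have := h2 h1
      rw [hI] at this
      exact this
    show (∏ i, yy i ^ (k i : ℕ)) ⊗ₜ[ℤ] (1 : ℚ) = 0
    rw [h3, zero_tmul]
  · intro n
    have hcoe : (((Additive.toMul (∑ i, n i • x i) : P) : Aˣ) : A)
        = ∏ i, ((((Additive.toMul (x i) : P) : Aˣ) ^ (n i) : Aˣ) : A) := by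
      rw [toMul_sum]
      simp only [toMul_zsmul]
      rw [Subgroup.val_finsetProd, Units.coe_prod]
      simp
    show (((Additive.toMul (∑ i, n i • x i) : P) : Aˣ) : A) ⊗ₜ[ℤ] (1 : ℚ) = _
    rw [hcoe]
    have hexp : ∀ i, ((((Additive.toMul (x i) : P) : Aˣ) ^ (n i) : Aˣ) : A)
        = ∑ k : Fin (m + 1), Ring.choose (n i) (k : ℕ) • yy i ^ (k : ℕ) := by
      intro i
      rw [unit_zpow (yy i) m (hpow i) _ (by simp [yy]) (n i), Finset.sum_range]
    simp only [hexp]
    rw [Finset.prod_univ_sum]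
    rw [TensorProduct.sum_tmul]
    refine Finset.sum_congr ?_ fun k _ => ?_
    · ext k; simp
    · rw [Finset.prod_smul, TensorProduct.smul_tmul']

end Groth.Agent.S5657
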