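import Groth.Statements.S5663
import Groth.Agent.Lib.Helper4IterEq

set_option autoImplicit false
set_option linter.style.haveILetI false
universe u
open TensorProduct
open CAlg

namespace Groth.Agent.S5663

/-- Let A be a Noetherian ring and B a finite A-algebra with A → B injective (a finite schematically
dominant morphism Spec B → Spec A). Define subalgebras B_0 = B and B_{i+1} = the equalizer of the
two maps B_i ⇉ B_i ⊗_A B_i, b ↦ b ⊗ 1, 1 ⊗ b. Then B_m = A (the image of A) for some m; equivalently
Spec B → Spec A factors as a finite chain of finite morphisms Spec B_i → Spec B_{i+1} each of which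
is an effective epimorphism (B_{i+1} is the equalizer of B_i ⇉ B_i ⊗_{B_{i+1}} B_i). The sequence is
given here as any family C of subalgebras satisfying the recursion. (The published statement is for
a finite morphism X → Y of schemes with Y Noetherian and O_Y → f_*O_X injective; this row is the
affine case.) -/
theorem result (A B : Type u) [CommRing A] [CommRing B] [Algebra A B]
    [IsNoetherianRing A] [Module.Finite A B] (hinj : Function.Injective (algebraMap A B))
    (C : ℕ → Subalgebra A B) (h0 : C 0 = ⊤)
    (hstep : ∀ (i : ℕ) (b : B), b ∈ C (i + 1) ↔ ∃ hb : b ∈ C i,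
      ((⟨b, hb⟩ : C i) ⊗ₜ[A] (1 : C i) : C i ⊗[A] C i) = (1 : C i) ⊗ₜ[A] (⟨b, hb⟩ : C i)) :
    ∃ m : ℕ, C m = ⊥ := by
  classical
  haveI : IsNoetherian A B := isNoetherian_of_isNoetherianRing_of_finite A B
  have hanti1 : ∀ i, C (i + 1) ≤ C i := fun i b hb => ((hstep i b).mp hb).1
  have hanti : Antitone C := antitone_nat_of_succ_le hanti1
  let Abar : Submodule A B := Subalgebra.toSubmodule (⊥ : Subalgebra A B)
  let π := Abar.mkQ
  let N : ℕ → Submodule A (B ⧸ Abar) := fun i => (Subalgebra.toSubmodule (C i)).map π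
  have hN : Antitone N := fun i j hij =>
    Submodule.map_mono (Subalgebra.toSubmodule.monotone (hanti hij))
  let I : ℕ →o Ideal A :=
    ⟨fun i => (N i).annihilator, fun i j hij => Submodule.annihilator_mono (hN hij)⟩
  obtain ⟨n, hn⟩ := monotone_stabilizes_iff_noetherian.mpr (inferInstance : IsNoetherian A A) I
  have hI : ∀ i (a : A), a ∈ (N i).annihilator ↔ ∀ c ∈ C i, a • c ∈ Abar := by
    intro i a
    rw [Submodule.mem_annihilator]
    constructor
    · intro h c hc
      have := h (π c) (Submodule.mem_map_of_mem hc)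
      rwa [← map_smul, Submodule.mkQ_apply, Submodule.Quotient.mk_eq_zero] at this
    · rintro h _ ⟨c, hc, rfl⟩
      rw [← map_smul, Submodule.mkQ_apply, Submodule.Quotient.mk_eq_zero]
      exact h c hc
  by_cases htop : (N n).annihilator = ⊤
  · refine ⟨n, le_bot_iff.mp fun c hc => ?_⟩
    have := (hI n 1).mp (htop ▸ Submodule.mem_top) c hc
    rwa [one_smul] at this
  exfalso
  obtain ⟨p, hp⟩ := Ideal.nonempty_minimalPrimes htop
  haveI := hp.1.1
  let F : ℕ → Submodule A ↥(N n) := fun j => (N (n + j)).comap (N n).subtype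
  have hF : Antitone F := fun i j hij =>
    Submodule.comap_mono (hN (Nat.add_le_add_left hij n))
  have hp' : p ∈ (Module.annihilator A ↥(N n)).minimalPrimes := hp
  obtain ⟨j, s, hs, hsx⟩ := Groth.Agent.Lib.Helper4.IterEq.exists_smul_mem_succ p hp' F hF
  have hbot : ∀ i, Abar ≤ Subalgebra.toSubmodule (C i) := fun i =>
    Subalgebra.toSubmodule.monotone bot_le
  have hsC : ∀ c ∈ C (n + j), s • c ∈ C (n + j + 1) := by
    intro c hc
    have hcn : π c ∈ N n := Submodule.mem_map_of_mem (hanti (Nat.le_add_right n j) hc)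
    have hmem : (⟨π c, hcn⟩ : ↥(N n)) ∈ F j := by
      show π c ∈ N (n + j)
      exact Submodule.mem_map_of_mem hc
    obtain ⟨c', hc', hcc'⟩ := hsx ⟨π c, hcn⟩ hmem
    have hsub : s • c - c' ∈ Abar := by
      rw [← Submodule.Quotient.mk_eq_zero, Submodule.Quotient.mk_sub, sub_eq_zero]
      exact hcc'.symm
    have : s • c = (s • c - c') + c' := by ring
    rw [this]
    exact add_mem (hbot _ hsub) hc'
  haveI : Module.Finite A (C (n + j)) :=
    Module.Finite.of_fg (IsNoetherian.noetherian (Subalgebra.toSubmodule (C (n + j))))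
  obtain ⟨t, htp, ht⟩ := Groth.Agent.Lib.Helper4.IterEq.key (C (n + j)) p s hs (by
    intro c
    obtain ⟨hb, hb'⟩ := (hstep (n + j) (s • (c : B))).mp (hsC c c.2)
    exact hb')
  have ht' : t ∈ (N (n + j)).annihilator := (hI _ t).mpr fun c hc => by
    obtain ⟨a, ha⟩ := ht ⟨c, hc⟩
    have := congrArg Subtype.val ha
    exact ⟨a, this.symm⟩
  have : t ∈ p := hp.1.2 (by
    have := hn (n + j) (Nat.le_add_right n j)
    show t ∈ I n
    rw [this]; exact ht')
  exact htp this

end Groth.Agent.S5663
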