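import Groth.Statements.S5666
import Mathlib

set_option autoImplicit false
universe u
open CategoryTheory
open Dual

namespace Groth.Agent.S5666

open CategoryTheory Abelian Pointwise

section
variable {A : Type u} [CommRing A]

/-- modules killed by `J` -/
def Killed (J : Ideal A) (M : ModuleCat.{u} A) : Prop := ∀ a ∈ J, ∀ m : M, a • m = 0

/-- an isomorphism `Ext^i(N, M) ≃ M^b`, natural in `M` killed by `J`. -/
structure NatIso (N : ModuleCat.{u} A) (J : Ideal A) (i b : ℕ) where
  φ : ∀ (M : ModuleCat.{u} A), Killed J M → (Ext N M i ≃ₗ[A] (Fin b → M))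
  nat : ∀ (M M' : ModuleCat.{u} A) (hM : Killed J M) (hM' : Killed J M') (g : M ⟶ M')
    (z : Ext N M i), φ M' hM' (z.comp (Ext.mk₀ g) (add_zero i)) = fun j => g.hom (φ M hM z j)

def NatIso.cast {N : ModuleCat.{u} A} {J : Ideal A} {i b b' : ℕ} (h : b = b')
    (e : NatIso N J i b) : NatIso N J i b' := by
  subst h; exact e

def NatIso.restrict {N : ModuleCat.{u} A} {J J' : Ideal A} {i b : ℕ} (h : J' ≤ J)
    (e : NatIso N J' i b) : NatIso N J i b where
  φ M hM := e.φ M (fun a ha m => hM a (h ha) m)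
  nat M M' hM hM' g z := e.nat M M' _ _ g z

/-- the free object `(A/J)^b`. -/
abbrev Fr (J : Ideal A) (b : ℕ) : ModuleCat.{u} A := ModuleCat.of A (Fin b → A ⧸ J)

theorem killed_Fr (J : Ideal A) (b : ℕ) : Killed J (Fr J b) := by
  intro a ha c
  funext j
  show a • c j = 0
  obtain ⟨r, hr⟩ := Ideal.Quotient.mk_surjective (c j)
  rw [← hr, ← Ideal.Quotient.mkₐ_eq_mk A, ← map_smul, Ideal.Quotient.mkₐ_eq_mk,
    Ideal.Quotient.eq_zero_iff_mem, smul_eq_mul]
  exact Ideal.mul_mem_right _ _ ha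

theorem Fr_ext {J : Ideal A} {b : ℕ} {M : Type u} [AddCommGroup M] [Module A M]
    (f g : (Fin b → A ⧸ J) →ₗ[A] M)
    (h : ∀ j, f (Pi.single j 1) = g (Pi.single j 1)) : f = g := by
  refine LinearMap.pi_ext fun j c => ?_
  obtain ⟨r, rfl⟩ := Ideal.Quotient.mk_surjective c
  have : (Pi.single j (Ideal.Quotient.mk J r) : Fin b → A ⧸ J) =
      r • (Pi.single j 1 : Fin b → A ⧸ J) := by
    rw [← Pi.single_smul]
    congr 1
    rw [← Ideal.Quotient.mkₐ_eq_mk A, ← mul_one r, ← smul_eq_mul, map_smul]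
    simp
  rw [this, map_smul, map_smul, h]

/-- the map `(A/J)^b → M` determined by `m : Fin b → M` when `J M = 0`. -/
noncomputable def gm {J : Ideal A} {b : ℕ} {M : ModuleCat.{u} A} (hM : Killed J M)
    (m : Fin b → M) : (Fin b → A ⧸ J) →ₗ[A] M :=
  ∑ j, (Submodule.liftQ J (LinearMap.toSpanSingleton A M (m j)) (by
    intro a ha
    rw [LinearMap.mem_ker, LinearMap.toSpanSingleton_apply]
    exact hM a ha _)).comp (LinearMap.proj j)

theorem gm_single {J : Ideal A} {b : ℕ} {M : ModuleCat.{u} A} (hM : Killed J M)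
    (m : Fin b → M) (j : Fin b) : gm hM m (Pi.single j 1) = m j := by
  unfold gm
  rw [LinearMap.sum_apply, Finset.sum_eq_single j]
  · rw [LinearMap.comp_apply, LinearMap.proj_apply, Pi.single_eq_same]
    show Submodule.liftQ J _ _ (Submodule.Quotient.mk 1) = _
    rw [Submodule.liftQ_apply, LinearMap.toSpanSingleton_apply, one_smul]
  · intro k _ hk
    rw [LinearMap.comp_apply, LinearMap.proj_apply, Pi.single_eq_of_ne hk, map_zero]
  · intro h; exact absurd (Finset.mem_univ j) h

end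

section step
variable {A : Type u} [CommRing A] {N Q : ModuleCat.{u} A} {x : A} {π : N ⟶ Q}
  {w : (x • 𝟙 N) ≫ π = 0} (hS : (ShortComplex.mk (x • 𝟙 N) π w).ShortExact)
  {J : Ideal A} (hx : x ∈ J)

include hx in
theorem smul_ext_zero {M : ModuleCat.{u} A} (hM : Killed J M) {n : ℕ} (z : Ext N M n) :
    (Ext.mk₀ (x • 𝟙 N)).comp z (zero_add n) = 0 := by
  have h0 : x • 𝟙 M = 0 := by
    ext m
    exact hM x hx m
  rw [Ext.mk₀_smul, Ext.smul_comp, Ext.mk₀_id_comp, ← Ext.comp_mk₀_id z, ← Ext.comp_smul,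
    ← Ext.mk₀_smul, h0, Ext.mk₀_zero, Ext.comp_zero]

/-- connecting map -/
noncomputable def δM (M : ModuleCat.{u} A) (i : ℕ) : Ext N M i →ₗ[A] Ext Q M (i + 1) where
  toFun z := hS.extClass.comp z (add_comm 1 i)
  map_add' a b := Ext.comp_add _ _ _ _
  map_smul' r a := Ext.comp_smul _ _ _ _

/-- pullback along `π` -/
noncomputable def pullM (π : N ⟶ Q) (M : ModuleCat.{u} A) (n : ℕ) : Ext Q M n →ₗ[A] Ext N M n where
  toFun z := (Ext.mk₀ π).comp z (zero_add n)
  map_add' a b := Ext.comp_add _ _ _ _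
  map_smul' r a := Ext.comp_smul _ _ _ _

include hx in
theorem δM_injective {M : ModuleCat.{u} A} (hM : Killed J M) (i : ℕ) :
    Function.Injective (δM hS M i) := by
  rw [injective_iff_map_eq_zero]
  intro z hz
  obtain ⟨z₂, hz₂⟩ := Ext.contravariant_sequence_exact₁ hS M z (add_comm 1 i) hz
  rw [← hz₂]
  exact smul_ext_zero hx hM z₂

include hS hx in
theorem pullM_surjective {M : ModuleCat.{u} A} (hM : Killed J M) (n : ℕ) :
    Function.Surjective (pullM π M n) := by
  intro z
  obtain ⟨z₃, hz₃⟩ := Ext.contravariant_sequence_exact₂ hS M z (smul_ext_zero hx hM z)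
  exact ⟨z₃, hz₃⟩

theorem pullM_δM {M : ModuleCat.{u} A} (i : ℕ) (z : Ext N M i) :
    pullM π M (i + 1) (δM hS M i z) = 0 := by
  show (Ext.mk₀ π).comp (hS.extClass.comp z (add_comm 1 i)) (zero_add (i + 1)) = 0
  exact hS.comp_extClass_assoc z (add_comm 1 i)

theorem exists_δM_of_pullM_eq_zero {M : ModuleCat.{u} A} (i : ℕ) (z : Ext Q M (i + 1))
    (hz : pullM π M (i + 1) z = 0) : ∃ y, δM hS M i y = z := by
  obtain ⟨y, hy⟩ := Ext.contravariant_sequence_exact₃ hS M z hz (add_comm 1 i)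
  exact ⟨y, hy⟩

theorem pullM_nat {M M' : ModuleCat.{u} A} (g : M ⟶ M') (n : ℕ) (z : Ext Q M n) :
    pullM π M' n (z.comp (Ext.mk₀ g) (add_zero n)) =
      (pullM π M n z).comp (Ext.mk₀ g) (add_zero n) := by
  show (Ext.mk₀ π).comp (z.comp (Ext.mk₀ g) (add_zero n)) (zero_add n) =
    ((Ext.mk₀ π).comp z (zero_add n)).comp (Ext.mk₀ g) (add_zero n)
  rw [Ext.comp_assoc_of_third_deg_zero]

theorem δM_nat {M M' : ModuleCat.{u} A} (g : M ⟶ M') (i : ℕ) (z : Ext N M i) :
    δM hS M' i (z.comp (Ext.mk₀ g) (add_zero i)) =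
      (δM hS M i z).comp (Ext.mk₀ g) (add_zero (i + 1)) := by
  show hS.extClass.comp (z.comp (Ext.mk₀ g) (add_zero i)) (add_comm 1 i) =
    (hS.extClass.comp z (add_comm 1 i)).comp (Ext.mk₀ g) (add_zero (i + 1))
  rw [Ext.comp_assoc_of_third_deg_zero]

end step

section gmlemmas
variable {A : Type u} [CommRing A] {J : Ideal A} {b : ℕ}

theorem gm_add {M : ModuleCat.{u} A} (hM : Killed J M) (m m' : Fin b → M) :
    gm hM (m + m') = gm hM m + gm hM m' := by
  refine Fr_ext _ _ fun j => ?_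
  rw [LinearMap.add_apply, gm_single, gm_single, gm_single, Pi.add_apply]

theorem gm_smul {M : ModuleCat.{u} A} (hM : Killed J M) (r : A) (m : Fin b → M) :
    gm hM (r • m) = r • gm hM m := by
  refine Fr_ext _ _ fun j => ?_
  rw [LinearMap.smul_apply, gm_single, gm_single, Pi.smul_apply]

theorem gm_comp {M M' : ModuleCat.{u} A} (hM : Killed J M) (hM' : Killed J M') (g : M ⟶ M')
    (m : Fin b → M) : g.hom.comp (gm hM m) = gm hM' (fun j => g.hom (m j)) := by
  refine Fr_ext _ _ fun j => ?_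
  rw [LinearMap.comp_apply, gm_single, gm_single]

/-- `(M^a) × (M^b) ≃ M^(a+b)`. -/
noncomputable def appendL (a b : ℕ) (M : Type u) [AddCommGroup M] [Module A M] :
    ((Fin a → M) × (Fin b → M)) ≃ₗ[A] (Fin (a + b) → M) :=
  (LinearEquiv.sumArrowLequivProdArrow (Fin a) (Fin b) A M).symm.trans
    (LinearEquiv.funCongrLeft A M finSumFinEquiv.symm)

theorem appendL_nat (a b : ℕ) {M M' : Type u} [AddCommGroup M] [Module A M] [AddCommGroup M']
    [Module A M'] (g : M →ₗ[A] M') (u : Fin a → M) (m : Fin b → M) :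
    appendL (A := A) a b M' (fun j => g (u j), fun j => g (m j)) =
      fun k => g (appendL (A := A) a b M (u, m) k) := by
  funext k
  simp only [appendL, LinearEquiv.trans_apply, LinearEquiv.funCongrLeft_apply,
    LinearMap.funLeft_apply]
  rcases finSumFinEquiv.symm k with j | j <;> rfl

end gmlemmas

section build
variable {A : Type u} [CommRing A] {N Q : ModuleCat.{u} A} {x : A} {π : N ⟶ Q}
  {w : (x • 𝟙 N) ≫ π = 0} (hS : (ShortComplex.mk (x • 𝟙 N) π w).ShortExact)
  {J : Ideal A} (hx : x ∈ J)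

include hS in
theorem pullM_zero_injective (M : ModuleCat.{u} A) : Function.Injective (pullM π M 0) := by
  haveI : Epi π := hS.epi_g
  exact Ext.precomp_mk₀_injective_of_epi M π

/-- degree-zero step -/
noncomputable def natIsoZero {b : ℕ} (e : NatIso N J 0 b) : NatIso Q J 0 b where
  φ M hM := (LinearEquiv.ofBijective (pullM π M 0)
    ⟨pullM_zero_injective hS M, pullM_surjective hS hx hM 0⟩).trans (e.φ M hM)
  nat M M' hM hM' g z := by
    show e.φ M' hM' (pullM π M' 0 (z.comp (Ext.mk₀ g) (add_zero 0))) =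
      fun j => g.hom (e.φ M hM (pullM π M 0 z) j)
    rw [pullM_nat]
    exact e.nat M M' hM hM' g _

variable {i a b : ℕ} (ea : NatIso N J i a) (eb : NatIso N J (i + 1) b)

/-- the universal class -/
noncomputable def iota : Ext N (Fr J b) (i + 1) :=
  (eb.φ (Fr J b) (killed_Fr J b)).symm (fun j => Pi.single j 1)

/-- a lift of the universal class -/
noncomputable def sigma : Ext Q (Fr J b) (i + 1) :=
  (pullM_surjective hS hx (killed_Fr J b) (i + 1) (iota eb)).choose

theorem pull_sigma : pullM π (Fr J b) (i + 1) (sigma hS hx eb) = iota eb :=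
  (pullM_surjective hS hx (killed_Fr J b) (i + 1) (iota eb)).choose_spec

/-- the section -/
noncomputable def sM (M : ModuleCat.{u} A) (hM : Killed J M) :
    (Fin b → M) →ₗ[A] Ext Q M (i + 1) where
  toFun m := (sigma hS hx eb).comp (Ext.mk₀ (ModuleCat.ofHom (gm hM m))) (add_zero _)
  map_add' m m' := by
    rw [gm_add, ModuleCat.ofHom_add, Ext.mk₀_add, Ext.comp_add]
  map_smul' r m := by
    have : ModuleCat.ofHom (r • gm hM m) = r • ModuleCat.ofHom (gm hM m) := rfl
    rw [gm_smul, this, Ext.mk₀_smul, Ext.comp_smul]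
    rfl

theorem phi_pull_sM (M : ModuleCat.{u} A) (hM : Killed J M) (m : Fin b → M) :
    eb.φ M hM (pullM π M (i + 1) (sM hS hx eb M hM m)) = m := by
  show eb.φ M hM (pullM π M (i + 1)
    ((sigma hS hx eb).comp (Ext.mk₀ (ModuleCat.ofHom (gm hM m))) (add_zero _))) = m
  rw [pullM_nat, pull_sigma, eb.nat (Fr J b) M (killed_Fr J b) hM]
  funext j
  show gm hM m ((eb.φ (Fr J b) (killed_Fr J b)) (iota eb) j) = m j
  unfold iota
  rw [LinearEquiv.apply_symm_apply, gm_single]

/-- the comparison map -/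
noncomputable def Theta (M : ModuleCat.{u} A) (hM : Killed J M) :
    ((Fin a → M) × (Fin b → M)) →ₗ[A] Ext Q M (i + 1) :=
  LinearMap.coprod ((δM hS M i).comp (ea.φ M hM).symm.toLinearMap) (sM hS hx eb M hM)

theorem Theta_apply (M : ModuleCat.{u} A) (hM : Killed J M) (u : Fin a → M) (m : Fin b → M) :
    Theta hS hx ea eb M hM (u, m) =
      δM hS M i ((ea.φ M hM).symm u) + sM hS hx eb M hM m := rfl

theorem Theta_bijective (M : ModuleCat.{u} A) (hM : Killed J M) :
    Function.Bijective (Theta hS hx ea eb M hM) := by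
  constructor
  · rw [injective_iff_map_eq_zero]
    rintro ⟨u, m⟩ h
    rw [Theta_apply] at h
    have h1 := congrArg (fun z => eb.φ M hM (pullM π M (i + 1) z)) h
    simp only [map_add, pullM_δM, map_zero, zero_add, phi_pull_sM] at h1
    subst h1
    rw [map_zero, add_zero] at h
    have h2 := δM_injective hS hx hM i (h.trans (map_zero _).symm)
    have h3 : u = 0 := by
      have := congrArg (ea.φ M hM) h2
      rwa [LinearEquiv.apply_symm_apply, map_zero] at this
    rw [h3]
    rfl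
  · intro z
    set m := eb.φ M hM (pullM π M (i + 1) z) with hm
    have h1 : pullM π M (i + 1) (z - sM hS hx eb M hM m) = 0 := by
      apply (eb.φ M hM).injective
      rw [map_sub, map_sub, phi_pull_sM, map_zero, ← hm, sub_self]
    obtain ⟨y, hy⟩ := exists_δM_of_pullM_eq_zero hS i _ h1
    refine ⟨(ea.φ M hM y, m), ?_⟩
    rw [Theta_apply, LinearEquiv.symm_apply_apply, hy, sub_add_cancel]

theorem Theta_nat (M M' : ModuleCat.{u} A) (hM : Killed J M) (hM' : Killed J M') (g : M ⟶ M')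
    (u : Fin a → M) (m : Fin b → M) :
    (Theta hS hx ea eb M hM (u, m)).comp (Ext.mk₀ g) (add_zero (i + 1)) =
      Theta hS hx ea eb M' hM' (fun j => g.hom (u j), fun j => g.hom (m j)) := by
  rw [Theta_apply, Theta_apply, Ext.add_comp, ← δM_nat]
  congr 1
  · congr 1
    apply (ea.φ M' hM').injective
    rw [ea.nat M M' hM hM', LinearEquiv.apply_symm_apply, LinearEquiv.apply_symm_apply]
  · show ((sigma hS hx eb).comp (Ext.mk₀ (ModuleCat.ofHom (gm hM m))) (add_zero _)).comp
      (Ext.mk₀ g) (add_zero (i + 1)) =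
      (sigma hS hx eb).comp (Ext.mk₀ (ModuleCat.ofHom (gm hM' fun j => g.hom (m j)))) (add_zero _)
    rw [Ext.comp_assoc_of_third_deg_zero, Ext.mk₀_comp_mk₀, ← gm_comp hM hM' g m]
    rfl

/-- successor step -/
noncomputable def natIsoSucc : NatIso Q J (i + 1) (a + b) where
  φ M hM := (LinearEquiv.ofBijective (Theta hS hx ea eb M hM)
    (Theta_bijective hS hx ea eb M hM)).symm.trans (appendL a b M)
  nat M M' hM hM' g z := by
    obtain ⟨⟨u, m⟩, rfl⟩ := (Theta_bijective hS hx ea eb M hM).2 z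
    rw [Theta_nat hS hx ea eb M M' hM hM' g u m]
    simp only [LinearEquiv.trans_apply]
    have h1 : (LinearEquiv.ofBijective (Theta hS hx ea eb M hM)
        (Theta_bijective hS hx ea eb M hM)).symm (Theta hS hx ea eb M hM (u, m)) = (u, m) :=
      (LinearEquiv.ofBijective _ _).symm_apply_apply _
    have h2 : (LinearEquiv.ofBijective (Theta hS hx ea eb M' hM')
        (Theta_bijective hS hx ea eb M' hM')).symm (Theta hS hx ea eb M' hM'
          (fun j => g.hom (u j), fun j => g.hom (m j))) =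
        (fun j => g.hom (u j), fun j => g.hom (m j)) :=
      (LinearEquiv.ofBijective _ _).symm_apply_apply _
    rw [h1, h2]
    exact appendL_nat a b g.hom u m

end build

section mainpart
variable {A : Type u} [CommRing A]

/-- evaluation at `1`: `Hom(A/⊥, M) ≃ M^1`. -/
noncomputable def evalEquiv (M : Type u) [AddCommGroup M] [Module A M] :
    ((A ⧸ (⊥ : Ideal A)) →ₗ[A] M) ≃ₗ[A] (Fin 1 → M) :=
  (LinearEquiv.arrowCongr (Submodule.quotEquivOfEqBot (⊥ : Ideal A) rfl)
    (LinearEquiv.refl A M)).trans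
    ((LinearMap.ringLmapEquivSelf A A M).trans (LinearEquiv.funUnique (Fin 1) A M).symm)

theorem evalEquiv_apply (M : Type u) [AddCommGroup M] [Module A M]
    (f : (A ⧸ (⊥ : Ideal A)) →ₗ[A] M) (j : Fin 1) :
    evalEquiv M f j = f ((Submodule.quotEquivOfEqBot (⊥ : Ideal A) rfl).symm 1) := rfl

/-- base case, degree zero -/
noncomputable def baseZero : NatIso (ModuleCat.of A (A ⧸ (⊥ : Ideal A))) (⊥ : Ideal A) 0 1 where
  φ M _ := (Ext.linearEquiv₀ (R := A)).trans
    (ModuleCat.homLinearEquiv.trans (evalEquiv (A := A) M))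
  nat M M' _ _ g z := by
    obtain ⟨f, rfl⟩ := (Ext.mk₀_bijective _ _).2 z
    rw [Ext.mk₀_comp_mk₀]
    funext j
    simp only [LinearEquiv.trans_apply]
    rw [evalEquiv_apply, evalEquiv_apply]
    have h1 : ∀ {X Y : ModuleCat.{u} A} (h : X ⟶ Y),
        (Ext.linearEquiv₀ (R := A)) (Ext.mk₀ h) = h := by
      intro X Y h
      apply (Ext.mk₀_bijective _ _).1
      exact Ext.mk₀_linearEquiv₀_apply _
    rw [h1, h1]
    rfl

/-- base case, positive degree -/
noncomputable def baseSucc (i : ℕ) :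
    NatIso (ModuleCat.of A (A ⧸ (⊥ : Ideal A))) (⊥ : Ideal A) (i + 1) 0 :=
  have e0 : (A ⧸ (⊥ : Ideal A)) ≃ₗ[A] A := Submodule.quotEquivOfEqBot _ rfl
  have h1 : Module.Projective A (A ⧸ (⊥ : Ideal A)) := Module.Projective.of_equiv e0.symm
  have h2 : Projective (ModuleCat.of A (A ⧸ (⊥ : Ideal A))) :=
    (ModuleCat.of A (A ⧸ (⊥ : Ideal A))).projective_of_categoryTheory_projective
  have h3 : ∀ M : ModuleCat.{u} A,
      Subsingleton (Ext (ModuleCat.of A (A ⧸ (⊥ : Ideal A))) M (i + 1)) := fun M =>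
    ⟨fun a b => by rw [Ext.eq_zero_of_projective a, Ext.eq_zero_of_projective b]⟩
  { φ := fun M _ =>
      { toFun := fun _ => 0
        invFun := fun _ => 0
        map_add' := fun _ _ => by simp
        map_smul' := fun _ _ => by simp
        left_inv := fun z => (h3 M).elim _ _
        right_inv := fun z => Subsingleton.elim _ _ }
    nat := fun M M' _ _ g z => Subsingleton.elim _ _ }

theorem hx_of (rs : List A) (r : A)
    (h2 : IsSMulRegular (A ⧸ (Ideal.ofList rs • ⊤ : Submodule A A)) r) :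
    IsSMulRegular (A ⧸ Ideal.ofList rs) r := by
  have heq : (Ideal.ofList rs • ⊤ : Submodule A A) = Ideal.ofList rs := by
    rw [smul_eq_mul, Ideal.mul_top]
  exact ((Submodule.quotEquivOfEq _ _ heq).isSMulRegular_congr r).mp h2

theorem step_ideal (J' : Ideal A) (x : A) (hreg : IsSMulRegular (A ⧸ J') x) (J : Ideal A)
    (hJ : J = J' ⊔ Ideal.span {x}) (p : ℕ)
    (ih : ∀ i, Nonempty (NatIso (ModuleCat.of A (A ⧸ J')) J' i (p.choose i))) (i : ℕ) :
    Nonempty (NatIso (ModuleCat.of A (A ⧸ J)) J i ((p + 1).choose i)) := by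
  subst hJ
  have hle : J' ≤ J' ⊔ Ideal.span {x} := le_sup_left
  have hx : x ∈ J' ⊔ Ideal.span {x} := Ideal.mem_sup_right (Ideal.mem_span_singleton_self x)
  have hex : Function.Exact (x • 𝟙 (ModuleCat.of A (A ⧸ J')) :
      ModuleCat.of A (A ⧸ J') ⟶ ModuleCat.of A (A ⧸ J')).hom
      (ModuleCat.ofHom (Submodule.factor hle) :
        ModuleCat.of A (A ⧸ J') ⟶ ModuleCat.of A (A ⧸ (J' ⊔ Ideal.span {x}))).hom := by
    intro y
    obtain ⟨a, rfl⟩ := Ideal.Quotient.mk_surjective y
    constructor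
    · intro hy
      have h1 : Ideal.Quotient.mk (J' ⊔ Ideal.span {x}) a = 0 := hy
      rw [Ideal.Quotient.eq_zero_iff_mem, Submodule.mem_sup] at h1
      obtain ⟨j, hj, s, hs, rfl⟩ := h1
      obtain ⟨c, rfl⟩ := Ideal.mem_span_singleton'.mp hs
      refine ⟨Ideal.Quotient.mk J' c, ?_⟩
      show x • Ideal.Quotient.mk J' c = Ideal.Quotient.mk J' (j + c * x)
      rw [map_add, Ideal.Quotient.eq_zero_iff_mem.mpr hj, zero_add, mul_comm, ← smul_eq_mul,
        ← Ideal.Quotient.mkₐ_eq_mk A, map_smul]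
    · rintro ⟨z, hz⟩
      obtain ⟨c, rfl⟩ := Ideal.Quotient.mk_surjective z
      rw [← hz]
      show (Submodule.factor hle) (x • Ideal.Quotient.mk J' c) = 0
      rw [map_smul]
      show x • Ideal.Quotient.mk (J' ⊔ Ideal.span {x}) c = 0
      rw [← Ideal.Quotient.mkₐ_eq_mk A, ← map_smul, Ideal.Quotient.mkₐ_eq_mk,
        Ideal.Quotient.eq_zero_iff_mem, smul_eq_mul]
      exact Ideal.mul_mem_right _ _ hx
  have hsurj : Function.Surjective (ModuleCat.ofHom (Submodule.factor hle) :
      ModuleCat.of A (A ⧸ J') ⟶ ModuleCat.of A (A ⧸ (J' ⊔ Ideal.span {x}))).hom := by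
    intro y
    obtain ⟨a, rfl⟩ := Ideal.Quotient.mk_surjective y
    exact ⟨Ideal.Quotient.mk J' a, rfl⟩
  have w : (x • 𝟙 (ModuleCat.of A (A ⧸ J'))) ≫ (ModuleCat.ofHom (Submodule.factor hle) :
      ModuleCat.of A (A ⧸ J') ⟶ ModuleCat.of A (A ⧸ (J' ⊔ Ideal.span {x}))) = 0 :=
    ModuleCat.hom_ext (LinearMap.ext fun y => hex.apply_apply_eq_zero y)
  have hS : (ShortComplex.mk _ _ w).ShortExact :=
    ModuleCat.shortComplex_shortExact _ hex hreg hsurj
  cases i with
  | zero =>
    obtain ⟨e⟩ := ih 0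
    exact ⟨(natIsoZero hS hx (e.restrict hle)).cast (by simp)⟩
  | succ i =>
    obtain ⟨ea⟩ := ih i
    obtain ⟨eb⟩ := ih (i + 1)
    exact ⟨(natIsoSucc hS hx (ea.restrict hle) (eb.restrict hle)).cast
      (Nat.choose_succ_succ p i).symm⟩

theorem main (xs : List A) : RingTheory.Sequence.IsWeaklyRegular A xs →
    ∀ i, Nonempty (NatIso (ModuleCat.of A (A ⧸ Ideal.ofList xs)) (Ideal.ofList xs) i
      (xs.length.choose i)) := by
  induction xs using List.reverseRecOn with
  | nil =>
    intro _ i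
    rw [Ideal.ofList_nil]
    cases i with
    | zero => exact ⟨baseZero.cast (by simp)⟩
    | succ i => exact ⟨(baseSucc i).cast (by simp)⟩
  | append_singleton rs x ih =>
    intro hreg i
    rw [RingTheory.Sequence.isWeaklyRegular_append_iff,
      RingTheory.Sequence.isWeaklyRegular_singleton_iff] at hreg
    have hJ : Ideal.ofList (rs ++ [x]) = Ideal.ofList rs ⊔ Ideal.span {x} := by
      rw [Ideal.ofList_append, Ideal.ofList_singleton]
    have hlen : (rs ++ [x]).length = rs.length + 1 := by simp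
    rw [hlen]
    exact step_ideal (Ideal.ofList rs) x (hx_of rs x hreg.2) _ hJ rs.length (ih hreg.1) i

end mainpart

/-- All degrees, for a module killed by `J`: let `A` be a commutative ring, `xs = (x_1, …, x_p)` a
sequence in `A` such that each `x_i` is a non-zero-divisor on `A/(x_1, …, x_{i-1})`, `J` the ideal
generated by the `x_i`, and `M` an `A`-module with `JM = 0`. Then for every `i`, `Ext^i_A(A/J, M)`
is isomorphic as an `A`-module to `M^(p choose i)` (so it vanishes for `i > p`). (Existence of an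
`A`-linear isomorphism only; the published one is `Ext^i_A(A/J, M) ≅ Hom_A(Λ^i(J/J^2), M)` with
`J/J^2` free of rank `p` over `A/J`.) -/
theorem result (A : Type u) [CommRing A] (xs : List A) (hreg : RingTheory.Sequence.IsWeaklyRegular A xs) (M : Type u) [AddCommGroup M] [Module A M] (hJM : Ideal.ofList xs • (⊤ : Submodule A M) = ⊥) (i : ℕ) : Nonempty (Abelian.Ext (ModuleCat.of A (A ⧸ Ideal.ofList xs)) (ModuleCat.of A M) i ≃ₗ[A] (Fin (xs.length.choose i) → M)) := by
  obtain ⟨e⟩ := main xs hreg i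
  refine ⟨e.φ (ModuleCat.of A M) ?_⟩
  intro a ha m
  have : a • m ∈ Ideal.ofList xs • (⊤ : Submodule A M) :=
    Submodule.smul_mem_smul ha Submodule.mem_top
  rwa [hJM, Submodule.mem_bot] at this

end Groth.Agent.S5666
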