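import Groth.Statements.S5670
import Mathlib
import Groth.Agent.S7757

set_option autoImplicit false
universe u
open Pi1

namespace Groth.Agent.S5670

set_option linter.style.haveILetI false

open AlgebraicGeometry CategoryTheory CategoryTheory.Limits

/-- the general statement: no properness or Noetherian hypotheses needed. -/
theorem connected_of_app_bijective {P Y X S : Scheme.{u}} {p : P ⟶ Y} {q : P ⟶ X} {h : Y ⟶ S}
    {f : X ⟶ S} (H : IsPullback p q h f) [IsFinite h] [Etale h]
    (hf : ∀ U' : S.Opens, Function.Bijective (f.app U')) [ConnectedSpace Y] :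
    ConnectedSpace P := by
  -- nonemptiness
  have hne : Nonempty P := by
    obtain ⟨y⟩ := (inferInstance : Nonempty Y)
    obtain ⟨_, ⟨U, hU, rfl⟩, hyU, -⟩ :=
      S.isBasis_affineOpens.exists_subset_of_mem_open (Set.mem_univ (h y)) isOpen_univ
    have hb := Groth.Agent.S7757.key H hf U hU
    by_contra hP
    rw [not_nonempty_iff] at hP
    have hsub : Subsingleton Γ(P, p ⁻¹ᵁ (h ⁻¹ᵁ U)) := inferInstance
    have hsub' : Subsingleton Γ(Y, h ⁻¹ᵁ U) := hb.injective.subsingleton
    have hV : IsAffineOpen (h ⁻¹ᵁ U) := hU.preimage h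
    exact (inferInstance : IsEmpty (PrimeSpectrum Γ(Y, h ⁻¹ᵁ U))).elim (hV.primeIdealOf ⟨y, hyU⟩)
  have hpre : PreconnectedSpace P := by
    rw [preconnectedSpace_iff_clopen]
    intro A hA
    let A' : P.Opens := ⟨A, hA.isOpen⟩
    let B' : P.Opens := ⟨Aᶜ, hA.compl.isOpen⟩
    have hcompl : IsCompl A'.ι.opensRange B'.ι.opensRange := by
      rw [Scheme.Opens.opensRange_ι, Scheme.Opens.opensRange_ι]
      constructor
      · rw [disjoint_iff]
        ext x
        simp [A', B']
      · rw [codisjoint_iff]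
        ext x
        simp only [A', B', TopologicalSpace.Opens.coe_sup, TopologicalSpace.Opens.coe_mk,
          Set.union_compl_self, TopologicalSpace.Opens.coe_top]
    obtain ⟨hc⟩ := nonempty_isColimit_binaryCofanMk_of_isCompl A'.ι B'.ι hcompl
    let a : P ⟶ Y ⨿ Y := hc.desc (BinaryCofan.mk (A'.ι ≫ p ≫ coprod.inl) (B'.ι ≫ p ≫ coprod.inr))
    have haA : A'.ι ≫ a = A'.ι ≫ p ≫ coprod.inl := hc.fac _ ⟨WalkingPair.left⟩
    have haB : B'.ι ≫ a = B'.ι ≫ p ≫ coprod.inr := hc.fac _ ⟨WalkingPair.right⟩
    have ha : a ≫ coprod.desc h h = p ≫ h := by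
      apply BinaryCofan.IsColimit.hom_ext hc
      · change A'.ι ≫ _ = A'.ι ≫ _
        rw [reassoc_of% haA, coprod.inl_desc]
      · change B'.ι ≫ _ = B'.ι ≫ _
        rw [reassoc_of% haB, coprod.inr_desc]
    obtain ⟨φ, -, hφ⟩ := Groth.Agent.S7757.exists_lift H hf (coprod.desc h h) a ha
    have hdisj := isCompl_range_inl_inr Y Y
    let C : Set Y := φ ⁻¹' Set.range (coprod.inl : Y ⟶ Y ⨿ Y)
    have hC : IsClopen C := by
      constructor
      · have : C = (φ ⁻¹' Set.range (coprod.inr : Y ⟶ Y ⨿ Y))ᶜ := by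
          rw [← Set.preimage_compl, hdisj.symm.compl_eq]
        rw [this, isClosed_compl_iff]
        exact (coprod.inr : Y ⟶ Y ⨿ Y).isOpenEmbedding.isOpen_range.preimage φ.continuous
      · exact (coprod.inl : Y ⟶ Y ⨿ Y).isOpenEmbedding.isOpen_range.preimage φ.continuous
    have hxA : ∀ x : P, x ∈ A → p x ∈ C := by
      intro x hx
      change φ (p x) ∈ Set.range (coprod.inl : Y ⟶ Y ⨿ Y)
      rw [← Scheme.Hom.comp_apply, hφ]
      obtain ⟨xA, rfl⟩ : ∃ xA : (A' : Scheme.{u}), A'.ι xA = x := by
        rw [← Set.mem_range, Scheme.Opens.range_ι]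
        exact hx
      rw [← Scheme.Hom.comp_apply, haA, Scheme.Hom.comp_apply, Scheme.Hom.comp_apply]
      exact ⟨_, rfl⟩
    have hxB : ∀ x : P, x ∉ A → p x ∉ C := by
      intro x hx hxC
      change φ (p x) ∈ Set.range (coprod.inl : Y ⟶ Y ⨿ Y) at hxC
      rw [← Scheme.Hom.comp_apply, hφ] at hxC
      obtain ⟨xB, rfl⟩ : ∃ xB : (B' : Scheme.{u}), B'.ι xB = x := by
        rw [← Set.mem_range, Scheme.Opens.range_ι]
        exact hx
      rw [← Scheme.Hom.comp_apply, haB, Scheme.Hom.comp_apply, Scheme.Hom.comp_apply] at hxC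
      exact Set.disjoint_iff.mp hdisj.disjoint ⟨hxC, ⟨_, rfl⟩⟩
    rcases isClopen_iff.mp hC with hC0 | hC1
    · left
      rw [Set.eq_empty_iff_forall_notMem]
      intro x hx
      have := hxA x hx
      rw [hC0] at this
      exact this
    · right
      rw [Set.eq_univ_iff_forall]
      intro x
      by_contra hx
      exact hxB x hx (hC1 ▸ Set.mem_univ _)
  exact { toPreconnectedSpace := hpre, toNonempty := hne }

open CategoryTheory CategoryTheory.Limits AlgebraicGeometry in
/-- Let `f : X → Y` be a proper morphism of Noetherian schemes such that `O_Y → f_* O_X` is an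
isomorphism (bijective on sections over every open of `Y`). Then for every connected finite étale
`Y'` over `Y`, the base change `X ×_Y Y'` is connected; equivalently, `f` induces a surjection on
étale fundamental groups. -/
theorem result {X Y Y' : Scheme.{u}} (f : X ⟶ Y) [IsProper f] [IsNoetherian X] [IsNoetherian Y] (hf : ∀ U : Y.Opens, Function.Bijective (f.app U)) (g : Y' ⟶ Y) [IsFinite g] [Etale g] [ConnectedSpace Y'] : ConnectedSpace ↥(pullback f g) := by
  exact connected_of_app_bijective (IsPullback.of_hasPullback f g).flip hf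

end Groth.Agent.S5670
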