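import Groth.Statements.S5671
import Mathlib
import Groth.Agent.S5805
import Groth.Agent.S5150
import Groth.Agent.Lib.Helper5RLR3
import Groth.Agent.Lib.Helper28DepthCM2

set_option autoImplicit false
universe u
open CategoryTheory
open Dual

namespace Groth.Agent.S5671

open CategoryTheory Abelian

/-- First assertion, in the local-algebra form to which its proof reduces it: let `A` be a regular local
ring of dimension `n`, `p ≥ 0`, and `M` a finite `A`-module whose support has dimension at most `n -
p`. Then `Ext^i_A(M, A) = 0` for every `i < p`. (The geometric statement: on a nonsingular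
`n`-dimensional variety the sheaves `Ext^i(F, L)` vanish for `i < p` when `F` is coherent with
support of dimension `≤ n - p` and `L` is locally free.) -/
theorem result (A : Type u) [CommRing A] [IsRegularLocalRing A] (M : Type u) [AddCommGroup M] [Module A M] [Module.Finite A M] (p : ℕ) (hdim : Module.supportDim A M + p ≤ ringKrullDim A) (i : ℕ) (hi : i < p) : Subsingleton (Abelian.Ext (ModuleCat.of A M) (ModuleCat.of A A) i) := by
  have hNoeth : IsNoetherianRing A := inferInstance
  rcases subsingleton_or_nontrivial M with hM | hM
  · exact Groth.Agent.S5805.ext_subsingleton_of_subsingleton M (ModuleCat.of A A) i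
  · set I := Module.annihilator A M with hI
    have hItop : I ≠ ⊤ := by
      intro h
      have h1 : (1 : A) ∈ I := h ▸ Submodule.mem_top
      obtain ⟨m, hm⟩ := exists_ne (0 : M)
      exact hm (by simpa using Module.mem_annihilator.mp h1 m)
    have hCM := Groth.Agent.Lib.Helper5.isCohenMacaulayLocalRing_of_isRegularLocalRing A
    have hCMmod : LocCoh.IsCohenMacaulayModule A A := hCM.supportDim_eq_depth
    have h1 := Groth.Agent.Lib.Helper28.supportDim_eq_add_idealDepth_of_isCohenMacaulayModule
      (M := A) I hItop hCMmod
    have h2 : Module.supportDim A (A ⧸ (I • ⊤ : Submodule A A)) = Module.supportDim A M := by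
      rw [Module.supportDim_eq_ringKrullDim_quotient_annihilator A M,
        ← Module.supportDim_quotient_eq_ringKrullDim I]
      have heq : (I • ⊤ : Submodule A A) = I := by rw [smul_eq_mul, Ideal.mul_top]
      exact Module.supportDim_eq_of_equiv (Submodule.quotEquivOfEq _ _ heq)
    rw [Module.supportDim_self_eq_ringKrullDim, h2] at h1
    obtain ⟨d, hd⟩ := Groth.Agent.Lib.Helper28.exists_natCast_eq_supportDim (R := A) (M := M)
    rw [h1, hd] at hdim
    have hp : (p : ℕ∞) ≤ LocCoh.idealDepth I A := by
      have h3 : (((d : ℕ∞) + (p : ℕ∞) : ℕ∞) : WithBot ℕ∞) ≤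
          (((d : ℕ∞) + LocCoh.idealDepth I A : ℕ∞) : WithBot ℕ∞) := by
        exact_mod_cast hdim
      have h4 := WithBot.coe_le_coe.mp h3
      exact (ENat.add_le_add_iff_left (ENat.natCast_ne_top d)).mp h4
    have hIA : I • (⊤ : Submodule A A) ≠ ⊤ :=
      Groth.Agent.Lib.Helper28.smul_top_ne_top_of_le_maximalIdeal
        (IsLocalRing.le_maximalIdeal hItop)
    obtain ⟨rs, hlen, hmem, hreg⟩ :=
      (Groth.Agent.Lib.Helper28.natCast_le_idealDepth_iff (I := I) (M := A) hIA p).mp hp
    have hN : (I ^ 1) • (⊤ : Submodule A M) = ⊥ := by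
      rw [pow_one, eq_bot_iff]
      refine Submodule.smul_le.mpr (fun a ha m _ => ?_)
      rw [Submodule.mem_bot]
      exact Module.mem_annihilator.mp ha m
    exact Groth.Agent.S5150.main I M 1 hN rs A hreg.toIsWeaklyRegular hmem i (hlen ▸ hi)

end Groth.Agent.S5671
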