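import Groth.Statements.S5672
import Mathlib
import Groth.Agent.S5671

set_option autoImplicit false
universe u
open CategoryTheory
open Dual

namespace Groth.Agent.S5672

open CategoryTheory Abelian CategoryTheory.Limits

section
variable {A : Type u} [CommRing A]

/-- the pairing property for `X`: `Ext^p(X,Y) → Hom(Hom(T,X), Ext^p(T,Y))` is bijective -/
def Good (T Y : ModuleCat.{u} A) (p : ℕ) (X : ModuleCat.{u} A) : Prop :=
  (∀ ξ : Ext X Y p, (∀ u : T ⟶ X, (Ext.mk₀ u).comp ξ (zero_add p) = 0) → ξ = 0) ∧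
  ∀ g : (T ⟶ X) →ₗ[A] Ext T Y p, ∃ ξ : Ext X Y p,
    ∀ u : T ⟶ X, g u = (Ext.mk₀ u).comp ξ (zero_add p)

theorem good_self (T Y : ModuleCat.{u} A) (p : ℕ)
    (hT : ∀ u : T ⟶ T, ∃ a : A, u = a • 𝟙 T) : Good T Y p T := by
  refine ⟨fun ξ h => ?_, fun g => ⟨g (𝟙 T), fun u => ?_⟩⟩
  · have := h (𝟙 T)
    rwa [Ext.mk₀_id_comp] at this
  · obtain ⟨a, rfl⟩ := hT u
    rw [map_smul, Ext.mk₀_smul, Ext.smul_comp, Ext.mk₀_id_comp]

theorem good_biproduct (T Y : ModuleCat.{u} A) (p : ℕ) {n : ℕ} (f : Fin n → ModuleCat.{u} A)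
    (hf : ∀ i, Good T Y p (f i)) : Good T Y p (⨁ f) := by
  have hid : ∀ ξ : Ext (⨁ f) Y p, ξ = ∑ i, (Ext.mk₀ (biproduct.π f i)).comp
      ((Ext.mk₀ (biproduct.ι f i)).comp ξ (zero_add p)) (zero_add p) := by
    intro ξ
    simp only [← Ext.comp_assoc_of_second_deg_zero, Ext.mk₀_comp_mk₀]
    rw [← Ext.sum_comp, ← Ext.mk₀_sum, biproduct.total, Ext.mk₀_id_comp]
  refine ⟨fun ξ h => ?_, fun g => ?_⟩
  · rw [hid ξ]
    refine Finset.sum_eq_zero (fun i _ => ?_)
    have : (Ext.mk₀ (biproduct.ι f i)).comp ξ (zero_add p) = 0 := by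
      refine (hf i).1 _ (fun v => ?_)
      rw [← Ext.comp_assoc_of_second_deg_zero, Ext.mk₀_comp_mk₀]
      exact h _
    rw [this, Ext.comp_zero]
  · choose ξ hξ using fun i => (hf i).2 (g.comp (Linear.rightComp A T (biproduct.ι f i)))
    refine ⟨∑ i, (Ext.mk₀ (biproduct.π f i)).comp (ξ i) (zero_add p), fun u => ?_⟩
    rw [Ext.comp_sum]
    simp only [← Ext.comp_assoc_of_second_deg_zero, Ext.mk₀_comp_mk₀]
    have h1 : ∀ i, (Ext.mk₀ (u ≫ biproduct.π f i)).comp (ξ i) (zero_add p) =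
        g ((u ≫ biproduct.π f i) ≫ biproduct.ι f i) := by
      intro i
      rw [← hξ i]
      rfl
    simp only [h1]
    rw [← map_sum]
    congr 1
    simp only [Category.assoc]
    rw [← Preadditive.comp_sum, biproduct.total, Category.comp_id]

theorem good_of_ses (T Y : ModuleCat.{u} A) (p : ℕ) (S : ShortComplex (ModuleCat.{u} A))
    (hS : S.ShortExact) (hF : Good T Y p S.X₂)
    (hK : ∀ ξ : Ext S.X₁ Y p, (∀ u : T ⟶ S.X₁, (Ext.mk₀ u).comp ξ (zero_add p) = 0) → ξ = 0)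
    (hlift : ∀ u : T ⟶ S.X₃, ∃ v : T ⟶ S.X₂, v ≫ S.g = u)
    (hinj : ∀ ξ : Ext S.X₃ Y p, (Ext.mk₀ S.g).comp ξ (zero_add p) = 0 → ξ = 0) :
    Good T Y p S.X₃ := by
  refine ⟨fun ξ h => ?_, fun G => ?_⟩
  · refine hinj ξ (hF.1 _ (fun v => ?_))
    rw [← Ext.comp_assoc_of_second_deg_zero, Ext.mk₀_comp_mk₀]
    exact h _
  · obtain ⟨ξF, hξF⟩ := hF.2 (G.comp (Linear.rightComp A T S.g))
    have h0 : (Ext.mk₀ S.f).comp ξF (zero_add p) = 0 := by
      refine hK _ (fun w => ?_)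
      rw [← Ext.comp_assoc_of_second_deg_zero, Ext.mk₀_comp_mk₀, ← hξF]
      show G ((w ≫ S.f) ≫ S.g) = 0
      rw [Category.assoc, S.zero, comp_zero, map_zero]
    obtain ⟨ξ, hξ⟩ := Ext.contravariant_sequence_exact₂ hS Y ξF h0
    refine ⟨ξ, fun u => ?_⟩
    obtain ⟨v, rfl⟩ := hlift u
    rw [← Ext.mk₀_comp_mk₀, Ext.comp_assoc_of_second_deg_zero, hξ, ← hξF]
    rfl

theorem quot_killed (J : Ideal A) (a : A) (ha : a ∈ J) (x : A ⧸ J) : a • x = 0 := by
  obtain ⟨b, rfl⟩ := Ideal.Quotient.mk_surjective x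
  rw [← Ideal.Quotient.mk_eq_mk, ← Submodule.Quotient.mk_smul, Ideal.Quotient.mk_eq_mk,
    Ideal.Quotient.eq_zero_iff_mem, smul_eq_mul]
  exact J.mul_mem_right b ha

/-- the free-ish module `(A/J)^n` as a biproduct -/
noncomputable abbrev FF (J : Ideal A) (n : ℕ) : ModuleCat.{u} A :=
  ⨁ (fun _ : Fin n => ModuleCat.of A (A ⧸ J))

instance (J : Ideal A) (n : ℕ) : Module.Finite A (FF J n) :=
  Module.Finite.equiv
    (ModuleCat.biproductIsoPi (fun _ : Fin n => ModuleCat.of A (A ⧸ J))).toLinearEquiv.symm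

theorem FF_killed (J : Ideal A) (n : ℕ) (a : A) (ha : a ∈ J) (x : FF J n) : a • x = 0 := by
  let e := (ModuleCat.biproductIsoPi (fun _ : Fin n => ModuleCat.of A (A ⧸ J))).toLinearEquiv
  apply e.injective
  rw [map_smul, map_zero]
  funext i
  exact quot_killed J a ha (e x i)

/-- the map `A/J → M`, `1 ↦ m`, for `m` killed by `J` -/
noncomputable def toM (J : Ideal A) {M : Type u} [AddCommGroup M] [Module A M]
    (hM : ∀ a ∈ J, ∀ m : M, a • m = 0) (m : M) : (A ⧸ J) →ₗ[A] M :=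
  Submodule.liftQ J (LinearMap.toSpanSingleton A M m) (fun a ha => by
    rw [LinearMap.mem_ker, LinearMap.toSpanSingleton_apply]
    exact hM a ha m)

theorem toM_mk (J : Ideal A) {M : Type u} [AddCommGroup M] [Module A M]
    (hM : ∀ a ∈ J, ∀ m : M, a • m = 0) (m : M) (b : A) :
    toM J hM m (Ideal.Quotient.mk J b) = b • m := by
  show (Submodule.liftQ J _ _) (Submodule.Quotient.mk b) = _
  rw [Submodule.liftQ_apply, LinearMap.toSpanSingleton_apply]

theorem hom_eq_toM (J : Ideal A) {M : Type u} [AddCommGroup M] [Module A M]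
    (hM : ∀ a ∈ J, ∀ m : M, a • m = 0) (u : (A ⧸ J) →ₗ[A] M) : u = toM J hM (u 1) := by
  refine LinearMap.ext fun x => ?_
  obtain ⟨b, rfl⟩ := Ideal.Quotient.mk_surjective x
  rw [toM_mk, ← map_smul]
  congr 1
  rw [Algebra.smul_def, mul_one]
  rfl

theorem end_T (J : Ideal A) (u : ModuleCat.of A (A ⧸ J) ⟶ ModuleCat.of A (A ⧸ J)) :
    ∃ a : A, u = a • 𝟙 _ := by
  obtain ⟨a, ha⟩ := Ideal.Quotient.mk_surjective (u.hom (1 : A ⧸ J))
  refine ⟨a, ModuleCat.hom_ext ?_⟩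
  rw [hom_eq_toM J (quot_killed J) u.hom]
  refine LinearMap.ext fun x => ?_
  obtain ⟨b, rfl⟩ := Ideal.Quotient.mk_surjective x
  rw [toM_mk, ← ha]
  show b • (Ideal.Quotient.mk J) a = a • (Ideal.Quotient.mk J) b
  rw [Algebra.smul_def, Algebra.smul_def, Ideal.Quotient.algebraMap_eq, mul_comm]

/-- existence of a surjection `(A/J)^n → M` -/
theorem exists_surj (J : Ideal A) (M : Type u) [AddCommGroup M] [Module A M] [Module.Finite A M]
    (hM : ∀ a ∈ J, ∀ m : M, a • m = 0) :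
    ∃ (n : ℕ) (q : FF J n ⟶ ModuleCat.of A M), Function.Surjective q.hom := by
  obtain ⟨n, s, hs⟩ := Module.Finite.exists_fin (R := A) (M := M)
  refine ⟨n, biproduct.desc (fun i => ModuleCat.ofHom (toM J hM (s i))), ?_⟩
  rw [← LinearMap.range_eq_top, eq_top_iff, ← hs, Submodule.span_le]
  rintro _ ⟨i, rfl⟩
  refine ⟨(biproduct.ι (fun _ : Fin n => ModuleCat.of A (A ⧸ J)) i).hom (1 : A ⧸ J), ?_⟩
  rw [← LinearMap.comp_apply, ← ModuleCat.hom_comp, biproduct.ι_desc]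
  have := toM_mk J hM (s i) 1
  simpa using this

theorem exists_lift (J : Ideal A) (M : Type u) [AddCommGroup M] [Module A M]
    (X : ModuleCat.{u} A) (hX : ∀ a ∈ J, ∀ x : X, a • x = 0)
    (q : X ⟶ ModuleCat.of A M) (hq : Function.Surjective q.hom)
    (hM : ∀ a ∈ J, ∀ m : M, a • m = 0)
    (u : ModuleCat.of A (A ⧸ J) ⟶ ModuleCat.of A M) :
    ∃ v : ModuleCat.of A (A ⧸ J) ⟶ X, v ≫ q = u := by
  obtain ⟨x, hx⟩ := hq (u.hom 1)
  refine ⟨ModuleCat.ofHom (toM J hX x), ModuleCat.hom_ext ?_⟩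
  rw [hom_eq_toM J hM u.hom]
  refine LinearMap.ext fun y => ?_
  obtain ⟨b, rfl⟩ := Ideal.Quotient.mk_surjective y
  rw [ModuleCat.hom_comp, LinearMap.comp_apply, ModuleCat.hom_ofHom, toM_mk, toM_mk, map_smul, hx]

end

section
variable {A : Type u} [CommRing A] [IsRegularLocalRing A]

omit [IsRegularLocalRing A] in
theorem dim_bound (p : ℕ) (J : Ideal A) (hJ : ringKrullDim (A ⧸ J) + p ≤ ringKrullDim A)
    (K : Type u) [AddCommGroup K] [Module A K] [Module.Finite A K]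
    (hK : ∀ a ∈ J, ∀ m : K, a • m = 0) :
    Module.supportDim A K + p ≤ ringKrullDim A := by
  refine le_trans (add_le_add_left ?_ _) hJ
  rw [Module.supportDim_eq_ringKrullDim_quotient_annihilator A K]
  have hle : J ≤ Module.annihilator A K := fun a ha => Module.mem_annihilator.mpr (hK a ha)
  exact ringKrullDim_le_of_surjective (Ideal.Quotient.factor hle)
    (Ideal.Quotient.factor_surjective hle)

theorem hinj_gen (p : ℕ) (J : Ideal A) (hJ : ringKrullDim (A ⧸ J) + p ≤ ringKrullDim A)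
    (S : ShortComplex (ModuleCat.{u} A)) (hS : S.ShortExact) [Module.Finite A S.X₁]
    (hK : ∀ a ∈ J, ∀ m : S.X₁, a • m = 0)
    (ξ : Ext S.X₃ (ModuleCat.of A A) p) (h : (Ext.mk₀ S.g).comp ξ (zero_add p) = 0) : ξ = 0 := by
  cases p with
  | zero =>
    have : Epi S.g := hS.epi_g
    apply Ext.precomp_mk₀_injective_of_epi (ModuleCat.of A A) S.g
    show (Ext.mk₀ S.g).comp ξ (zero_add 0) = (Ext.mk₀ S.g).comp 0 (zero_add 0)
    rw [h, Ext.comp_zero]
  | succ p' =>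
    obtain ⟨x₁, hx₁⟩ := Ext.contravariant_sequence_exact₃ hS _ ξ h (add_comm 1 p')
    have hsub : Subsingleton (Ext S.X₁ (ModuleCat.of A A) p') :=
      Groth.Agent.S5671.result A S.X₁ (p' + 1) (dim_bound (p' + 1) J hJ S.X₁ hK) p'
        (Nat.lt_succ_self _)
    rw [← hx₁, Subsingleton.elim x₁ 0, Ext.comp_zero]

theorem inj_part (p : ℕ) (J : Ideal A) (hJ : ringKrullDim (A ⧸ J) + p ≤ ringKrullDim A)
    (M : Type u) [AddCommGroup M] [Module A M] [Module.Finite A M]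
    (hM : ∀ a ∈ J, ∀ m : M, a • m = 0)
    (ξ : Ext (ModuleCat.of A M) (ModuleCat.of A A) p)
    (h : ∀ u : ModuleCat.of A (A ⧸ J) ⟶ ModuleCat.of A M, (Ext.mk₀ u).comp ξ (zero_add p) = 0) :
    ξ = 0 := by
  have hNoeth : IsNoetherianRing A := inferInstance
  obtain ⟨n, q, hq⟩ := exists_surj J M hM
  let K := LinearMap.ker q.hom
  let S : ShortComplex (ModuleCat.{u} A) :=
    ShortComplex.mk (ModuleCat.ofHom K.subtype) q
      (ModuleCat.hom_ext (LinearMap.ext fun x => x.2))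
  have hS : S.ShortExact := ModuleCat.shortComplex_shortExact S
    (LinearMap.exact_subtype_ker_map _) (Submodule.injective_subtype _) hq
  have hF : Good (ModuleCat.of A (A ⧸ J)) (ModuleCat.of A A) p (FF J n) :=
    good_biproduct _ _ p _ (fun _ => good_self _ _ p (end_T J))
  have : Module.Finite A S.X₁ := (inferInstance : Module.Finite A K)
  refine hinj_gen p J hJ S hS (fun a ha m => ?_) ξ (hF.1 _ fun v => ?_)
  · apply Subtype.ext
    exact FF_killed J n a ha m.1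
  · rw [← Ext.comp_assoc_of_second_deg_zero, Ext.mk₀_comp_mk₀]
    exact h _

theorem good_all (p : ℕ) (J : Ideal A) (hJ : ringKrullDim (A ⧸ J) + p ≤ ringKrullDim A)
    (M : Type u) [AddCommGroup M] [Module A M] [Module.Finite A M]
    (hM : ∀ a ∈ J, ∀ m : M, a • m = 0) :
    Good (ModuleCat.of A (A ⧸ J)) (ModuleCat.of A A) p (ModuleCat.of A M) := by
  have hNoeth : IsNoetherianRing A := inferInstance
  obtain ⟨n, q, hq⟩ := exists_surj J M hM
  let K := LinearMap.ker q.hom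
  let S : ShortComplex (ModuleCat.{u} A) :=
    ShortComplex.mk (ModuleCat.ofHom K.subtype) q
      (ModuleCat.hom_ext (LinearMap.ext fun x => x.2))
  have hS : S.ShortExact := ModuleCat.shortComplex_shortExact S
    (LinearMap.exact_subtype_ker_map _) (Submodule.injective_subtype _) hq
  have hF : Good (ModuleCat.of A (A ⧸ J)) (ModuleCat.of A A) p (FF J n) :=
    good_biproduct _ _ p _ (fun _ => good_self _ _ p (end_T J))
  have : Module.Finite A K := inferInstance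
  have : Module.Finite A S.X₁ := (inferInstance : Module.Finite A K)
  have hKk : ∀ a ∈ J, ∀ m : K, a • m = 0 := fun a ha m =>
    Subtype.ext (FF_killed J n a ha m.1)
  exact good_of_ses _ _ p S hS hF (inj_part p J hJ K hKk)
    (exists_lift J M (FF J n) (FF_killed J n) q hq hM)
    (hinj_gen p J hJ S hS hKk)

end

/-- Let `A` be a regular local ring of dimension `n`, `J` an ideal with `dim(A/J) ≤ n - p`, and `M` a
finite `A`-module with `JM = 0`. For `ξ ∈ Ext^p_A(M, A)` and an `A`-linear `u : A/J → M` write `u^*ξ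
∈ Ext^p_A(A/J, A)` for the pullback. Then `ξ ↦ (u ↦ u^*ξ)` is injective, and every `A`-linear map
`Hom_A(A/J, M) → Ext^p_A(A/J, A)` is of the form `u ↦ u^*ξ` for some `ξ`. Since `Hom_A(A/J, M) = M`
here, this says that the canonical map `Ext^p_A(M, A) → Hom_A(M, Ext^p_A(A/J, A))` is bijective. -/
theorem result (A : Type u) [CommRing A] [IsRegularLocalRing A] (p : ℕ) (J : Ideal A) (hJ : ringKrullDim (A ⧸ J) + p ≤ ringKrullDim A) (M : Type u) [AddCommGroup M] [Module A M] [Module.Finite A M] (hJM : J • (⊤ : Submodule A M) = ⊥) : Function.Injective (fun ξ : Abelian.Ext (ModuleCat.of A M) (ModuleCat.of A A) p => fun u : (A ⧸ J) →ₗ[A] M => (Abelian.Ext.mk₀ (ModuleCat.ofHom u)).comp ξ (zero_add p)) ∧ ∀ g : ((A ⧸ J) →ₗ[A] M) →ₗ[A] Abelian.Ext (ModuleCat.of A (A ⧸ J)) (ModuleCat.of A A) p, ∃ ξ : Abelian.Ext (ModuleCat.of A M) (ModuleCat.of A A) p, ∀ u : (A ⧸ J) →ₗ[A] M, g u = (Abelian.Ext.mk₀ (ModuleCat.ofHom u)).comp ξ (zero_add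 p) := by
  have hM : ∀ a ∈ J, ∀ m : M, a • m = 0 := by
    intro a ha m
    have : a • m ∈ J • (⊤ : Submodule A M) := Submodule.smul_mem_smul ha Submodule.mem_top
    rwa [hJM, Submodule.mem_bot] at this
  have hG := good_all p J hJ M hM
  refine ⟨fun ξ₁ ξ₂ h => ?_, fun g => ?_⟩
  · have : ξ₁ - ξ₂ = 0 := hG.1 _ (fun u => by
      rw [sub_eq_add_neg, Ext.comp_add, Ext.comp_neg, ← sub_eq_add_neg, sub_eq_zero]
      exact congrFun h u.hom)
    exact sub_eq_zero.mp this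
  · let g' : (ModuleCat.of A (A ⧸ J) ⟶ ModuleCat.of A M) →ₗ[A]
        Abelian.Ext (ModuleCat.of A (A ⧸ J)) (ModuleCat.of A A) p :=
      { toFun := fun u => g u.hom
        map_add' := fun u v => by rw [ModuleCat.hom_add, map_add]
        map_smul' := fun a u => by rw [ModuleCat.hom_smul, map_smul]; rfl }
    obtain ⟨ξ, hξ⟩ := hG.2 g'
    exact ⟨ξ, fun u => hξ (ModuleCat.ofHom u)⟩

end Groth.Agent.S5672
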