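import Groth.Statements.S5673
import Mathlib
import Groth.Agent.Lib.Helper13TorBal

set_option autoImplicit false
universe u
open CategoryTheory
open Dual

namespace Groth.Agent.S5673

open CategoryTheory CategoryTheory.Limits Abelian Pointwise MonoidalCategory Groth.Agent.Helper13Tor

lemma homologyMap_smul_gen {A : Type u} [CommRing A] {ι : Type} {c : ComplexShape ι}
    {K L : HomologicalComplex (ModuleCat.{u} A) c}
    (a : A) (φ : K ⟶ L) (i : ι) :
    HomologicalComplex.homologyMap (a • φ) i = a • HomologicalComplex.homologyMap φ i := by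
  have h : (HomologicalComplex.shortComplexFunctor (ModuleCat.{u} A) c i).map
      (a • φ) = a • (HomologicalComplex.shortComplexFunctor (ModuleCat.{u} A) c i).map φ := rfl
  show ShortComplex.homologyMap ((HomologicalComplex.shortComplexFunctor (ModuleCat.{u} A) c i).map
    (a • φ)) = a • ShortComplex.homologyMap
    ((HomologicalComplex.shortComplexFunctor (ModuleCat.{u} A) c i).map φ)
  rw [h]
  exact ShortComplex.homologyMap_smul _ _

/-- `Tor_i(x • 𝟙, Y) = x • 𝟙`. -/
theorem tor_map_smul_id {A : Type u} [CommRing A] (N Y : ModuleCat.{u} A) (x : A) (i : ℕ) :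
    ((Tor (ModuleCat.{u} A) i).map (x • 𝟙 N)).app Y = x • 𝟙 _ := by
  let Q := ProjectiveResolution.of Y
  rw [tor_map_app_eq Q (x • 𝟙 N) i]
  have h1 : tCmap (x • 𝟙 N) Q.complex = x • 𝟙 (tC N Q.complex) := by
    refine HomologicalComplex.hom_ext _ _ fun j => ?_
    show (x • 𝟙 N) ▷ (Q.complex.X j) = x • 𝟙 _
    rw [MonoidalLinear.smul_whiskerRight, id_whiskerRight]
    rfl
  rw [h1, homologyMap_smul_gen, HomologicalComplex.homologyMap_id, Linear.smul_comp,
    Linear.comp_smul, Category.id_comp, Iso.hom_inv_id]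

theorem tor_step {A : Type u} [CommRing A] {N Q Y : ModuleCat.{u} A} (x : A) (π : N ⟶ Q)
    (hinj : Function.Injective (x • 𝟙 N : N ⟶ N).hom) (hsurj : Function.Surjective π.hom)
    (hex : Function.Exact (x • 𝟙 N : N ⟶ N).hom π.hom) (p : ℕ)
    (hvan : ∀ i > p, IsZero (((Tor (ModuleCat.{u} A) i).obj N).obj Y)) :
    (∀ i > p + 1, IsZero (((Tor (ModuleCat.{u} A) i).obj Q).obj Y)) ∧
      Nonempty (↑(((Tor (ModuleCat.{u} A) (p + 1)).obj Q).obj Y) ≃ₗ[A]
        Submodule.torsionBy A ↑(((Tor (ModuleCat.{u} A) p).obj N).obj Y) x) := by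
  let S : ShortComplex (ModuleCat.{u} A) := ShortComplex.mk (x • 𝟙 N) π (by
    ext y
    exact hex.apply_apply_eq_zero y)
  have hS : S.ShortExact := ModuleCat.shortComplex_shortExact S hex hinj hsurj
  constructor
  · intro i hi
    obtain ⟨j, rfl⟩ : ∃ j, i = j + 1 := ⟨i - 1, by omega⟩
    exact isZero_tor_X₃ S hS Y j (hvan (j + 1) (by omega)) (hvan j (by omega))
  · obtain ⟨δ, w₁, w₂, h1, h2⟩ := exists_δ S hS Y p
    have hδinj : Function.Injective δ.hom := by
      rw [← ModuleCat.mono_iff_injective]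
      exact h1.mono_g ((hvan (p + 1) (by omega)).eq_of_src _ _)
    have hrange : LinearMap.range δ.hom =
        Submodule.torsionBy A ↑(((Tor (ModuleCat.{u} A) p).obj N).obj Y) x := by
      have := (ShortComplex.moduleCat_exact_iff_range_eq_ker _).mp h2
      rw [this]
      show LinearMap.ker (((Tor (ModuleCat.{u} A) p).map (x • 𝟙 N)).app Y).hom = _
      rw [tor_map_smul_id]
      ext z
      rw [LinearMap.mem_ker, Submodule.mem_torsionBy_iff]
      rfl
    exact ⟨(LinearEquiv.ofInjective δ.hom hδinj).trans (LinearEquiv.ofEq _ _ hrange)⟩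


theorem hom_step {A : Type u} [CommRing A] (M : Type u) [AddCommGroup M] [Module A M]
    (J' : Ideal A) (x : A) (J : Ideal A) (hJ : J = J' ⊔ Ideal.span {x}) :
    Nonempty (Submodule.torsionBy A ((A ⧸ J') →ₗ[A] M) x ≃ₗ[A] ((A ⧸ J) →ₗ[A] M)) := by
  subst hJ
  have hle : J' ≤ J' ⊔ Ideal.span {x} := le_sup_left
  let Φ : ((A ⧸ (J' ⊔ Ideal.span {x})) →ₗ[A] M) →ₗ[A] ((A ⧸ J') →ₗ[A] M) :=
    LinearMap.lcomp A M (Submodule.factor hle)
  have hΦ : ∀ f y, Φ f y = f (Submodule.factor hle y) := fun f y => rfl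
  have hΦinj : Function.Injective Φ := by
    intro f g h
    refine LinearMap.ext fun y => ?_
    obtain ⟨z, rfl⟩ := Submodule.factor_surjective hle y
    rw [← hΦ, ← hΦ, h]
  have hxJ : ∀ y : A ⧸ (J' ⊔ Ideal.span {x}), x • y = 0 := by
    intro y
    obtain ⟨c, rfl⟩ := Submodule.mkQ_surjective _ y
    rw [← map_smul, Submodule.mkQ_apply, Submodule.Quotient.mk_eq_zero, smul_eq_mul]
    exact Ideal.mul_mem_right _ _ (Ideal.mem_sup_right (Ideal.mem_span_singleton_self x))
  have hrange : LinearMap.range Φ = Submodule.torsionBy A ((A ⧸ J') →ₗ[A] M) x := by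
    ext g
    rw [Submodule.mem_torsionBy_iff]
    constructor
    · rintro ⟨f, rfl⟩
      refine LinearMap.ext fun y => ?_
      rw [LinearMap.smul_apply, hΦ, ← map_smul, hxJ, map_zero, LinearMap.zero_apply]
    · intro hg
      have hker : (J' ⊔ Ideal.span {x} : Submodule A A) ≤
          LinearMap.ker (g ∘ₗ Submodule.mkQ J') := by
        intro a ha
        rw [Submodule.mem_sup] at ha
        obtain ⟨j, hj, s, hs, rfl⟩ := ha
        obtain ⟨c, rfl⟩ := Ideal.mem_span_singleton'.mp hs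
        rw [LinearMap.mem_ker, LinearMap.comp_apply, map_add]
        have h1 : Submodule.mkQ J' j = 0 := by
          rw [Submodule.mkQ_apply, Submodule.Quotient.mk_eq_zero]; exact hj
        have h2 : g (Submodule.mkQ J' (c * x)) = (x • g) (Submodule.mkQ J' c) := by
          rw [LinearMap.smul_apply, ← map_smul, ← map_smul, smul_eq_mul, mul_comm]
        rw [h1, zero_add, h2, hg, LinearMap.zero_apply]
      refine ⟨Submodule.liftQ _ (g ∘ₗ Submodule.mkQ J') hker, ?_⟩
      refine LinearMap.ext fun y => ?_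
      obtain ⟨c, rfl⟩ := Submodule.mkQ_surjective _ y
      rw [hΦ, Submodule.factor_mk, Submodule.mkQ_apply, Submodule.liftQ_apply]
      rfl
  exact ⟨((LinearEquiv.ofInjective Φ hΦinj).trans (LinearEquiv.ofEq _ _ hrange)).symm⟩

theorem tor_base {A : Type u} [CommRing A] (M : Type u) [AddCommGroup M] [Module A M] :
    (∀ i > 0, IsZero (((Tor (ModuleCat.{u} A) i).obj (ModuleCat.of A (A ⧸ (⊥ : Ideal A)))).obj
      (ModuleCat.of A M))) ∧
      Nonempty (↑(((Tor (ModuleCat.{u} A) 0).obj (ModuleCat.of A (A ⧸ (⊥ : Ideal A)))).obj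
        (ModuleCat.of A M)) ≃ₗ[A] ((A ⧸ (⊥ : Ideal A)) →ₗ[A] M)) := by
  have e0 : (A ⧸ (⊥ : Ideal A)) ≃ₗ[A] A := Submodule.quotEquivOfEqBot _ rfl
  haveI : Module.Flat A (A ⧸ (⊥ : Ideal A)) := Module.Flat.of_linearEquiv e0
  constructor
  · intro i hi
    exact isZero_tor_of_flat (ModuleCat.of A M) (ModuleCat.of A (A ⧸ (⊥ : Ideal A))) i hi
  · have e1 := ((torLZeroIso (ModuleCat.of A M)).app
      (ModuleCat.of A (A ⧸ (⊥ : Ideal A)))).toLinearEquiv
    have e2 : (TensorProduct A (A ⧸ (⊥ : Ideal A)) M) ≃ₗ[A] ((A ⧸ (⊥ : Ideal A)) →ₗ[A] M) :=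
      (TensorProduct.congr e0 (LinearEquiv.refl A M)).trans ((TensorProduct.lid A M).trans
        ((LinearMap.ringLmapEquivSelf A A M).symm.trans
          (LinearEquiv.arrowCongr e0 (LinearEquiv.refl A M)).symm))
    exact ⟨e1.trans e2⟩


theorem tor_ideal_step {A : Type u} [CommRing A] (Y : ModuleCat.{u} A) (J' : Ideal A) (x : A)
    (hreg : IsSMulRegular (A ⧸ J') x) (p : ℕ)
    (hvan : ∀ i > p, IsZero (((Tor (ModuleCat.{u} A) i).obj (ModuleCat.of A (A ⧸ J'))).obj Y))
    (J : Ideal A) (hJ : J = J' ⊔ Ideal.span {x}) (n : ℕ) (hn : n = p + 1) :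
    (∀ i > n, IsZero (((Tor (ModuleCat.{u} A) i).obj (ModuleCat.of A (A ⧸ J))).obj Y)) ∧
      Nonempty (↑(((Tor (ModuleCat.{u} A) n).obj (ModuleCat.of A (A ⧸ J))).obj Y) ≃ₗ[A]
        Submodule.torsionBy A ↑(((Tor (ModuleCat.{u} A) p).obj (ModuleCat.of A (A ⧸ J'))).obj Y) x) := by
  subst hJ hn
  have hle : J' ≤ J' ⊔ Ideal.span {x} := le_sup_left
  refine tor_step (N := ModuleCat.of A (A ⧸ J')) (Q := ModuleCat.of A (A ⧸ (J' ⊔ Ideal.span {x})))
    x (ModuleCat.ofHom (Submodule.factor hle)) ?_ ?_ ?_ p hvan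
  · exact hreg
  · intro y
    obtain ⟨a, rfl⟩ := Ideal.Quotient.mk_surjective y
    exact ⟨Ideal.Quotient.mk J' a, rfl⟩
  · intro y
    obtain ⟨a, rfl⟩ := Ideal.Quotient.mk_surjective y
    constructor
    · intro hy
      have h1 : Ideal.Quotient.mk (J' ⊔ Ideal.span {x}) a = 0 := hy
      rw [Ideal.Quotient.eq_zero_iff_mem, Submodule.mem_sup] at h1
      obtain ⟨j, hj, s, hs, rfl⟩ := h1
      obtain ⟨c, rfl⟩ := Ideal.mem_span_singleton'.mp hs
      refine ⟨Ideal.Quotient.mk J' c, ?_⟩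
      show x • Ideal.Quotient.mk J' c = Ideal.Quotient.mk J' (j + c * x)
      rw [map_add, Ideal.Quotient.eq_zero_iff_mem.mpr hj, zero_add, mul_comm, ← smul_eq_mul,
        ← Ideal.Quotient.mkₐ_eq_mk A, map_smul]
    · rintro ⟨z, hz⟩
      obtain ⟨c, rfl⟩ := Ideal.Quotient.mk_surjective z
      rw [← hz]
      show (Submodule.factor hle) (x • Ideal.Quotient.mk J' c) = 0
      rw [map_smul]
      show x • Ideal.Quotient.mk (J' ⊔ Ideal.span {x}) c = 0
      rw [← Ideal.Quotient.mkₐ_eq_mk A, ← map_smul, Ideal.Quotient.mkₐ_eq_mk,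
        Ideal.Quotient.eq_zero_iff_mem, smul_eq_mul]
      exact Ideal.mul_mem_right _ _ (Ideal.mem_sup_right (Ideal.mem_span_singleton_self x))

theorem main {A : Type u} [CommRing A] (M : Type u) [AddCommGroup M] [Module A M] (xs : List A) :
    RingTheory.Sequence.IsWeaklyRegular A xs →
    (∀ i > xs.length, IsZero (((Tor (ModuleCat.{u} A) i).obj
      (ModuleCat.of A (A ⧸ Ideal.ofList xs))).obj (ModuleCat.of A M))) ∧
    Nonempty (↑(((Tor (ModuleCat.{u} A) xs.length).obj
      (ModuleCat.of A (A ⧸ Ideal.ofList xs))).obj (ModuleCat.of A M)) ≃ₗ[A]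
      ((A ⧸ Ideal.ofList xs) →ₗ[A] M)) := by
  induction xs using List.reverseRecOn with
  | nil =>
    intro _
    obtain ⟨h1, ⟨e⟩⟩ := tor_base (A := A) M
    rw [Ideal.ofList_nil]
    exact ⟨h1, ⟨e⟩⟩
  | append_singleton rs x ih =>
    intro hreg
    rw [RingTheory.Sequence.isWeaklyRegular_append_iff,
      RingTheory.Sequence.isWeaklyRegular_singleton_iff] at hreg
    obtain ⟨hvan, ⟨e⟩⟩ := ih hreg.1
    have hx : IsSMulRegular (A ⧸ Ideal.ofList rs) x := by
      have h2 := hreg.2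
      have heq : (Ideal.ofList rs • ⊤ : Submodule A A) = Ideal.ofList rs := by
        rw [smul_eq_mul, Ideal.mul_top]
      exact ((Submodule.quotEquivOfEq _ _ heq).isSMulRegular_congr x).mp h2
    have hJ : Ideal.ofList (rs ++ [x]) = Ideal.ofList rs ⊔ Ideal.span {x} := by
      rw [Ideal.ofList_append, Ideal.ofList_singleton]
    obtain ⟨hvan', ⟨e1⟩⟩ := tor_ideal_step (ModuleCat.of A M) (Ideal.ofList rs) x hx rs.length hvan
      (Ideal.ofList (rs ++ [x])) hJ (rs ++ [x]).length (by simp)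
    refine ⟨hvan', ?_⟩
    obtain ⟨e3⟩ := hom_step M (Ideal.ofList rs) x _ hJ
    have e2 : Submodule.torsionBy A ↑(((Tor (ModuleCat.{u} A) rs.length).obj
        (ModuleCat.of A (A ⧸ Ideal.ofList rs))).obj (ModuleCat.of A M)) x ≃ₗ[A]
        Submodule.torsionBy A ((A ⧸ Ideal.ofList rs) →ₗ[A] M) x := by
      refine LinearEquiv.ofSubmodules e _ _ ?_
      ext g
      rw [Submodule.mem_map_equiv, Submodule.mem_torsionBy_iff, Submodule.mem_torsionBy_iff,
        ← map_smul, LinearEquiv.map_eq_zero_iff]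
    exact ⟨e1.trans (e2.trans e3)⟩

/-- Let `A` be a commutative ring, `xs = (x_1, …, x_p)` a sequence in `A` such that each `x_i` is a
non-zero-divisor on `A/(x_1, …, x_{i-1})`, `J` the ideal generated by the `x_i` and `M` any
`A`-module. Then `Tor_p^A(A/J, M)` (Mathlib's `Tor'`, the left derived functors of `- ⊗ M` evaluated
at `A/J`, i.e. computed from a resolution of `A/J`) is isomorphic as an `A`-module to `Hom_A(A/J,
M)`, i.e. to the elements of `M` killed by `J`. (Existence of an `A`-linear isomorphism only; the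
published one is induced by the Koszul complex of `xs`.) -/
theorem result (A : Type u) [CommRing A] (xs : List A) (hreg : RingTheory.Sequence.IsWeaklyRegular A xs) (M : Type u) [AddCommGroup M] [Module A M] : Nonempty (↑(((Tor' (ModuleCat.{u} A) xs.length).obj (ModuleCat.of A (A ⧸ Ideal.ofList xs))).obj (ModuleCat.of A M)) ≃ₗ[A] ((A ⧸ Ideal.ofList xs) →ₗ[A] M)) := by
  obtain ⟨e⟩ := (main M xs hreg).2
  let P := ProjectiveResolution.of (ModuleCat.of A (A ⧸ Ideal.ofList xs))
  obtain ⟨e1⟩ := nonempty_tor_iso_homology (ModuleCat.of A (A ⧸ Ideal.ofList xs))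
    (ModuleCat.of A M) P xs.length
  have e2 := P.isoLeftDerivedObj ((tensoringRight (ModuleCat.{u} A)).obj (ModuleCat.of A M))
    xs.length
  exact ⟨(e2 ≪≫ e1.symm).toLinearEquiv.trans e⟩

end Groth.Agent.S5673
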