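import Groth.Statements.S5674
import Groth.Agent.S14409
import Groth.Agent.Lib.Helper29ExtDepthC
import Groth.Agent.Lib.Helper29ExtLocGlob
import Groth.Agent.Lib.Helper29SmoothDepth
import Groth.Agent.Lib.Helper4DevE
import Groth.Agent.Lib.Helper17QCPush2

set_option autoImplicit false
universe u
open CategoryTheory CategoryTheory.Limits AlgebraicGeometry
open ProjDual

namespace Groth.Agent.S5674

/-- Let `k` be an algebraically closed field, `X` a nonsingular algebraic set of dimension `n` over `k`
— here: a quasi-compact `k`-scheme smooth of relative dimension `n` over `k` — `F` a coherent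
`O_X`-module whose support has dimension at most `n - p`, and `L` a finite locally free
`O_X`-module. Then the (global) groups `Ext^i_{O_X}(F, L)` vanish for `i < p`. (All components of
`X` have dimension `n`; for a nonsingular algebraic set with a component of smaller dimension the
conclusion fails. The Ext instance on the category of `O_X`-modules is taken as a hypothesis; it
holds since that category is Grothendieck abelian.) -/
theorem result (k : Type u) [Field k] [IsAlgClosed k] (n : ℕ) (X : Scheme.{u}) [X.Over (Spec (CommRingCat.of k))] [SmoothOfRelativeDimension n (X ↘ Spec (CommRingCat.of k))] [CompactSpace X] [HasExt.{u} X.Modules] (F : X.Modules) (hF : Coh.IsCoh F) (L : X.Modules) (hL : FlatMod.IsFinLocFree L) (p : ℕ) (hsupp : topologicalKrullDim ↥(CohB1.support F) + p ≤ n) (i : ℕ) (hi : i < p) : Subsingleton (Abelian.Ext F L i) := by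
  haveI : Smooth (X ↘ Spec (CommRingCat.of k)) :=
    SmoothOfRelativeDimension.smooth n (X ↘ Spec (CommRingCat.of k))
  haveI : LocallyOfFiniteType (X ↘ Spec (CommRingCat.of k)) := inferInstance
  haveI : IsLocallyNoetherian X :=
    LocallyOfFiniteType.isLocallyNoetherian (X ↘ Spec (CommRingCat.of k))
  haveI hSH : ModSite.HasSheafHom (O := X.sheaf) F :=
    Groth.Agent.Lib.Helper21.ExtShDelta.hasSheafHom X.sheaf F
  haveI := Groth.Agent.Lib.Helper17.QCPush.enoughInjectives X
  haveI hIR : HasInjectiveResolutions (ModSite.Mod X.sheaf) :=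
    inferInstanceAs (HasInjectiveResolutions X.Modules)
  have hcl : IsClosed (CohB1.support F) := Groth.Agent.Lib.Helper4.Dev.isClosed_support F hF
  let U : X.Opens := ⟨(CohB1.support F)ᶜ, hcl.isOpen_compl⟩
  have hL' : Coh.IsCoh L := Groth.Agent.Lib.Helper21.HZB.isCoh_of_isFinLocFree L hL
  have hz : ∀ q : ℕ, q < p → IsZero ((ModSite.extSh (O := X.sheaf) F q).obj L) := by
    intro q hq
    refine Groth.Agent.Lib.Helper29.ExtDepthC.isZero_of_depth_ge U L hL' p F hF
      (fun W hW j => Groth.Agent.S14409.main X W hW F L hF hL' j) ?_ ?_ q hq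
    · intro x hx
      have hxs : x ∈ CohB1.support F := not_not.mp hx
      exact Groth.Agent.Lib.Helper29.SmoothDepth.le_depth_stalk_of_smooth k n X
        (CohB1.support F) hcl p hsupp L hL x hxs
    · intro x hx hxU
      exact hxU hx
  exact @Groth.Agent.Lib.Helper29.ExtLocGlob.ext_subsingleton_of_isZero_extSh _ _ _ X.sheaf F L
    hSH hIR ‹HasExt.{u} X.Modules› p hz i hi

end Groth.Agent.S5674
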