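import Groth.Statements.S5680
import Mathlib
import Groth.Agent.Lib.Helper23TorsLift4
-- import your own Groth.Agent.* helpers here

set_option autoImplicit false
universe u
open CategoryTheory CategoryTheory.Limits AlgebraicGeometry
open FGA

namespace Groth.Agent.S5680

open Groth.Agent.Lib.Helper23.TorsLift

theorem aux (A : Type u) [CommRing A] [IsLocalRing A] (I : Ideal A) (hI : I ≤ nilradical A)
    (X : Scheme.{u}) (f : X ⟶ Spec (CommRingCat.of A))
    (n : ℕ) (hn : (n : IsLocalRing.ResidueField A) ≠ 0)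
    (L : X.Modules) (hL : PicF.IsInvertible L)
    (L' : (pullback f (Spec.map (CommRingCat.ofHom (Ideal.Quotient.mk I)))).Modules)
    (hL' : PicF.IsInvertible L')
    (β : CohB1.tensorPow L' n ≅
      (Scheme.Modules.pullback (pullback.fst f (Spec.map (CommRingCat.ofHom (Ideal.Quotient.mk I))))).obj L) :
    ∃ M : X.Modules, PicF.IsInvertible M ∧ Nonempty (CohB1.tensorPow M n ≅ L) := by
  haveI : IsClosedImmersion (Spec.map (CommRingCat.ofHom (Ideal.Quotient.mk I))) :=
    IsClosedImmersion.spec_of_surjective _ Ideal.Quotient.mk_surjective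
  haveI : Surjective (Spec.map (CommRingCat.ofHom (Ideal.Quotient.mk I))) := by
    constructor
    intro p
    obtain ⟨p', hp'⟩ := (PrimeSpectrum.comap_quotientMk_bijective_of_le_nilradical hI).2 p
    exact ⟨p', hp'⟩
  have hs : Function.Surjective (pullback.fst f (Spec.map (CommRingCat.ofHom (Ideal.Quotient.mk I)))) :=
    (inferInstance : Surjective (pullback.fst f (Spec.map (CommRingCat.ofHom (Ideal.Quotient.mk I))))).surj
  have hn0 : 0 < n := by
    rcases Nat.eq_zero_or_pos n with h | h
    · exact absurd (by rw [h]; simp) hn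
    · exact h
  have hnA : IsUnit (n : A) := by
    have h1 : IsLocalRing.residue A (n : A) ≠ 0 := by
      rw [map_natCast]; exact hn
    exact (IsLocalRing.residue_ne_zero_iff_isUnit _).1 h1
  have hnZ : IsUnit (n : Γ(pullback f (Spec.map (CommRingCat.ofHom (Ideal.Quotient.mk I))), ⊤)) := by
    let φ : A →+* Γ(pullback f (Spec.map (CommRingCat.ofHom (Ideal.Quotient.mk I))), ⊤) :=
      ((Scheme.ΓSpecIso (CommRingCat.of A)).inv ≫
        (pullback.fst f (Spec.map (CommRingCat.ofHom (Ideal.Quotient.mk I))) ≫ f).appTop).hom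
    have := hnA.map φ
    rwa [map_natCast] at this
  obtain ⟨M, hM, ⟨e⟩, -⟩ := exists_root_module
    (pullback.fst f (Spec.map (CommRingCat.ofHom (Ideal.Quotient.mk I)))) hs n hn0 hnZ L hL L' hL' β
  exact ⟨M, hM, ⟨e⟩⟩

/-- Let A be an artinian local ring with maximal ideal m and ν ≥ 1 an integer with m^(ν+1) = 0; let X be
a scheme proper and flat over Spec A, n a natural number whose image in the residue field of A is
nonzero, L an invertible module on X and L' an invertible module on the closed subscheme X ×_A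
Spec(A/m^ν) whose n-th tensor power is isomorphic to the pullback of L. Then there is an invertible
module M on X whose n-th tensor power is isomorphic to L (existence of an isomorphism). -/
theorem result (A : Type u) [CommRing A] [IsArtinianRing A] [IsLocalRing A]
    (ν : ℕ) (hν : 1 ≤ ν) (hm : IsLocalRing.maximalIdeal A ^ (ν + 1) = ⊥)
    (X : Scheme.{u}) (f : X ⟶ Spec (CommRingCat.of A)) [IsProper f] [Flat f]
    (n : ℕ) (hn : (n : IsLocalRing.ResidueField A) ≠ 0)
    (L : X.Modules) (hL : PicF.IsInvertible L)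
    (L' : (pullback f (Spec.map (CommRingCat.ofHom (Ideal.Quotient.mk (IsLocalRing.maximalIdeal A ^ ν))))).Modules)
    (hL' : PicF.IsInvertible L')
    (hroot : Nonempty (CohB1.tensorPow L' n ≅
      (Scheme.Modules.pullback (pullback.fst f (Spec.map (CommRingCat.ofHom (Ideal.Quotient.mk (IsLocalRing.maximalIdeal A ^ ν)))))).obj L)) :
    ∃ M : X.Modules, PicF.IsInvertible M ∧ Nonempty (CohB1.tensorPow M n ≅ L) := by
  obtain ⟨β⟩ := hroot
  refine aux A (IsLocalRing.maximalIdeal A ^ ν) ?_ X f n hn L hL L' hL' β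
  intro x hx
  refine ⟨2, ?_⟩
  have h1 : x ^ 2 ∈ (IsLocalRing.maximalIdeal A ^ ν) ^ 2 := Ideal.pow_mem_pow hx 2
  have h2 : (IsLocalRing.maximalIdeal A ^ ν) ^ 2 ≤ IsLocalRing.maximalIdeal A ^ (ν + 1) := by
    rw [← pow_mul]
    exact Ideal.pow_le_pow_right (by omega)
  have h3 := h2 h1
  rw [hm] at h3
  exact h3

end Groth.Agent.S5680
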