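import Groth.Statements.S5684
import Groth.Agent.Lib.LeadPicFF8

set_option autoImplicit false
universe u
open CategoryTheory CategoryTheory.Limits AlgebraicGeometry
open FGA

namespace Groth.Agent.S5684

/-- Let f : X ⟶ S be quasi-compact and separated with the induced maps from sections of the structure
sheaf of S to sections of the structure sheaf of X bijective over every open of S, and let g : S' ⟶
S be flat, surjective and quasi-compact. If L is an invertible module on X whose pullback to X ×_S
S' is isomorphic to the pullback along the second projection of some invertible module on S', then L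
is isomorphic to the pullback along f of some invertible module on S. -/
theorem result {X S S' : Scheme.{u}} (f : X ⟶ S)
    [QuasiCompact f] [IsSeparated f] (hf : ∀ U : S.Opens, Function.Bijective (f.app U))
    (g : S' ⟶ S) [Flat g] [Surjective g] [QuasiCompact g]
    (L : X.Modules) (hL : PicF.IsInvertible L)
    (hdesc : ∃ N' : S'.Modules, PicF.IsInvertible N' ∧
      Nonempty ((Scheme.Modules.pullback (pullback.fst f g)).obj L ≅ (Scheme.Modules.pullback (pullback.snd f g)).obj N')) :
    ∃ N : S.Modules, PicF.IsInvertible N ∧ Nonempty (L ≅ (Scheme.Modules.pullback f).obj N) := by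
  obtain ⟨N', hN', ⟨τ⟩⟩ := hdesc
  have hpb : IsPullback (pullback.fst f g) (pullback.snd f g) f g := IsPullback.of_hasPullback f g
  have hf' := Groth.Agent.Lib.LeadPicFF.bijective_app_of_flat_baseChange f g _ _ hpb hf
  haveI : L.IsQuasicoherent := Groth.Agent.Lib.Helper23.SecTw.isQuasicoherent_of_isInvertible L hL
  haveI : ((Scheme.Modules.pushforward f).obj L).IsQuasicoherent :=
    Groth.Agent.Lib.Helper23.QCohLocal.isQuasicoherent_pushforward f L
  obtain ⟨e⟩ := Groth.Agent.Lib.LeadPicFF.nonempty_pullback_pushforward_iso' f g _ _ hpb hf' L N' hN' τ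
  have hN : PicF.IsInvertible ((Scheme.Modules.pushforward f).obj L) :=
    Groth.Agent.Lib.LeadPicFF.isInvertible_of_pullback g _
      (Groth.Agent.Lib.Helper23.AmpleIso.isInvertible_of_iso e.symm hN')
  haveI := Groth.Agent.Lib.LeadPicFF.epi_counit_of_family f (fun _ : PUnit.{1} => g)
    (fun _ => pullback.fst f g) (fun _ => pullback.snd f g) (fun _ => hpb)
    (fun y => ⟨PUnit.unit, Surjective.surj y⟩) L (fun _ => N') (fun _ => hN') (fun _ => τ)
  haveI := Groth.Agent.Lib.LeadPicFF.isIso_of_epi_of_isInvertible
    (Groth.Agent.Lib.Helper23.PB.isInvertible_pullback f _ hN) hL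
    ((Scheme.Modules.pullbackPushforwardAdjunction f).counit.app L)
  exact ⟨_, hN, ⟨(asIso ((Scheme.Modules.pullbackPushforwardAdjunction f).counit.app L)).symm⟩⟩

end Groth.Agent.S5684
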