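import Groth.Statements.S5690
import Mathlib
import Groth.Agent.Lib.Helper11FfgEq3

set_option autoImplicit false
universe u
open CategoryTheory CategoryTheory.Limits AlgebraicGeometry
open FGA

namespace Groth.Agent.S5690


/-- Let (U, R, s, t, c) be a groupoid scheme over a scheme S whose source morphism s : R ⟶ U is finite
locally free (finite, flat and locally of finite presentation), and suppose every equivalence class
t(s⁻¹(x)), x a point of U, is contained in some affine open of U. Then there are a scheme Y and a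
morphism q : U ⟶ Y with s ≫ q = t ≫ q which is a coequalizer of s and t in the category of schemes,
affine, integral and surjective, whose fibres are the equivalence classes; and if (t, s) : R ⟶ U ×_S
U is a monomorphism then q is moreover finite, flat and locally of finite presentation and (t, s) :
R ⟶ U ×_Y U is an isomorphism. Only the sufficiency of the affine-class condition is stated (the
published statement is an equivalence: the quotient with these properties exists if and only if
every class lies in an affine open). -/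
theorem result {S : Scheme.{u}} (G : Grpd.GroupoidScheme S)
    [IsFinite G.s] [Flat G.s] [LocallyOfFinitePresentation G.s]
    (haff : ∀ x : ↥G.U, ∃ V : G.U.Opens, IsAffineOpen V ∧ G.t.base '' (G.s.base ⁻¹' {x}) ⊆ (V : Set ↥G.U)) :
    ∃ (Y : Scheme.{u}) (q : G.U ⟶ Y) (w : G.s ≫ q = G.t ≫ q),
      Nonempty (IsColimit (Cofork.ofπ q w)) ∧ IsAffineHom q ∧ IsIntegralHom q ∧ Surjective q ∧
      (∀ x x' : ↥G.U, q.base x = q.base x' ↔ ∃ r : ↥G.R, G.s.base r = x ∧ G.t.base r = x') ∧
      (Mono G.j → IsFinite q ∧ Flat q ∧ LocallyOfFinitePresentation q ∧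
        IsIso (pullback.lift G.t G.s w.symm : G.R ⟶ pullback q q)) := by
  haveI : Fact (Groth.Agent.Lib.Helper11.Ffg.OrbitsAffine G) := ⟨haff⟩
  have hq := Groth.Agent.Lib.Helper11.Ffg.isGQ_quotMap G haff
  haveI := hq.epi
  haveI : IsIntegralHom (Groth.Agent.Lib.Helper11.Ffg.quotMap G haff) :=
    Groth.Agent.Lib.Helper11.Ffg.isIntegralHom_quotMap G haff
  have w : G.s ≫ Groth.Agent.Lib.Helper11.Ffg.quotMap G haff =
      G.t ≫ Groth.Agent.Lib.Helper11.Ffg.quotMap G haff :=
    (Groth.Agent.Lib.Helper11.Ffg.quotMap_w G haff).symm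
  refine ⟨Groth.Agent.Lib.Helper11.Ffg.quotScheme G, Groth.Agent.Lib.Helper11.Ffg.quotMap G haff,
    w, ⟨?_⟩, inferInstance, inferInstance, ⟨hq.surj⟩, fun x x' => ⟨fun h => ?_, ?_⟩, fun hm => ?_⟩
  · refine Cofork.IsColimit.mk' _ fun c => ?_
    have hex := hq.exists_desc c.π c.condition.symm
    refine ⟨hex.choose, hex.choose_spec, fun {m} hm => ?_⟩
    rw [← cancel_epi (Groth.Agent.Lib.Helper11.Ffg.quotMap G haff)]
    exact hm.trans hex.choose_spec.symm
  · obtain ⟨r, hr1, hr2⟩ := hq.fibre x' x h.symm
    exact ⟨r, hr2, hr1⟩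
  · rintro ⟨r, rfl, rfl⟩
    exact (hq.map_eq r).symm
  · haveI := hm
    obtain ⟨f1, f2, f3⟩ := Groth.Agent.Lib.Helper11.Ffg.isFinLocFree_quotMap G haff
    have hpb := Groth.Agent.Lib.Helper11.Ffg.isPullback_quotMap G haff
    refine ⟨f1, f2, f3, ?_⟩
    have : pullback.lift G.t G.s w.symm = hpb.isoPullback.hom := by
      apply pullback.hom_ext
      · rw [pullback.lift_fst, IsPullback.isoPullback_hom_fst]
      · rw [pullback.lift_snd, IsPullback.isoPullback_hom_snd]
    rw [this]
    infer_instance

end Groth.Agent.S5690
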