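import Groth.Statements.S5692
-- import your own Groth.Agent.* helpers here
import Mathlib
import Groth.Agent.Lib.Helper14FittStratum
import Groth.Agent.Lib.Helper18FittSh4

set_option autoImplicit false
universe u
open CategoryTheory CategoryTheory.Limits AlgebraicGeometry
open FGA

namespace Groth.Agent.S5692

set_option linter.style.haveILetI false

open Groth.Agent.Lib.Helper14.FittStratum Groth.Agent.Helper18FittSh Scheme.IdealSheafData

/-- Let S be a locally Noetherian scheme, M a coherent module on S and r a natural number. Then there is
an immersion e : Z ⟶ S with the following universal property: for every scheme T and every morphism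
g : T ⟶ S, the pullback of M along g is locally free of rank r if and only if g factors through e.
If moreover M is generated by r sections on a neighbourhood of every point of S (equivalently all
fibres of M have rank at most r), then e is a closed immersion. -/
theorem result (S : Scheme.{u}) [IsLocallyNoetherian S]
    (M : S.Modules) (hM : Coh.IsCoh M) (r : ℕ) :
    ∃ (Z : Scheme.{u}) (e : Z ⟶ S), IsImmersion e ∧
      (∀ (T : Scheme.{u}) (g : T ⟶ S),
        FlatMod.IsFinLocFreeOfRank r ((Scheme.Modules.pullback g).obj M) ↔ ∃ g' : T ⟶ Z, g' ≫ e = g) ∧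
      ((∀ s : ↥S, ∃ U : S.Opens, s ∈ U ∧ ∃ p : FlatMod.freeMod (↑U) r ⟶ M.restrict U.ι, Epi p) →
        IsClosedImmersion e) := by
  have hq : Coh.IsQCoh M := hM.1
  have hF : CohB1.IsFT M := hM.2
  haveI : M.IsQuasicoherent := hq
  haveI : SheafOfModules.IsFiniteType (R := S.ringCatSheaf) M := hF
  have hfin := finite_sections M hF
  have hmono : ∀ k k' : ℕ, k ≤ k' → Fitt.sheafIdeal M k ≤ Fitt.sheafIdeal M k' := by
    intro k k' h
    rw [Scheme.IdealSheafData.le_def]
    intro V
    rw [sheafIdeal_ideal M k hfin V, sheafIdeal_ideal M k' hfin V]
    haveI := hfin V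
    exact Groth.Agent.Helper18Fitt.fitt_mono h
  set K : S.IdealSheafData := if r = 0 then ⊥ else Fitt.sheafIdeal M (r - 1) with hK
  set J : S.IdealSheafData := Fitt.sheafIdeal M r with hJ
  refine ⟨(K.comap (compl J).ι).subscheme, (K.comap (compl J).ι).subschemeι ≫ (compl J).ι,
    inferInstance, fun T f => ?_, fun hgen => ?_⟩
  · rw [exists_factor_iff K J f]
    haveI : ((Scheme.Modules.pullback f).obj M).IsQuasicoherent :=
      Groth.Agent.Lib.Helper20.PullbackAff.isQuasicoherent_pullback f M
    have hftG : CohB1.IsFT ((Scheme.Modules.pullback f).obj M) :=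
      Groth.Agent.Lib.Helper20.FormalPull.isFiniteType_pullback f M
    rw [main_S8875 T ((Scheme.Modules.pullback f).obj M) inferInstance hftG r]
    simp only [← main_S8872 f M hq hF]
    constructor
    · rintro ⟨h1, h2⟩
      constructor
      · rw [hK]
        split_ifs with h0
        · rw [comap_eq_bot_iff]; exact bot_le
        · exact h1 (r - 1) (by omega)
      · exact h2 r le_rfl
    · rintro ⟨h1, h2⟩
      constructor
      · intro k hk
        have hr0 : r ≠ 0 := by omega
        rw [hK, if_neg hr0] at h1
        rw [← le_bot_iff, ← h1]
        exact comap_mono f (hmono k (r - 1) (by omega))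
      · intro k hk
        rw [← top_le_iff, ← h2]
        exact comap_mono f (hmono r k hk)
  · have htop : compl J = ⊤ := by
      refine top_le_iff.mp (fun s _ => ?_)
      change s ∉ J.support
      obtain ⟨U, hsU, p, hp⟩ := hgen s
      exact notMem_support_of_epi M hF s r U hsU p
    haveI : IsIso (compl J).ι := by
      rw [htop]
      exact (Scheme.topIso S).isIso_hom
    infer_instance

end Groth.Agent.S5692
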