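import Groth.Statements.S5725
import Groth.Agent.Lib.Helper18VAmpE

set_option autoImplicit false
universe u
open CategoryTheory CategoryTheory.Limits AlgebraicGeometry TopologicalSpace Opposite
open scoped HomogeneousIdeal
open EGA2

namespace Groth.Agent.S5725

/-- Let q : X → Y be a quasi-compact morphism and L an invertible O_X-module. If L is very ample
relative to q (isomorphic to i^*O_{P(E)}(1) for a Y-immersion i : X → P(E) into the projective
bundle of a quasi-coherent O_Y-module E), then the canonical morphism q^*(q_*L) → L, the counit of
the adjunction between inverse and direct image, is an epimorphism. (The published statement also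
records that q_*L is quasi-coherent, which holds because q is then quasi-compact and separated, and
lists a further property, that the morphism into the projective bundle of q_*L attached to this
epimorphism is an immersion; with that property the converse holds. Those parts are not stated
here.) -/
theorem result {X Y : Scheme.{u}} (q : X ⟶ Y) [QuasiCompact q] (L : X.Modules)
    (hL : PicF.IsInvertible L) (h : RelProj.IsRelVeryAmple q L) :
    Epi ((Scheme.Modules.pullbackPushforwardAdjunction q).counit.app L) := by
  obtain ⟨E, hE, 𝒮, j, hj, P, p, chart, hP, O1, lam, hO1, i, himm, hip, ⟨e⟩⟩ := h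
  have h1 := Groth.Agent.Helper18VAmp.epi_counit_pullback_twist q 𝒮 P p chart O1 lam
    (Groth.Agent.Helper18VAmp.isGenDegOne_of_isGrSymAlg E hE 𝒮 j hj) hO1 i hip
  have hnat : (Scheme.Modules.pushforward q ⋙ Scheme.Modules.pullback q).map e.inv ≫
      (Scheme.Modules.pullbackPushforwardAdjunction q).counit.app L =
    (Scheme.Modules.pullbackPushforwardAdjunction q).counit.app ((Scheme.Modules.pullback i).obj O1) ≫
      e.inv := (Scheme.Modules.pullbackPushforwardAdjunction q).counit.naturality e.inv
  have h2 : (Scheme.Modules.pullbackPushforwardAdjunction q).counit.app L =
      (Scheme.Modules.pushforward q ⋙ Scheme.Modules.pullback q).map e.hom ≫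
        (Scheme.Modules.pullbackPushforwardAdjunction q).counit.app ((Scheme.Modules.pullback i).obj O1) ≫
          e.inv := by
    rw [← hnat, ← Category.assoc, ← Functor.map_comp, e.hom_inv_id, CategoryTheory.Functor.map_id]
    exact (Category.id_comp _).symm
  rw [h2]
  infer_instance

end Groth.Agent.S5725
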