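import Groth.Statements.S5735
import Mathlib
import Groth.Agent.Lib.Helper23SteinA
import Groth.Agent.Lib.Helper23SteinF
import Groth.Agent.Lib.Helper23SteinG
import Groth.Agent.S2431
import Groth.Agent.S4464
-- import your own Groth.Agent.* helpers here

set_option autoImplicit false
universe u
open Coherent

namespace Groth.Agent.S5735

open AlgebraicGeometry CategoryTheory CategoryTheory.Limits
open Groth.Agent.Lib.Helper23

open AlgebraicGeometry CategoryTheory CategoryTheory.Limits in
/-- Let X and Y be locally Noetherian integral schemes and f : X → Y a proper dominant morphism which is
universally open in the following sense: for every irreducible locally Noetherian scheme Y' and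
every dominant morphism g : Y' → Y, each irreducible component of X ×_Y Y' has dense image in Y'
under the second projection. Suppose that the algebraic closure of the function field R(Y) in R(X)
is purely inseparable over R(Y): every element of R(X) satisfying a nonzero polynomial over R(Y) has
some p^e-th power coming from R(Y), p being the characteristic exponent. Then for every point y of Y
the fibre X_y is geometrically connected over the residue field k(y) (its base change to any field
extension is connected and nonempty). -/
theorem result {X Y : Scheme.{u}}
    [IsIntegral X] [IsIntegral Y] [IsLocallyNoetherian X] [IsLocallyNoetherian Y] (f : X ⟶ Y) [IsProper f]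
    (hdom : f.base (genericPoint X) ⤳ genericPoint Y)
    (hopen : ∀ (Y' : Scheme.{u}) (g : Y' ⟶ Y), IrreducibleSpace ↥Y' → IsLocallyNoetherian Y' →
      IsDominant g → ∀ Z ∈ irreducibleComponents ↥(pullback f g), Dense ((pullback.snd f g).base '' Z))
    (hrad : ∀ x : X.functionField,
      (∃ q : Polynomial Y.functionField, q ≠ 0 ∧
        Polynomial.eval₂ (CohIII.stalkToFunctionField f (genericPoint Y) hdom) x q = 0) →
      ∃ e : ℕ, x ^ (ringExpChar X.functionField ^ e) ∈
        Set.range (CohIII.stalkToFunctionField f (genericPoint Y) hdom))
    (y : Y) : GeometricallyConnected (f.fiberToSpecResidueField y) := by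
  set f' := f.toNormalization with hf'def
  set g := f.fromNormalization with hgdef
  have w : f' ≫ g = f := f.toNormalization_fromNormalization
  haveI : IsFinite g := Groth.Agent.Lib.Helper6.Stein.isFinite_fromNormalization f
  haveI : IsLocallyNoetherian f.normalization := SteinA.isLocallyNoetherian_normalization f
  haveI : IsProper f' := SteinA.isProper_toNormalization f
  haveI : Surjective f' := ⟨SteinA.surjective_toNormalization f⟩
  have hdom' : f.base (genericPoint X) = genericPoint Y :=
    (hdom.antisymm ((genericPoint_spec Y).specializes trivial)).eq
  have hf'η : f' (genericPoint X) = genericPoint f.normalization :=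
    SteinF.map_genericPoint_of_isDominant f'
  have hgη : g (genericPoint f.normalization) = genericPoint Y := by
    rw [← hf'η, ← hdom']
    exact congr(($w).base (genericPoint X))
  have hfsurj : Function.Surjective f.base := Groth.Agent.S4464.surjective_of_proper_dominant f hdom'
  have hgsurj : Function.Surjective g.base := by
    intro y
    obtain ⟨x, hx⟩ := hfsurj y
    exact ⟨f' x, (congr(($w).base x)).trans hx⟩
  haveI : Surjective g := ⟨hgsurj⟩
  haveI : IsDominant g := ⟨hgsurj.denseRange⟩
  have hpi := SteinG.isPurelyInseparable_residueFieldMap f' g f w
    (hf'η ▸ specializes_rfl) (hgη ▸ specializes_rfl) hdom hrad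
  have hop := hopen f.normalization g inferInstance inferInstance inferInstance
  have hfib : ∀ y' : f.normalization, g y' = g (genericPoint f.normalization) →
      y' = genericPoint f.normalization :=
    fun y' h => SteinF.eq_genericPoint_of_locallyQuasiFinite g y' h
  have hdiag : Surjective (pullback.diagonal g) :=
    SteinF.surjective_diagonal' f' g f w hfib hpi hop
  haveI : UniversallyInjective g := (UniversallyInjective.iff_diagonal g).2 hdiag
  haveI : GeometricallyConnected f' :=
    (Groth.Agent.S2431.result f' (SteinA.isIso_toNormalization_app f)).2
  have hgc : GeometricallyConnected (f' ≫ g) :=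
    SteinF.geometricallyConnected_comp_of_universallyInjective f' g
  rw [w] at hgc
  infer_instance

end Groth.Agent.S5735
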