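import Groth.Statements.S5748
import Mathlib
import Groth.Agent.S4418
import Groth.Agent.Lib.Helper27AffTwistB
import Groth.Agent.Lib.Helper23CounitEpi
import Groth.Agent.Lib.Helper23TensorQCoh

set_option autoImplicit false
universe u
open CategoryTheory CategoryTheory.Limits AlgebraicGeometry Opposite TopologicalSpace
open Coherent

namespace Groth.Agent.S5748

/-- Let Y be a Noetherian scheme, f : X → Y a projective morphism, L an invertible O_X-module ample
relative to f, g : Y' → Y an affine morphism locally of finite type (the spectrum of a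
quasi-coherent O_Y-algebra 𝒮 of finite type) and X' = X ×_Y Y' with projections g' : X' → X and f' :
X' → Y'. The quasi-coherent modules of finite type over the pulled-back O_X-algebra f^*𝒮 = g'_*
O_{X'} are the direct images g'_* G of the coherent O_{X'}-modules G, and they are presented here in
that form. For such a module ℳ = g'_* G there is N such that for every n ≥ N the higher direct
images R^p f_*(ℳ ⊗ L^{⊗n}) (of the underlying abelian sheaf) vanish for all p > 0 and the canonical
morphism f^* f_*(ℳ ⊗ L^{⊗n}) → ℳ ⊗ L^{⊗n} is an epimorphism. -/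
theorem result {X Y X' Y' : Scheme.{u}}
    [AlgebraicGeometry.IsNoetherian Y] (f : X ⟶ Y) (hf : RelProj.IsProjective f)
    (L : X.Modules) (hL : PicF.IsInvertible L) (hamp : RelAmple.IsRelAmple f L)
    (g : Y' ⟶ Y) [IsAffineHom g] [LocallyOfFiniteType g] (g' : X' ⟶ X) (f' : X' ⟶ Y')
    (hsq : IsPullback g' f' f g) (G : X'.Modules) (hG : Coh.IsCoh G) :
    ∃ N : ℕ, ∀ n : ℕ, N ≤ n →
      (∀ p : ℕ, 0 < p →
        IsZero ((Coh.RpushAb f p).obj (Coh.toAb (CohB1.tensorMod ((Coh.push g').obj G) (CohB1.tensorPow L n))))) ∧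
      Epi ((Scheme.Modules.pullbackPushforwardAdjunction f).counit.app
        (CohB1.tensorMod ((Coh.push g').obj G) (CohB1.tensorPow L n))) := by
  classical
  haveI : IsProper f := (Groth.Agent.S4418.result f hf).2
  haveI : IsAffineHom g' := MorphismProperty.of_isPullback (P := @IsAffineHom) hsq.flip inferInstance
  -- a finite affine open cover of the base
  have hcov : ∀ s : Y, ∃ W : Y.Opens, IsAffineOpen W ∧ s ∈ W := fun s => by
    obtain ⟨W, hW, hsW, -⟩ := (TopologicalSpace.Opens.isBasis_iff_nbhd.mp Y.isBasis_affineOpens)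
      (show s ∈ (⊤ : Y.Opens) from trivial)
    exact ⟨W, hW, hsW⟩
  choose W hWa hsW using hcov
  obtain ⟨T, hT⟩ : ∃ T : Finset Y, (Set.univ : Set Y) ⊆ ⋃ s ∈ T, (W s : Set Y) :=
    isCompact_univ.elim_finite_subcover (fun s => (W s : Set Y)) (fun s => (W s).2)
      (fun s _ => Set.mem_iUnion.2 ⟨s, hsW s⟩)
  have hloc := fun s : Y => Groth.Agent.Lib.Helper27AffTwistB.local_main f L hL g g' f' hsq G hG
    (W s) (hWa s) (hamp.2 ⟨W s, hWa s⟩)
  choose N hN using hloc
  refine ⟨T.sup N, fun n hn => ⟨fun p hp => ?_, ?_⟩⟩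
  · haveI : ((Coh.push g').obj G).IsQuasicoherent := by
      haveI : G.IsQuasicoherent := hG.1
      exact Groth.Agent.Lib.Helper23.QCohLocal.isQuasicoherent_pushforward g' G
    haveI : (CohB1.tensorPow L n).IsQuasicoherent :=
      Groth.Agent.Lib.Helper23.SecTw.isQuasicoherent_of_isInvertible _
        (Groth.Agent.Lib.Helper23.SecTw.isInvertible_tensorPow hL n)
    haveI : Coh.IsQCoh (CohB1.tensorMod ((Coh.push g').obj G) (CohB1.tensorPow L n)) :=
      Groth.Agent.Lib.Helper23.TensorQCoh.isQuasicoherent_tensorMod _ _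
    refine Groth.Agent.Lib.Helper17.SerreAmple.isZero_RpushAb_of_cover f _ p
      (fun s : T => W s.1) (fun s => hWa s.1) (fun y => ?_) (fun s => ?_)
    · obtain ⟨s, hs⟩ := Set.mem_iUnion.1 (hT (Set.mem_univ y))
      obtain ⟨hsT, hys⟩ := Set.mem_iUnion.1 hs
      exact ⟨⟨s, hsT⟩, hys⟩
    · exact (hN s.1 n ((Finset.le_sup s.2).trans hn)).1 p hp
  · apply Groth.Agent.Lib.Helper23.CounitEpi.epi_counit_of_isGloballyGenerated
    intro x
    obtain ⟨s, hs⟩ := Set.mem_iUnion.1 (hT (Set.mem_univ (f x)))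
    obtain ⟨hsT, hys⟩ := Set.mem_iUnion.1 hs
    exact ⟨W s, hys, (hN s n ((Finset.le_sup hsT).trans hn)).2⟩

end Groth.Agent.S5748
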