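import Groth.Statements.S5750
import Mathlib
import Groth.Agent.Lib.Helper27HilbEventually

set_option autoImplicit false
universe u
open Coherent

namespace Groth.Agent.S5750

open AlgebraicGeometry CategoryTheory in
/-- Let A be an Artinian local ring, i : X → P^r_A a closed immersion compatible with the structure
morphisms to Spec A, F a coherent O_X-module and F(n) = F ⊗ i^* O(n). If a polynomial P over ℚ
satisfies P(n) = χ_A(F(n)) = Σ_{j ≤ r} (-1)^j length_A H^j(X, F(n)) for every integer n (the Hilbert
polynomial of F), then the leading coefficient of P is non-negative. -/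
theorem result (A : Type u) [CommRing A]
    [IsArtinianRing A] [IsLocalRing A] (r : ℕ) (X : Scheme.{u}) [X.Over (Spec (CommRingCat.of A))]
    (i : X ⟶ CohB1.ProjSpace r A) [IsClosedImmersion i]
    (hi : i ≫ CohB1.ProjSpace.toSpec r A = X ↘ Spec (CommRingCat.of A)) (F : X.Modules) (hF : Coh.IsCoh F)
    (P : Polynomial ℚ)
    (hP : ∀ n : ℤ, ((Finset.range (r + 1)).sum fun j => (-1 : ℚ) ^ j *
        ((Module.length A (Coh.HH X (CohB1.tensorMod F
          ((Scheme.Modules.pullback i).obj (Twist.twistProjSpace r A n))) j)).toNat : ℚ)) = P.eval (n : ℚ)) :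
    0 ≤ P.leadingCoeff := by
  haveI : IsNoetherianRing A := inferInstance
  obtain ⟨N, hN⟩ := Groth.Agent.Lib.Helper27HilbEventually.exists_vanishing_twists A r i F hF
  refine Groth.Agent.Lib.Helper27HilbEventually.leadingCoeff_nonneg_of_eventually_nonneg P N
    (fun n hn => ?_)
  rw [← hP n, Finset.sum_eq_single 0]
  · rw [pow_zero, one_mul]
    exact Nat.cast_nonneg _
  · intro j _ hj0
    haveI := hN n hn j (Nat.pos_of_ne_zero hj0)
    rw [Module.length_eq_zero]
    simp
  · intro h0
    exact absurd (Finset.mem_range.mpr (Nat.succ_pos r)) h0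

end Groth.Agent.S5750
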