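import Groth.Statements.S5754
import Groth.Agent.Lib.Helper5Ass

set_option autoImplicit false
universe u
open EGA41

namespace Groth.Agent.S5754

/-- Let A be a Noetherian ring, M a finitely generated A-module and t an element of A which is
M-regular. For every associated prime p of M, every prime ideal minimal among those containing p +
tA is an associated prime of M/tM. -/
theorem result (A : Type u) [CommRing A]
    [IsNoetherianRing A] (M : Type u) [AddCommGroup M] [Module A M] [Module.Finite A M] (t : A)
    (ht : IsSMulRegular M t) (p : Ideal A) (hp : p ∈ associatedPrimes A M) (q : Ideal A)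
    (hq : q ∈ (p ⊔ Ideal.span {t}).minimalPrimes) : q ∈ associatedPrimes A (QuotSMulTop t M) := by
  exact Groth.Agent.Lib.Helper5.mem_associatedPrimes_quotSMulTop_of_mem_minimalPrimes ht hp hq

end Groth.Agent.S5754
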