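import Groth.Statements.S5769
import Mathlib

set_option autoImplicit false
universe u
open EGA41

namespace Groth.Agent.S5769

/-- Let φ : A → B be a local homomorphism of Noetherian local rings, m the maximal ideal of A and k its
residue field. Then dim(B) ≤ dim(A) + dim(B ⊗_A k), where B ⊗_A k = B/mB. -/
theorem result (A B : Type u) [CommRing A] [CommRing B]
    [IsLocalRing A] [IsLocalRing B] [IsNoetherianRing A] [IsNoetherianRing B] [Algebra A B]
    [IsLocalHom (algebraMap A B)] :
    ringKrullDim B ≤ ringKrullDim A +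
      ringKrullDim (B ⧸ (IsLocalRing.maximalIdeal A).map (algebraMap A B)) := by
  have hlo : (IsLocalRing.maximalIdeal B).LiesOver (IsLocalRing.maximalIdeal A) := inferInstance
  have h := Ideal.height_le_height_add_of_liesOver (IsLocalRing.maximalIdeal A)
    (IsLocalRing.maximalIdeal B)
  rw [← IsLocalRing.maximalIdeal_height_eq_ringKrullDim (R := B),
    ← IsLocalRing.maximalIdeal_height_eq_ringKrullDim (R := A)]
  have hle : (IsLocalRing.maximalIdeal A).map (algebraMap A B) ≤ IsLocalRing.maximalIdeal B := by
    rw [Ideal.map_le_iff_le_comap]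
    exact le_of_eq (Ideal.LiesOver.over (p := IsLocalRing.maximalIdeal A)
      (P := IsLocalRing.maximalIdeal B))
  have hprime : ((IsLocalRing.maximalIdeal B).map
      (Ideal.Quotient.mk ((IsLocalRing.maximalIdeal A).map (algebraMap A B)))).IsPrime :=
    Ideal.isPrime_map_quotientMk_of_isPrime hle
  have h2 : (((IsLocalRing.maximalIdeal B).map
      (Ideal.Quotient.mk ((IsLocalRing.maximalIdeal A).map (algebraMap A B)))).height : WithBot ℕ∞) ≤
      ringKrullDim (B ⧸ (IsLocalRing.maximalIdeal A).map (algebraMap A B)) :=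
    Ideal.height_le_ringKrullDim_of_ne_top Ideal.IsPrime.ne_top'
  calc ((IsLocalRing.maximalIdeal B).height : WithBot ℕ∞)
      ≤ (((IsLocalRing.maximalIdeal A).height + ((IsLocalRing.maximalIdeal B).map
      (Ideal.Quotient.mk ((IsLocalRing.maximalIdeal A).map (algebraMap A B)))).height : ℕ∞) : WithBot ℕ∞) := by
        exact_mod_cast h
    _ = ((IsLocalRing.maximalIdeal A).height : WithBot ℕ∞) + (((IsLocalRing.maximalIdeal B).map
      (Ideal.Quotient.mk ((IsLocalRing.maximalIdeal A).map (algebraMap A B)))).height : WithBot ℕ∞) := by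
        push_cast; rfl
    _ ≤ _ := by gcongr

end Groth.Agent.S5769
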