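import Groth.Statements.S5771
import Groth.Agent.Lib.Helper5LocalDim

set_option autoImplicit false
universe u
open EGA41

namespace Groth.Agent.S5771

/-- Let φ : A → B be a local homomorphism of Noetherian local rings, m the maximal ideal of A, and
suppose mB is an ideal of definition of B (equivalently dim(B/mB) = 0). Then dim(B) ≤ dim(A); if
moreover A is an integral domain and dim(A) = dim(B), then φ is injective. -/
theorem result (A B : Type u) [CommRing A] [CommRing B]
    [IsLocalRing A] [IsLocalRing B] [IsNoetherianRing A] [IsNoetherianRing B] [Algebra A B]
    [IsLocalHom (algebraMap A B)]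
    (hdef : ringKrullDim (B ⧸ (IsLocalRing.maximalIdeal A).map (algebraMap A B)) = 0) :
    ringKrullDim B ≤ ringKrullDim A ∧
      (IsDomain A → ringKrullDim A = ringKrullDim B → Function.Injective (algebraMap A B)) := by
  constructor
  · have h := Groth.Agent.Lib.Helper5.ringKrullDim_le_add_of_isLocalHom (algebraMap A B)
    rwa [hdef, add_zero] at h
  · intro hdom hdim
    exact Groth.Agent.Lib.Helper5.injective_of_ringKrullDim_eq (algebraMap A B) hdef hdim

end Groth.Agent.S5771
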