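import Groth.Statements.S5772
import Mathlib

set_option autoImplicit false
universe u
open scoped Pointwise
open EGA41

namespace Groth.Agent.S5772

/-- Let A be a Noetherian ring, M a finitely generated A-module and f an element of A. Then f is
M-regular (multiplication by f on M is injective) if and only if f is M-quasi-regular, i.e. the
canonical surjection (M/fM)[T] → gr(M) for the (f)-adic filtration is bijective, which amounts to:
for every k ≥ 0 and x ∈ M, f^k x ∈ f^(k+1) M implies x ∈ fM. -/
theorem result (A : Type u) [CommRing A] [IsNoetherianRing A] (M : Type u)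
    [AddCommGroup M] [Module A M] [Module.Finite A M] (f : A) :
    IsSMulRegular M f ↔
      ∀ (k : ℕ) (x : M), f ^ k • x ∈ f ^ (k + 1) • (⊤ : Submodule A M) → x ∈ f • (⊤ : Submodule A M) := by
  constructor
  · intro hreg k x hx
    rw [Submodule.mem_smul_pointwise_iff_exists] at hx
    obtain ⟨y, -, hy⟩ := hx
    rw [pow_succ, mul_smul] at hy
    have := (hreg.pow k) hy
    rw [Submodule.mem_smul_pointwise_iff_exists]
    exact ⟨y, trivial, this⟩
  · intro h x₁ x₂ hx
    rw [← sub_eq_zero]
    have hx0 : f • (x₁ - x₂) = 0 := by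
      rw [smul_sub]; exact sub_eq_zero.mpr hx
    generalize x₁ - x₂ = x at hx0
    have key : ∀ n : ℕ, ∃ y : M, x = f ^ n • y ∧ f ^ (n + 1) • y = 0 := by
      intro n
      induction n with
      | zero => exact ⟨x, by simp, by simpa using hx0⟩
      | succ n ih =>
        obtain ⟨y, hxy, hy⟩ := ih
        have hy' : y ∈ f • (⊤ : Submodule A M) := by
          apply h (n + 1) y
          rw [hy]
          exact Submodule.zero_mem _
        rw [Submodule.mem_smul_pointwise_iff_exists] at hy'
        obtain ⟨z, -, hz⟩ := hy'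
        refine ⟨z, ?_, ?_⟩
        · rw [hxy, ← hz, pow_succ, mul_smul]
        · rw [← hy, ← hz, pow_succ (f) (n + 1), mul_smul]
    have hmem : x ∈ (⨅ i : ℕ, (Ideal.span {f}) ^ i • ⊤ : Submodule A M) := by
      rw [Submodule.mem_iInf]
      intro n
      obtain ⟨y, hxy, -⟩ := key n
      rw [hxy]
      exact Submodule.smul_mem_smul (Ideal.pow_mem_pow (Ideal.mem_span_singleton_self f) n)
        trivial
    obtain ⟨⟨r, hr⟩, hrx⟩ := (Ideal.mem_iInf_smul_pow_eq_bot_iff (Ideal.span {f}) x).mp hmem
    obtain ⟨g, rfl⟩ := Ideal.mem_span_singleton'.mp hr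
    rw [← hrx]
    change (g * f) • x = 0
    rw [mul_smul, hx0, smul_zero]

end Groth.Agent.S5772
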