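import Groth.Statements.S5774
import Mathlib
import Groth.Agent.Lib.Helper5FlatReg
import Groth.Agent.Lib.Helper28DepthFlat4

set_option autoImplicit false
universe u
open EGA41

namespace Groth.Agent.S5774

/-- Let A → B be a local homomorphism of Noetherian local rings, m the maximal ideal of A and k = A/m, M
a finitely generated B-module which is flat over A, and f_1, ..., f_n elements of B whose images g_i
in B ⊗_A k form an (M ⊗_A k)-regular sequence. Then (f_i) is an M-regular sequence and the quotients
M/(f_1 M + ... + f_i M), 0 ≤ i ≤ n, are flat over A. (The f_i are not required to lie in the maximal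
ideal of B.) -/
theorem result (A B : Type u) [CommRing A] [CommRing B]
    [IsLocalRing A] [IsLocalRing B] [IsNoetherianRing A] [IsNoetherianRing B] [Algebra A B]
    [IsLocalHom (algebraMap A B)] (M : Type u) [AddCommGroup M] [Module B M] [Module A M]
    [IsScalarTower A B M] [Module.Finite B M] [Module.Flat A M] (fs : List B)
    (hreg : RingTheory.Sequence.IsWeaklyRegular
      (M ⧸ ((IsLocalRing.maximalIdeal A).map (algebraMap A B) • (⊤ : Submodule B M))) fs) :
    RingTheory.Sequence.IsWeaklyRegular M fs ∧
      ∀ i ≤ fs.length, Module.Flat A (M ⧸ (Ideal.ofList (fs.take i) • (⊤ : Submodule B M))) := by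
  have key : ∀ (fs : List B) (M : Type u) [AddCommGroup M] [Module B M] [Module A M]
      [IsScalarTower A B M] [Module.Finite B M] [Module.Flat A M],
      RingTheory.Sequence.IsWeaklyRegular
        (M ⧸ ((IsLocalRing.maximalIdeal A).map (algebraMap A B) • (⊤ : Submodule B M))) fs →
      RingTheory.Sequence.IsWeaklyRegular M fs ∧
        ∀ i ≤ fs.length, Module.Flat A (M ⧸ (Ideal.ofList (fs.take i) • (⊤ : Submodule B M))) := by
    intro fs
    induction fs with
    | nil =>
      intro M _ _ _ _ _ hflat _
      refine ⟨RingTheory.Sequence.IsWeaklyRegular.nil B M, ?_⟩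
      intro i _
      rw [List.take_nil]
      exact Groth.Agent.Lib.Helper5.flat_of_linearEquiv_tower (Submodule.quotEquivOfEqBot _
        (by rw [Ideal.ofList_nil, Submodule.bot_smul])).symm hflat
    | cons f fs' ih =>
      intro M _ _ _ _ _ hflat hreg
      obtain ⟨hfreg, hreg'⟩ := (RingTheory.Sequence.isWeaklyRegular_cons_iff _ f fs').mp hreg
      have hfM : IsSMulRegular M f :=
        Groth.Agent.Lib.Helper28.isSMulRegular_of_isSMulRegular_quotient (R := A) f hfreg
      have hflat' : Module.Flat A (QuotSMulTop f M) :=
        Groth.Agent.Lib.Helper28.flat_quotSMulTop_of_isSMulRegular_quotient (R := A) f hfreg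
      have hreg'' : RingTheory.Sequence.IsWeaklyRegular
          (QuotSMulTop f M ⧸ ((IsLocalRing.maximalIdeal A).map (algebraMap A B) •
            (⊤ : Submodule B (QuotSMulTop f M)))) fs' :=
        ((Groth.Agent.Lib.Helper28.quotSMulTopQuotEquiv f
          ((IsLocalRing.maximalIdeal A).map (algebraMap A B))).isWeaklyRegular_congr fs').mpr hreg'
      obtain ⟨ih1, ih2⟩ := ih (QuotSMulTop f M) hreg''
      refine ⟨(RingTheory.Sequence.isWeaklyRegular_cons_iff M f fs').mpr ⟨hfM, ih1⟩, ?_⟩
      intro i hi
      cases i with
      | zero =>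
        rw [List.take_zero]
        exact Groth.Agent.Lib.Helper5.flat_of_linearEquiv_tower (Submodule.quotEquivOfEqBot _
          (by rw [Ideal.ofList_nil, Submodule.bot_smul])).symm hflat
      | succ i' =>
        rw [List.take_succ_cons]
        have hi' : i' ≤ fs'.length := by
          rw [List.length_cons] at hi
          omega
        exact Groth.Agent.Lib.Helper5.flat_of_linearEquiv_tower
          (Submodule.quotOfListConsSMulTopEquivQuotSMulTopInner M f (fs'.take i')).symm (ih2 i' hi')
  exact key fs M hreg

end Groth.Agent.S5774
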