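import Groth.Statements.S5775
import Mathlib
import Groth.Agent.S5774
import Groth.Agent.Lib.Helper5LocalFlat2

set_option autoImplicit false
universe u
open EGA41

namespace Groth.Agent.S5775

/-- Let A → B be a local homomorphism of Noetherian local rings, m the maximal ideal of A, M a finitely
generated B-module flat over A and R a B-submodule of M such that M/R is flat over A. Let f_1, ...,
f_n be elements of the maximal ideal of B such that (i) f_i M ⊆ R for all i, (ii) the images of the
f_i form an (M/mM)-regular sequence, and (iii) the submodule f_1 (M/mM) + ... + f_n (M/mM) is the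
image of R in M/mM. Then (f_i) is an M-regular sequence and R = f_1 M + ... + f_n M. -/
theorem result (A B : Type u) [CommRing A] [CommRing B] [IsLocalRing A]
    [IsLocalRing B] [IsNoetherianRing A] [IsNoetherianRing B] [Algebra A B] [IsLocalHom (algebraMap A B)]
    (M : Type u) [AddCommGroup M] [Module B M] [Module A M] [IsScalarTower A B M] [Module.Finite B M]
    [Module.Flat A M] (R : Submodule B M) (hR : Module.Flat A (M ⧸ R)) (fs : List B)
    (hfs : ∀ f ∈ fs, f ∈ IsLocalRing.maximalIdeal B) (h1 : Ideal.ofList fs • (⊤ : Submodule B M) ≤ R)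
    (h2 : RingTheory.Sequence.IsWeaklyRegular
      (M ⧸ ((IsLocalRing.maximalIdeal A).map (algebraMap A B) • (⊤ : Submodule B M))) fs)
    (h3 : Ideal.ofList fs • (⊤ : Submodule B
        (M ⧸ ((IsLocalRing.maximalIdeal A).map (algebraMap A B) • (⊤ : Submodule B M)))) =
      R.map ((IsLocalRing.maximalIdeal A).map (algebraMap A B) • (⊤ : Submodule B M)).mkQ) :
    RingTheory.Sequence.IsWeaklyRegular M fs ∧ R = Ideal.ofList fs • (⊤ : Submodule B M) := by
  have h5774 := Groth.Agent.S5774.result A B M fs h2
  refine ⟨h5774.1, le_antisymm ?_ h1⟩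
  have hNoeth : IsNoetherian B M := isNoetherian_of_isNoetherianRing_of_finite B M
  have hRfg : R.FG := IsNoetherian.noetherian R
  apply Submodule.le_of_le_smul_of_le_jacobson_bot hRfg (I := IsLocalRing.maximalIdeal B)
    (IsLocalRing.maximalIdeal_le_jacobson ⊥)
  intro r hr
  obtain ⟨mM, hmM⟩ : ∃ mM : Submodule B M,
    mM = (IsLocalRing.maximalIdeal A).map (algebraMap A B) • (⊤ : Submodule B M) := ⟨_, rfl⟩
  rw [← hmM] at h3
  have hmem : mM.mkQ r ∈ R.map mM.mkQ := ⟨r, hr, rfl⟩
  rw [← h3] at hmem
  have hmap : (Ideal.ofList fs • ⊤ : Submodule B (M ⧸ mM)) =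
      (Ideal.ofList fs • (⊤ : Submodule B M)).map mM.mkQ := by
    rw [Submodule.map_smul'', Submodule.map_top, Submodule.range_mkQ]
  rw [hmap] at hmem
  obtain ⟨n, hn, hnr⟩ := hmem
  have hd : r - n ∈ mM := by
    rw [← Submodule.Quotient.mk_eq_zero, Submodule.Quotient.mk_sub, sub_eq_zero]
    exact hnr.symm
  have hdR : r - n ∈ R := R.sub_mem hr (h1 hn)
  -- flatness of `M ⧸ R`
  have hinj : Function.Injective
      (((R.subtype).restrictScalars A).lTensor (A ⧸ IsLocalRing.maximalIdeal A)) :=
    LinearMap.lTensor_injective_of_exact_of_flat ((R.mkQ).restrictScalars A)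
      (Submodule.mkQ_surjective R) ((R.subtype).restrictScalars A) (Submodule.injective_subtype R)
      (LinearMap.exact_subtype_mkQ R) _
  rw [Groth.Agent.Lib.Helper5.lTensor_quotient_injective_iff] at hinj
  have hdA : r - n ∈ (IsLocalRing.maximalIdeal A • ⊤ : Submodule A M) := by
    have h := Submodule.restrictScalars_map_smul_eq (IsLocalRing.maximalIdeal A)
      (⊤ : Submodule B M)
    rw [Submodule.restrictScalars_top] at h
    rw [← h, Submodule.restrictScalars_mem, ← hmM]
    exact hd
  have hkey := hinj ⟨r - n, hdR⟩ hdA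
  have hfinal : r - n ∈ IsLocalRing.maximalIdeal B • R := by
    have hle : (IsLocalRing.maximalIdeal A).map (algebraMap A B) ≤ IsLocalRing.maximalIdeal B :=
      IsLocalRing.map_maximalIdeal_le (algebraMap A B)
    refine Submodule.smul_mono_left hle ?_
    have h := Submodule.restrictScalars_map_smul_eq (IsLocalRing.maximalIdeal A) R
    have h' : r - n ∈ (IsLocalRing.maximalIdeal A • R.restrictScalars A : Submodule A M) := by
      have hm : ((R.subtype).restrictScalars A) ⟨r - n, hdR⟩ ∈
          (IsLocalRing.maximalIdeal A • (⊤ : Submodule A R)).map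
            ((R.subtype).restrictScalars A) := ⟨_, hkey, rfl⟩
      rw [Submodule.map_smul'', Submodule.map_top] at hm
      have hrange : LinearMap.range ((R.subtype).restrictScalars A) = R.restrictScalars A := by
        ext x
        simp
      rw [hrange] at hm
      exact hm
    rw [← h, Submodule.restrictScalars_mem] at h'
    exact h'
  rw [Submodule.mem_sup]
  exact ⟨n, hn, r - n, hfinal, by abel⟩

end Groth.Agent.S5775
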