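import Groth.Statements.S5778
import Mathlib
import Groth.Agent.Lib.Helper5HilbertRLR

set_option autoImplicit false
universe u
open EGA41

namespace Groth.Agent.S5778

/-- Let A be a Noetherian local ring with maximal ideal m, residue field k, and let r be the dimension
of the k-vector space m/m². Then A is regular if and only if the canonical surjection of graded
k-algebras from the symmetric algebra of m/m² onto the associated graded ring of A for the m-adic
filtration is bijective. Since that surjection is bijective exactly when source and target have the
same length in every degree, the condition is expressed here as: length_A(A/m^(s+1)) equals the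
binomial coefficient C(s+r, r) for every s ≥ 0. -/
theorem result (A : Type u) [CommRing A] [IsLocalRing A]
    [IsNoetherianRing A] :
    IsRegularLocalRing A ↔
      ∀ s : ℕ, Module.length A (A ⧸ IsLocalRing.maximalIdeal A ^ (s + 1)) =
        ((s + Module.finrank (IsLocalRing.ResidueField A) (IsLocalRing.CotangentSpace A)).choose s : ℕ∞) := by
  have hfr : Module.finrank (IsLocalRing.ResidueField A) (IsLocalRing.CotangentSpace A) =
      (IsLocalRing.maximalIdeal A).spanFinrank :=
    (IsLocalRing.spanFinrank_maximalIdeal_eq_finrank_cotangentSpace (R := A)).symm
  constructor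
  · intro hreg s
    obtain ⟨d, hd⟩ := Groth.Agent.Lib.Helper5.exists_nat_ringKrullDim_eq A
    have hsf : ((IsLocalRing.maximalIdeal A).spanFinrank : WithBot ℕ∞) = ringKrullDim A :=
      IsRegularLocalRing.spanFinrank_maximalIdeal
    rw [hd] at hsf
    have hsf' : (IsLocalRing.maximalIdeal A).spanFinrank = d := by exact_mod_cast hsf
    rw [hfr, hsf',
      Groth.Agent.Lib.Helper5.HilbertRLR.length_quotient_pow_of_isRegularLocalRing d A hd (s + 1)
        (by omega)]
    have e : s + 1 + d - 1 = s + d := by omega
    rw [e, Nat.choose_symm_add]
  · intro h
    obtain ⟨-, hreg⟩ := Groth.Agent.Lib.Helper5.HilbertRLR.hilbert_bound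
      (IsLocalRing.maximalIdeal A).spanFinrank A rfl
    apply hreg
    intro i hi
    obtain ⟨s, rfl⟩ : ∃ s, i = s + 1 := ⟨i - 1, by omega⟩
    rw [h s, hfr]
    have e : s + 1 + (IsLocalRing.maximalIdeal A).spanFinrank - 1 =
        s + (IsLocalRing.maximalIdeal A).spanFinrank := by omega
    rw [e, Nat.choose_symm_add]

end Groth.Agent.S5778
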