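import Groth.Statements.S5780
import Mathlib

set_option autoImplicit false
universe u
open EGA41

namespace Groth.Agent.S5780

/-- Let A be a Noetherian local ring with maximal ideal m. If every element of m which is not in m² is a
zero divisor in A, then there is a nonzero c in A with c m = 0, i.e. m is an associated prime of A. -/
theorem result (A : Type u) [CommRing A]
    [IsLocalRing A] [IsNoetherianRing A]
    (h : ∀ a ∈ IsLocalRing.maximalIdeal A, a ∉ IsLocalRing.maximalIdeal A ^ 2 → ¬ IsSMulRegular A a) :
    IsLocalRing.maximalIdeal A ∈ associatedPrimes A A := by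
  classical
  set m := IsLocalRing.maximalIdeal A with hm
  have hfin : (associatedPrimes A A).Finite := associatedPrimes.finite A A
  have hne : (associatedPrimes A A).Nonempty := associatedPrimes.nonempty A A
  have hcover : (m : Set A) ⊆ ((m ^ 2 : Ideal A) : Set A) ∪ ((m ^ 2 : Ideal A) : Set A) ∪
      ⋃ p ∈ ((hfin.toFinset : Finset (Ideal A)) : Set (Ideal A)), ((id p : Ideal A) : Set A) := by
    intro x hx
    by_cases hx2 : x ∈ m ^ 2
    · exact Or.inl (Or.inl hx2)
    · right
      have hnr := h x hx hx2
      have hzd : x ∈ { r : A | ∃ y : A, y ≠ 0 ∧ r • y = 0 } := by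
        unfold IsSMulRegular at hnr
        rw [Function.Injective] at hnr
        push Not at hnr
        obtain ⟨a, b, hab, hne⟩ := hnr
        refine ⟨a - b, sub_ne_zero.mpr hne, ?_⟩
        rw [smul_sub, hab, sub_self]
      rw [← biUnion_associatedPrimes_eq_zero_divisors A A] at hzd
      simpa using hzd
  have hprime : ∀ p ∈ hfin.toFinset, (id p : Ideal A).IsPrime := by
    intro p hp
    rw [Set.Finite.mem_toFinset] at hp
    exact (AssociatedPrimes.mem_iff.mp hp).isPrime
  rcases (Ideal.subset_union_prime' (f := id) hprime).mp hcover with h1 | h1 | ⟨p, hp, hle⟩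
  · -- m ≤ m^2 : Nakayama
    have hbot : m = ⊥ := by
      have hfg : m.FG := IsNoetherian.noetherian m
      have hle : m ≤ m • m := by rw [smul_eq_mul, ← pow_two]; exact h1
      have := Submodule.eq_bot_of_le_smul_of_le_jacobson_bot m m hfg hle
        (IsLocalRing.maximalIdeal_le_jacobson ⊥)
      exact this
    obtain ⟨p, hp⟩ := hne
    have hpp : p.IsPrime := (AssociatedPrimes.mem_iff.mp hp).isPrime
    have : p = m := by
      rw [hbot]
      exact le_bot_iff.mp (hbot ▸ IsLocalRing.le_maximalIdeal hpp.ne_top)
    rw [← this]; exact hp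
  · have hbot : m = ⊥ := by
      have hfg : m.FG := IsNoetherian.noetherian m
      have hle : m ≤ m • m := by rw [smul_eq_mul, ← pow_two]; exact h1
      have := Submodule.eq_bot_of_le_smul_of_le_jacobson_bot m m hfg hle
        (IsLocalRing.maximalIdeal_le_jacobson ⊥)
      exact this
    obtain ⟨p, hp⟩ := hne
    have hpp : p.IsPrime := (AssociatedPrimes.mem_iff.mp hp).isPrime
    have : p = m := by
      rw [hbot]
      exact le_bot_iff.mp (hbot ▸ IsLocalRing.le_maximalIdeal hpp.ne_top)
    rw [← this]; exact hp
  · rw [Set.Finite.mem_toFinset] at hp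
    have hpp : p.IsPrime := (AssociatedPrimes.mem_iff.mp hp).isPrime
    have : p = m := le_antisymm (IsLocalRing.le_maximalIdeal hpp.ne_top) hle
    rw [← this]; exact hp


end Groth.Agent.S5780
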