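import Groth.Statements.S5781
import Mathlib

set_option autoImplicit false
universe u
open EGA41

namespace Groth.Agent.S5781

open scoped Pointwise

/-- Suppose A is a Noetherian local ring whose maximal ideal is m, and take a ∈ m with a ∉ m². Then the
quotient m/am contains a direct summand isomorphic to m/Aa: concretely, one can find A-linear maps f
: m/Aa → m/am and g : m/am → m/Aa such that g ∘ f is the identity. -/
theorem result (A : Type u) [CommRing A] [IsLocalRing A]
    [IsNoetherianRing A] (a : A) (ha : a ∈ IsLocalRing.maximalIdeal A) (ha2 : a ∉ IsLocalRing.maximalIdeal A ^ 2) :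
    ∃ (f : (↥(IsLocalRing.maximalIdeal A) ⧸ Submodule.span A {(⟨a, ha⟩ : ↥(IsLocalRing.maximalIdeal A))}) →ₗ[A]
          QuotSMulTop a ↥(IsLocalRing.maximalIdeal A))
      (g : QuotSMulTop a ↥(IsLocalRing.maximalIdeal A) →ₗ[A]
          (↥(IsLocalRing.maximalIdeal A) ⧸ Submodule.span A {(⟨a, ha⟩ : ↥(IsLocalRing.maximalIdeal A))})),
      g.comp f = LinearMap.id := by
  classical
  set m := IsLocalRing.maximalIdeal A with hm
  set a' : ↥m := ⟨a, ha⟩ with ha'
  -- the functional
  have hne : m.toCotangent a' ≠ 0 := by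
    intro h
    rw [Ideal.toCotangent_eq_zero] at h
    exact ha2 h
  obtain ⟨φ, hφ⟩ := Module.Projective.exists_dual_eq_one (IsLocalRing.ResidueField A)
    (V := IsLocalRing.CotangentSpace A) hne
  let ρ : ↥m →ₗ[A] IsLocalRing.ResidueField A := (φ.restrictScalars A).comp m.toCotangent
  have hρa : ρ a' = 1 := hφ
  set Q1 := ↥m ⧸ Submodule.span A {a'} with hQ1
  set Q2 := QuotSMulTop a ↥m with hQ2
  let mk1 : ↥m →ₗ[A] Q1 := (Submodule.span A {a'}).mkQ
  let mk2 : ↥m →ₗ[A] Q2 := (a • (⊤ : Submodule A ↥m)).mkQ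
  have hmk1a : mk1 a' = 0 := by
    show (Submodule.span A {a'}).mkQ a' = 0
    rw [Submodule.mkQ_apply, Submodule.Quotient.mk_eq_zero]
    exact Submodule.subset_span rfl
  -- ι : k → Q2
  have hle : m ≤ LinearMap.ker (LinearMap.toSpanSingleton A Q2 (mk2 a')) := by
    intro c hc
    rw [LinearMap.mem_ker, LinearMap.toSpanSingleton_apply, ← map_smul]
    show (a • (⊤ : Submodule A ↥m)).mkQ (c • a') = 0
    rw [Submodule.mkQ_apply, Submodule.Quotient.mk_eq_zero]
    have : c • a' = a • (⟨c, hc⟩ : ↥m) := by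
      apply Subtype.ext
      show c * a = a * c
      exact mul_comm _ _
    rw [this]
    exact Submodule.smul_mem_pointwise_smul _ _ _ Submodule.mem_top
  let ι : IsLocalRing.ResidueField A →ₗ[A] Q2 :=
    Submodule.liftQ m (LinearMap.toSpanSingleton A Q2 (mk2 a')) hle
  have hι1 : ι 1 = mk2 a' := by
    show Submodule.liftQ m (LinearMap.toSpanSingleton A Q2 (mk2 a')) hle
      (Submodule.Quotient.mk (1 : A)) = _
    rw [Submodule.liftQ_apply, LinearMap.toSpanSingleton_apply, one_smul]
  let f0 : ↥m →ₗ[A] Q2 := mk2 - ι.comp ρ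
  have hf0 : Submodule.span A {a'} ≤ LinearMap.ker f0 := by
    rw [Submodule.span_le]
    intro x hx
    rw [Set.mem_singleton_iff] at hx
    subst hx
    show f0 a' = 0
    show mk2 a' - ι (ρ a') = 0
    rw [hρa, hι1, sub_self]
  have hg0 : a • (⊤ : Submodule A ↥m) ≤ LinearMap.ker mk1 := by
    intro x hx
    obtain ⟨y, -, rfl⟩ := hx
    rw [LinearMap.mem_ker]
    have : (DistribSMul.toLinearMap A ↥m a) y = (y : A) • a' := by
      apply Subtype.ext
      show a * (y : A) = (y : A) * a
      exact mul_comm _ _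
    rw [this, map_smul, hmk1a, smul_zero]
  let f : Q1 →ₗ[A] Q2 := Submodule.liftQ _ f0 hf0
  let g : Q2 →ₗ[A] Q1 := Submodule.liftQ _ mk1 hg0
  have hgι : ∀ c : IsLocalRing.ResidueField A, g (ι c) = 0 := by
    intro c
    obtain ⟨c, rfl⟩ := Ideal.Quotient.mk_surjective c
    show g (Submodule.liftQ m (LinearMap.toSpanSingleton A Q2 (mk2 a')) hle
      (Submodule.Quotient.mk c)) = 0
    rw [Submodule.liftQ_apply, LinearMap.toSpanSingleton_apply, map_smul]
    have : g (mk2 a') = mk1 a' := by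
      show Submodule.liftQ _ mk1 hg0 (Submodule.Quotient.mk a') = _
      rw [Submodule.liftQ_apply]
    rw [this, hmk1a, smul_zero]
  refine ⟨f, g, ?_⟩
  apply LinearMap.ext
  intro x
  obtain ⟨x, rfl⟩ := Submodule.Quotient.mk_surjective _ x
  show g (f (Submodule.Quotient.mk x)) = Submodule.Quotient.mk x
  have h1 : f (Submodule.Quotient.mk x) = mk2 x - ι (ρ x) := by
    show Submodule.liftQ _ f0 hf0 (Submodule.Quotient.mk x) = _
    rw [Submodule.liftQ_apply]
    rfl
  rw [h1, map_sub, hgι, sub_zero]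
  show Submodule.liftQ _ mk1 hg0 (Submodule.Quotient.mk x) = _
  rw [Submodule.liftQ_apply]
  rfl

end Groth.Agent.S5781
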