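import Groth.Statements.S5785
import Mathlib
import Groth.Agent.Lib.Helper28RegPow
import Groth.Agent.Lib.Helper19ComplNoeth
-- import your own Groth.Agent.* helpers here

set_option autoImplicit false
universe u
open EGA41

namespace Groth.Agent.S5785
open Groth.Agent.Lib.Helper28

/-- Let A be a regular ring and J an ideal of A. Then the separated completion of A for the J-adic
topology is a regular ring. -/
theorem result (A : Type u) [CommRing A] [IsRegularRing A] (J : Ideal A) :
    IsRegularRing (AdicCompletion J A) := by
  have hA : IsNoetherianRing A := inferInstance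
  have fg : J.FG := IsNoetherian.noetherian J
  have hN : IsNoetherianRing (AdicCompletion J A) :=
    Groth.Agent.Lib.Helper19.isNoetherianRing_adicCompletion J
  have hc := AdicCompletion.isAdicComplete_self J fg
  have hjac : J.map (algebraMap A (AdicCompletion J A)) ≤
      (⊥ : Ideal (AdicCompletion J A)).jacobson := IsAdicComplete.le_jacobson_bot _
  have hex : ∀ b : AdicCompletion J A, ∃ a : A,
      b - algebraMap A (AdicCompletion J A) a ∈ J.map (algebraMap A (AdicCompletion J A)) := by
    intro b
    obtain ⟨a, ha⟩ := Ideal.Quotient.mk_surjective (AdicCompletion.evalOneₐ J b)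
    refine ⟨a, ?_⟩
    rw [← AdicCompletion.ker_evalOneₐ_eq_map J fg, RingHom.mem_ker]
    show AdicCompletion.evalOneₐ J (b - algebraMap A (AdicCompletion J A) a) = 0
    rw [map_sub, sub_eq_zero, ← ha]
    exact (AdicCompletion.evalOneₐ_of J a).symm
  apply isRegularRing_of_forall_isMaximal
  intro Mh hMh
  have hJM : J.map (algebraMap A (AdicCompletion J A)) ≤ Mh :=
    hjac.trans (sInf_le ⟨bot_le, hMh⟩)
  have hJleM : J ≤ Mh.comap (algebraMap A (AdicCompletion J A)) := Ideal.map_le_iff_le_comap.mp hJM
  have hMmax : (Mh.comap (algebraMap A (AdicCompletion J A))).IsMaximal := by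
    rw [Ideal.isMaximal_iff]
    refine ⟨fun h1 => hMh.ne_top ((Ideal.eq_top_iff_one _).2 (by simpa using h1)), ?_⟩
    intro K a hK haM haK
    have hnot : algebraMap A (AdicCompletion J A) a ∉ Mh := haM
    obtain ⟨b, j, hj, hbj⟩ := hMh.exists_inv hnot
    obtain ⟨c, hc⟩ := hex b
    have hmem : algebraMap A (AdicCompletion J A) (1 - c * a) ∈ Mh := by
      have h3 : algebraMap A (AdicCompletion J A) (1 - c * a) =
          j + (b - algebraMap A (AdicCompletion J A) c) * algebraMap A (AdicCompletion J A) a := by
        rw [map_sub, map_one, map_mul, ← hbj]; ring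
      rw [h3]
      exact Ideal.add_mem _ hj (Ideal.mul_mem_right _ _ (hJM hc))
    have h4 : 1 - c * a ∈ K := hK hmem
    have h5 := K.add_mem h4 (K.mul_mem_left c haK)
    rwa [sub_add_cancel] at h5
  have hmax := AdicCompletion.isMaximal_map_of_le J _ hJleM fg
  have hmapeq : (Mh.comap (algebraMap A (AdicCompletion J A))).map
      (algebraMap A (AdicCompletion J A)) = Mh :=
    hmax.eq_of_le hMh.ne_top Ideal.map_comap_le
  obtain ⟨alg, hloc, hflat, hmap⟩ :=
    exists_algebra_localization_flat (A := A) (B := AdicCompletion J A) Mh
  have hreg : IsRegularLocalRing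
      (Localization.AtPrime (Mh.comap (algebraMap A (AdicCompletion J A)))) :=
    (isRegularRing_iff (R := A)).mp inferInstance _
  have hfib : IsRegularLocalRing (Localization.AtPrime Mh ⧸
      (IsLocalRing.maximalIdeal (Localization.AtPrime
        (Mh.comap (algebraMap A (AdicCompletion J A))))).map
        (algebraMap (Localization.AtPrime (Mh.comap (algebraMap A (AdicCompletion J A))))
          (Localization.AtPrime Mh))) := by
    apply isRegularLocalRing_quotient_of_eq_maximalIdeal
    rw [← hmap, IsScalarTower.algebraMap_eq A (AdicCompletion J A) (Localization.AtPrime Mh),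
      ← Ideal.map_map, hmapeq, Localization.AtPrime.map_eq_maximalIdeal]
  exact isRegularLocalRing_of_flat_of_isRegularLocalRing_fibre
    (R := Localization.AtPrime (Mh.comap (algebraMap A (AdicCompletion J A)))) _ rfl

end Groth.Agent.S5785
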