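import Groth.Statements.S5787
import Mathlib
import Groth.Agent.S5150

set_option autoImplicit false
universe u
open CategoryTheory
open EGA41

namespace Groth.Agent.S5787

open CategoryTheory Abelian RingTheory.Sequence Pointwise

theorem main (A : Type u) [CommRing A] [IsLocalRing A] :
    ∀ (xs : List A) (M : Type u) [AddCommGroup M] [Module A M],
      (∀ x ∈ xs, x ∈ IsLocalRing.maximalIdeal A) → IsWeaklyRegular M xs →
      Nonempty ((IsLocalRing.ResidueField A →ₗ[A] (M ⧸ (Ideal.ofList xs • (⊤ : Submodule A M)))) ≃+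
        Ext (ModuleCat.of A (IsLocalRing.ResidueField A)) (ModuleCat.of A M) xs.length)
  | [], M, _, _, _, _ => by
    have h0 : (Ideal.ofList ([] : List A) • (⊤ : Submodule A M)) = ⊥ := by
      rw [Ideal.ofList_nil, Submodule.bot_smul]
    have e1 : (IsLocalRing.ResidueField A →ₗ[A] (M ⧸ (Ideal.ofList ([] : List A) •
        (⊤ : Submodule A M)))) ≃ₗ[A] (IsLocalRing.ResidueField A →ₗ[A] M) :=
      LinearEquiv.congrRight (Submodule.quotEquivOfEqBot _ h0)
    have e2 : (IsLocalRing.ResidueField A →ₗ[A] M) ≃+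
        (ModuleCat.of A (IsLocalRing.ResidueField A) ⟶ ModuleCat.of A M) :=
      (ModuleCat.homLinearEquiv (S := A) (M := ModuleCat.of A (IsLocalRing.ResidueField A))
        (N := ModuleCat.of A M)).symm.toAddEquiv
    exact ⟨e1.toAddEquiv.trans (e2.trans Ext.addEquiv₀.symm)⟩
  | x :: xs, M, _, _, hm, hreg => by
    have hreg' := hreg
    rw [isWeaklyRegular_cons_iff] at hreg'
    obtain ⟨hf, hrs⟩ := hreg'
    obtain ⟨e0⟩ := main A xs (QuotSMulTop x M) (fun r hr => hm r (by simp [hr])) hrs
    have hex : Function.Exact (x • 𝟙 (ModuleCat.of A M) : ModuleCat.of A M ⟶ ModuleCat.of A M).hom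
        (ModuleCat.ofHom (Submodule.mkQ (x • (⊤ : Submodule A M)))).hom := by
      intro y
      show Submodule.mkQ (x • (⊤ : Submodule A M)) y = 0 ↔ _
      rw [Submodule.mkQ_apply, Submodule.Quotient.mk_eq_zero,
        Submodule.mem_smul_pointwise_iff_exists]
      constructor
      · rintro ⟨z, -, rfl⟩; exact ⟨z, rfl⟩
      · rintro ⟨z, rfl⟩; exact ⟨z, trivial, rfl⟩
    let S : ShortComplex (ModuleCat.{u} A) := ShortComplex.mk (x • 𝟙 (ModuleCat.of A M))
      (ModuleCat.ofHom (Submodule.mkQ (x • (⊤ : Submodule A M)))) (by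
        ext y
        exact hex.apply_apply_eq_zero y)
    have hS : S.ShortExact := ModuleCat.shortComplex_shortExact S hex hf
      (Submodule.mkQ_surjective _)
    have hxk : x • 𝟙 (ModuleCat.of A (IsLocalRing.ResidueField A)) = 0 := by
      ext c
      show x • c = 0
      obtain ⟨c, rfl⟩ := IsLocalRing.residue_surjective c
      rw [Algebra.smul_def]
      show IsLocalRing.residue A x * _ = 0
      rw [(IsLocalRing.residue_eq_zero_iff x).mpr (hm x (by simp)), zero_mul]
    have hN : (IsLocalRing.maximalIdeal A ^ 1) •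
        (⊤ : Submodule A (IsLocalRing.ResidueField A)) = ⊥ := by
      rw [pow_one, eq_bot_iff]
      refine Submodule.smul_le.mpr fun a ha c _ => ?_
      rw [Submodule.mem_bot]
      obtain ⟨c, rfl⟩ := IsLocalRing.residue_surjective c
      rw [Algebra.smul_def]
      show IsLocalRing.residue A a * _ = 0
      rw [(IsLocalRing.residue_eq_zero_iff a).mpr ha, zero_mul]
    have hvan : Subsingleton (Ext (ModuleCat.of A (IsLocalRing.ResidueField A))
        (ModuleCat.of A M) xs.length) :=
      Groth.Agent.S5150.main (IsLocalRing.maximalIdeal A) (IsLocalRing.ResidueField A) 1 hN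
        (x :: xs) M hreg hm xs.length (by simp)
    let δ : Ext (ModuleCat.of A (IsLocalRing.ResidueField A)) S.X₃ xs.length →+
        Ext (ModuleCat.of A (IsLocalRing.ResidueField A)) (ModuleCat.of A M) (x :: xs).length :=
      { toFun := fun z => z.comp hS.extClass rfl
        map_zero' := by rw [Ext.zero_comp]
        map_add' := fun a b => Ext.add_comp _ _ _ _ }
    have hδinj : Function.Injective δ := by
      rw [injective_iff_map_eq_zero]
      intro z hz
      obtain ⟨x₂, hx₂⟩ := Ext.covariant_sequence_exact₃ _ hS z rfl hz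
      rw [← hx₂, Subsingleton.elim x₂ 0, Ext.zero_comp]
    have hδsurj : Function.Surjective δ := by
      intro z
      have h1 : z.comp (Ext.mk₀ S.f) (add_zero _) = 0 := by
        show z.comp (Ext.mk₀ (x • 𝟙 _)) _ = 0
        rw [Ext.mk₀_smul, Ext.comp_smul, Ext.comp_mk₀_id, ← Ext.mk₀_id_comp z, ← Ext.smul_comp,
          ← Ext.mk₀_smul, hxk, Ext.mk₀_zero, Ext.zero_comp]
      obtain ⟨x₃, hx₃⟩ := Ext.covariant_sequence_exact₁ _ hS z h1 rfl
      exact ⟨x₃, hx₃⟩
    have e1 : Ext (ModuleCat.of A (IsLocalRing.ResidueField A)) S.X₃ xs.length ≃+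
        Ext (ModuleCat.of A (IsLocalRing.ResidueField A)) (ModuleCat.of A M) (x :: xs).length :=
      AddEquiv.ofBijective δ ⟨hδinj, hδsurj⟩
    have e2 : (IsLocalRing.ResidueField A →ₗ[A] (M ⧸ (Ideal.ofList (x :: xs) •
        (⊤ : Submodule A M)))) ≃ₗ[A] (IsLocalRing.ResidueField A →ₗ[A]
          (QuotSMulTop x M ⧸ (Ideal.ofList xs • (⊤ : Submodule A (QuotSMulTop x M))))) :=
      LinearEquiv.congrRight (Submodule.quotOfListConsSMulTopEquivQuotSMulTopInner M x xs)
    exact ⟨e2.toAddEquiv.trans (e0.trans e1)⟩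

/-- Let A be a Noetherian local ring with maximal ideal m and residue field k, M an A-module and
(x_i)_{1 ≤ i ≤ n} an M-regular sequence of elements of m. Then Hom_A(k, M/(x_1 M + ... + x_n M)) and
Ext^n_A(k, M) are isomorphic (existence of an isomorphism; stated for the underlying abelian
groups). -/
theorem result (A : Type u) [CommRing A] [IsLocalRing A]
    [IsNoetherianRing A] (M : Type u) [AddCommGroup M] [Module A M] (xs : List A)
    (hxs : ∀ x ∈ xs, x ∈ IsLocalRing.maximalIdeal A) (hreg : RingTheory.Sequence.IsWeaklyRegular M xs) :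
    Nonempty ((IsLocalRing.ResidueField A →ₗ[A] (M ⧸ (Ideal.ofList xs • (⊤ : Submodule A M)))) ≃+
      Abelian.Ext (ModuleCat.of A (IsLocalRing.ResidueField A)) (ModuleCat.of A M) xs.length) := by
  exact main A xs M hxs hreg

end Groth.Agent.S5787
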