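import Groth.Statements.S5790
import Mathlib.RingTheory.LocalProperties.InjectiveDimension
import Mathlib.Algebra.Category.ModuleCat.InjectiveDimension

set_option autoImplicit false
universe u
open CategoryTheory
open EGA41

namespace Groth.Agent.S5790

/-- Suppose A is a Noetherian ring and consider any A-module M. Taking the supremum, over all prime
ideals p, of the injective dimension of M_p as an A_p-module yields the injective dimension of M;
put differently, for each n, the injective dimension of M is at most n exactly when, for every prime
p, the injective dimension of M_p over A_p is at most n. -/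
theorem result (A : Type u) [CommRing A] [IsNoetherianRing A]
    (M : Type u) [AddCommGroup M] [Module A M] (n : ℕ) :
    HasInjectiveDimensionLT (ModuleCat.of A M) (n + 1) ↔
      ∀ p : PrimeSpectrum A, HasInjectiveDimensionLT
        (ModuleCat.of (Localization.AtPrime p.asIdeal) (LocalizedModule p.asIdeal.primeCompl M)) (n + 1) := by
  have key : ∀ p : PrimeSpectrum A,
      HasInjectiveDimensionLT ((ModuleCat.of A M).localizedModule p.asIdeal.primeCompl) (n + 1) ↔
      HasInjectiveDimensionLT (ModuleCat.of (Localization.AtPrime p.asIdeal)
        (LocalizedModule p.asIdeal.primeCompl M)) (n + 1) := by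
    intro p
    exact ModuleCat.hasInjectiveDimensionLE_iff_of_linearEquiv
      (M := (ModuleCat.of A M).localizedModule p.asIdeal.primeCompl)
      (N := ModuleCat.of (Localization.AtPrime p.asIdeal)
        (LocalizedModule p.asIdeal.primeCompl M))
      (Shrink.linearEquiv (Localization.AtPrime p.asIdeal)
        (LocalizedModule p.asIdeal.primeCompl M)) n
  show HasInjectiveDimensionLE (ModuleCat.of A M) n ↔ _
  rw [ModuleCat.hasInjectiveDimensionLE_iff_forall_primeSpectrum]
  exact forall_congr' key

end Groth.Agent.S5790
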