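import Groth.Statements.S5791
import Mathlib
import Groth.Agent.Lib.Helper21PdLoc
-- import your own Groth.Agent.* helpers here

set_option autoImplicit false
universe u
open CategoryTheory
open EGA41

namespace Groth.Agent.S5791
open CategoryTheory TensorProduct

/-- Let A be a Noetherian ring and M a finitely generated A-module. The projective dimension of M is the
supremum over the prime ideals p of the projective dimensions of M_p over A_p; equivalently, for
every n, M has projective dimension at most n if and only if every M_p has projective dimension at
most n over A_p. -/
theorem result (A : Type u) [CommRing A] [IsNoetherianRing A]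
    (M : Type u) [AddCommGroup M] [Module A M] [Module.Finite A M] (n : ℕ) :
    HasProjectiveDimensionLT (ModuleCat.of A M) (n + 1) ↔
      ∀ p : PrimeSpectrum A, HasProjectiveDimensionLT
        (ModuleCat.of (Localization.AtPrime p.asIdeal) (LocalizedModule p.asIdeal.primeCompl M)) (n + 1) := by
  obtain ⟨K, _, _, _, h1, h2⟩ := Groth.Agent.Lib.Helper21.PdLoc.exists_syzygy (A := A) n M
  have hfp : Module.FinitePresentation A K := Module.finitePresentation_of_finite A K
  rw [h1, ← Module.freeLocus_eq_univ_iff, Set.eq_univ_iff_forall]
  refine forall_congr' fun p => ?_
  rw [← Groth.Agent.Lib.Helper21.PdLoc.projective_atPrime_iff_mem_freeLocus]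
  exact (h2 p.asIdeal.primeCompl).symm

end Groth.Agent.S5791
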