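import Groth.Statements.S5796
import Groth.Agent.Lib.Helper7TopDim

set_option autoImplicit false
universe u
open TopDim

namespace Groth.Agent.S5796

/-- For any topological space X, the function x ↦ dim_x(X) is upper semicontinuous on X. -/
theorem result (X : Type u) [TopologicalSpace X] :
    UpperSemicontinuous fun x : X => FlatMor.localDim X x := by
  exact Groth.Agent.Lib.Helper7.TopDim.upperSemicontinuous_localDim


end Groth.Agent.S5796
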