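import Groth.Statements.S5801
-- (no helper imports)

set_option autoImplicit false
universe u
open scoped Pointwise
open EGA41

namespace Groth.Agent.S5801

/-- Let A be a ring, M an A-module and f ∈ A, and consider the canonical surjection (M/fM)[T] → gr(M)
for the (f)-adic filtration, whose injectivity says: for all k ≥ 0 and x ∈ M, f^k x ∈ f^(k+1) M
implies x ∈ fM. If f is M-regular this map is bijective; conversely, if it is bijective and M is
separated for the (f)-adic topology (the intersection of the f^k M is zero), then f is M-regular. -/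
theorem result (A : Type u) [CommRing A] (M : Type u)
    [AddCommGroup M] [Module A M] (f : A) :
    (IsSMulRegular M f →
        ∀ (k : ℕ) (x : M), f ^ k • x ∈ f ^ (k + 1) • (⊤ : Submodule A M) → x ∈ f • (⊤ : Submodule A M)) ∧
      ((⨅ k : ℕ, f ^ k • (⊤ : Submodule A M)) = ⊥ →
        (∀ (k : ℕ) (x : M), f ^ k • x ∈ f ^ (k + 1) • (⊤ : Submodule A M) → x ∈ f • (⊤ : Submodule A M)) →
          IsSMulRegular M f) := by
  constructor
  · intro hreg k x hx
    obtain ⟨y, -, hy⟩ := (Submodule.mem_smul_pointwise_iff_exists _ _ _).mp hx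
    -- hy : f^(k+1) • y = f^k • x
    have h1 : f ^ k • (f • y) = f ^ k • x := by rw [← hy, pow_succ, mul_smul]
    have h2 : f • y = x := (hreg.pow k) h1
    rw [← h2]
    exact Submodule.smul_mem_pointwise_smul y f ⊤ trivial
  · intro hsep hgr
    intro x y hxy
    have hxy' : f • (x - y) = 0 := by
      have : f • x = f • y := hxy
      rw [smul_sub, this, sub_self]
    suffices h : x - y = 0 from sub_eq_zero.mp h
    have key : ∀ k : ℕ, x - y ∈ f ^ k • (⊤ : Submodule A M) := by
      intro k
      induction k with
      | zero => rw [pow_zero, one_smul]; trivial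
      | succ k ih =>
        obtain ⟨w, -, hw⟩ := (Submodule.mem_smul_pointwise_iff_exists _ _ _).mp ih
        have hw0 : f ^ (k + 1) • w = 0 := by
          rw [pow_succ', mul_smul, hw, hxy']
        have hmem : f ^ (k + 1) • w ∈ f ^ (k + 1 + 1) • (⊤ : Submodule A M) := by
          rw [hw0]; exact Submodule.zero_mem _
        have hw1 := hgr (k + 1) w hmem
        obtain ⟨v, -, hv⟩ := (Submodule.mem_smul_pointwise_iff_exists _ _ _).mp hw1
        rw [← hw, ← hv, ← mul_smul, ← pow_succ]
        exact Submodule.smul_mem_pointwise_smul v _ ⊤ trivial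
    have hmem : x - y ∈ (⨅ k : ℕ, f ^ k • (⊤ : Submodule A M)) := by
      rw [Submodule.mem_iInf]; exact key
    rw [hsep] at hmem
    exact (Submodule.mem_bot A).mp hmem


end Groth.Agent.S5801
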