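import Groth.Statements.S5811
import Groth.Agent.Lib.Helper28TensorSk
import Groth.Agent.Lib.Helper19ComplFlatMap
-- import your own Groth.Agent.* helpers here

set_option autoImplicit false
universe u
open EGA41

namespace Groth.Agent.S5811

open TensorProduct Groth.Agent.Lib.Helper28 Groth.Agent.Lib.Helper5

section

variable {A : Type u} [CommRing A] [IsNoetherianRing A] (I : Ideal A)
  (M : Type u) [AddCommGroup M] [Module A M] [Module.Finite A M]

/-- Every maximal ideal of the `I`-adic completion is extended from its contraction. -/
theorem map_comap_eq_of_isMaximal_adicCompletion (n : Ideal (AdicCompletion I A))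
    [hn : n.IsMaximal] :
    (n.comap (algebraMap A (AdicCompletion I A))).map (algebraMap A (AdicCompletion I A)) = n := by
  have fg : I.FG := IsNoetherian.noetherian I
  have hc := AdicCompletion.isAdicComplete_self I fg
  have hIn : I.map (algebraMap A (AdicCompletion I A)) ≤ n := by
    refine (IsAdicComplete.le_jacobson_bot (I.map (algebraMap A (AdicCompletion I A)))).trans ?_
    rw [Ideal.jacobson_bot]
    exact Ring.jacobson_le_of_isMaximal n
  have hker : RingHom.ker (AdicCompletion.evalOneₐ I).toRingHom ≤ n := by
    rw [AdicCompletion.ker_evalOneₐ_eq_map I fg]; exact hIn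
  have hsurj : Function.Surjective (AdicCompletion.evalOneₐ I).toRingHom :=
    AdicCompletion.evalOneₐ_surjective I
  have hbar : (n.map (AdicCompletion.evalOneₐ I).toRingHom).IsMaximal :=
    Ideal.IsMaximal.map_of_surjective_of_ker_le hsurj hker
  have hcm : (n.map (AdicCompletion.evalOneₐ I).toRingHom).comap
      (AdicCompletion.evalOneₐ I).toRingHom = n := by
    rw [Ideal.comap_map_of_surjective' _ hsurj]
    exact sup_eq_left.mpr hker
  have hm : (n.comap (algebraMap A (AdicCompletion I A))).IsMaximal := by
    have h1 : n.comap (algebraMap A (AdicCompletion I A)) =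
        (n.map (AdicCompletion.evalOneₐ I).toRingHom).comap (Ideal.Quotient.mk I) := by
      rw [← AdicCompletion.evalOneₐ_comp_algebraMap_eq_mk, ← Ideal.comap_comap, hcm]
    rw [h1]
    exact Ideal.comap_isMaximal_of_surjective _ Ideal.Quotient.mk_surjective
  have hIm : I ≤ n.comap (algebraMap A (AdicCompletion I A)) := by
    rw [← Ideal.map_le_iff_le_comap]; exact hIn
  have hmax := AdicCompletion.isMaximal_map_of_le I
    (n.comap (algebraMap A (AdicCompletion I A))) hIm fg
  exact hmax.eq_of_le hn.ne_top Ideal.map_comap_le

/-- At a maximal ideal `n` of `Â`, the stalk of `Â ⊗ M` has the dimension of the stalk of `M` at the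
contraction of `n`. -/
theorem supportDim_localization_tensor_adicCompletion [IsNoetherianRing (AdicCompletion I A)]
    (n : Ideal (AdicCompletion I A)) [hn : n.IsMaximal]
    [Nontrivial (LocalizedModule (n.comap (algebraMap A (AdicCompletion I A))).primeCompl M)] :
    Module.supportDim (Localization.AtPrime n)
        (LocalizedModule n.primeCompl (AdicCompletion I A ⊗[A] M)) =
      Module.supportDim (Localization.AtPrime (n.comap (algebraMap A (AdicCompletion I A))))
        (LocalizedModule (n.comap (algebraMap A (AdicCompletion I A))).primeCompl M) := by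
  obtain ⟨h1, -⟩ := supportDim_depth_localization_tensor (A := A) M (AdicCompletion I A) n
  have hmin : n ∈ (Module.annihilator (AdicCompletion I A)
      (AdicCompletion I A ⧸ ((n.comap (algebraMap A (AdicCompletion I A))).map
        (algebraMap A (AdicCompletion I A)) • ⊤ :
          Submodule (AdicCompletion I A) (AdicCompletion I A)))).minimalPrimes := by
    rw [smul_eq_mul, Ideal.mul_top, Ideal.annihilator_quotient,
      map_comap_eq_of_isMaximal_adicCompletion I n, Ideal.minimalPrimes_eq_subsingleton_self]
    rfl
  obtain ⟨z1, -⟩ := fibLocMod_zero_of_mem_minimalPrimes (A := A) (AdicCompletion I A)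
    (n.comap (algebraMap A (AdicCompletion I A))) n hmin rfl
  rw [h1, z1, add_zero]

end

/-- Let A be a semi-local Noetherian ring (finitely many maximal ideals) with Jacobson radical r, M a
finitely generated A-module, and write Â and M̂ for the r-adic completions of A and M. Then
dim_Â(M̂) = dim_A(M), the dimension of a module being the Krull dimension of its support. (For M = 0
both sides are ⊥.) -/
theorem result (A : Type u) [CommRing A] [IsNoetherianRing A]
    [Finite (MaximalSpectrum A)] (M : Type u) [AddCommGroup M] [Module A M] [Module.Finite A M] :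
    Module.supportDim (AdicCompletion (Ring.jacobson A) A) (AdicCompletion (Ring.jacobson A) M) =
      Module.supportDim A M := by
  set I := Ring.jacobson A with hI
  have hN : IsNoetherianRing (AdicCompletion I A) :=
    Groth.Agent.Lib.Helper19.isNoetherianRing_adicCompletion I
  rw [← Module.supportDim_eq_of_equiv (AdicCompletion.ofTensorProductEquivOfFiniteNoetherian I M)]
  have hfinT : Module.Finite (AdicCompletion I A) (AdicCompletion I A ⊗[A] M) :=
    finite_tensorProduct_of_finite (R := A) (S := AdicCompletion I A) M
  apply le_antisymm
  · change (⨆ (l : LTSeries (Module.support (AdicCompletion I A) (AdicCompletion I A ⊗[A] M))),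
      (l.length : WithBot ℕ∞)) ≤ _
    refine iSup_le fun l => ?_
    obtain ⟨n, hnmax, hle⟩ := Ideal.exists_le_maximal l.last.1.asIdeal l.last.1.2.ne_top
    have hnp : n.IsPrime := hnmax.isPrime
    have hle' : l.last.1 ≤ (⟨n, hnp⟩ : PrimeSpectrum (AdicCompletion I A)) := hle
    have hns : (⟨n, hnp⟩ : PrimeSpectrum (AdicCompletion I A)) ∈
        Module.support (AdicCompletion I A) (AdicCompletion I A ⊗[A] M) :=
      Module.mem_support_mono hle' l.last.2
    have h1 : (l.length : ℕ∞) ≤ Order.height l.last := Order.length_le_height_last
    have h2 : Order.height l.last ≤ Order.height (⟨⟨n, hnp⟩, hns⟩ :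
        Module.support (AdicCompletion I A) (AdicCompletion I A ⊗[A] M)) :=
      Order.height_mono hle'
    have h3 := supportDim_localization_eq_height n (AdicCompletion I A ⊗[A] M) hns
    have hnt : Nontrivial (LocalizedModule
        (n.comap (algebraMap A (AdicCompletion I A))).primeCompl M) :=
      nontrivial_localization_of_nontrivial_localization_tensor M (AdicCompletion I A) n
        (Module.mem_support_iff.mp hns)
    have h4 := supportDim_localization_tensor_adicCompletion I M n
    have hms : (⟨n.comap (algebraMap A (AdicCompletion I A)), inferInstance⟩ : PrimeSpectrum A) ∈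
        Module.support A M := Module.mem_support_iff.mpr hnt
    have h5 := supportDim_localization_eq_height (n.comap (algebraMap A (AdicCompletion I A))) M hms
    have h6 : ((Order.height (⟨⟨n, hnp⟩, hns⟩ :
        Module.support (AdicCompletion I A) (AdicCompletion I A ⊗[A] M)) : ℕ∞) : WithBot ℕ∞) ≤
        Module.supportDim A M := by
      rw [← h3, h4, h5]
      unfold Module.supportDim
      exact Order.height_le_krullDim _
    exact (WithBot.coe_le_coe.mpr (h1.trans h2)).trans h6
  · change (⨆ (l : LTSeries (Module.support A M)), (l.length : WithBot ℕ∞)) ≤ _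
    refine iSup_le fun l => ?_
    obtain ⟨m, hmmax, hle⟩ := Ideal.exists_le_maximal l.last.1.asIdeal l.last.1.2.ne_top
    have hmp : m.IsPrime := hmmax.isPrime
    have hle' : l.last.1 ≤ (⟨m, hmp⟩ : PrimeSpectrum A) := hle
    have hms : (⟨m, hmp⟩ : PrimeSpectrum A) ∈ Module.support A M :=
      Module.mem_support_mono hle' l.last.2
    have h1 : (l.length : ℕ∞) ≤ Order.height l.last := Order.length_le_height_last
    have h2 : Order.height l.last ≤ Order.height (⟨⟨m, hmp⟩, hms⟩ : Module.support A M) :=
      Order.height_mono hle'
    have hIm : I ≤ m := Ring.jacobson_le_of_isMaximal m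
    have hnmax : (m.map (algebraMap A (AdicCompletion I A))).IsMaximal :=
      AdicCompletion.isMaximal_map_of_le I m hIm (IsNoetherian.noetherian I)
    obtain ⟨n, hn⟩ : ∃ n, n = m.map (algebraMap A (AdicCompletion I A)) := ⟨_, rfl⟩
    rw [← hn] at hnmax
    have hnp : n.IsPrime := hnmax.isPrime
    have hcomap : n.comap (algebraMap A (AdicCompletion I A)) = m := by
      symm
      apply hmmax.eq_of_le (Ideal.comap_ne_top _ hnmax.ne_top)
      rw [hn]
      exact Ideal.le_comap_map
    have hpe : (⟨n.comap (algebraMap A (AdicCompletion I A)), inferInstance⟩ : PrimeSpectrum A) =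
        ⟨m, hmp⟩ := PrimeSpectrum.ext hcomap
    have hms' : (⟨n.comap (algebraMap A (AdicCompletion I A)), inferInstance⟩ : PrimeSpectrum A) ∈
        Module.support A M := by rw [hpe]; exact hms
    have hnt : Nontrivial (LocalizedModule
        (n.comap (algebraMap A (AdicCompletion I A))).primeCompl M) :=
      Module.mem_support_iff.mp hms'
    have h4 := supportDim_localization_tensor_adicCompletion I M n
    have h5 := supportDim_localization_eq_height (n.comap (algebraMap A (AdicCompletion I A))) M hms'
    have hheq : Order.height (⟨⟨n.comap (algebraMap A (AdicCompletion I A)), inferInstance⟩, hms'⟩ :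
        Module.support A M) = Order.height (⟨⟨m, hmp⟩, hms⟩ : Module.support A M) := by
      congr 1
      exact Subtype.ext hpe
    have hns : (⟨n, hnp⟩ : PrimeSpectrum (AdicCompletion I A)) ∈
        Module.support (AdicCompletion I A) (AdicCompletion I A ⊗[A] M) := by
      rw [Module.mem_support_iff]
      by_contra hcon
      rw [not_nontrivial_iff_subsingleton] at hcon
      rw [Module.supportDim_eq_bot_of_subsingleton, h5] at h4
      exact WithBot.bot_ne_coe h4
    have h3 := supportDim_localization_eq_height n (AdicCompletion I A ⊗[A] M) hns
    have h6 : ((Order.height (⟨⟨m, hmp⟩, hms⟩ : Module.support A M) : ℕ∞) : WithBot ℕ∞) ≤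
        Module.supportDim (AdicCompletion I A) (AdicCompletion I A ⊗[A] M) := by
      rw [← hheq, ← h5, ← h4, h3]
      unfold Module.supportDim
      exact Order.height_le_krullDim _
    exact (WithBot.coe_le_coe.mpr (h1.trans h2)).trans h6

end Groth.Agent.S5811
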