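import Groth.Statements.S5818
import Groth.Agent.Lib.Helper7Exal

set_option autoImplicit false
universe u v
open EGA41

namespace Groth.Agent.S5818

/-- Commutative rings, exactness at Exalcom_B(C, L) on underlying pointed sets. For ring maps A → B → C
and a C-module L, a B-extension of C by L is A-trivial if and only if it is equivalent to the
extension attached to some A-derivation B → L. -/
theorem result {A : Type u} {B C L : Type v} [CommRing A] [CommRing B] [CommRing C]
    [Algebra A B] [Algebra B C] [Algebra A C] [IsScalarTower A B C]
    [AddCommGroup L] [Module C L] [Module B L] [IsScalarTower B C L] [Module A L] [IsScalarTower A B L]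
    [IsScalarTower A C L]
    (X : Exal.Ext B C L) :
    X.IsTrivialOver A ↔
      ∃ D : Derivation A B L, Nonempty (X.Equiv (Exal.Ext.ofDerivation (C := C) D)) := by
  constructor
  · intro h
    exact Groth.Agent.Lib.Helper7.ExalLib.exists_equiv_ofDerivation_of_isTrivialOver X h
  · rintro ⟨D, ⟨e⟩⟩
    exact Groth.Agent.Lib.Helper7.ExalLib.isTrivialOver_of_equiv_ofDerivation X D e


end Groth.Agent.S5818
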