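import Groth.Statements.S5819
import Groth.Agent.Lib.Helper7Exal

set_option autoImplicit false
universe u v
open EGA41

namespace Groth.Agent.S5819

/-- Commutative rings, exactness at Exalcom_A(C, L) on underlying pointed sets. For ring maps A → B → C
and a C-module L, an A-extension Y of C by L pulls back to a trivial A-extension of B if and only if
Y is equivalent to some B-extension of C by L viewed as an A-extension. -/
theorem result {A : Type u} {B C L : Type v} [CommRing A]
    [CommRing B] [CommRing C] [Algebra A B] [Algebra B C] [Algebra A C] [IsScalarTower A B C]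
    [AddCommGroup L] [Module C L] [Module B L] [IsScalarTower B C L]
    (Y : Exal.Ext A C L) :
    (Y.pullback B).IsTrivial ↔
      ∃ X : Exal.Ext B C L, Nonempty ((X.restrictBase A).Equiv Y) := by
  constructor
  · intro h
    exact Groth.Agent.Lib.Helper7.ExalLib.exists_equiv_of_pullback_isTrivial Y h
  · rintro ⟨X, ⟨e⟩⟩
    exact Groth.Agent.Lib.Helper7.ExalLib.pullback_isTrivial_of_equiv Y X e


end Groth.Agent.S5819
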