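import Groth.Statements.S5825
import Mathlib

set_option autoImplicit false
universe u v w
open EGA41

namespace Groth.Agent.S5825

open Topology

/-- Let A be a topological ring, M, N topological A-modules with the topologies deduced from that of A,
and u : M → N a continuous linear map with dense image (a formal epimorphism). Then u is a formal
bimorphism (dense image and inducing) if and only if, for every open ideal J of A, the induced map
M/JM → N/JN is bijective (injectivity and surjectivity are written out elementwise). -/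
theorem result {A : Type u} {M : Type v} {N : Type w} [CommRing A]
    [TopologicalSpace A] [AddCommGroup M] [Module A M] [TopologicalSpace M] [AddCommGroup N] [Module A N]
    [TopologicalSpace N] (hM : TopMod.IsDeduced A M) (hN : TopMod.IsDeduced A N) (u : M →L[A] N)
    (hu : DenseRange u) :
    IsDenseInducing u ↔
      ∀ J : Ideal A, IsOpen (J : Set A) →
        (∀ x : M, u x ∈ (J • ⊤ : Submodule A N) → x ∈ (J • ⊤ : Submodule A M)) ∧
          ∀ y : N, ∃ x : M, y - u x ∈ (J • ⊤ : Submodule A N) := by
  have tM := hM.1
  have tN := hN.1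
  -- density
  have hdens : ∀ J : Ideal A, IsOpen (J : Set A) → ∀ y : N, ∃ x : M, y - u x ∈ (J • ⊤ : Submodule A N) := by
    intro J hJ y
    have h0 : ((J • ⊤ : Submodule A N) : Set N) ∈ nhds (0 : N) := hN.2.mem_of_mem hJ
    have hcont : Filter.Tendsto (fun z : N => y - z) (nhds y) (nhds (0 : N)) := by
      have : Continuous (fun z : N => y - z) := continuous_const.sub continuous_id
      have h := this.tendsto y
      rwa [sub_self] at h
    obtain ⟨x, hx⟩ := hu.mem_nhds (hcont h0)
    exact ⟨x, hx⟩
  constructor
  · intro h J hJ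
    refine ⟨?_, hdens J hJ⟩
    have hind : IsInducing u := h.toIsInducing
    have hJM : ((J • ⊤ : Submodule A M) : Set M) ∈ nhds (0 : M) := hM.2.mem_of_mem hJ
    rw [hind.nhds_eq_comap, map_zero] at hJM
    obtain ⟨t, ht, hsub⟩ := Filter.mem_comap.mp hJM
    obtain ⟨J', hJ', hJ't⟩ := hN.2.mem_iff.mp ht
    set J'' : Ideal A := J ⊓ J' with hJ''def
    have hJ'' : IsOpen (J'' : Set A) := by
      rw [hJ''def, Submodule.coe_inf]; exact hJ.inter hJ'
    have hkey : ∀ x : M, u x ∈ (J'' • ⊤ : Submodule A N) → x ∈ (J • ⊤ : Submodule A M) := by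
      intro x hx
      apply hsub
      apply hJ't
      exact Submodule.smul_mono_left inf_le_right hx
    -- approximate elements of J N by images of elements of J M modulo J'' N
    have happrox : ∀ z ∈ (J • ⊤ : Submodule A N), ∃ m ∈ (J • ⊤ : Submodule A M),
        z - u m ∈ (J'' • ⊤ : Submodule A N) := by
      intro z hz
      refine Submodule.smul_induction_on hz (fun j hj n _ => ?_) (fun a b ha hb => ?_)
      · obtain ⟨m₀, hm₀⟩ := hdens J'' hJ'' n
        refine ⟨j • m₀, Submodule.smul_mem_smul hj Submodule.mem_top, ?_⟩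
        rw [map_smul, ← smul_sub]
        exact Submodule.smul_mem _ _ hm₀
      · obtain ⟨m₁, hm₁, h₁⟩ := ha
        obtain ⟨m₂, hm₂, h₂⟩ := hb
        refine ⟨m₁ + m₂, Submodule.add_mem _ hm₁ hm₂, ?_⟩
        have : a + b - u (m₁ + m₂) = (a - u m₁) + (b - u m₂) := by rw [map_add]; abel
        rw [this]
        exact Submodule.add_mem _ h₁ h₂
    intro x hx
    obtain ⟨m, hm, hdiff⟩ := happrox (u x) hx
    have : x - m ∈ (J • ⊤ : Submodule A M) := hkey _ (by rwa [map_sub])
    have h2 := Submodule.add_mem _ this hm
    rwa [sub_add_cancel] at h2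
  · intro h
    refine ⟨?_, hu⟩
    rw [IsTopologicalAddGroup.isInducing_iff_nhds_zero]
    apply le_antisymm
    · have := u.continuous.tendsto 0
      rw [map_zero] at this
      exact Filter.map_le_iff_le_comap.mp this
    · intro s hs
      obtain ⟨J, hJ, hJs⟩ := hM.2.mem_iff.mp hs
      have h0 : ((J • ⊤ : Submodule A N) : Set N) ∈ nhds (0 : N) := hN.2.mem_of_mem hJ
      refine Filter.mem_of_superset (Filter.preimage_mem_comap h0) ?_
      intro x hx
      exact hJs ((h J hJ).1 x hx)

end Groth.Agent.S5825
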