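import Groth.Statements.S5826
import Mathlib

set_option autoImplicit false
universe u v w
open EGA41

namespace Groth.Agent.S5826


/-- a linear map to a discrete module killing `J • ⊤` for an open `J` is continuous -/
lemma continuous_of_kills {A : Type u} {P : Type v} {E : Type w} [CommRing A] [TopologicalSpace A]
    [AddCommGroup P] [Module A P] [TopologicalSpace P]
    [AddCommGroup E] [Module A E] [TopologicalSpace E] [DiscreteTopology E]
    (hP : TopMod.IsDeduced A P) (f : P →ₗ[A] E) (J : Ideal A) (hJ : IsOpen (J : Set A))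
    (hf : ∀ x ∈ (J • ⊤ : Submodule A P), f x = 0) : Continuous f := by
  have := hP.1
  apply continuous_of_continuousAt_zero f.toAddMonoidHom
  show Filter.Tendsto f (nhds 0) (nhds (f 0))
  rw [map_zero, nhds_discrete E, Filter.tendsto_pure]
  have : ((J • ⊤ : Submodule A P) : Set P) ∈ nhds (0 : P) := hP.2.mem_of_mem hJ
  exact Filter.mem_of_superset this hf

/-- a continuous linear map to a discrete module kills `J • ⊤` for some open `J` -/
lemma exists_kills {A : Type u} {P : Type v} {E : Type w} [CommRing A] [TopologicalSpace A]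
    [AddCommGroup P] [Module A P] [TopologicalSpace P]
    [AddCommGroup E] [Module A E] [TopologicalSpace E] [DiscreteTopology E]
    (hP : TopMod.IsDeduced A P) (f : P →L[A] E) :
    ∃ J : Ideal A, IsOpen (J : Set A) ∧ ∀ x ∈ (J • ⊤ : Submodule A P), f x = 0 := by
  have hopen : IsOpen (f ⁻¹' {0}) := (isOpen_discrete _).preimage f.continuous
  have hmem : f ⁻¹' {0} ∈ nhds (0 : P) := hopen.mem_nhds (by simp)
  obtain ⟨J, hJ, hsub⟩ := hP.2.mem_iff.mp hmem
  exact ⟨J, hJ, fun x hx => hsub hx⟩

/-- Let A be a topological ring, M, N topological A-modules with the topologies deduced from that of A,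
u : M → N a continuous linear map. Then u is formally left invertible if and only if, for every open
ideal J of A, the induced map M/JM → N/JN is left invertible, i.e. some linear map N → M/JM composes
with u to the projection M → M/JM. -/
theorem result {A : Type u} {M : Type v} {N : Type w}
    [CommRing A] [TopologicalSpace A] [AddCommGroup M] [Module A M] [TopologicalSpace M] [AddCommGroup N]
    [Module A N] [TopologicalSpace N] (hM : TopMod.IsDeduced A M) (hN : TopMod.IsDeduced A N)
    (u : M →L[A] N) :
    TopMod.IsFormallyLeftInvertible u ↔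
      ∀ J : Ideal A, IsOpen (J : Set A) →
        ∃ w : N →ₗ[A] M ⧸ (J • ⊤ : Submodule A M), ∀ x : M, w (u x) = Submodule.Quotient.mk x := by
  constructor
  · intro h J hJ
    letI : TopologicalSpace (M ⧸ (J • ⊤ : Submodule A M)) := ⊥
    haveI : DiscreteTopology (M ⧸ (J • ⊤ : Submodule A M)) := ⟨rfl⟩
    have hc : Continuous (Submodule.mkQ (J • ⊤ : Submodule A M)) :=
      continuous_of_kills hM _ J hJ (fun x hx => by simpa using hx)
    obtain ⟨w, hw⟩ := h (M ⧸ (J • ⊤ : Submodule A M)) ⟨Submodule.mkQ _, hc⟩
    exact ⟨w.toLinearMap, fun x => hw x⟩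
  · intro h E _ _ _ _ v
    obtain ⟨J, hJ, hv⟩ := exists_kills hM v
    obtain ⟨w₀, hw₀⟩ := h J hJ
    let vb : (M ⧸ (J • ⊤ : Submodule A M)) →ₗ[A] E :=
      Submodule.liftQ _ v.toLinearMap (fun x hx => LinearMap.mem_ker.mpr (hv x hx))
    have hc : Continuous (vb.comp w₀) := by
      refine continuous_of_kills hN _ J hJ (fun y hy => ?_)
      have : w₀ y = 0 := by
        refine Submodule.smul_induction_on hy (fun j hj n _ => ?_) (fun a b ha hb => ?_)
        · rw [map_smul]
          obtain ⟨m, hm⟩ := Submodule.Quotient.mk_surjective _ (w₀ n)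
          rw [← hm, ← Submodule.Quotient.mk_smul, Submodule.Quotient.mk_eq_zero]
          exact Submodule.smul_mem_smul hj Submodule.mem_top
        · rw [map_add, ha, hb, add_zero]
      rw [LinearMap.comp_apply, this, map_zero]
    refine ⟨⟨vb.comp w₀, hc⟩, fun x => ?_⟩
    show vb (w₀ (u x)) = v x
    rw [hw₀]
    rfl

end Groth.Agent.S5826
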