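import Groth.Statements.S5828
import Mathlib

set_option autoImplicit false
universe u v
open EGA41

namespace Groth.Agent.S5828


section
variable {A : Type u} {C L : Type v} [CommRing A] [CommRing C] [Algebra A C]
    [AddCommGroup L] [Module C L] [Module A L] [IsScalarTower A C L] (X : Exal.Ext A C L)

lemma proj_incl (z : L) : X.proj (X.incl z) = 0 := (X.isExtension.exact _).2 ⟨z, rfl⟩

lemma incl_mul_incl (z w : L) : X.incl z * X.incl w = 0 := by
  rw [X.isExtension.mul_incl, proj_incl, zero_smul, map_zero]

/-- the automorphism attached to a derivation -/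
noncomputable def autOf (D : Derivation A C L) : X.E →ₐ[A] X.E :=
  AlgHom.ofLinearMap
    { toFun := fun x => x + X.incl (D (X.proj x))
      map_add' := fun x y => by
        simp only [map_add]; abel
      map_smul' := fun a x => by
        simp only [map_smul, RingHom.id_apply, smul_add]
        congr 1
        rw [Algebra.smul_def a (X.incl _), X.isExtension.mul_incl, AlgHom.commutes,
          algebraMap_smul, Derivation.map_smul] }
    (by
      show (1 : X.E) + X.incl (D (X.proj 1)) = 1
      rw [map_one, Derivation.map_one_eq_zero, map_zero, add_zero])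
    (fun x y => by
      show x * y + X.incl (D (X.proj (x * y))) =
        (x + X.incl (D (X.proj x))) * (y + X.incl (D (X.proj y)))
      rw [map_mul, Derivation.leibniz, map_add, add_mul, mul_add, mul_add, incl_mul_incl,
        X.isExtension.mul_incl, mul_comm (X.incl _) y, X.isExtension.mul_incl]
      abel)

@[simp] lemma autOf_apply (D : Derivation A C L) (x : X.E) :
    autOf X D x = x + X.incl (D (X.proj x)) := rfl

lemma autOf_neg_autOf (D : Derivation A C L) (x : X.E) : autOf X (-D) (autOf X D x) = x := by
  show (x + X.incl (D (X.proj x))) + X.incl ((-D) (X.proj (x + X.incl (D (X.proj x))))) = x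
  rw [map_add, proj_incl, add_zero, Derivation.neg_apply, map_neg]; abel

end

/-- Commutative case. For an A-extension X of C by a C-module L, with middle ring E, projection p and
inclusion i, the A-derivations D : C → L and the self-equivalences of X correspond under D ↦ (x ↦ x
+ i (D (p x))): every derivation defines a self-equivalence with this formula, and every
self-equivalence is of this form for exactly one derivation. (Bijection of sets; the published
statement also records compatibility with the group laws.) -/
theorem result {A : Type u} {C L : Type v} [CommRing A] [CommRing C] [Algebra A C]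
    [AddCommGroup L] [Module C L] [Module A L] [IsScalarTower A C L] (X : Exal.Ext A C L) :
    (∀ D : Derivation A C L, ∃ e : X.Equiv X, ∀ x : X.E, e.toAlgEquiv x = x + X.incl (D (X.proj x))) ∧
      ∀ e : X.Equiv X, ∃! D : Derivation A C L, ∀ x : X.E, e.toAlgEquiv x = x + X.incl (D (X.proj x)) := by
  constructor
  · intro D
    refine ⟨⟨AlgEquiv.ofAlgHom (autOf X D) (autOf X (-D)) ?_ ?_, ?_, ?_⟩, ?_⟩
    · ext x
      have := autOf_neg_autOf X (-D) x
      rw [neg_neg] at this
      exact this
    · ext x
      exact autOf_neg_autOf X D x
    · intro x
      show X.proj (x + X.incl (D (X.proj x))) = X.proj x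
      rw [map_add, proj_incl, add_zero]
    · intro z
      show X.incl z + X.incl (D (X.proj (X.incl z))) = X.incl z
      rw [proj_incl, map_zero, map_zero, add_zero]
    · intro x; rfl
  · intro e
    -- δ x = e x - x is killed by proj
    have hδ : ∀ x : X.E, X.proj (e.toAlgEquiv x - x) = 0 := fun x => by
      rw [map_sub, e.proj_apply, sub_self]
    let d : X.E → L := fun x => X.kerLift (e.toAlgEquiv x - x) (hδ x)
    have hd : ∀ x, X.incl (d x) = e.toAlgEquiv x - x := fun x => X.incl_kerLift _ _
    have hinj := X.isExtension.incl_injective
    have hd_add : ∀ x y, d (x + y) = d x + d y := fun x y => hinj (by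
      rw [map_add, hd, hd, hd, map_add]; abel)
    have hd_incl : ∀ z, d (X.incl z) = 0 := fun z => hinj (by
      rw [hd, e.apply_incl, sub_self, map_zero])
    have hd_neg : ∀ x, d (-x) = - d x := fun x => hinj (by
      rw [map_neg, hd, hd, map_neg]; abel)
    have hd_congr : ∀ x y, X.proj x = X.proj y → d x = d y := by
      intro x y hxy
      have h0 : X.proj (x - y) = 0 := by rw [map_sub, hxy, sub_self]
      obtain ⟨w, hw⟩ := (X.isExtension.exact _).1 h0
      have : x = y + X.incl w := by rw [hw]; abel
      rw [this, hd_add, hd_incl, add_zero]
    have hd_mul : ∀ x y, d (x * y) = X.proj x • d y + X.proj y • d x := fun x y => hinj (by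
      have hmul0 : (e.toAlgEquiv x - x) * (e.toAlgEquiv y - y) = 0 := by
        rw [← hd, ← hd, incl_mul_incl]
      rw [hd, map_add, ← X.isExtension.mul_incl, ← X.isExtension.mul_incl, hd, hd, map_mul]
      linear_combination hmul0)
    have hd_smul : ∀ (a : A) x, d (a • x) = a • d x := fun a x => hinj (by
      rw [hd, map_smul, ← smul_sub, ← hd, Algebra.smul_def a (X.incl _), X.isExtension.mul_incl,
        AlgHom.commutes, algebraMap_smul])
    have hsurj := X.isExtension.proj_surjective
    let s : C → X.E := Function.surjInv hsurj
    have hs : ∀ c, X.proj (s c) = c := Function.surjInv_eq hsurj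
    let Dl : C →ₗ[A] L :=
      { toFun := fun c => d (s c)
        map_add' := fun c c' => by
          rw [← hd_add]
          exact hd_congr _ _ (by rw [map_add, hs, hs, hs])
        map_smul' := fun a c => by
          rw [RingHom.id_apply, ← hd_smul]
          exact hd_congr _ _ (by rw [map_smul, hs, hs]) }
    have hDl : ∀ x, Dl (X.proj x) = d x := fun x => hd_congr _ _ (hs _)
    let D : Derivation A C L := Derivation.mk' Dl (fun c c' => by
      show d (s (c * c')) = c • d (s c') + c' • d (s c)
      have := hd_mul (s c) (s c')
      rw [hs, hs] at this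
      rw [← this]
      exact hd_congr _ _ (by rw [map_mul, hs, hs, hs]))
    have hD : ∀ x, D (X.proj x) = d x := hDl
    refine ⟨D, fun x => ?_, fun D' hD' => ?_⟩
    · rw [hD, hd]; abel
    · ext c
      obtain ⟨x, rfl⟩ := hsurj c
      apply hinj
      have h1 := hD' x
      rw [hD, hd]
      rw [h1]; abel

end Groth.Agent.S5828
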