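import Groth.Statements.S5830
import Mathlib

set_option autoImplicit false
universe u v
open EGA41

namespace Groth.Agent.S5830

/-- Hochschild data -/
structure HData (A : Type u) (B : Type v) (L : Type v) [CommRing A] [CommRing B]
    [Algebra A B] [AddCommGroup L] [Module B L] [Module A L] [IsScalarTower A B L] where
  f : B →ₗ[A] B →ₗ[A] L
  hsymm : ∀ x y : B, f x y = f y x
  hcoc : ∀ x y z : B, f (x * y) z + z • f x y = x • f y z + f x (y * z)

variable {A : Type u} {B : Type v} {L : Type v} [CommRing A] [CommRing B]
    [Algebra A B] [AddCommGroup L] [Module B L] [Module A L] [IsScalarTower A B L]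

/-- the twisted extension `B × L` -/
def HE (_D : HData A B L) : Type v := B × L

namespace HE
variable (D : HData A B L)

instance : AddCommGroup (HE D) := inferInstanceAs (AddCommGroup (B × L))
instance : Module A (HE D) := inferInstanceAs (Module A (B × L))

@[ext] lemma ext {x y : HE D} (h1 : x.1 = y.1) (h2 : x.2 = y.2) : x = y := Prod.ext h1 h2

lemma f_one (b : B) : D.f 1 b = b • D.f 1 1 := by
  have h := D.hcoc 1 1 b
  rw [one_mul, one_mul, one_smul] at h
  exact (add_left_cancel h).symm

instance : Mul (HE D) := ⟨fun x y => (x.1 * y.1, x.1 • y.2 + y.1 • x.2 + D.f x.1 y.1)⟩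
instance : One (HE D) := ⟨((1 : B), -D.f 1 1)⟩

@[simp] lemma mul_fst (x y : HE D) : (x * y).1 = x.1 * y.1 := rfl
@[simp] lemma mul_snd (x y : HE D) : (x * y).2 = x.1 • y.2 + y.1 • x.2 + D.f x.1 y.1 := rfl
@[simp] lemma one_fst : (1 : HE D).1 = 1 := rfl
@[simp] lemma one_snd : (1 : HE D).2 = -D.f 1 1 := rfl
@[simp] lemma add_fst (x y : HE D) : (x + y).1 = x.1 + y.1 := rfl
@[simp] lemma add_snd (x y : HE D) : (x + y).2 = x.2 + y.2 := rfl
@[simp] lemma zero_fst : (0 : HE D).1 = 0 := rfl
@[simp] lemma zero_snd : (0 : HE D).2 = 0 := rfl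
@[simp] lemma smul_fst (a : A) (x : HE D) : (a • x).1 = a • x.1 := rfl
@[simp] lemma smul_snd (a : A) (x : HE D) : (a • x).2 = a • x.2 := rfl

instance : CommRing (HE D) :=
  { (inferInstance : AddCommGroup (HE D)) with
    mul := (· * ·)
    one := 1
    mul_assoc := by
      intro x y z
      ext
      · simp [mul_assoc]
      · simp only [mul_snd, mul_fst, smul_add, mul_smul]
        have h := eq_sub_of_add_eq (D.hcoc x.1 y.1 z.1)
        rw [h, smul_comm z.1 x.1 y.2, smul_comm z.1 y.1 x.2]
        abel
    one_mul := by
      intro x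
      ext
      · simp
      · simp only [mul_snd, one_fst, one_snd, one_smul, smul_neg]
        rw [f_one D x.1]
        abel
    mul_one := by
      intro x
      ext
      · simp
      · simp only [mul_snd, one_fst, one_snd, one_smul, smul_neg]
        rw [D.hsymm x.1 1, f_one D x.1]
        abel
    left_distrib := by
      intro x y z
      ext
      · simp [mul_add]
      · simp only [mul_snd, add_fst, add_snd, smul_add, add_smul, map_add]
        abel
    right_distrib := by
      intro x y z
      ext
      · simp [add_mul]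
      · simp only [mul_snd, add_fst, add_snd, smul_add, add_smul, map_add, LinearMap.add_apply]
        abel
    mul_comm := by
      intro x y
      ext
      · simp [mul_comm]
      · simp only [mul_snd, D.hsymm x.1 y.1]
        abel
    zero_mul := by
      intro x
      ext
      · simp
      · simp
    mul_zero := by
      intro x
      ext
      · simp
      · simp }


instance : Algebra A (HE D) :=
  Algebra.ofModule
    (by
      intro a x y
      ext
      · simp
      · simp only [mul_snd, smul_fst, smul_snd, smul_add, map_smul, LinearMap.smul_apply,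
          smul_assoc]
        rw [smul_comm y.1 a x.2])
    (by
      intro a x y
      ext
      · simp
      · simp only [mul_snd, smul_fst, smul_snd, smul_add, map_smul, smul_assoc]
        rw [smul_comm x.1 a y.2])

/-- projection to `B` -/
def proj : HE D →ₐ[A] B where
  toFun x := x.1
  map_one' := rfl
  map_mul' _ _ := rfl
  map_zero' := rfl
  map_add' _ _ := rfl
  commutes' a := by
    rw [Algebra.algebraMap_eq_smul_one, Algebra.algebraMap_eq_smul_one]
    rfl

lemma proj_surjective : Function.Surjective (proj D) := fun b => ⟨(b, 0), rfl⟩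

lemma ker_sq : (RingHom.ker (proj D : HE D →+* B)) ^ 2 = ⊥ := by
  rw [eq_bot_iff, pow_two, Ideal.mul_le]
  intro x hx y hy
  have hx1 : x.1 = 0 := hx
  have hy1 : y.1 = 0 := hy
  rw [Ideal.mem_bot]
  ext
  · simp [hx1]
  · simp [hx1, hy1]

end HE

/-- Discrete case. If B is a formally smooth A-algebra then, for every B-module L, every A-bilinear
symmetric Hochschild 2-cocycle f : B × B → L (f(xy, z) + z f(x, y) = x f(y, z) + f(x, yz)) is a
Hochschild 2-coboundary: f(x, y) = x g(y) − g(xy) + y g(x) for some A-linear g : B → L. (The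
published statement is for topological algebras and open ideals; this row is its discrete case.) -/
theorem result {A : Type u} {B : Type v} [CommRing A] [CommRing B]
    [Algebra A B] [Algebra.FormallySmooth A B] {L : Type v} [AddCommGroup L] [Module B L] [Module A L]
    [IsScalarTower A B L] (f : B →ₗ[A] B →ₗ[A] L) (hsymm : ∀ x y : B, f x y = f y x)
    (hcoc : ∀ x y z : B, f (x * y) z + z • f x y = x • f y z + f x (y * z)) :
    ∃ g : B →ₗ[A] L, ∀ x y : B, f x y = x • g y - g (x * y) + y • g x := by
  let D : HData A B L := ⟨f, hsymm, hcoc⟩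
  let s : B →ₐ[A] HE D := Algebra.FormallySmooth.liftOfSurjective (AlgHom.id A B) (HE.proj D)
    (HE.proj_surjective D) ⟨2, HE.ker_sq D⟩
  have hs : ∀ x, (s x).1 = x := fun x =>
    Algebra.FormallySmooth.liftOfSurjective_apply (AlgHom.id A B) (HE.proj D)
      (HE.proj_surjective D) ⟨2, HE.ker_sq D⟩ x
  let g : B →ₗ[A] L :=
    { toFun := fun x => -(s x).2
      map_add' := fun x y => by rw [map_add, HE.add_snd, neg_add]
      map_smul' := fun a x => by rw [map_smul, HE.smul_snd, smul_neg, RingHom.id_apply] }
  refine ⟨g, fun x y => ?_⟩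
  have h1 : (s (x * y)).2 = (s x * s y).2 := by rw [map_mul]
  rw [HE.mul_snd, hs, hs] at h1
  show f x y = x • (-(s y).2) - (-(s (x * y)).2) + y • (-(s x).2)
  rw [h1, smul_neg, smul_neg]
  show f x y = _ - -(_ + _ + f x y) + _
  abel

end Groth.Agent.S5830
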