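import Groth.Statements.S5831
import Mathlib
import Groth.Agent.Lib.Helper7ExalBaer

set_option autoImplicit false
universe u
open EGA41

namespace Groth.Agent.S5831

/-- Discrete case. Let B be an A-algebra which is a projective A-module (A and B in one universe). If
for every B-module L in that universe every A-bilinear symmetric Hochschild 2-cocycle B × B → L is a
coboundary, then B is formally smooth over A. (The published statement assumes B formally projective
as a topological A-module; for discrete rings this is projectivity.) -/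
theorem result {A B : Type u} [CommRing A]
    [CommRing B] [Algebra A B] [Module.Projective A B]
    (h : ∀ (L : Type u) [AddCommGroup L] [Module B L] [Module A L] [IsScalarTower A B L]
      (f : B →ₗ[A] B →ₗ[A] L), (∀ x y : B, f x y = f y x) →
        (∀ x y z : B, f (x * y) z + z • f x y = x • f y z + f x (y * z)) →
          ∃ g : B →ₗ[A] L, ∀ x y : B, f x y = x • g y - g (x * y) + y • g x) :
    Algebra.FormallySmooth A B := by
  rw [Groth.Agent.Lib.Helper7.ExalLib.formallySmooth_iff_forall_isTrivial]
  intro L _ _ X
  letI instA : Module A L := Module.compHom L (algebraMap A B)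
  haveI tAB : IsScalarTower A B L := IsScalarTower.of_algebraMap_smul (fun _ _ => rfl)
  -- A-linear section
  obtain ⟨σ, hσ⟩ := Module.projective_lifting_property (X.proj.toLinearMap) (LinearMap.id : B →ₗ[A] B)
    X.isExtension.proj_surjective
  have hσ' : ∀ b, X.proj (σ b) = b := fun b => LinearMap.congr_fun hσ b
  -- A-linearity of incl
  have hincl_smul : ∀ (a : A) (l : L), X.incl (a • l) = a • X.incl l := by
    intro a l
    rw [Algebra.smul_def, X.isExtension.mul_incl, AlgHom.commutes, algebraMap_smul]
  have hincl_bsmul : ∀ (b : B) (l : L), X.incl (b • l) = σ b * X.incl l := by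
    intro b l
    rw [X.isExtension.mul_incl, hσ']
  have hδ : ∀ x y : B, X.proj (σ x * σ y - σ (x * y)) = 0 := by
    intro x y
    rw [map_sub, map_mul, hσ', hσ', hσ', sub_self]
  let φ : B → B → L := fun x y => X.kerLift _ (hδ x y)
  have hk : ∀ x y : B, X.incl (φ x y) = σ x * σ y - σ (x * y) :=
    fun x y => X.incl_kerLift _ _
  let f : B →ₗ[A] B →ₗ[A] L := LinearMap.mk₂ A φ
    (fun x x' y => by
      apply X.isExtension.incl_injective
      rw [map_add X.incl, hk, hk, hk, add_mul, map_add, map_add]; ring)
    (fun a x y => by
      apply X.isExtension.incl_injective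
      rw [hincl_smul, hk, hk, smul_mul_assoc, map_smul, smul_mul_assoc, map_smul, smul_sub])
    (fun x y y' => by
      apply X.isExtension.incl_injective
      rw [map_add X.incl, hk, hk, hk, mul_add, map_add, map_add]; ring)
    (fun a x y => by
      apply X.isExtension.incl_injective
      rw [hincl_smul, hk, hk, mul_smul_comm, map_smul, mul_smul_comm, map_smul, smul_sub])
  have hf : ∀ x y, X.incl (f x y) = σ x * σ y - σ (x * y) := hk
  obtain ⟨g, hg⟩ := h L f
    (fun x y => by
      apply X.isExtension.incl_injective
      rw [hf, hf, mul_comm (σ x), mul_comm x])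
    (fun x y z => by
      apply X.isExtension.incl_injective
      have e1 : X.incl (f (x * y) z + z • f x y) =
          σ (x * y) * σ z - σ (x * y * z) + σ z * (σ x * σ y - σ (x * y)) := by
        rw [map_add, hincl_bsmul, hf, hf]
      have e2 : X.incl (x • f y z + f x (y * z)) =
          σ x * (σ y * σ z - σ (y * z)) + (σ x * σ (y * z) - σ (x * (y * z))) := by
        rw [map_add, hincl_bsmul, hf, hf]
      rw [e1, e2, mul_assoc x y z]
      ring)
  -- the corrected section
  let inclA : L →ₗ[A] X.E :=
    { toFun := fun l => X.incl l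
      map_add' := fun l l' => map_add _ _ _
      map_smul' := hincl_smul }
  let s0 : B →ₗ[A] X.E := σ - inclA ∘ₗ g
  have hs0 : ∀ b, s0 b = σ b - X.incl (g b) := fun b => rfl
  have hmul : ∀ x y, s0 (x * y) = s0 x * s0 y := by
    intro x y
    have h1 := congrArg X.incl (hg x y)
    rw [hf, map_add, map_sub, hincl_bsmul, hincl_bsmul] at h1
    have h2 : X.incl (g x) * X.incl (g y) = 0 :=
      Groth.Agent.Lib.Helper7.ExalLib.incl_mul_incl X _ _
    rw [hs0, hs0, hs0]
    linear_combination (-1 : X.E) * h1 - h2
  have hone : s0 1 = 1 := by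
    have h1 : X.proj (s0 1 - 1) = 0 := by
      rw [map_sub, hs0, map_sub, hσ', Groth.Agent.Lib.Helper7.ExalLib.proj_incl, sub_zero, map_one, sub_self]
    obtain ⟨l, hl⟩ := (X.isExtension.exact _).1 h1
    have h2 : s0 1 = 1 + X.incl l := by rw [hl]; ring
    have h3 := hmul 1 1
    rw [mul_one, h2] at h3
    have h4 : X.incl l * X.incl l = 0 := Groth.Agent.Lib.Helper7.ExalLib.incl_mul_incl X _ _
    have h5 : X.incl l = 0 := by linear_combination (-1 : X.E) * h3 - h4
    rw [h2, h5, add_zero]
  refine ⟨AlgHom.ofLinearMap s0 hone hmul, fun b => ?_⟩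
  change X.proj (s0 b) = b
  rw [hs0, map_sub, hσ', Groth.Agent.Lib.Helper7.ExalLib.proj_incl, sub_zero]


end Groth.Agent.S5831
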