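import Groth.Statements.S5839
import Mathlib
import Groth.Agent.S5826
import Groth.Agent.Lib.Helper22TopModInv

set_option autoImplicit false
universe u v w
open EGA41

namespace Groth.Agent.S5839

open Groth.Agent.Lib.Helper22.TopModInv

/-- Let A be preadmissible with ideal of definition 𝔏, the topologies of M and N deduced from that of A,
N/JN projective over A/J for every open ideal J; assuming moreover a countable decreasing
fundamental system of open ideals and M Hausdorff and complete, u : M → N has a linear left inverse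
if and only if the induced map M/𝔏M → N/𝔏N has one (both being equivalent to formal left
invertibility). -/
theorem result {A : Type u} {M : Type v} {N : Type w}
    [CommRing A] [TopologicalSpace A] [AddCommGroup M] [Module A M] [UniformSpace M] [IsUniformAddGroup M]
    [CompleteSpace M] [T2Space M] [AddCommGroup N] [Module A N] [TopologicalSpace N]
    (𝔍 : ℕ → Ideal A) (h𝔍open : ∀ n, IsOpen (𝔍 n : Set A)) (h𝔍anti : Antitone 𝔍)
    (h𝔍basis : (nhds (0 : A)).HasBasis (fun _ : ℕ => True) (fun n => (𝔍 n : Set A)))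
    (hM : TopMod.IsDeduced A M) (hN : TopMod.IsDeduced A N) (u : M →L[A] N)
    (hA : LinTop.IsPreadmissible A) (𝔏 : Ideal A) (h𝔏 : LinTop.IsIdealOfDefinition A 𝔏)
    (hproj : ∀ J : Ideal A, IsOpen (J : Set A) → Module.Projective (A ⧸ J) (N ⧸ (J • (⊤ : Submodule A N)))) :
    (∃ w : N →ₗ[A] M, ∀ x : M, w (u x) = x) ↔
      ∃ w₀ : N →ₗ[A] M ⧸ (𝔏 • ⊤ : Submodule A M), ∀ x : M, w₀ (u x) = Submodule.Quotient.mk x := by
  constructor
  · rintro ⟨w, hw⟩
    refine ⟨Submodule.mkQ _ ∘ₗ w, fun x => ?_⟩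
    show Submodule.mkQ _ (w (u x)) = _
    rw [hw]
    rfl
  · rintro ⟨w₀, hw₀⟩
    obtain ⟨n₀, -, hn₀⟩ := h𝔍basis.mem_iff.mp (h𝔏.1.mem_nhds 𝔏.zero_mem)
    have hn₀' : 𝔍 n₀ ≤ 𝔏 := hn₀
    let 𝔍' : ℕ → Ideal A := fun n => 𝔍 (n + n₀)
    have h𝔍'open : ∀ n, IsOpen (𝔍' n : Set A) := fun n => h𝔍open _
    have h𝔍'anti : Antitone 𝔍' := fun a b hab => h𝔍anti (Nat.add_le_add_right hab n₀)
    have h𝔍'basis : (nhds (0 : A)).HasBasis (fun _ : ℕ => True) (fun n => (𝔍' n : Set A)) :=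
      h𝔍basis.to_hasBasis (fun n _ => ⟨n, trivial, h𝔍anti (Nat.le_add_right n n₀)⟩)
        (fun n _ => ⟨n + n₀, trivial, subset_rfl⟩)
    have h𝔍'le : ∀ n, 𝔍' n ≤ 𝔏 := fun n => (h𝔍anti (Nat.le_add_left n₀ n)).trans hn₀'
    have hpow : ∀ n, ∃ k, 𝔏 ^ k ≤ 𝔍' n := by
      intro n
      obtain ⟨k, -, hk⟩ := h𝔏.2 _ ((h𝔍'open n).mem_nhds (zero_mem _))
      exact ⟨k, hk⟩
    -- initial
    obtain ⟨k0, hk0⟩ := hpow 0
    have := hproj (𝔍' 0) (h𝔍'open 0)
    obtain ⟨w0, hw0, -⟩ := step_nilp u.toLinearMap (J' := 𝔍' 0) (J := 𝔏) (h𝔍'le 0) k0 hk0 w₀ hw₀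
    refine exists_leftInverse_of_steps 𝔍' h𝔍'open h𝔍'anti h𝔍'basis hM u.toLinearMap w0 hw0 ?_
    intro n w hw
    obtain ⟨k, hk⟩ := hpow (n + 1)
    have := hproj (𝔍' (n + 1)) (h𝔍'open (n + 1))
    exact step_nilp u.toLinearMap (h𝔍'anti (Nat.le_succ n)) k
      ((Ideal.pow_right_mono (h𝔍'le n) k).trans hk) w hw

end Groth.Agent.S5839
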