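import Groth.Statements.S5840
import Groth.Agent.S0484
import Groth.Agent.Lib.Helper23QCohAbelian

set_option autoImplicit false
set_option linter.style.haveILetI false
universe u
open ZClos

namespace Groth.Agent.S5840

open CategoryTheory CategoryTheory.Limits AlgebraicGeometry in
/-- For a locally Noetherian scheme X and a subset Z of X stable under specialization, the Z-closure
functor F ↦ H⁰_{X/Z}(F) on O_X-modules (the filtered colimit, over the closed subsets T of X inside
Z, of the direct images of the restrictions of F to X ∖ T) is left exact: it preserves finite
limits. -/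
theorem result (X : Scheme.{u}) [IsLocallyNoetherian X] (Z : Set X)
    (hZ : StableUnderSpecialization Z) : PreservesFiniteLimits (ZClos.H0 Z) := by
  haveI hG : IsGrothendieckAbelian.{u} X.Modules :=
    Groth.Agent.S0484.result (Opens.grothendieckTopology X) X.ringCatSheaf
  haveI : ∀ U : X.Opens, PreservesLimitsOfSize.{0, 0} (ZClos.resPush U) := by
    intro U
    haveI := Groth.Agent.Lib.Helper23.QCohLocal.restrictFunctor_isRightAdjoint U.ι
    haveI : (Scheme.Modules.pushforward U.ι).IsRightAdjoint :=
      (Scheme.Modules.restrictAdjunction U.ι).isRightAdjoint
    infer_instance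
  haveI : PreservesFiniteLimits (ZClos.diagram Z) := by
    constructor
    intro J _ _
    apply preservesLimitsOfShape_of_evaluation
    intro T
    have e : ZClos.diagram Z ⋙ (evaluation (ZClos.Cl Z) X.Modules).obj T ≅ ZClos.resPush T.U :=
      NatIso.ofComponents (fun F => Iso.refl _) (fun f => by
        simp only [Iso.refl_hom, Category.comp_id, Category.id_comp]
        rfl)
    exact preservesLimitsOfShape_of_natIso e.symm
  haveI : HasExactColimitsOfShape (ZClos.Cl Z) X.Modules := inferInstance
  change PreservesFiniteLimits (ZClos.diagram Z ⋙ colim)
  infer_instance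

end Groth.Agent.S5840
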