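import Groth.Statements.S5862
import Mathlib.AlgebraicGeometry.Morphisms.UniversallyInjective
import Mathlib.RingTheory.RingHom.PurelyInseparable
-- import your own Groth.Agent.* helpers here

set_option autoImplicit false
universe u
open RadPt

namespace Groth.Agent.S5862

/-- ring-hom form of `IsPurelyInseparable.tower_top` -/
theorem pi_tower_top {F E K : Type*} [Field F] [Field E] [Field K] (a : F →+* E) (b : E →+* K)
    (h : (b.comp a).IsPurelyInseparable) : b.IsPurelyInseparable := by
  algebraize [a, b, b.comp a]
  exact IsPurelyInseparable.tower_top F E K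

/-- ring-hom form of `IsPurelyInseparable.tower_bot` -/
theorem pi_tower_bot {F E K : Type*} [Field F] [Field E] [Field K] (a : F →+* E) (b : E →+* K)
    (h : (b.comp a).IsPurelyInseparable) : a.IsPurelyInseparable := by
  algebraize [a, b, b.comp a]
  exact IsPurelyInseparable.tower_bot F E K

open CategoryTheory AlgebraicGeometry in
/-- Let f : X → Y and g : Y → Z be morphisms of schemes and y a point of Y. If f is radicial at y (fibre
with at most one point, purely inseparable residue field extension) and g is radicial at g(y), then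
g ∘ f is radicial at g(y). Conversely, if f is surjective and g ∘ f is radicial at g(y), then f is
radicial at y and g is radicial at g(y). -/
theorem result {X Y Z : Scheme.{u}} (f : X ⟶ Y) (g : Y ⟶ Z) (y : Y) :
    (RadPt.IsRadicialAt f y → RadPt.IsRadicialAt g (g y) → RadPt.IsRadicialAt (f ≫ g) (g y)) ∧
      (Surjective f → RadPt.IsRadicialAt (f ≫ g) (g y) →
        RadPt.IsRadicialAt f y ∧ RadPt.IsRadicialAt g (g y)) := by
  have hcomp : ∀ x : X, ((f ≫ g).residueFieldMap x).hom =
      (f.residueFieldMap x).hom.comp (g.residueFieldMap (f x)).hom := by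
    intro x
    rw [Scheme.residueFieldMap_comp]
    rfl
  refine ⟨fun hf hg => ⟨?_, ?_⟩, fun hs h => ⟨⟨?_, ?_⟩, ⟨?_, ?_⟩⟩⟩
  · intro x x' hx hx'
    have h1 : f x = y := hg.1 (f x) y hx rfl
    have h2 : f x' = y := hg.1 (f x') y hx' rfl
    exact hf.1 x x' h1 h2
  · intro x hx
    have h1 : f x = y := hg.1 (f x) y hx rfl
    rw [hcomp]
    exact RingHom.IsPurelyInseparable.comp (hg.2 (f x) hx) (hf.2 x h1)
  · intro x x' hx hx'
    exact h.1 x x' (by change g (f x) = g y; rw [hx]) (by change g (f x') = g y; rw [hx'])
  · intro x hx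
    have := h.2 x (by change g (f x) = g y; rw [hx])
    rw [hcomp] at this
    exact pi_tower_top _ _ this
  · intro y1 y2 h1 h2
    obtain ⟨x1, rfl⟩ := hs.surj y1
    obtain ⟨x2, rfl⟩ := hs.surj y2
    rw [h.1 x1 x2 h1 h2]
  · intro y1 h1
    obtain ⟨x1, rfl⟩ := hs.surj y1
    have := h.2 x1 h1
    rw [hcomp] at this
    exact pi_tower_bot _ _ this

end Groth.Agent.S5862
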