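import Groth.Statements.S5872
import Groth.Agent.Lib.Helper14ConsGenD
import Groth.Agent.Lib.Helper3DimCons

set_option autoImplicit false
universe u
open CategoryTheory AlgebraicGeometry
open Cons9

namespace Groth.Agent.S5872

/-- Let S be an integral Noetherian scheme with generic point η, f : X ⟶ S a morphism of finite type and
F a coherent O_X-module; for s in S let F_s be the pullback of F to the scheme-theoretic fibre X_s.
If F_η has no embedded associated point, then there is an open neighbourhood U of η such that for
every s in U the module F_s has no embedded associated point. -/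
theorem result {X S : Scheme.{u}} [IsIntegral S] [IsNoetherian S]
    (f : X ⟶ S) [LocallyOfFiniteType f] [QuasiCompact f]
    (F : X.Modules) [Coh.IsQCoh F] (hF : CohB1.IsFP F)
    (hη : AssSch.NoEmbedded ((Scheme.Modules.pullback (f.fiberι (genericPoint S))).obj F)) :
    ∃ U : S.Opens, genericPoint S ∈ U ∧
      ∀ s ∈ U, AssSch.NoEmbedded ((Scheme.Modules.pullback (f.fiberι s)).obj F) := by
  have : LocallyOfFinitePresentation f := inferInstance
  have : IsLocallyNoetherian X := LocallyOfFiniteType.isLocallyNoetherian f
  have : QuasiSeparated f := by
    have : QuasiSeparated (f ≫ Limits.terminal.from S) := by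
      rw [Limits.terminal.comp_from]
      exact (quasiSeparatedSpace_iff_quasiSeparated X).mp inferInstance
    exact QuasiSeparated.of_comp f (Limits.terminal.from S)
  have hlc := Groth.Agent.Lib.Helper14.ConsGenD.isLocallyConstructible_noEmbedded f F hF
  have hc := hlc.isConstructible
  have hint := Groth.Agent.Lib.Helper3.DimCons.genericPoint_mem_interior hc hη
  exact ⟨⟨interior _, isOpen_interior⟩, hint, fun s hs => interior_subset hs⟩

end Groth.Agent.S5872
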