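import Groth.Statements.S5876
-- import your own Groth.Agent.* helpers here
import Mathlib
import Groth.Agent.S8255
import Groth.Agent.Lib.Helper22LimAffEx

set_option autoImplicit false
universe u
open CategoryTheory CategoryTheory.Limits AlgebraicGeometry
open Lim8

namespace Groth.Agent.S5876

open Opposite TopologicalSpace RelSpec

/-! ### generalities on `spec`, `specMap` -/

theorem spec_hom_ext {S : Scheme.{u}} (A : QCAlg S) {Y : Scheme.{u}} (f g : A.spec ⟶ Y)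
    (h : ∀ (U : S.Opens) (hU : IsAffineOpen U), A.ι U hU ≫ f = A.ι U hU ≫ g) : f = g := by
  refine A.glueData.cover.hom_ext f g fun i => ?_
  exact h i.1 i.2

theorem specMap_id' {S : Scheme.{u}} (A : QCAlg S) : QCAlg.specMap (𝟙 A) = 𝟙 A.spec := by
  apply spec_hom_ext
  intro U hU
  rw [QCAlg.ι_specMap, Category.comp_id, QCAlg.id_hom, NatTrans.id_app, Spec.map_id,
    Category.id_comp]

theorem specMap_comp' {S : Scheme.{u}} {A B C : QCAlg S} (φ : A ⟶ B) (ψ : B ⟶ C) :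
    QCAlg.specMap (φ ≫ ψ) = QCAlg.specMap ψ ≫ QCAlg.specMap φ := by
  apply spec_hom_ext
  intro U hU
  rw [QCAlg.ι_specMap, ← Category.assoc, QCAlg.ι_specMap, Category.assoc, QCAlg.ι_specMap,
    QCAlg.comp_hom, NatTrans.comp_app, Spec.map_comp, Category.assoc]

theorem appLE_of_eq {X Y : Scheme.{u}} {f g : X ⟶ Y} (h : f = g) (U : Y.Opens) (V : X.Opens)
    (e : V ≤ f ⁻¹ᵁ U) : f.appLE U V e = g.appLE U V (h ▸ e) := by
  subst h; rfl

/-! ### the map of direct image presheaves induced by a morphism over `S` -/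

/-- For `h : Y ⟶ X` over `S`, the induced map `f_* O_X ⟶ g_* O_Y`. -/
noncomputable def pushHom {X Y S : Scheme.{u}} (f : X ⟶ S) (g : Y ⟶ S) (h : Y ⟶ X)
    (w : h ≫ f = g) : f.base _* X.presheaf ⟶ g.base _* Y.presheaf where
  app U := h.appLE (f ⁻¹ᵁ U.unop) (g ⁻¹ᵁ U.unop) (by subst w; exact le_rfl)
  naturality U V i := by
    exact (Scheme.Hom.map_appLE h _ _).trans (Scheme.Hom.appLE_map h _ _).symm

theorem pushHom_comm {X Y S : Scheme.{u}} (f : X ⟶ S) (g : Y ⟶ S) (h : Y ⟶ X)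
    (w : h ≫ f = g) : f.c ≫ pushHom f g h w = g.c := by
  subst w
  refine NatTrans.ext (funext fun U => ?_)
  change f.app U.unop ≫ h.appLE (f ⁻¹ᵁ U.unop) (h ⁻¹ᵁ (f ⁻¹ᵁ U.unop)) le_rfl = (h ≫ f).app U.unop
  rw [Scheme.Hom.appLE_eq_app, Scheme.Hom.comp_app]

theorem pushHom_comp {X Y Z S : Scheme.{u}} (f : X ⟶ S) (g : Y ⟶ S) (k : Z ⟶ S) (h : Y ⟶ X)
    (w : h ≫ f = g) (h' : Z ⟶ Y) (w' : h' ≫ g = k) :
    pushHom f g h w ≫ pushHom g k h' w' =
      pushHom f k (h' ≫ h) (by rw [Category.assoc, w, w']) := by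
  refine NatTrans.ext (funext fun U => ?_)
  exact Scheme.Hom.appLE_comp_appLE h' h _ _ _ _ _

theorem pushHom_congr {X Y S : Scheme.{u}} (f : X ⟶ S) (g : Y ⟶ S) {h h' : Y ⟶ X} (e : h = h')
    (w : h ≫ f = g) : pushHom f g h w = pushHom f g h' (e ▸ w) := by
  subst e; rfl

/-! ### naturality of `gammaMap` -/

theorem gamma_sq {S : Scheme.{u}} {A B : QCAlg S} (φ : A ⟶ B) (U : S.Opens) (hU : IsAffineOpen U) :
    (QCAlg.specMap φ).appLE (A.π ⁻¹ᵁ U) (B.π ⁻¹ᵁ U)
        (by rw [← QCAlg.specMap_π φ]; exact le_rfl) ≫ B.gammaAff U hU =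
      A.gammaAff U hU ≫ φ.hom.app (op U) := by
  unfold QCAlg.gammaAff
  rw [← Category.assoc, Scheme.Hom.appLE_comp_appLE, appLE_of_eq (QCAlg.ι_specMap U hU φ)]
  have e2 : (⊤ : (Spec (B.presheaf.obj (op U))).Opens) ≤
      (Spec.map (φ.hom.app (op U))) ⁻¹ᵁ ⊤ := le_top
  have key := Scheme.Hom.appLE_comp_appLE (Spec.map (φ.hom.app (op U))) (A.ι U hU)
    (A.π ⁻¹ᵁ U) ⊤ ⊤ (A.top_le_preimage U hU) e2
  rw [← key]
  have e3 : (Spec.map (φ.hom.app (op U))).appLE ⊤ ⊤ e2 =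
      (Spec.map (φ.hom.app (op U))).appTop :=
    Scheme.Hom.appLE_eq_app _
  rw [e3, Category.assoc, Category.assoc, Scheme.ΓSpecIso_naturality]

theorem gammaMap_natural {S : Scheme.{u}} {A B : QCAlg S} (φ : A ⟶ B) :
    pushHom A.π B.π (QCAlg.specMap φ) (QCAlg.specMap_π φ) ≫ B.gammaMap = A.gammaMap ≫ φ.hom := by
  apply (Functor.IsCoverDense.restrictHomEquivHom (G := Scheme.AffineZariskiSite.toOpensFunctor S)
    (K := Opens.grothendieckTopology S) (ℱ := A.π.base _* A.spec.presheaf)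
    (ℱ' := (⟨B.presheaf, B.isSheaf⟩ : TopCat.Sheaf CommRingCat.{u} S.carrier))).symm.injective
  ext U : 2
  change (pushHom A.π B.π (QCAlg.specMap φ) (QCAlg.specMap_π φ)).app (op U.unop.1) ≫
      B.gammaMap.app (op U.unop.1) = A.gammaMap.app (op U.unop.1) ≫ φ.hom.app (op U.unop.1)
  rw [B.gammaMap_app U.unop.1 U.unop.2, A.gammaMap_app U.unop.1 U.unop.2]
  exact gamma_sq φ U.unop.1 U.unop.2

/-! ### the two comparison homomorphisms -/

/-- `A ⟶ σ_* O_L` from `p : L ⟶ Spec A` over `S`. -/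
noncomputable def ell {S L : Scheme.{u}} (A : QCAlg S) (σ : L ⟶ S) [QuasiCompact σ]
    [QuasiSeparated σ] (p : L ⟶ A.spec) (w : p ≫ A.π = σ) : A ⟶ QCAlg.directImage σ :=
  haveI := Groth.Agent.S8255.result A
  ⟨inv A.gammaMap ≫ pushHom A.π σ p w, by
    have h1 : A.str ≫ inv A.gammaMap = A.π.c := by
      rw [← A.π_c_gammaMap, Category.assoc, IsIso.hom_inv_id, Category.comp_id]
    change A.str ≫ inv A.gammaMap ≫ pushHom A.π σ p w = σ.c
    rw [← Category.assoc, h1, pushHom_comm]⟩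

theorem ell_hom {S L : Scheme.{u}} (A : QCAlg S) (σ : L ⟶ S) [QuasiCompact σ]
    [QuasiSeparated σ] (p : L ⟶ A.spec) (w : p ≫ A.π = σ) :
    haveI := Groth.Agent.S8255.result A
    (ell A σ p w).hom = inv A.gammaMap ≫ pushHom A.π σ p w := rfl

/-- `σ_* O_L ⟶ C` from `κ : Spec C ⟶ L` over `S`. -/
noncomputable def theta {S L : Scheme.{u}} (C : QCAlg S) (σ : L ⟶ S) [QuasiCompact σ]
    [QuasiSeparated σ] (κ : C.spec ⟶ L) (w : κ ≫ σ = C.π) : QCAlg.directImage σ ⟶ C :=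
  ⟨pushHom σ C.π κ w ≫ C.gammaMap, by
    change σ.c ≫ pushHom σ C.π κ w ≫ C.gammaMap = C.str
    rw [← Category.assoc, pushHom_comm, C.π_c_gammaMap]⟩

theorem theta_hom {S L : Scheme.{u}} (C : QCAlg S) (σ : L ⟶ S) [QuasiCompact σ]
    [QuasiSeparated σ] (κ : C.spec ⟶ L) (w : κ ≫ σ = C.π) :
    (theta C σ κ w).hom = pushHom σ C.π κ w ≫ C.gammaMap := rfl

theorem ell_congr {S L : Scheme.{u}} (A : QCAlg S) (σ : L ⟶ S) [QuasiCompact σ]
    [QuasiSeparated σ] {p p' : L ⟶ A.spec} (e : p = p') (w : p ≫ A.π = σ) :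
    ell A σ p w = ell A σ p' (e ▸ w) := by
  subst e; rfl

theorem ell_natural_aux {S L : Scheme.{u}} {A A' : QCAlg S} (φ : A ⟶ A') (σ : L ⟶ S)
    (p' : L ⟶ A'.spec) (w' : p' ≫ A'.π = σ) [IsIso A.gammaMap] [IsIso A'.gammaMap] :
    φ.hom ≫ (inv A'.gammaMap ≫ pushHom A'.π σ p' w') =
      inv A.gammaMap ≫ pushHom A.π σ (p' ≫ QCAlg.specMap φ)
        (by rw [Category.assoc, QCAlg.specMap_π, w']) := by
  rw [← cancel_epi A.gammaMap, IsIso.hom_inv_id_assoc, ← Category.assoc, ← gammaMap_natural φ,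
    Category.assoc, IsIso.hom_inv_id_assoc, pushHom_comp]

theorem ell_natural {S L : Scheme.{u}} {A A' : QCAlg S} (φ : A ⟶ A') (σ : L ⟶ S) [QuasiCompact σ]
    [QuasiSeparated σ] (p' : L ⟶ A'.spec) (w' : p' ≫ A'.π = σ) :
    φ ≫ ell A' σ p' w' =
      ell A σ (p' ≫ QCAlg.specMap φ) (by rw [Category.assoc, QCAlg.specMap_π, w']) := by
  haveI := Groth.Agent.S8255.result A
  haveI := Groth.Agent.S8255.result A'
  apply QCAlg.hom_ext
  exact ell_natural_aux φ σ p' w'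

theorem ell_theta_aux {S L : Scheme.{u}} {A C : QCAlg S} (ψ : A ⟶ C) (σ : L ⟶ S)
    (p : L ⟶ A.spec) (w : p ≫ A.π = σ) (κ : C.spec ⟶ L) (wκ : κ ≫ σ = C.π)
    (h : κ ≫ p = QCAlg.specMap ψ) [IsIso A.gammaMap] :
    (inv A.gammaMap ≫ pushHom A.π σ p w) ≫ (pushHom σ C.π κ wκ ≫ C.gammaMap) = ψ.hom := by
  rw [Category.assoc, ← Category.assoc (pushHom A.π σ p w), pushHom_comp,
    pushHom_congr A.π C.π h, gammaMap_natural ψ, IsIso.inv_hom_id_assoc]

theorem ell_theta {S L : Scheme.{u}} {A C : QCAlg S} (ψ : A ⟶ C) (σ : L ⟶ S) [QuasiCompact σ]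
    [QuasiSeparated σ] (p : L ⟶ A.spec) (w : p ≫ A.π = σ) (κ : C.spec ⟶ L) (wκ : κ ≫ σ = C.π)
    (h : κ ≫ p = QCAlg.specMap ψ) : ell A σ p w ≫ theta C σ κ wκ = ψ := by
  haveI := Groth.Agent.S8255.result A
  apply QCAlg.hom_ext
  exact ell_theta_aux ψ σ p w κ wκ h

/-! ### sections of a limit over the preimage of an affine open -/

theorem exists_appLE_eq {I : Type u} [Category.{u} I] [IsCofiltered I] (D : I ⥤ Scheme.{u})
    [∀ {i j : I} (f : i ⟶ j), IsAffineHom (D.map f)] (c : Cone D) (hc : IsLimit c) (i : I)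
    (W : (D.obj i).Opens) (hW : IsAffineOpen W) (b : Γ(c.pt, c.π.app i ⁻¹ᵁ W)) :
    ∃ (k : Over i) (t : Γ(D.obj k.left, D.map k.hom ⁻¹ᵁ W)),
      (c.π.app k.left).appLE (D.map k.hom ⁻¹ᵁ W) (c.π.app i ⁻¹ᵁ W)
        (by rw [← Scheme.Hom.comp_preimage, c.w]) t = b := by
  have hj : ∀ j : Over i, IsAffine ((opensDiagram D i W).obj j) := fun j =>
    hW.preimage (D.map j.hom)
  have H1 : (c.π.app i ⁻¹ᵁ W).ι ''ᵁ ⊤ ≤ c.π.app i ⁻¹ᵁ W := by simp
  have H1' : c.π.app i ⁻¹ᵁ W ≤ (c.π.app i ⁻¹ᵁ W).ι ''ᵁ ⊤ := by simp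
  obtain ⟨k, t, hk⟩ := exists_appTop_π_eq_of_isAffine_of_isLimit _ _ (isLimitOpensCone D c hc i W)
    (c.pt.presheaf.map (homOfLE H1).op b)
  obtain ⟨t', rfl⟩ : ∃ t' : Γ(D.obj k.left, (D.map k.hom ⁻¹ᵁ W).ι ''ᵁ ⊤), t' = t := ⟨t, rfl⟩
  have H2 : D.map k.hom ⁻¹ᵁ W ≤ (D.map k.hom ⁻¹ᵁ W).ι ''ᵁ ⊤ := by simp
  have H3 : (c.π.app i ⁻¹ᵁ W).ι ''ᵁ ⊤ ≤ c.π.app k.left ⁻¹ᵁ (D.map k.hom ⁻¹ᵁ W).ι ''ᵁ ⊤ := by
    simp [← Scheme.Hom.comp_preimage]
  refine ⟨k, (D.obj k.left).presheaf.map (homOfLE H2).op t', ?_⟩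
  have hb : c.pt.presheaf.map (homOfLE H1').op (c.pt.presheaf.map (homOfLE H1).op b) = b := by
    rw [← ConcreteCategory.comp_apply, ← CategoryTheory.Functor.map_comp]
    have h0 : (homOfLE H1).op ≫ (homOfLE H1').op = 𝟙 _ := Subsingleton.elim _ _
    rw [h0, CategoryTheory.Functor.map_id]
    rfl
  have hF : ((opensCone D c i W).π.app k).appTop =
      (c.π.app k.left).appLE ((D.map k.hom ⁻¹ᵁ W).ι ''ᵁ ⊤) ((c.π.app i ⁻¹ᵁ W).ι ''ᵁ ⊤) H3 := by
    change Scheme.Hom.app ((c.π.app k.left).resLE (D.map k.hom ⁻¹ᵁ W) (c.π.app i ⁻¹ᵁ W) _) ⊤ = _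
    exact (Scheme.Hom.app_eq_appLE _).trans (Scheme.Hom.resLE_appLE _ _ _ _ _)
  have hk2 : (c.π.app k.left).appLE ((D.map k.hom ⁻¹ᵁ W).ι ''ᵁ ⊤) ((c.π.app i ⁻¹ᵁ W).ι ''ᵁ ⊤) H3 t' =
      c.pt.presheaf.map (homOfLE H1).op b := by
    rw [← hF]
    exact hk
  have e1 : (D.obj k.left).presheaf.map (homOfLE H2).op ≫
      (c.π.app k.left).appLE (D.map k.hom ⁻¹ᵁ W) (c.π.app i ⁻¹ᵁ W)
        (by rw [← Scheme.Hom.comp_preimage, c.w]) =
      (c.π.app k.left).appLE ((D.map k.hom ⁻¹ᵁ W).ι ''ᵁ ⊤) ((c.π.app i ⁻¹ᵁ W).ι ''ᵁ ⊤) H3 ≫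
        c.pt.presheaf.map (homOfLE H1').op :=
    (Scheme.Hom.map_appLE _ _ _).trans (Scheme.Hom.appLE_map _ _ _).symm
  have e2 := ConcreteCategory.congr_hom e1 t'
  rw [ConcreteCategory.comp_apply, ConcreteCategory.comp_apply, hk2, hb] at e2
  exact e2

/-! ### the main algebraic step -/

section main

variable {S : Scheme.{u}} {J : Type u} [SmallCategory J]

theorem isIso_of_data [IsFiltered J] (A : J ⥤ QCAlg S) (c : Cocone A) (hc : IsColimit c)
    {L : Scheme.{u}} (p : ∀ j, L ⟶ (A.obj j).spec)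
    (hp : ∀ {j k : J} (f : j ⟶ k), p k ≫ QCAlg.specMap (A.map f) = p j)
    (σ : L ⟶ S) [IsAffineHom σ] (hσ : ∀ j, p j ≫ (A.obj j).π = σ)
    (κ : c.pt.spec ⟶ L) (hκ : ∀ j, κ ≫ p j = QCAlg.specMap (c.ι.app j))
    (hsurj : ∀ (U : S.Opens), IsAffineOpen U → ∀ b : Γ(L, σ ⁻¹ᵁ U),
      ∃ (j : J) (t : Γ((A.obj j).spec, (A.obj j).π ⁻¹ᵁ U)),
        (p j).appLE ((A.obj j).π ⁻¹ᵁ U) (σ ⁻¹ᵁ U) (by rw [← hσ j]; exact le_rfl) t = b) :
    IsIso κ := by
  classical
  obtain ⟨j₀⟩ := IsFiltered.nonempty (C := J)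
  have wκ : κ ≫ σ = c.pt.π := by
    rw [← hσ j₀, ← Category.assoc, hκ, QCAlg.specMap_π]
    rfl
  -- the competitor cocone
  let cc : Cocone A :=
    { pt := QCAlg.directImage σ
      ι :=
        { app := fun j => ell (A.obj j) σ (p j) (hσ j)
          naturality := fun j k f => by
            change A.map f ≫ ell (A.obj k) σ (p k) (hσ k) = ell (A.obj j) σ (p j) (hσ j) ≫ 𝟙 _
            rw [Category.comp_id, ell_natural, ell_congr (A.obj j) σ (hp f)] } }
  obtain ⟨χ, hχ⟩ : ∃ χ : c.pt ⟶ QCAlg.directImage σ,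
      ∀ j, c.ι.app j ≫ χ = ell (A.obj j) σ (p j) (hσ j) := ⟨hc.desc cc, fun j => hc.fac cc j⟩
  obtain ⟨θ, hθe⟩ : ∃ θ : QCAlg.directImage σ ⟶ c.pt, θ = theta c.pt σ κ wκ := ⟨_, rfl⟩
  have hθ : ∀ j, ell (A.obj j) σ (p j) (hσ j) ≫ θ = c.ι.app j := fun j => by
    rw [hθe]
    exact ell_theta (c.ι.app j) σ (p j) (hσ j) κ wκ (hκ j)
  have hχθ : χ ≫ θ = 𝟙 c.pt := by
    apply hc.hom_ext
    intro j
    rw [← Category.assoc, hχ, hθ, Category.comp_id]
  haveI hgi : ∀ B : QCAlg S, IsIso B.gammaMap := fun B => Groth.Agent.S8255.result B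
  haveI : IsAffineHom (κ ≫ σ) := by rw [wκ]; infer_instance
  haveI : IsAffineHom κ := IsAffineHom.of_comp κ σ
  -- bijectivity of θ on affine opens
  have hbij : ∀ (U : S.Opens), IsAffineOpen U → IsIso (θ.hom.app (op U)) := by
    intro U hU
    rw [ConcreteCategory.isIso_iff_bijective]
    have hcomp : χ.hom.app (op U) ≫ θ.hom.app (op U) = 𝟙 _ := by
      have := congrArg (fun m : c.pt ⟶ c.pt => m.hom.app (op U)) hχθ
      exact this
    constructor
    · rw [injective_iff_map_eq_zero]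
      intro b hb
      obtain ⟨j, t, ht⟩ := hsurj U hU b
      have h0 : (A.obj j).gammaMap.app (op U) ≫ (inv (A.obj j).gammaMap).app (op U) = 𝟙 _ := by
        have := congrArg (fun m => m.app (op U)) (IsIso.hom_inv_id (A.obj j).gammaMap)
        exact this
      have h00 := ConcreteCategory.congr_hom h0 t
      rw [ConcreteCategory.comp_apply] at h00
      have hell : (ell (A.obj j) σ (p j) (hσ j)).hom.app (op U)
          ((A.obj j).gammaMap.app (op U) t) = b := by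
        change (pushHom (A.obj j).π σ (p j) (hσ j)).app (op U)
          ((inv (A.obj j).gammaMap).app (op U) ((A.obj j).gammaMap.app (op U) t)) = b
        rw [h00]
        exact ht
      have h1 : (c.ι.app j).hom.app (op U) ((A.obj j).gammaMap.app (op U) t) = 0 := by
        have := congrArg (fun m : A.obj j ⟶ c.pt =>
          m.hom.app (op U) ((A.obj j).gammaMap.app (op U) t)) (hθ j)
        refine this.symm.trans ?_
        change θ.hom.app (op U) ((ell (A.obj j) σ (p j) (hσ j)).hom.app (op U)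
          ((A.obj j).gammaMap.app (op U) t)) = 0
        rw [hell]
        exact hb
      rw [← hell]
      have := congrArg (fun m : A.obj j ⟶ QCAlg.directImage σ =>
        m.hom.app (op U) ((A.obj j).gammaMap.app (op U) t)) (hχ j)
      refine this.symm.trans ?_
      change χ.hom.app (op U) ((c.ι.app j).hom.app (op U)
        ((A.obj j).gammaMap.app (op U) t)) = 0
      rw [h1, map_zero]
    · intro x
      refine ⟨χ.hom.app (op U) x, ?_⟩
      rw [← ConcreteCategory.comp_apply, hcomp]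
      rfl
  -- κ is an isomorphism over the preimage of every affine open
  have hres : ∀ U : S.affineOpens, IsIso (κ ∣_ (σ ⁻¹ᵁ U.1)) := by
    intro U
    have hU : IsAffineOpen U.1 := U.2
    rw [isIso_morphismRestrict_iff_isIso_app (f := κ) (hU.preimage σ)]
    have h1 : θ.hom.app (op U.1) =
        (pushHom σ c.pt.π κ wκ).app (op U.1) ≫ c.pt.gammaMap.app (op U.1) := by
      rw [hθe]; rfl
    haveI : IsIso ((pushHom σ c.pt.π κ wκ).app (op U.1) ≫ c.pt.gammaMap.app (op U.1)) := by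
      rw [← h1]; exact hbij U.1 hU
    have h2 : IsIso ((pushHom σ c.pt.π κ wκ).app (op U.1)) :=
      IsIso.of_isIso_comp_right _ (c.pt.gammaMap.app (op U.1))
    have hV : c.pt.π ⁻¹ᵁ U.1 = κ ⁻¹ᵁ (σ ⁻¹ᵁ U.1) := by
      rw [← Scheme.Hom.comp_preimage, wκ]
    have h3 : IsIso (κ.appLE (σ ⁻¹ᵁ U.1) (c.pt.π ⁻¹ᵁ U.1) (by rw [hV])) := h2
    have h4 := (Scheme.Hom.appLE_congr κ (by rw [hV]) rfl hV (fun f => IsIso f)).mp h3
    rwa [Scheme.Hom.appLE_eq_app] at h4
  have hsup : ⨆ U : S.affineOpens, σ ⁻¹ᵁ U.1 = ⊤ := by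
    rw [← Scheme.Hom.preimage_iSup, iSup_affineOpens_eq_top]
    rfl
  exact IsZariskiLocalAtTarget.of_iSup_eq_top (P := MorphismProperty.isomorphisms Scheme)
    (fun U : S.affineOpens => σ ⁻¹ᵁ U.1) hsup hres

variable (A : J ⥤ QCAlg S)

/-- The diagram of relative spectra. -/
noncomputable abbrev D : Jᵒᵖ ⥤ Scheme.{u} where
  obj j := (A.obj j.unop).spec
  map f := QCAlg.specMap (A.map f.unop)
  map_id j := by
    change QCAlg.specMap (A.map (𝟙 j.unop)) = _
    rw [A.map_id]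
    exact specMap_id' _
  map_comp f g := by
    change QCAlg.specMap (A.map (g.unop ≫ f.unop)) = _
    rw [A.map_comp]
    exact specMap_comp' _ _

instance D_affine {j k : Jᵒᵖ} (f : j ⟶ k) : IsAffineHom ((D A).map f) := by
  have h2 : IsAffineHom (QCAlg.specMap (A.map f.unop)) := by
    haveI : IsAffineHom (QCAlg.specMap (A.map f.unop) ≫ (A.obj k.unop).π) := by
      rw [QCAlg.specMap_π]; infer_instance
    exact IsAffineHom.of_comp _ (A.obj k.unop).π
  exact h2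

/-- The cone of relative spectra attached to a cocone of algebras. -/
noncomputable abbrev coneC (c : Cocone A) : Cone (D A) where
  pt := c.pt.spec
  π :=
    { app := fun j => QCAlg.specMap (c.ι.app j.unop)
      naturality := fun j k f => by
        change 𝟙 _ ≫ QCAlg.specMap (c.ι.app k.unop) =
          QCAlg.specMap (c.ι.app j.unop) ≫ QCAlg.specMap (A.map f.unop)
        rw [Category.id_comp, ← specMap_comp', c.w] }

theorem kappa_isIso [IsFiltered J] (c : Cocone A) (hc : IsColimit c) [HasLimit (D A)] :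
    IsIso (limit.lift (D A) (coneC A c)) := by
  obtain ⟨j₀⟩ := IsFiltered.nonempty (C := J)
  have hpaff : ∀ j : J, IsAffineHom (limit.π (D A) (op j)) := fun j =>
    isAffineHom_π_app (D A) (limit.cone (D A)) (limit.isLimit (D A)) (op j)
  haveI := hpaff j₀
  have hp : ∀ {j k : J} (f : j ⟶ k),
      limit.π (D A) (op k) ≫ QCAlg.specMap (A.map f) = limit.π (D A) (op j) := fun f =>
    limit.w (D A) f.op
  have hσ : ∀ j, limit.π (D A) (op j) ≫ (A.obj j).π =
      limit.π (D A) (op j₀) ≫ (A.obj j₀).π := by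
    intro j
    rw [← hp (IsFiltered.leftToMax j₀ j), ← hp (IsFiltered.rightToMax j₀ j), Category.assoc,
      Category.assoc, QCAlg.specMap_π, QCAlg.specMap_π]
  refine isIso_of_data A c hc (fun j => limit.π (D A) (op j)) hp
    (limit.π (D A) (op j₀) ≫ (A.obj j₀).π) hσ _ (fun j => limit.lift_π (coneC A c) (op j)) ?_
  intro U hU b
  have hW : IsAffineOpen ((A.obj j₀).π ⁻¹ᵁ U) := hU.preimage (A.obj j₀).π
  obtain ⟨k, t, hk⟩ := exists_appLE_eq (D A) (limit.cone (D A)) (limit.isLimit (D A)) (op j₀)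
    ((A.obj j₀).π ⁻¹ᵁ U) hW b
  have hW' : (D A).map k.hom ⁻¹ᵁ ((A.obj j₀).π ⁻¹ᵁ U) = (A.obj k.left.unop).π ⁻¹ᵁ U := by
    rw [← Scheme.Hom.comp_preimage,
      show (D A).map k.hom ≫ (A.obj j₀).π = (A.obj k.left.unop).π from QCAlg.specMap_π _]
  refine ⟨k.left.unop, (A.obj k.left.unop).spec.presheaf.map (homOfLE hW'.ge).op t, ?_⟩
  rw [← ConcreteCategory.comp_apply, Scheme.Hom.map_appLE]
  exact hk

end main

/-- Let S be a scheme and (A_j) a filtered direct system of quasi-coherent O_S-algebras, indexed by a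
small filtered category, with a colimit cocone with vertex A. Write S_j = Spec(A_j) and S' = Spec(A)
for the relative spectra, and u_j : S' ⟶ S_j for the morphisms induced by the coprojections A_j ⟶ A.
Then (S', (u_j)) is a limit of the inverse system (S_j) in the category of all schemes (not only of
S-schemes): for every scheme T and every family of morphisms v_j : T ⟶ S_j compatible with the
transition morphisms, there is exactly one morphism w : T ⟶ S' whose composite with each u_j is v_j. -/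
theorem result {S : Scheme.{u}} {J : Type u} [SmallCategory J] [IsFiltered J]
    (A : J ⥤ RelSpec.QCAlg S) (c : Cocone A) (hc : IsColimit c)
    (T : Scheme.{u}) (v : ∀ j : J, T ⟶ (A.obj j).spec)
    (hv : ∀ (j j' : J) (φ : j ⟶ j'), v j' ≫ RelSpec.QCAlg.specMap (A.map φ) = v j) :
    ∃! w : T ⟶ c.pt.spec, ∀ j : J, w ≫ RelSpec.QCAlg.specMap (c.ι.app j) = v j := by
  classical
  haveI : HasLimit (D A) := Groth.Agent.Lib.Helper22.LimAffEx.hasLimit_of_isAffineHom (D A)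
  haveI hiso : IsIso (limit.lift (D A) (coneC A c)) := kappa_isIso A c hc
  have hκ : ∀ j : J, limit.lift (D A) (coneC A c) ≫ limit.π (D A) (op j) =
      QCAlg.specMap (c.ι.app j) := fun j => limit.lift_π (coneC A c) (op j)
  let coneT : Cone (D A) :=
    { pt := T
      π :=
        { app := fun j => v j.unop
          naturality := fun j k f => by
            change 𝟙 _ ≫ v k.unop = v j.unop ≫ QCAlg.specMap (A.map f.unop)
            rw [Category.id_comp, hv] } }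
  have h1 : ∀ j : J, inv (limit.lift (D A) (coneC A c)) ≫ QCAlg.specMap (c.ι.app j) =
      limit.π (D A) (op j) := by
    intro j
    rw [IsIso.inv_comp_eq]
    exact (hκ j).symm
  refine ⟨limit.lift (D A) coneT ≫ inv (limit.lift (D A) (coneC A c)), ?_, ?_⟩
  · intro j
    rw [Category.assoc, h1]
    exact limit.lift_π coneT (op j)
  · intro w hw
    rw [IsIso.eq_comp_inv]
    apply limit.hom_ext
    intro j
    rw [Category.assoc, hκ j.unop, limit.lift_π]
    exact hw j.unop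

end Groth.Agent.S5876
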