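import Groth.Statements.S5886
import Groth.Agent.Lib.Helper3ConsOfLocus
import Groth.Agent.Lib.Helper12QuasiFiniteDescent
import Groth.Agent.S3445
import Mathlib

set_option autoImplicit false
universe u
open CategoryTheory AlgebraicGeometry
open ConsProp

namespace Groth.Agent.S5886

open Groth.Agent.Lib.Helper3.ConsOfLocus in
theorem aux : ConsProp.IsCons.{u} (fun Y T g => AlgebraicGeometry.LocallyQuasiFinite g) := by
  haveI := Groth.Agent.Lib.Helper12.descendsAlong_locallyQuasiFinite.{u}
  exact isCons_of @LocallyQuasiFinite (fun f g => Groth.Agent.S3445.result f g)

open Groth.Agent.Lib.Helper3.ConsOfLocus in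

/-- The property of an algebraic k-scheme X of being finite over k is a constructible property of
algebraic schemes (invariant under extension of the base field; over an integral Noetherian base,
for a family of finite type, the set of points with finite fibre or its complement contains a
nonempty open subset). -/
theorem result :
    ConsProp.IsCons (fun Y T g => AlgebraicGeometry.IsFinite g) := by
  refine isCons_congr aux ?_
  intro Y T g _ _ _ _
  exact ⟨fun h => IsFinite.of_locallyQuasiFinite g, fun h => inferInstance⟩

end Groth.Agent.S5886
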