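import Groth.Statements.S5889
import Groth.Agent.Lib.Helper3ConsOfLocus
import Groth.Agent.Lib.Helper12QuasiFiniteDescent
import Groth.Agent.S3445
import Mathlib

set_option autoImplicit false
universe u
open CategoryTheory AlgebraicGeometry
open ConsProp

namespace Groth.Agent.S5889

open Groth.Agent.Lib.Helper3.ConsOfLocus in
theorem aux : ConsProp.IsConsMor.{u} (fun X Y T f g => AlgebraicGeometry.LocallyQuasiFinite f) := by
  haveI := Groth.Agent.Lib.Helper12.descendsAlong_locallyQuasiFinite.{u}
  exact isConsMor_of @LocallyQuasiFinite (fun f g => Groth.Agent.S3445.result f g)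

open Groth.Agent.Lib.Helper3.ConsOfLocus in

/-- Being quasi-finite (locally of finite type, quasi-compact, with discrete fibres) is a constructible
property of morphisms of algebraic schemes. -/
theorem result :
    ConsProp.IsConsMor
      (fun X Y T f g => AlgebraicGeometry.LocallyOfFiniteType f ∧ AlgebraicGeometry.QuasiCompact f ∧
        AlgebraicGeometry.LocallyQuasiFinite f) := by
  refine isConsMor_congr aux ?_
  intro X Y T f g _ _ _ _ _ _
  haveI : IsLocallyNoetherian Y := LocallyOfFiniteType.isLocallyNoetherian g
  haveI : LocallyOfFiniteType f := locallyOfFiniteType_of_comp f g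
  haveI : QuasiCompact f := QuasiCompact.of_comp f g
  exact ⟨fun h => ⟨inferInstance, inferInstance, h⟩, fun h => h.2.2⟩

end Groth.Agent.S5889
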