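import Groth.Statements.S5890
import Groth.Agent.Lib.Helper3ConsOfLocus
import Groth.Agent.S3444
import Mathlib

set_option autoImplicit false
universe u
open CategoryTheory AlgebraicGeometry
open ConsProp

namespace Groth.Agent.S5890

open Groth.Agent.Lib.Helper3.ConsOfLocus in

/-- Being radicial (universally injective) is a constructible property of morphisms of algebraic
schemes. -/
theorem result :
    ConsProp.IsConsMor (fun X Y T f g => AlgebraicGeometry.UniversallyInjective f) := by
  exact isConsMor_of @UniversallyInjective (fun f g => Groth.Agent.S3444.result f g)

end Groth.Agent.S5890
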