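import Groth.Statements.S5903
import Mathlib
import Groth.Agent.Lib.Helper2PairCons4
import Groth.Agent.Lib.Helper2PairCons5
import Groth.Agent.S2583

set_option autoImplicit false
universe u
open CategoryTheory AlgebraicGeometry
open ConsPropPair

namespace Groth.Agent.S5903

theorem limDescends_locallyQuasiFinite :
    Groth.Agent.Lib.Helper3.IndCons.LimDescends (@LocallyQuasiFinite : MorphismProperty Scheme.{u}) := by
  intro I _ _ D c hc _ i₀ _ _ X₀ Y₀ f₀ g₀ _ _ _ _ _ _ X Y f g qY qX hY hX hf
  haveI : LocallyQuasiFinite f := hf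
  exact Groth.Agent.S2583.result D c hc i₀ f₀ g₀ f g qY qX hY hX

theorem limDescends_quasiFinite :
    Groth.Agent.Lib.Helper3.IndCons.LimDescends
      (@LocallyOfFiniteType ⊓ (@QuasiCompact ⊓ @LocallyQuasiFinite) : MorphismProperty Scheme.{u}) :=
  Groth.Agent.Lib.Helper2.PairCons5.limDescends_inf _ _
    Groth.Agent.Lib.Helper2.PairCons5.limDescends_locallyOfFiniteType
    (Groth.Agent.Lib.Helper2.PairCons5.limDescends_inf _ _
      Groth.Agent.Lib.Helper2.PairCons5.limDescends_quasiCompact limDescends_locallyQuasiFinite)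

/-- Case of the property of being quasi-finite: let P(X, Y, k) be the relation between a field k and two
algebraic k-schemes X, Y: there are an extension field k′ of k (a one-point integral scheme T′ over
T = Spec k) and a k′-morphism g : X_(k′) ⟶ Y_(k′) between the base changes (cartesian squares over
T′ ⟶ T) which is quasi-finite (locally of finite type, quasi-compact, with discrete fibres). Then P
is an ind-constructible property of pairs of algebraic schemes. -/
theorem result :
    ConsPropPair.IsIndConsPair
      (fun X Y T gX gY => ∃ (T' X' Y' : Scheme.{u}) (h : T' ⟶ T) (gX' : X' ⟶ T') (gY' : Y' ⟶ T')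
        (eX : X' ⟶ X) (eY : Y' ⟶ Y), IsIntegral T' ∧ Subsingleton ↥T' ∧
          IsPullback eX gX' gX h ∧ IsPullback eY gY' gY h ∧
            ∃ g : X' ⟶ Y', g ≫ gY' = gX' ∧ (AlgebraicGeometry.LocallyOfFiniteType g ∧ AlgebraicGeometry.QuasiCompact g ∧
              AlgebraicGeometry.LocallyQuasiFinite g)) := by
  exact Groth.Agent.Lib.Helper2.PairCons4.isIndConsPair_pairProp
    (@LocallyOfFiniteType ⊓ (@QuasiCompact ⊓ @LocallyQuasiFinite) : MorphismProperty Scheme.{u})
    limDescends_quasiFinite

end Groth.Agent.S5903
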