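import Groth.Statements.S5908
import Groth.Agent.Lib.Helper3LocusPair
import Groth.Agent.Lib.Helper3IndConsLim
import Groth.Agent.S5907
import Mathlib

set_option autoImplicit false
universe u
open CategoryTheory AlgebraicGeometry
open ConsPropPair

namespace Groth.Agent.S5908

open Groth.Agent.Lib.Helper3.LocusBC Groth.Agent.Lib.Helper3.IndConsLim CategoryTheory.Limits in

/-- Form for relations between two schemes: let S = lim S_i be a cofiltered limit of schemes with affine
transition maps, i₀ an index with S_{i₀} quasi-compact, u₀ : X₀ ⟶ S_{i₀} and v₀ : Y₀ ⟶ S_{i₀}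
morphisms of finite presentation (locally of finite presentation, quasi-compact and
quasi-separated), and u : X ⟶ S, v : Y ⟶ S their base changes along S ⟶ S_{i₀} (pullback squares).
Let P(X, Y, k) be an ind-constructible property of pairs of algebraic schemes. Then P holds for the
pair of fibres (X_s, Y_s) over κ(s) for every point s of S if and only if there is an index j over
i₀ such that, for the base changes u_j : X_j ⟶ S_j and v_j : Y_j ⟶ S_j of u₀ and v₀, P holds for the
pair of fibres over every point of S_j. (The published statement is for relations on morphisms and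
is extended there, with the same proof, to relations involving several schemes; this row is that
form. With the relation of being geometrically isomorphic it says: all pairs of fibres X_s, Y_s are
geometrically isomorphic if and only if this already holds at some stage.) -/
theorem result
    {P : ∀ ⦃X Y T : Scheme.{u}⦄, (X ⟶ T) → (Y ⟶ T) → Prop} (hP : ConsPropPair.IsIndConsPair P)
    {I : Type u} [SmallCategory I] [IsCofiltered I]
    (D : I ⥤ Scheme.{u}) (c : Limits.Cone D) (hc : Limits.IsLimit c)
    [∀ (i j : I) (a : i ⟶ j), IsAffineHom (D.map a)] (i₀ : I) [CompactSpace ↥(D.obj i₀)]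
    {X₀ Y₀ : Scheme.{u}} (u₀ : X₀ ⟶ D.obj i₀) (v₀ : Y₀ ⟶ D.obj i₀)
    [LocallyOfFinitePresentation u₀] [QuasiCompact u₀] [QuasiSeparated u₀]
    [LocallyOfFinitePresentation v₀] [QuasiCompact v₀] [QuasiSeparated v₀]
    {X Y : Scheme.{u}} (u : X ⟶ c.pt) (v : Y ⟶ c.pt) (qX : X ⟶ X₀) (qY : Y ⟶ Y₀)
    (hX : IsPullback qX u u₀ (c.π.app i₀)) (hY : IsPullback qY v v₀ (c.π.app i₀)) :
    (∀ s : ↥c.pt, s ∈ ConsPropPair.locusPair P u v) ↔
      ∃ (j : I) (φ : j ⟶ i₀) (Xj Yj : Scheme.{u}) (uj : Xj ⟶ D.obj j) (vj : Yj ⟶ D.obj j)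
        (pX : Xj ⟶ X₀) (pY : Yj ⟶ Y₀), IsPullback pX uj u₀ (D.map φ) ∧ IsPullback pY vj v₀ (D.map φ) ∧
          ∀ t : ↥(D.obj j), t ∈ ConsPropPair.locusPair P uj vj := by
  have hE := Groth.Agent.S5907.result hP u₀ v₀
  have key := forall_mem_iff_eventually D c hc i₀ hE
  have h0 : ConsPropPair.locusPair P u v = c.π.app i₀ ⁻¹' ConsPropPair.locusPair P u₀ v₀ :=
    locusPair_eq_preimage hP.1 hX hY
  constructor
  · intro h
    obtain ⟨j, φ, hj⟩ := key.mp (fun s => by
      have := h s
      rw [h0] at this
      exact this)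
    refine ⟨j, φ, pullback u₀ (D.map φ), pullback v₀ (D.map φ), pullback.snd _ _, pullback.snd _ _,
      pullback.fst _ _, pullback.fst _ _, IsPullback.of_hasPullback _ _,
      IsPullback.of_hasPullback _ _, fun t => ?_⟩
    rw [locusPair_eq_preimage hP.1 (IsPullback.of_hasPullback u₀ (D.map φ))
      (IsPullback.of_hasPullback v₀ (D.map φ))]
    exact hj t
  · rintro ⟨j, φ, Xj, Yj, uj, vj, pX, pY, h1, h2, h3⟩ s
    rw [h0]
    refine key.mpr ⟨j, φ, fun t => ?_⟩ s
    have := h3 t
    rw [locusPair_eq_preimage hP.1 h1 h2] at this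
    exact this

end Groth.Agent.S5908
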