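import Groth.Statements.S5912
import Mathlib
import Groth.Agent.Lib.Helper5InjFlat2
import Groth.Agent.Lib.Helper5AssFlat

set_option autoImplicit false
universe u
open TensorProduct
open EGA43

namespace Groth.Agent.S5912

/-- Let A be a Noetherian ring, J an ideal of A and M an A-module which is ideally separated for the
J-adic topology (for every ideal a of A the module a ⊗_A M is J-adically separated), and suppose
every quotient J^k/J^{k+1} is a flat (A/J)-module (the associated graded ring of A along J is flat
over A/J). Then M is flat if and only if (A/J) ⊗_A M is flat over A/J and M_p is flat over A_p for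
every associated prime p of the A-module A/J. -/
theorem result {A : Type u} [CommRing A] [IsNoetherianRing A]
    (J : Ideal A) (M : Type u) [AddCommGroup M] [Module A M]
    (hsep : ∀ a : Ideal A, IsHausdorff J (↥a ⊗[A] M))
    (hgr : ∀ k : ℕ, Module.Flat (A ⧸ J) ((A ⧸ J) ⊗[A] ↥(J ^ k))) :
    Module.Flat A M ↔
      Module.Flat (A ⧸ J) ((A ⧸ J) ⊗[A] M) ∧
        ∀ q : associatedPrimes A (A ⧸ J),
          haveI : q.1.IsPrime := IsAssociatedPrime.isPrime q.2
          Module.Flat (Localization.AtPrime q.1) (LocalizedModule q.1.primeCompl M) := by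
  constructor
  · intro hflat
    exact ⟨inferInstance, fun q => inferInstance⟩
  · rintro ⟨h1, h2⟩
    apply Groth.Agent.Lib.Helper5.flat_of_isHausdorff_of_forall_exists_le_pow M J hsep
    intro n
    refine ⟨J ^ n, le_rfl, ?_⟩
    have : Finite ↥(associatedPrimes A (A ⧸ J)) :=
      Set.finite_coe_iff.mpr (associatedPrimes.finite A (A ⧸ J))
    have h2' : ∀ q : associatedPrimes A (A ⧸ J), Module.Flat (Localization.AtPrime q.1)
        (Localization.AtPrime q.1 ⊗[A] M) := by
      intro q
      have e : (Localization.AtPrime q.1) ⊗[A] M ≃ₗ[Localization.AtPrime q.1]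
          LocalizedModule q.1.primeCompl M :=
        (IsLocalizedModule.isBaseChange q.1.primeCompl (Localization.AtPrime q.1)
          (LocalizedModule.mkLinearMap q.1.primeCompl M)).equiv
      have := h2 q
      exact Module.Flat.of_linearEquiv e
    refine Groth.Agent.Lib.Helper5.flat_quotient_of_flat_of_forall_mem M J _ n le_rfl
      (fun q : associatedPrimes A (A ⧸ J) => Localization.AtPrime q.1)
      (fun q => (J ^ n).map (algebraMap A (Localization.AtPrime q.1))) ?_ ?_ h1 h2'
    · intro q
      exact Ideal.le_comap_map
    · intro a ha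
      by_contra hcon
      have hx : (Ideal.Quotient.mk (J ^ n) a) ≠ 0 := by
        rwa [Ne, Ideal.Quotient.eq_zero_iff_mem]
      obtain ⟨P, hP, hle⟩ := exists_le_isAssociatedPrime_of_isNoetherianRing
        (R := A) (Ideal.Quotient.mk (J ^ n) a) hx
      have hPmem : P ∈ associatedPrimes A (A ⧸ J) :=
        Groth.Agent.Lib.Helper5.associatedPrimes_quotient_pow_subset J hgr n hP
      have h3 := ha ⟨P, hPmem⟩
      have : P.IsPrime := hP.isPrime
      change algebraMap A (Localization.AtPrime P) a ∈
        (J ^ n).map (algebraMap A (Localization.AtPrime P)) at h3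
      rw [IsLocalization.mem_map_algebraMap_iff P.primeCompl] at h3
      obtain ⟨⟨⟨i, hi⟩, ⟨s, hs⟩⟩, h4⟩ := h3
      rw [← map_mul] at h4
      obtain ⟨⟨t, ht⟩, h5⟩ := (IsLocalization.eq_iff_exists P.primeCompl
        (Localization.AtPrime P)).mp h4
      have h6 : t * s ∈ (⊥ : Submodule A (A ⧸ J ^ n)).colon {Ideal.Quotient.mk (J ^ n) a} := by
        rw [Submodule.mem_colon_singleton, Submodule.mem_bot]
        change (t * s) • Ideal.Quotient.mk (J ^ n) a = 0
        rw [← Ideal.Quotient.mk_eq_mk, ← Submodule.Quotient.mk_smul, Ideal.Quotient.mk_eq_mk,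
          Ideal.Quotient.eq_zero_iff_mem, smul_eq_mul]
        have h7 : t * s * a = t * i := by
          simp only at h5
          rw [← h5]
          ring
        rw [h7]
        exact Ideal.mul_mem_left _ _ hi
      have h8 := hle h6
      rcases (Ideal.IsPrime.mem_or_mem inferInstance h8) with h9 | h9
      · exact ht h9
      · exact hs h9

end Groth.Agent.S5912
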