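import Groth.Statements.S5913
import Mathlib
import Groth.Agent.Lib.Helper10PunctJacSch
-- import your own Groth.Agent.* helpers here

set_option autoImplicit false
universe u
open CategoryTheory AlgebraicGeometry
open EGA43

namespace Groth.Agent.S5913

/-- In the locally Noetherian form: a locally Noetherian scheme X is Jacobson if and only if it has no
subscheme isomorphic to the spectrum of a semi-local integral domain of dimension 1, i.e. there is
no immersion Spec R ⟶ X with R an integral domain having finitely many maximal ideals and Krull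
dimension 1. -/
theorem result (X : Scheme.{u}) [IsLocallyNoetherian X] :
    JacobsonSpace X ↔
      ∀ (R : CommRingCat.{u}) [IsDomain R] (i : Spec R ⟶ X) [IsImmersion i],
        ¬ (Finite (MaximalSpectrum R) ∧ ringKrullDim R = 1) := by
  classical
  constructor
  · intro hJ R _ i _ ⟨hfin, hdim⟩
    -- Spec R is Jacobson
    have h1 : JacobsonSpace ↥(i.coborderRange.toScheme) :=
      JacobsonSpace.of_isOpenEmbedding (i.coborderRange.ι).isOpenEmbedding
    have h2 : JacobsonSpace ↥(AlgebraicGeometry.Spec R) :=
      JacobsonSpace.of_isClosedEmbedding (i.liftCoborder).isClosedEmbedding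
    have h3 : IsJacobsonRing R := PrimeSpectrum.isJacobsonRing_iff_jacobsonSpace.mpr h2
    have hfield : IsField R :=
      Groth.Agent.Lib.Helper10.PunctJac.isField_of_isJacobsonRing_of_finite_maximalSpectrum
    rw [ringKrullDim_eq_zero_of_isField hfield] at hdim
    exact zero_ne_one hdim
  · intro H
    rw [jacobsonSpace_iff_locallyClosed]
    intro Z hZne hZlc
    by_contra hcon
    obtain ⟨z, hzZ, hzcl⟩ :=
      Groth.Agent.Lib.Helper10.PunctJac.exists_closure_inter_subset_singleton X hZlc hZne
    have hlc : IsLocallyClosed ({z} : Set X) := by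
      have : ({z} : Set X) = closure {z} ∩ Z := by
        apply Set.Subset.antisymm
        · rintro _ rfl; exact ⟨subset_closure rfl, hzZ⟩
        · exact hzcl
      rw [this]; exact isClosed_closure.isLocallyClosed.inter hZlc
    have hznc : ¬ IsClosed ({z} : Set X) := fun hc => hcon ⟨z, hzZ, hc⟩
    -- a proper specialization
    have : ∃ w, z ⤳ w ∧ w ≠ z := by
      by_contra hno
      push Not at hno
      apply hznc
      rw [← closure_subset_iff_isClosed]
      intro w hw
      exact hno w (specializes_iff_mem_closure.mpr hw)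
    obtain ⟨w, hzw, hwz⟩ := this
    obtain ⟨R₀, f, hopen, w', rfl, hnoeth⟩ :=
      Groth.Agent.Lib.Helper10.PunctJac.exists_affine_chart X w
    have hf : Topology.IsOpenEmbedding f := f.isOpenEmbedding
    obtain ⟨z', rfl⟩ : z ∈ Set.range f := hzw.mem_open hf.isOpen_range ⟨w', rfl⟩
    have h1 : z' ⤳ w' := hf.isInducing.specializes_iff.mp hzw
    have hne' : w' ≠ z' := fun h => hwz (by rw [h])
    have hlc' : IsLocallyClosed ({z'} : Set (AlgebraicGeometry.Spec R₀)) := by
      have := hlc.preimage hf.continuous
      rwa [← Set.image_singleton, Set.preimage_image_eq _ hf.injective] at this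
    obtain ⟨g, hg, hgall⟩ :=
      Groth.Agent.Lib.Helper10.PunctJac.exists_basicOpen_of_isLocallyClosed_singleton
        (R := R₀) hlc'
    let p : Ideal R₀ := PrimeSpectrum.asIdeal (R := R₀) z'
    haveI hpprime : p.IsPrime := PrimeSpectrum.isPrime (R := R₀) z'
    have hle : p ≤ PrimeSpectrum.asIdeal (R := R₀) w' :=
      (PrimeSpectrum.le_iff_specializes (R := R₀) z' w').mpr h1
    have hlt : p < PrimeSpectrum.asIdeal (R := R₀) w' :=
      lt_of_le_of_ne hle (fun heq => hne' (PrimeSpectrum.ext (R := R₀) heq.symm))
    haveI : (PrimeSpectrum.asIdeal (R := R₀) w').IsPrime := PrimeSpectrum.isPrime (R := R₀) w'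
    have hfne : (Ideal.Quotient.mk p g) ≠ 0 := by
      rw [Ne, Ideal.Quotient.eq_zero_iff_mem]; exact hg
    have hall := Groth.Agent.Lib.Helper10.PunctJac.mk_mem_of_forall_eq (p := p) hgall
    haveI : IsDomain (CommRingCat.of (R₀ ⧸ p)) := (inferInstance : IsDomain (R₀ ⧸ p))
    refine H (CommRingCat.of (R₀ ⧸ p))
      (AlgebraicGeometry.Spec.map (CommRingCat.ofHom (Ideal.Quotient.mk p)) ≫ f) ⟨?_, ?_⟩
    · have hfin := Groth.Agent.Lib.Helper10.PunctJac.finite_primes_of_forall_mem hfne hall
      haveI : Finite {q : Ideal (R₀ ⧸ p) | q.IsPrime} := hfin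
      exact Finite.of_injective
        (fun m : MaximalSpectrum (R₀ ⧸ p) => (⟨m.asIdeal, m.isMaximal.isPrime⟩ :
          {q : Ideal (R₀ ⧸ p) | q.IsPrime}))
        (fun m m' h => by
          have := congrArg Subtype.val h
          exact MaximalSpectrum.ext this)
    · apply le_antisymm
      · exact Groth.Agent.Lib.Helper10.PunctJac.ringKrullDim_le_one_of_forall_mem hfne hall
      · exact Groth.Agent.Lib.Helper10.PunctJac.one_le_ringKrullDim_quotient hlt

end Groth.Agent.S5913
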