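import Groth.Statements.S5915
-- import your own Groth.Agent.* helpers here
import Mathlib
import Groth.Agent.S4857
import Groth.Agent.Lib.Helper26FinInjTop

set_option autoImplicit false
universe u
open CategoryTheory AlgebraicGeometry
open EGA43

namespace Groth.Agent.S5915

set_option linter.style.haveILetI false

open Groth.Agent.Lib.Helper2.FlatOver Groth.Agent.Lib.Helper2.PullbackSec
  Groth.Agent.Lib.Helper26.FlatLim Groth.Agent.Lib.Helper26.FinInjTop

open CategoryTheory.Limits in
/-- Let Y be locally Noetherian, f : X ⟶ Y locally of finite type, F a coherent O_X-module, x a point of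
X and y = f x. Let φ : O_{Y,y} ⟶ A' be an injective ring homomorphism which is finite (A' finitely
generated as an O_{Y,y}-module), Y' = Spec A' ⟶ Y the induced Y-scheme, X' = X ×_Y Y' and F' the
pullback of F to X'. Then F is f-flat at x if and only if F' is flat over Y' at every point of X'
lying over x and over a closed point of Y'. (The published statement treats more generally a Zariski
ring A' whose radical pulls back to the maximal ideal and whose map on completions is injective;
this row is the case of a finite algebra with injective structure map, in which those conditions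
hold.) -/
theorem result {X Y : Scheme.{u}} [IsLocallyNoetherian Y]
    (f : X ⟶ Y) [LocallyOfFiniteType f] (F : X.Modules) (hF : Coh.IsCoh F) (x : X)
    (A' : CommRingCat.{u}) (φ : Y.presheaf.stalk (f.base x) ⟶ A') (hfin : φ.hom.Finite)
    (hinj : Function.Injective φ.hom) :
    FlatMod.IsFlatOverAt f F x ↔
      ∀ x' : ↥(pullback f (Spec.map φ ≫ Y.fromSpecStalk (f.base x))), pullback.fst f (Spec.map φ ≫ Y.fromSpecStalk (f.base x)) x' = x →
        IsClosed ({pullback.snd f (Spec.map φ ≫ Y.fromSpecStalk (f.base x)) x'} : Set ↥(Spec A')) →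
          FlatMod.IsFlatOverAt (pullback.snd f (Spec.map φ ≫ Y.fromSpecStalk (f.base x))) ((Scheme.Modules.pullback (pullback.fst f (Spec.map φ ≫ Y.fromSpecStalk (f.base x)))).obj F) x' := by
  haveI : F.IsQuasicoherent := hF.1
  constructor
  · intro h x' hx' _
    refine isFlatOverAt_pullback_of_isPullback (IsPullback.of_hasPullback f _) F x' ?_
    have : (pullback.fst f (Spec.map φ ≫ Y.fromSpecStalk (f.base x))).base x' = x := hx'
    rw [this]
    exact h
  · intro H
    letI : Algebra ↑(Y.presheaf.stalk (f.base x)) ↑A' := φ.hom.toAlgebra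
    haveI : Module.Finite ↑(Y.presheaf.stalk (f.base x)) ↑A' := hfin
    haveI hloc : ∀ 𝔪 : MaximalSpectrum ↑A', IsLocalHom
        ((algebraMap ↑A' (Localization.AtPrime 𝔪.asIdeal)).comp φ.hom) :=
      fun 𝔪 => isLocalHom_comp_localization 𝔪.asIdeal
    refine Groth.Agent.S4857.result f F hF x
      (fun 𝔪 : MaximalSpectrum ↑A' => Localization.AtPrime 𝔪.asIdeal)
      (fun 𝔪 => (algebraMap ↑A' (Localization.AtPrime 𝔪.asIdeal)).comp φ.hom) ?_ ?_
    · intro N
      classical
      obtain ⟨t, K, h⟩ := exists_finset_iInf_pow_le (O := ↑(Y.presheaf.stalk (f.base x)))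
        (A' := ↑A') hinj N
      refine ⟨t.image (fun 𝔪 => (𝔪, K + 1)), ?_⟩
      rw [Finset.iInf_finset_image]
      refine le_trans ?_ h
      intro a ha
      rw [Ideal.mem_comap, Ideal.mem_iInf]
      intro 𝔪
      rw [Ideal.mem_iInf]
      intro h𝔪
      rw [Ideal.mem_iInf] at ha
      have h1 := ha 𝔪
      rw [Ideal.mem_iInf] at h1
      have h2 := h1 h𝔪
      rw [← comap_maximalIdeal_pow_localization 𝔪.asIdeal (K + 1) (Nat.succ_ne_zero K),
        Ideal.mem_comap]
      exact h2
    · intro 𝔪 x'' h1 h2
      have hvY : Spec.map (CommRingCat.ofHom (algebraMap ↑A' (Localization.AtPrime 𝔪.asIdeal))) ≫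
          (Spec.map φ ≫ Y.fromSpecStalk (f.base x)) =
          Spec.map (CommRingCat.ofHom
            ((algebraMap ↑A' (Localization.AtPrime 𝔪.asIdeal)).comp φ.hom)) ≫
            Y.fromSpecStalk (f.base x) := by
        rw [← Category.assoc, ← Spec.map_comp]
        rfl
      have hcond : pullback.fst f (Spec.map (CommRingCat.ofHom
            ((algebraMap ↑A' (Localization.AtPrime 𝔪.asIdeal)).comp φ.hom)) ≫
            Y.fromSpecStalk (f.base x)) ≫ f =
          (pullback.snd f (Spec.map (CommRingCat.ofHom
            ((algebraMap ↑A' (Localization.AtPrime 𝔪.asIdeal)).comp φ.hom)) ≫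
            Y.fromSpecStalk (f.base x)) ≫
            Spec.map (CommRingCat.ofHom (algebraMap ↑A' (Localization.AtPrime 𝔪.asIdeal)))) ≫
            (Spec.map φ ≫ Y.fromSpecStalk (f.base x)) := by
        rw [Category.assoc, hvY]
        exact pullback.condition
      let vX := pullback.lift _ _ hcond
      have hvX : vX ≫ pullback.fst f (Spec.map φ ≫ Y.fromSpecStalk (f.base x)) =
          pullback.fst f (Spec.map (CommRingCat.ofHom
            ((algebraMap ↑A' (Localization.AtPrime 𝔪.asIdeal)).comp φ.hom)) ≫
            Y.fromSpecStalk (f.base x)) := pullback.lift_fst _ _ _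
      have hv : vX ≫ pullback.snd f (Spec.map φ ≫ Y.fromSpecStalk (f.base x)) =
          pullback.snd f (Spec.map (CommRingCat.ofHom
            ((algebraMap ↑A' (Localization.AtPrime 𝔪.asIdeal)).comp φ.hom)) ≫
            Y.fromSpecStalk (f.base x)) ≫
            Spec.map (CommRingCat.ofHom (algebraMap ↑A' (Localization.AtPrime 𝔪.asIdeal))) :=
        pullback.lift_snd _ _ _
      have e1 : (pullback.fst f (Spec.map φ ≫ Y.fromSpecStalk (f.base x))) (vX x'') = x :=
        (congrArg (fun ψ : _ ⟶ X => ψ x'') hvX).trans h1
      have e2 : IsClosed ({(pullback.snd f (Spec.map φ ≫ Y.fromSpecStalk (f.base x))) (vX x'')} :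
          Set ↥(Spec A')) := by
        have h3 : (pullback.snd f (Spec.map φ ≫ Y.fromSpecStalk (f.base x))) (vX x'') =
            Spec.map (CommRingCat.ofHom (algebraMap ↑A' (Localization.AtPrime 𝔪.asIdeal)))
              (IsLocalRing.closedPoint (Localization.AtPrime 𝔪.asIdeal)) :=
          (congrArg (fun ψ : _ ⟶ Spec A' => ψ x'') hv).trans
            (congrArg (fun z => (Spec.map (CommRingCat.ofHom
              (algebraMap ↑A' (Localization.AtPrime 𝔪.asIdeal)))) z) h2)
        rw [h3]
        have h4 : (Spec.map (CommRingCat.ofHom (algebraMap ↑A' (Localization.AtPrime 𝔪.asIdeal)))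
              (IsLocalRing.closedPoint (Localization.AtPrime 𝔪.asIdeal))) =
            (⟨𝔪.asIdeal, inferInstance⟩ : PrimeSpectrum ↑A') := by
          apply PrimeSpectrum.ext
          exact IsLocalization.AtPrime.under_maximalIdeal (Localization.AtPrime 𝔪.asIdeal) 𝔪.asIdeal
        rw [h4]
        exact (PrimeSpectrum.isClosed_singleton_iff_isMaximal _).2 𝔪.isMaximal
      have hfl := H (vX x'') e1 e2
      exact isFlatOverAt_of_stage (IsPullback.of_hasPullback f _) (IsPullback.of_hasPullback f _)
        hvX hvY hv F x'' hfl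

end Groth.Agent.S5915
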