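import Groth.Statements.S5918
-- import your own Groth.Agent.* helpers here
import Mathlib
import Groth.Agent.S4856
import Groth.Agent.Lib.Helper26FlatLimC

set_option autoImplicit false
universe u
open CategoryTheory AlgebraicGeometry
open EGA43

namespace Groth.Agent.S5918

set_option linter.style.haveILetI false

open Groth.Agent.Lib.Helper2.FlatOver Groth.Agent.Lib.Helper2.PullbackSec

open CategoryTheory.Limits in
/-- Let A be an Artinian local ring, f : X ⟶ Spec A locally of finite type, F a coherent O_X-module and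
x a point of X. Let (g_i : Y_i ⟶ Spec A) be a family of A-schemes such that an element of A whose
image in every Γ(Y_i, O_{Y_i}) is zero is itself zero. If, for every i, the pullback of F to X
×_{Spec A} Y_i is flat over Y_i at every point lying over x, then F is f-flat at x. -/
theorem result {A : Type u} [CommRing A]
    [IsArtinianRing A] [IsLocalRing A] {X : Scheme.{u}} (f : X ⟶ Spec (CommRingCat.of A))
    [LocallyOfFiniteType f] (F : X.Modules) (hF : Coh.IsCoh F) (x : X)
    {ι : Type u} (Y : ι → Scheme.{u}) (g : ∀ i, Y i ⟶ Spec (CommRingCat.of A))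
    (hg : ∀ a : A, (∀ i, (g i).appTop ((Scheme.ΓSpecIso (CommRingCat.of A)).inv a) = 0) → a = 0)
    (hflat : ∀ (i : ι) (x' : ↥(pullback f (g i))), pullback.fst f (g i) x' = x →
      FlatMod.IsFlatOverAt (pullback.snd f (g i)) ((Scheme.Modules.pullback (pullback.fst f (g i))).obj F) x') :
    FlatMod.IsFlatOverAt f F x := by
  haveI : F.IsQuasicoherent := hF.1
  let φ : ∀ k : (Σ i, Y i), CommRingCat.of A ⟶ (Y k.1).presheaf.stalk k.2 :=
    fun k => Spec.preimage ((Y k.1).fromSpecStalk k.2 ≫ g k.1)
  have hφ : ∀ k, Spec.map (φ k) = (Y k.1).fromSpecStalk k.2 ≫ g k.1 := fun k => Spec.map_preimage _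
  refine Groth.Agent.S4856.result f F hF x (fun k : (Σ i, Y i) => (Y k.1).presheaf.stalk k.2)
    (fun k => (φ k).hom) ?_ ?_
  · intro a ha
    refine hg a fun i => ?_
    refine TopCat.Presheaf.section_ext (Y i).sheaf ⊤ _ _ fun y hy => ?_
    have key : (Y i).presheaf.germ ⊤ y hy
        ((g i).appTop ((Scheme.ΓSpecIso (CommRingCat.of A)).inv a)) = 0 := by
      have h1 := ha ⟨i, y⟩
      have h2 := Scheme.ΓSpecIso_naturality (φ ⟨i, y⟩)
      rw [hφ ⟨i, y⟩, Scheme.Hom.comp_appTop, Scheme.fromSpecStalk_appTop] at h2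
      have e0 : (Spec ((Y i).presheaf.stalk y)).presheaf.map
          (homOfLE (le_top : (⊤ : (Spec ((Y i).presheaf.stalk y)).Opens) ≤ ⊤)).op = 𝟙 _ := by
        have : homOfLE (le_top : (⊤ : (Spec ((Y i).presheaf.stalk y)).Opens) ≤ ⊤) = 𝟙 _ := rfl
        rw [this, op_id, CategoryTheory.Functor.map_id]
      have h2' : (g i).appTop ≫ (Y i).presheaf.germ ⊤ y trivial =
          (Scheme.ΓSpecIso (CommRingCat.of A)).hom ≫ φ ⟨i, y⟩ := by
        rw [← h2]
        simp only [Category.assoc]
        erw [e0]
        rw [Category.id_comp, Iso.inv_hom_id, Category.comp_id]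
      have h3 := congrArg (fun ψ => ψ.hom ((Scheme.ΓSpecIso (CommRingCat.of A)).inv a)) h2'
      simp only [CommRingCat.hom_comp, RingHom.coe_comp, Function.comp_apply] at h3
      refine h3.trans ?_
      have h4 : (Scheme.ΓSpecIso (CommRingCat.of A)).hom.hom
          ((Scheme.ΓSpecIso (CommRingCat.of A)).inv a) = a :=
        Iso.inv_hom_id_apply (Scheme.ΓSpecIso (CommRingCat.of A)) a
      rw [h4]
      exact h1
    exact key.trans (map_zero ((Y i).presheaf.germ ⊤ y hy).hom).symm
  · intro k x'' h1 _
    let vX : pullback f (Spec.map (CommRingCat.ofHom (φ k).hom)) ⟶ pullback f (g k.1) :=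
      pullback.lift (pullback.fst f (Spec.map (CommRingCat.ofHom (φ k).hom)))
        (pullback.snd f (Spec.map (CommRingCat.ofHom (φ k).hom)) ≫ (Y k.1).fromSpecStalk k.2)
        (by
          rw [Category.assoc, ← hφ k]
          exact pullback.condition)
    have hvX : vX ≫ pullback.fst f (g k.1) =
        pullback.fst f (Spec.map (CommRingCat.ofHom (φ k).hom)) := pullback.lift_fst _ _ _
    have hv : vX ≫ pullback.snd f (g k.1) =
        pullback.snd f (Spec.map (CommRingCat.ofHom (φ k).hom)) ≫ (Y k.1).fromSpecStalk k.2 :=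
      pullback.lift_snd _ _ _
    refine Groth.Agent.Lib.Helper26.FlatLim.isFlatOverAt_of_stage
      (IsPullback.of_hasPullback f (Spec.map (CommRingCat.ofHom (φ k).hom)))
      (IsPullback.of_hasPullback f (g k.1)) hvX (hφ k).symm hv F x'' ?_
    refine hflat k.1 (vX x'') ?_
    rw [← Scheme.Hom.comp_apply, hvX]
    exact h1

end Groth.Agent.S5918
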