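import Groth.Statements.S5922
import Groth.Agent.Lib.Helper5RelCodepthOpen

set_option autoImplicit false
open CategoryTheory AlgebraicGeometry
universe u
open EGA43

namespace Groth.Agent.S5922

/-- Let f : X ⟶ Y be a morphism locally of finite presentation and n a natural number. The set of points
x of X such that f is flat at x and the local ring at x of the fibre of f through x has codepth at
most n, i.e. its Krull dimension is at most its depth plus n, is open in X. -/
theorem result {X Y : Scheme.{u}} (f : X ⟶ Y) [LocallyOfFinitePresentation f]
    (n : ℕ) :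
    IsOpen {x : X | (f.stalkMap x).hom.Flat ∧
      ringKrullDim ((f.fiber (f.base x)).presheaf.stalk (f.asFiber x)) ≤
        ((LocCoh.depth ((f.fiber (f.base x)).presheaf.stalk (f.asFiber x)) ((f.fiber (f.base x)).presheaf.stalk (f.asFiber x)) : ℕ∞) : WithBot ℕ∞) + n} := by
  have h := Groth.Agent.Lib.Helper5.RelCodepthOpen.isOpen_flat_and_codepthLE n f
  convert h using 1
  ext x
  simp only [Set.mem_setOf_eq]
  refine and_congr Iff.rfl ?_
  haveI : LocallyOfFiniteType (f.fiberToSpecResidueField (f.base x)) := by
    dsimp only [Scheme.Hom.fiberToSpecResidueField]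
    exact MorphismProperty.pullback_snd (P := @LocallyOfFiniteType) f _ inferInstance
  haveI : IsLocallyNoetherian (f.fiber (f.base x)) :=
    LocallyOfFiniteType.isLocallyNoetherian (f.fiberToSpecResidueField (f.base x))
  constructor
  · intro hle
    exact ⟨inferInstance, inferInstance, hle⟩
  · rintro ⟨_, _, hle⟩
    exact hle

end Groth.Agent.S5922
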