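import Groth.Statements.S5929
import Mathlib
import Groth.Agent.Lib.Helper26FPKer
import Groth.Agent.Lib.Helper1ResLen
import Groth.Agent.Lib.Helper3FlatCx

set_option autoImplicit false
universe u
open TensorProduct CategoryTheory
open EGA43

namespace Groth.Agent.S5929

section Construction

variable (A B : Type u) [CommRing A] [CommRing B] [Algebra A B]

/-- A stage of the construction: a `B`-module, finitely presented over `B` and flat over `A`. -/
structure Stage where
  K : Type u
  [acg : AddCommGroup K]
  [modB : Module B K]
  [modA : Module A K]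
  [tower : IsScalarTower A B K]
  [fp : Module.FinitePresentation B K]
  [flat : Module.Flat A K]

attribute [instance] Stage.acg Stage.modB Stage.modA Stage.tower Stage.fp Stage.flat

variable {A B}

/-- number of generators chosen for a stage -/
noncomputable def Stage.n (s : Stage A B) : ℕ := (Module.Finite.exists_fin' B s.K).choose

/-- chosen surjection from a finite free module -/
noncomputable def Stage.π (s : Stage A B) : (Fin s.n → B) →ₗ[B] s.K :=
  (Module.Finite.exists_fin' B s.K).choose_spec.choose

theorem Stage.π_surjective (s : Stage A B) : Function.Surjective s.π :=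
  (Module.Finite.exists_fin' B s.K).choose_spec.choose_spec

variable [Algebra.FinitePresentation A B] [Module.Flat A B]

/-- the next stage: the kernel of the chosen surjection -/
noncomputable def Stage.next (s : Stage A B) : Stage A B :=
  letI : Module.FinitePresentation B (LinearMap.ker s.π) :=
    Groth.Agent.Lib.Helper26.FPKer.finitePresentation_ker A B s.K s.π s.π_surjective
  haveI : Module.Flat A (Fin s.n → B) := Module.Flat.trans A B (Fin s.n → B)
  letI : Module.Flat A (LinearMap.ker s.π) :=
    Groth.Agent.Lib.Helper3.flat_of_exact_of_flat_mid_right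
      ((LinearMap.ker s.π).subtype.restrictScalars A) (s.π.restrictScalars A)
      (LinearMap.ker s.π).injective_subtype s.π_surjective
      (LinearMap.exact_subtype_ker_map s.π)
  { K := LinearMap.ker s.π }


/-- the sequence of stages (iterated syzygies) starting from `s` -/
noncomputable def seq (s : Stage A B) : ℕ → Stage A B
  | 0 => s
  | (i + 1) => (seq s i).next

/-- terms of the resolution -/
abbrev X (s : Stage A B) (i : ℕ) : Type u := Fin (seq s i).n → B

/-- inclusion of the `(i+1)`-st syzygy into the `i`-th free module -/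
noncomputable def ι (s : Stage A B) (i : ℕ) : (seq s (i + 1)).K →ₗ[B] X s i :=
  (LinearMap.ker (seq s i).π).subtype

theorem ι_injective (s : Stage A B) (i : ℕ) : Function.Injective (ι s i) :=
  (LinearMap.ker (seq s i).π).injective_subtype

theorem π_ι (s : Stage A B) (i : ℕ) (x : (seq s (i + 1)).K) : (seq s i).π (ι s i x) = 0 := by
  have hx : (x : ↥(LinearMap.ker (seq s i).π)).1 ∈ LinearMap.ker (seq s i).π := x.2
  exact hx

theorem exists_ι_eq (s : Stage A B) (i : ℕ) (y : X s i) (hy : (seq s i).π y = 0) :
    ∃ x : (seq s (i + 1)).K, ι s i x = y :=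
  ⟨(⟨y, hy⟩ : ↥(LinearMap.ker (seq s i).π)), rfl⟩

/-- differentials -/
noncomputable def d (s : Stage A B) (i : ℕ) : X s (i + 1) →ₗ[B] X s i :=
  (ι s i) ∘ₗ (seq s (i + 1)).π

theorem d_comp (s : Stage A B) (i : ℕ) (v : X s (i + 1 + 1)) : d s i (d s (i + 1) v) = 0 := by
  simp only [d, LinearMap.comp_apply]
  rw [π_ι, map_zero]

theorem aug_d (s : Stage A B) (v : X s 1) : (seq s 0).π (d s 0 v) = 0 := by
  simp only [d, LinearMap.comp_apply]
  rw [π_ι]

theorem exact_succ (s : Stage A B) (i : ℕ) (y : X s (i + 1)) (hy : d s i y = 0) :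
    ∃ z : X s (i + 1 + 1), d s (i + 1) z = y := by
  have h1 : (seq s (i + 1)).π y = 0 := by
    apply ι_injective s i
    rw [map_zero]
    exact hy
  obtain ⟨x, hx⟩ := exists_ι_eq s (i + 1) y h1
  obtain ⟨z, hz⟩ := (seq s (i + 1 + 1)).π_surjective x
  exact ⟨z, by simp only [d, LinearMap.comp_apply]; rw [hz, hx]⟩

theorem exact_zero (s : Stage A B) (y : X s 0) (hy : (seq s 0).π y = 0) :
    ∃ z : X s 1, d s 0 z = y := by
  obtain ⟨x, hx⟩ := exists_ι_eq s 0 y hy
  obtain ⟨z, hz⟩ := (seq s 1).π_surjective x
  exact ⟨z, by simp only [d, LinearMap.comp_apply]; rw [hz, hx]⟩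

/-- the complex of finite free modules -/
noncomputable def cx (s : Stage A B) : ChainComplex (ModuleCat.{u} B) ℕ :=
  ChainComplex.of (fun i => ModuleCat.of B (X s i))
    (fun i => ModuleCat.ofHom (d s i))
    (fun i => by
      apply ModuleCat.hom_ext
      apply LinearMap.ext
      intro v
      exact d_comp s i v)

theorem cx_d (s : Stage A B) (i : ℕ) : (cx s).d (i + 1) i = ModuleCat.ofHom (d s i) := by
  show ChainComplex.of.d (fun i => ModuleCat.of B (X s i))
    (fun i => ModuleCat.ofHom (d s i)) (i + 1) i = _
  rw [ChainComplex.of_d]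

theorem cx_exactAt_succ (s : Stage A B) (n : ℕ) : (cx s).ExactAt (n + 1) := by
  rw [HomologicalComplex.exactAt_iff' _ (n + 2) (n + 1) n (by simp) (by simp),
    ShortComplex.moduleCat_exact_iff]
  intro x hx
  have hx' : ((cx s).d (n + 1) n).hom x = 0 := hx
  rw [cx_d] at hx'
  obtain ⟨y, hy⟩ := exact_succ s n (show X s (n + 1) from x) hx'
  refine ⟨y, ?_⟩
  show ((cx s).d (n + 1 + 1) (n + 1)).hom y = x
  rw [cx_d]
  exact hy

theorem cx_d_aug (s : Stage A B) : (cx s).d 1 0 ≫ ModuleCat.ofHom (seq s 0).π = 0 := by
  rw [cx_d]
  apply ModuleCat.hom_ext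
  apply LinearMap.ext
  intro v
  exact aug_d s v

theorem cx_aug_exact (s : Stage A B) :
    (ShortComplex.mk ((cx s).d 1 0) (ModuleCat.ofHom (seq s 0).π) (cx_d_aug s)).Exact := by
  rw [ShortComplex.moduleCat_exact_iff]
  intro x hx
  obtain ⟨y, hy⟩ := exact_zero s (show X s 0 from x) hx
  refine ⟨y, ?_⟩
  show ((cx s).d (0 + 1) 0).hom y = x
  rw [cx_d]
  exact hy

/-- the resolution -/
noncomputable def res (s : Stage A B) : ProjectiveResolution (ModuleCat.of B s.K) :=
  Groth.Agent.Lib.Helper1.ResLen.mkRes (cx s) (ModuleCat.of B s.K)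
    (fun n => by
      show Projective (ModuleCat.of B (X s n))
      exact (IsProjective.iff_projective _).1 inferInstance)
    (ModuleCat.ofHom (seq s 0).π) (cx_d_aug s) (cx_aug_exact s)
    ((ModuleCat.epi_iff_surjective (ModuleCat.ofHom (seq s 0).π)).2 (seq s 0).π_surjective)
    (cx_exactAt_succ s)


end Construction

/-- Let A be a commutative ring, B a finitely presented A-algebra which is flat as an A-module, and M a
finitely presented B-module which is flat as an A-module. Then M admits a left resolution by free
B-modules of finite type: there is a projective resolution of M in the category of B-modules (a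
chain complex of projective modules with a quasi-isomorphism to M in degree 0) every term of which
is a finitely generated free B-module. -/
theorem result (A B M : Type u) [CommRing A] [CommRing B] [Algebra A B]
    [Algebra.FinitePresentation A B] [Module.Flat A B] [AddCommGroup M] [Module B M] [Module A M]
    [IsScalarTower A B M] [Module.FinitePresentation B M] [Module.Flat A M] :
    ∃ P : ProjectiveResolution (ModuleCat.of B M),
      ∀ n : ℕ, Module.Finite B (P.complex.X n) ∧ Module.Free B (P.complex.X n) := by
  let s : Stage A B := { K := M }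
  refine ⟨res s, fun n => ?_⟩
  show Module.Finite B (X s n) ∧ Module.Free B (X s n)
  exact ⟨inferInstance, inferInstance⟩

end Groth.Agent.S5929
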