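import Groth.Statements.S5934
import Groth.Agent.Lib.Helper3FibSmSchB
import Mathlib

set_option autoImplicit false
open CategoryTheory AlgebraicGeometry
universe u
open EGA43

namespace Groth.Agent.S5934

/-- Let f : X ⟶ Y be a proper, flat morphism of finite presentation. The set of points y of Y whose
fibre X_y is geometrically regular, i.e. smooth over the residue field κ(y), is open in Y. -/
theorem result {X Y : Scheme.{u}} (f : X ⟶ Y) [IsProper f] [Flat f]
    [LocallyOfFinitePresentation f] :
    IsOpen {y : Y | Smooth (f.fiberToSpecResidueField y)} := by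
  have hset : {y : Y | Smooth (f.fiberToSpecResidueField y)} =
      (f '' ((f.smoothLocus : Set X)ᶜ))ᶜ := by
    ext y
    simp only [Set.mem_ofPred_eq, Set.mem_compl_iff, Set.mem_image, not_exists, not_and]
    rw [Groth.Agent.Lib.Helper3.FibSmSch.smooth_fiberToSpecResidueField_iff]
    constructor
    · intro H x hx hxy
      exact hx (H x hxy)
    · intro H x hxy
      by_contra hx
      exact H x hx hxy
  rw [hset]
  exact (f.isClosedMap _ f.smoothLocus.isOpen.isClosed_compl).isOpen_compl

end Groth.Agent.S5934
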