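import Groth.Statements.S5935
import Groth.Agent.S1364
import Groth.Agent.Lib.Helper22NccA
import Groth.Agent.Lib.Helper6GRProper

set_option autoImplicit false
open CategoryTheory AlgebraicGeometry
universe u
open EGA43

namespace Groth.Agent.S5935

/-- Let f : X ⟶ Y be a proper, flat morphism of finite presentation and k ≥ 1 a natural number. The set
of points y of Y such that the fibre X_y is geometrically reduced over κ(y) and the geometric number
of connected components of X_y (the number of connected components after base change to a separable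
closure of κ(y)) equals k is open in Y. -/
theorem result {X Y : Scheme.{u}} (f : X ⟶ Y) [IsProper f]
    [Flat f] [LocallyOfFinitePresentation f] (k : ℕ) (hk : 1 ≤ k) :
    IsOpen {y : Y | GeometricallyReduced (f.fiberToSpecResidueField y) ∧ MoreMor.nGeomConnComp f y = k} := by
  have hG : IsOpen {y : Y | GeometricallyReduced (f.fiberToSpecResidueField y)} :=
    Groth.Agent.Lib.Helper6.GRProper.isOpen_geometricallyReduced_fibre f
  let G : Y.Opens := ⟨{y : Y | GeometricallyReduced (f.fiberToSpecResidueField y)}, hG⟩
  let f' := Limits.pullback.snd f G.ι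
  have sq : IsPullback (Limits.pullback.fst f G.ι) f' f G.ι := IsPullback.of_hasPullback _ _
  haveI : GeometricallyReduced f' := by
    rw [GeometricallyReduced.eq_geometrically, geometrically_iff_forall_fiberToSpecResidueField]
    intro y'
    have h1 : GeometricallyReduced (f.fiberToSpecResidueField (G.ι.base y')) := y'.2
    have sqF := isPullback_fiberToSpecResidueField_of_isPullback sq y'
    have h2 : GeometricallyReduced (f'.fiberToSpecResidueField y') :=
      MorphismProperty.of_isPullback (P := @GeometricallyReduced) sqF h1
    rw [GeometricallyReduced.eq_geometrically] at h2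
    exact h2
  have hlc := Groth.Agent.S1364.result f'
  have hres : ∀ y' : ↥(G : Scheme.{u}), MoreMor.nGeomConnComp f' y' =
      MoreMor.nGeomConnComp f (G.ι.base y') := fun y' =>
    Groth.Agent.Lib.Helper22.NccA.nGeomConnComp_eq_of_isPullback sq y'
      (ConcreteCategory.bijective_of_isIso (G.ι.residueFieldMap y'))
  have hopen' : IsOpen {y' : ↥(G : Scheme.{u}) | MoreMor.nGeomConnComp f' y' = (k : ℕ∞)} :=
    hlc.isOpen_fiber _
  have heq : {y : Y | GeometricallyReduced (f.fiberToSpecResidueField y) ∧
      MoreMor.nGeomConnComp f y = k} =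
      G.ι.base '' {y' : ↥(G : Scheme.{u}) | MoreMor.nGeomConnComp f' y' = (k : ℕ∞)} := by
    ext y
    constructor
    · rintro ⟨h1, h2⟩
      refine ⟨⟨y, h1⟩, ?_, rfl⟩
      show MoreMor.nGeomConnComp f' ⟨y, h1⟩ = (k : ℕ∞)
      rw [hres]
      exact h2
    · rintro ⟨y', hy', rfl⟩
      refine ⟨y'.2, ?_⟩
      rw [← hres]
      exact hy'
  rw [heq]
  exact G.ι.isOpenEmbedding.isOpenMap _ hopen'

end Groth.Agent.S5935
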