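import Groth.Statements.S5937
import Groth.Agent.Lib.Helper18OmLS5

set_option autoImplicit false
universe u
open CategoryTheory CategoryTheory.Limits AlgebraicGeometry
open Unram17

namespace Groth.Agent.S5937

/-- Take a morphism of schemes f : X ⟶ Y and an O_X-module Ω' equipped with a universal Y-derivation d :
O_X → Ω' (so that Ω' is a sheaf of differentials of X over Y). Then f is formally unramified if and
only if Ω' is a zero object of the category of O_X-modules. -/
theorem result {X Y : Scheme.{u}} (f : X ⟶ Y)
    (Ω' : X.Modules) (d : OmegaSh.Der f Ω') (hd : OmegaSh.IsUniversal d) :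
    FormallyUnramified f ↔ IsZero Ω' := by
  exact Groth.Agent.Helper18OmLS.formallyUnramified_iff_isZero f d hd

end Groth.Agent.S5937
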