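import Groth.Statements.S5949
import Groth.Agent.Lib.Helper4NormIso

set_option autoImplicit false
set_option linter.style.haveILetI false
universe u
open CategoryTheory AlgebraicGeometry
open Unram17

namespace Groth.Agent.S5949

/-- Let X be an integral scheme, X' ⟶ X its normalization (the normalization of X in its function
field), and f : Y ⟶ X a morphism of schemes. Then there is an isomorphism Y ≅ X' over X if and only
if: every local ring of Y is an integrally closed domain, f is an integral morphism, and f is
birational, i.e. Y is irreducible, the fibre of f over the generic point of X consists of the
generic point of Y alone, and the induced map of local rings at the generic points is an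
isomorphism. (The published statement allows X reduced with locally finitely many irreducible
components, the normalization then being taken componentwise; this row states the case of an
integral X. The quasi-compactness and quasi-separatedness binders on the generic point always hold
and only serve to form the normalization.) -/
theorem result (X : Scheme.{u}) [IsIntegral X]
    [QuasiCompact (X.fromSpecStalk (genericPoint X))] [QuasiSeparated (X.fromSpecStalk (genericPoint X))]
    {Y : Scheme.{u}} (f : Y ⟶ X) :
    (∃ e : Y ≅ Curv2.normalization X, e.hom ≫ Curv2.normalizationι X = f) ↔
      Pi1.IsNormalScheme Y ∧ IsIntegralHom f ∧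
        ∃ _ : IrreducibleSpace ↥Y, f.base ⁻¹' {genericPoint X} = {genericPoint Y} ∧
          IsIso (f.stalkMap (genericPoint Y)) := by
  have hg := Groth.Agent.Lib.Helper4.NormCurve.fromSpecStalk_eq_gen (X := X)
  constructor
  · rintro ⟨e, rfl⟩
    exact Groth.Agent.Lib.Helper4.NormIso.forward (X.fromSpecStalk (genericPoint X)) hg e
  · rintro ⟨hY, hint, hirr, hpre, hiso⟩
    haveI : ∀ y, _root_.IsReduced (Y.presheaf.stalk y) := fun y =>
      haveI := (hY y).1
      inferInstance
    haveI : IsReduced Y := isReduced_of_isReduced_stalk Y
    haveI : IsIntegral Y := isIntegral_of_irreducibleSpace_of_isReduced Y
    have hgen : f (genericPoint Y) = genericPoint X := by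
      have h1 : genericPoint Y ∈ f.base ⁻¹' {genericPoint X} := by rw [hpre]; rfl
      exact h1
    exact Groth.Agent.Lib.Helper4.NormIso.exists_iso_of_birational f hY hgen hiso

end Groth.Agent.S5949
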