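import Groth.Statements.S5959
import Groth.Agent.Lib.Helper23QCohLocal
import Groth.Agent.Lib.Helper2PullbackSec

set_option autoImplicit false
universe u
open CategoryTheory CategoryTheory.Limits AlgebraicGeometry TopologicalSpace Opposite
open Nrm16

namespace Groth.Agent.S5959

open Groth.Agent.Lib.Helper2.PullbackSec in
theorem pr1_bijective {X S : Scheme.{u}} (f : X ⟶ S) (n : ℕ) :
    Function.Bijective (PrinPart.pr1 f n) := by
  have hsurj := PrinPart.toInfNbhd_surjective (PrinPart.diagCl f) n
  have h1 : ∀ x : X, PrinPart.pr1 f n (PrinPart.toNbhd f n x) = x := by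
    intro x
    rw [← Scheme.Hom.comp_apply, PrinPart.toNbhd_pr1]
    rfl
  constructor
  · intro a b hab
    obtain ⟨a', rfl⟩ := hsurj a
    obtain ⟨b', rfl⟩ := hsurj b
    change PrinPart.pr1 f n (PrinPart.toNbhd f n a') = PrinPart.pr1 f n (PrinPart.toNbhd f n b') at hab
    rw [h1, h1] at hab
    rw [hab]
  · intro x
    exact ⟨PrinPart.toNbhd f n x, h1 x⟩

noncomputable def pr1Homeo {X S : Scheme.{u}} (f : X ⟶ S) (n : ℕ) :
    PrinPart.nbhd f n ≃ₜ X where
  toFun := PrinPart.pr1 f n
  invFun := PrinPart.toNbhd f n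
  left_inv := by
    intro a
    obtain ⟨a', rfl⟩ := PrinPart.toInfNbhd_surjective (PrinPart.diagCl f) n a
    change PrinPart.toNbhd f n (PrinPart.pr1 f n (PrinPart.toNbhd f n a')) = PrinPart.toNbhd f n a'
    rw [← Scheme.Hom.comp_apply (PrinPart.toNbhd f n) (PrinPart.pr1 f n), PrinPart.toNbhd_pr1]
    rfl
  right_inv := by
    intro x
    rw [← Scheme.Hom.comp_apply, PrinPart.toNbhd_pr1]
    rfl
  continuous_toFun := (PrinPart.pr1 f n).continuous
  continuous_invFun := (PrinPart.toNbhd f n).continuous

instance quasiCompact_pr1 {X S : Scheme.{u}} (f : X ⟶ S) (n : ℕ) : QuasiCompact (PrinPart.pr1 f n) := by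
  constructor
  intro U hU hU'
  exact ((pr1Homeo f n).isCompact_preimage).mpr hU'

instance quasiSeparated_pr1 {X S : Scheme.{u}} (f : X ⟶ S) (n : ℕ) : QuasiSeparated (PrinPart.pr1 f n) := by
  refine HasAffineProperty.of_iSup_eq_top (P := @QuasiSeparated) (fun U : X.affineOpens => U)
    (by simpa using iSup_affineOpens_eq_top X) (fun U => ?_)
  change QuasiSeparatedSpace ↥(PrinPart.pr1 f n ⁻¹ᵁ (U : X.Opens))
  let e : ↥(PrinPart.pr1 f n ⁻¹ᵁ (U : X.Opens)) ≃ₜ ↥(U : X.Opens) :=
    (pr1Homeo f n).subtype (fun x => Iff.rfl)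
  haveI : QuasiSeparatedSpace ↥(U : X.Opens) := by
    haveI : IsAffine ((U : X.Opens) : Scheme.{u}) := U.2
    exact quasiSeparatedSpace_of_isAffine ((U : X.Opens) : Scheme.{u})
  exact e.isOpenEmbedding.quasiSeparatedSpace

/-- Let f : X ⟶ S be a morphism of schemes, n a natural number and F a quasi-coherent O_X-module. Then
P^n_{X/S}(F), the sheaf of principal parts of order n of F with its left O_X-module structure, is a
quasi-coherent O_X-module. (The published statement asserts this for either of the two O_X-module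
structures of P^n_{X/S}(F); this row states it for the left structure, the one the sheaf of
principal parts carries here.) -/
theorem result {X S : Scheme.{u}} (f : X ⟶ S) (n : ℕ) (F : X.Modules)
    (hF : Coh.IsQCoh F) :
    Coh.IsQCoh (PrinPart.PMod f n F) := by
  haveI : F.IsQuasicoherent := hF
  haveI : ((Scheme.Modules.pullback (PrinPart.pr2 f n)).obj F).IsQuasicoherent :=
    Groth.Agent.Lib.Helper2.PullbackSec.isQuasicoherent_pullback _ F
  exact Groth.Agent.Lib.Helper23.QCohLocal.isQuasicoherent_pushforward (PrinPart.pr1 f n) _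

end Groth.Agent.S5959
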