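import Groth.Statements.S5967
import Groth.Agent.Lib.Helper1TQ6
import Groth.Agent.Lib.Helper1FlatPull
import Groth.Agent.Lib.Helper18PP6
import Groth.Agent.Lib.Helper18PushHomeo4
import Groth.Agent.Lib.Helper23PB
import Groth.Agent.Lib.Helper23UnitStalk
set_option backward.isDefEq.respectTransparency.types false

set_option autoImplicit false
set_option linter.style.haveILetI false
universe u
open CategoryTheory CategoryTheory.Limits AlgebraicGeometry TopologicalSpace Opposite
open Nrm16

namespace Groth.Agent.S5967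

open Groth.Agent.Lib.Helper1.Sky Groth.Agent.Lib.Helper1.StalkTensor Groth.Agent.Lib.Helper1.TQ

/-- ring-level: if a `B`-module `M ≃ B` is flat over `A` by restriction of scalars along `ψ`, then
`ψ` is flat. -/
lemma flat_of_restrictScalars {A B : Type u} [CommRing A] [CommRing B] (ψ : A →+* B)
    (M : ModuleCat.{u} B) (g : M ≃ₗ[B] B)
    (h : Module.Flat A ((ModuleCat.restrictScalars.{u} ψ).obj M)) : ψ.Flat := by
  letI : Algebra A B := ψ.toAlgebra
  let e : B ≃ₗ[A] ((ModuleCat.restrictScalars.{u} ψ).obj M) :=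
    { toFun := fun b => g.symm b
      invFun := fun m => g m
      map_add' := fun a b => map_add g.symm a b
      map_smul' := fun a b => by
        change g.symm (ψ a * b) = ψ a • g.symm b
        rw [← smul_eq_mul, map_smul]
      left_inv := fun b => g.apply_symm_apply b
      right_inv := fun m => g.symm_apply_apply m }
  exact Module.Flat.of_linearEquiv e

variable {X S : Scheme.{u}} (f : X ⟶ S) (n : ℕ)

theorem flat_pr1 (hP : FlatMod.IsFlat (PrinPart.P f n)) : Flat (PrinPart.pr1 f n) := by
  rw [Flat.iff_flat_stalkMap]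
  intro y
  have hi : Topology.IsInducing (PrinPart.pr1 f n).base :=
    (Groth.Agent.Lib.Helper18.PushHomeo.isHomeomorph_pr1 f n).isInducing
  let M := (Scheme.Modules.pullback (PrinPart.pr2 f n)).obj (Coh.structureModule X)
  have e1 := pushStalkIso (i := PrinPart.pr1 f n) (x := y) hi M
  have hfl : Module.Flat (Groth.Agent.Lib.Helper1.Sky.Ox ((PrinPart.pr1 f n).base y))
      ((stalkFun ((PrinPart.pr1 f n).base y)).obj ((Scheme.Modules.pushforward (PrinPart.pr1 f n)).obj M)) :=
    hP ((PrinPart.pr1 f n).base y)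
  have h2 : Module.Flat (Groth.Agent.Lib.Helper1.Sky.Ox ((PrinPart.pr1 f n).base y))
      ((ModuleCat.restrictScalars.{u} ((PrinPart.pr1 f n).stalkMap y).hom).obj ((stalkFun y).obj M)) :=
    @Module.Flat.of_linearEquiv _ _ _ _ _ _ _ _ hfl e1.toLinearEquiv.symm
  let e2 : (stalkFun y).obj M ≅ (stalkFun y).obj (Coh.structureModule (PrinPart.nbhd f n)) :=
    (stalkFun y).mapIso (Groth.Agent.Lib.Helper23.PB.pullbackUnitIso (PrinPart.pr2 f n))
  let e3 := Groth.Agent.Lib.Helper23.UnitStalk.unitStalkEquiv y
  exact flat_of_restrictScalars _ ((stalkFun y).obj M) (e2.toLinearEquiv.trans e3.symm) h2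

theorem flat_pr2 (hP : FlatMod.IsFlat (PrinPart.P f n)) : Flat (PrinPart.pr2 f n) := by
  haveI := flat_pr1 f n hP
  obtain ⟨σ, -, hσσ, hσ1, -, -⟩ := Groth.Agent.Helper18PP.main_S5969 f n
  haveI : IsIso σ := ⟨⟨σ, hσσ, hσσ⟩⟩
  rw [← hσ1]
  infer_instance

/-- Let f : X ⟶ S be a morphism of schemes and n a natural number, and assume that P^n_{X/S} is a flat
O_X-module for its left structure. Then the functor F ↦ P^n_{X/S}(F) on O_X-modules preserves finite
limits (so it is exact). -/
theorem result {X S : Scheme.{u}} (f : X ⟶ S) (n : ℕ)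
    (hP : FlatMod.IsFlat (PrinPart.P f n)) :
    PreservesFiniteLimits
      ((Scheme.Modules.pullback (PrinPart.pr2 f n)) ⋙ (Scheme.Modules.pushforward (PrinPart.pr1 f n))) := by
  haveI := flat_pr2 f n hP
  haveI := Groth.Agent.Lib.Helper1.FlatPull.preservesFiniteLimits_pullback_of_flat (PrinPart.pr2 f n)
  haveI : PreservesLimitsOfSize.{0, 0} (Scheme.Modules.pushforward (PrinPart.pr1 f n)) :=
    (Scheme.Modules.pullbackPushforwardAdjunction (PrinPart.pr1 f n)).rightAdjoint_preservesLimits
  haveI : PreservesFiniteLimits (Scheme.Modules.pushforward (PrinPart.pr1 f n)) :=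
    ⟨fun _ _ _ => inferInstance⟩
  infer_instance

end Groth.Agent.S5967
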