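import Groth.Statements.S5980
import Groth.Agent.Lib.Helper20ConormalStalk

set_option autoImplicit false
universe u
open CategoryTheory CategoryTheory.Limits AlgebraicGeometry TopologicalSpace Opposite
open Nrm16
open TensorProduct Groth.Agent.Lib.Helper20.ConormalStalk

namespace Groth.Agent.S5980

/-- Consider a point y of Y and an immersion j : Y ⟶ X that is quasi-compact and locally of finite
presentation. The stalk at y of the conormal sheaf N_{Y/X} = I/I² is zero exactly when y has an open
neighbourhood U in Y on which the restriction of j is an open immersion. (The published statement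
covers every immersion locally of finite presentation. Here j is additionally assumed quasi-compact,
since in that case the conormal sheaf used here is the one attached to j.) -/
theorem result {Y X : Scheme.{u}} (j : Y ⟶ X) [IsImmersion j]
    [QuasiCompact j] [LocallyOfFinitePresentation j] (y : Y) :
    (∃ U : Y.Opens, y ∈ U ∧ IsOpenImmersion (U.ι ≫ j)) ↔
      Subsingleton ((Omega.conormal j).presheaf.stalk y) := by
  classical
  have hyC : j y ∈ j.coborderRange := subset_coborder (Set.mem_range_self y)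
  constructor
  · rintro ⟨U', hyU', hoi⟩
    have hyG : j y ∈ (U'.ι ≫ j).opensRange := ⟨⟨y, hyU'⟩, rfl⟩
    obtain ⟨W, hWa, hyW, hWle⟩ := exists_isAffineOpen_mem_and_subset (x := j y)
      (U := j.coborderRange ⊓ (U'.ι ≫ j).opensRange) ⟨hyC, hyG⟩
    have hU := isAffineOpen_preimage j hWa (hWle.trans inf_le_left)
    rw [subsingleton_stalk_conormal_iff j hWa hU y hyW]
    have hinj : Function.Injective (j.app W).hom := by
      have h1 : IsIso ((U'.ι ≫ j).app W) :=
        Scheme.Hom.isIso_app (U'.ι ≫ j) W (hWle.trans inf_le_right)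
      have h2 : (U'.ι ≫ j).app W = j.app W ≫ U'.ι.app (j ⁻¹ᵁ W) := Scheme.Hom.comp_app ..
      have h3 : Function.Injective ((U'.ι ≫ j).app W).hom :=
        (ConcreteCategory.bijective_of_isIso _).1
      rw [h2] at h3
      exact Function.Injective.of_comp h3
    rw [LocalizedModule.subsingleton_iff]
    intro m
    refine ⟨1, Submonoid.one_mem _, ?_⟩
    rw [one_smul]
    letI : Algebra Γ(X, W) Γ(Y, j ⁻¹ᵁ W) := (j.app W).hom.toAlgebra
    change (Γ(Y, j ⁻¹ᵁ W) ⊗[Γ(X, W)] (RingHom.ker (j.app W).hom)) at m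
    show m = 0
    induction m using TensorProduct.induction_on with
    | zero => rfl
    | add a b ha hb => rw [ha, hb, add_zero]
    | tmul a x =>
      have : x = 0 := Subtype.ext (hinj (x.2.trans (map_zero _).symm))
      rw [this, TensorProduct.tmul_zero]
  · intro hsub
    obtain ⟨W, hWa, hyW, hWle⟩ := exists_isAffineOpen_mem_and_subset (x := j y)
      (U := j.coborderRange) hyC
    have hU := isAffineOpen_preimage j hWa hWle
    rw [subsingleton_stalk_conormal_iff j hWa hU y hyW] at hsub
    letI : Algebra Γ(X, W) Γ(Y, j ⁻¹ᵁ W) := (j.app W).hom.toAlgebra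
    have hs : Function.Surjective (algebraMap Γ(X, W) Γ(Y, j ⁻¹ᵁ W)) := app_surjective j hWa hWle
    have hfp : (j.app W).hom.FinitePresentation := by
      rw [Scheme.Hom.app_eq_appLE]
      exact HasRingHomProperty.appLE @LocallyOfFinitePresentation j inferInstance ⟨W, hWa⟩
        ⟨j ⁻¹ᵁ W, hU⟩ le_rfl
    have hfg : (RingHom.ker (j.app W).hom).FG := by
      haveI : Algebra.FinitePresentation Γ(X, W) Γ(Y, j ⁻¹ᵁ W) := hfp
      exact Algebra.FinitePresentation.ker_fG_of_surjective
        (Algebra.ofId Γ(X, W) Γ(Y, j ⁻¹ᵁ W)) hs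
    obtain ⟨c, hcq, hc0⟩ := exists_smul_eq_zero_of_subsingleton Γ(X, W) Γ(Y, j ⁻¹ᵁ W) hs
      (RingHom.ker (j.app W).hom) rfl hfg (hU.primeIdealOf ⟨y, hyW⟩).asIdeal hsub
    refine ⟨j ⁻¹ᵁ (X.basicOpen c), ?_, isOpenImmersion_of_smul_eq_zero j hWa hWle c hc0⟩
    rw [Scheme.preimage_basicOpen]
    have h1 : hU.primeIdealOf ⟨y, hyW⟩ ∈ hU.fromSpec ⁻¹ᵁ Y.basicOpen ((j.app W).hom c) := by
      rw [hU.fromSpec_preimage_basicOpen]
      exact hcq
    have h2 : hU.fromSpec (hU.primeIdealOf ⟨y, hyW⟩) ∈ Y.basicOpen ((j.app W).hom c) := h1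
    rwa [hU.fromSpec_primeIdealOf] at h2

end Groth.Agent.S5980
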