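import Groth.Statements.S5988
import Groth.Agent.Lib.Helper19CKCartier
import Groth.Agent.Lib.Helper19Normalization2
import Groth.Agent.Lib.Helper19PsDim
import Groth.Agent.Lib.Helper5IntDim

set_option autoImplicit false
universe u
open scoped TensorProduct
open EGA418

namespace Groth.Agent.S5988

/-- Let k be a field of characteristic p > 0, C a complete Noetherian local k-algebra which is an
integral domain whose residue field is a finite extension of k, n the dimension of C and L a
fraction field of C. Let Υ be the module of imperfection of L over k, namely the kernel of the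
canonical map L ⊗_k Ω_k ⟶ Ω_L on absolute differentials. Then Υ is a finite-dimensional L-vector
space and dim_L Ω_{L/k} ≥ n + dim_L Υ, the dimension of Ω_{L/k} being taken as a cardinal. (The
published statement also asserts that Ω_{L/k} is finite-dimensional; this row does not, since that
fails when k has infinite degree over its subfield of p-th powers: for k = F_p(t_1, t_2, …) and C =
k[[T]] the L-vector space Ω_{L/k} is infinite-dimensional. The published proof establishes exactly
the finiteness of Υ and the inequality, through a power-series subalgebra k[[T_1, …, T_n]] of C over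
which C is finite.) -/
theorem result (p : ℕ) [Fact p.Prime]
    (k C L : Type u) [Field k] [CharP k p] [CommRing C] [IsDomain C] [IsNoetherianRing C] [IsLocalRing C]
    [Algebra k C] [IsAdicComplete (IsLocalRing.maximalIdeal C) C]
    [Module.Finite k (IsLocalRing.ResidueField C)] (n : ℕ) (hn : ringKrullDim C = n)
    [Field L] [Algebra C L] [IsFractionRing C L] [Algebra k L] [IsScalarTower k C L] :
    Module.Finite L (LinearMap.ker (KaehlerDifferential.mapBaseChange ℤ k L)) ∧
      (n : Cardinal.{u}) + Module.rank L (LinearMap.ker (KaehlerDifferential.mapBaseChange ℤ k L)) ≤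
        Module.rank L (Ω[L⁄k]) := by
  obtain ⟨m, w, hwinj, hwloc, hwfin⟩ :=
    Groth.Agent.Lib.Helper19.Normalization.exists_powerSeries_subring_finite (k₀ := k) (A := C)
  letI : Algebra (MvPowerSeries (Fin m) k) C := w.toRingHom.toAlgebra
  haveI : IsScalarTower k (MvPowerSeries (Fin m) k) C :=
    IsScalarTower.of_algebraMap_eq (fun c => (w.commutes c).symm)
  haveI : Module.Finite (MvPowerSeries (Fin m) k) C := RingHom.finite_algebraMap.1 hwfin
  have hmn : m = n := by
    have h1 := Groth.Agent.Lib.Helper5.ringKrullDim_eq_of_isIntegral_of_injective
      (MvPowerSeries (Fin m) k) C hwinj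
    rw [hn, Groth.Agent.Lib.Helper19.ringKrullDim_mvPowerSeries] at h1
    exact_mod_cast h1.symm
  subst hmn
  letI : Algebra (MvPowerSeries (Fin m) k) L :=
    ((algebraMap C L).comp (algebraMap (MvPowerSeries (Fin m) k) C)).toAlgebra
  haveI : IsScalarTower (MvPowerSeries (Fin m) k) C L :=
    IsScalarTower.of_algebraMap_eq (fun _ => rfl)
  haveI : IsScalarTower k (MvPowerSeries (Fin m) k) L :=
    IsScalarTower.of_algebraMap_eq (fun c => by
      rw [IsScalarTower.algebraMap_apply (MvPowerSeries (Fin m) k) C L,
        ← IsScalarTower.algebraMap_apply k (MvPowerSeries (Fin m) k) C,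
        ← IsScalarTower.algebraMap_apply k C L])
  have hinjL : Function.Injective (algebraMap (MvPowerSeries (Fin m) k) L) :=
    (IsFractionRing.injective C L).comp hwinj
  haveI : Algebra.EssFiniteType (MvPowerSeries (Fin m) k) L := by
    haveI : Algebra.EssFiniteType C L :=
      Algebra.EssFiniteType.of_isLocalization L (nonZeroDivisors C)
    exact Algebra.EssFiniteType.comp _ C L
  obtain ⟨hfin, c, t, hc, -, -, hrk⟩ :=
    Groth.Agent.Lib.Helper19.CKCartier.rank_kaehler_eq (k := k) m (L := L) hinjL
  refine ⟨hfin, ?_⟩
  rw [hrk]
  exact (add_le_add_left hc _).trans le_self_add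

end Groth.Agent.S5988
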