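import Groth.Statements.S5999
import Groth.Agent.Lib.Helper6Jac

set_option autoImplicit false
universe u
open SGA1

namespace Groth.Agent.S5999

open TensorProduct in
/-- Let R be a Noetherian ring, A an R-algebra of finite type, F an element of A, P a prime ideal of
A/(F) and q its preimage in A, and suppose A is smooth over R at q. Then the hypersurface A/(F) is
smooth over R at P if and only if either F is zero in the local ring A_q (F vanishes on a
neighbourhood of q) or the image dF(q) of the differential of F in κ(q) ⊗_A Ω_{A/R} is nonzero. -/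
theorem result
    (R A : Type u) [CommRing R] [CommRing A] [IsNoetherianRing R] [Algebra R A] [Algebra.FiniteType R A]
    (F : A) (P : Ideal (A ⧸ Ideal.span ({F} : Set A))) [P.IsPrime]
    (hX : Algebra.IsSmoothAt R (P.comap (Ideal.Quotient.mk (Ideal.span ({F} : Set A))))) :
    letI q : Ideal A := P.comap (Ideal.Quotient.mk (Ideal.span ({F} : Set A)))
    Algebra.IsSmoothAt R P ↔ algebraMap A (Localization.AtPrime q) F = 0 ∨
      (1 : q.ResidueField) ⊗ₜ[A] KaehlerDifferential.D R A F ≠ 0 := by
  classical
  haveI hX' : Algebra.IsSmoothAt R (P.comap (Ideal.Quotient.mk (Ideal.span ({F} : Set A)))) := hX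
  have hFq : F ∈ P.comap (Ideal.Quotient.mk (Ideal.span ({F} : Set A))) := by
    rw [Ideal.mem_comap, Ideal.Quotient.eq_zero_iff_mem.mpr (Ideal.mem_span_singleton_self F)]
    exact zero_mem _
  have hFK : algebraMap A (P.comap (Ideal.Quotient.mk (Ideal.span ({F} : Set A)))).ResidueField F
      = 0 := Ideal.algebraMap_residueField_eq_zero.mpr hFq
  rw [Groth.Agent.Lib.Helper6.Jac.isSmoothAt_quotient_iff R A (Ideal.span ({F} : Set A)) P
    (P.comap (Ideal.Quotient.mk (Ideal.span ({F} : Set A)))) rfl]
  constructor
  · rintro ⟨s, hsI, hmap, hli⟩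
    by_cases hs : s = ∅
    · left
      subst hs
      have h1 : algebraMap A _ F ∈ Ideal.map (algebraMap A (Localization.AtPrime
          (P.comap (Ideal.Quotient.mk (Ideal.span ({F} : Set A)))))) (Ideal.span ({F} : Set A)) :=
        Ideal.mem_map_of_mem _ (Ideal.mem_span_singleton_self F)
      rw [hmap] at h1
      simpa using h1
    · right
      obtain ⟨g, hg⟩ := Finset.nonempty_iff_ne_empty.mpr hs
      have hgI : g ∈ Ideal.span ({F} : Set A) := hsI hg
      obtain ⟨a, rfl⟩ := Ideal.mem_span_singleton'.mp hgI
      have hne := hli.ne_zero ⟨a * F, hg⟩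
      intro h0
      apply hne
      simp only
      rw [Derivation.leibniz, TensorProduct.tmul_add, TensorProduct.tmul_smul,
        TensorProduct.tmul_smul, h0, smul_zero, zero_add, ← algebraMap_smul
        (P.comap (Ideal.Quotient.mk (Ideal.span ({F} : Set A)))).ResidueField F, hFK, zero_smul]
  · rintro (h | h)
    · refine ⟨∅, by simp, ?_, ?_⟩
      · rw [Ideal.map_span, Set.image_singleton, h]
        simp
      · exact linearIndependent_empty_type
    · refine ⟨{F}, ?_, ?_, ?_⟩
      · intro x hx
        rw [Finset.coe_singleton, Set.mem_singleton_iff] at hx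
        rw [hx]
        exact Ideal.mem_span_singleton_self F
      · rw [Ideal.map_span, Finset.coe_singleton]
      · letI : Unique ↥({F} : Finset A) :=
          ⟨⟨⟨F, Finset.mem_singleton_self F⟩⟩, fun x => Subtype.ext (Finset.mem_singleton.mp x.2)⟩
        rw [linearIndependent_unique_iff]
        exact h

end Groth.Agent.S5999
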