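import Groth.Statements.S6003
import Groth.Agent.Lib.Helper12Torsor

set_option autoImplicit false
universe u
open CategoryTheory AlgebraicGeometry
open SGA1

namespace Groth.Agent.S6003


open MonoidalCategory MonObj


/-- Let G be an S-group scheme which is flat and quasi-compact over S and let G act on the S-scheme X.
Then X is a principal homogeneous bundle under G (a pseudo-torsor which acquires sections on the
members of some fpqc covering family of S) if and only if X is formally principal homogeneous (a
pseudo-torsor) and the structure morphism X → S is faithfully flat and quasi-compact. -/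
theorem result {S : Scheme.{u}}
    (G X : Over S) [GrpObj G] [Flat G.hom] [QuasiCompact G.hom] (a : AlgGrp.Action G X) :
    NonAbH1.IsTorsorFor Scheme.fpqcPrecoverage a ↔
      (NonAbH1.IsPseudoTorsorSch a ∧ Surjective X.hom ∧ Flat X.hom ∧ QuasiCompact X.hom) := by
  constructor
  · rintro ⟨hpt, R, hR, hsec⟩
    have hGs : Surjective G.hom := by
      constructor
      intro s
      refine ⟨(η[G] : 𝟙_ (Over S) ⟶ G).left s, ?_⟩
      have h1 : (η[G] : 𝟙_ (Over S) ⟶ G).left ≫ G.hom = 𝟙 S := Over.w (η[G] : 𝟙_ (Over S) ⟶ G)
      rw [← Scheme.Hom.comp_apply, h1]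
      rfl
    refine ⟨hpt, ?_, ?_, ?_⟩
    · exact Groth.Agent.Lib.Helper12.of_mem_fpqcPrecoverage (P := @Surjective)
        inferInstance X.hom R hR
        (fun Y' f hf => Groth.Agent.Lib.Helper12.pullback_snd_of_hasSectionOver (P := @Surjective)
          a hpt hGs f (hsec f hf))
    · exact Groth.Agent.Lib.Helper12.of_mem_fpqcPrecoverage (P := @Flat)
        Groth.Agent.Lib.Helper12.descendsAlong_flat X.hom R hR
        (fun Y' f hf => Groth.Agent.Lib.Helper12.pullback_snd_of_hasSectionOver (P := @Flat)
          a hpt inferInstance f (hsec f hf))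
    · exact Groth.Agent.Lib.Helper12.of_mem_fpqcPrecoverage (P := @QuasiCompact)
        Groth.Agent.Lib.Helper12.descendsAlong_quasiCompact X.hom R hR
        (fun Y' f hf => Groth.Agent.Lib.Helper12.pullback_snd_of_hasSectionOver (P := @QuasiCompact)
          a hpt inferInstance f (hsec f hf))
  · rintro ⟨hpt, h1, h2, h3⟩
    refine ⟨hpt, Presieve.singleton X.hom, Scheme.Hom.singleton_mem_fpqcPrecoverage X.hom, ?_⟩
    rintro _ _ ⟨⟩
    exact ⟨𝟙 _, Category.id_comp _⟩

end Groth.Agent.S6003
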