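import Groth.Statements.S6009
import Mathlib
import Groth.Agent.Lib.Helper11ExtSeq
import Groth.Agent.Lib.Helper11DescendB

set_option autoImplicit false
universe u
open CategoryTheory AlgebraicGeometry MonoidalCategory CartesianMonoidalCategory MonObj GrpObj
open SGA1

namespace Groth.Agent.S6009

section Aux
open Groth.Agent.Lib.Helper11.Descend Groth.Agent.Lib.Helper11 Limits

universe u₁ v₁
variable {C : Type u₁} [Category.{v₁} C] [CartesianMonoidalCategory C]
  (J : GrothendieckTopology C) [J.Subcanonical]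
  {G G' G'' X : C} [GrpObj G] [GrpObj G'] [GrpObj G'']

theorem boundary_of_equivariant
    (u : G' ⟶ G) (v : G ⟶ G'') [IsMonHom u] [IsMonHom v] (huv : u ≫ v = 1)
    (hpb : IsPullback (fst G G') ((G ◁ u) ≫ μ[G]) v v)
    (act : G' ⊗ X ⟶ X) (hone : ∀ {T : C} (p : T ⟶ X), lift 1 p ≫ act = p)
    (hps : IsIso (lift act (snd G' X))) (hX : secSieve (toUnit X) ∈ J (𝟙_ C))
    (F : X ⟶ G) (hF : act ≫ F = lift (fst G' X ≫ u) (snd G' X ≫ F) ≫ μ[G]) :
    ∃ (f : 𝟙_ C ⟶ G'') (i : X ⟶ G), IsPullback i (toUnit X) v f ∧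
      ∀ (T : C) (g' : T ⟶ G') (p : T ⟶ X), lift g' p ≫ act ≫ i = (p ≫ i) * (g' ≫ u)⁻¹ := by
  obtain ⟨i, hi⟩ : ∃ i : X ⟶ G, i = F⁻¹ := ⟨_, rfl⟩
  have hFpt : ∀ {T : C} (g' : T ⟶ G') (p : T ⟶ X),
      (lift g' p ≫ act) ≫ F = (g' ≫ u) * (p ≫ F) := by
    intro T g' p
    rw [Category.assoc, hF, Hom.mul_def, ← Category.assoc]
    congr 1
    apply CartesianMonoidalCategory.hom_ext
    · simp
    · simp
  have hipt : ∀ (T : C) (g' : T ⟶ G') (p : T ⟶ X),
      lift g' p ≫ act ≫ i = (p ≫ i) * (g' ≫ u)⁻¹ := by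
    intro T g' p
    rw [hi, ← Category.assoc, GrpObj.comp_inv, hFpt, GrpObj.comp_inv, _root_.mul_inv_rev]
  have htrans : ∀ {W : C} (a b : W ⟶ X), ∃ g' : W ⟶ G', lift g' b ≫ act = a := by
    intro W a b
    have := hps
    obtain ⟨m, hm⟩ : ∃ m : W ⟶ G' ⊗ X, m = lift a b ≫ inv (lift act (snd G' X)) := ⟨_, rfl⟩
    have h1 : m ≫ lift act (snd G' X) = lift a b := by
      rw [hm, Category.assoc, IsIso.inv_hom_id, Category.comp_id]
    have h2 : m ≫ act = a := by
      have := congrArg (fun m => m ≫ fst X X) h1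
      simpa only [Category.assoc, lift_fst] using this
    have h3 : m ≫ snd G' X = b := by
      have := congrArg (fun m => m ≫ snd X X) h1
      simpa only [Category.assoc, lift_snd] using this
    refine ⟨m ≫ fst G' X, ?_⟩
    have h4 : lift (m ≫ fst G' X) b = m := by
      apply CartesianMonoidalCategory.hom_ext
      · rw [lift_fst]
      · rw [lift_snd, h3]
    rw [h4, h2]
  have hguv : ∀ {W : C} (g : W ⟶ G'), (g ≫ u) ≫ v = 1 := by
    intro W g
    rw [Category.assoc, huv, MonObj.comp_one]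
  have hinv : ∀ ⦃W : C⦄ (a b : W ⟶ X), a ≫ toUnit X = b ≫ toUnit X →
      a ≫ (i ≫ v) = b ≫ (i ≫ v) := by
    intro W a b _
    obtain ⟨g', hg'⟩ := htrans a b
    have h1 := hipt W g' b
    rw [← Category.assoc, hg'] at h1
    rw [← Category.assoc, ← Category.assoc, h1, MonObj.mul_comp, GrpObj.inv_comp, hguv, inv_one,
      _root_.mul_one]
  obtain ⟨f, hf⟩ := exists_desc J (toUnit X) hX (i ≫ v) hinv
  refine ⟨f, i, ?_, hipt⟩
  have hinj : ∀ ⦃W : C⦄ (p p' : W ⟶ X), p ≫ i = p' ≫ i → p = p' := by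
    intro W p p' hpp
    obtain ⟨g', hg'⟩ := htrans p' p
    have h1 := hipt W g' p
    rw [← Category.assoc, hg', ← hpp] at h1
    have h2 : (g' ≫ u)⁻¹ = 1 := by
      have := h1.symm
      exact mul_eq_left.mp this
    have h3 : g' ≫ u = (1 : W ⟶ G') ≫ u := by
      rw [MonObj.one_comp]
      exact inv_eq_one.mp h2
    have h4 := ExtSeq.u_injective u v hpb _ _ h3
    rw [h4, hone] at hg'
    exact hg'
  have hex : ∀ {T : C} (g : T ⟶ G), g ≫ v = toUnit T ≫ f → ∃ p : T ⟶ X, p ≫ i = g := by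
    intro T g hg
    apply exists_lift_of_locally J i g hinj
    refine J.superset_covering ?_ (J.pullback_stable (toUnit T) hX)
    rintro T' t ⟨p₀, _⟩
    have h1 : (p₀ ≫ i) ≫ v = (t ≫ g) ≫ v := by
      rw [Category.assoc, ← hf, Category.assoc, hg, ← Category.assoc, ← Category.assoc]
      congr 1
    obtain ⟨h, hh⟩ := ExtSeq.exists_diff u v hpb _ _ h1
    refine ⟨lift h⁻¹ p₀ ≫ act, ?_⟩
    rw [Category.assoc, hipt, GrpObj.inv_comp, _root_.inv_inv, hh]
  have hs : ∀ s : PullbackCone v f, s.fst ≫ v = toUnit s.pt ≫ f := by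
    intro s
    rw [s.condition]; congr 1; exact toUnit_unique _ _
  refine ⟨⟨hf.symm⟩, ⟨PullbackCone.IsLimit.mk _ (fun s => (hex s.fst (hs s)).choose) ?_ ?_ ?_⟩⟩
  · intro s
    exact (hex s.fst (hs s)).choose_spec
  · intro s
    exact toUnit_unique _ _
  · intro s m hm1 _
    apply hinj
    rw [hm1]
    exact ((hex s.fst (hs s)).choose_spec).symm

end Aux

section Sch
open Groth.Agent.Lib.Helper11.Descend Groth.Agent.Lib.Helper11 Limits
variable {S : Scheme.{u}}

lemma secSieve_toUnit_mem {X : Over S}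
    (hloc : NonAbH1.IsLocallyTrivialFor Scheme.fpqcPrecoverage X) :
    secSieve (toUnit X) ∈ (Scheme.fpqcTopology.over S) (𝟙_ (Over S)) := by
  obtain ⟨R, hR, hsec⟩ := hloc
  rw [GrothendieckTopology.mem_over_iff]
  refine Scheme.fpqcTopology.superset_covering ?_
    (Precoverage.generate_mem_toGrothendieck (show R ∈ Scheme.fpqcPrecoverage (𝟙_ (Over S)).left from hR))
  rw [Sieve.generate_le_iff]
  intro S' f hf
  obtain ⟨s, hs⟩ := hsec f hf
  rw [Sieve.overEquiv_iff]
  refine ⟨Over.homMk s ?_, toUnit_unique _ _⟩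
  change s ≫ X.hom = f ≫ (𝟙_ (Over S)).hom
  rw [hs]
  exact (Category.comp_id f).symm

lemma one_act_pt {G' X : Over S} [GrpObj G'] (a : AlgGrp.Action G' X) {T : Over S} (p : T ⟶ X) :
    lift 1 p ≫ a.act = p := by
  have h1 : lift (1 : T ⟶ G') p = lift (toUnit T) p ≫ (η[G'] ▷ X) := by
    apply CartesianMonoidalCategory.hom_ext
    · simp [Hom.one_def]
    · simp
  rw [h1, Category.assoc, a.one_act]
  simp

end Sch


/-- Exactness of the cohomology sequence at H^1(S, G'): let u : G' → G and v : G → G'' be homomorphisms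
of affine commutative S-groups forming a sequence 1 → G' → G → G'' → 1 which is exact for the fpqc
topology, and let Q be a principal homogeneous bundle under G' (fpqc torsor). Then the bundle
deduced from Q by extension of the structure group along u is trivial, in the sense that Q admits a
u-equivariant S-morphism to G acting on itself by left translation, if and only if Q is the boundary
of some section f of G'' over S: there is a morphism i : Q → G making Q the inverse image of f under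
v, with G' acting through right translation by inverses. -/
theorem result {S : Scheme.{u}}
    {G G' G'' : Over S} [GrpObj G] [GrpObj G'] [GrpObj G'']
    [IsCommMonObj G] [IsCommMonObj G'] [IsCommMonObj G'']
    [IsAffineHom G.hom] [IsAffineHom G'.hom] [IsAffineHom G''.hom]
    (u : G' ⟶ G) (v : G ⟶ G'') (hex : NonAbH1.IsExactSeq Scheme.fpqcPrecoverage u v)
    (Q : NonAbH1.TorsorSch G' Scheme.fpqcPrecoverage) :
    NonAbH1.IsPushforwardAlongSch u Q.act (NonAbH1.trivialAction G) ↔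
      ∃ (f : 𝟙_ (Over S) ⟶ G'') (i : Q.X ⟶ G), NonAbH1.IsPullbackTorsor u v f i Q.act := by
  obtain ⟨hu, hv, huv, hpb, hloc⟩ := hex
  constructor
  · rintro ⟨F, hF⟩
    have hF' : Q.act.act ≫ F = lift (fst G' Q.X ≫ u) (snd G' Q.X ≫ F) ≫ μ[G] := hF
    obtain ⟨f, i, hpbi, hipt⟩ := boundary_of_equivariant (Scheme.fpqcTopology.over S) u v huv hpb
      Q.act.act (fun p => one_act_pt Q.act p) Q.isTorsor.1 (secSieve_toUnit_mem Q.isTorsor.2) F hF'
    exact ⟨f, i, hu, hv, hpbi, hipt⟩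
  · rintro ⟨f, i, -, -, -, hipt⟩
    refine ⟨i⁻¹, ?_⟩
    change Q.act.act ≫ i⁻¹ = lift (fst G' Q.X ≫ u) (snd G' Q.X ≫ i⁻¹) ≫ μ[G]
    have h1 := hipt (G' ⊗ Q.X) (fst G' Q.X) (snd G' Q.X)
    rw [lift_fst_snd, Category.id_comp] at h1
    rw [GrpObj.comp_inv, h1, ← Hom.mul_def, GrpObj.comp_inv, _root_.mul_inv_rev, _root_.inv_inv]

end Groth.Agent.S6009
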