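import Groth.Statements.S6010
import Mathlib
import Groth.Agent.Lib.Helper11TorsorPts
import Groth.Prelude.Def_ChGrp

set_option autoImplicit false
universe u
open CategoryTheory AlgebraicGeometry MonoidalCategory CartesianMonoidalCategory MonObj GrpObj
open SGA1

namespace Groth.Agent.S6010


/-- Exactness of the cohomology sequence at H^1(S, G): let u : G' → G and v : G → G'' be homomorphisms
of affine commutative S-groups forming a sequence 1 → G' → G → G'' → 1 which is exact for the fpqc
topology, and let P be a principal homogeneous bundle under G (fpqc torsor). Then the bundle deduced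
from P by extension of the structure group along v is trivial, in the sense that P admits a
v-equivariant S-morphism to G'' acting on itself by left translation, if and only if P comes from
G': there is a principal homogeneous bundle Q under G' with a u-equivariant S-morphism Q → P. -/
theorem result {S : Scheme.{u}}
    {G G' G'' : Over S} [GrpObj G] [GrpObj G'] [GrpObj G'']
    [IsCommMonObj G] [IsCommMonObj G'] [IsCommMonObj G'']
    [IsAffineHom G.hom] [IsAffineHom G'.hom] [IsAffineHom G''.hom]
    (u : G' ⟶ G) (v : G ⟶ G'') (hex : NonAbH1.IsExactSeq Scheme.fpqcPrecoverage u v)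
    (P : NonAbH1.TorsorSch G Scheme.fpqcPrecoverage) :
    NonAbH1.IsPushforwardAlongSch v P.act (NonAbH1.trivialAction G'') ↔
      ∃ Q : NonAbH1.TorsorSch G' Scheme.fpqcPrecoverage, NonAbH1.IsPushforwardAlongSch u Q.act P.act := by
  obtain ⟨hu, hv, huv, hpb, hloc⟩ := hex
  have hP : Groth.Agent.Lib.Helper11.TorsorPts.PtAct P.act.act :=
    ⟨fun p => AlgGrp.Action.lift_one_act P.act p, fun g g' p => AlgGrp.Action.lift_mul_act P.act g g' p⟩
  constructor
  · rintro ⟨w, hw⟩
    have hw' : P.act.act ≫ w = lift (fst G P.X ≫ v) (snd G P.X ≫ w) ≫ μ[G''] := hw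
    have hQ : IsPullback (Limits.pullback.fst w η[G'']) (toUnit (Limits.pullback w η[G''])) w η[G''] := by
      have := IsPullback.of_hasPullback w η[G'']
      rwa [toUnit_unique (Limits.pullback.snd w η[G'']) (toUnit _)] at this
    obtain ⟨actQ, h1, h2, h3, h4, h5⟩ := Groth.Agent.Lib.Helper11.TorsorPts.exists_reduction
      (Scheme.fpqcTopology.over S) u v huv hpb
      (Groth.Agent.Lib.Helper11.TorsorPts.secSieve_mem Scheme.fpqcPrecoverage v hloc)
      P.act.act hP P.isTorsor.1
      (Groth.Agent.Lib.Helper11.TorsorPts.secSieve_toUnit_mem Scheme.fpqcPrecoverage P.isTorsor.2)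
      w hw' _ hQ
    exact ⟨⟨_, ⟨actQ, h1, h2⟩, ⟨h3,
      Groth.Agent.Lib.Helper11.TorsorPts.isLocallyTrivialFor_of_secSieve Scheme.fpqcPrecoverage h4⟩⟩,
      ⟨_, h5⟩⟩
  · rintro ⟨Q, F, hF⟩
    have hF' : Q.act.act ≫ F = lift (fst G' Q.X ≫ u) (snd G' Q.X ≫ F) ≫ P.act.act := hF
    exact Groth.Agent.Lib.Helper11.TorsorPts.exists_trivialization
      (Scheme.fpqcTopology.over S) u v huv P.act.act hP P.isTorsor.1 Q.act.act Q.isTorsor.1
      (Groth.Agent.Lib.Helper11.TorsorPts.secSieve_toUnit_mem Scheme.fpqcPrecoverage Q.isTorsor.2)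
      F hF'

end Groth.Agent.S6010
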