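import Groth.Statements.S6011
import Groth.Agent.Lib.Helper4Tors
open CategoryTheory MonoidalCategory CartesianMonoidalCategory MonObj Groth.Agent.Lib.Helper4.Tors

set_option autoImplicit false
universe u
open CategoryTheory AlgebraicGeometry
open SGA1

namespace Groth.Agent.S6011

/-- An S-scheme X with an action of the S-group G is trivial — equivariantly isomorphic over S to G
acting on itself by translation — if and only if it is formally principal homogeneous (a
pseudo-torsor) and admits a section over S. -/
theorem result {S : Scheme.{u}}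
    (G X : Over S) [GrpObj G] (a : AlgGrp.Action G X) :
    Nonempty (NonAbH1.EquivIso (NonAbH1.trivialAction G) a) ↔
      (NonAbH1.IsPseudoTorsorSch a ∧ NonAbH1.HasSectionOver X (𝟙 S)) := by
  constructor
  · rintro ⟨e⟩
    constructor
    · have hG : IsIso (lift μ[G] (snd G G)) := NonAbH1.isPseudoTorsorSch_trivialAction G
      have hcomm : μ[G] ≫ e.iso.hom = (G ◁ e.iso.hom) ≫ a.act := e.comm
      have key : lift μ[G] (snd G G) ≫ (e.iso.hom ⊗ₘ e.iso.hom) =
          (G ◁ e.iso.hom) ≫ lift a.act (snd G X) := by
        apply CartesianMonoidalCategory.hom_ext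
        · simp [hcomm]
        · simp
      have : lift a.act (snd G X) =
          inv (G ◁ e.iso.hom) ≫ lift μ[G] (snd G G) ≫ (e.iso.hom ⊗ₘ e.iso.hom) := by
        rw [key, IsIso.inv_hom_id_assoc]
      unfold NonAbH1.IsPseudoTorsorSch
      rw [this]
      infer_instance
    · refine ⟨(η[G] ≫ e.iso.hom).left, ?_⟩
      exact Over.w (η[G] ≫ e.iso.hom)
  · rintro ⟨h, s, hs⟩
    let o : 𝟙_ (Over S) ⟶ X := Over.homMk s hs
    have hiso := isIso_orb a h o
    exact ⟨{ iso := asIso (orb a o), comm := orb_equivariant a o }⟩

end Groth.Agent.S6011
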