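import Groth.Statements.S6018
-- import your own Groth.Agent.* helpers here

set_option autoImplicit false
set_option backward.isDefEq.respectTransparency false
set_option backward.isDefEq.respectTransparency.types false
open CategoryTheory
universe v₁ v₂ v₃ u₁ u₂ u₃
open FibCat FibCat.Cleavage

namespace Groth.Agent.S6018

/-- Let `K` be a cleavage of a functor `p : 𝒳 ⥤ 𝒮` (neither fibredness nor normalisation is assumed),
let `F, G : 𝒳 ⥤ C` be functors, and for every object `S` of the base let `u_S` be a natural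
transformation between the restrictions of `F` and `G` to the fibre over `S`. If the family is
compatible with the transport morphisms `α_f(a) : f^* a ⟶ a` of `K`, i.e. `G(α_f(a)) ∘ u_T(f^* a) =
u_S(a) ∘ F(α_f(a))` for every base morphism `f : T ⟶ S` and every `a` over `S`, then there is
exactly one natural transformation `F ⟶ G` whose component at every object is the prescribed one.
(The published statement is an isomorphism between the category of all functors `𝒳 ⥤ C` and the
category of compatible families of functors on the fibres of a normalised cloven category; this row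
is its assertion on morphisms, whose published proof does not use the normalisation, so none is
assumed here.) -/
theorem result (𝒮 : Type u₁) (𝒳 : Type u₂) [Category.{v₁} 𝒮]
    [Category.{v₂} 𝒳] (p : 𝒳 ⥤ 𝒮) (K : FibCat.Cleavage p) (C : Type u₃) [Category.{v₃} C] (F G : 𝒳 ⥤ C)
    (u : ∀ S : 𝒮, (Functor.Fiber.fiberInclusion ⋙ F : p.Fiber S ⥤ C) ⟶ Functor.Fiber.fiberInclusion ⋙ G)
    (hu : ∀ ⦃T S : 𝒮⦄ (f : T ⟶ S) (a : p.Fiber S),
      F.map ((K.transport f).app a) ≫ (u S).app a = (u T).app ((K.inverseImage f).obj a) ≫ G.map ((K.transport f).app a)) :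
    ∃! v : F ⟶ G, ∀ (S : 𝒮) (a : p.Fiber S), v.app a.1 = (u S).app a := by
  have nat : ∀ {x y : 𝒳} (φ : x ⟶ y),
      F.map φ ≫ (u (p.obj y)).app ⟨y, rfl⟩ = (u (p.obj x)).app ⟨x, rfl⟩ ≫ G.map φ := by
    intro x y φ
    let a : p.Fiber (p.obj y) := ⟨y, rfl⟩
    let χ : x ⟶ K.obj a.2 (p.map φ) := Functor.IsCartesian.map p (p.map φ) (K.lift a.2 (p.map φ)) φ
    have hχ : χ ≫ K.lift a.2 (p.map φ) = φ :=
      Functor.IsCartesian.fac p (p.map φ) (K.lift a.2 (p.map φ)) φ
    let X : p.Fiber (p.obj x) := ⟨x, rfl⟩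
    let χ' : X ⟶ (K.inverseImage (p.map φ)).obj a :=
      ⟨χ, Functor.IsCartesian.map_isHomLift p (p.map φ) (K.lift a.2 (p.map φ)) φ⟩
    have h1 := (u (p.obj x)).naturality χ'
    have h1' : F.map χ ≫ (u (p.obj x)).app ((K.inverseImage (p.map φ)).obj a) =
        (u (p.obj x)).app X ≫ G.map χ := h1
    have h2 := hu (p.map φ) a
    have h2' : F.map (K.lift a.2 (p.map φ)) ≫ (u (p.obj y)).app a =
        (u (p.obj x)).app ((K.inverseImage (p.map φ)).obj a) ≫ G.map (K.lift a.2 (p.map φ)) := h2
    calc F.map φ ≫ (u (p.obj y)).app ⟨y, rfl⟩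
        = F.map χ ≫ F.map (K.lift a.2 (p.map φ)) ≫ (u (p.obj y)).app a := by
          rw [← Category.assoc, ← F.map_comp, hχ]
      _ = F.map χ ≫ (u (p.obj x)).app ((K.inverseImage (p.map φ)).obj a) ≫
            G.map (K.lift a.2 (p.map φ)) := by rw [h2']
      _ = (u (p.obj x)).app X ≫ G.map χ ≫ G.map (K.lift a.2 (p.map φ)) := by
          rw [← Category.assoc, h1', Category.assoc]
      _ = (u (p.obj x)).app ⟨x, rfl⟩ ≫ G.map φ := by rw [← G.map_comp, hχ]
  refine ⟨{ app := fun x => (u (p.obj x)).app ⟨x, rfl⟩, naturality := fun x y φ => nat φ }, ?_, ?_⟩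
  · intro S a
    obtain ⟨x, hx⟩ := a
    subst hx
    rfl
  · intro v' hv'
    ext x
    exact hv' (p.obj x) ⟨x, rfl⟩

end Groth.Agent.S6018
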