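import Groth.Statements.S6020
import Mathlib
import Groth.Agent.Lib.Helper16LocCohShift
-- import your own Groth.Agent.* helpers here

set_option autoImplicit false
set_option linter.style.haveILetI false
set_option linter.unusedSectionVars false
universe u
open CategoryTheory CategoryTheory.Limits TopologicalSpace
open LocCohZ

namespace Groth.Agent.S6020
open Opposite Abelian

variable {X : TopCat.{u}} (F : CohTop.Ab X) {W V : Opens X} (h : W ≤ V)

lemma res_apply (i : ℕ) (x : CohTop.HU F i V) :
    CohTop.res F i h x = (Ext.mk₀ (zqSeq h).f).comp x (zero_add i) := rfl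

/-- the long exact sequence of cohomology with supports, in the form used here. -/
theorem perV (N : ℕ) :
    (∀ i : ℕ, i ≤ N → Subsingleton (LocCohZ.HZ F i h)) ↔
      (∀ i : ℕ, i < N → Function.Bijective (CohTop.res F i h)) ∧
        Function.Injective (CohTop.res F N h) := by
  have hS := zqSeq_shortExact h
  have inj_of : ∀ i : ℕ, Subsingleton (LocCohZ.HZ F i h) → Function.Injective (CohTop.res F i h) := by
    intro i hi
    rw [injective_iff_map_eq_zero]
    intro x hx
    rw [res_apply] at hx
    obtain ⟨x₃, hx₃⟩ := Ext.contravariant_sequence_exact₂ hS F x hx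
    have : x₃ = 0 := Subsingleton.elim (α := LocCohZ.HZ F i h) _ _
    rw [← hx₃, this, Ext.comp_zero]
    rfl
  constructor
  · intro hA
    refine ⟨fun i hi => ⟨inj_of i (hA i hi.le), ?_⟩, inj_of N (hA N le_rfl)⟩
    intro y
    have h0 : hS.extClass.comp y (rfl : 1 + i = 1 + i) = 0 := by
      haveI : Subsingleton (LocCohZ.HZ F (1 + i) h) := hA (1 + i) (by omega)
      exact Subsingleton.elim (α := LocCohZ.HZ F (1 + i) h) _ _
    obtain ⟨x₂, hx₂⟩ := Ext.contravariant_sequence_exact₁ hS F y rfl h0
    exact ⟨x₂, hx₂⟩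
  · rintro ⟨hbij, hinj⟩ i hi
    have hinj_i : Function.Injective (CohTop.res F i h) := by
      rcases Nat.lt_or_eq_of_le hi with h1 | h1
      · exact (hbij i h1).1
      · rw [h1]; exact hinj
    have h0 : ∀ x₃ : Abelian.Ext.{u} (zqSeq h).X₃ F i, x₃ = 0 := by
      intro x₃
      have h1 : (Ext.mk₀ (zqSeq h).g).comp x₃ (zero_add i) = 0 := by
        have h2 : (Ext.mk₀ (zqSeq h).f).comp ((Ext.mk₀ (zqSeq h).g).comp x₃ (zero_add i))
            (zero_add i) = 0 := by
          rw [← Ext.comp_assoc_of_second_deg_zero, Ext.mk₀_comp_mk₀, (zqSeq h).zero, Ext.mk₀_zero,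
            Ext.zero_comp]
        exact hinj_i (h2.trans (map_zero (CohTop.res F i h)).symm)
      cases i with
      | zero =>
        haveI := hS.epi_g
        exact Ext.precomp_mk₀_injective_of_epi F (zqSeq h).g (h1.trans (map_zero _).symm)
      | succ j =>
        obtain ⟨x₁, hx₁⟩ := Ext.contravariant_sequence_exact₃ hS F x₃ h1 (n₀ := j) (by omega)
        obtain ⟨x₂, hx₂⟩ := (hbij j (by omega)).2 x₁
        rw [res_apply] at hx₂
        rw [← hx₁, ← hx₂]
        exact hS.extClass_comp_assoc x₂
    exact ⟨fun a b => (h0 a).trans (h0 b).symm⟩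


/-- Consider a topological space X carrying a sheaf F of abelian groups, an open subset U whose
complement is the closed set Z, and a natural number N. The local cohomology sheaves ℋ^i_Z(F) are
zero for all i ≤ N exactly when, for each open V of X, restricting H^i(V, F) → H^i(V ∩ U, F) gives a
bijection whenever i < N and an injection when i = N. -/
theorem result {X : TopCat.{u}} (F : CohTop.Ab X) (U : Opens X) (N : ℕ) :
    (∀ i : ℕ, i ≤ N → IsZero ((LocCohZ.HZsh U i).obj F)) ↔
      ∀ V : Opens X, (∀ i : ℕ, i < N → Function.Bijective (CohTop.res F i (inf_le_left : V ⊓ U ≤ V))) ∧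
        Function.Injective (CohTop.res F N (inf_le_left : V ⊓ U ≤ V)) := by
  have key := Groth.Agent.Lib.Helper16.LocCohShift.HZsh_isZero_iff_HZ F U (N + 1)
  have e1 : (∀ i : ℕ, i ≤ N → IsZero ((LocCohZ.HZsh U i).obj F)) ↔
      (∀ i : ℕ, i < N + 1 → IsZero ((LocCohZ.HZsh U i).obj F)) :=
    forall_congr' fun i => by rw [Nat.lt_succ_iff]
  rw [e1, key]
  constructor
  · intro hA V
    exact (perV F (inf_le_left : V ⊓ U ≤ V) N).1 (fun i hi => hA V i (by omega))
  · intro hB V i hi
    exact (perV F (inf_le_left : V ⊓ U ≤ V) N).2 (hB V) i (by omega)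

end Groth.Agent.S6020
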