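import Groth.Statements.S6021
import Mathlib
import Groth.Agent.Lib.Helper16LocCohShift
import Groth.Agent.S6020
-- import your own Groth.Agent.* helpers here

set_option autoImplicit false
set_option linter.style.haveILetI false
set_option linter.unusedSectionVars false
universe u
open CategoryTheory CategoryTheory.Limits TopologicalSpace
open LocCohZ

namespace Groth.Agent.S6021
open Opposite Abelian
open Groth.Agent.Lib.Helper16.SectSupp Groth.Agent.Lib.Helper16.ClosedEmb
  Groth.Agent.Lib.Helper16.DimShift Groth.Agent.Lib.Helper16.Flasque Groth.Agent.Lib.Helper23LocSS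
  Groth.Agent.Lib.Helper16.LocCohShift

variable {X : TopCat.{u}} (U : Opens X) (F : CohTop.Ab X)

/-- if `H^k(V) → H^k(W)` is surjective then `H^{k+1}_{V∖W}(V) → H^{k+1}(V)` is injective. -/
lemma toHU_injective {W V : Opens X} (h : W ≤ V) (k : ℕ)
    (hsurj : Function.Surjective (CohTop.res F k h))
    (x₃ : Abelian.Ext.{u} (zq h) F (k + 1))
    (hx₃ : (Ext.mk₀ (cokernel.π (CohCx.freeSheafMap (J X) (homOfLE h)))).comp x₃
      (zero_add (k + 1)) = 0) : x₃ = 0 := by
  have hS := zqSeq_shortExact h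
  have hx₃' : (Ext.mk₀ (zqSeq h).g).comp (show Abelian.Ext.{u} (zqSeq h).X₃ F (k + 1) from x₃)
      (zero_add (k + 1)) = 0 := hx₃
  obtain ⟨x₁, hx₁⟩ := Ext.contravariant_sequence_exact₃ hS F _ hx₃' (n₀ := k) (by omega)
  change _ = x₃ at hx₁
  obtain ⟨x₂, hx₂⟩ := hsurj x₁
  rw [Groth.Agent.S6020.res_apply] at hx₂
  rw [← hx₁, ← hx₂]
  exact hS.extClass_comp_assoc x₂

attribute [local instance] Ext.subsingleton_of_injective in
/-- the key local lifting statement. -/
lemma exists_lift_vanishing (k : ℕ) (V : Opens X)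
    (hsurj : Function.Surjective (CohTop.res F k (inf_le_left : V ⊓ U ≤ V)))
    (s : ((DD F).Z (k + 1)).obj.obj (op V))
    (hs : ((DD F).Z (k + 1)).obj.map (homOfLE (inf_le_left : V ⊓ U ≤ V)).op s = 0)
    (t : ((DD F).J k).obj.obj (op V)) (ht : ((DD F).g k).hom.app (op V) t = s) :
    ∃ t₀ : ((DD F).J k).obj.obj (op V),
      ((DD F).J k).obj.map (homOfLE (inf_le_left : V ⊓ U ≤ V)).op t₀ = 0 ∧
        ((DD F).g k).hom.app (op V) t₀ = s := by
  set h : V ⊓ U ≤ V := inf_le_left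
  have hJ : ∀ (A : CohTop.Ab X) (j q : ℕ), Subsingleton (Ext.{u} A ((DD F).J j) (q + 1)) := by
    intro A j q
    haveI : Injective ((DD F).J j) := (injectiveResolution F).injective j
    infer_instance
  let φ : zq h ⟶ (DD F).Z (k + 1) := (homZqEquiv _ h).symm ⟨s, hs⟩
  have hφ : ((homZqEquiv _ h φ : sectZ _ h) : ((DD F).Z (k + 1)).obj.obj (op V)) = s := by
    change ((homZqEquiv _ h ((homZqEquiv _ h).symm ⟨s, hs⟩) : sectZ _ h) : _) = s
    rw [AddEquiv.apply_symm_apply]
  -- `π ≫ φ = ofSect s = ofSect t ≫ g`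
  have hπφ : cokernel.π (CohCx.freeSheafMap (J X) (homOfLE h)) ≫ φ =
      CohFree.ofSect (J X) V _ t ≫ (DD F).g k := by
    rw [ofSect_comp, ht]
    apply (CohFree.homEquivSect (J X) V _).injective
    rw [CohFree.homEquivSect_apply, CohFree.homEquivSect_apply, CohFree.evalGen_ofSect]
    exact (homZqEquiv_apply_coe _ h φ).symm.trans hφ
  -- the class of `φ` dies in `H^{k+1}(V)`
  have h1 : (Ext.mk₀ (cokernel.π (CohCx.freeSheafMap (J X) (homOfLE h)))).comp
      ((DD F).δ (zq h) k φ) (zero_add (k + 1)) = 0 := by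
    rw [Data.δ_apply, Ext.mk₀_comp_mk₀_assoc, hπφ]
    have hk := (ds'.{u} (CohCx.freeSheaf (J X) V) k (DD F) (fun j q => hJ _ j q)).2
    have hmem : (CohFree.ofSect (J X) V _ t ≫ (DD F).g k) ∈ ((DD F).δ (CohCx.freeSheaf (J X) V) k).ker := by
      rw [hk]
      exact ⟨CohFree.ofSect (J X) V _ t, rfl⟩
    exact hmem
  have h2 : (DD F).δ (zq h) k φ = 0 := toHU_injective F h k hsurj _ h1
  have hk := (ds'.{u} (zq h) k (DD F) (fun j q => hJ _ j q)).2
  have hmem : φ ∈ ((DD F).δ (zq h) k).ker := h2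
  rw [hk] at hmem
  obtain ⟨ψ, hψ⟩ := hmem
  refine ⟨((homZqEquiv _ h ψ : sectZ _ h) : ((DD F).J k).obj.obj (op V)), (homZqEquiv _ h ψ).2, ?_⟩
  have h3 := homZqEquiv_comp _ _ ((DD F).g k) h ψ
  have h4 : ψ ≫ (DD F).g k = φ := hψ
  rw [h4, hφ] at h3
  exact h3.symm



/-- Consider a topological space X carrying an abelian sheaf F, a closed subset Z whose open complement
is U, and a natural number N > 0. Assume that, for each open V of X and each i < N, restricting
H^i(V, F) → H^i(V ∩ U, F) gives a bijection. Then ℋ^i_Z(F), the local cohomology sheaves, are zero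
for every i ≤ N (no separate injectivity hypothesis in degree N is needed, since it follows
automatically). -/
theorem result {X : TopCat.{u}} (F : CohTop.Ab X) (U : Opens X) (N : ℕ) (hN : 0 < N)
    (h : ∀ (V : Opens X) (i : ℕ), i < N → Function.Bijective (CohTop.res F i (inf_le_left : V ⊓ U ≤ V))) :
    ∀ i : ℕ, i ≤ N → IsZero ((LocCohZ.HZsh U i).obj F) := by
  obtain ⟨k, rfl⟩ : ∃ k, N = k + 1 := ⟨N - 1, by omega⟩
  have hlow : ∀ i, i < k + 1 → IsZero ((LocCohZ.HZsh U i).obj F) := by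
    rw [HZsh_isZero_iff_HZ F U (k + 1)]
    intro V i hi
    exact (Groth.Agent.S6020.perV F (inf_le_left : V ⊓ U ≤ V) k).2
      ⟨fun j hj => h V j (by omega), (h V k (by omega)).1⟩ i (by omega)
  intro i hi
  rcases Nat.lt_or_eq_of_le hi with h1 | h1
  · exact hlow i h1
  · subst h1
    rw [HZsh_succ_iff, locSurj_iff]
    intro V t' x hx
    set s' := (ιΓ U ((DD F).Z (k + 1))).hom.app (op V) t' with hs'
    have hs'0 := (exists_sectSupp_iff U _ V s').1 ⟨t', rfl⟩
    haveI : Epi ((DD F).g k) := ((DD F).hS k).epi_g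
    obtain ⟨V', hV', ⟨t, ht⟩, hxV'⟩ := (locSurj_iff ((DD F).g k)).1 inferInstance V s' x hx
    have hs''0 : ((DD F).Z (k + 1)).obj.map (homOfLE (inf_le_left : V' ⊓ U ≤ V')).op
        (((DD F).Z (k + 1)).obj.map (homOfLE hV').op s') = 0 := by
      rw [map_map_apply _ (homOfLE hV') (homOfLE (inf_le_left : V' ⊓ U ≤ V'))
          (homOfLE ((inf_le_left : V' ⊓ U ≤ V').trans hV')) s',
        ← map_map_apply _ (homOfLE (inf_le_left : V ⊓ U ≤ V)) (homOfLE (inf_le_inf_right U hV')) _ s',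
        hs'0, map_zero]
    obtain ⟨t₀, ht₀0, ht₀⟩ := exists_lift_vanishing U F k V' (h V' k (by omega)).2 _ hs''0 t ht
    obtain ⟨t'', ht''⟩ := (exists_sectSupp_iff U _ V' t₀).2 ht₀0
    refine ⟨V', hV', ⟨t'', ?_⟩, hxV'⟩
    apply ιΓ_injective U _ V'
    have nat1 : (ιΓ U ((DD F).Z (k + 1))).hom.app (op V')
        (((LocCohZ.sectSuppF U).map ((DD F).g k)).hom.app (op V') t'') =
        ((DD F).g k).hom.app (op V') ((ιΓ U ((DD F).J k)).hom.app (op V') t'') :=
      congrArg (fun m => m.hom.app (op V') t'') (ιΓ_nat U ((DD F).g k))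
    have nat2 := ConcreteCategory.congr_hom
      ((ιΓ U ((DD F).Z (k + 1))).hom.naturality (homOfLE hV').op) t'
    rw [nat1, ht'', ht₀]
    exact nat2.symm

end Groth.Agent.S6021
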