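import Groth.Statements.S6027
import Mathlib
import Groth.Agent.Lib.Helper23LocSS
import Groth.Agent.Lib.Helper23LocSS2
import Groth.Agent.Lib.Helper23ExtRDNat
-- import your own Groth.Agent.* helpers here

set_option autoImplicit false
universe u
open CategoryTheory CategoryTheory.Limits TopologicalSpace
open LocCohZ

namespace Groth.Agent.S6027


open Groth.Agent.Lib.Helper23LocSS Groth.Agent.Lib.Helper23LocSS2 Groth.Agent.Lib.Helper23ExtRDNat
  Opposite

/-- `Hom(ℤ_V, -) ≅ Γ(V, -)`. -/
noncomputable def sectIso {X : TopCat.{u}} (V : Opens X) :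
    preadditiveCoyoneda.obj (op (CohCx.freeSheaf (Opens.grothendieckTopology X) V)) ≅
      sheafToPresheaf (Opens.grothendieckTopology X) AddCommGrpCat.{u} ⋙
        (evaluation (Opens X)ᵒᵖ AddCommGrpCat.{u}).obj (op V) :=
  NatIso.ofComponents
    (fun F => AddEquiv.toAddCommGrpIso (X := AddCommGrpCat.of _) (Y := F.obj.obj (op V))
      (CohFree.homEquivSect (Opens.grothendieckTopology X) V F))
    (fun {F F'} α => by
      ext φ
      rfl)

/-- The case of a closed subset. Let X be a topological space and Z a closed subset with open complement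
U. For every q the q-th right derived functor of F ↦ Γ_Z(X, F) is isomorphic to the functor F ↦
Ext^q(ℤ_{Z,X}, F), where ℤ_{Z,X} = ℤ_X/ℤ_U. (Existence of an isomorphism of functors for each q;
compatibility with connecting maps is not asserted.) -/
theorem result {X : TopCat.{u}} (U : Opens X) (q : ℕ) :
    Nonempty (LocCohZ.RHZ U q ≅ ToposFin.HZFunctor (LocCohZ.openSh U) q) := by
  let e₀ : LocCohZ.gammaZF U ≅ preadditiveCoyoneda.obj (op (LocCohZ.zq (le_top : U ≤ ⊤))) :=
    Functor.isoWhiskerLeft (LocCohZ.sectSuppF U) (sectIso (⊤ : Opens X)).symm ≪≫ gammaCoyonedaIso U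
  let e₁ := rightDerivedIso e₀ q
  let e₂ := rightDerivedCoyonedaIso (LocCohZ.zq (le_top : U ≤ ⊤)) q
  let e₃ : (Abelian.extFunctor.{u} q).obj (op (LocCohZ.zq (le_top : U ≤ ⊤))) ≅
      (Abelian.extFunctor.{u} q).obj (op (ToposFin.quotZ (LocCohZ.openSh U))) :=
    (Abelian.extFunctor.{u} q).mapIso (LocCohZ.zqIsoQuotZ U).op.symm
  exact ⟨e₁ ≪≫ e₂ ≪≫ e₃⟩

end Groth.Agent.S6027
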