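import Groth.Statements.S6028

set_option autoImplicit false
universe u
open CategoryTheory CategoryTheory.Limits TopologicalSpace
open LocCohZ

namespace Groth.Agent.S6028

section General

universe v' u'
variable {C : Type u'} [Category.{v'} C] [Abelian C]

/-- Third isomorphism theorem in an abelian category, in the form needed. -/
theorem third_iso {A B D : C} (f : A ⟶ B) (g : B ⟶ D) (fg : A ⟶ D) (hfg : f ≫ g = fg)
    [Mono g] [Mono fg]
    (φ : cokernel f ⟶ cokernel fg) (ψ : cokernel fg ⟶ cokernel g)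
    (hφ : cokernel.π f ≫ φ = g ≫ cokernel.π fg)
    (hψ : cokernel.π fg ≫ ψ = cokernel.π g) :
    ∃ w : φ ≫ ψ = 0, (ShortComplex.mk φ ψ w).ShortExact := by
  have w : φ ≫ ψ = 0 := by
    apply (cancel_epi (cokernel.π f)).1
    rw [reassoc_of% hφ, hψ, cokernel.condition, comp_zero]
  refine ⟨w, ?_⟩
  have exfg : (ShortComplex.mk fg (cokernel.π fg) (cokernel.condition fg)).Exact :=
    ShortComplex.exact_of_g_is_cokernel _ (cokernelIsCokernel _)
  have exg : (ShortComplex.mk g (cokernel.π g) (cokernel.condition g)).Exact :=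
    ShortComplex.exact_of_g_is_cokernel _ (cokernelIsCokernel _)
  have hmono : Mono φ := by
    rw [Preadditive.mono_iff_cancel_zero]
    intro X x hx
    obtain ⟨X', p, hp, b, hb⟩ := surjective_up_to_refinements_of_epi (cokernel.π f) x
    have h1 : (b ≫ g) ≫ cokernel.π fg = 0 := by
      rw [Category.assoc, ← hφ, ← reassoc_of% hb, hx, comp_zero]
    obtain ⟨X'', p', hp', a, ha⟩ := exfg.exact_up_to_refinements (b ≫ g) h1
    dsimp at a ha
    have h2 : p' ≫ b = a ≫ f := by
      apply (cancel_mono g).1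
      rw [Category.assoc, ha, Category.assoc, hfg]
    have h3 : (p' ≫ p) ≫ x = 0 := by
      rw [Category.assoc, hb, reassoc_of% h2, cokernel.condition, comp_zero]
    have : Epi (p' ≫ p) := epi_comp _ _
    exact (cancel_epi (p' ≫ p)).1 (by rw [h3, comp_zero])
  have hepi : Epi ψ := by
    have : Epi (cokernel.π fg ≫ ψ) := by rw [hψ]; infer_instance
    exact epi_of_epi (cokernel.π fg) ψ
  have hex : (ShortComplex.mk φ ψ w).Exact := by
    rw [ShortComplex.exact_iff_exact_up_to_refinements]
    intro X x hx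
    dsimp at x hx ⊢
    obtain ⟨X', p, hp, c, hc⟩ := surjective_up_to_refinements_of_epi (cokernel.π fg) x
    have h1 : c ≫ cokernel.π g = 0 := by
      rw [← hψ, ← reassoc_of% hc, hx, comp_zero]
    obtain ⟨X'', p', hp', b, hb⟩ := exg.exact_up_to_refinements c h1
    dsimp at b hb
    refine ⟨X'', p' ≫ p, epi_comp _ _, b ≫ cokernel.π f, ?_⟩
    rw [Category.assoc, hc, reassoc_of% hb, Category.assoc, hφ]
  exact { exact := hex, mono_f := hmono, epi_g := hepi }

end General

/-- Let X be a topological space and W ⊆ V ⊆ T opens of X; put Z = T − W, Z' = T − V and Z'' = V − W, so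
that Z' is closed in Z with complement Z''. Then 0 → ℤ_{Z'',X} → ℤ_{Z,X} → ℤ_{Z',X} → 0 is a short
exact sequence of abelian sheaves on X, where ℤ_{Z,X} = ℤ_T/ℤ_W and the maps are the induced ones. -/
theorem result {X : TopCat.{u}} {W V T : Opens X} (hWV : W ≤ V) (hVT : V ≤ T) :
    ∃ w : LocCohZ.zqMap (hWV.trans hVT) hWV le_rfl hVT ≫ LocCohZ.zqMap hVT (hWV.trans hVT) hWV le_rfl = 0,
      (ShortComplex.mk _ _ w).ShortExact := by
  have hcomp : CohCx.freeSheafMap (Opens.grothendieckTopology X) (homOfLE hWV) ≫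
      CohCx.freeSheafMap (Opens.grothendieckTopology X) (homOfLE hVT) =
      CohCx.freeSheafMap (Opens.grothendieckTopology X) (homOfLE (hWV.trans hVT)) := by
    rw [← CohFree.freeSheafMap_comp]
    rfl
  refine third_iso _ _ _ hcomp _ _ ?_ ?_
  · simp [LocCohZ.zqMap]
  · simp [LocCohZ.zqMap, CohFree.freeSheafMap_id]

end Groth.Agent.S6028
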