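import Groth.Statements.S6029
import Mathlib
import Groth.Agent.S11918
import Groth.Agent.Lib.Helper23LocSS
import Groth.Agent.Lib.Helper23LocSS2
-- import your own Groth.Agent.* helpers here

set_option autoImplicit false
universe u
open CategoryTheory CategoryTheory.Limits TopologicalSpace
open LocCohZ

namespace Groth.Agent.S6029


open Groth.Agent.Lib.Helper23SS3 Groth.Agent.Lib.Helper23SS5 Groth.Agent.S12229
  Groth.Agent.Lib.Helper23Acyclic Groth.Agent.Lib.Helper23Leray Groth.Agent.Lib.Helper23Bridge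
  Groth.Agent.Lib.Helper23LocSS Groth.Agent.Lib.Helper23LocSS2 Groth.Agent.Lib.Helper23ExtRD
  Opposite

/-- For a closed subset Z = X − U of a topological space X and an abelian sheaf F on X: there is an E₂
spectral sequence of abelian groups with E₂^{p,q} ≅ H^p(X, ℋ^q_Z(F)) for p, q ≥ 0 (and 0 otherwise),
bounded, abutting with finite filtrations to H^n_Z(X, F) (n ≥ 0; 0 for n < 0). (Existence only: the
E₂ identifications and the abutment isomorphisms are some isomorphisms, not the canonical maps of a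
construction, so edge maps and low-degree exact sequences are not part of this statement.) -/
theorem result {X : TopCat.{u}} (F : CohTop.Ab X) (U : Opens X) :
    ∃ (E : E₂CohomologicalSpectralSequence AddCommGrpCat.{u})
      (a : SpSeq.Abutment E (fun n : ℤ =>
        if 0 ≤ n then AddCommGrpCat.of (LocCohZ.HZc F n.toNat U) else AddCommGrpCat.of PUnit.{u + 1})),
      (∀ n : ℤ, a.IsFinite n) ∧ SpSeq.IsBounded E ∧
      ∀ p q : ℤ, Nonempty ((E.page 2 le_rfl).X (p, q) ≅
        (if 0 ≤ p ∧ 0 ≤ q then AddCommGrpCat.of (CohTop.HU ((LocCohZ.HZsh U q.toNat).obj F) p.toNat ⊤)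
          else AddCommGrpCat.of PUnit.{u + 1})) := by
  let T : CohTop.Ab X ⥤ CohTop.Ab X := LocCohZ.sectSuppF U
  let S : CohTop.Ab X ⥤ AddCommGrpCat.{u} :=
    preadditiveCoyoneda.obj (op (CohCx.freeSheaf (Opens.grothendieckTopology X) (⊤ : Opens X)))
  have hT : ∀ Q : CohTop.Ab X, Injective Q → ∀ q : ℕ, 0 < q →
      IsZero ((S.rightDerived q).obj (T.obj Q)) := by
    intro Q hQ q hq
    obtain ⟨q, rfl⟩ : ∃ k, q = k + 1 := ⟨q - 1, by lia⟩
    have : Injective (T.obj Q) := injective_sectSuppF U Q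
    exact Functor.isZero_rightDerived_obj_injective_succ S q (T.obj Q)
  have : HasDerivedCategory.{u + 1} (CohTop.Ab X) := HasDerivedCategory.standard _
  have : HasDerivedCategory.{u + 1} AddCommGrpCat.{u} := HasDerivedCategory.standard _
  let I : InjectiveResolution F := injectiveResolution F
  let TI : CochainComplex (CohTop.Ab X) ℤ :=
    (T.mapHomologicalComplex (ComplexShape.up ℤ)).obj I.cochainComplex
  have hTI : TI.IsStrictlyGE 0 := by dsimp [TI]; infer_instance
  let K : CochainComplex.Plus (CohTop.Ab X) := ⟨TI, 0, hTI⟩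
  let Y' := DerivedCategory.Plus.Q.obj K
  have hY : Y'.IsGE 0 := by
    rw [← DerivedCategory.Plus.isGE_ι_obj_iff]
    show (DerivedCategory.Q.obj TI).IsGE 0
    infer_instance
  have hK : IsIso (τ S K) := leray S K (fun m => (acyclic_iff S _).2 (hT _ (by
    show Injective (I.cochainComplex.X m); infer_instance)))
  have hz : IsZero (AddCommGrpCat.of PUnit.{u + 1}) := AddCommGrpCat.isZero_of_subsingleton _
  have e : ∀ n : ℤ, Nonempty ((DerivedCategory.homologyFunctor AddCommGrpCat.{u} n).obj ((G S).obj Y') ≅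
      (if 0 ≤ n then AddCommGrpCat.of (LocCohZ.HZc F n.toNat U)
          else AddCommGrpCat.of PUnit.{u + 1})) := by
    intro n
    obtain ⟨e₁⟩ := homology_G_Q S K hK n
    by_cases h : 0 ≤ n
    · rw [if_pos h]
      obtain ⟨e₂⟩ := homology_map_cochainComplex (T ⋙ S) I n.toNat n (Int.toNat_of_nonneg h)
      let e₃ := (rightDerivedIso (gammaCoyonedaIso U) n.toNat).app F
      obtain ⟨e₄⟩ := rightDerived_coyoneda_iso (LocCohZ.zq (le_top : U ≤ ⊤)) F n.toNat
      exact ⟨e₁ ≪≫ e₂ ≪≫ e₃ ≪≫ e₄⟩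
    · rw [if_neg h]
      exact ⟨e₁ ≪≫ (isZero_homology_map_cochainComplex (T ⋙ S) I n (by lia)).isoZero ≪≫
        hz.isoZero.symm⟩
  obtain ⟨E, a, ha, hE, hpq⟩ := exists_spectralSequence S Y' _ (fun n => (e n).some)
  refine ⟨E, a, ha, hE, fun p q => ?_⟩
  by_cases h : 0 ≤ p ∧ 0 ≤ q
  · rw [if_pos h]
    obtain ⟨e₁⟩ := (hpq p q).1 p.toNat (Int.toNat_of_nonneg h.1)
    obtain ⟨e₂⟩ := homology_map_cochainComplex T I q.toNat q (Int.toNat_of_nonneg h.2)
    obtain ⟨e₃⟩ := rightDerived_coyoneda_iso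
      (CohCx.freeSheaf (Opens.grothendieckTopology X) (⊤ : Opens X))
      ((LocCohZ.HZsh U q.toNat).obj F) p.toNat
    exact ⟨e₁ ≪≫ (S.rightDerived p.toNat).mapIso
      ((DerivedCategory.homologyFunctorFactors (CohTop.Ab X) q).app TI ≪≫ e₂) ≪≫ e₃⟩
  · rw [if_neg h]
    exact ⟨((hpq p q).2 h).isoZero ≪≫ hz.isoZero.symm⟩

end Groth.Agent.S6029
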