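import Groth.Statements.S6031
import Mathlib
import Groth.Agent.Lib.Helper23AffVanish7
-- import your own Groth.Agent.* helpers here

set_option autoImplicit false
universe u
open CategoryTheory CategoryTheory.Limits TopologicalSpace AlgebraicGeometry
open LocCohZ

namespace Groth.Agent.S6031


open Groth.Agent.Lib.Helper23.AffVanish in
/-- Let Y be an affine scheme, U an open subset with closed complement Z and M a quasi-coherent
O_Y-module with underlying abelian sheaf F. Then 0 → H^0_Z(Y, F) → H^0(Y, F) → H^0(U, F) → H^1_Z(Y,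
F) → 0 is exact, i.e. the connecting map H^0(U, F) → H^1_Z(Y, F) is surjective, and the connecting
maps H^i(U, F) → H^{i+1}_Z(Y, F) are bijective for all i ≥ 1. (The published statement assumes U
quasi-compact; the printed proof of these two assertions only uses the vanishing of the higher
cohomology of F on the affine scheme Y, so U is an arbitrary open here.) -/
theorem result (Y : Scheme.{u}) [IsAffine Y] (M : Y.Modules)
    (hM : Coh.IsQCoh M) (U : Y.Opens) :
    Function.Surjective (LocCohZ.delta (X := Y.carrier) (Coh.toAb M) 0 (le_top : U ≤ ⊤)) ∧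
      ∀ i : ℕ, 1 ≤ i →
        Function.Bijective (LocCohZ.delta (X := Y.carrier) (Coh.toAb M) i (le_top : U ≤ ⊤)) := by
  haveI : M.IsQuasicoherent := hM
  have hvan : ∀ i : ℕ, Subsingleton (HE (ab M) (i + 1) (⊤ : Opens Y.carrier)) := by
    intro i
    have h1 := subsingleton_HE_basicOpen M i (1 : Γ(Y, ⊤))
    have e : Y.basicOpen (1 : Γ(Y, ⊤)) = ⊤ := Y.basicOpen_of_isUnit isUnit_one
    rw [e] at h1
    exact h1
  have hS := LocCohZ.zqSeq_shortExact (X := Y.carrier) (le_top : U ≤ ⊤)
  have hsurj : ∀ i : ℕ, Function.Surjective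
      (LocCohZ.delta (X := Y.carrier) (Coh.toAb M) i (le_top : U ≤ ⊤)) := by
    intro i x₃
    haveI := hvan i
    obtain ⟨x₁, hx₁⟩ := Abelian.Ext.contravariant_sequence_exact₃ hS (Coh.toAb M) x₃
      (Subsingleton.elim (α := HE (ab M) (i + 1) (⊤ : Opens Y.carrier)) _ _) (add_comm 1 i)
    exact ⟨x₁, hx₁⟩
  refine ⟨hsurj 0, fun i hi => ⟨?_, hsurj i⟩⟩
  obtain ⟨j, rfl⟩ := Nat.exists_eq_succ_of_ne_zero (Nat.one_le_iff_ne_zero.1 hi)
  rw [injective_iff_map_eq_zero]
  intro x₁ hx₁
  haveI := hvan j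
  obtain ⟨x₂, hx₂⟩ := Abelian.Ext.contravariant_sequence_exact₁ hS (Coh.toAb M) x₁ (add_comm 1 (j + 1)) hx₁
  have : x₂ = 0 := Subsingleton.elim (α := HE (ab M) (j + 1) (⊤ : Opens Y.carrier)) _ _
  rw [← hx₂, this, Abelian.Ext.comp_zero]
  rfl

end Groth.Agent.S6031
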