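import Groth.Statements.S6033
import Groth.Agent.Lib.Helper8KoszFlasque

set_option autoImplicit false
universe u
open CategoryTheory CategoryTheory.Limits TopologicalSpace AlgebraicGeometry
open LocCohZ

namespace Groth.Agent.S6033

/-- Let A be a commutative ring such that the underlying space of X = Spec A is Noetherian. Then M~ is
flasque for every injective A-module M if and only if colim_n H^1(f^n, M) = 0 (direct limit of
Koszul cohomology of the powers) for every finite family f of elements of A and every injective
A-module M; and in that case colim_n H^i(f^n, M) = 0 for all i > 0 as well. -/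
theorem result (A : Type u) [CommRing A]
    [NoetherianSpace (PrimeSpectrum A)] :
    ((∀ (M : Type u) [AddCommGroup M] [Module A M], Module.Injective A M →
        TopCat.Sheaf.IsFlasque (Coh.toAb (AlgebraicGeometry.tilde (R := CommRingCat.of A) (ModuleCat.of A M)))) ↔
      ∀ (fs : List A) (M : Type u) [AddCommGroup M] [Module A M], Module.Injective A M →
        Subsingleton (CohIII.koszulHLim fs (ModuleCat.of A M) 1)) ∧
    ((∀ (M : Type u) [AddCommGroup M] [Module A M], Module.Injective A M →
        TopCat.Sheaf.IsFlasque (Coh.toAb (AlgebraicGeometry.tilde (R := CommRingCat.of A) (ModuleCat.of A M)))) →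
      ∀ (fs : List A) (M : Type u) [AddCommGroup M] [Module A M], Module.Injective A M →
        ∀ i : ℕ, 0 < i → Subsingleton (CohIII.koszulHLim fs (ModuleCat.of A M) i)) := by
  have key : ∀ (M : Type u) [AddCommGroup M] [Module A M],
      TopCat.Sheaf.IsFlasque (Coh.toAb (AlgebraicGeometry.tilde (R := CommRingCat.of A)
        (ModuleCat.of A M))) ↔
      ∀ fs : List A, Subsingleton (CohIII.koszulHLim fs (ModuleCat.of A M) 1) := by
    intro M _ _
    rw [Groth.Agent.Lib.Helper8KoszFlasque.isFlasque_iff]
    constructor
    · intro h fs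
      exact (Groth.Agent.Lib.Helper8KoszFlasque.surjective_iff A (ModuleCat.of A M) fs
        (((1 : ℕ) : ℤ) - fs.length) (by push_cast; ring)).mp (h _)
    · intro h W
      obtain ⟨fs, rfl⟩ := Groth.Agent.Lib.Helper8KoszFlasque.exists_list A W
      exact (Groth.Agent.Lib.Helper8KoszFlasque.surjective_iff A (ModuleCat.of A M) fs
        (((1 : ℕ) : ℤ) - fs.length) (by push_cast; ring)).mpr (h fs)
  have part1 : (∀ (M : Type u) [AddCommGroup M] [Module A M], Module.Injective A M →
        TopCat.Sheaf.IsFlasque (Coh.toAb (AlgebraicGeometry.tilde (R := CommRingCat.of A)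
          (ModuleCat.of A M)))) ↔
      ∀ (fs : List A) (M : Type u) [AddCommGroup M] [Module A M], Module.Injective A M →
        Subsingleton (CohIII.koszulHLim fs (ModuleCat.of A M) 1) := by
    constructor
    · intro h fs M _ _ hM
      exact (key M).mp (h M hM) fs
    · intro h M _ _ hM
      exact (key M).mpr (fun fs => h fs M hM)
  refine ⟨part1, ?_⟩
  intro h fs M _ _ hM i hi
  have h1 := part1.mp h
  have h1' : ∀ gs : List A, Subsingleton (Groth.Agent.Lib.Helper8KoszLim.TL (ModuleCat.of A M) gs
      (-((gs.length : ℕ) : ℤ) + 1)) := by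
    intro gs
    have := h1 gs M hM
    have e : ((1 : ℕ) : ℤ) - gs.length = -((gs.length : ℕ) : ℤ) + 1 := by push_cast; ring
    rw [← e]
    exact this
  exact Groth.Agent.Lib.Helper8KoszFlasque.TL_subsingleton_of_one (ModuleCat.of A M) h1' fs
    ((i : ℤ) - fs.length) (by
      have : (0 : ℤ) < i := by exact_mod_cast hi
      omega)

end Groth.Agent.S6033
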