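import Groth.Statements.S6037
import Mathlib
import Groth.Agent.S11918
import Groth.Agent.Lib.Helper23LocSS
-- import your own Groth.Agent.* helpers here

set_option autoImplicit false
universe u
open CategoryTheory CategoryTheory.Limits TopologicalSpace
open LocCohZ

namespace Groth.Agent.S6037


open Groth.Agent.Lib.Helper23SS3 Groth.Agent.Lib.Helper23SS5 Groth.Agent.S12229
  Groth.Agent.Lib.Helper23Acyclic Groth.Agent.Lib.Helper23Leray Groth.Agent.Lib.Helper23Bridge
  Groth.Agent.Lib.Helper23LocSS Groth.Agent.Lib.Helper23ExtRD Groth.Agent.Lib.Helper16.Flasque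
  Opposite

/-- Let f : X → Y be a continuous map of topological spaces, Y' a closed subset of Y with open
complement V, X' = f⁻¹(Y') and F an abelian sheaf on X. There is an E₂ spectral sequence of abelian
groups with E₂^{p,q} ≅ H^p_{Y'}(Y, R^q f_* F) for p, q ≥ 0 (0 otherwise), bounded, abutting with
finite filtrations to H^n_{X'}(X, F). (The published statement is for a morphism of ringed spaces
and records module structures over the global sections of O_Y; here only abelian groups. Existence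
only: the E₂ identifications and abutment isomorphisms are some isomorphisms, not the canonical
ones.) -/
theorem result {X Y : TopCat.{u}} (f : X ⟶ Y)
    (V : Opens Y) (F : CohTop.Ab X) :
    ∃ (E : E₂CohomologicalSpectralSequence AddCommGrpCat.{u})
      (a : SpSeq.Abutment E (fun n : ℤ =>
        if 0 ≤ n then AddCommGrpCat.of (LocCohZ.HZc F n.toNat ((Opens.map f).obj V))
          else AddCommGrpCat.of PUnit.{u + 1})),
      (∀ n : ℤ, a.IsFinite n) ∧ SpSeq.IsBounded E ∧
      ∀ p q : ℤ, Nonempty ((E.page 2 le_rfl).X (p, q) ≅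
        (if 0 ≤ p ∧ 0 ≤ q then AddCommGrpCat.of (LocCohZ.HZc ((CohTop.Rpush f q.toNat).obj F) p.toNat V)
          else AddCommGrpCat.of PUnit.{u + 1})) := by
  let T : CohTop.Ab X ⥤ CohTop.Ab Y := CohTop.push f
  let S : CohTop.Ab Y ⥤ AddCommGrpCat.{u} :=
    preadditiveCoyoneda.obj (op (LocCohZ.zq (le_top : V ≤ ⊤)))
  let S' : CohTop.Ab X ⥤ AddCommGrpCat.{u} :=
    preadditiveCoyoneda.obj (op (LocCohZ.zq (le_top : (Opens.map f).obj V ≤ ⊤)))
  have hT : ∀ Q : CohTop.Ab X, Injective Q → ∀ q : ℕ, 0 < q →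
      IsZero ((S.rightDerived q).obj (T.obj Q)) := by
    intro Q hQ q hq
    obtain ⟨q, rfl⟩ : ∃ k, q = k + 1 := ⟨q - 1, by lia⟩
    obtain ⟨e⟩ := rightDerived_coyoneda_iso (LocCohZ.zq (le_top : V ≤ ⊤)) (T.obj Q) (q + 1)
    refine IsZero.of_iso ?_ e
    have : TopCat.Sheaf.IsFlasque Q := injective_isFlasque Q
    have : TopCat.Sheaf.IsFlasque (T.obj Q) := TopCat.Sheaf.IsFlasque.pushforward_isFlasque Q f
    have : Subsingleton (Abelian.Ext.{u} (LocCohZ.zq (le_top : V ≤ ⊤)) (T.obj Q) (q + 1)) :=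
      subsingleton_of_forall_eq 0 (fun x => HZ_eq_zero_of_flasque (T.obj Q) le_top q x)
    exact AddCommGrpCat.isZero_of_subsingleton _
  have : HasDerivedCategory.{u + 1} (CohTop.Ab X) := HasDerivedCategory.standard _
  have : HasDerivedCategory.{u + 1} (CohTop.Ab Y) := HasDerivedCategory.standard _
  have : HasDerivedCategory.{u + 1} AddCommGrpCat.{u} := HasDerivedCategory.standard _
  let I : InjectiveResolution F := injectiveResolution F
  let TI : CochainComplex (CohTop.Ab Y) ℤ :=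
    (T.mapHomologicalComplex (ComplexShape.up ℤ)).obj I.cochainComplex
  have hTI : TI.IsStrictlyGE 0 := by dsimp [TI]; infer_instance
  let K : CochainComplex.Plus (CohTop.Ab Y) := ⟨TI, 0, hTI⟩
  let Y' := DerivedCategory.Plus.Q.obj K
  have hY : Y'.IsGE 0 := by
    rw [← DerivedCategory.Plus.isGE_ι_obj_iff]
    show (DerivedCategory.Q.obj TI).IsGE 0
    infer_instance
  have hK : IsIso (τ S K) := leray S K (fun m => (acyclic_iff S _).2 (hT _ (by
    show Injective (I.cochainComplex.X m); infer_instance)))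
  have hz : IsZero (AddCommGrpCat.of PUnit.{u + 1}) := AddCommGrpCat.isZero_of_subsingleton _
  have e : ∀ n : ℤ, Nonempty ((DerivedCategory.homologyFunctor AddCommGrpCat.{u} n).obj ((G S).obj Y') ≅
      (if 0 ≤ n then AddCommGrpCat.of (LocCohZ.HZc F n.toNat ((Opens.map f).obj V))
          else AddCommGrpCat.of PUnit.{u + 1})) := by
    intro n
    obtain ⟨e₁⟩ := homology_G_Q S K hK n
    by_cases h : 0 ≤ n
    · rw [if_pos h]
      obtain ⟨e₂⟩ := homology_map_cochainComplex (T ⋙ S) I n.toNat n (Int.toNat_of_nonneg h)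
      let e₃ := (rightDerivedIso (pushCoyonedaIso f V) n.toNat).app F
      obtain ⟨e₄⟩ := rightDerived_coyoneda_iso
        (LocCohZ.zq (le_top : (Opens.map f).obj V ≤ ⊤)) F n.toNat
      exact ⟨e₁ ≪≫ e₂ ≪≫ e₃ ≪≫ e₄⟩
    · rw [if_neg h]
      exact ⟨e₁ ≪≫ (isZero_homology_map_cochainComplex (T ⋙ S) I n (by lia)).isoZero ≪≫
        hz.isoZero.symm⟩
  obtain ⟨E, a, ha, hE, hpq⟩ := exists_spectralSequence S Y' _ (fun n => (e n).some)
  refine ⟨E, a, ha, hE, fun p q => ?_⟩
  by_cases h : 0 ≤ p ∧ 0 ≤ q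
  · rw [if_pos h]
    obtain ⟨e₁⟩ := (hpq p q).1 p.toNat (Int.toNat_of_nonneg h.1)
    obtain ⟨e₂⟩ := homology_map_cochainComplex T I q.toNat q (Int.toNat_of_nonneg h.2)
    obtain ⟨e₃⟩ := rightDerived_coyoneda_iso (LocCohZ.zq (le_top : V ≤ ⊤))
      ((CohTop.Rpush f q.toNat).obj F) p.toNat
    exact ⟨e₁ ≪≫ (S.rightDerived p.toNat).mapIso
      ((DerivedCategory.homologyFunctorFactors (CohTop.Ab Y) q).app TI ≪≫ e₂) ≪≫ e₃⟩
  · rw [if_neg h]
    exact ⟨((hpq p q).2 h).isoZero ≪≫ hz.isoZero.symm⟩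

end Groth.Agent.S6037
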