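import Groth.Statements.S6040
import Mathlib
import Groth.Agent.Lib.Helper23OpenEmb
import Groth.Agent.Lib.Helper23DerComp
import Groth.Agent.Lib.Helper23LocSS
-- import your own Groth.Agent.* helpers here

set_option autoImplicit false
universe u
open CategoryTheory CategoryTheory.Limits TopologicalSpace
open LocCohZ

namespace Groth.Agent.S6040


open Groth.Agent.Lib.Helper16.ClosedEmb Groth.Agent.Lib.Helper16.Flasque
  Groth.Agent.Lib.Helper23OpenEmb Groth.Agent.Lib.Helper23DerComp Groth.Agent.Lib.Helper23LocSS

theorem pull_additive {Y X : TopCat.{u}} (i : Y ⟶ X) : (CohTop.pull i).Additive :=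
  @Adjunction.left_adjoint_additive _ _ _ _ _ _ _ _
    (TopCat.Sheaf.pullbackPushforwardAdjunction AddCommGrpCat.{u} i) (CohTop.instAdditiveAbPush i)

theorem pull_preservesFiniteLimits {Y X : TopCat.{u}} (i : Y ⟶ X) :
    PreservesFiniteLimits (CohTop.pull i) :=
  CategoryTheory.Functor.SmallCategories.instPreservesFiniteLimitsSheafSheafPullbackOfRepresentablyFlat
    (Opens.map i) AddCommGrpCat.{u} (Opens.grothendieckTopology ↑X) (Opens.grothendieckTopology ↑Y)

theorem pull_preservesFiniteColimits {Y X : TopCat.{u}} (i : Y ⟶ X) :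
    PreservesFiniteColimits (CohTop.pull i) := by
  haveI : PreservesColimitsOfSize.{0, 0} (CohTop.pull i) :=
    (TopCat.Sheaf.pullbackPushforwardAdjunction AddCommGrpCat.{u} i).leftAdjoint_preservesColimits
  exact PreservesColimitsOfSize.preservesFiniteColimits _

/-- restriction to an open is isomorphic to the pullback. -/
noncomputable def restrIsoPull {X : TopCat.{u}} (U : Opens X) :
    CohTop.restrFunctor U ≅ CohTop.pull (CohCx.incl U) :=
  (adjR U).leftAdjointUniq (adjJ U)

theorem aux {X : TopCat.{u}} (U : Opens X) (q : ℕ) (j' : TopCat.of U ⟶ X) (hj : j' = CohCx.incl U)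
    [(CohTop.push j').Additive] [(CohTop.restrFunctor U ⋙ CohTop.push j').Additive] :
    Nonempty ((CohTop.restrFunctor U ⋙ CohTop.push j').rightDerived q ≅
      CohTop.restrFunctor U ⋙ CohTop.Rpush (CohCx.incl U) q) := by
  subst hj
  haveI : PreservesFiniteLimits (CohTop.pull (CohCx.incl U)) := pull_preservesFiniteLimits _
  haveI : PreservesFiniteColimits (CohTop.pull (CohCx.incl U)) := pull_preservesFiniteColimits _
  haveI : PreservesFiniteLimits (CohTop.restrFunctor U) :=
    preservesFiniteLimits_of_natIso (restrIsoPull U).symm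
  haveI : PreservesFiniteColimits (CohTop.restrFunctor U) :=
    preservesFiniteColimits_of_natIso (restrIsoPull U).symm
  haveI : (CohTop.restrFunctor U).PreservesInjectiveObjects :=
    ⟨fun {Q} hQ => by
      haveI := hQ
      exact Injective.of_iso ((restrIsoPull U).app Q).symm (injective_pull U Q)⟩
  exact ⟨compIso (CohTop.restrFunctor U) (CohTop.push (CohCx.incl U)) q⟩

/-- Let X be a topological space, U an open subset and j : U → X the inclusion, so that the sheaf of
sections with supports in the open U is Γ_U(F) = j_*(F|_U). For every q the local cohomology sheaf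
functor ℋ^q_U, i.e. the q-th right derived functor of F ↦ j_*(F|_U), is isomorphic to F ↦ R^q
j_*(F|_U). (Existence of an isomorphism of functors for each q.) -/
theorem result {X : TopCat.{u}} (U : Opens X) (q : ℕ) :
    Nonempty (CohCx.RpushOn (𝟙 X) U q ≅ CohTop.restrFunctor U ⋙ CohTop.Rpush (CohCx.incl U) q) := by
  exact aux U q (CohCx.incl U ≫ 𝟙 X) (Category.comp_id _)

end Groth.Agent.S6040
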