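import Groth.Statements.S6044
import Mathlib
import Groth.Agent.Lib.Helper11IdGlueC

set_option autoImplicit false
open CategoryTheory CategoryTheory.Limits AlgebraicGeometry
universe u
open GrpQ

namespace Groth.Agent.S6044

open Desc Opposite


/-- Closed immersions descend along the fpqc topology. For an fpqc covering family `f i : X i ⟶ S` of a
scheme `S`, every descent datum for schemes relative to the family all of whose members `Z i ⟶ X i`
are closed immersions is effective. -/
theorem result {S : Scheme.{u}} {ι : Type u} {X : ι → Scheme.{u}}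
    (f : ∀ i, X i ⟶ S) (hf : Presieve.ofArrows X f ∈ Scheme.fpqcPrecoverage S)
    (D : Desc.SchDDFam f) (hD : ∀ i, IsClosedImmersion (D.obj i).hom) :
    D.IsEffective := by
  haveI : ∀ i, IsClosedImmersion (D.obj i).hom := hD
  -- the ideal sheaves
  obtain ⟨I, hI⟩ : ∃ I : ∀ i, (X i).IdealSheafData, ∀ i, I i = (D.obj i).hom.ker := ⟨_, fun _ => rfl⟩
  -- one inclusion of the compatibility
  have hle : ∀ i j, (I j).comap (pullback.snd (f i) (f j)) ≤
      (I i).comap (pullback.fst (f i) (f j)) := by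
    intro i j
    rw [hI i, hI j, ← Scheme.IdealSheafData.ker_fst_of_isClosedImmersion,
      ← Scheme.IdealSheafData.ker_fst_of_isClosedImmersion]
    obtain ⟨a, ha⟩ : ∃ a, a = pullback.fst (pullback.fst (f i) (f j)) (D.obj i).hom := ⟨_, rfl⟩
    have hc : (a ≫ pullback.fst (f i) (f j)) ≫ f i = (a ≫ pullback.snd (f i) (f j)) ≫ f j := by
      rw [Category.assoc, Category.assoc, pullback.condition]
    obtain ⟨v, hv⟩ : ∃ v : Lifts (D.obj i) (a ≫ pullback.fst (f i) (f j)),
        v.1 = pullback.snd (pullback.fst (f i) (f j)) (D.obj i).hom :=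
      ⟨⟨pullback.snd _ _, by rw [ha]; exact pullback.condition.symm⟩, rfl⟩
    obtain ⟨w, hw⟩ : ∃ w, w = D.φ _ _ hc v := ⟨_, rfl⟩
    have hw2 : w.1 ≫ (D.obj j).hom = a ≫ pullback.snd (f i) (f j) := w.2
    have e : a = pullback.lift a w.1 hw2.symm ≫
        pullback.fst (pullback.snd (f i) (f j)) (D.obj j).hom := (pullback.lift_fst _ _ _).symm
    rw [← ha, e]
    exact Scheme.Hom.le_ker_comp _ _
  have hle' : ∀ i j, (I i).comap (pullback.fst (f i) (f j)) ≤
      (I j).comap (pullback.snd (f i) (f j)) := by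
    intro i j
    rw [hI i, hI j, ← Scheme.IdealSheafData.ker_fst_of_isClosedImmersion,
      ← Scheme.IdealSheafData.ker_fst_of_isClosedImmersion]
    obtain ⟨a, ha⟩ : ∃ a, a = pullback.fst (pullback.snd (f i) (f j)) (D.obj j).hom := ⟨_, rfl⟩
    have hc : (a ≫ pullback.snd (f i) (f j)) ≫ f j = (a ≫ pullback.fst (f i) (f j)) ≫ f i := by
      rw [Category.assoc, Category.assoc, pullback.condition]
    obtain ⟨v, hv⟩ : ∃ v : Lifts (D.obj j) (a ≫ pullback.snd (f i) (f j)),
        v.1 = pullback.snd (pullback.snd (f i) (f j)) (D.obj j).hom :=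
      ⟨⟨pullback.snd _ _, by rw [ha]; exact pullback.condition.symm⟩, rfl⟩
    obtain ⟨w, hw⟩ : ∃ w, w = D.φ _ _ hc v := ⟨_, rfl⟩
    have hw2 : w.1 ≫ (D.obj i).hom = a ≫ pullback.fst (f i) (f j) := w.2
    have e : a = pullback.lift a w.1 hw2.symm ≫
        pullback.fst (pullback.fst (f i) (f j)) (D.obj i).hom := (pullback.lift_fst _ _ _).symm
    rw [← ha, e]
    exact Scheme.Hom.le_ker_comp _ _
  obtain ⟨J, hJ, -⟩ := Groth.Agent.Lib.Helper11.IdGlue.existsUnique_idealSheafData_of_fpqc f hf I
    fun i j => le_antisymm (hle' i j) (hle i j)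
  -- the isomorphisms
  have hker : ∀ i, (D.obj i).hom.ker = (pullback.fst (f i) J.subschemeι).ker := by
    intro i
    rw [← hI i, ← hJ i]
    rfl
  obtain ⟨e, he⟩ : ∃ e : ∀ i, pullback (f i) J.subschemeι ≅ (D.obj i).left,
      ∀ i, (e i).hom ≫ (D.obj i).hom = pullback.fst (f i) J.subschemeι := by
    refine ⟨fun i => ?_, fun i => ?_⟩
    · haveI := IsClosedImmersion.isIso_lift (D.obj i).hom (pullback.fst (f i) J.subschemeι) (hker i)
      exact asIso (IsClosedImmersion.lift (D.obj i).hom (pullback.fst (f i) J.subschemeι)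
        (hker i).le)
    · exact IsClosedImmersion.lift_fac _ _ _
  have he' : ∀ i, (e i).inv ≫ pullback.fst (f i) J.subschemeι = (D.obj i).hom := by
    intro i
    rw [← he i, Iso.inv_hom_id_assoc]
  refine ⟨Over.mk J.subschemeι, ?_⟩
  have hCmono : ∀ i, Mono (((toDDFam f).obj (Over.mk J.subschemeι)).obj i).hom := fun i =>
    inferInstanceAs (Mono (pullback.fst (f i) J.subschemeι))
  obtain ⟨a, ha⟩ : ∃ a : ∀ i, ((toDDFam f).obj (Over.mk J.subschemeι)).obj i ⟶ D.obj i,
      ∀ i, (a i).left = (e i).hom :=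
    ⟨fun i => Over.homMk (U := Over.mk (pullback.fst (f i) J.subschemeι)) (e i).hom (he i),
      fun i => rfl⟩
  obtain ⟨b, hb⟩ : ∃ b : ∀ i, D.obj i ⟶ ((toDDFam f).obj (Over.mk J.subschemeι)).obj i,
      ∀ i, (b i).left = (e i).inv :=
    ⟨fun i => Over.homMk (V := Over.mk (pullback.fst (f i) J.subschemeι)) (e i).inv (he' i),
      fun i => rfl⟩
  exact ⟨
    { hom := ⟨a, fun T i j x₀ x₁ h v w hw => by
        rw [← cancel_mono (D.obj j).hom, Category.assoc, Over.w (a j)]
        exact (D.φ x₀ x₁ h w).2.trans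
          (((toDDFam f).obj (Over.mk J.subschemeι)).φ x₀ x₁ h v).2.symm⟩
      inv := ⟨b, fun T i j x₀ x₁ h v w hw => by
        have := hCmono j
        rw [← cancel_mono (((toDDFam f).obj (Over.mk J.subschemeι)).obj j).hom, Category.assoc,
          Over.w (b j)]
        exact (((toDDFam f).obj (Over.mk J.subschemeι)).φ x₀ x₁ h w).2.trans
          (D.φ x₀ x₁ h v).2.symm⟩
      hom_inv_id := by
        apply Desc.SchDDFam.hom_ext
        funext i
        apply Over.OverMorphism.ext
        change (a i).left ≫ (b i).left = 𝟙 _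
        rw [ha, hb]
        exact (e i).hom_inv_id
      inv_hom_id := by
        apply Desc.SchDDFam.hom_ext
        funext i
        apply Over.OverMorphism.ext
        change (b i).left ≫ (a i).left = 𝟙 _
        rw [ha, hb]
        exact (e i).inv_hom_id }⟩

end Groth.Agent.S6044
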