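import Groth.Statements.S6045
import Mathlib

set_option autoImplicit false
open CategoryTheory CategoryTheory.Limits AlgebraicGeometry
universe u
open GrpQ

namespace Groth.Agent.S6045


open Desc Opposite

lemma lifts_nonempty_iff {Y : Scheme.{u}} (V : Over Y) [IsOpenImmersion V.hom] {T : Scheme.{u}}
    (x : T ⟶ Y) : Nonempty (Lifts V x) ↔ Set.range x.base ⊆ Set.range V.hom.base := by
  constructor
  · rintro ⟨v, hv⟩
    rw [← hv, Scheme.Hom.comp_base, TopCat.coe_comp]
    exact Set.range_comp_subset_range _ _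
  · intro h
    exact ⟨⟨IsOpenImmersion.lift V.hom x h, IsOpenImmersion.lift_fac _ _ _⟩⟩

lemma lifts_subsingleton {Y : Scheme.{u}} (V : Over Y) [IsOpenImmersion V.hom] {T : Scheme.{u}}
    (x : T ⟶ Y) (a b : Lifts V x) : a = b := by
  apply Subtype.ext
  rw [← cancel_mono V.hom, a.2, b.2]

/-- Descent of open subsets along an fpqc covering family. -/
lemma exists_open {S : Scheme.{u}} {ι : Type u} {X : ι → Scheme.{u}}
    (f : ∀ i, X i ⟶ S) (hf : Presieve.ofArrows X f ∈ Scheme.fpqcPrecoverage S)
    (U : ∀ i, (X i).Opens)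
    (hU : ∀ i j (z : ↥(pullback (f i) (f j))),
      (pullback.fst (f i) (f j)).base z ∈ U i ↔ (pullback.snd (f i) (f j)).base z ∈ U j) :
    ∃ V : S.Opens, ∀ i, (f i) ⁻¹ᵁ V = U i := by
  have hsh := (isSheaf_iff_isSheaf_of_type _ _).mp
    (isSheaf_fpqcTopology_continuousMapPresheaf.{0, u} Prop)
  have h1 := hsh _ (Precoverage.generate_mem_toGrothendieck hf)
  rw [← Presieve.isSheafFor_iff_generate, Presieve.isSheafFor_arrows_iff_pullbacks] at h1
  obtain ⟨t, ht, -⟩ := h1 (fun i => ⟨fun p => p ∈ U i, continuous_Prop.mpr (U i).2⟩) (by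
    intro i j
    apply ContinuousMap.ext
    intro z
    exact propext (hU i j z))
  obtain ⟨t', rfl⟩ : ∃ t' : C(↥S, Prop), t' = t := ⟨t, rfl⟩
  refine ⟨⟨{s | t' s}, continuous_Prop.mp t'.continuous⟩, fun i => ?_⟩
  ext p
  have e : (ContinuousMap.comp t' (f i).base.hom : C(↥(X i), Prop)) =
      ⟨fun p => p ∈ U i, continuous_Prop.mpr (U i).2⟩ := ht i
  have := DFunLike.congr_fun e p
  exact Iff.of_eq this

set_option backward.isDefEq.respectTransparency false in


/-- Open immersions descend along the fpqc topology. For an fpqc covering family `f i : X i ⟶ S` of a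
scheme `S`, every descent datum for schemes relative to the family all of whose members `Z i ⟶ X i`
are open immersions is effective. -/
theorem result {S : Scheme.{u}} {ι : Type u} {X : ι → Scheme.{u}}
    (f : ∀ i, X i ⟶ S) (hf : Presieve.ofArrows X f ∈ Scheme.fpqcPrecoverage S)
    (D : Desc.SchDDFam f) (hD : ∀ i, IsOpenImmersion (D.obj i).hom) :
    D.IsEffective := by
  have hU : ∀ i j (z : ↥(pullback (f i) (f j))),
      (pullback.fst (f i) (f j)).base z ∈ (D.obj i).hom.opensRange ↔
        (pullback.snd (f i) (f j)).base z ∈ (D.obj j).hom.opensRange := by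
    intro i j z
    obtain ⟨g, hg⟩ : ∃ g, g = (pullback (f i) (f j)).fromSpecResidueField z := ⟨_, rfl⟩
    have h : (g ≫ pullback.fst (f i) (f j)) ≫ f i = (g ≫ pullback.snd (f i) (f j)) ≫ f j := by
      rw [Category.assoc, Category.assoc, pullback.condition]
    have e := (D.φ _ _ h).nonempty_congr
    rw [lifts_nonempty_iff, lifts_nonempty_iff] at e
    have r1 : Set.range (g ≫ pullback.fst (f i) (f j)).base =
        {(pullback.fst (f i) (f j)).base z} := by
      rw [Scheme.Hom.comp_base, TopCat.coe_comp, Set.range_comp, hg,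
        Scheme.range_fromSpecResidueField, Set.image_singleton]
    have r2 : Set.range (g ≫ pullback.snd (f i) (f j)).base =
        {(pullback.snd (f i) (f j)).base z} := by
      rw [Scheme.Hom.comp_base, TopCat.coe_comp, Set.range_comp, hg,
        Scheme.range_fromSpecResidueField, Set.image_singleton]
    rw [r1, r2, Set.singleton_subset_iff, Set.singleton_subset_iff] at e
    exact e
  obtain ⟨V, hV⟩ := exists_open f hf (fun i => (D.obj i).hom.opensRange) hU
  have hr : ∀ i, Set.range (pullback.fst (f i) V.ι).base = Set.range (D.obj i).hom.base := by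
    intro i
    rw [Scheme.Pullback.range_fst, Scheme.Opens.range_ι]
    exact congr(($(hV i) : Set ↥(X i)))
  obtain ⟨e, he⟩ : ∃ e : ∀ i, pullback (f i) V.ι ≅ (D.obj i).left,
      ∀ i, (e i).hom ≫ (D.obj i).hom = pullback.fst (f i) V.ι :=
    ⟨fun i => IsOpenImmersion.isoOfRangeEq (pullback.fst (f i) V.ι) (D.obj i).hom (hr i),
      fun i => IsOpenImmersion.isoOfRangeEq_hom_fac _ _ _⟩
  have he' : ∀ i, (e i).inv ≫ pullback.fst (f i) V.ι = (D.obj i).hom := by
    intro i
    rw [← he i, Iso.inv_hom_id_assoc]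
  refine ⟨Over.mk V.ι, ?_⟩
  have hCmono : ∀ i, Mono (((toDDFam f).obj (Over.mk V.ι)).obj i).hom := fun i =>
    inferInstanceAs (Mono (pullback.fst (f i) V.ι))
  obtain ⟨a, ha⟩ : ∃ a : ∀ i, ((toDDFam f).obj (Over.mk V.ι)).obj i ⟶ D.obj i,
      ∀ i, (a i).left = (e i).hom :=
    ⟨fun i => Over.homMk (U := Over.mk (pullback.fst (f i) V.ι)) (e i).hom (he i), fun i => rfl⟩
  obtain ⟨b, hb⟩ : ∃ b : ∀ i, D.obj i ⟶ ((toDDFam f).obj (Over.mk V.ι)).obj i,
      ∀ i, (b i).left = (e i).inv :=
    ⟨fun i => Over.homMk (V := Over.mk (pullback.fst (f i) V.ι)) (e i).inv (he' i), fun i => rfl⟩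
  exact ⟨
    { hom := ⟨a, fun T i j x₀ x₁ h v w hw => by
        rw [← cancel_mono (D.obj j).hom, Category.assoc, Over.w (a j)]
        exact (D.φ x₀ x₁ h w).2.trans (((toDDFam f).obj (Over.mk V.ι)).φ x₀ x₁ h v).2.symm⟩
      inv := ⟨b, fun T i j x₀ x₁ h v w hw => by
        have := hCmono j
        rw [← cancel_mono (((toDDFam f).obj (Over.mk V.ι)).obj j).hom, Category.assoc,
          Over.w (b j)]
        exact (((toDDFam f).obj (Over.mk V.ι)).φ x₀ x₁ h w).2.trans (D.φ x₀ x₁ h v).2.symm⟩
      hom_inv_id := by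
        apply Desc.SchDDFam.hom_ext
        funext i
        apply Over.OverMorphism.ext
        change (a i).left ≫ (b i).left = 𝟙 _
        rw [ha, hb]
        exact (e i).hom_inv_id
      inv_hom_id := by
        apply Desc.SchDDFam.hom_ext
        funext i
        apply Over.OverMorphism.ext
        change (b i).left ≫ (a i).left = 𝟙 _
        rw [ha, hb]
        exact (e i).inv_hom_id }⟩

end Groth.Agent.S6045
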