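import Groth.Statements.S6057

set_option autoImplicit false
open CategoryTheory
universe v₁ u₁
open ShfCat

namespace Groth.Agent.S6057

open Opposite

variable {C : Type u₁} [Category.{v₁} C] (J : GrothendieckTopology C)
    {S : C} {F : Cᵒᵖ ⥤ Type v₁} (φ : F ⟶ yoneda.obj S)

lemma phi_eq (hS : Presieve.IsSeparated J (yoneda.obj S)) {T : C} (R : Sieve T) (hR : R ∈ J T)
    (x : F.obj (op T)) (h : T ⟶ S)
    (hx : ∀ ⦃Y : C⦄ (f : Y ⟶ T), R f → φ.app (op Y) (F.map f.op x) = f ≫ h) :
    φ.app (op T) x = h := by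
  apply (hS R hR).ext
  intro Y f hf
  have := hx f hf
  rw [NatTrans.naturality_apply] at this
  simpa using this

lemma sep_of_rel (hS : Presieve.IsSeparated J (yoneda.obj S))
    (h : Presieve.IsSeparated (J.over S) (ShfCat.relPsh φ)) : Presieve.IsSeparated J F := by
  intro T R hR fam x y hx hy
  have hy' : φ.app (op T) y = φ.app (op T) x := by
    apply phi_eq J φ hS R hR
    intro Y f hf
    rw [hy f hf, ← hx f hf, NatTrans.naturality_apply]
    rfl
  let T' : Over S := Over.mk (φ.app (op T) x)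
  have hR' : (Sieve.overEquiv T').symm R ∈ (J.over S) T' := by
    rw [GrothendieckTopology.mem_over_iff, OrderIso.apply_symm_apply]
    exact hR
  let x' : (ShfCat.relPsh φ).obj (op T') := ⟨x, rfl⟩
  let y' : (ShfCat.relPsh φ).obj (op T') := ⟨y, hy'⟩
  have : x' = y' := by
    apply (h _ hR').ext
    intro Y f hf
    apply Subtype.ext
    rw [ShfCat.relPsh_map_val, ShfCat.relPsh_map_val]
    have hf' : R f.left := hf
    change F.map f.left.op x = F.map f.left.op y
    rw [hx _ hf', hy _ hf']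
  exact congrArg Subtype.val this

lemma rel_of_sep (h : Presieve.IsSeparated J F) :
    Presieve.IsSeparated (J.over S) (ShfCat.relPsh φ) := by
  intro T R hR fam x y hx hy
  rw [GrothendieckTopology.mem_over_iff] at hR
  apply Subtype.ext
  apply (h _ hR).ext
  intro Y f hf
  rw [Sieve.overEquiv_iff] at hf
  have h1 := hx _ hf
  have h2 := hy _ hf
  have := congrArg Subtype.val (h1.trans h2.symm)
  rw [ShfCat.relPsh_map_val, ShfCat.relPsh_map_val] at this
  exact this

lemma rel_sheaf_of_sheaf (hS : Presieve.IsSeparated J (yoneda.obj S))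
    (h : Presieve.IsSheaf J F) : Presieve.IsSheaf (J.over S) (ShfCat.relPsh φ) := by
  apply (rel_of_sep J φ h.isSeparated).isSheaf
  intro T R hR x hx
  rw [GrothendieckTopology.mem_over_iff] at hR
  let y : Presieve.FamilyOfElements F (Sieve.overEquiv T R).arrows :=
    fun Y g hg => (x (Over.homMk g : Over.mk (g ≫ T.hom) ⟶ T) ((Sieve.overEquiv_iff _ _).1 hg)).1
  have hy : y.Compatible := by
    intro Y₁ Y₂ Z g₁ g₂ f₁ f₂ h₁ h₂ hcomm
    have hcomm' : g₂ ≫ f₂ ≫ T.hom = g₁ ≫ f₁ ≫ T.hom := by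
      rw [← Category.assoc, ← hcomm, Category.assoc]
    have := hx (Y₁ := Over.mk (f₁ ≫ T.hom)) (Y₂ := Over.mk (f₂ ≫ T.hom))
      (Z := Over.mk (g₁ ≫ f₁ ≫ T.hom))
      (Over.homMk g₁) (Over.homMk g₂ hcomm')
      ((Sieve.overEquiv_iff _ _).1 h₁) ((Sieve.overEquiv_iff _ _).1 h₂)
      (by ext; exact hcomm)
    exact congrArg Subtype.val this
  obtain ⟨t, ht, -⟩ := h _ hR y hy
  have hφt : φ.app (op T.left) t = T.hom := by
    apply phi_eq J φ hS _ hR
    intro Y f hf
    rw [ht f hf]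
    exact (x (Over.homMk f : Over.mk (f ≫ T.hom) ⟶ T) ((Sieve.overEquiv_iff _ _).1 hf)).2
  refine ⟨⟨t, hφt⟩, ?_⟩
  intro Y f hf
  apply Subtype.ext
  rw [ShfCat.relPsh_map_val]
  have h' : R (Over.homMk f.left : Over.mk (f.left ≫ T.hom) ⟶ T) := by
    have e : (Over.homMk f.left : Over.mk (f.left ≫ T.hom) ⟶ T) =
        (Over.homMk (𝟙 _) (by simp) : Over.mk (f.left ≫ T.hom) ⟶ Y) ≫ f := by
      ext; simp
    rw [e]
    exact R.downward_closed hf _
  have h1 := ht f.left ((Sieve.overEquiv_iff _ _).2 h')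
  have h2 := hx (𝟙 (Over.mk (f.left ≫ T.hom)))
    (Over.homMk (𝟙 _) (by simp) : Over.mk (f.left ≫ T.hom) ⟶ Y) h' hf (by ext; simp)
  have h3 : (x (Over.homMk f.left : Over.mk (f.left ≫ T.hom) ⟶ T) h').1 = (x f hf).1 := by
    have h4 := congrArg Subtype.val h2
    rw [ShfCat.relPsh_map_val, ShfCat.relPsh_map_val] at h4
    have h5 : F.map (𝟙 (op Y.left)) (x (Over.homMk f.left : Over.mk (f.left ≫ T.hom) ⟶ T) h').1 =
        F.map (𝟙 (op Y.left)) (x f hf).1 := h4
    rw [F.map_id] at h5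
    exact h5
  exact h1.trans h3

lemma sheaf_of_rel_sheaf (hS : Presieve.IsSheaf J (yoneda.obj S))
    (h : Presieve.IsSheaf (J.over S) (ShfCat.relPsh φ)) : Presieve.IsSheaf J F := by
  apply (sep_of_rel J φ hS.isSeparated h.isSeparated).isSheaf
  intro T R hR x hx
  obtain ⟨k, hk, -⟩ := hS R hR (Presieve.FamilyOfElements.map x φ)
    (Presieve.FamilyOfElements.Compatible.map φ hx)
  let T' : Over S := Over.mk k
  have hR' : (Sieve.overEquiv T').symm R ∈ (J.over S) T' := by
    rw [GrothendieckTopology.mem_over_iff, OrderIso.apply_symm_apply]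
    exact hR
  let x' : Presieve.FamilyOfElements (ShfCat.relPsh φ) ((Sieve.overEquiv T').symm R).arrows :=
    fun Y f hf => ⟨x f.left hf, by
      have := hk f.left hf
      rw [← Over.w f]
      exact this.symm⟩
  have hx' : x'.Compatible := by
    intro Y₁ Y₂ Z g₁ g₂ f₁ f₂ h₁ h₂ hcomm
    apply Subtype.ext
    rw [ShfCat.relPsh_map_val, ShfCat.relPsh_map_val]
    exact hx g₁.left g₂.left h₁ h₂ (congrArg CommaMorphism.left hcomm)
  obtain ⟨t, ht, -⟩ := h _ hR' x' hx'
  refine ⟨t.1, ?_⟩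
  intro Y f hf
  have := ht (Over.homMk f : Over.mk (f ≫ k) ⟶ T') hf
  exact congrArg Subtype.val this


/-- Let `S` be an object whose representable presheaf is a sheaf for `J` and `φ : F ⟶ h_S` a morphism of
presheaves of sets. The relative presheaf on `C/S` (sections of `F` over `T` lying over the given `T
⟶ S`) is separated (resp. a sheaf) for the induced topology on `C/S` if and only if `F` is separated
(resp. a sheaf). -/
theorem result {C : Type u₁} [Category.{v₁} C] (J : GrothendieckTopology C)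
    {S : C} (hS : Presieve.IsSheaf J (yoneda.obj S)) {F : Cᵒᵖ ⥤ Type v₁} (φ : F ⟶ yoneda.obj S) :
    (Presieve.IsSeparated (J.over S) (ShfCat.relPsh φ) ↔ Presieve.IsSeparated J F) ∧
    (Presieve.IsSheaf (J.over S) (ShfCat.relPsh φ) ↔ Presieve.IsSheaf J F) := by
  exact ⟨⟨sep_of_rel J φ hS.isSeparated, rel_of_sep J φ⟩,
    ⟨sheaf_of_rel_sheaf J φ hS, rel_sheaf_of_sheaf J φ hS.isSeparated⟩⟩

end Groth.Agent.S6057
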