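import Groth.Statements.S6058
import Groth.Agent.Lib.Helper25AdicG
import Groth.Agent.Lib.Helper25HensDiagI

set_option autoImplicit false
universe u
open TensorProduct SGA3b
open SGA3b

namespace Groth.Agent.S6058

/-- Let A be a Noetherian ring, separated and complete for the I-adic topology, and H = Spec C a
commutative affine A-group (C cocommutative) with C flat and of finite type over A, such that the
reduction H₀ = Spec ((A/I) ⊗ C) is an isotrivial (A/I)-group of multiplicative type and such that
for every n > 0 the kernel ₙH = Spec (C/Jₙ) of the n-th power map is finite over A (Jₙ the ideal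
generated by the image of the augmentation ideal under the n-th power endomorphism). Then H is an
isotrivial A-group of multiplicative type. (Affine group schemes over an affine base are taken in
Hopf-algebra form; base change is the tensor product.) -/
theorem result (A : Type u) [CommRing A] [IsNoetherianRing A] (I : Ideal A) [IsAdicComplete I A]
    (C : Type u) [CommRing C] [HopfAlgebra A C] [Coalgebra.IsCocomm A C] [Module.Flat A C] (hft : Algebra.FiniteType A C)
    (h0 : IsIsotrivial (A ⧸ I) ((A ⧸ I) ⊗[A] C))
    (hfin : ∀ n : ℕ, 0 < n → Module.Finite A (C ⧸ torsionIdeal A C n)) :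
    IsIsotrivial A C := by
  obtain ⟨P, _, _, M, _, hetP, hfinP, hffP, -, F, e, hFs, he, hke, heJ⟩ :=
    Groth.Agent.Lib.Helper25.Adic.exists_cover_surj_idem A I C hft h0
  haveI := hft
  haveI := hfinP
  have hftP : Algebra.FiniteType P (P ⊗[A] C) := inferInstance
  have hJ : I.map (algebraMap A P) ≤ Ideal.jacobson ⊥ :=
    Groth.Agent.Lib.Helper25.HensDiag.map_le_jacobson_of_isIntegral I P
      (IsAdicComplete.le_jacobson_bot I)
  have hK : ∀ k ∈ LinearMap.ker F.toCoalgHom.toLinearMap, ∃ c, k = c * e := by
    intro k hk
    have h1 : k ∈ RingHom.ker (F : P ⊗[A] C →+* MonoidAlgebra P M) := hk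
    rw [hke] at h1
    obtain ⟨c, hc⟩ := Ideal.mem_span_singleton'.mp h1
    exact ⟨c, hc.symm⟩
  have hmem : ∀ n : ℕ, 0 < n → e ∈ torsionIdeal P (P ⊗[A] C) n := by
    intro n hn
    haveI := hfin n hn
    haveI := Groth.Agent.Lib.Helper25.Adic.finite_quot_torsionIdeal_baseChange A C P n
    exact Groth.Agent.Lib.Helper25.Adic.mem_of_finite_quotient (I.map (algebraMap A P)) hJ e
      (LinearMap.ker F.toCoalgHom.toLinearMap) hK heJ (torsionIdeal P (P ⊗[A] C) n)
  have he0 : e = 0 :=
    Groth.Agent.Lib.Helper25.Adic.idem_eq_zero_of_mem_torsionIdeal hftP F hFs e he hke hmem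
  exact ⟨P, inferInstance, inferInstance, hetP, hfinP, hffP, M, inferInstance,
    Groth.Agent.Lib.Helper25.Adic.nonempty_bialgEquiv_of_idem_eq_zero F hFs e hke he0⟩

end Groth.Agent.S6058
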