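import Groth.Statements.S6071
import Groth.Agent.Lib.Helper25DirSysL

set_option autoImplicit false
universe u
open TensorProduct SGA3b
open SGA3b
open Groth.Agent.Lib.Helper25 Groth.Agent.Lib.Helper25.DirSys Groth.Agent.Lib.Helper25.BCB

namespace Groth.Agent.S6071

/-- Let A be a ring which is the union of a directed family of subrings A_i, and H = Spec C an A-group
of multiplicative type and of finite type which is quasi-isotrivial (resp. isotrivial). Then there
are an index i and an A_i-group H_i = Spec C_i of multiplicative type and of finite type,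
quasi-isotrivial (resp. isotrivial), such that H ≅ H_i ×_{A_i} A as A-groups: a bialgebra
isomorphism A ⊗_{A_i} C_i ≅ C (existence of an isomorphism; the descended group is not unique).
(Affine group schemes over an affine base are taken in Hopf-algebra form; base change is the tensor
product.) -/
theorem result (A : Type u) [CommRing A] {ι : Type u} [Preorder ι] [IsDirected ι (· ≤ ·)] [Nonempty ι]
    (B : ι → Subring A) (hmono : Monotone B) (hsup : ⨆ i, B i = ⊤)
    (C : Type u) [CommRing C] [HopfAlgebra A C] (hft : Algebra.FiniteType A C) :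
    (IsQuasiIsotrivial A C → ∃ (i : ι) (Ci : Type u) (_ : CommRing Ci) (_ : HopfAlgebra (B i) Ci),
      Algebra.FiniteType (B i) Ci ∧ IsQuasiIsotrivial (B i) Ci ∧ Nonempty ((A ⊗[B i] Ci) ≃ₐc[A] C)) ∧
    (IsIsotrivial A C → ∃ (i : ι) (Ci : Type u) (_ : CommRing Ci) (_ : HopfAlgebra (B i) Ci),
      Algebra.FiniteType (B i) Ci ∧ IsIsotrivial (B i) Ci ∧ Nonempty ((A ⊗[B i] Ci) ≃ₐc[A] C)) := by
  classical
  have key : ∀ (Λ : Type u) (_ : CommRing Λ) (_ : Algebra Λ A), Algebra.FiniteType ℤ Λ →
      ∃ i, ∃ (_ : Algebra Λ (B i)), IsScalarTower Λ (B i) A := by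
    intro Λ _ _ hΛ
    obtain ⟨i, φ, hφ⟩ := exists_index A B hmono hsup Λ hΛ
    letI : Algebra Λ (B i) := φ.toAlgebra
    exact ⟨i, inferInstance, IsScalarTower.of_algebraMap_eq (fun x => (hφ x).symm)⟩
  constructor
  · intro hq
    have hmt : IsMultType A C := by
      obtain ⟨s, hs, hsf⟩ := hq
      exact ⟨s, hs, fun f hf => Spr.isMultTypeConst_of_isQuasiIsotrivialConst (hsf f hf)⟩
    have hfp : Algebra.FinitePresentation A C := finitePresentation_of_isMultType A C hft hmt
    obtain ⟨Λ, _, _, hΛ, H, _, _, hfpH, hmtH, ⟨iso⟩⟩ :=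
      exists_noetherian_model_isMultType A C hfp hmt
    haveI := hfpH
    obtain ⟨i, _, _⟩ := key Λ inferInstance inferInstance hΛ
    have hftH : Algebra.FiniteType (B i) (B i ⊗[Λ] H) := inferInstance
    refine ⟨i, B i ⊗[Λ] H, inferInstance, inferInstance, hftH, ?_,
      ⟨(cancelBC Λ (B i) A H).trans iso⟩⟩
    exact QIso.isQuasiIsotrivial_of_finiteType _ _ hftH
      (EtNil.isMultType_baseChange Λ H (B i) hmtH)
  · intro hi
    have hmt : IsMultType A C := by
      obtain ⟨R', _, _, hEt, hFin, hFF, hD⟩ := hi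
      exact isMultType_of_isMultTypeConst A C ⟨R', inferInstance, inferInstance, hFF, hD⟩
    have hfp : Algebra.FinitePresentation A C := finitePresentation_of_isMultType A C hft hmt
    obtain ⟨Λ, _, _, hΛ, H, _, _, hfpH, hisoH, ⟨iso⟩⟩ :=
      exists_noetherian_model_isIsotrivial A C hfp hi
    haveI := hfpH
    obtain ⟨i, _, _⟩ := key Λ inferInstance inferInstance hΛ
    have hftH : Algebra.FiniteType (B i) (B i ⊗[Λ] H) := inferInstance
    exact ⟨i, B i ⊗[Λ] H, inferInstance, inferInstance, hftH,
      isIsotrivial_baseChange Λ H (B i) hisoH, ⟨(cancelBC Λ (B i) A H).trans iso⟩⟩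

end Groth.Agent.S6071
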