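import Groth.Statements.S6072
import Groth.Agent.Lib.Helper25HensLocal

set_option autoImplicit false
universe u
open TensorProduct SGA3b
open SGA3b

namespace Groth.Agent.S6072

/-- Let R be a henselian local ring with residue field k and H₀ = Spec C₀ a k-group of multiplicative
type which is finite over k. Then H₀ lifts to R: there is an R-group H = Spec C of multiplicative
type, finite over R and isotrivial, together with an isomorphism of k-groups H ×_R k ≅ H₀, i.e. a
bialgebra isomorphism k ⊗_R C ≅ C₀ (existence of an isomorphism; the lift is determined up to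
isomorphism only). (Affine group schemes over an affine base are taken in Hopf-algebra form; base
change is the tensor product.) -/
theorem result (R : Type u) [CommRing R] [HenselianLocalRing R]
    (C₀ : Type u) [CommRing C₀] [HopfAlgebra (IsLocalRing.ResidueField R) C₀] [Module.Finite (IsLocalRing.ResidueField R) C₀]
    (h₀ : IsMultType (IsLocalRing.ResidueField R) C₀) :
    ∃ (C : Type u) (_ : CommRing C) (_ : HopfAlgebra R C), Module.Finite R C ∧ IsIsotrivial R C ∧
      Nonempty ((IsLocalRing.ResidueField R ⊗[R] C) ≃ₐc[IsLocalRing.ResidueField R] C₀) := by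
  open Groth.Agent.Lib.Helper25.HensFEt in
  classical
  have hft : Algebra.FiniteType (IsLocalRing.ResidueField R) C₀ := inferInstance
  have h0 : IsIsotrivial (IsLocalRing.ResidueField R) C₀ :=
    isIsotrivial_of_field (IsLocalRing.ResidueField R) C₀ hft h₀
  letI inst' : HopfAlgebra (R ⧸ IsLocalRing.maximalIdeal R) C₀ :=
    ‹HopfAlgebra (IsLocalRing.ResidueField R) C₀›
  have h0' : IsIsotrivial (R ⧸ IsLocalRing.maximalIdeal R) C₀ := h0
  obtain ⟨A, hAcr, hAhopf, P, hPcr, hPalg, M, hM, het, hfin, hff, ⟨e⟩, ⟨ε⟩, hred⟩ :=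
    exists_lift_isotrivial_hens (IsLocalRing.maximalIdeal R) C₀ h0'
  haveI := hff
  haveI : Nontrivial (R ⧸ IsLocalRing.maximalIdeal R) :=
    Ideal.Quotient.nontrivial_iff.mpr (IsLocalRing.maximalIdeal.isMaximal R).ne_top
  haveI : Nontrivial ((R ⧸ IsLocalRing.maximalIdeal R) ⊗[R] P) := inferInstance
  haveI : Module.Finite (R ⧸ IsLocalRing.maximalIdeal R) C₀ :=
    ‹Module.Finite (IsLocalRing.ResidueField R) C₀›
  haveI : Finite M :=
    finite_group_of_triv (K := R ⧸ IsLocalRing.maximalIdeal R)
      ((R ⧸ IsLocalRing.maximalIdeal R) ⊗[R] P) C₀ M ε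
  exact ⟨A, hAcr, hAhopf, finite_of_triv P A M e,
    ⟨P, hPcr, hPalg, het, hfin, hff, ⟨M, hM, ⟨e⟩⟩⟩, hred⟩

end Groth.Agent.S6072
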