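import Groth.Statements.S6076
-- import your own Groth.Agent.* helpers here
import Mathlib
import Groth.Agent.S3399
import Groth.Agent.S4591
import Groth.Agent.Lib.Helper6LfpComp

set_option autoImplicit false
universe u
open CategoryTheory CategoryTheory.Limits MonoidalCategory CartesianMonoidalCategory MonObj GrpObj AlgebraicGeometry
open SGA3

namespace Groth.Agent.S6076

variable {S : Scheme.{u}}

/-- the `n`-fold fibre power of `X` over `S`. -/
noncomputable def pw (X : Over S) : ℕ → Over S
  | 0 => 𝟙_ (Over S)
  | n + 1 => X ⊗ pw X n

/-- the projections of the fibre power. -/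
noncomputable def pr (X : Over S) : (n : ℕ) → Fin n → (pw X n ⟶ X)
  | 0 => fun j => Fin.elim0 j
  | n + 1 => Fin.cases (fst X (pw X n)) (fun j => snd X (pw X n) ≫ pr X n j)

/-- the morphism to the fibre power given by `n` points. -/
noncomputable def lf (X : Over S) {T : Over S} : (n : ℕ) → (Fin n → (T ⟶ X)) → (T ⟶ pw X n)
  | 0, _ => toUnit T
  | n + 1, x => lift (x 0) (lf X n (fun j => x j.succ))

theorem lf_pr (X : Over S) {T : Over S} (n : ℕ) (x : Fin n → (T ⟶ X)) (j : Fin n) :
    lf X n x ≫ pr X n j = x j := by
  induction n with
  | zero => exact Fin.elim0 j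
  | succ n ih =>
    refine Fin.cases ?_ (fun j => ?_) j
    · change lift (x 0) (lf X n fun j => x j.succ) ≫ fst X (pw X n) = x 0
      exact lift_fst _ _
    · change lift (x 0) (lf X n fun j => x j.succ) ≫ (snd X (pw X n) ≫ pr X n j) = x j.succ
      rw [lift_snd_assoc]
      exact ih _ j

theorem lfp_pw (X : Over S) [LocallyOfFinitePresentation X.hom] (n : ℕ) :
    LocallyOfFinitePresentation (pw X n).hom := by
  induction n with
  | zero =>
    change LocallyOfFinitePresentation (𝟙 S)
    infer_instance
  | succ n ih =>
    change LocallyOfFinitePresentation (pullback.fst X.hom (pw X n).hom ≫ X.hom)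
    infer_instance

variable {H : Over S} [GrpObj H]

theorem comp_list_prod {T T' : Over S} (φ : T' ⟶ T) (l : List (T ⟶ H)) :
    φ ≫ l.prod = (l.map (fun a => φ ≫ a)).prod := by
  induction l with
  | nil => simp [MonObj.comp_one]
  | cons a l ih => simp [MonObj.comp_mul, ih]

/-- the word in the points `x` with signs `ε`. -/
noncomputable def word {X T : Over S} (f : X ⟶ H) (n : ℕ) (x : Fin n → (T ⟶ X)) (ε : Fin n → Bool) :
    T ⟶ H :=
  (List.ofFn fun j : Fin n => if ε j then x j ≫ f else (x j ≫ f)⁻¹).prod

theorem comp_word {X T T' : Over S} (f : X ⟶ H) (φ : T' ⟶ T) (n : ℕ) (x : Fin n → (T ⟶ X))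
    (ε : Fin n → Bool) : φ ≫ word f n x ε = word f n (fun j => φ ≫ x j) ε := by
  unfold word
  rw [comp_list_prod, List.map_ofFn]
  congr 2
  funext j
  simp only [Function.comp_apply]
  split_ifs
  · rw [Category.assoc]
  · rw [GrpObj.comp_inv, Category.assoc]

theorem word_eq {X T : Over S} (f : X ⟶ H) (n : ℕ) (x : Fin n → (T ⟶ X)) (ε : Fin n → Bool) :
    word f n x ε = lf X n x ≫ word f n (pr X n) ε := by
  rw [comp_word]
  congr 1
  funext j
  rw [lf_pr]

theorem isProConstructible_univ {Z : Type*} [TopologicalSpace Z] :
    ProCons.IsProConstructible (Set.univ : Set Z) := by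
  intro x
  refine ⟨Set.univ, isOpen_univ, trivial, ∅, by simp, by simp⟩

theorem isIndConstructible_univ {Z : Type*} [TopologicalSpace Z] :
    ProCons.IsIndConstructible (Set.univ : Set Z) := by
  intro x
  refine ⟨Set.univ, isOpen_univ, trivial, {Set.univ}, ?_, by simp⟩
  intro T hT
  rw [Set.mem_singleton_iff] at hT
  subst hT
  exact Topology.IsLocallyConstructible.univ

/-- (iii) ⟹ (iv): let S be a scheme, X an S-scheme which is flat and locally of finite presentation over
S, H an S-group scheme locally of finite presentation over S with reduced fibres and quasi-compact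
underlying space, and f : X → H an S-morphism. Say that a point h of H lies under a word of length n
in f when there are an S-scheme T, a point p of T, T-valued points x_1, …, x_n of X and signs such
that the T-valued point f(x_1)^{±1} ⋯ f(x_n)^{±1} of H maps p to h. If every point of H lies under
some word in f, then there is a natural number n such that every point of H lies under a word of
length at most n. (The published statement concludes with words of one fixed length n and an
fppf-covering word morphism; for the constant group of order two over a field and f the non-trivial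
point, the points under words of length n alternate between the two points of H, so only the bound
on the length is stated here, and the covering assertion is not stated.) -/
theorem result (S : Scheme.{u}) (X H : Over S) [GrpObj H]
    [Flat X.hom] [LocallyOfFinitePresentation X.hom] [LocallyOfFinitePresentation H.hom]
    (hred : ∀ s : S, IsReduced (H.hom.fiber s)) [CompactSpace H.left] (f : X ⟶ H)
    (hsurj : ∀ h : H.left, ∃ (n : ℕ) (T : Over S) (p : T.left) (x : Fin n → (T ⟶ X)) (ε : Fin n → Bool),
      ((List.ofFn fun j : Fin n => if ε j then x j ≫ f else (x j ≫ f)⁻¹).prod : T ⟶ H).left.base p = h) :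
    ∃ n : ℕ, ∀ h : H.left, ∃ (m : ℕ) (_ : m ≤ n) (T : Over S) (p : T.left) (x : Fin m → (T ⟶ X)) (ε : Fin m → Bool),
      ((List.ofFn fun j : Fin m => if ε j then x j ≫ f else (x j ≫ f)⁻¹).prod : T ⟶ H).left.base p = h := by
  -- the images of the universal words
  let E : ULift.{u} (Σ n : ℕ, Fin n → Bool) → Set H.left := fun i =>
    Set.range (word f i.down.1 (pr X i.down.1) i.down.2).left.base
  have hE : ∀ i, ProCons.IsIndConstructible (E i) := by
    intro i
    haveI := lfp_pw X i.down.1
    have hw : (word f i.down.1 (pr X i.down.1) i.down.2).left ≫ H.hom = (pw X i.down.1).hom :=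
      Over.w _
    haveI : LocallyOfFinitePresentation
        ((word f i.down.1 (pr X i.down.1) i.down.2).left ≫ H.hom) := by rw [hw]; infer_instance
    haveI : LocallyOfFiniteType H.hom := inferInstance
    haveI : LocallyOfFinitePresentation (word f i.down.1 (pr X i.down.1) i.down.2).left :=
      Groth.Agent.Lib.Helper6.locallyOfFinitePresentation_of_comp (g := H.hom) inferInstance
        inferInstance
    have := Groth.Agent.S3399.result (word f i.down.1 (pr X i.down.1) i.down.2).left Set.univ
      isIndConstructible_univ
    rwa [Set.image_univ] at this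
  have hcov : (Set.univ : Set H.left) ⊆ ⋃ i, E i := by
    intro h _
    obtain ⟨n, T, p, x, ε, hp⟩ := hsurj h
    refine Set.mem_iUnion.2 ⟨⟨⟨n, ε⟩⟩, ?_⟩
    change h ∈ Set.range (word f n (pr X n) ε).left.base
    have h1 : word f n x ε = lf X n x ≫ word f n (pr X n) ε := word_eq f n x ε
    refine ⟨(lf X n x).left.base p, ?_⟩
    rw [← hp]
    change _ = (word f n x ε).left.base p
    rw [h1]
    rfl
  obtain ⟨J, hJ⟩ := Groth.Agent.S4591.result H.left Set.univ isProConstructible_univ E hE hcov
  refine ⟨J.sup (fun i => i.down.1), fun h => ?_⟩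
  obtain ⟨i, hi⟩ := Set.mem_iUnion.1 (hJ (Set.mem_univ h))
  obtain ⟨hiJ, q, hq⟩ := Set.mem_iUnion.1 hi
  exact ⟨i.down.1, Finset.le_sup (f := fun i => i.down.1) hiJ, pw X i.down.1, q, pr X i.down.1,
    i.down.2, hq⟩

end Groth.Agent.S6076
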