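import Groth.Statements.S6075
-- import your own Groth.Agent.* helpers here
import Mathlib
import Groth.Agent.S6076

set_option autoImplicit false
universe u
open CategoryTheory CategoryTheory.Limits MonoidalCategory CartesianMonoidalCategory MonObj GrpObj AlgebraicGeometry
open SGA3

namespace Groth.Agent.S6075

open Groth.Agent.S6076

/-- a nonempty scheme locally of finite type over an algebraically closed field has a rational point. -/
theorem exists_section {k : Type u} [Field k] [IsAlgClosed k] {Z : Scheme.{u}}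
    (q : Z ⟶ Spec (CommRingCat.of k)) [LocallyOfFiniteType q] [Nonempty Z] :
    ∃ σ : Spec (CommRingCat.of k) ⟶ Z, σ ≫ q = 𝟙 _ := by
  haveI : JacobsonSpace Z := LocallyOfFiniteType.jacobsonSpace q
  have hne : (closedPoints Z).Nonempty := by
    by_contra h
    rw [Set.not_nonempty_iff_eq_empty] at h
    have h2 := closure_closedPoints (X := Z)
    rw [h, closure_empty] at h2
    exact (Set.univ_nonempty (α := Z)).ne_empty h2.symm
  obtain ⟨x, hx⟩ := hne
  exact ⟨pointOfClosedPoint q x hx, pointOfClosedPoint_comp q x hx⟩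

variable {k : Type u} [Field k] [IsAlgClosed k]

theorem lft_pw (X : Over (Spec (CommRingCat.of k))) [LocallyOfFiniteType X.hom] (n : ℕ) :
    LocallyOfFiniteType (pw X n).hom := by
  induction n with
  | zero =>
    change LocallyOfFiniteType (𝟙 (Spec (CommRingCat.of k)))
    infer_instance
  | succ n ih =>
    change LocallyOfFiniteType (pullback.fst X.hom (pw X n).hom ≫ X.hom)
    infer_instance

/-- lifting a rational point of `G` lying in the image of `w` to a rational point of the source. -/
theorem exists_lift {P G : Over (Spec (CommRingCat.of k))} [LocallyOfFiniteType P.hom]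
    (w : P ⟶ G) (g : 𝟙_ (Over (Spec (CommRingCat.of k))) ⟶ G) (q : P.left)
    (p₀ : (𝟙_ (Over (Spec (CommRingCat.of k)))).left) (h : w.left.base q = g.left.base p₀) :
    ∃ x' : 𝟙_ (Over (Spec (CommRingCat.of k))) ⟶ P, x' ≫ w = g := by
  have hw : w.left ≫ G.hom = P.hom := Over.w w
  haveI : LocallyOfFiniteType (w.left ≫ G.hom) := by rw [hw]; infer_instance
  haveI : LocallyOfFiniteType w.left := locallyOfFiniteType_of_comp w.left G.hom
  obtain ⟨z, -, -⟩ := Scheme.Pullback.exists_preimage_pullback (f := w.left) (g := g.left) q p₀ h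
  haveI : Nonempty ↥(pullback w.left g.left) := ⟨z⟩
  obtain ⟨σ, hσ⟩ := exists_section (k := k) (pullback.snd w.left g.left)
  have hg : g.left ≫ G.hom = 𝟙 _ := Over.w g
  refine ⟨Over.homMk (σ ≫ pullback.fst w.left g.left) ?_, ?_⟩
  · change (σ ≫ pullback.fst w.left g.left) ≫ P.hom = 𝟙 _
    rw [← hw, Category.assoc, pullback.condition_assoc, hg, Category.comp_id, hσ]
  · ext
    change (σ ≫ pullback.fst w.left g.left) ≫ w.left = g.left
    rw [Category.assoc, pullback.condition, ← Category.assoc, hσ, Category.id_comp]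

/-- Let k be an algebraically closed field, G a group scheme locally of finite type over k, X a
geometrically reduced k-scheme locally of finite type, and f : X → G a k-morphism. Consider the
k-points g of G whose underlying point lies under a word in f: there are a k-scheme T, a point p of
T, n ≥ 0, T-valued points x_1, …, x_n of X and signs such that the T-valued point f(x_1)^{±1} ⋯
f(x_n)^{±1} of G maps p to the point of g. These k-points form exactly the subgroup of G(k)
generated by the k-points of G whose underlying point lies in the image of f. (Words of length zero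
are allowed here, so that the unit is on both sides when X is empty; for nonempty X this changes
nothing, while the published statement, with words of positive length only, fails for empty X.) -/
theorem result (k : Type u) [Field k] [IsAlgClosed k]
    (G X : Over (Spec (CommRingCat.of k))) [GrpObj G] [LocallyOfFiniteType G.hom]
    [LocallyOfFiniteType X.hom] [GeometricallyReduced X.hom] (f : X ⟶ G) :
    {g : 𝟙_ (Over (Spec (CommRingCat.of k))) ⟶ G | ∃ (n : ℕ) (T : Over (Spec (CommRingCat.of k))) (p : T.left) (p₀ : (𝟙_ (Over (Spec (CommRingCat.of k)))).left)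
        (x : Fin n → (T ⟶ X)) (ε : Fin n → Bool), ((List.ofFn fun j : Fin n => if ε j then x j ≫ f else (x j ≫ f)⁻¹).prod : T ⟶ G).left.base p = g.left.base p₀} =
      ((Subgroup.closure {g : 𝟙_ (Over (Spec (CommRingCat.of k))) ⟶ G | ∃ p₀ : (𝟙_ (Over (Spec (CommRingCat.of k)))).left, g.left.base p₀ ∈ Set.range f.left.base} :
        Subgroup (𝟙_ (Over (Spec (CommRingCat.of k))) ⟶ G)) : Set (𝟙_ (Over (Spec (CommRingCat.of k))) ⟶ G)) := by
  have key : ∀ g : 𝟙_ (Over (Spec (CommRingCat.of k))) ⟶ G,
      (∃ (n : ℕ) (T : Over (Spec (CommRingCat.of k))) (p : T.left)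
        (p₀ : (𝟙_ (Over (Spec (CommRingCat.of k)))).left) (x : Fin n → (T ⟶ X)) (ε : Fin n → Bool),
        (word f n x ε).left.base p = g.left.base p₀) ↔
      ∃ (n : ℕ) (x : Fin n → (𝟙_ (Over (Spec (CommRingCat.of k))) ⟶ X)) (ε : Fin n → Bool),
        word f n x ε = g := by
    intro g
    constructor
    · rintro ⟨n, T, p, p₀, x, ε, h⟩
      haveI := lft_pw X n
      rw [word_eq] at h
      obtain ⟨x', hx'⟩ := exists_lift (word f n (pr X n) ε) g ((lf X n x).left.base p) p₀ h
      refine ⟨n, fun j => x' ≫ pr X n j, ε, ?_⟩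
      rw [← comp_word, hx']
    · rintro ⟨n, x, ε, rfl⟩
      obtain ⟨p₀⟩ : Nonempty (𝟙_ (Over (Spec (CommRingCat.of k)))).left :=
        (inferInstance : Nonempty (PrimeSpectrum k))
      exact ⟨n, 𝟙_ _, p₀, p₀, x, ε, rfl⟩
  ext g
  change (∃ (n : ℕ) (T : Over (Spec (CommRingCat.of k))) (p : T.left)
        (p₀ : (𝟙_ (Over (Spec (CommRingCat.of k)))).left) (x : Fin n → (T ⟶ X)) (ε : Fin n → Bool),
        (word f n x ε).left.base p = g.left.base p₀) ↔ g ∈ Subgroup.closure _
  rw [key]
  constructor
  · rintro ⟨n, x, ε, rfl⟩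
    unfold word
    apply Subgroup.list_prod_mem
    intro a ha
    rw [List.mem_ofFn] at ha
    obtain ⟨j, rfl⟩ := ha
    obtain ⟨p₀⟩ : Nonempty (𝟙_ (Over (Spec (CommRingCat.of k)))).left :=
      (inferInstance : Nonempty (PrimeSpectrum k))
    have hgen : x j ≫ f ∈ Subgroup.closure {g : 𝟙_ (Over (Spec (CommRingCat.of k))) ⟶ G |
        ∃ p₀ : (𝟙_ (Over (Spec (CommRingCat.of k)))).left,
          g.left.base p₀ ∈ Set.range f.left.base} :=
      Subgroup.subset_closure ⟨p₀, ⟨(x j).left.base p₀, rfl⟩⟩
    dsimp only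
    split_ifs
    · exact hgen
    · exact inv_mem hgen
  · intro hg
    induction hg using Subgroup.closure_induction'' with
    | mem g hg =>
      obtain ⟨p₀, x₀, hx₀⟩ := hg
      obtain ⟨x', hx'⟩ := exists_lift f g x₀ p₀ hx₀
      exact ⟨1, fun _ => x', fun _ => true, by simp [word, hx']⟩
    | inv_mem g hg =>
      obtain ⟨p₀, x₀, hx₀⟩ := hg
      obtain ⟨x', hx'⟩ := exists_lift f g x₀ p₀ hx₀
      exact ⟨1, fun _ => x', fun _ => false, by simp [word, hx']⟩
    | one => exact ⟨0, Fin.elim0, Fin.elim0, by simp [word]⟩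
    | mul g₁ g₂ _ _ h₁ h₂ =>
      obtain ⟨n₁, x₁, ε₁, rfl⟩ := h₁
      obtain ⟨n₂, x₂, ε₂, rfl⟩ := h₂
      refine ⟨n₁ + n₂, Fin.append x₁ x₂, Fin.append ε₁ ε₂, ?_⟩
      unfold word
      rw [← List.prod_append, ← List.ofFn_fin_append]
      congr 2
      funext j
      refine Fin.addCases ?_ ?_ j <;> intro i <;> simp

end Groth.Agent.S6075
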