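import Groth.Statements.S6084
-- import your own Groth.Agent.* helpers here
import Mathlib
import Groth.Agent.S0114

set_option autoImplicit false
universe u
open CategoryTheory CategoryTheory.Limits MonoidalCategory CartesianMonoidalCategory MonObj GrpObj AlgebraicGeometry
open SGA3

namespace Groth.Agent.S6084

set_option linter.style.haveILetI false

/-- A scheme with exactly one point is affine. -/
theorem isAffine_of_unique_point (X : Scheme.{u}) (x : X) (hx : ∀ y : X, y = x) : IsAffine X := by
  obtain ⟨U, hU, hxU, -⟩ := exists_isAffineOpen_mem_and_subset (X := X) (x := x)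
    (U := ⊤) trivial
  have hUtop : U = ⊤ := by
    refine eq_top_iff.2 ?_
    intro y _
    rw [hx y]; exact hxU
  subst hUtop
  haveI : IsAffine (⊤ : X.Opens).toScheme := hU
  exact IsAffine.of_isIso X.topIso.inv

/-- A finite type algebra over a field with exactly one prime is finite. -/
theorem finite_of_finiteType_of_subsingleton {k A : Type u} [Field k] [CommRing A] (φ : k →+* A)
    (h : φ.FiniteType) (hne : Nonempty (PrimeSpectrum A))
    (hsub : Subsingleton (PrimeSpectrum A)) : φ.Finite := by
  obtain ⟨P⟩ := hne
  haveI : Nontrivial A :=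
    ⟨⟨0, 1, fun h => P.isPrime.ne_top ((Ideal.eq_top_iff_one _).2 (h ▸ P.asIdeal.zero_mem))⟩⟩
  algebraize [φ]
  have hdim : Ring.KrullDimLE 0 A := by
    rw [Ring.krullDimLE_zero_iff]
    intro I hI
    obtain ⟨M, hM, hIM⟩ := Ideal.exists_le_maximal I hI.ne_top
    have h1 : (⟨M, hM.isPrime⟩ : PrimeSpectrum A) = ⟨I, hI⟩ := Subsingleton.elim _ _
    have hMI : M = I := congrArg PrimeSpectrum.asIdeal h1
    exact hMI ▸ hM
  exact (Module.finite_iff_krullDimLE_zero (R := k) (A := A)).2 hdim

/-- Let k be a perfect field, G a group scheme locally of finite type over k and u : F → G a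
homomorphism of k-group schemes which is a closed immersion and surjective on underlying spaces,
with F reduced (so F is G_red with its group structure). Let p : G → X be a k-morphism which is
flat, surjective and locally of finite presentation and makes the square formed by (f, g) ↦ u(f) ·
g, the second projection F ×_k G → G and p (twice) cartesian (X is the quotient of G by F acting by
left translations). Then X is the spectrum of a finite local k-algebra with residue field k: X is
affine, its underlying space is a single point at which the structure morphism induces an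
isomorphism of residue fields, and the ring of global sections of X is finite over k. -/
theorem result (k : Type u) [Field k] [PerfectField k]
    (F G : Over (Spec (CommRingCat.of k))) [GrpObj F] [GrpObj G] [LocallyOfFiniteType G.hom] [IsReduced F.left]
    (u : F ⟶ G) [IsMonHom u] [IsClosedImmersion u.left] [Surjective u.left]
    (X : Over (Spec (CommRingCat.of k))) (p : G ⟶ X) [Flat p.left] [Surjective p.left] [LocallyOfFinitePresentation p.left]
    (hp : IsPullback ((u ▷ G) ≫ μ[G]) (snd F G) p p) :
    IsAffine X.left ∧ (∃ x : X.left, (Set.univ : Set X.left) = {x} ∧ IsIso (X.hom.residueFieldMap x)) ∧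
      ((Scheme.ΓSpecIso (CommRingCat.of k)).inv ≫ X.hom.appTop).hom.Finite := by
  have hsub : Subsingleton ↥(Spec (CommRingCat.of k)) :=
    (inferInstance : Subsingleton (PrimeSpectrum k))
  obtain ⟨pt⟩ : Nonempty ↥(Spec (CommRingCat.of k)) :=
    (inferInstance : Nonempty (PrimeSpectrum k))
  let s : 𝟙_ (Over (Spec (CommRingCat.of k))) ⟶ X := η[G] ≫ p
  have hs : s.left ≫ X.hom = 𝟙 (Spec (CommRingCat.of k)) := by
    simp
  let x₀ : X.left := s.left pt
  -- every point is `x₀`
  have hall : ∀ x : X.left, x = x₀ := by
    intro x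
    obtain ⟨g, rfl⟩ := (inferInstance : Surjective p.left).surj x
    obtain ⟨f, rfl⟩ := (inferInstance : Surjective u.left).surj g
    let T : Over (Spec (CommRingCat.of k)) := Over.mk (F.left.fromSpecResidueField f ≫ F.hom)
    let a : T ⟶ F := Over.homMk (F.left.fromSpecResidueField f) rfl
    have e1 : lift a (toUnit T ≫ η[G]) ≫ ((u ▷ G) ≫ μ[G]) = a ≫ u := by
      rw [← Category.assoc, lift_whiskerRight, lift_comp_one_right]
    have e2 : lift a (toUnit T ≫ η[G]) ≫ snd F G = toUnit T ≫ η[G] := lift_snd _ _
    have key : (a ≫ u) ≫ p = (toUnit T ≫ η[G]) ≫ p :=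
      calc (a ≫ u) ≫ p = (lift a (toUnit T ≫ η[G]) ≫ ((u ▷ G) ≫ μ[G])) ≫ p := by rw [e1]
        _ = lift a (toUnit T ≫ η[G]) ≫ (((u ▷ G) ≫ μ[G]) ≫ p) := Category.assoc _ _ _
        _ = lift a (toUnit T ≫ η[G]) ≫ (snd F G ≫ p) := by rw [hp.w]
        _ = (lift a (toUnit T ≫ η[G]) ≫ snd F G) ≫ p := (Category.assoc _ _ _).symm
        _ = (toUnit T ≫ η[G]) ≫ p := by rw [e2]
    obtain ⟨t⟩ : Nonempty ↥(Spec (F.left.residueField f)) :=
      (inferInstance : Nonempty (PrimeSpectrum (F.left.residueField f)))
    have h2 := congrArg (fun m : T ⟶ X => m.left t) key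
    simp only [Over.comp_left, Scheme.Hom.comp_apply] at h2
    have h3 : a.left t = f := Scheme.fromSpecResidueField_apply _ _
    have e3 : (toUnit T).left t = pt := @Subsingleton.elim _ hsub _ _
    calc p.left (u.left f) = p.left (u.left (a.left t)) := by rw [h3]
      _ = p.left (η[G].left ((toUnit T).left t)) := h2
      _ = p.left (η[G].left pt) := by rw [e3]
      _ = x₀ := rfl
  -- residue field
  have hres : IsIso (X.hom.residueFieldMap x₀) := by
    have h0' : IsIso (Scheme.Hom.residueFieldMap (𝟙 (Spec (CommRingCat.of k))) pt) := by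
      rw [Scheme.residueFieldMap_id]; exact IsIso.id _
    have h0 : IsIso ((s.left ≫ X.hom).residueFieldMap pt) := by
      rw [hs]; exact h0'
    rw [Scheme.residueFieldMap_comp] at h0
    obtain ⟨δ, hδ1, hδ2⟩ := h0.out
    have hβ : IsIso (s.left.residueFieldMap pt) := by
      rw [ConcreteCategory.isIso_iff_bijective]
      refine ⟨(s.left.residueFieldMap pt).hom.injective, fun y => ?_⟩
      refine ⟨X.hom.residueFieldMap (s.left pt) (δ y), ?_⟩
      have := congrArg (fun m => (ConcreteCategory.hom m) y) hδ2
      exact this
    exact @IsIso.of_isIso_comp_right _ _ _ _ _ _ (s.left.residueFieldMap pt) hβ h0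
  haveI hX : IsAffine X.left := isAffine_of_unique_point X.left x₀ hall
  refine ⟨hX, ⟨x₀, ?_, hres⟩, ?_⟩
  · ext y
    simp [hall y]
  · haveI : IsLocallyNoetherian ((Functor.fromPUnit (Spec (CommRingCat.of k))).obj G.right) :=
      (inferInstance : IsLocallyNoetherian (Spec (CommRingCat.of k)))
    haveI : IsAffine ((Functor.fromPUnit (Spec (CommRingCat.of k))).obj X.right) :=
      (inferInstance : IsAffine (Spec (CommRingCat.of k)))
    haveI : LocallyOfFinitePresentation (p.left ≫ X.hom) := by
      rw [Over.w p]; infer_instance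
    haveI : LocallyOfFinitePresentation X.hom := Groth.Agent.S0114.result p.left X.hom
    have hft : X.hom.appTop.hom.FiniteType :=
      (HasRingHomProperty.iff_of_isAffine (P := @LocallyOfFiniteType)).1 inferInstance
    have hφft : (((Scheme.ΓSpecIso (CommRingCat.of k)).inv ≫ X.hom.appTop).hom).FiniteType := by
      rw [CommRingCat.hom_comp]
      exact hft.comp (RingHom.FiniteType.of_surjective _
        (ConcreteCategory.bijective_of_isIso (Scheme.ΓSpecIso (CommRingCat.of k)).inv).2)
    have hinj : Function.Injective (X.left.isoSpec.inv : _ → _) :=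
      (X.left.isoSpec.inv).isOpenEmbedding.injective
    refine finite_of_finiteType_of_subsingleton _ hφft ⟨X.left.isoSpec.hom x₀⟩ ⟨fun P Q => ?_⟩
    exact hinj ((hall _).trans (hall _).symm)

end Groth.Agent.S6084
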