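import Groth.Statements.S6088
-- import your own Groth.Agent.* helpers here
import Mathlib
import Groth.Agent.S6086
import Groth.Agent.Lib.Helper26SubGrpLim
import Groth.Agent.Lib.Helper6LfpComp

set_option autoImplicit false
universe u
open CategoryTheory CategoryTheory.Limits MonoidalCategory CartesianMonoidalCategory MonObj GrpObj AlgebraicGeometry
open SGA3

namespace Groth.Agent.S6088

set_option linter.style.haveILetI false

open Groth.Agent.Lib.Helper26.SubGrpLim

section eqat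

variable {S₀ : Scheme.{u}} {Q₀ Y₀ : Over S₀} (a b : Q₀ ⟶ Y₀)

/-- the two morphisms `a`, `b` agree after base change along `t`. -/
def EqAt {T' : Scheme.{u}} (t : T' ⟶ S₀) : Prop :=
  pullback.fst Q₀.hom t ≫ a.left = pullback.fst Q₀.hom t ≫ b.left

lemma eqAt_iff {T' : Scheme.{u}} (t : T' ⟶ S₀) :
    EqAt a b t ↔ (Over.pullback t).map a = (Over.pullback t).map b := by
  constructor
  · intro h
    ext
    apply pullback.hom_ext
    · rw [ActBC.pullback_map_left_fst, ActBC.pullback_map_left_fst]; exact h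
    · exact (Over.w _).trans (Over.w _).symm
  · intro h
    show pullback.fst Q₀.hom t ≫ a.left = pullback.fst Q₀.hom t ≫ b.left
    rw [← ActBC.pullback_map_left_fst, ← ActBC.pullback_map_left_fst, h]

variable {a b}

lemma EqAt.comp {T' T'' : Scheme.{u}} {t : T' ⟶ S₀} (h : EqAt a b t) (s : T'' ⟶ T') :
    EqAt a b (s ≫ t) := by
  let m : pullback Q₀.hom (s ≫ t) ⟶ pullback Q₀.hom t :=
    pullback.lift (pullback.fst _ _) (pullback.snd _ _ ≫ s)
      (by rw [Category.assoc, pullback.condition])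
  have hm : m ≫ pullback.fst Q₀.hom t = pullback.fst Q₀.hom (s ≫ t) := pullback.lift_fst _ _ _
  have h' : pullback.fst Q₀.hom t ≫ a.left = pullback.fst Q₀.hom t ≫ b.left := h
  show pullback.fst Q₀.hom (s ≫ t) ≫ a.left = pullback.fst Q₀.hom (s ≫ t) ≫ b.left
  rw [← hm, Category.assoc, Category.assoc, h']

lemma EqAt.of_eq {T' : Scheme.{u}} {t t' : T' ⟶ S₀} (h : EqAt a b t) (e : t = t') :
    EqAt a b t' := e ▸ h

lemma EqAt.point {T' : Scheme.{u}} {t : T' ⟶ S₀} (h : EqAt a b t) (T : Over T')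
    (q : (Over.map t).obj T ⟶ Q₀) : q ≫ a = q ≫ b := by
  have hq : q.left ≫ Q₀.hom = T.hom ≫ t := Over.w q
  let w : T.left ⟶ pullback Q₀.hom t := pullback.lift q.left T.hom hq
  have hw : w ≫ pullback.fst Q₀.hom t = q.left := pullback.lift_fst _ _ _
  have h' : pullback.fst Q₀.hom t ≫ a.left = pullback.fst Q₀.hom t ≫ b.left := h
  apply Over.OverMorphism.ext
  show q.left ≫ a.left = q.left ≫ b.left
  rw [← hw, Category.assoc, Category.assoc, h']

lemma eqAt_of_universal {T' : Scheme.{u}} (t : T' ⟶ S₀)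
    (h : ψ t Q₀ (Red.bc t Q₀) (𝟙 _) ≫ a = ψ t Q₀ (Red.bc t Q₀) (𝟙 _) ≫ b) : EqAt a b t := by
  have h2 : (ψ t Q₀ (Red.bc t Q₀) (𝟙 _)).left = pullback.fst Q₀.hom t := by
    rw [ψ_left]
    exact Category.id_comp _
  have h3 : (ψ t Q₀ (Red.bc t Q₀) (𝟙 _)).left ≫ a.left =
      (ψ t Q₀ (Red.bc t Q₀) (𝟙 _)).left ≫ b.left := congrArg (fun z => z.left) h
  rw [h2] at h3
  exact h3

end eqat

section descent

variable {I : Type u} [SmallCategory I] [IsCofiltered I]
  (D : I ⥤ Scheme.{u}) (c : Cone D) (hc : IsLimit c)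
  [∀ (i j : I) (a : i ⟶ j), IsAffineHom (D.map a)] (i₀ : I)

include hc in
theorem EqAt.exists_stage {Q₀ Y₀ : Over (D.obj i₀)} [CompactSpace Q₀.left]
    [LocallyOfFiniteType Y₀.hom] (a b : Q₀ ⟶ Y₀) (h : EqAt a b (c.π.app i₀)) :
    ∃ k : Over i₀, EqAt a b (D.map k.hom) := by
  obtain ⟨i', g, hg⟩ := Groth.Agent.S6086.inj_stage D c hc i₀ Q₀ Y₀ a b ((eqAt_iff a b _).mp h)
  exact ⟨Over.mk g, (eqAt_iff a b _).mpr hg⟩

omit [IsCofiltered I] [∀ (i j : I) (a : i ⟶ j), IsAffineHom (D.map a)] in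
lemma EqAt.of_over_hom {Q₀ Y₀ : Over (D.obj i₀)} {a b : Q₀ ⟶ Y₀} {j k : Over i₀} (u : k ⟶ j)
    (h : EqAt a b (D.map j.hom)) : EqAt a b (D.map k.hom) :=
  (h.comp (D.map u.left)).of_eq (by rw [← D.map_comp, Over.w u])

end descent

section mono

variable {S₀ : Scheme.{u}} {H₀ G₀ : Over S₀} (ι₀ : H₀ ⟶ G₀)

/-- the kernel pair of `ι₀`. -/
noncomputable def K₀ : Over S₀ := Over.mk (pullback.fst ι₀.left ι₀.left ≫ H₀.hom)

noncomputable def p₁ : K₀ ι₀ ⟶ H₀ := Over.homMk (pullback.fst ι₀.left ι₀.left) rfl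

noncomputable def p₂ : K₀ ι₀ ⟶ H₀ := Over.homMk (pullback.snd ι₀.left ι₀.left) (by
  show pullback.snd ι₀.left ι₀.left ≫ H₀.hom = pullback.fst ι₀.left ι₀.left ≫ H₀.hom
  rw [← Over.w ι₀, ← Category.assoc, ← pullback.condition, Category.assoc])

lemma p_cond : p₁ ι₀ ≫ ι₀ = p₂ ι₀ ≫ ι₀ := by
  apply Over.OverMorphism.ext
  exact pullback.condition

theorem mono_iff_eqAt {T' : Scheme.{u}} (t : T' ⟶ S₀) :
    Mono ((Over.pullback t).map ι₀) ↔ EqAt (p₁ ι₀) (p₂ ι₀) t := by
  constructor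
  · intro hm
    rw [eqAt_iff, ← cancel_mono ((Over.pullback t).map ι₀), ← Functor.map_comp,
      ← Functor.map_comp, p_cond]
  · intro h
    constructor
    intro Z x y hxy
    have e1 : ψ t H₀ Z x ≫ ι₀ = ψ t H₀ Z y ≫ ι₀ := by
      rw [← ψ_comp_map, ← ψ_comp_map, hxy]
    have e1' : (ψ t H₀ Z x).left ≫ ι₀.left = (ψ t H₀ Z y).left ≫ ι₀.left :=
      congrArg (fun z => z.left) e1
    let q : (Over.map t).obj Z ⟶ K₀ ι₀ :=
      Over.homMk (pullback.lift (ψ t H₀ Z x).left (ψ t H₀ Z y).left e1') (by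
        show pullback.lift _ _ _ ≫ pullback.fst ι₀.left ι₀.left ≫ H₀.hom =
          ((Over.map t).obj Z).hom
        rw [pullback.lift_fst_assoc]
        exact Over.w (ψ t H₀ Z x))
    have hq1 : q ≫ p₁ ι₀ = ψ t H₀ Z x := by
      apply Over.OverMorphism.ext
      exact pullback.lift_fst _ _ _
    have hq2 : q ≫ p₂ ι₀ = ψ t H₀ Z y := by
      apply Over.OverMorphism.ext
      exact pullback.lift_snd _ _ _
    have := h.point Z q
    rw [hq1, hq2] at this
    exact (ψ t H₀ Z).injective this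

end mono

section central

variable {S₀ : Scheme.{u}} {H₀ G₀ : Over S₀} [GrpObj G₀] (ι₀ : H₀ ⟶ G₀)

noncomputable abbrev ca : G₀ ⊗ H₀ ⟶ G₀ := fst G₀ H₀ * (snd G₀ H₀ ≫ ι₀)

noncomputable abbrev cb : G₀ ⊗ H₀ ⟶ G₀ := (snd G₀ H₀ ≫ ι₀) * fst G₀ H₀

theorem central_iff_eqAt {T' : Scheme.{u}} (t : T' ⟶ S₀) :
    (∀ (T : Over T') (g : T ⟶ Red.bc t G₀) (n : T ⟶ Red.bc t H₀),
      g * (n ≫ (Over.pullback t).map ι₀) = (n ≫ (Over.pullback t).map ι₀) * g) ↔
      EqAt (ca ι₀) (cb ι₀) t := by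
  constructor
  · intro h
    apply eqAt_of_universal
    have h0 := h (Red.bc t (G₀ ⊗ H₀)) ((Over.pullback t).map (fst G₀ H₀))
      ((Over.pullback t).map (snd G₀ H₀))
    have h1 := congrArg (Ψ t G₀ _) h0
    rw [map_mul, map_mul, Ψ_apply, Ψ_apply, ← Functor.map_comp, psi_map, psi_map] at h1
    rw [MonObj.comp_mul, MonObj.comp_mul]
    exact h1
  · intro h T g n
    apply (Ψ t G₀ T).injective
    have := h.point T (lift (Ψ t G₀ T g) (ψ t H₀ T n))
    rw [MonObj.comp_mul, MonObj.comp_mul, lift_fst, lift_snd_assoc] at this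
    rw [map_mul, map_mul]
    have e := psi_comp_n ι₀ t n
    rw [← e]
    exact this

end central

/-- Let S be the limit of a cofiltered system (S_i) of quasi-compact quasi-separated schemes with affine
transition morphisms, j an index and u_j : H_j → G_j a homomorphism of S_j-group schemes of finite
presentation over S_j; write u and u_i for its base changes to S and to S_i. Then u is a
monomorphism with H normal in G (for every S-scheme T, conjugates of T-points of H by T-points of G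
are T-points of H) if and only if there is an index i over j such that u_i is a monomorphism with
H_i normal in G_i; and u is a monomorphism with H central in G (every T-point of H commutes with
every T-point of G) if and only if there is an index i over j with the same property for u_i. (The
published statement starts from a homomorphism u of S-groups of finite presentation and first
descends it to some u_j; this row starts from u_j. The published setting takes all S_i affine over a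
fixed quasi-compact quasi-separated S_0.) -/
theorem result {I : Type u} [SmallCategory I] [IsCofiltered I]
    (D : I ⥤ Scheme.{u}) (c : Limits.Cone D) (hc : Limits.IsLimit c)
    [∀ (i i' : I) (f : i ⟶ i'), IsAffineHom (D.map f)] [∀ i, CompactSpace (D.obj i)] [∀ i, QuasiSeparatedSpace (D.obj i)]
    (j : I) (Gj Hj : Over (D.obj j)) [GrpObj Gj] [GrpObj Hj]
    [LocallyOfFinitePresentation Gj.hom] [QuasiCompact Gj.hom] [QuasiSeparated Gj.hom]
    [LocallyOfFinitePresentation Hj.hom] [QuasiCompact Hj.hom] [QuasiSeparated Hj.hom]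
    (uj : Hj ⟶ Gj) [IsMonHom uj] :
    ((Mono ((Over.pullback (c.π.app j)).map uj) ∧ AlgGrp.IsNormalHom ((Over.pullback (c.π.app j)).map uj)) ↔
      ∃ (i : I) (f : i ⟶ j), Mono ((Over.pullback (D.map f)).map uj) ∧ AlgGrp.IsNormalHom ((Over.pullback (D.map f)).map uj)) ∧
    ((Mono ((Over.pullback (c.π.app j)).map uj) ∧ (∀ (T : Over c.pt) (g : T ⟶ (Red.bc (c.π.app j) Gj)) (n : T ⟶ (Red.bc (c.π.app j) Hj)), g * (n ≫ ((Over.pullback (c.π.app j)).map uj)) = (n ≫ ((Over.pullback (c.π.app j)).map uj)) * g)) ↔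
      ∃ (i : I) (f : i ⟶ j), Mono ((Over.pullback (D.map f)).map uj) ∧ (∀ (T : Over (D.obj i)) (g : T ⟶ (Red.bc (D.map f) Gj)) (n : T ⟶ (Red.bc (D.map f) Hj)), g * (n ≫ ((Over.pullback (D.map f)).map uj)) = (n ≫ ((Over.pullback (D.map f)).map uj)) * g)) := by
  haveI hGc : CompactSpace Gj.left := QuasiCompact.compactSpace_of_compactSpace Gj.hom
  haveI hGs : QuasiSeparatedSpace Gj.left := quasiSeparatedSpace_of_quasiSeparated Gj.hom
  haveI hHc : CompactSpace Hj.left := QuasiCompact.compactSpace_of_compactSpace Hj.hom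
  haveI hHs : QuasiSeparatedSpace Hj.left := quasiSeparatedSpace_of_quasiSeparated Hj.hom
  haveI hlfp : LocallyOfFinitePresentation uj.left :=
    Groth.Agent.Lib.Helper6.locallyOfFinitePresentation_of_comp (g := Gj.hom) inferInstance
      (by rw [Over.w uj]; infer_instance)
  haveI hqc : QuasiCompact uj.left := by
    haveI : QuasiCompact (uj.left ≫ Gj.hom) := by rw [Over.w uj]; infer_instance
    exact QuasiCompact.of_comp uj.left Gj.hom
  haveI hCc : CompactSpace (Gj ⊗ Hj).left :=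
    QuasiCompact.compactSpace_of_compactSpace (pullback.fst Gj.hom Hj.hom)
  haveI hCs : QuasiSeparatedSpace (Gj ⊗ Hj).left :=
    quasiSeparatedSpace_of_quasiSeparated (pullback.fst Gj.hom Hj.hom)
  haveI hKc : CompactSpace (K₀ uj).left := by
    show CompactSpace ↥(pullback uj.left uj.left)
    exact QuasiCompact.compactSpace_of_compactSpace (pullback.fst uj.left uj.left)
  have up : ∀ {Q₀ Y₀ : Over (D.obj j)} (a b : Q₀ ⟶ Y₀) {i : I} (f : i ⟶ j),
      EqAt a b (D.map f) → EqAt a b (c.π.app j) :=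
    fun a b i f h => (h.comp (c.π.app i)).of_eq (c.w f)
  refine ⟨⟨?_, ?_⟩, ⟨?_, ?_⟩⟩
  · rintro ⟨hm, hn⟩
    obtain ⟨k1, h1⟩ := EqAt.exists_stage D c hc j _ _ ((mono_iff_eqAt uj _).mp hm)
    obtain ⟨k2, h2⟩ := Fac.exists_stage D c hc j uj _ _
      (fac_conj_of_isNormalHom uj (c.π.app j) hn)
    have h1' := EqAt.of_over_hom D j (IsCofiltered.minToLeft k1 k2) h1
    have h2' := Fac.of_over_hom D j uj (IsCofiltered.minToRight k1 k2) h2
    exact ⟨(IsCofiltered.min k1 k2).left, (IsCofiltered.min k1 k2).hom,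
      (mono_iff_eqAt uj _).mpr h1', isNormalHom_of_fac uj _ h2'⟩
  · rintro ⟨i, f, hm, hn⟩
    exact ⟨(mono_iff_eqAt uj _).mpr (up _ _ f ((mono_iff_eqAt uj _).mp hm)),
      isNormalHom_of_fac uj _
        (((fac_conj_of_isNormalHom uj _ hn).comp (c.π.app i)).of_eq (c.w f))⟩
  · rintro ⟨hm, hn⟩
    obtain ⟨k1, h1⟩ := EqAt.exists_stage D c hc j _ _ ((mono_iff_eqAt uj _).mp hm)
    obtain ⟨k2, h2⟩ := EqAt.exists_stage D c hc j _ _ ((central_iff_eqAt uj _).mp hn)
    have h1' := EqAt.of_over_hom D j (IsCofiltered.minToLeft k1 k2) h1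
    have h2' := EqAt.of_over_hom D j (IsCofiltered.minToRight k1 k2) h2
    exact ⟨(IsCofiltered.min k1 k2).left, (IsCofiltered.min k1 k2).hom,
      (mono_iff_eqAt uj _).mpr h1', (central_iff_eqAt uj _).mpr h2'⟩
  · rintro ⟨i, f, hm, hn⟩
    exact ⟨(mono_iff_eqAt uj _).mpr (up _ _ f ((mono_iff_eqAt uj _).mp hm)),
      (central_iff_eqAt uj _).mpr (up _ _ f ((central_iff_eqAt uj _).mp hn))⟩

end Groth.Agent.S6088
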