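import Groth.Statements.S6085
-- import your own Groth.Agent.* helpers here
import Mathlib
import Groth.Agent.S6086
import Groth.Agent.S6088
import Groth.Agent.Lib.Helper26LimFP5

set_option autoImplicit false
universe u
open CategoryTheory CategoryTheory.Limits MonoidalCategory CartesianMonoidalCategory MonObj GrpObj AlgebraicGeometry
open SGA3

namespace Groth.Agent.S6085

set_option linter.style.haveILetI false

section eventually

variable {J : Type*} [Category J]

/-- a property of objects of a cofiltered category which holds eventually. -/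
def Ev (P : J → Prop) : Prop := ∃ k₀ : J, ∀ k : J, (k ⟶ k₀) → P k

variable {P Q : J → Prop}

lemma Ev.and [IsCofiltered J] (hP : Ev P) (hQ : Ev Q) : Ev (fun k => P k ∧ Q k) := by
  obtain ⟨k₁, h₁⟩ := hP
  obtain ⟨k₂, h₂⟩ := hQ
  exact ⟨IsCofiltered.min k₁ k₂, fun k a => ⟨h₁ k (a ≫ IsCofiltered.minToLeft _ _),
    h₂ k (a ≫ IsCofiltered.minToRight _ _)⟩⟩

lemma Ev.exists (h : Ev P) : ∃ k, P k := by
  obtain ⟨k₀, h₀⟩ := h
  exact ⟨k₀, h₀ k₀ (𝟙 _)⟩

end eventually

section abstract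

variable {C : Type*} [Category C] [CartesianMonoidalCategory C] {E : Type*} [Category E]
  [CartesianMonoidalCategory E] (F : C ⥤ E) [F.Monoidal] {X : C} (m : X ⊗ X ⟶ X) (e : 𝟙_ C ⟶ X)
  (iv : X ⟶ X)

/-- image of a multiplication map under a monoidal functor. -/
abbrev mulF : F.obj X ⊗ F.obj X ⟶ F.obj X := Functor.LaxMonoidal.μ F X X ≫ F.map m

/-- image of a unit map under a monoidal functor. -/
abbrev oneF : 𝟙_ E ⟶ F.obj X := Functor.LaxMonoidal.ε F ≫ F.map e

lemma R1 : (oneF F e ▷ F.obj X) ≫ mulF F m = (Functor.LaxMonoidal.ε F ▷ F.obj X) ≫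
    Functor.LaxMonoidal.μ F (𝟙_ C) X ≫ F.map ((e ▷ X) ≫ m) := by
  rw [comp_whiskerRight, Category.assoc, Functor.LaxMonoidal.μ_natural_left_assoc,
    ← Functor.map_comp]

lemma R2 : (F.obj X ◁ oneF F e) ≫ mulF F m = (F.obj X ◁ Functor.LaxMonoidal.ε F) ≫
    Functor.LaxMonoidal.μ F X (𝟙_ C) ≫ F.map ((X ◁ e) ≫ m) := by
  rw [MonoidalCategory.whiskerLeft_comp, Category.assoc,
    Functor.LaxMonoidal.μ_natural_right_assoc, ← Functor.map_comp]

lemma R3a : (mulF F m ▷ F.obj X) ≫ mulF F m = (Functor.LaxMonoidal.μ F X X ▷ F.obj X) ≫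
    Functor.LaxMonoidal.μ F (X ⊗ X) X ≫ F.map ((m ▷ X) ≫ m) := by
  rw [comp_whiskerRight, Category.assoc, Functor.LaxMonoidal.μ_natural_left_assoc,
    ← Functor.map_comp]

lemma R3b : (α_ (F.obj X) (F.obj X) (F.obj X)).hom ≫ (F.obj X ◁ mulF F m) ≫ mulF F m =
    (Functor.LaxMonoidal.μ F X X ▷ F.obj X) ≫ Functor.LaxMonoidal.μ F (X ⊗ X) X ≫
      F.map ((α_ X X X).hom ≫ (X ◁ m) ≫ m) := by
  rw [MonoidalCategory.whiskerLeft_comp, Category.assoc,
    Functor.LaxMonoidal.μ_natural_right_assoc, ← Functor.LaxMonoidal.associativity_assoc,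
    ← Functor.map_comp, ← Functor.map_comp]

lemma R4 : lift (F.map iv) (𝟙 (F.obj X)) ≫ mulF F m = F.map (lift iv (𝟙 X) ≫ m) := by
  rw [← F.map_id, Functor.Monoidal.lift_μ_assoc, ← Functor.map_comp]

lemma R5 : lift (𝟙 (F.obj X)) (F.map iv) ≫ mulF F m = F.map (lift (𝟙 X) iv ≫ m) := by
  rw [← F.map_id, Functor.Monoidal.lift_μ_assoc, ← Functor.map_comp]

lemma R6 : toUnit (F.obj X) ≫ oneF F e = F.map (toUnit X ≫ e) := by
  rw [Functor.Monoidal.toUnit_ε_assoc, ← Functor.map_comp]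

/-- the group axioms for `(m, e, iv)` hold after applying `F`. -/
def Ax : Prop :=
  F.map ((e ▷ X) ≫ m) = F.map (λ_ X).hom ∧ F.map ((X ◁ e) ≫ m) = F.map (ρ_ X).hom ∧
  F.map ((m ▷ X) ≫ m) = F.map ((α_ X X X).hom ≫ (X ◁ m) ≫ m) ∧
  F.map (lift iv (𝟙 X) ≫ m) = F.map (toUnit X ≫ e) ∧
  F.map (lift (𝟙 X) iv ≫ m) = F.map (toUnit X ≫ e)

theorem ax_of_grpObj [GrpObj (F.obj X)] (hμ : μ[F.obj X] = mulF F m)
    (hη : η[F.obj X] = oneF F e) (hι : ι[F.obj X] = F.map iv) : Ax F m e iv := by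
  refine ⟨?_, ?_, ?_, ?_, ?_⟩
  · have h := MonObj.one_mul (X := F.obj X)
    rw [hμ, hη, R1, Functor.LaxMonoidal.left_unitality] at h
    exact (cancel_epi _).mp ((cancel_epi _).mp h)
  · have h := MonObj.mul_one (X := F.obj X)
    rw [hμ, hη, R2, Functor.LaxMonoidal.right_unitality] at h
    exact (cancel_epi _).mp ((cancel_epi _).mp h)
  · have h := MonObj.mul_assoc (X := F.obj X)
    rw [hμ, R3a, R3b] at h
    exact (cancel_epi _).mp ((cancel_epi _).mp h)
  · have h := GrpObj.left_inv (X := F.obj X)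
    rw [hμ, hη, hι, R4, R6] at h
    exact h
  · have h := GrpObj.right_inv (X := F.obj X)
    rw [hμ, hη, hι, R5, R6] at h
    exact h

/-- the group structure on `F.obj X` if the axioms hold after applying `F`. -/
@[instance_reducible]
def grpObjOfAx (h : Ax F m e iv) : GrpObj (F.obj X) where
  one := oneF F e
  mul := mulF F m
  one_mul := by rw [R1, h.1, ← Functor.LaxMonoidal.left_unitality]
  mul_one := by rw [R2, h.2.1, ← Functor.LaxMonoidal.right_unitality]
  mul_assoc := by rw [R3a, R3b, h.2.2.1]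
  inv := F.map iv
  left_inv := by rw [R4, R6, h.2.2.2.1]
  right_inv := by rw [R5, R6, h.2.2.2.2]

end abstract

section beta

variable {S S' S'' : Scheme.{u}} (f : S'' ⟶ S') (g : S' ⟶ S) {d : S'' ⟶ S} (h : f ≫ g = d)
  (X Y : Over S)

@[reassoc] lemma bcCompIso_μ :
    Functor.LaxMonoidal.μ (Over.pullback f) (Red.bc g X) (Red.bc g Y) ≫
      (Over.pullback f).map (Functor.LaxMonoidal.μ (Over.pullback g) X Y) ≫
        (ActBC.bcCompIso f g (X ⊗ Y) h).hom =
    ((ActBC.bcCompIso f g X h).hom ⊗ₘ (ActBC.bcCompIso f g Y h).hom) ≫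
      Functor.LaxMonoidal.μ (Over.pullback d) X Y := by
  have key : ∀ (a b : (Red.bc f (Red.bc g X)) ⊗ (Red.bc f (Red.bc g Y)) ⟶ Red.bc d (X ⊗ Y)),
      a ≫ (Over.pullback d).map (fst X Y) = b ≫ (Over.pullback d).map (fst X Y) →
      a ≫ (Over.pullback d).map (snd X Y) = b ≫ (Over.pullback d).map (snd X Y) → a = b := by
    intro a b h1 h2
    rw [← cancel_mono (Functor.OplaxMonoidal.δ (Over.pullback d) X Y)]
    apply CartesianMonoidalCategory.hom_ext
    · rw [Category.assoc, Category.assoc, Functor.OplaxMonoidal.δ_fst]; exact h1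
    · rw [Category.assoc, Category.assoc, Functor.OplaxMonoidal.δ_snd]; exact h2
  apply key
  · rw [Category.assoc, Category.assoc, ← ActBC.bcCompIso_hom_naturality,
      ← Functor.map_comp_assoc, Functor.Monoidal.μ_fst, Functor.Monoidal.μ_fst_assoc,
      Category.assoc, Functor.Monoidal.μ_fst, tensorHom_fst]
  · rw [Category.assoc, Category.assoc, ← ActBC.bcCompIso_hom_naturality,
      ← Functor.map_comp_assoc, Functor.Monoidal.μ_snd, Functor.Monoidal.μ_snd_assoc,
      Category.assoc, Functor.Monoidal.μ_snd, tensorHom_snd]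

@[reassoc] lemma bcCompIso_ε :
    Functor.LaxMonoidal.ε (Over.pullback f) ≫
      (Over.pullback f).map (Functor.LaxMonoidal.ε (Over.pullback g)) ≫
        (ActBC.bcCompIso f g (𝟙_ (Over S)) h).hom =
    Functor.LaxMonoidal.ε (Over.pullback d) := by
  rw [← cancel_mono (Functor.OplaxMonoidal.η (Over.pullback d))]
  exact toUnit_unique _ _

end beta

section geom

open Groth.Agent.S6086 Groth.Agent.S6088

lemma compact_tensor {S : Scheme.{u}} (A B : Over S) [CompactSpace A.left] [QuasiCompact B.hom] :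
    CompactSpace (A ⊗ B).left := by
  show CompactSpace ↥(pullback A.hom B.hom)
  exact QuasiCompact.compactSpace_of_compactSpace (pullback.fst A.hom B.hom)

lemma qs_tensor {S : Scheme.{u}} (A B : Over S) [QuasiSeparatedSpace A.left]
    [QuasiSeparated B.hom] : QuasiSeparatedSpace (A ⊗ B).left := by
  show QuasiSeparatedSpace ↥(pullback A.hom B.hom)
  exact quasiSeparatedSpace_of_quasiSeparated (pullback.fst A.hom B.hom)

variable {I : Type u} [SmallCategory I] [IsCofiltered I] (D : I ⥤ Scheme.{u}) (c : Cone D)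
  (hc : IsLimit c) [∀ (i j : I) (a : i ⟶ j), IsAffineHom (D.map a)]

omit [IsCofiltered I] [∀ (i j : I) (a : i ⟶ j), IsAffineHom (D.map a)] in
lemma exists_transport {i' i j : I} (g : i' ⟶ i) (f : i ⟶ j) (f' : i' ⟶ j) (h : g ≫ f = f')
    {X Y : Over (D.obj j)} (w : Red.bc (D.map f) X ⟶ Red.bc (D.map f) Y) :
    ∃ w' : Red.bc (D.map f') X ⟶ Red.bc (D.map f') Y,
      proj D c f' X ≫ w'.left ≫ pullback.fst Y.hom (D.map f') =
        proj D c f X ≫ w.left ≫ pullback.fst Y.hom (D.map f) := by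
  subst h
  exact ⟨transport D g f w, proj_transport D c g f w⟩

include hc in
lemma ev_descent (j : I) (X Y : Over (D.obj j)) [CompactSpace X.left]
    [QuasiSeparatedSpace X.left] [LocallyOfFinitePresentation Y.hom]
    (u : Red.bc (c.π.app j) X ⟶ Red.bc (c.π.app j) Y) :
    Ev (fun k : Over j => ∃ w : Red.bc (D.map k.hom) X ⟶ Red.bc (D.map k.hom) Y,
      (Over.pullback (c.π.app k.left)).map w =
        (ActBC.bcCompIso (c.π.app k.left) (D.map k.hom) X (c.w k.hom)).hom ≫ u ≫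
          (ActBC.bcCompIso (c.π.app k.left) (D.map k.hom) Y (c.w k.hom)).inv) := by
  obtain ⟨i, f, w, hw⟩ := exists_descent D c hc j X Y u
  refine ⟨Over.mk f, fun k a => ?_⟩
  obtain ⟨w', hw'⟩ := exists_transport D c a.left f k.hom (Over.w a) w
  exact ⟨w', compat_of_proj D c k.hom X Y u w' (hw'.trans hw)⟩

include hc in
lemma ev_of_limit (i₀ : I) {Q₀ Y₀ : Over (D.obj i₀)} [CompactSpace Q₀.left]
    [LocallyOfFiniteType Y₀.hom] (a b : Q₀ ⟶ Y₀)
    (h : (Over.pullback (c.π.app i₀)).map a = (Over.pullback (c.π.app i₀)).map b) :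
    Ev (fun k : Over i₀ =>
      (Over.pullback (D.map k.hom)).map a = (Over.pullback (D.map k.hom)).map b) := by
  obtain ⟨k₀, h₀⟩ := EqAt.exists_stage D c hc i₀ a b ((eqAt_iff a b _).mpr h)
  exact ⟨k₀, fun k u => (eqAt_iff a b _).mp (EqAt.of_over_hom D i₀ u h₀)⟩

include hc in
theorem exists_structure_maps (j : I) (Xj : Over (D.obj j)) [CompactSpace (D.obj j)]
    [QuasiSeparatedSpace (D.obj j)]
    [LocallyOfFinitePresentation Xj.hom] [QuasiCompact Xj.hom] [QuasiSeparated Xj.hom]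
    [GrpObj (Red.bc (c.π.app j) Xj)] :
    ∃ (k : I) (f : k ⟶ j)
      (m : Red.bc (D.map f) Xj ⊗ Red.bc (D.map f) Xj ⟶ Red.bc (D.map f) Xj)
      (e : 𝟙_ (Over (D.obj k)) ⟶ Red.bc (D.map f) Xj)
      (iv : Red.bc (D.map f) Xj ⟶ Red.bc (D.map f) Xj),
      mulF (Over.pullback (c.π.app k)) m =
        ((ActBC.bcCompIso (c.π.app k) (D.map f) Xj (c.w f)).hom ⊗ₘ
          (ActBC.bcCompIso (c.π.app k) (D.map f) Xj (c.w f)).hom) ≫
          μ[Red.bc (c.π.app j) Xj] ≫ (ActBC.bcCompIso (c.π.app k) (D.map f) Xj (c.w f)).inv ∧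
      oneF (Over.pullback (c.π.app k)) e =
        η[Red.bc (c.π.app j) Xj] ≫ (ActBC.bcCompIso (c.π.app k) (D.map f) Xj (c.w f)).inv ∧
      (Over.pullback (c.π.app k)).map iv =
        (ActBC.bcCompIso (c.π.app k) (D.map f) Xj (c.w f)).hom ≫ ι[Red.bc (c.π.app j) Xj] ≫
          (ActBC.bcCompIso (c.π.app k) (D.map f) Xj (c.w f)).inv := by
  haveI : CompactSpace Xj.left := QuasiCompact.compactSpace_of_compactSpace Xj.hom
  haveI : QuasiSeparatedSpace Xj.left := quasiSeparatedSpace_of_quasiSeparated Xj.hom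
  haveI := compact_tensor Xj Xj
  haveI := qs_tensor Xj Xj
  haveI : CompactSpace (𝟙_ (Over (D.obj j))).left := ‹CompactSpace (D.obj j)›
  haveI : QuasiSeparatedSpace (𝟙_ (Over (D.obj j))).left := ‹QuasiSeparatedSpace (D.obj j)›
  have E1 := ev_descent D c hc j (Xj ⊗ Xj) Xj
    (Functor.OplaxMonoidal.δ (Over.pullback (c.π.app j)) Xj Xj ≫ μ[Red.bc (c.π.app j) Xj])
  have E2 := ev_descent D c hc j (𝟙_ _) Xj
    (Functor.OplaxMonoidal.η (Over.pullback (c.π.app j)) ≫ η[Red.bc (c.π.app j) Xj])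
  have E3 := ev_descent D c hc j Xj Xj ι[Red.bc (c.π.app j) Xj]
  obtain ⟨k, ⟨⟨w₁, h₁⟩, ⟨w₂, h₂⟩⟩, ⟨w₃, h₃⟩⟩ := ((E1.and E2).and E3).exists
  refine ⟨k.left, k.hom, Functor.LaxMonoidal.μ (Over.pullback (D.map k.hom)) Xj Xj ≫ w₁,
    Functor.LaxMonoidal.ε (Over.pullback (D.map k.hom)) ≫ w₂, w₃, ?_, ?_, h₃⟩
  · show Functor.LaxMonoidal.μ (Over.pullback (c.π.app k.left)) _ _ ≫
      (Over.pullback (c.π.app k.left)).map
        (Functor.LaxMonoidal.μ (Over.pullback (D.map k.hom)) Xj Xj ≫ w₁) = _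
    rw [Functor.map_comp, h₁]
    simp only [Category.assoc]
    rw [bcCompIso_μ_assoc, Functor.Monoidal.μ_δ_assoc]
  · show Functor.LaxMonoidal.ε (Over.pullback (c.π.app k.left)) ≫
      (Over.pullback (c.π.app k.left)).map
        (Functor.LaxMonoidal.ε (Over.pullback (D.map k.hom)) ≫ w₂) = _
    rw [Functor.map_comp, h₂]
    simp only [Category.assoc]
    rw [bcCompIso_ε_assoc, Functor.Monoidal.ε_η_assoc]

include hc in
theorem exists_ax (k : I) (Xk : Over (D.obj k)) [CompactSpace (D.obj k)]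
    [CompactSpace Xk.left] [QuasiCompact Xk.hom] [LocallyOfFiniteType Xk.hom]
    (m : Xk ⊗ Xk ⟶ Xk) (e : 𝟙_ (Over (D.obj k)) ⟶ Xk) (iv : Xk ⟶ Xk)
    [GrpObj (Red.bc (c.π.app k) Xk)]
    (hμ : μ[Red.bc (c.π.app k) Xk] = mulF (Over.pullback (c.π.app k)) m)
    (hη : η[Red.bc (c.π.app k) Xk] = oneF (Over.pullback (c.π.app k)) e)
    (hι : ι[Red.bc (c.π.app k) Xk] = (Over.pullback (c.π.app k)).map iv) :
    ∃ (k' : I) (g : k' ⟶ k), Ax (Over.pullback (D.map g)) m e iv := by
  obtain ⟨h1, h2, h3, h4, h5⟩ := ax_of_grpObj (Over.pullback (c.π.app k)) m e iv hμ hη hι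
  haveI : CompactSpace (𝟙_ (Over (D.obj k))).left := ‹CompactSpace (D.obj k)›
  haveI : QuasiCompact (𝟙_ (Over (D.obj k))).hom := by
    show QuasiCompact (𝟙 (D.obj k)); infer_instance
  haveI := compact_tensor (𝟙_ (Over (D.obj k))) Xk
  haveI := compact_tensor Xk (𝟙_ (Over (D.obj k)))
  haveI := compact_tensor Xk Xk
  haveI := compact_tensor (Xk ⊗ Xk) Xk
  have E := ((((ev_of_limit D c hc k _ _ h1).and (ev_of_limit D c hc k _ _ h2)).and
    (ev_of_limit D c hc k _ _ h3)).and (ev_of_limit D c hc k _ _ h4)).and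
    (ev_of_limit D c hc k _ _ h5)
  obtain ⟨k', ⟨⟨⟨e1, e2⟩, e3⟩, e4⟩, e5⟩ := E.exists
  exact ⟨k'.left, k'.hom, e1, e2, e3, e4, e5⟩

omit [IsCofiltered I] [∀ (i j : I) (a : i ⟶ j), IsAffineHom (D.map a)] in
theorem isMonHom_bcCompIso_of_ax {k' k : I} (g : k' ⟶ k) (Xk : Over (D.obj k))
    (m : Xk ⊗ Xk ⟶ Xk) (e : 𝟙_ (Over (D.obj k)) ⟶ Xk) (iv : Xk ⟶ Xk)
    [GrpObj (Red.bc (c.π.app k) Xk)]
    (hμ : μ[Red.bc (c.π.app k) Xk] = mulF (Over.pullback (c.π.app k)) m)
    (hax : Ax (Over.pullback (D.map g)) m e iv) :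
    letI := grpObjOfAx (Over.pullback (D.map g)) m e iv hax
    IsMonHom (ActBC.bcCompIso (c.π.app k') (D.map g) Xk (c.w g)).hom := by
  letI := grpObjOfAx (Over.pullback (D.map g)) m e iv hax
  apply isMonHom_of_mul_hom
  rw [Functor.obj.μ_def, hμ]
  show (Functor.LaxMonoidal.μ (Over.pullback (c.π.app k')) _ _ ≫
    (Over.pullback (c.π.app k')).map (Functor.LaxMonoidal.μ (Over.pullback (D.map g)) Xk Xk ≫
      (Over.pullback (D.map g)).map m)) ≫ _ = _
  rw [Functor.map_comp, Category.assoc, Category.assoc, ActBC.bcCompIso_hom_naturality,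
    bcCompIso_μ_assoc]

end geom

/-- Let S be the limit of a cofiltered system (S_i) of quasi-compact quasi-separated schemes with affine
transition morphisms, and let G be an S-group scheme of finite presentation over S. Then there are
an index j, an S_j-group scheme G_j of finite presentation over S_j and an isomorphism of S-group
schemes (an isomorphism over S which is a homomorphism) from G to G_j ×_{S_j} S. (The published
setting takes all S_i affine over a fixed quasi-compact quasi-separated S_0; this row allows any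
cofiltered system of quasi-compact quasi-separated schemes with affine transition morphisms.) -/
theorem result {I : Type u} [SmallCategory I] [IsCofiltered I]
    (D : I ⥤ Scheme.{u}) (c : Limits.Cone D) (hc : Limits.IsLimit c)
    [∀ (i i' : I) (f : i ⟶ i'), IsAffineHom (D.map f)] [∀ i, CompactSpace (D.obj i)] [∀ i, QuasiSeparatedSpace (D.obj i)]
    (G : Over c.pt) [GrpObj G] [LocallyOfFinitePresentation G.hom] [QuasiCompact G.hom] [QuasiSeparated G.hom] :
    ∃ (j : I) (Gj : Over (D.obj j)) (_ : GrpObj Gj) (e : G ≅ Red.bc (c.π.app j) Gj),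
      IsMonHom e.hom ∧ LocallyOfFinitePresentation Gj.hom ∧ QuasiCompact Gj.hom ∧ QuasiSeparated Gj.hom := by
  haveI inst : ∀ {i j : I} (f : i ⟶ j), IsAffineHom (D.map f) := fun f => inferInstance
  obtain ⟨j, Xi, fi, g, h1, h2, h3, pb⟩ := Groth.Agent.Lib.Helper26.LimFP.desc_of_fp hc G.hom
  let Xj : Over (D.obj j) := Over.mk fi
  haveI : LocallyOfFinitePresentation Xj.hom := h1
  haveI : QuasiCompact Xj.hom := h2
  haveI : QuasiSeparated Xj.hom := h3
  let φ : G ≅ Red.bc (c.π.app j) Xj := Over.isoMk pb.isoPullback (by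
    show pb.isoPullback.hom ≫ pullback.snd fi (c.π.app j) = G.hom
    exact pb.isoPullback_hom_snd)
  letI instY : GrpObj (Red.bc (c.π.app j) Xj) := GrpObj.ofIso φ
  haveI hφ : IsMonHom φ.hom := isMonHom_ofIso φ
  obtain ⟨k, f, m, e, iv, P1, P2, P3⟩ := exists_structure_maps D c hc j Xj
  haveI : LocallyOfFinitePresentation (Red.bc (D.map f) Xj).hom := by
    show LocallyOfFinitePresentation (pullback.snd Xj.hom (D.map f)); infer_instance
  haveI : QuasiCompact (Red.bc (D.map f) Xj).hom := by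
    show QuasiCompact (pullback.snd Xj.hom (D.map f)); infer_instance
  haveI : QuasiSeparated (Red.bc (D.map f) Xj).hom := by
    show QuasiSeparated (pullback.snd Xj.hom (D.map f)); infer_instance
  haveI : CompactSpace (Red.bc (D.map f) Xj).left :=
    QuasiCompact.compactSpace_of_compactSpace (Red.bc (D.map f) Xj).hom
  letI instZ : GrpObj (Red.bc (c.π.app k) (Red.bc (D.map f) Xj)) :=
    GrpObj.ofIso (ActBC.bcCompIso (c.π.app k) (D.map f) Xj (c.w f)).symm
  haveI hβ : IsMonHom (ActBC.bcCompIso (c.π.app k) (D.map f) Xj (c.w f)).symm.hom :=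
    isMonHom_ofIso (ActBC.bcCompIso (c.π.app k) (D.map f) Xj (c.w f)).symm
  have hμ : μ[Red.bc (c.π.app k) (Red.bc (D.map f) Xj)] =
      mulF (Over.pullback (c.π.app k)) m := P1.symm
  have hη : η[Red.bc (c.π.app k) (Red.bc (D.map f) Xj)] =
      oneF (Over.pullback (c.π.app k)) e := P2.symm
  have hι : ι[Red.bc (c.π.app k) (Red.bc (D.map f) Xj)] =
      (Over.pullback (c.π.app k)).map iv := P3.symm
  obtain ⟨k', g', hax⟩ := exists_ax D c hc k (Red.bc (D.map f) Xj) m e iv hμ hη hι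
  letI inst' : GrpObj (Red.bc (D.map g') (Red.bc (D.map f) Xj)) :=
    grpObjOfAx (Over.pullback (D.map g')) m e iv hax
  haveI hβ' : IsMonHom (ActBC.bcCompIso (c.π.app k') (D.map g') (Red.bc (D.map f) Xj)
      (c.w g')).hom := isMonHom_bcCompIso_of_ax D c g' (Red.bc (D.map f) Xj) m e iv hμ hax
  refine ⟨k', Red.bc (D.map g') (Red.bc (D.map f) Xj), inst',
    φ ≪≫ (ActBC.bcCompIso (c.π.app k) (D.map f) Xj (c.w f)).symm ≪≫
      (ActBC.bcCompIso (c.π.app k') (D.map g') (Red.bc (D.map f) Xj) (c.w g')).symm,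
    ?_, ?_, ?_, ?_⟩
  · show IsMonHom (φ.hom ≫ (ActBC.bcCompIso (c.π.app k) (D.map f) Xj (c.w f)).symm.hom ≫
      (ActBC.bcCompIso (c.π.app k') (D.map g') (Red.bc (D.map f) Xj) (c.w g')).inv)
    infer_instance
  · show LocallyOfFinitePresentation (pullback.snd (Red.bc (D.map f) Xj).hom (D.map g'))
    infer_instance
  · show QuasiCompact (pullback.snd (Red.bc (D.map f) Xj).hom (D.map g'))
    infer_instance
  · show QuasiSeparated (pullback.snd (Red.bc (D.map f) Xj).hom (D.map g'))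
    infer_instance

end Groth.Agent.S6085
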