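import Groth.Statements.S6092
-- import your own Groth.Agent.* helpers here
import Mathlib
import Groth.Agent.S6085
import Groth.Agent.Lib.Helper26LimCover2
import Groth.Agent.S9207

set_option autoImplicit false
universe u
open CategoryTheory CategoryTheory.Limits MonoidalCategory CartesianMonoidalCategory MonObj GrpObj AlgebraicGeometry
open SGA3

namespace Groth.Agent.S6092

set_option linter.style.haveILetI false

open Groth.Agent.S6086 Groth.Agent.S6088 Groth.Agent.S6085
open Groth.Agent.Lib.Helper22.LimBC Groth.Agent.Lib.Helper26.LimCover Groth.Agent.Lib.Helper2.LimLoc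
  Groth.Agent.Lib.Helper26.LimFP

section theta

variable {S₀ T' : Scheme.{u}} (t : T' ⟶ S₀) {G₀ X₀ : Over S₀} (a : G₀ ⊗ X₀ ⟶ X₀)

lemma theta_eq :
    lift (Functor.LaxMonoidal.μ (Over.pullback t) G₀ X₀ ≫ (Over.pullback t).map a)
        (snd (Red.bc t G₀) (Red.bc t X₀)) =
      Functor.LaxMonoidal.μ (Over.pullback t) G₀ X₀ ≫
        (Over.pullback t).map (lift a (snd G₀ X₀)) ≫
          Functor.OplaxMonoidal.δ (Over.pullback t) X₀ X₀ := by
  apply CartesianMonoidalCategory.hom_ext
  · rw [lift_fst, Category.assoc, Category.assoc, Functor.OplaxMonoidal.δ_fst,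
      ← Functor.map_comp, lift_fst]
  · rw [lift_snd, Category.assoc, Category.assoc, Functor.OplaxMonoidal.δ_snd,
      ← Functor.map_comp, lift_snd, Functor.Monoidal.μ_snd]

lemma isIso_theta_iff :
    IsIso (lift (Functor.LaxMonoidal.μ (Over.pullback t) G₀ X₀ ≫ (Over.pullback t).map a)
        (snd (Red.bc t G₀) (Red.bc t X₀))) ↔
      IsIso ((Over.pullback t).map (lift a (snd G₀ X₀))) := by
  rw [theta_eq, isIso_comp_left_iff, isIso_comp_right_iff]

end theta

section isoat

variable {S₀ : Scheme.{u}} {A B : Over S₀} (θ : A ⟶ B)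

lemma isIso_of_comp {T' T'' : Scheme.{u}} (s : T'' ⟶ T') (t : T' ⟶ S₀) {d : T'' ⟶ S₀}
    (h : s ≫ t = d) (hi : IsIso ((Over.pullback s).map ((Over.pullback t).map θ))) :
    IsIso ((Over.pullback d).map θ) := by
  have nat := ActBC.bcCompIso_hom_naturality s t h θ
  have e : (Over.pullback d).map θ = (ActBC.bcCompIso s t A h).inv ≫
      (Over.pullback s).map ((Over.pullback t).map θ) ≫ (ActBC.bcCompIso s t B h).hom := by
    rw [nat, Iso.inv_hom_id_assoc]
  rw [e]
  infer_instance

lemma isIso_comp_base {T' T'' : Scheme.{u}} (s : T'' ⟶ T') (t : T' ⟶ S₀) {d : T'' ⟶ S₀}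
    (h : s ≫ t = d) (hi : IsIso ((Over.pullback t).map θ)) :
    IsIso ((Over.pullback d).map θ) :=
  isIso_of_comp θ s t h inferInstance

end isoat

section cover

variable {S₀ : Scheme.{u}} (X₀ : Over S₀)

/-- the structure morphism of the base change of `X₀` along `t` is an fppf covering. -/
def CoverAt {T' : Scheme.{u}} (t : T' ⟶ S₀) : Prop :=
  ∃ (Z : Scheme.{u}) (v : Z ⟶ T') (w : Z ⟶ (Red.bc t X₀).left), w ≫ (Red.bc t X₀).hom = v ∧
    Flat v ∧ Surjective v ∧ LocallyOfFinitePresentation v ∧ QuasiCompact v ∧ QuasiSeparated v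

variable {X₀}

lemma CoverAt.comp {T' T'' : Scheme.{u}} {t : T' ⟶ S₀} (h : CoverAt X₀ t) (s : T'' ⟶ T') :
    CoverAt X₀ (s ≫ t) := by
  obtain ⟨Z, v, w, hw, h1, h2, h3, h4, h5⟩ := h
  have hw' : w ≫ pullback.snd X₀.hom t = v := hw
  refine ⟨pullback v s, pullback.snd v s,
    pullback.lift (pullback.fst v s ≫ w ≫ pullback.fst X₀.hom t) (pullback.snd v s) ?_,
    pullback.lift_snd _ _ _, inferInstance, inferInstance, inferInstance, inferInstance,
    inferInstance⟩
  rw [Category.assoc, Category.assoc, pullback.condition, reassoc_of% hw',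
    pullback.condition_assoc]

lemma CoverAt.of_eq {T' : Scheme.{u}} {t t' : T' ⟶ S₀} (h : CoverAt X₀ t) (e : t = t') :
    CoverAt X₀ t' := e ▸ h

end cover

section descent

variable {I : Type u} [SmallCategory I] [IsCofiltered I] (D : I ⥤ Scheme.{u}) (c : Cone D)
  (hc : IsLimit c) [∀ (i j : I) (a : i ⟶ j), IsAffineHom (D.map a)]

include hc in
theorem isIso_exists_stage [∀ i, CompactSpace (D.obj i)] (j : I) (A B : Over (D.obj j))
    [CompactSpace A.left]
    [LocallyOfFinitePresentation A.hom] [QuasiCompact A.hom]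
    [CompactSpace B.left] [QuasiSeparatedSpace B.left] [LocallyOfFiniteType B.hom]
    [QuasiCompact B.hom]
    (θ : A ⟶ B) (h : IsIso ((Over.pullback (c.π.app j)).map θ)) :
    ∃ k : Over j, IsIso ((Over.pullback (D.map k.hom)).map θ) := by
  haveI := h
  obtain ⟨k, w, hw⟩ :=
    (ev_descent D c hc j B A (inv ((Over.pullback (c.π.app j)).map θ))).exists
  have nat := ActBC.bcCompIso_hom_naturality (c.π.app k.left) (D.map k.hom) (c.w k.hom) θ
  have e1 : (Over.pullback (c.π.app k.left)).map ((Over.pullback (D.map k.hom)).map θ ≫ w) =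
      (Over.pullback (c.π.app k.left)).map (𝟙 _) := by
    rw [Functor.map_comp, hw, reassoc_of% nat, IsIso.hom_inv_id_assoc, Iso.hom_inv_id,
      CategoryTheory.Functor.map_id]
  have nat' : (ActBC.bcCompIso (c.π.app k.left) (D.map k.hom) A (c.w k.hom)).inv ≫
      (Over.pullback (c.π.app k.left)).map ((Over.pullback (D.map k.hom)).map θ) =
      (Over.pullback (c.π.app j)).map θ ≫
        (ActBC.bcCompIso (c.π.app k.left) (D.map k.hom) B (c.w k.hom)).inv := by
    rw [Iso.eq_comp_inv, Category.assoc, nat, Iso.inv_hom_id_assoc]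
  have e2 : (Over.pullback (c.π.app k.left)).map (w ≫ (Over.pullback (D.map k.hom)).map θ) =
      (Over.pullback (c.π.app k.left)).map (𝟙 _) := by
    rw [Functor.map_comp, hw, Category.assoc, Category.assoc, nat', IsIso.inv_hom_id_assoc,
      Iso.hom_inv_id, CategoryTheory.Functor.map_id]
  haveI : QuasiCompact (Red.bc (D.map k.hom) A).hom := by
    show QuasiCompact (pullback.snd A.hom (D.map k.hom)); infer_instance
  haveI : CompactSpace (Red.bc (D.map k.hom) A).left :=
    QuasiCompact.compactSpace_of_compactSpace (Red.bc (D.map k.hom) A).hom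
  haveI : LocallyOfFiniteType (Red.bc (D.map k.hom) A).hom := by
    show LocallyOfFiniteType (pullback.snd A.hom (D.map k.hom)); infer_instance
  haveI : QuasiCompact (Red.bc (D.map k.hom) B).hom := by
    show QuasiCompact (pullback.snd B.hom (D.map k.hom)); infer_instance
  haveI : CompactSpace (Red.bc (D.map k.hom) B).left :=
    QuasiCompact.compactSpace_of_compactSpace (Red.bc (D.map k.hom) B).hom
  haveI : LocallyOfFiniteType (Red.bc (D.map k.hom) B).hom := by
    show LocallyOfFiniteType (pullback.snd B.hom (D.map k.hom)); infer_instance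
  obtain ⟨k', e1', e2'⟩ :=
    ((ev_of_limit D c hc k.left _ _ e1).and (ev_of_limit D c hc k.left _ _ e2)).exists
  have hiso : IsIso ((Over.pullback (D.map k'.hom)).map ((Over.pullback (D.map k.hom)).map θ)) :=
    ⟨⟨(Over.pullback (D.map k'.hom)).map w, by rw [← Functor.map_comp, e1', CategoryTheory.Functor.map_id],
      by rw [← Functor.map_comp, e2', CategoryTheory.Functor.map_id]⟩⟩
  exact ⟨Over.mk (k'.hom ≫ k.hom),
    isIso_of_comp θ (D.map k'.hom) (D.map k.hom) (D.map_comp _ _).symm hiso⟩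

include hc in
theorem CoverAt.exists_stage [∀ i, CompactSpace (D.obj i)] [∀ i, QuasiSeparatedSpace (D.obj i)]
    (j : I) (Xj : Over (D.obj j)) [LocallyOfFinitePresentation Xj.hom]
    (h : CoverAt Xj (c.π.app j)) : ∃ k : Over j, CoverAt Xj (D.map k.hom) := by
  obtain ⟨Z, v, w, hw, h1, h2, h3, h4, h5⟩ := h
  have inst : ∀ {i j : I} (f : i ⟶ j), IsAffineHom (D.map f) := fun f => inferInstance
  have hw' : w ≫ pullback.snd Xj.hom (c.π.app j) = v := hw
  -- a flat model
  obtain ⟨i₁, hm₁⟩ := modelDescent_of_qcqsDescent qcqsDescent_flat D c hc v h1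
  obtain ⟨V, v₂, g, m1, m2, m3, m4, pb⟩ := hm₁.move (IsCofiltered.minToLeft i₁ j)
  haveI : CompactSpace V := QuasiCompact.compactSpace_of_compactSpace v₂
  haveI : QuasiSeparatedSpace V := quasiSeparatedSpace_of_quasiSeparated v₂
  -- the section
  let t' : bcDiagram D (IsCofiltered.min i₁ j) v₂ ⟶ (Functor.const _).obj (D.obj j) :=
    { app := fun k => dSnd D _ v₂ k ≫ D.map (k.hom ≫ IsCofiltered.minToRight i₁ j)
      naturality := fun k l f => by
        show (bcDiagram D _ v₂).map f ≫ dSnd D _ v₂ l ≫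
          D.map (l.hom ≫ IsCofiltered.minToRight i₁ j) =
          (dSnd D _ v₂ k ≫ D.map (k.hom ≫ IsCofiltered.minToRight i₁ j)) ≫ 𝟙 _
        rw [map_dSnd_assoc, Category.comp_id, ← D.map_comp, ← Category.assoc, Over.w f] }
  let a : (bcCone _ pb).pt ⟶ Xj.left := w ≫ pullback.fst Xj.hom (c.π.app j)
  have ha : (bcCone _ pb).π ≫ t' = (Functor.const _).map (a ≫ Xj.hom) := by
    ext k
    change bcπ _ pb k ≫ dSnd D _ v₂ k ≫ D.map (k.hom ≫ IsCofiltered.minToRight i₁ j) =
      (w ≫ pullback.fst Xj.hom (c.π.app j)) ≫ Xj.hom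
    rw [bcπ_snd_assoc, c.w, Category.assoc, pullback.condition, reassoc_of% hw']
  obtain ⟨k, gk, -, hg2⟩ := Scheme.exists_π_app_comp_eq_of_locallyOfFinitePresentation
    (bcDiagram D _ v₂) t' Xj.hom (bcCone _ pb) (isLimitBcCone _ pb hc) a ha
  replace hg2 : gk ≫ Xj.hom = dSnd D _ v₂ k ≫ D.map (k.hom ≫ IsCofiltered.minToRight i₁ j) := hg2
  -- the model at the stage `k`
  have pb' := isPullback_bcπ _ pb k
  have n1 : LocallyOfFinitePresentation (dSnd D _ v₂ k) :=
    MorphismProperty.of_isPullback (isPullback_d D _ v₂ k) m1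
  have n2 : QuasiCompact (dSnd D _ v₂ k) :=
    MorphismProperty.of_isPullback (isPullback_d D _ v₂ k) m2
  have n3 : QuasiSeparated (dSnd D _ v₂ k) :=
    MorphismProperty.of_isPullback (isPullback_d D _ v₂ k) m3
  have n4 : Flat (dSnd D _ v₂ k) :=
    MorphismProperty.of_isPullback (isPullback_d D _ v₂ k) m4
  -- surjectivity at a later stage
  have hvopen : IsOpen (Set.range (dSnd D _ v₂ k).base) := (dSnd D _ v₂ k).isOpenMap.isOpen_range
  have hZ : IsClosed (Set.range (dSnd D _ v₂ k).base)ᶜ := hvopen.isClosed_compl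
  obtain ⟨T, τ, hτ1, hτ2⟩ : ∃ (T : Scheme.{u}) (τ : T ⟶ D.obj k.left), IsClosedImmersion τ ∧
      Set.range τ.base = (Set.range (dSnd D _ v₂ k).base)ᶜ :=
    ⟨_, (Scheme.IdealSheafData.vanishingIdeal ⟨_, hZ⟩).subschemeι, inferInstance, by
      rw [Scheme.IdealSheafData.range_subschemeι,
        Scheme.IdealSheafData.coe_support_vanishingIdeal]; rfl⟩
  have hTc : CompactSpace T := QuasiCompact.compactSpace_of_compactSpace τ
  have hempty : IsEmpty ↥(pullback τ (c.π.app k.left)) := by
    rw [Scheme.isEmpty_pullback_iff, Set.disjoint_left]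
    rintro _ hz ⟨x, rfl⟩
    obtain ⟨y, hy⟩ := h2.surj x
    have hz' : (c.π.app k.left).base x ∈ (Set.range (dSnd D _ v₂ k).base)ᶜ := hτ2 ▸ hz
    apply hz'
    refine ⟨(bcπ _ pb k).base y, ?_⟩
    rw [← hy]
    exact congr($(pb'.w).base y)
  obtain ⟨k', ψ, hk'⟩ := Groth.Agent.S9207.result D c hc k.left τ hempty
  rw [Scheme.isEmpty_pullback_iff, Set.disjoint_left] at hk'
  have p1 : LocallyOfFinitePresentation (dSnd D k.left (dSnd D _ v₂ k) (Over.mk ψ)) :=
    MorphismProperty.of_isPullback (isPullback_d D k.left (dSnd D _ v₂ k) (Over.mk ψ)) n1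
  have p2 : QuasiCompact (dSnd D k.left (dSnd D _ v₂ k) (Over.mk ψ)) :=
    MorphismProperty.of_isPullback (isPullback_d D k.left (dSnd D _ v₂ k) (Over.mk ψ)) n2
  have p3 : QuasiSeparated (dSnd D k.left (dSnd D _ v₂ k) (Over.mk ψ)) :=
    MorphismProperty.of_isPullback (isPullback_d D k.left (dSnd D _ v₂ k) (Over.mk ψ)) n3
  have p4 : Flat (dSnd D k.left (dSnd D _ v₂ k) (Over.mk ψ)) :=
    MorphismProperty.of_isPullback (isPullback_d D k.left (dSnd D _ v₂ k) (Over.mk ψ)) n4
  have p5 : Surjective (dSnd D k.left (dSnd D _ v₂ k) (Over.mk ψ)) := by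
    refine ⟨fun x => ?_⟩
    have hx : (D.map ψ).base x ∈ Set.range (dSnd D _ v₂ k).base := by
      by_contra hcon
      exact hk' (hτ2 ▸ hcon : (D.map ψ).base x ∈ Set.range τ.base) ⟨x, rfl⟩
    have hr := range_of_isPullback (isPullback_d D k.left (dSnd D _ v₂ k) (Over.mk ψ))
    have hx' : x ∈ Set.range (dSnd D k.left (dSnd D _ v₂ k) (Over.mk ψ)).base := by
      rw [hr]; exact hx
    exact hx'
  have hcond : (dFst D k.left (dSnd D _ v₂ k) (Over.mk ψ) ≫ gk) ≫ Xj.hom =
      dSnd D k.left (dSnd D _ v₂ k) (Over.mk ψ) ≫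
        D.map (ψ ≫ k.hom ≫ IsCofiltered.minToRight i₁ j) := by
    rw [Category.assoc, hg2,
      reassoc_of% (d_condition D k.left (dSnd D _ v₂ k) (Over.mk ψ)), ← D.map_comp]
    rfl
  exact ⟨Over.mk (ψ ≫ k.hom ≫ IsCofiltered.minToRight i₁ j), _,
    dSnd D k.left (dSnd D _ v₂ k) (Over.mk ψ),
    pullback.lift (dFst D k.left (dSnd D _ v₂ k) (Over.mk ψ) ≫ gk)
      (dSnd D k.left (dSnd D _ v₂ k) (Over.mk ψ)) hcond,
    pullback.lift_snd _ _ _, p4, p5, p1, p2, p3⟩

omit [IsCofiltered I] [∀ (i j : I) (a : i ⟶ j), IsAffineHom (D.map a)] in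
lemma CoverAt.of_over_hom {i₀ : I} {X₀ : Over (D.obj i₀)} {j k : Over i₀} (u : k ⟶ j)
    (h : CoverAt X₀ (D.map j.hom)) : CoverAt X₀ (D.map k.hom) :=
  (h.comp (D.map u.left)).of_eq (by rw [← D.map_comp, Over.w u])

end descent

/-- Let S be the limit of a cofiltered system (S_i) of quasi-compact quasi-separated schemes with affine
transition morphisms, j an index, G_j an S_j-group scheme and X_j an S_j-scheme with an action of
G_j, both of finite presentation over S_j. For a base change G, X (with the base-changed action) say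
that X is a G-torsor for the fppf topology when (g, x) ↦ (g · x, x) is an isomorphism G × X → X × X
and the structure morphism of X is covering for the fppf topology: some faithfully flat morphism of
finite presentation Z → (base) factors through X. Then X_j ×_{S_j} S is a torsor under G_j ×_{S_j} S
if and only if there is an index i over j such that X_j ×_{S_j} S_i is a torsor under G_j ×_{S_j}
S_i. (The published statement also treats homogeneous spaces, where (g, x) ↦ (g · x, x) is only
required to be an fppf covering; that case is not stated. The published setting takes all S_i affine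
over a fixed quasi-compact quasi-separated S_0.) -/
theorem result {I : Type u} [SmallCategory I] [IsCofiltered I]
    (D : I ⥤ Scheme.{u}) (c : Limits.Cone D) (hc : Limits.IsLimit c)
    [∀ (i i' : I) (f : i ⟶ i'), IsAffineHom (D.map f)] [∀ i, CompactSpace (D.obj i)] [∀ i, QuasiSeparatedSpace (D.obj i)]
    (j : I) (Gj Xj : Over (D.obj j)) [GrpObj Gj] (act : AlgGrp.Action Gj Xj)
    [LocallyOfFinitePresentation Gj.hom] [QuasiCompact Gj.hom] [QuasiSeparated Gj.hom]
    [LocallyOfFinitePresentation Xj.hom] [QuasiCompact Xj.hom] [QuasiSeparated Xj.hom] :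
    (IsIso (lift (Functor.LaxMonoidal.μ (Over.pullback (c.π.app j)) Gj Xj ≫ (Over.pullback (c.π.app j)).map act.act) (snd (Red.bc (c.π.app j) Gj) (Red.bc (c.π.app j) Xj))) ∧
        ∃ (Z : Scheme.{u}) (v : Z ⟶ c.pt) (w : Z ⟶ (Red.bc (c.π.app j) Xj).left), w ≫ (Red.bc (c.π.app j) Xj).hom = v ∧
          Flat v ∧ Surjective v ∧ LocallyOfFinitePresentation v ∧ QuasiCompact v ∧ QuasiSeparated v) ↔
    ∃ (i : I) (f : i ⟶ j), (IsIso (lift (Functor.LaxMonoidal.μ (Over.pullback (D.map f)) Gj Xj ≫ (Over.pullback (D.map f)).map act.act) (snd (Red.bc (D.map f) Gj) (Red.bc (D.map f) Xj))) ∧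
        ∃ (Z : Scheme.{u}) (v : Z ⟶ (D.obj i)) (w : Z ⟶ (Red.bc (D.map f) Xj).left), w ≫ (Red.bc (D.map f) Xj).hom = v ∧
          Flat v ∧ Surjective v ∧ LocallyOfFinitePresentation v ∧ QuasiCompact v ∧ QuasiSeparated v) := by
  haveI : CompactSpace Gj.left := QuasiCompact.compactSpace_of_compactSpace Gj.hom
  haveI : QuasiSeparatedSpace Gj.left := quasiSeparatedSpace_of_quasiSeparated Gj.hom
  haveI : CompactSpace Xj.left := QuasiCompact.compactSpace_of_compactSpace Xj.hom
  haveI : QuasiSeparatedSpace Xj.left := quasiSeparatedSpace_of_quasiSeparated Xj.hom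
  haveI : CompactSpace (Gj ⊗ Xj).left := compact_tensor Gj Xj
  haveI : CompactSpace (Xj ⊗ Xj).left := compact_tensor Xj Xj
  haveI : QuasiSeparatedSpace (Xj ⊗ Xj).left := qs_tensor Xj Xj
  haveI : LocallyOfFinitePresentation (Gj ⊗ Xj).hom := by
    show LocallyOfFinitePresentation (pullback.fst Gj.hom Xj.hom ≫ Gj.hom)
    infer_instance
  haveI : QuasiCompact (Gj ⊗ Xj).hom := by
    show QuasiCompact (pullback.fst Gj.hom Xj.hom ≫ Gj.hom)
    infer_instance
  haveI : LocallyOfFiniteType (Xj ⊗ Xj).hom := by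
    show LocallyOfFiniteType (pullback.fst Xj.hom Xj.hom ≫ Xj.hom)
    infer_instance
  haveI : QuasiCompact (Xj ⊗ Xj).hom := by
    show QuasiCompact (pullback.fst Xj.hom Xj.hom ≫ Xj.hom)
    infer_instance
  constructor
  · rintro ⟨hiso, hcov⟩
    obtain ⟨k1, h1⟩ := isIso_exists_stage D c hc j _ _ (lift act.act (snd Gj Xj))
      ((isIso_theta_iff (c.π.app j) act.act).mp hiso)
    obtain ⟨k2, h2⟩ := CoverAt.exists_stage D c hc j Xj hcov
    have h1' : IsIso ((Over.pullback (D.map (IsCofiltered.min k1 k2).hom)).map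
        (lift act.act (snd Gj Xj))) :=
      isIso_comp_base _ (D.map (IsCofiltered.minToLeft k1 k2).left) (D.map k1.hom)
        (by rw [← D.map_comp, Over.w]) h1
    have h2' := CoverAt.of_over_hom D (IsCofiltered.minToRight k1 k2) h2
    exact ⟨(IsCofiltered.min k1 k2).left, (IsCofiltered.min k1 k2).hom,
      (isIso_theta_iff _ act.act).mpr h1', h2'⟩
  · rintro ⟨i, f, hiso, hcov⟩
    refine ⟨(isIso_theta_iff _ act.act).mpr
      (isIso_comp_base _ (c.π.app i) (D.map f) (c.w f)
        ((isIso_theta_iff _ act.act).mp hiso)), ?_⟩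
    have hc' : CoverAt Xj (D.map f) := hcov
    exact (hc'.comp (c.π.app i)).of_eq (c.w f)

end Groth.Agent.S6092
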