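import Groth.Statements.S6091
-- import your own Groth.Agent.* helpers here
import Mathlib
import Groth.Agent.S6092
import Groth.Agent.S8218
import Groth.Agent.S0114

set_option autoImplicit false
universe u
open CategoryTheory CategoryTheory.Limits MonoidalCategory CartesianMonoidalCategory MonObj GrpObj AlgebraicGeometry
open SGA3

namespace Groth.Agent.S6091

set_option linter.style.haveILetI false

open Groth.Agent.S6086 Groth.Agent.S6088 Groth.Agent.S6085 Groth.Agent.S6092
open Groth.Agent.Lib.Helper22.LimBC Groth.Agent.Lib.Helper26.LimCover Groth.Agent.Lib.Helper2.LimLoc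
  Groth.Agent.Lib.Helper26.LimFP Groth.Agent.Lib.Helper26.LimDescend

section general

lemma isPullback_of_comp_mono {C : Type*} [Category C] {P X Y Z Z' : C} {fst : P ⟶ X}
    {snd : P ⟶ Y} {f : X ⟶ Z} {g : Y ⟶ Z} {f' : X ⟶ Z'} {g' : Y ⟶ Z'} (i : Z' ⟶ Z) [Mono i]
    (hf : f' ≫ i = f) (hg : g' ≫ i = g) (h : IsPullback fst snd f g) :
    IsPullback fst snd f' g' := by
  have w : fst ≫ f' = snd ≫ g' := by
    rw [← cancel_mono i, Category.assoc, Category.assoc, hf, hg, h.w]
  refine ⟨⟨w⟩, ⟨PullbackCone.IsLimit.mk w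
    (fun s => h.lift s.fst s.snd (by
      rw [← hf, ← hg, ← Category.assoc, s.condition, Category.assoc]))
    (fun s => h.lift_fst _ _ _) (fun s => h.lift_snd _ _ _)
    (fun s m h1 h2 => h.hom_ext (by rw [h1, h.lift_fst]) (by rw [h2, h.lift_snd]))⟩⟩

/-- the target of an open surjective morphism whose kernel pair is quasi-compact and
quasi-separated is quasi-separated. -/
lemma quasiSeparatedSpace_of_isPullback {P X Y : Scheme.{u}} {s t : P ⟶ X} {p : X ⟶ Y}
    (h : IsPullback s t p p) (hsurj : Function.Surjective p) (hopen : IsOpenMap p)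
    [QuasiSeparatedSpace P] [QuasiCompact s] [QuasiCompact t] : QuasiSeparatedSpace Y := by
  have key : ∀ U : Set Y, IsOpen U → IsCompact U →
      ∃ V : Set X, IsOpen V ∧ IsCompact V ∧ p '' V = U := by
    intro U hU hUc
    let B := {W : X.Opens // IsAffineOpen W ∧ (W : Set X) ⊆ p ⁻¹' U}
    obtain ⟨T, hT⟩ := hUc.elim_finite_subcover (fun W : B => p '' (W.1 : Set X))
      (fun W => hopen _ W.1.isOpen) (by
        intro y hy
        obtain ⟨x, rfl⟩ := hsurj y
        obtain ⟨_, ⟨W, hW, rfl⟩, hxW, hWU⟩ :=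
          X.isBasis_affineOpens.exists_subset_of_mem_open (show x ∈ p ⁻¹' U from hy)
            (hU.preimage p.continuous)
        exact Set.mem_iUnion.mpr ⟨⟨W, hW, hWU⟩, x, hxW, rfl⟩)
    refine ⟨⋃ W ∈ T, (W.1 : Set X), isOpen_biUnion (fun W _ => W.1.isOpen),
      T.isCompact_biUnion (fun W _ => W.2.1.isCompact), ?_⟩
    apply Set.Subset.antisymm
    · rintro _ ⟨x, hx, rfl⟩
      obtain ⟨W, hW, hxW⟩ := Set.mem_iUnion₂.mp hx
      exact W.2.2 hxW
    · intro y hy
      obtain ⟨W, hW, x, hxW, rfl⟩ := Set.mem_iUnion₂.mp (hT hy)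
      exact ⟨x, Set.mem_iUnion₂.mpr ⟨W, hW, hxW⟩, rfl⟩
  refine ⟨fun U₁ U₂ hU₁ hU₁c hU₂ hU₂c => ?_⟩
  obtain ⟨V₁, hV₁, hV₁c, rfl⟩ := key U₁ hU₁ hU₁c
  obtain ⟨V₂, hV₂, hV₂c, rfl⟩ := key U₂ hU₂ hU₂c
  have hc : IsCompact (s ⁻¹' V₁ ∩ t ⁻¹' V₂) :=
    QuasiSeparatedSpace.inter_isCompact _ _ (hV₁.preimage s.continuous)
      (QuasiCompact.isCompact_preimage (f := s) _ hV₁ hV₁c) (hV₂.preimage t.continuous)
      (QuasiCompact.isCompact_preimage (f := t) _ hV₂ hV₂c)
  have heq : p '' V₁ ∩ p '' V₂ = (s ≫ p) '' (s ⁻¹' V₁ ∩ t ⁻¹' V₂) := by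
    ext y
    constructor
    · rintro ⟨⟨x₁, hx₁, rfl⟩, ⟨x₂, hx₂, hx⟩⟩
      obtain ⟨z, hz1, hz2⟩ := Scheme.Pullback.exists_preimage_pullback x₁ x₂ hx.symm
      refine ⟨h.isoPullback.inv z, ⟨?_, ?_⟩, ?_⟩
      · show s (h.isoPullback.inv z) ∈ V₁
        rw [← Scheme.Hom.comp_apply, h.isoPullback_inv_fst, hz1]
        exact hx₁
      · show t (h.isoPullback.inv z) ∈ V₂
        rw [← Scheme.Hom.comp_apply, h.isoPullback_inv_snd, hz2]
        exact hx₂
      · rw [Scheme.Hom.comp_apply, ← Scheme.Hom.comp_apply _ s, h.isoPullback_inv_fst, hz1]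
    · rintro ⟨r, ⟨hr1, hr2⟩, rfl⟩
      refine ⟨⟨s r, hr1, (Scheme.Hom.comp_apply _ _ _).symm⟩, ⟨t r, hr2, ?_⟩⟩
      rw [← Scheme.Hom.comp_apply, ← h.w]
  rw [heq]
  exact hc.image (s ≫ p).continuous

end general

section bc

variable {S S' S'' : Scheme.{u}}

instance bc_lfp (g : S' ⟶ S) (X : Over S) [LocallyOfFinitePresentation X.hom] :
    LocallyOfFinitePresentation (Red.bc g X).hom := by
  show LocallyOfFinitePresentation (pullback.snd X.hom g); infer_instance

instance bc_lft (g : S' ⟶ S) (X : Over S) [LocallyOfFiniteType X.hom] :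
    LocallyOfFiniteType (Red.bc g X).hom := by
  show LocallyOfFiniteType (pullback.snd X.hom g); infer_instance

instance bc_qc (g : S' ⟶ S) (X : Over S) [QuasiCompact X.hom] :
    QuasiCompact (Red.bc g X).hom := by
  show QuasiCompact (pullback.snd X.hom g); infer_instance

instance bc_qs (g : S' ⟶ S) (X : Over S) [QuasiSeparated X.hom] :
    QuasiSeparated (Red.bc g X).hom := by
  show QuasiSeparated (pullback.snd X.hom g); infer_instance

lemma compact_left [CompactSpace S] (X : Over S) [QuasiCompact X.hom] : CompactSpace X.left :=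
  QuasiCompact.compactSpace_of_compactSpace X.hom

lemma qs_left [QuasiSeparatedSpace S] (X : Over S) [QuasiSeparated X.hom] :
    QuasiSeparatedSpace X.left :=
  quasiSeparatedSpace_of_quasiSeparated X.hom

variable (f : S'' ⟶ S') (g : S' ⟶ S) {d : S'' ⟶ S} {X Y : Over S}

lemma bcCompIso_inv_naturality (h : f ≫ g = d) (φ : X ⟶ Y) :
    (Over.pullback d).map φ ≫ (ActBC.bcCompIso f g Y h).inv =
      (ActBC.bcCompIso f g X h).inv ≫ (Over.pullback f).map ((Over.pullback g).map φ) := by
  rw [Iso.comp_inv_eq, Category.assoc, ActBC.bcCompIso_hom_naturality, Iso.inv_hom_id_assoc]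

lemma map_map_eq (h : f ≫ g = d) (φ : X ⟶ Y) :
    (Over.pullback f).map ((Over.pullback g).map φ) =
      (ActBC.bcCompIso f g X h).hom ≫ (Over.pullback d).map φ ≫
        (ActBC.bcCompIso f g Y h).inv := by
  rw [← Category.assoc, Iso.eq_comp_inv, ActBC.bcCompIso_hom_naturality]

lemma map_eq_conj (h : f ≫ g = d) (φ : X ⟶ Y) :
    (Over.pullback d).map φ = (ActBC.bcCompIso f g X h).inv ≫
      (Over.pullback f).map ((Over.pullback g).map φ) ≫ (ActBC.bcCompIso f g Y h).hom := by
  rw [ActBC.bcCompIso_hom_naturality, Iso.inv_hom_id_assoc]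

lemma isIso_left {A B : Over S} (e : A ≅ B) : IsIso e.hom.left :=
  (Over.forget S).map_isIso e.hom

lemma isIso_left' {A B : Over S} (e : A ≅ B) : IsIso e.inv.left :=
  (Over.forget S).map_isIso e.inv

/-- flatness of a base-changed morphism. -/
lemma flat_map_left (g : S' ⟶ S) (φ : X ⟶ Y) [Flat φ.left] :
    Flat ((Over.pullback g).map φ).left :=
  MorphismProperty.of_isPullback (P := @Flat)
    (Groth.Agent.S8218.isPullback_overPullback_map g φ).flip inferInstance

lemma surjective_map_left (g : S' ⟶ S) (φ : X ⟶ Y) [Surjective φ.left] :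
    Surjective ((Over.pullback g).map φ).left :=
  MorphismProperty.of_isPullback (P := @Surjective)
    (Groth.Agent.S8218.isPullback_overPullback_map g φ).flip inferInstance

lemma lfp_map_left (g : S' ⟶ S) (φ : X ⟶ Y) [LocallyOfFinitePresentation φ.left] :
    LocallyOfFinitePresentation ((Over.pullback g).map φ).left :=
  MorphismProperty.of_isPullback (P := @LocallyOfFinitePresentation)
    (Groth.Agent.S8218.isPullback_overPullback_map g φ).flip inferInstance

lemma flat_of_comp_base (h : f ≫ g = d) (φ : X ⟶ Y)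
    (hf : Flat ((Over.pullback g).map φ).left) : Flat ((Over.pullback d).map φ).left := by
  haveI := hf
  haveI := flat_map_left f ((Over.pullback g).map φ)
  haveI := isIso_left' (ActBC.bcCompIso f g X h)
  haveI := isIso_left (ActBC.bcCompIso f g Y h)
  rw [map_eq_conj f g h φ]
  show Flat ((ActBC.bcCompIso f g X h).inv.left ≫
    ((Over.pullback f).map ((Over.pullback g).map φ)).left ≫ (ActBC.bcCompIso f g Y h).hom.left)
  infer_instance

end bc

section quot

variable {S₀ : Scheme.{u}} {X R : Over S₀} (s t : R ⟶ X)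

/-- the quotient of the base change of `X` by the base change of `R` is representable. -/
def QuotAt {T' : Scheme.{u}} (τ : T' ⟶ S₀) : Prop :=
  ∃ (Y : Over T') (p : Red.bc τ X ⟶ Y), Flat p.left ∧ Surjective p.left ∧
    LocallyOfFinitePresentation p.left ∧
    IsPullback ((Over.pullback τ).map s) ((Over.pullback τ).map t) p p

variable {s t}

lemma QuotAt.trans {T' T'' : Scheme.{u}} (σ : T'' ⟶ T') (τ : T' ⟶ S₀) {d : T'' ⟶ S₀}
    (h : σ ≫ τ = d)
    (H : QuotAt ((Over.pullback τ).map s) ((Over.pullback τ).map t) σ) : QuotAt s t d := by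
  obtain ⟨Y, p, h1, h2, h3, h4⟩ := H
  haveI := isIso_left' (ActBC.bcCompIso σ τ X h)
  refine ⟨Y, (ActBC.bcCompIso σ τ X h).inv ≫ p, ?_, ?_, ?_, ?_⟩
  · show Flat ((ActBC.bcCompIso σ τ X h).inv.left ≫ p.left)
    infer_instance
  · show Surjective ((ActBC.bcCompIso σ τ X h).inv.left ≫ p.left)
    infer_instance
  · show LocallyOfFinitePresentation ((ActBC.bcCompIso σ τ X h).inv.left ≫ p.left)
    infer_instance
  · refine IsPullback.of_iso h4 (ActBC.bcCompIso σ τ R h) (ActBC.bcCompIso σ τ X h)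
      (ActBC.bcCompIso σ τ X h) (Iso.refl Y) ?_ ?_ ?_ ?_
    · exact ActBC.bcCompIso_hom_naturality σ τ h s
    · exact ActBC.bcCompIso_hom_naturality σ τ h t
    · simp
    · simp

lemma QuotAt.comp {T' T'' : Scheme.{u}} {τ : T' ⟶ S₀} (H : QuotAt s t τ) (σ : T'' ⟶ T') :
    QuotAt s t (σ ≫ τ) := by
  obtain ⟨Y, p, h1, h2, h3, h4⟩ := H
  apply QuotAt.trans σ τ rfl
  exact ⟨(Over.pullback σ).obj Y, (Over.pullback σ).map p, flat_map_left σ p,
    surjective_map_left σ p, lfp_map_left σ p, h4.map (Over.pullback σ)⟩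

lemma QuotAt.of_eq {T' : Scheme.{u}} {τ τ' : T' ⟶ S₀} (H : QuotAt s t τ) (e : τ = τ') :
    QuotAt s t τ' := e ▸ H

end quot

section shrink

set_option backward.isDefEq.respectTransparency false in
lemma quot_shrink {T' : Scheme.{u}} {A Rr Yy : Over T'} (a b : Rr ⟶ A) (q : A ⟶ Yy)
    [Flat q.left] [LocallyOfFinitePresentation q.left] (h : IsPullback a b q q) :
    ∃ (Y' : Over T') (p : A ⟶ Y'), Flat p.left ∧ Surjective p.left ∧
      LocallyOfFinitePresentation p.left ∧ IsPullback a b p p := by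
  let U : Yy.left.Opens := ⟨Set.range q.left, q.left.isOpenMap.isOpen_range⟩
  have hsub : Set.range q.left ⊆ Set.range U.ι := by
    rw [Scheme.Opens.range_ι]; rfl
  let pl : A.left ⟶ U.toScheme := IsOpenImmersion.lift U.ι q.left hsub
  have hpl : pl ≫ U.ι = q.left := IsOpenImmersion.lift_fac _ _ _
  haveI : Flat pl := MorphismProperty.of_postcomp (W := @Flat) (W' := @IsOpenImmersion) pl U.ι
    inferInstance (by rw [hpl]; infer_instance)
  haveI : LocallyOfFinitePresentation pl := MorphismProperty.of_postcomp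
    (W := @LocallyOfFinitePresentation) (W' := @IsOpenImmersion) pl U.ι
    inferInstance (by rw [hpl]; infer_instance)
  haveI : Surjective pl := by
    refine ⟨fun v => ?_⟩
    obtain ⟨x, hx⟩ : (U.ι v) ∈ Set.range q.left := v.2
    refine ⟨x, ?_⟩
    apply U.ι.injective
    rw [← Scheme.Hom.comp_apply, hpl, hx]
  let Y' : Over T' := Over.mk (U.ι ≫ Yy.hom)
  let ι' : Y' ⟶ Yy := Over.homMk U.ι rfl
  let p : A ⟶ Y' := Over.homMk pl (by
    show pl ≫ U.ι ≫ Yy.hom = A.hom
    rw [reassoc_of% hpl, Over.w q])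
  have hpι : p ≫ ι' = q := by
    apply Over.OverMorphism.ext
    exact hpl
  haveI : Mono ι'.left := (inferInstance : Mono U.ι)
  haveI : Mono ι' := Over.mono_of_mono_left ι'
  exact ⟨Y', p, ‹Flat pl›, ‹Surjective pl›, ‹LocallyOfFinitePresentation pl›,
    isPullback_of_comp_mono ι' hpι hpι h⟩

end shrink

section descent

variable {I : Type u} [SmallCategory I] [IsCofiltered I] (D : I ⥤ Scheme.{u}) (c : Cone D)
  (hc : IsLimit c) [∀ (i j : I) (a : i ⟶ j), IsAffineHom (D.map a)]
  [∀ i, CompactSpace (D.obj i)] [∀ i, QuasiSeparatedSpace (D.obj i)]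

attribute [local instance] compact_left qs_left

/-- limit-level hypotheses on a morphism `u` between base changes to the limit. -/
def Hlim (i₀ : I) {X R Y : Over (D.obj i₀)} (s t : R ⟶ X)
    (u : Red.bc (c.π.app i₀) X ⟶ Red.bc (c.π.app i₀) Y) : Prop :=
  Flat u.left ∧ IsPullback ((Over.pullback (c.π.app i₀)).map s)
    ((Over.pullback (c.π.app i₀)).map t) u u

omit [IsCofiltered I] [∀ (i j : I) (a : i ⟶ j), IsAffineHom (D.map a)]
  [∀ i, CompactSpace (D.obj i)] [∀ i, QuasiSeparatedSpace (D.obj i)] in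
lemma Hlim.rebase {i₀ : I} {X R Y : Over (D.obj i₀)} {s t : R ⟶ X}
    {u : Red.bc (c.π.app i₀) X ⟶ Red.bc (c.π.app i₀) Y} (h : Hlim D c i₀ s t u) (k : Over i₀) :
    Hlim D c k.left ((Over.pullback (D.map k.hom)).map s) ((Over.pullback (D.map k.hom)).map t)
      ((ActBC.bcCompIso (c.π.app k.left) (D.map k.hom) X (c.w k.hom)).hom ≫ u ≫
        (ActBC.bcCompIso (c.π.app k.left) (D.map k.hom) Y (c.w k.hom)).inv) := by
  obtain ⟨h1, h2⟩ := h
  haveI := h1
  haveI := isIso_left (ActBC.bcCompIso (c.π.app k.left) (D.map k.hom) X (c.w k.hom))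
  haveI := isIso_left' (ActBC.bcCompIso (c.π.app k.left) (D.map k.hom) Y (c.w k.hom))
  refine ⟨?_, ?_⟩
  · show Flat ((ActBC.bcCompIso (c.π.app k.left) (D.map k.hom) X (c.w k.hom)).hom.left ≫ u.left ≫
      (ActBC.bcCompIso (c.π.app k.left) (D.map k.hom) Y (c.w k.hom)).inv.left)
    infer_instance
  · refine IsPullback.of_iso h2 (ActBC.bcCompIso _ _ R (c.w k.hom)).symm
      (ActBC.bcCompIso _ _ X (c.w k.hom)).symm (ActBC.bcCompIso _ _ X (c.w k.hom)).symm
      (ActBC.bcCompIso _ _ Y (c.w k.hom)).symm ?_ ?_ ?_ ?_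
    · exact bcCompIso_inv_naturality _ _ (c.w k.hom) s
    · exact bcCompIso_inv_naturality _ _ (c.w k.hom) t
    · simp
    · simp

include hc in
theorem quotAt_of_honest_eq (i₀ : I) (X R Y : Over (D.obj i₀))
    [LocallyOfFinitePresentation X.hom] [QuasiCompact X.hom] [QuasiSeparated X.hom]
    [LocallyOfFinitePresentation R.hom] [QuasiCompact R.hom] [QuasiSeparated R.hom]
    [LocallyOfFinitePresentation Y.hom] [QuasiCompact Y.hom] [QuasiSeparated Y.hom]
    (s t : R ⟶ X) (w : X ⟶ Y) (heq : s ≫ w = t ≫ w)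
    (h : Hlim D c i₀ s t ((Over.pullback (c.π.app i₀)).map w)) :
    ∃ k : Over i₀, QuotAt s t (D.map k.hom) := by
  obtain ⟨hflat, hpb⟩ := h
  haveI hwlfp : LocallyOfFinitePresentation w.left :=
    Groth.Agent.Lib.Helper6.locallyOfFinitePresentation_of_comp (g := Y.hom) inferInstance
      (by rw [Over.w w]; infer_instance)
  haveI hwqc : QuasiCompact w.left := by
    haveI : QuasiCompact (w.left ≫ Y.hom) := by rw [Over.w w]; infer_instance
    exact QuasiCompact.of_comp w.left Y.hom
  haveI hwqs : QuasiSeparated w.left := by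
    haveI : QuasiSeparated (w.left ≫ Y.hom) := by rw [Over.w w]; infer_instance
    exact QuasiSeparated.of_comp w.left Y.hom
  -- the kernel pair
  have hK : IsPullback (p₁ w) (p₂ w) w w :=
    IsPullback.of_map (Over.forget _) (p_cond w) (IsPullback.of_hasPullback w.left w.left)
  haveI : LocallyOfFiniteType (K₀ w).hom := by
    show LocallyOfFiniteType (pullback.fst w.left w.left ≫ X.hom); infer_instance
  haveI : QuasiCompact (K₀ w).hom := by
    show QuasiCompact (pullback.fst w.left w.left ≫ X.hom); infer_instance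
  haveI : QuasiSeparated (K₀ w).hom := by
    show QuasiSeparated (pullback.fst w.left w.left ≫ X.hom); infer_instance
  let gam : R ⟶ K₀ w := hK.lift s t heq
  have hgam1 : gam ≫ p₁ w = s := hK.lift_fst _ _ _
  have hgam2 : gam ≫ p₂ w = t := hK.lift_snd _ _ _
  -- gam is an isomorphism over the limit
  have hKc := hK.map (Over.pullback (c.π.app i₀))
  have hgamiso : IsIso ((Over.pullback (c.π.app i₀)).map gam) := by
    have e : (Over.pullback (c.π.app i₀)).map gam = (hpb.isoIsPullback _ _ hKc).hom := by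
      apply hKc.hom_ext
      · rw [← Functor.map_comp, hgam1, IsPullback.isoIsPullback_hom_fst]
      · rw [← Functor.map_comp, hgam2, IsPullback.isoIsPullback_hom_snd]
    rw [e]; infer_instance
  obtain ⟨k₂, hk₂⟩ := isIso_exists_stage D c hc i₀ R (K₀ w) gam hgamiso
  -- flatness at a stage
  obtain ⟨i₃, φ₃, Xi, Yi, fi, gi, pY, pX, hpY, hpX, hfi⟩ :=
    qcqsDescent_flat D c hc i₀ w.left Y.hom
      ((Over.pullback (c.π.app i₀)).map w).left (pullback.snd Y.hom (c.π.app i₀))
      (pullback.fst Y.hom (c.π.app i₀)) (pullback.fst X.hom (c.π.app i₀))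
      (IsPullback.of_hasPullback _ _)
      (Groth.Agent.S8218.isPullback_overPullback_map (c.π.app i₀) w).flip hflat
  have hflat₃ : Flat ((Over.pullback (D.map φ₃)).map w).left :=
    of_two_pullbacks @Flat (Groth.Agent.S8218.isPullback_overPullback_map (D.map φ₃) w).flip hpX
      (hpY.lift (pullback.fst Y.hom (D.map φ₃)) (pullback.snd Y.hom (D.map φ₃))
        pullback.condition)
      (hpY.lift_fst _ _ _) hfi
  -- a common stage
  have hiso : IsIso ((Over.pullback (D.map (IsCofiltered.min k₂ (Over.mk φ₃)).hom)).map gam) :=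
    isIso_comp_base gam (D.map (IsCofiltered.minToLeft k₂ (Over.mk φ₃)).left) (D.map k₂.hom)
      (by rw [← D.map_comp, Over.w]) hk₂
  have hfl : Flat ((Over.pullback (D.map (IsCofiltered.min k₂ (Over.mk φ₃)).hom)).map w).left :=
    flat_of_comp_base (D.map (IsCofiltered.minToRight k₂ (Over.mk φ₃)).left) (D.map φ₃)
      (by rw [← D.map_comp]; exact congrArg D.map (Over.w (IsCofiltered.minToRight k₂ (Over.mk φ₃))))
      w hflat₃
  -- the pullback square at that stage
  have hKk := hK.map (Over.pullback (D.map (IsCofiltered.min k₂ (Over.mk φ₃)).hom))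
  have hpbk : IsPullback
      ((Over.pullback (D.map (IsCofiltered.min k₂ (Over.mk φ₃)).hom)).map s)
      ((Over.pullback (D.map (IsCofiltered.min k₂ (Over.mk φ₃)).hom)).map t)
      ((Over.pullback (D.map (IsCofiltered.min k₂ (Over.mk φ₃)).hom)).map w)
      ((Over.pullback (D.map (IsCofiltered.min k₂ (Over.mk φ₃)).hom)).map w) := by
    haveI := hiso
    refine IsPullback.of_iso hKk
      (asIso ((Over.pullback (D.map (IsCofiltered.min k₂ (Over.mk φ₃)).hom)).map gam)).symm
      (Iso.refl _) (Iso.refl _) (Iso.refl _) ?_ ?_ ?_ ?_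
    · rw [Iso.refl_hom, Category.comp_id, Iso.symm_hom, asIso_inv, IsIso.eq_inv_comp,
        ← Functor.map_comp, hgam1]
    · rw [Iso.refl_hom, Category.comp_id, Iso.symm_hom, asIso_inv, IsIso.eq_inv_comp,
        ← Functor.map_comp, hgam2]
    · simp
    · simp
  haveI := hfl
  haveI := lfp_map_left (D.map (IsCofiltered.min k₂ (Over.mk φ₃)).hom) w
  exact ⟨IsCofiltered.min k₂ (Over.mk φ₃), quot_shrink _ _ _ hpbk⟩

include hc in
theorem quotAt_of_honest (i₀ : I) (X R Y : Over (D.obj i₀))
    [LocallyOfFinitePresentation X.hom] [QuasiCompact X.hom] [QuasiSeparated X.hom]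
    [LocallyOfFinitePresentation R.hom] [QuasiCompact R.hom] [QuasiSeparated R.hom]
    [LocallyOfFinitePresentation Y.hom] [QuasiCompact Y.hom] [QuasiSeparated Y.hom]
    (s t : R ⟶ X) (w : X ⟶ Y)
    (h : Hlim D c i₀ s t ((Over.pullback (c.π.app i₀)).map w)) :
    ∃ k : Over i₀, QuotAt s t (D.map k.hom) := by
  have e0 : (Over.pullback (c.π.app i₀)).map (s ≫ w) =
      (Over.pullback (c.π.app i₀)).map (t ≫ w) := by
    rw [Functor.map_comp, Functor.map_comp, h.2.w]
  obtain ⟨k₁, hk₁⟩ := (ev_of_limit D c hc i₀ (s ≫ w) (t ≫ w) e0).exists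
  have heq : (Over.pullback (D.map k₁.hom)).map s ≫ (Over.pullback (D.map k₁.hom)).map w =
      (Over.pullback (D.map k₁.hom)).map t ≫ (Over.pullback (D.map k₁.hom)).map w := by
    rw [← Functor.map_comp, ← Functor.map_comp, hk₁]
  have h' := h.rebase D c k₁
  rw [← map_map_eq _ _ (c.w k₁.hom) w] at h'
  obtain ⟨k, hk⟩ := quotAt_of_honest_eq D c hc k₁.left _ _ _ _ _ _ heq h'
  exact ⟨Over.mk (k.hom ≫ k₁.hom),
    QuotAt.trans (D.map k.hom) (D.map k₁.hom) (D.map_comp _ _).symm hk⟩

include hc in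
theorem QuotAt.exists_stage (j : I) (Xj Rj : Over (D.obj j))
    [LocallyOfFinitePresentation Xj.hom] [QuasiCompact Xj.hom] [QuasiSeparated Xj.hom]
    [LocallyOfFinitePresentation Rj.hom] [QuasiCompact Rj.hom] [QuasiSeparated Rj.hom]
    (sj tj : Rj ⟶ Xj) (H : QuotAt sj tj (c.π.app j)) :
    ∃ k : Over j, QuotAt sj tj (D.map k.hom) := by
  obtain ⟨Y, p, h1, h2, h3, h4⟩ := H
  haveI := h1
  haveI := h2
  haveI := h3
  have inst : ∀ {i j : I} (f : i ⟶ j), IsAffineHom (D.map f) := fun f => inferInstance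
  haveI hS : CompactSpace c.pt := Scheme.compactSpace_of_isLimit D c hc
  haveI hSq : QuasiSeparatedSpace c.pt := by
    haveI := isAffineHom_π_app D c hc j
    exact quasiSeparatedSpace_of_quasiSeparated (c.π.app j)
  -- Y is of finite presentation over the limit
  haveI : LocallyOfFinitePresentation (p.left ≫ Y.hom) := by rw [Over.w p]; infer_instance
  haveI hYlfp : LocallyOfFinitePresentation Y.hom := Groth.Agent.S0114.result p.left Y.hom
  haveI hS' : CompactSpace ↥(((Functor.const I).obj c.pt).obj j) := hS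
  haveI hSq' : QuasiSeparatedSpace ↥(((Functor.const I).obj c.pt).obj j) := hSq
  haveI hXc : CompactSpace (Red.bc (c.π.app j) Xj).left := compact_left _
  haveI hRq : QuasiSeparatedSpace (Red.bc (c.π.app j) Rj).left := qs_left _
  haveI hYc : CompactSpace Y.left :=
    Function.Surjective.compactSpace p.left.continuous p.left.surjective
  haveI hYqc : QuasiCompact Y.hom := inferInstance
  have hpbS : IsPullback ((Over.pullback (c.π.app j)).map sj).left
      ((Over.pullback (c.π.app j)).map tj).left p.left p.left := h4.map (Over.forget _)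
  haveI : QuasiCompact ((Over.pullback (c.π.app j)).map sj).left := by
    haveI : QuasiCompact (((Over.pullback (c.π.app j)).map sj).left ≫
        (Red.bc (c.π.app j) Xj).hom) := by rw [Over.w]; infer_instance
    exact QuasiCompact.of_comp _ (Red.bc (c.π.app j) Xj).hom
  haveI : QuasiCompact ((Over.pullback (c.π.app j)).map tj).left := by
    haveI : QuasiCompact (((Over.pullback (c.π.app j)).map tj).left ≫
        (Red.bc (c.π.app j) Xj).hom) := by rw [Over.w]; infer_instance
    exact QuasiCompact.of_comp _ (Red.bc (c.π.app j) Xj).hom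
  haveI hYqs : QuasiSeparatedSpace Y.left :=
    quasiSeparatedSpace_of_isPullback hpbS p.left.surjective p.left.isOpenMap
  haveI : QuasiSeparated Y.hom := inferInstance
  -- a model of Y over a stage above j
  obtain ⟨i₁, Y₁, y₁, g₁, m1, m2, m3, pb₁⟩ := desc_of_fp hc Y.hom
  have hm : ModelAt (D := D) (c := c) ⊤ Y.hom i₁ := ⟨Y₁, y₁, g₁, m1, m2, m3, trivial, pb₁⟩
  obtain ⟨Y₂, y₂, g₂, n1, n2, n3, -, pb₂⟩ := hm.move (IsCofiltered.minToLeft i₁ j)
  haveI : LocallyOfFinitePresentation (Over.mk y₂).hom := n1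
  haveI : QuasiCompact (Over.mk y₂).hom := n2
  haveI : QuasiSeparated (Over.mk y₂).hom := n3
  let ε : Y ≅ Red.bc (c.π.app (IsCofiltered.min i₁ j)) (Over.mk y₂) :=
    Over.isoMk pb₂.isoPullback (by
      show pb₂.isoPullback.hom ≫ pullback.snd y₂ (c.π.app _) = Y.hom
      exact pb₂.isoPullback_hom_snd)
  have H0 : Hlim D c (IsCofiltered.min i₁ j)
      ((Over.pullback (D.map (IsCofiltered.minToRight i₁ j))).map sj)
      ((Over.pullback (D.map (IsCofiltered.minToRight i₁ j))).map tj)
      ((ActBC.bcCompIso (c.π.app _) (D.map (IsCofiltered.minToRight i₁ j)) Xj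
        (c.w (IsCofiltered.minToRight i₁ j))).hom ≫ p ≫ ε.hom) := by
    haveI := isIso_left (ActBC.bcCompIso (c.π.app _) (D.map (IsCofiltered.minToRight i₁ j)) Xj
      (c.w (IsCofiltered.minToRight i₁ j)))
    haveI := isIso_left ε
    refine ⟨?_, ?_⟩
    · show Flat ((ActBC.bcCompIso (c.π.app _) (D.map (IsCofiltered.minToRight i₁ j)) Xj
        (c.w (IsCofiltered.minToRight i₁ j))).hom.left ≫ p.left ≫ ε.hom.left)
      infer_instance
    · refine IsPullback.of_iso h4
        (ActBC.bcCompIso _ _ Rj (c.w (IsCofiltered.minToRight i₁ j))).symm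
        (ActBC.bcCompIso _ _ Xj (c.w (IsCofiltered.minToRight i₁ j))).symm
        (ActBC.bcCompIso _ _ Xj (c.w (IsCofiltered.minToRight i₁ j))).symm ε ?_ ?_ ?_ ?_
      · exact bcCompIso_inv_naturality _ _ (c.w (IsCofiltered.minToRight i₁ j)) sj
      · exact bcCompIso_inv_naturality _ _ (c.w (IsCofiltered.minToRight i₁ j)) tj
      · simp
      · simp
  -- descend the morphism
  obtain ⟨k₀, w₀, hw₀⟩ := (ev_descent D c hc _
    (Red.bc (D.map (IsCofiltered.minToRight i₁ j)) Xj) (Over.mk y₂)
    ((ActBC.bcCompIso (c.π.app _) (D.map (IsCofiltered.minToRight i₁ j)) Xj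
        (c.w (IsCofiltered.minToRight i₁ j))).hom ≫ p ≫ ε.hom)).exists
  have H1 := H0.rebase D c k₀
  rw [← hw₀] at H1
  obtain ⟨k, hk⟩ := quotAt_of_honest D c hc k₀.left _ _ _ _ _ w₀ H1
  have hk' := QuotAt.trans (D.map k.hom) (D.map k₀.hom) (D.map_comp _ _).symm hk
  have hk'' := QuotAt.trans (D.map (k.hom ≫ k₀.hom)) (D.map (IsCofiltered.minToRight i₁ j))
    (D.map_comp _ _).symm hk'
  exact ⟨Over.mk ((k.hom ≫ k₀.hom) ≫ IsCofiltered.minToRight i₁ j), hk''⟩

end descent

/-- Let S be the limit of a cofiltered system (S_i) of quasi-compact quasi-separated schemes with affine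
transition morphisms, j an index, X_j an S_j-scheme of finite presentation over S_j, and s_j, t_j :
R_j → X_j two S_j-morphisms (an equivalence relation on X_j) such that (s_j, t_j) : R_j → X_j
×_{S_j} X_j is a monomorphism and s_j is flat with R_j of finite presentation over S_j. Say that the
quotient of a base change X by the base change R is representable when there are Y and a morphism p
: X → Y which is flat, surjective and locally of finite presentation such that the square s, t, p, p
is cartesian (R = X ×_Y X). Then the quotient is representable over S for the base changes to S if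
and only if there is an index i over j such that it is representable over S_i for the base changes
to S_i. (The published statement is for representability of the fppf or fpqc quotient sheaf X/R; for
R flat of finite presentation over X this is the existence of such a p. The published setting takes
all S_i affine over a fixed quasi-compact quasi-separated S_0.) -/
theorem result {I : Type u} [SmallCategory I] [IsCofiltered I]
    (D : I ⥤ Scheme.{u}) (c : Limits.Cone D) (hc : Limits.IsLimit c)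
    [∀ (i i' : I) (f : i ⟶ i'), IsAffineHom (D.map f)] [∀ i, CompactSpace (D.obj i)] [∀ i, QuasiSeparatedSpace (D.obj i)]
    (j : I) (Xj Rj : Over (D.obj j))
    [LocallyOfFinitePresentation Xj.hom] [QuasiCompact Xj.hom] [QuasiSeparated Xj.hom]
    [LocallyOfFinitePresentation Rj.hom] [QuasiCompact Rj.hom] [QuasiSeparated Rj.hom]
    (sj tj : Rj ⟶ Xj) [Mono (lift sj tj)] [Flat sj.left] :
    (∃ (Y : Over c.pt) (p : (Red.bc (c.π.app j) Xj) ⟶ Y), Flat p.left ∧ Surjective p.left ∧ LocallyOfFinitePresentation p.left ∧ IsPullback ((Over.pullback (c.π.app j)).map sj) ((Over.pullback (c.π.app j)).map tj) p p) ↔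
    ∃ (i : I) (f : i ⟶ j), ∃ (Y : Over (D.obj i)) (p : (Red.bc (D.map f) Xj) ⟶ Y), Flat p.left ∧ Surjective p.left ∧ LocallyOfFinitePresentation p.left ∧ IsPullback ((Over.pullback (D.map f)).map sj) ((Over.pullback (D.map f)).map tj) p p := by
  constructor
  · intro H
    obtain ⟨k, hk⟩ := QuotAt.exists_stage D c hc j Xj Rj sj tj H
    exact ⟨k.left, k.hom, hk⟩
  · rintro ⟨i, f, H⟩
    have H' : QuotAt sj tj (D.map f) := H
    exact (H'.comp (c.π.app i)).of_eq (c.w f)

end Groth.Agent.S6091
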