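import Groth.Statements.S6087
-- import your own Groth.Agent.* helpers here
import Mathlib
import Groth.Agent.S6091

set_option autoImplicit false
universe u
open CategoryTheory CategoryTheory.Limits MonoidalCategory CartesianMonoidalCategory MonObj GrpObj AlgebraicGeometry
open SGA3

namespace Groth.Agent.S6087

set_option linter.style.haveILetI false

open Groth.Agent.S6091

lemma quot_iff {S₀ T' : Scheme.{u}} (τ : T' ⟶ S₀) {G G' : Over S₀} [GrpObj G] (u : G' ⟶ G) :
    (∃ (Q : Over T') (p : Red.bc τ G ⟶ Q), Flat p.left ∧ Surjective p.left ∧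
      LocallyOfFinitePresentation p.left ∧
      IsPullback ((Red.bc τ G ◁ (Over.pullback τ).map u) ≫ μ[Red.bc τ G])
        (fst (Red.bc τ G) (Red.bc τ G')) p p) ↔
    QuotAt ((G ◁ u) ≫ μ[G]) (fst G G') τ := by
  have e1 : (Red.bc τ G ◁ (Over.pullback τ).map u) ≫ μ[Red.bc τ G] =
      Functor.LaxMonoidal.μ (Over.pullback τ) G G' ≫
        (Over.pullback τ).map ((G ◁ u) ≫ μ[G]) := by
    rw [Functor.obj.μ_def, Functor.LaxMonoidal.μ_natural_right_assoc, Functor.map_comp]
  have e2 : fst (Red.bc τ G) (Red.bc τ G') =
      Functor.LaxMonoidal.μ (Over.pullback τ) G G' ≫ (Over.pullback τ).map (fst G G') :=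
    (Functor.Monoidal.μ_fst _ _ _).symm
  constructor
  · rintro ⟨Q, p, h1, h2, h3, h4⟩
    refine ⟨Q, p, h1, h2, h3, ?_⟩
    rw [e1, e2] at h4
    exact IsPullback.of_iso h4 (Functor.Monoidal.μIso (Over.pullback τ) G G') (Iso.refl _)
      (Iso.refl _) (Iso.refl _) (by simp) (by simp) (by simp) (by simp)
  · rintro ⟨Q, p, h1, h2, h3, h4⟩
    refine ⟨Q, p, h1, h2, h3, ?_⟩
    rw [e1, e2]
    exact IsPullback.of_iso h4 (Functor.Monoidal.μIso (Over.pullback τ) G G').symm (Iso.refl _)
      (Iso.refl _) (Iso.refl _) (by simp) (by simp) (by simp) (by simp)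

/-- Let S be the limit of a cofiltered system (S_i) of quasi-compact quasi-separated schemes with affine
transition morphisms, j an index, G_j an S_j-group scheme of finite presentation over S_j and u_j :
G'_j → G_j a subgroup scheme (a homomorphism which is a monomorphism) with G'_j flat and of finite
presentation over S_j. For a base change G, G' of G_j, G'_j say that G/G' is representable when
there are Q and a morphism p : G → Q which is flat, surjective and locally of finite presentation
and makes the square formed by (g, h) ↦ g · u(h), the first projection G × G' → G and p (twice)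
cartesian. Then G/G' is representable over S for the base changes to S if and only if there is an
index i over j such that G_i/G'_i is representable over S_i for the base changes to S_i. (The
published statement is for representability of the fpqc quotient sheaf; with G' flat of finite
presentation this is the same as the existence of such a p. The published setting takes all S_i
affine over a fixed quasi-compact quasi-separated S_0.) -/
theorem result {I : Type u} [SmallCategory I] [IsCofiltered I]
    (D : I ⥤ Scheme.{u}) (c : Limits.Cone D) (hc : Limits.IsLimit c)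
    [∀ (i i' : I) (f : i ⟶ i'), IsAffineHom (D.map f)] [∀ i, CompactSpace (D.obj i)] [∀ i, QuasiSeparatedSpace (D.obj i)]
    (j : I) (Gj G'j : Over (D.obj j)) [GrpObj Gj] [GrpObj G'j]
    [LocallyOfFinitePresentation Gj.hom] [QuasiCompact Gj.hom] [QuasiSeparated Gj.hom]
    [Flat G'j.hom] [LocallyOfFinitePresentation G'j.hom] [QuasiCompact G'j.hom] [QuasiSeparated G'j.hom]
    (uj : G'j ⟶ Gj) [IsMonHom uj] [Mono uj] :
    (∃ (Q : Over c.pt) (p : (Red.bc (c.π.app j) Gj) ⟶ Q), Flat p.left ∧ Surjective p.left ∧ LocallyOfFinitePresentation p.left ∧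
        IsPullback (((Red.bc (c.π.app j) Gj) ◁ ((Over.pullback (c.π.app j)).map uj)) ≫ μ[(Red.bc (c.π.app j) Gj)]) (fst (Red.bc (c.π.app j) Gj) (Red.bc (c.π.app j) G'j)) p p) ↔
    ∃ (i : I) (f : i ⟶ j), ∃ (Q : Over (D.obj i)) (p : (Red.bc (D.map f) Gj) ⟶ Q), Flat p.left ∧ Surjective p.left ∧ LocallyOfFinitePresentation p.left ∧
        IsPullback (((Red.bc (D.map f) Gj) ◁ ((Over.pullback (D.map f)).map uj)) ≫ μ[(Red.bc (D.map f) Gj)]) (fst (Red.bc (D.map f) Gj) (Red.bc (D.map f) G'j)) p p := by
  haveI : LocallyOfFinitePresentation (Gj ⊗ G'j).hom := by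
    show LocallyOfFinitePresentation (pullback.fst Gj.hom G'j.hom ≫ Gj.hom)
    infer_instance
  haveI : QuasiCompact (Gj ⊗ G'j).hom := by
    show QuasiCompact (pullback.fst Gj.hom G'j.hom ≫ Gj.hom)
    infer_instance
  haveI : QuasiSeparated (Gj ⊗ G'j).hom := by
    show QuasiSeparated (pullback.fst Gj.hom G'j.hom ≫ Gj.hom)
    infer_instance
  refine (quot_iff (c.π.app j) uj).trans ?_
  constructor
  · intro H
    obtain ⟨k, hk⟩ := QuotAt.exists_stage D c hc j Gj (Gj ⊗ G'j) _ _ H
    exact ⟨k.left, k.hom, (quot_iff _ uj).mpr hk⟩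
  · rintro ⟨i, f, H⟩
    have H' := (quot_iff (D.map f) uj).mp H
    exact (H'.comp (c.π.app i)).of_eq (c.w f)

end Groth.Agent.S6087
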