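import Groth.Statements.S6123
import Mathlib.CategoryTheory.Limits.Shapes.Pullback.IsPullback.Basic
import Mathlib.CategoryTheory.Limits.Shapes.Pullback.Mono
import Mathlib.CategoryTheory.Limits.Preserves.Shapes.Pullbacks

set_option autoImplicit false
open CategoryTheory CategoryTheory.Limits Opposite
universe w v₁ v₂ u₁ u₂
open SGA4

namespace Groth.Agent.S6123

/-- For a single functor. Let `E` have pullbacks and let `φ : E ⥤ F` preserve them. If every
monomorphism `u` of `E` with `φ u` invertible is invertible, then `φ` reflects all isomorphisms. -/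
theorem result
    {E : Type u₁} [Category.{v₁} E] {F : Type u₂} [Category.{v₂} F] (φ : E ⥤ F)
    [HasPullbacks E] [PreservesLimitsOfShape WalkingCospan φ]
    (h : ∀ ⦃X Y : E⦄ (u : X ⟶ Y), Mono u → IsIso (φ.map u) → IsIso u) :
    φ.ReflectsIsomorphisms := by
  constructor
  intro X Y f hf
  have hpb : IsPullback (φ.map (pullback.fst f f)) (φ.map (pullback.snd f f)) (φ.map f)
      (φ.map f) := Functor.map_isPullback φ (IsPullback.of_hasPullback f f)
  have h1 : IsIso (φ.map (pullback.fst f f)) := hpb.isIso_fst_of_isIso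
  have hΔ : pullback.lift (𝟙 X) (𝟙 X) rfl ≫ pullback.fst f f = 𝟙 X := pullback.lift_fst _ _ _
  have hΔ' : pullback.lift (𝟙 X) (𝟙 X) rfl ≫ pullback.snd f f = 𝟙 X := pullback.lift_snd _ _ _
  have h2 : IsIso (φ.map (pullback.lift (𝟙 X) (𝟙 X) (rfl : 𝟙 X ≫ f = 𝟙 X ≫ f))) := by
    have : φ.map (pullback.lift (𝟙 X) (𝟙 X) (rfl : 𝟙 X ≫ f = 𝟙 X ≫ f)) ≫
        φ.map (pullback.fst f f) = 𝟙 _ := by
      rw [← φ.map_comp, hΔ, φ.map_id]
    have h5 : IsIso (φ.map (pullback.lift (𝟙 X) (𝟙 X) (rfl : 𝟙 X ≫ f = 𝟙 X ≫ f)) ≫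
        φ.map (pullback.fst f f)) := by rw [this]; infer_instance
    exact IsIso.of_isIso_comp_right _ (φ.map (pullback.fst f f))
  have hmonoΔ : Mono (pullback.lift (𝟙 X) (𝟙 X) (rfl : 𝟙 X ≫ f = 𝟙 X ≫ f)) :=
    mono_of_mono_fac hΔ
  have h3 : IsIso (pullback.lift (𝟙 X) (𝟙 X) (rfl : 𝟙 X ≫ f = 𝟙 X ≫ f)) := h _ hmonoΔ h2
  have h4 : pullback.fst f f = pullback.snd f f := by
    rw [← cancel_epi (pullback.lift (𝟙 X) (𝟙 X) (rfl : 𝟙 X ≫ f = 𝟙 X ≫ f)), hΔ, hΔ']
  have hmono : Mono f := by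
    constructor
    intro W a b hab
    have e1 := pullback.lift_fst a b hab
    have e2 := pullback.lift_snd a b hab
    calc a = pullback.lift a b hab ≫ pullback.fst f f := e1.symm
      _ = pullback.lift a b hab ≫ pullback.snd f f := by rw [h4]
      _ = b := e2
  exact h f hmono hf

end Groth.Agent.S6123
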