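import Groth.Statements.S6124
import Mathlib.CategoryTheory.Limits.Shapes.Pullback.IsPullback.Basic
import Mathlib.CategoryTheory.Limits.Shapes.Pullback.Mono
import Mathlib.CategoryTheory.Limits.Preserves.Shapes.Pullbacks

set_option autoImplicit false
open CategoryTheory CategoryTheory.Limits Opposite
universe w v₁ v₂ u₁ u₂
open SGA4

namespace Groth.Agent.S6124

/-- Let `E` have pullbacks, let `P` be a detecting family of objects of `E` (a morphism `f` is
invertible as soon as every map out of an object of `P` factors uniquely through `f`), and let `φ i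
: E ⥤ E' i` be functors preserving pullbacks. Then the `φ i` jointly reflect isomorphisms if and
only if, for every `X` with `P X` and every subobject `X'` of `X` other than `⊤`, some `φ i` takes
the inclusion `X' ⟶ X` to a morphism that is not invertible. -/
theorem result
    {E : Type u₁} [Category.{v₁} E] [HasPullbacks E] (P : ObjectProperty E) (hP : P.IsDetecting)
    {κ : Type w} {E' : κ → Type u₂} [∀ k, Category.{v₂} (E' k)] (φ : ∀ k, E ⥤ E' k)
    [∀ k, PreservesLimitsOfShape WalkingCospan (φ k)] :
    (∀ ⦃X Y : E⦄ (f : X ⟶ Y), (∀ k, IsIso ((φ k).map f)) → IsIso f) ↔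
      ∀ (X : E), P X → ∀ (X' : Subobject X), X' ≠ ⊤ → ∃ k, ¬ IsIso ((φ k).map X'.arrow) := by
  constructor
  · intro h X _ X' hX'
    by_contra hcon
    push_neg at hcon
    have : IsIso X'.arrow := h X'.arrow hcon
    exact hX' (Subobject.eq_top_of_isIso_arrow X')
  · intro h
    -- first: monomorphisms inverted by all `φ k` are invertible
    have hmono : ∀ ⦃A B : E⦄ (u : A ⟶ B), Mono u → (∀ k, IsIso ((φ k).map u)) → IsIso u := by
      intro A B u hu hφu
      apply hP
      intro G hG g
      have hpbk : ∀ k, IsPullback ((φ k).map (pullback.fst u g)) ((φ k).map (pullback.snd u g))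
          ((φ k).map u) ((φ k).map g) :=
        fun k => Functor.map_isPullback (φ k) (IsPullback.of_hasPullback u g)
      have h1 : ∀ k, IsIso ((φ k).map (pullback.snd u g)) := fun k =>
        have := hφu k
        (hpbk k).isIso_snd_of_isIso
      have h2 : Subobject.mk (pullback.snd u g) = ⊤ := by
        by_contra hne
        obtain ⟨k, hk⟩ := h G hG _ hne
        apply hk
        have e : (Subobject.mk (pullback.snd u g)).arrow =
            (Subobject.underlyingIso (pullback.snd u g)).hom ≫ pullback.snd u g :=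
          (Subobject.underlyingIso_hom_comp_eq_mk _).symm
        rw [e, Functor.map_comp]
        have := h1 k
        infer_instance
      have h3 : IsIso (pullback.snd u g) := (Subobject.isIso_iff_mk_eq_top _).2 h2
      refine ⟨inv (pullback.snd u g) ≫ pullback.fst u g, ?_, ?_⟩
      · change (inv (pullback.snd u g) ≫ pullback.fst u g) ≫ u = g
        rw [Category.assoc, pullback.condition, IsIso.inv_hom_id_assoc]
      · intro g' hg'
        rw [← cancel_mono u]
        change g' ≫ u = (inv (pullback.snd u g) ≫ pullback.fst u g) ≫ u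
        rw [hg', Category.assoc, pullback.condition, IsIso.inv_hom_id_assoc]
    intro X Y f hf
    have hpb : ∀ k, IsPullback ((φ k).map (pullback.fst f f)) ((φ k).map (pullback.snd f f))
        ((φ k).map f) ((φ k).map f) :=
      fun k => Functor.map_isPullback (φ k) (IsPullback.of_hasPullback f f)
    have h1 : ∀ k, IsIso ((φ k).map (pullback.fst f f)) := fun k =>
      have := hf k
      (hpb k).isIso_fst_of_isIso
    have hΔ : pullback.lift (𝟙 X) (𝟙 X) rfl ≫ pullback.fst f f = 𝟙 X := pullback.lift_fst _ _ _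
    have hΔ' : pullback.lift (𝟙 X) (𝟙 X) rfl ≫ pullback.snd f f = 𝟙 X := pullback.lift_snd _ _ _
    have h2 : ∀ k, IsIso ((φ k).map (pullback.lift (𝟙 X) (𝟙 X) (rfl : 𝟙 X ≫ f = 𝟙 X ≫ f))) := by
      intro k
      have : (φ k).map (pullback.lift (𝟙 X) (𝟙 X) (rfl : 𝟙 X ≫ f = 𝟙 X ≫ f)) ≫
          (φ k).map (pullback.fst f f) = 𝟙 _ := by
        rw [← (φ k).map_comp, hΔ, (φ k).map_id]
      have h5 : IsIso ((φ k).map (pullback.lift (𝟙 X) (𝟙 X) (rfl : 𝟙 X ≫ f = 𝟙 X ≫ f)) ≫
          (φ k).map (pullback.fst f f)) := by rw [this]; infer_instance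
      have := h1 k
      exact IsIso.of_isIso_comp_right _ ((φ k).map (pullback.fst f f))
    have hmonoΔ : Mono (pullback.lift (𝟙 X) (𝟙 X) (rfl : 𝟙 X ≫ f = 𝟙 X ≫ f)) :=
      mono_of_mono_fac hΔ
    have h3 : IsIso (pullback.lift (𝟙 X) (𝟙 X) (rfl : 𝟙 X ≫ f = 𝟙 X ≫ f)) :=
      hmono _ hmonoΔ h2
    have h4 : pullback.fst f f = pullback.snd f f := by
      rw [← cancel_epi (pullback.lift (𝟙 X) (𝟙 X) (rfl : 𝟙 X ≫ f = 𝟙 X ≫ f)), hΔ, hΔ']
    have hmf : Mono f := by
      constructor
      intro W a b hab
      have e1 := pullback.lift_fst a b hab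
      have e2 := pullback.lift_snd a b hab
      calc a = pullback.lift a b hab ≫ pullback.fst f f := e1.symm
        _ = pullback.lift a b hab ≫ pullback.snd f f := by rw [h4]
        _ = b := e2
    exact hmono f hmf hf

end Groth.Agent.S6124
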