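import Groth.Statements.S6126
-- import your own Groth.Agent.* helpers here

set_option autoImplicit false
open CategoryTheory CategoryTheory.Limits
universe v₁ u₁
open SGA4

namespace Groth.Agent.S6126

/-- Let `E` be a category with `v₁`-small hom-sets admitting a separating family of objects `G t`
indexed by a `v₁`-small type, in which every object admits a monomorphism into an injective object.
Assume that each coproduct `G t ⨿ G t` exists and that every morphism out of `G t ⨿ G t` factors as
an effective epimorphism followed by a monomorphism. Then `E` admits a coseparating family of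
injective objects indexed by a `v₁`-small type. (The published statement moreover bounds the size of
this family in terms of the hom-sets `Hom (G t', G t ⨿ G t)`; only existence is stated here. The
published statement speaks of generating and cogenerating families; its proof uses and produces
joint faithfulness of maps out of, resp. into, the family, which is the sense taken here.) -/
theorem result
    {E : Type u₁} [Category.{v₁} E] {ι : Type v₁} (G : ι → E)
    (hG : (ObjectProperty.ofObj G).IsSeparating)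
    [EnoughInjectives E] [∀ t, HasBinaryCoproduct (G t) (G t)]
    (hfac : ∀ (t : ι) (X : E) (f : G t ⨿ G t ⟶ X),
      ∃ (Y : E) (e : G t ⨿ G t ⟶ Y) (m : Y ⟶ X), EffectiveEpi e ∧ Mono m ∧ e ≫ m = f) :
    ∃ (κ : Type v₁) (H : κ → E),
      (∀ k, Injective (H k)) ∧ (ObjectProperty.ofObj H).IsCoseparating := by
  classical
  -- the relation induced on `G t'`-points by a morphism out of `G t ⨿ G t`
  let Rel : ι → Type v₁ := fun t => ∀ t' : ι, Set ((G t' ⟶ G t ⨿ G t) × (G t' ⟶ G t ⨿ G t))
  let relOf : ∀ (t : ι) {Y : E} (_ : G t ⨿ G t ⟶ Y), Rel t :=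
    fun t Y e t' => {ab | ab.1 ≫ e = ab.2 ≫ e}
  let Real : ∀ t, Rel t → Prop := fun t R =>
    ∃ (Y : E) (e : G t ⨿ G t ⟶ Y), EffectiveEpi e ∧ relOf t e = R
  let H : (Σ t : ι, Rel t) → E := fun k =>
    if h : Real k.1 k.2 then Injective.under h.choose else Injective.under (G k.1)
  -- comparison of two effective epimorphisms with the same relation
  have key : ∀ (t : ι) {Y Y' : E} (e : G t ⨿ G t ⟶ Y) (e' : G t ⨿ G t ⟶ Y'),
      EffectiveEpi e → EffectiveEpi e' → relOf t e' = relOf t e →
      ∃ θ : Y' ⟶ Y, Mono θ ∧ e' ≫ θ = e := by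
    intro t Y Y' e e' he he' hrel
    have h1 : ∀ {Z : E} (g₁ g₂ : Z ⟶ G t ⨿ G t), g₁ ≫ e' = g₂ ≫ e' → g₁ ≫ e = g₂ ≫ e := by
      intro Z g₁ g₂ hg
      apply hG
      rintro _ ⟨t'⟩ c
      have hmem : ((c ≫ g₁, c ≫ g₂) : (G t' ⟶ G t ⨿ G t) × (G t' ⟶ G t ⨿ G t)) ∈
          relOf t e' t' := by
        change (c ≫ g₁) ≫ e' = (c ≫ g₂) ≫ e'
        rw [Category.assoc, Category.assoc, hg]
      rw [hrel] at hmem
      have : (c ≫ g₁) ≫ e = (c ≫ g₂) ≫ e := hmem
      simpa only [Category.assoc] using this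
    have h2 : ∀ {Z : E} (g₁ g₂ : Z ⟶ G t ⨿ G t), g₁ ≫ e = g₂ ≫ e → g₁ ≫ e' = g₂ ≫ e' := by
      intro Z g₁ g₂ hg
      apply hG
      rintro _ ⟨t'⟩ c
      have hmem : ((c ≫ g₁, c ≫ g₂) : (G t' ⟶ G t ⨿ G t) × (G t' ⟶ G t ⨿ G t)) ∈
          relOf t e t' := by
        change (c ≫ g₁) ≫ e = (c ≫ g₂) ≫ e
        rw [Category.assoc, Category.assoc, hg]
      rw [← hrel] at hmem
      have : (c ≫ g₁) ≫ e' = (c ≫ g₂) ≫ e' := hmem
      simpa only [Category.assoc] using this
    refine ⟨EffectiveEpi.desc e' e h1, ?_, EffectiveEpi.fac e' e h1⟩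
    have h3 : EffectiveEpi.desc e' e h1 ≫ EffectiveEpi.desc e e' h2 = 𝟙 _ := by
      rw [← cancel_epi e', EffectiveEpi.fac_assoc, EffectiveEpi.fac, Category.comp_id]
    exact mono_of_mono_fac h3
  refine ⟨Σ t : ι, Rel t, H, ?_, ?_⟩
  · intro k
    dsimp only [H]
    split_ifs <;> infer_instance
  · intro X Y f g hfg
    apply hG
    rintro _ ⟨t⟩ a
    by_contra hne
    obtain ⟨Y₀, e, m, he, hm, hem⟩ := hfac t Y (coprod.desc (a ≫ f) (a ≫ g))
    have hreal : Real t (relOf t e) := ⟨Y₀, e, he, rfl⟩
    have hk : H ⟨t, relOf t e⟩ = Injective.under hreal.choose := dif_pos hreal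
    obtain ⟨he', hrel'⟩ := hreal.choose_spec.choose_spec
    obtain ⟨θ, hθ, hθe⟩ := key t e hreal.choose_spec.choose he he' hrel'
    have hm' : Mono (θ ≫ m) := mono_comp θ m
    have hfac' : hreal.choose_spec.choose ≫ θ ≫ m = coprod.desc (a ≫ f) (a ≫ g) := by
      rw [← Category.assoc, hθe, hem]
    have hw := hfg (H ⟨t, relOf t e⟩) (ObjectProperty.ofObj_apply H ⟨t, relOf t e⟩)
      (Injective.factorThru (Injective.ι hreal.choose) (θ ≫ m) ≫ eqToHom hk.symm)
    rw [← Category.assoc, ← Category.assoc, cancel_mono] at hw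
    have hw2 : (a ≫ f) ≫ Injective.factorThru (Injective.ι hreal.choose) (θ ≫ m) =
        (a ≫ g) ≫ Injective.factorThru (Injective.ι hreal.choose) (θ ≫ m) := by
      rw [Category.assoc, Category.assoc, hw]
    have e1 : a ≫ f = coprod.inl ≫ hreal.choose_spec.choose ≫ θ ≫ m := by
      rw [hfac', coprod.inl_desc]
    have e2 : a ≫ g = coprod.inr ≫ hreal.choose_spec.choose ≫ θ ≫ m := by
      rw [hfac', coprod.inr_desc]
    have hj : (θ ≫ m) ≫ Injective.factorThru (Injective.ι hreal.choose) (θ ≫ m) =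
        Injective.ι hreal.choose := Injective.comp_factorThru _ _
    rw [e1, e2] at hw2
    simp only [Category.assoc] at hw2 hj
    rw [hj, ← Category.assoc, ← Category.assoc, cancel_mono] at hw2
    apply hne
    rw [e1, e2, ← Category.assoc, hw2, Category.assoc]

end Groth.Agent.S6126
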