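import Groth.Statements.S6128
import Mathlib.CategoryTheory.Sites.Closed

set_option autoImplicit false
open CategoryTheory
universe u
open SGA4

namespace Groth.Agent.S6128

/-- Let `u : C ⥤ C'` be a functor between small sites. If the right Kan extension along `u` of the
underlying presheaf of every sheaf of sets on `C` is a sheaf on `C'`, then `u` is cocontinuous: for
every object `Y` of `C` and every covering sieve `R` of `u Y`, the sieve of morphisms `g : Z ⟶ Y`
with `u g ∈ R` covers `Y`. -/
theorem result
    {C : Type u} [SmallCategory C] {C' : Type u} [SmallCategory C']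
    (J : GrothendieckTopology C) (J' : GrothendieckTopology C') (u : C ⥤ C')
    (h : ∀ G : Sheaf J (Type u), Presheaf.IsSheaf J' ((u.op.ran).obj G.obj)) :
    u.IsCocontinuous J J' := by
  refine ⟨?_⟩
  intro Y R hR
  rw [← J.close_eq_top_iff_mem]
  let Ω : Sheaf J (Type u) := ⟨(Functor.closedSieves J).toFunctor,
    (isSheaf_iff_isSheaf_of_type _ _).2 (classifier_isSheaf J)⟩
  have hΩ := h Ω
  have hY : Presieve.YonedaSheafCondition ((u.op.ran).obj Ω.obj) R :=
    Presieve.isSheafFor_iff_yonedaSheafCondition.1
      ((isSheaf_iff_isSheaf_of_type _ _).1 hΩ R hR)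
  let adj := u.op.ranAdjunction (Type u)
  have htop : ∀ Z : C, J.IsClosed (⊤ : Sieve Z) := fun Z W f _ => trivial
  let α : u.op ⋙ yoneda.obj (u.obj Y) ⟶ Ω.obj :=
    { app := fun Z => TypeCat.ofHom (fun _ => ⟨(⊤ : Sieve Z.unop), htop _⟩)
      naturality := by
        intro Z Z' k
        ext ρ
        apply Subtype.ext
        exact (Sieve.pullback_top).symm }
  let β : u.op ⋙ yoneda.obj (u.obj Y) ⟶ Ω.obj :=
    { app := fun Z => TypeCat.ofHom
        (fun ρ => ⟨J.close ((R.pullback ρ).functorPullback u), J.close_isClosed _⟩)
      naturality := by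
        intro Z Z' k
        ext ρ
        apply Subtype.ext
        show J.close ((R.pullback (u.map k.unop ≫ ρ)).functorPullback u) =
          (J.close ((R.pullback ρ).functorPullback u)).pullback k.unop
        rw [← J.pullback_close]
        congr 1
        ext W g
        simp [Sieve.functorPullback_apply, Sieve.pullback_apply] }
  have hαβ : Functor.whiskerLeft u.op R.functorInclusion ≫ α =
      Functor.whiskerLeft u.op R.functorInclusion ≫ β := by
    ext Z ⟨ρ, hρ⟩
    apply Subtype.ext
    show (⊤ : Sieve Z.unop) = J.close ((R.pullback ρ).functorPullback u)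
    rw [Sieve.pullback_eq_top_of_mem R hρ]
    symm
    rw [J.close_eq_top_iff_mem]
    have : (⊤ : Sieve (u.obj Z.unop)).functorPullback u = ⊤ := by
      ext W g; simp
    rw [this]
    exact J.top_mem _
  have hab : α = β := by
    apply (adj.homEquiv _ _).injective
    refine (hY (R.functorInclusion ≫ adj.homEquiv _ _ α)).unique rfl ?_
    have h1 := adj.homEquiv_naturality_left R.functorInclusion α
    have h2 := adj.homEquiv_naturality_left R.functorInclusion β
    rw [← h2, ← h1]
    congr 1
    exact hαβ.symm
  have := congrArg (fun γ : u.op ⋙ yoneda.obj (u.obj Y) ⟶ Ω.obj =>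
    (γ.app (Opposite.op Y) (𝟙 (u.obj Y))).1) hab
  simp only [α, β] at this
  have h3 : J.close ((R.pullback (𝟙 (u.obj Y))).functorPullback u) = ⊤ := this.symm
  rwa [Sieve.pullback_id] at h3

end Groth.Agent.S6128
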