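import Groth.Statements.S6131
import Groth.Agent.Lib.Helper9Rep
import Mathlib.CategoryTheory.Sites.Closed

set_option autoImplicit false
open CategoryTheory CategoryTheory.Limits
universe u
open SGA4

namespace Groth.Agent.S6131

/-- For a small site `(C, J)` and an object `X` of `C`, the sheaf associated to the presheaf represented
by `X` is an initial object of the category of sheaves of sets if and only if the empty sieve covers
`X`. -/
theorem result
    {C : Type u} [SmallCategory C] (J : GrothendieckTopology C) (X : C) :
    Nonempty (IsInitial ((presheafToSheaf J (Type u)).obj (yoneda.obj X))) ↔ (⊥ : Sieve X) ∈ J X := by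
  constructor
  · rintro ⟨hI⟩
    rw [J.mem_iff_isSheafFor_closedSieves]
    let Ω : Sheaf J (Type u) := ⟨(Functor.closedSieves J).toFunctor,
      (isSheaf_iff_isSheaf_of_type _ _).2 (classifier_isSheaf J)⟩
    have hsub : ∀ a b : Ω.obj.obj (Opposite.op X), a = b := by
      intro a b
      have := hI.hom_ext ((Groth.Agent.Lib.Helper9.shYonedaEquiv J X Ω).symm a)
        ((Groth.Agent.Lib.Helper9.shYonedaEquiv J X Ω).symm b)
      exact (Groth.Agent.Lib.Helper9.shYonedaEquiv J X Ω).symm.injective this
    intro x hx
    have hne : Nonempty (Ω.obj.obj (Opposite.op X)) :=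
      ⟨Groth.Agent.Lib.Helper9.shYonedaEquiv J X Ω (hI.to Ω)⟩
    obtain ⟨t⟩ := hne
    refine ⟨t, ?_, fun t' _ => hsub _ _⟩
    intro W g hg
    exact False.elim hg
  · intro hX
    have huniq : ∀ F : Sheaf J (Type u), ∃! t : F.obj.obj (Opposite.op X), True := by
      intro F
      have hF : Presieve.IsSheafFor F.obj (⊥ : Sieve X).arrows :=
        (isSheaf_iff_isSheaf_of_type _ _).1 F.property _ hX
      let x : Presieve.FamilyOfElements F.obj (⊥ : Sieve X).arrows :=
        fun W f hf => False.elim hf
      have hx : x.Compatible := by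
        intro W₁ W₂ W₃ g₁ g₂ f₁ f₂ h₁
        exact False.elim h₁
      obtain ⟨t, -, ht⟩ := hF x hx
      refine ⟨t, trivial, fun t' _ => ht t' ?_⟩
      intro W f hf
      exact False.elim hf
    refine ⟨IsInitial.ofUniqueHom
      (fun F => (Groth.Agent.Lib.Helper9.shYonedaEquiv J X F).symm (huniq F).choose) ?_⟩
    intro F m
    apply (Groth.Agent.Lib.Helper9.shYonedaEquiv J X F).injective
    exact (huniq F).unique trivial trivial

end Groth.Agent.S6131
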