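import Groth.Statements.S6135
import Groth.Agent.Lib.Helper9Lan

set_option autoImplicit false
open CategoryTheory CategoryTheory.Limits
universe u
open SGA4

namespace Groth.Agent.S6135

/-- Faithful case. Let `u : C ⥤ C'` be a functor between small categories and `u_!` the left Kan
extension functor on presheaves of sets, whose restriction to ind-objects (presheaves that are small
filtered colimits of representables) is the induced functor `Ind C ⥤ Ind C'`. Then `u` is faithful
if and only if `u_!` is injective on morphisms between ind-representable presheaves. -/
theorem result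
    {C : Type u} [SmallCategory C] {C' : Type u} [SmallCategory C'] (u : C ⥤ C') :
    u.Faithful ↔ ∀ (F G : Cᵒᵖ ⥤ Type u), IsIndObject F → IsIndObject G →
      Function.Injective (fun φ : F ⟶ G => (u.op.lan : (Cᵒᵖ ⥤ Type u) ⥤ (C'ᵒᵖ ⥤ Type u)).map φ) := by
  let adj := u.op.lanAdjunction (Type u)
  constructor
  · intro hu F G _ hG
    have hmono : Mono (adj.unit.app G) := by
      have : ∀ X : Cᵒᵖ, Mono ((adj.unit.app G).app X) := by
        intro X
        rw [mono_iff_injective]
        exact Groth.Agent.Lib.Helper9.unit_injective_of_isIndObject u adj G hG X.unop
      exact NatTrans.mono_of_mono_app _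
    exact Groth.Agent.Lib.Helper9.map_injective_of_mono_unit u adj F G
  · intro h
    apply Groth.Agent.Lib.Helper9.faithful_of_lanEta_injective u adj
    intro X X'
    exact Groth.Agent.Lib.Helper9.lanEta_injective_of_map_injective u adj X X'
      (h _ _ (isIndObject_yoneda X') (isIndObject_yoneda X))

end Groth.Agent.S6135
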