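import Groth.Statements.S6139
-- import your own Groth.Agent.* helpers here

set_option autoImplicit false
open CategoryTheory CategoryTheory.Limits
universe v u
open SGA4

namespace Groth.Agent.S6139

/-- For an object `X` of a category `C`, the empty sieve on `X` is covering for the canonical topology
of `C` (the finest topology for which every representable presheaf is a sheaf) if and only if `X` is
a strict initial object: `X` is initial and every morphism with target `X` is an isomorphism. (The
source phrases the first condition as: for some topology coarser than the canonical one the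
associated sheaf of `h_X` is initial; that sheaf is initial exactly when the empty sieve covers `X`,
and coverage by the empty sieve passes to the finer canonical topology.) -/
theorem result
    {C : Type u} [Category.{v} C] (X : C) :
    (⊥ : Sieve X) ∈ Sheaf.canonicalTopology C X ↔
      (Nonempty (IsInitial X) ∧ ∀ (Y : C) (f : Y ⟶ X), IsIso f) := by
  -- an object covered by the empty sieve (canonical topology) is initial
  have init : ∀ (Y : C), (⊥ : Sieve Y) ∈ Sheaf.canonicalTopology C Y → Nonempty (IsInitial Y) := by
    intro Y hY
    have hsh : ∀ Z : C, Presieve.IsSheafFor (yoneda.obj Z) (⊥ : Sieve Y).arrows :=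
      fun Z => Sheaf.isSheaf_yoneda_obj Z _ hY
    have huniq : ∀ Z : C, ∃! t : Y ⟶ Z, True := by
      intro Z
      let x : Presieve.FamilyOfElements (yoneda.obj Z) (⊥ : Sieve Y).arrows :=
        fun W f hf => False.elim hf
      have hx : x.Compatible := by
        intro W₁ W₂ W₃ g₁ g₂ f₁ f₂ h₁
        exact False.elim h₁
      obtain ⟨t, -, ht⟩ := hsh Z x hx
      refine ⟨t, trivial, fun t' _ => ht t' ?_⟩
      intro W f hf
      exact False.elim hf
    refine ⟨IsInitial.ofUniqueHom (fun Z => (huniq Z).choose) ?_⟩
    intro Z m
    exact (huniq Z).unique trivial trivial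
  constructor
  · intro hX
    refine ⟨init X hX, ?_⟩
    intro Y f
    have hY : (⊥ : Sieve Y) ∈ Sheaf.canonicalTopology C Y := by
      have := (Sheaf.canonicalTopology C).pullback_stable f hX
      rwa [Sieve.pullback_bot] at this
    obtain ⟨hXi⟩ := init X hX
    obtain ⟨hYi⟩ := init Y hY
    exact ⟨⟨hXi.to Y, hYi.hom_ext _ _, hXi.hom_ext _ _⟩⟩
  · rintro ⟨⟨hXi⟩, hiso⟩
    refine Sheaf.mem_finestTopology_of_forall_isSheafFor ?_
    rintro _ ⟨Z, rfl⟩ Y f
    have := hiso Y f
    have hYi : IsInitial Y := hXi.ofIso (asIso f).symm
    rw [Sieve.pullback_bot]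
    intro x hx
    refine ⟨hYi.to Z, ?_, fun t _ => hYi.hom_ext _ _⟩
    intro W g hg
    exact False.elim hg

end Groth.Agent.S6139
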