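import Groth.Statements.S6142
-- import your own Groth.Agent.* helpers here

set_option autoImplicit false
open CategoryTheory
universe u
open SGA4

namespace Groth.Agent.S6142

/-- Let `u : C ⥤ C'` be a continuous and cocontinuous functor between small sites whose topologies are
subcanonical. If the left adjoint `u_!` of the restriction functor `u^*` on sheaves of sets is full
and faithful, then `u` is full and faithful. -/
theorem result
    {C : Type u} [SmallCategory C] {C' : Type u} [SmallCategory C']
    (J : GrothendieckTopology C) (K : GrothendieckTopology C') [J.Subcanonical] [K.Subcanonical]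
    (u : C ⥤ C') [u.IsContinuous J K] [u.IsCocontinuous J K]
    (h : (u.sheafPullback (Type u) J K).Full ∧ (u.sheafPullback (Type u) J K).Faithful) :
    u.Full ∧ u.Faithful := by
  obtain ⟨hfull, hfaith⟩ := h
  let L := u.sheafPullback (Type u) J K
  let R := u.sheafPushforwardContinuous (Type u) J K
  let adj : L ⊣ R := u.sheafAdjunctionContinuous (Type u) J K
  have hηiso : ∀ F : Sheaf J (Type u), IsIso (adj.unit.app F) := fun F => inferInstance
  -- the unit at the representable sheaf `h_X`, as a natural transformation of presheaves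
  let η : ∀ X : C, yoneda.obj X ⟶ u.op ⋙ (L.obj (J.yoneda.obj X)).obj :=
    fun X => (adj.unit.app (J.yoneda.obj X)).hom
  have hηbij : ∀ (X X' : C), Function.Bijective ((η X).app (Opposite.op X')) := by
    intro X X'
    have h1 : IsIso ((sheafToPresheaf J (Type u)).map (adj.unit.app (J.yoneda.obj X))) :=
      inferInstance
    have h2 : IsIso (η X) := h1
    have h3 : IsIso ((η X).app (Opposite.op X')) := inferInstance
    exact (isIso_iff_bijective _).1 h3
  -- the canonical element of `(u_! h_X)(u X)`
  let e : ∀ X : C, (L.obj (J.yoneda.obj X)).obj.obj (Opposite.op (u.obj X)) :=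
    fun X => (η X).app (Opposite.op X) (𝟙 X)
  have hηe : ∀ (X X' : C) (a : X' ⟶ X),
      (η X).app (Opposite.op X') a = (L.obj (J.yoneda.obj X)).obj.map (u.map a).op (e X) := by
    intro X X' a
    have := ConcreteCategory.congr_hom ((η X).naturality a.op) (𝟙 X)
    simp only [ConcreteCategory.comp_apply] at this
    have h4 : (yoneda.obj X).map a.op (𝟙 X) = a := by simp
    rw [h4] at this
    exact this
  -- the map `u_! h_X ⟶ h_{u X}` corresponding to `u` on hom-sets
  let τ' : ∀ X : C, yoneda.obj X ⟶ u.op ⋙ yoneda.obj (u.obj X) := fun X =>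
    { app := fun X' => TypeCat.ofHom (fun a => u.map a)
      naturality := by
        intro X' X'' k
        ext a
        simp }
  let τ : ∀ X : C, J.yoneda.obj X ⟶ R.obj (K.yoneda.obj (u.obj X)) := fun X =>
    ObjectProperty.homMk (τ' X)
  let σ : ∀ X : C, L.obj (J.yoneda.obj X) ⟶ K.yoneda.obj (u.obj X) := fun X =>
    (adj.homEquiv _ _).symm (τ X)
  have hσe : ∀ X : C, (σ X).hom.app (Opposite.op (u.obj X)) (e X) = 𝟙 (u.obj X) := by
    intro X
    have h5 : adj.unit.app (J.yoneda.obj X) ≫ R.map (σ X) = τ X := by
      have := adj.homEquiv_unit (J.yoneda.obj X) (K.yoneda.obj (u.obj X)) (σ X)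
      rw [← this]
      exact Equiv.apply_symm_apply _ _
    have h6 : (adj.unit.app (J.yoneda.obj X) ≫ R.map (σ X)).hom = (τ X).hom :=
      congrArg (fun f => f.hom) h5
    have h7 := ConcreteCategory.congr_hom (congrArg (fun f => NatTrans.app f (Opposite.op X)) h6)
      (𝟙 X)
    have h8 : (τ' X).app (Opposite.op X) (𝟙 X) = 𝟙 (u.obj X) := by
      simp [τ']
    exact h7.trans h8
  have hσ : ∀ (X X' : C) (k : u.obj X' ⟶ u.obj X),
      (σ X).hom.app (Opposite.op (u.obj X'))
        ((L.obj (J.yoneda.obj X)).obj.map k.op (e X)) = k := by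
    intro X X' k
    have := ConcreteCategory.congr_hom ((σ X).hom.naturality k.op) (e X)
    simp only [ConcreteCategory.comp_apply] at this
    rw [this, hσe]
    simp
  refine ⟨⟨?_⟩, ⟨?_⟩⟩
  · intro X' X g
    obtain ⟨a, ha⟩ := (hηbij X X').2 ((L.obj (J.yoneda.obj X)).obj.map g.op (e X))
    refine ⟨a, ?_⟩
    rw [hηe] at ha
    have := congrArg ((σ X).hom.app (Opposite.op (u.obj X'))) ha
    rwa [hσ, hσ] at this
  · intro X' X a b hab
    apply (hηbij X X').1
    rw [hηe, hηe, hab]

end Groth.Agent.S6142
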