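import Groth.Statements.S6144
import Mathlib.Logic.Small.Set

set_option autoImplicit false
open CategoryTheory CategoryTheory.Limits
universe w v u
open SGA4

namespace Groth.Agent.S6144

/-- Let `E` be a category with `v`-small hom-sets and pullbacks, admitting a detecting family of objects
indexed by a `v`-small type (maps out of the family jointly reflect isomorphisms). Then every
detecting family `Y : I → E`, indexed by an arbitrary type, contains a detecting subfamily indexed
by a `v`-small subset of `I`. -/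
theorem result
    {E : Type u} [Category.{v} E] [HasPullbacks E] {κ : Type v} (G : κ → E)
    (hG : (ObjectProperty.ofObj G).IsDetecting) {I : Type w} (Y : I → E)
    (hY : (ObjectProperty.ofObj Y).IsDetecting) :
    ∃ J : Set I, Small.{v} J ∧ (ObjectProperty.ofObj (fun j : J => Y j)).IsDetecting := by
  classical
  -- Step 0: a mono through which all points from a detecting family factor is an isomorphism
  have lemD : ∀ {P : ObjectProperty E}, P.IsDetecting → ∀ {A B : E} (m : A ⟶ B) [Mono m],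
      (∀ T, P T → ∀ h : T ⟶ B, ∃ h' : T ⟶ A, h' ≫ m = h) → IsIso m := by
    intro P hP A B m _ hm
    apply hP
    intro T hT h
    obtain ⟨h', hh'⟩ := hm T hT h
    exact ⟨h', hh', fun h'' hh'' => (cancel_mono m).1 (hh''.trans hh'.symm)⟩
  -- comparing subobjects through their `G`-points
  have lemS : ∀ {A₁ A₂ B : E} (m₁ : A₁ ⟶ B) (m₂ : A₂ ⟶ B) [Mono m₁] [Mono m₂],
      (∀ (k : κ) (p : G k ⟶ B), (∃ l, l ≫ m₁ = p) → (∃ l, l ≫ m₂ = p)) →
      ∃ e : A₁ ⟶ A₂, e ≫ m₂ = m₁ := by
    intro A₁ A₂ B m₁ m₂ _ _ h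
    have : IsIso (pullback.fst m₁ m₂) := by
      apply lemD hG
      rintro _ ⟨k⟩ l
      obtain ⟨l₂, hl₂⟩ := h k (l ≫ m₁) ⟨l, rfl⟩
      exact ⟨pullback.lift l l₂ hl₂.symm, pullback.lift_fst _ _ _⟩
    refine ⟨inv (pullback.fst m₁ m₂) ≫ pullback.snd m₁ m₂, ?_⟩
    rw [Category.assoc, ← pullback.condition, IsIso.inv_hom_id_assoc]
  -- the index set
  let Pts : ∀ (k : κ) {A : E} (m : A ⟶ G k), Set (Σ k' : κ, G k' ⟶ G k) :=
    fun k A m => {p | ∃ l, l ≫ m = p.2}
  let Q : (Σ k : κ, Set (Σ k' : κ, G k' ⟶ G k)) → Prop := fun kT =>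
    ∃ (A : E) (m : A ⟶ G kT.1), Mono m ∧ ¬ IsIso m ∧ kT.2 = Pts kT.1 m
  -- for a non-iso mono into `G k`, some `Y i` has a point not factoring through it
  have hex : ∀ {k : κ} {A : E} (m : A ⟶ G k), Mono m → ¬ IsIso m →
      ∃ (i : I) (h : Y i ⟶ G k), ¬ ∃ h' : Y i ⟶ A, h' ≫ m = h := by
    intro k A m hm hniso
    by_contra hcon
    push_neg at hcon
    apply hniso
    apply lemD hY
    rintro _ ⟨i⟩ h
    exact hcon i h
  let idx : {kT // Q kT} → I := fun kT =>
    (hex kT.2.choose_spec.choose kT.2.choose_spec.choose_spec.1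
      kT.2.choose_spec.choose_spec.2.1).choose
  refine ⟨Set.range idx, small_range idx, ?_⟩
  -- Claim M: monos detected by `J`
  have claimM : ∀ {A B : E} (m : A ⟶ B) [Mono m],
      (∀ (j : Set.range idx) (h : Y j ⟶ B), ∃ h' : Y j ⟶ A, h' ≫ m = h) → IsIso m := by
    intro A B m _ hm
    apply lemD hG
    rintro _ ⟨k⟩ g
    by_cases hiso : IsIso (pullback.snd m g)
    · exact ⟨inv (pullback.snd m g) ≫ pullback.fst m g, by
        rw [Category.assoc, pullback.condition, IsIso.inv_hom_id_assoc]⟩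
    · exfalso
      have hQ : Q ⟨k, Pts k (pullback.snd m g)⟩ := ⟨_, pullback.snd m g, inferInstance, hiso, rfl⟩
      let kT : {kT // Q kT} := ⟨⟨k, Pts k (pullback.snd m g)⟩, hQ⟩
      let A₀ := kT.2.choose
      let m₀ : A₀ ⟶ G k := kT.2.choose_spec.choose
      have hm₀ : Mono m₀ := kT.2.choose_spec.choose_spec.1
      have hpts : Pts k (pullback.snd m g) = Pts k m₀ := kT.2.choose_spec.choose_spec.2.2
      have hspec := (hex m₀ hm₀ kT.2.choose_spec.choose_spec.2.1).choose_spec
      obtain ⟨h, hh⟩ := hspec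
      -- `m'` factors through `m₀`
      obtain ⟨e, he⟩ := lemS (pullback.snd m g) m₀ (by
        intro k' p hp
        have : (⟨k', p⟩ : Σ k' : κ, G k' ⟶ G k) ∈ Pts k (pullback.snd m g) := hp
        rw [hpts] at this
        exact this)
      obtain ⟨e', he'⟩ := lemS m₀ (pullback.snd m g) (by
        intro k' p hp
        have : (⟨k', p⟩ : Σ k' : κ, G k' ⟶ G k) ∈ Pts k m₀ := hp
        rw [← hpts] at this
        exact this)
      apply hh
      obtain ⟨h'', hh''⟩ := hm ⟨idx kT, kT, rfl⟩ (h ≫ g)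
      exact ⟨pullback.lift h'' h hh'' ≫ e, by rw [Category.assoc, he, pullback.lift_snd]⟩
  -- general case
  intro A B f hf
  have hf' : ∀ (j : Set.range idx) (h : Y j ⟶ B), ∃! h' : Y j ⟶ A, h' ≫ f = h :=
    fun j h => hf _ ⟨j⟩ h
  let Δ : A ⟶ pullback f f := pullback.lift (𝟙 A) (𝟙 A) rfl
  have hΔfst : Δ ≫ pullback.fst f f = 𝟙 A := pullback.lift_fst _ _ _
  have hΔsnd : Δ ≫ pullback.snd f f = 𝟙 A := pullback.lift_snd _ _ _
  have hΔmono : Mono Δ := by
    refine ⟨fun a b hab => ?_⟩
    have := congrArg (fun t => t ≫ pullback.fst f f) hab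
    simp only [Category.assoc, hΔfst, Category.comp_id] at this
    exact this
  have hΔiso : IsIso Δ := by
    apply claimM
    intro j h
    refine ⟨h ≫ pullback.fst f f, ?_⟩
    have heq : h ≫ pullback.fst f f = h ≫ pullback.snd f f := by
      apply (hf' j ((h ≫ pullback.fst f f) ≫ f)).unique rfl
      rw [Category.assoc, Category.assoc, pullback.condition]
    apply pullback.hom_ext
    · rw [Category.assoc, hΔfst, Category.comp_id]
    · rw [Category.assoc, hΔsnd, Category.comp_id, heq]
  have hfstsnd : pullback.fst f f = pullback.snd f f := by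
    rw [← cancel_epi Δ, hΔfst, hΔsnd]
  have hfmono : Mono f := by
    refine ⟨fun a b hab => ?_⟩
    have h1 : pullback.lift a b hab ≫ pullback.fst f f = a := pullback.lift_fst _ _ _
    have h2 : pullback.lift a b hab ≫ pullback.snd f f = b := pullback.lift_snd _ _ _
    calc a = pullback.lift a b hab ≫ pullback.fst f f := h1.symm
      _ = pullback.lift a b hab ≫ pullback.snd f f := by rw [hfstsnd]
      _ = b := h2
  apply claimM
  intro j h
  exact (hf' j h).exists

end Groth.Agent.S6144
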