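import Groth.Statements.S6149
import Groth.Agent.Lib.Helper21ModTensor5
import Groth.Agent.Lib.Helper21FlatCx

set_option autoImplicit false
universe u
open CategoryTheory
open ModSite

namespace Groth.Agent.S6149

open CategoryTheory.Limits in
theorem isFlat_of_isZero {C : Type u} [SmallCategory C] {J : GrothendieckTopology C}
    (O : Sheaf J CommRingCat.{u}) (X : ModSite.Mod O) (hX : IsZero X) : ModSite.IsFlat X :=
  Groth.Agent.Lib.Helper21.ModTensor5.isFlat_of_isColimit_cofan O
    (fun (i : PEmpty.{u + 1}) => i.elim) (fun i => i.elim) (Cofan.mk X (fun i => i.elim))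
    (mkCofanColimit _ (fun s => hX.to_ _) (by rintro _ ⟨⟩) (fun s m _ => hX.eq_of_src _ _))

open CategoryTheory.Limits in
/-- Ringed topos of sheaves on a small site with commutative structure sheaf O: let M be an acyclic
chain complex of flat O-modules with M_i = 0 for i below some bound. Then for every O-module F the
complex M (x)_O F (tensoring termwise with F) is acyclic. The instance binder on the tensor functor
(it preserves zero morphisms) always holds and is only needed to form the complex. -/
theorem result {C : Type u} [SmallCategory C] {J : GrothendieckTopology C}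
    (O : Sheaf J CommRingCat.{u}) (M : ChainComplex (ModSite.Mod O) ℤ) (F : ModSite.Mod O)
    [((ModSite.tensorBi O).flip.obj F).PreservesZeroMorphisms]
    (hb : ∃ i₀ : ℤ, ∀ i, i < i₀ → IsZero (M.X i)) (hM : ∀ i, ModSite.IsFlat (M.X i)) (hac : M.Acyclic) :
    ((((ModSite.tensorBi O).flip.obj F).mapHomologicalComplex (ComplexShape.down ℤ)).obj M).Acyclic := by
  exact Groth.Agent.Lib.Helper21.FlatCx.acyclic_map ((ModSite.tensorBi O).flip.obj F)
    (fun X => ModSite.IsFlat X) (isFlat_of_isZero O)
    (fun S hS h2 h3 => Groth.Agent.Lib.Helper21.ModTensor5.isFlat_left O S hS h2 h3)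
    (fun S hS h3 => Groth.Agent.Lib.Helper21.ModTensor5.shortExact_tensor O S hS h3 F)
    M hb hM hac

end Groth.Agent.S6149
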