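import Groth.Statements.S6156
import Groth.Agent.Lib.Helper21ExtZero6

set_option autoImplicit false
universe u
open CategoryTheory
open ModSite

namespace Groth.Agent.S6156

open Groth.Agent.Lib.Helper21 Groth.Agent.Lib.Helper21.ModTensor2 Groth.Agent.Lib.Helper21.ModTensor3 Groth.Agent.Lib.Helper21.ModTensor5 Groth.Agent.Lib.Helper21.ExtZeroS

/-- Ringed topos of sheaves on a small site with commutative structure sheaf O, localised at an object
X: j_X^* Hom_O(M, N) is isomorphic to Hom_{O|X}(j_X^* M, j_X^* N). Existence of an isomorphism only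
(the source's Phi_X is canonical); the binders providing the internal hom functors always hold. -/
theorem result {C : Type u} [SmallCategory C] {J : GrothendieckTopology C} (O : Sheaf J CommRingCat.{u})
    (X : C) (M N : ModSite.Mod O) [ModSite.HasSheafHom M] [ModSite.HasSheafHom ((ModSite.restr O X).obj M)] :
    Nonempty ((ModSite.restr O X).obj ((ModSite.sheafHom M).obj N) ≅
      (ModSite.sheafHom ((ModSite.restr O X).obj M)).obj ((ModSite.restr O X).obj N)) := by
  let adj1 : jShriek O X ⋙ tR O M ⊣ ModSite.sheafHom M ⋙ ModSite.restr O X :=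
    (jShriekAdj O X).comp (ModSite.sheafHomAdj M)
  let adj2 : tR (O.over X) ((ModSite.restr O X).obj M) ⋙ jShriek O X ⊣
      ModSite.restr O X ⋙ ModSite.sheafHom ((ModSite.restr O X).obj M) :=
    (ModSite.sheafHomAdj ((ModSite.restr O X).obj M)).comp (jShriekAdj O X)
  exact ⟨((adj1.ofNatIsoLeft (projR O X M).symm).rightAdjointUniq adj2).app N⟩

end Groth.Agent.S6156
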