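import Groth.Statements.S6159
import Groth.Agent.Lib.Helper9Canon

set_option autoImplicit false
universe u
open CategoryTheory
open SGA4

namespace Groth.Agent.S6159

open CategoryTheory.Limits in
/-- Sheaf topoi on small sites (C, J), (D, K), each with its canonical topology: a functor f from
sheaves of sets on C to sheaves of sets on D commutes with all u-small colimits if and only if it is
continuous, i.e. composition with f carries every sheaf of sets for the canonical topology of the
target to a sheaf for the canonical topology of the source. (Continuity is Mathlib's
`Functor.IsContinuous`: on these large sites it tests sheaves with values in the next universe,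
`Type (u+1)`, which is the source's choice of a larger universe for the test sheaves; the hom
universe is u. The equivalence of both conditions with f being a left adjoint is a separate result,
not stated here.) -/
theorem result {C D : Type u} [SmallCategory C] [SmallCategory D]
    (J : GrothendieckTopology C) (K : GrothendieckTopology D) (f : Sheaf J (Type u) ⥤ Sheaf K (Type u)) :
    PreservesColimitsOfSize.{u, u} f ↔
      f.IsContinuous.{u} (Sheaf.canonicalTopology (Sheaf J (Type u))) (Sheaf.canonicalTopology (Sheaf K (Type u))) := by
  constructor
  · intro h
    refine ⟨fun G => ?_⟩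
    have hG : PreservesLimitsOfSize.{u, u} G.obj :=
      (Groth.Agent.Lib.Helper9.isSheaf_canonical_iff_preservesLimits_type G.obj).1
        ((isSheaf_iff_isSheaf_of_type _ _).1 G.property)
    have hfop : PreservesLimitsOfSize.{u, u} f.op := preservesLimitsOfSize_op f
    rw [Groth.Agent.Lib.Helper9.isSheaf_canonical_iff_preservesLimits_type]
    infer_instance
  · intro h
    have hy : ∀ M : Sheaf K (Type u), PreservesLimitsOfSize.{u, u} (f.op ⋙ yoneda.obj M) := by
      intro M
      rw [← Groth.Agent.Lib.Helper9.isSheaf_canonical_iff_preservesLimits_type]
      exact Functor.op_comp_isSheaf_of_types f _ _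
        ⟨yoneda.obj M, (isSheaf_iff_isSheaf_of_type _ _).2 (Sheaf.isSheaf_yoneda_obj M)⟩
    have hfop : PreservesLimitsOfSize.{u, u} f.op := by
      refine ⟨fun {K'} _ => ⟨fun {D} => ⟨fun {c} hc =>
        ⟨yonedaJointlyReflectsLimits _ _ fun M => ?_⟩⟩⟩⟩
      haveI := hy M
      exact isLimitOfPreserves (f.op ⋙ yoneda.obj M) hc
    exact preservesColimitsOfSize_of_op f

end Groth.Agent.S6159
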