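import Groth.Statements.S6163
import Mathlib
import Groth.Agent.S11918
import Groth.Agent.Lib.Helper23LocSS
import Groth.Agent.Lib.Helper23Leray
import Groth.Agent.Lib.Helper23Acyclic
import Groth.Agent.Lib.Helper23ExtRD
import Groth.Agent.Lib.Helper21PushAcyc

set_option autoImplicit false
universe u
open CategoryTheory
open scoped ZeroObject
open CohSite

namespace Groth.Agent.S6163

open Groth.Agent.Lib.Helper23SS3 Groth.Agent.Lib.Helper23SS5 Groth.Agent.S12229
  Groth.Agent.Lib.Helper23Acyclic Groth.Agent.Lib.Helper23Leray Groth.Agent.Lib.Helper23Bridge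
  Groth.Agent.Lib.Helper23LocSS Groth.Agent.Lib.Helper23ExtRD
  Groth.Agent.Lib.Helper21.PushAcyc
  Opposite

open CategoryTheory.Limits in
/-- Existence form (abelian sheaves; the two morphisms of topoi are given by continuous functors u : D
-> C and w : B -> D between small sites with exact pullback on sheaves of sets; the composite
morphism is given by w followed by u, whose continuity is recorded by a binder that always holds):
for an abelian sheaf M on C there is a bounded E_2 spectral sequence of abelian sheaves on B with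
E_2^{p,q} isomorphic to R^p w_*(R^q u_* M) for p, q >= 0 and zero otherwise, with abutment data
whose filtrations are finite on R^n (u w)_* M (n >= 0; zero for n < 0). The E_2 identifications and
abutment isomorphisms are asserted to exist only, not pinned to the canonical maps. -/
theorem result {C D B : Type u} [SmallCategory C] [SmallCategory D]
    [SmallCategory B] (J : GrothendieckTopology C) (K : GrothendieckTopology D) (L : GrothendieckTopology B)
    (u : D ⥤ C) [u.IsContinuous K J] [PreservesFiniteLimits (u.sheafPullback (Type u) K J)]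
    (w : B ⥤ D) [w.IsContinuous L K] [PreservesFiniteLimits (w.sheafPullback (Type u) L K)]
    [(w ⋙ u).IsContinuous L J] (M : Sheaf J AddCommGrpCat.{u}) :
    ∃ (E : E₂CohomologicalSpectralSequence (Sheaf L AddCommGrpCat.{u}))
      (a : SpSeq.Abutment E (fun n : ℤ =>
        if 0 ≤ n then (CohSite.Rpush J L (w ⋙ u) n.toNat).obj M else 0)),
      (∀ n, a.IsFinite n) ∧ SpSeq.IsBounded E ∧
      ∀ p q : ℤ, Nonempty ((E.page 2 le_rfl).X (p, q) ≅
        (if 0 ≤ p ∧ 0 ≤ q then (CohSite.Rpush K L w p.toNat).obj ((CohSite.Rpush J K u q.toNat).obj M) else 0)) := by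
  let T : Sheaf J AddCommGrpCat.{u} ⥤ Sheaf K AddCommGrpCat.{u} := CohSite.push J K u
  let S : Sheaf K AddCommGrpCat.{u} ⥤ Sheaf L AddCommGrpCat.{u} := CohSite.push K L w
  have hT : ∀ Q : Sheaf J AddCommGrpCat.{u}, Injective Q → ∀ q : ℕ, 0 < q →
      IsZero ((S.rightDerived q).obj (T.obj Q)) := by
    intro Q hQ q hq
    obtain ⟨q, rfl⟩ : ∃ k, q = k + 1 := ⟨q - 1, by lia⟩
    haveI : Injective (T.obj Q) := (CohSite.push J K u).injective_obj_of_injective hQ
    exact Functor.isZero_rightDerived_obj_injective_succ S q (T.obj Q)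
  have : HasDerivedCategory.{u + 1} (Sheaf J AddCommGrpCat.{u}) := HasDerivedCategory.standard _
  have : HasDerivedCategory.{u + 1} (Sheaf K AddCommGrpCat.{u}) := HasDerivedCategory.standard _
  have : HasDerivedCategory.{u + 1} (Sheaf L AddCommGrpCat.{u}) := HasDerivedCategory.standard _
  let I : InjectiveResolution M := injectiveResolution M
  let TI : CochainComplex (Sheaf K AddCommGrpCat.{u}) ℤ :=
    (T.mapHomologicalComplex (ComplexShape.up ℤ)).obj I.cochainComplex
  have hTI : TI.IsStrictlyGE 0 := by dsimp [TI]; infer_instance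
  let K' : CochainComplex.Plus (Sheaf K AddCommGrpCat.{u}) := ⟨TI, 0, hTI⟩
  let Y' := DerivedCategory.Plus.Q.obj K'
  have hY : Y'.IsGE 0 := by
    rw [← DerivedCategory.Plus.isGE_ι_obj_iff]
    show (DerivedCategory.Q.obj TI).IsGE 0
    infer_instance
  have hK : IsIso (τ S K') := leray S K' (fun m => (acyclic_iff S _).2 (hT _ (by
    show Injective (I.cochainComplex.X m); infer_instance)))
  let isoTS : T ⋙ S ≅ CohSite.push J L (w ⋙ u) := Iso.refl _
  have e : ∀ n : ℤ, Nonempty ((DerivedCategory.homologyFunctor (Sheaf L AddCommGrpCat.{u}) n).obj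
      ((G S).obj Y') ≅
      (if 0 ≤ n then (CohSite.Rpush J L (w ⋙ u) n.toNat).obj M else 0)) := by
    intro n
    obtain ⟨e₁⟩ := homology_G_Q S K' hK n
    by_cases h : 0 ≤ n
    · rw [if_pos h]
      obtain ⟨e₂⟩ := homology_map_cochainComplex (T ⋙ S) I n.toNat n (Int.toNat_of_nonneg h)
      let e₃ := (rightDerivedIso isoTS n.toNat).app M
      exact ⟨e₁ ≪≫ e₂ ≪≫ e₃⟩
    · rw [if_neg h]
      exact ⟨e₁ ≪≫ (isZero_homology_map_cochainComplex (T ⋙ S) I n (by lia)).isoZero⟩
  obtain ⟨E, a, ha, hE, hpq⟩ := exists_spectralSequence S Y' _ (fun n => (e n).some)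
  refine ⟨E, a, ha, hE, fun p q => ?_⟩
  by_cases h : 0 ≤ p ∧ 0 ≤ q
  · rw [if_pos h]
    obtain ⟨e₁⟩ := (hpq p q).1 p.toNat (Int.toNat_of_nonneg h.1)
    obtain ⟨e₂⟩ := homology_map_cochainComplex T I q.toNat q (Int.toNat_of_nonneg h.2)
    exact ⟨e₁ ≪≫ (S.rightDerived p.toNat).mapIso
      ((DerivedCategory.homologyFunctorFactors (Sheaf K AddCommGrpCat.{u}) q).app TI ≪≫ e₂)⟩
  · rw [if_neg h]
    exact ⟨((hpq p q).2 h).isoZero⟩

end Groth.Agent.S6163
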