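import Groth.Statements.S6170
import Groth.Agent.Lib.Helper21ExtZero6
import Groth.Agent.Lib.Helper21UnitHom
import Groth.Agent.S6165
import Groth.Agent.S6156

set_option autoImplicit false
universe u
open CategoryTheory
open ModSite

namespace Groth.Agent.S6170

open Groth.Agent.Lib.Helper21 Groth.Agent.Lib.Helper21.ModTensor2 Groth.Agent.Lib.Helper21.ModTensor3 Groth.Agent.Lib.Helper21.ModTensor5 Groth.Agent.Lib.Helper21.ExtZeroS Opposite

/-- Hom-congruence along an isomorphism in the source, additively. -/
noncomputable def homCongrLeftAdd {A : Type*} [Category A] [Preadditive A] {X Y : A} (e : X ≅ Y) (Z : A) :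
    (X ⟶ Z) ≃+ (Y ⟶ Z) where
  toFun f := e.inv ≫ f
  invFun g := e.hom ≫ g
  left_inv f := by simp
  right_inv g := by simp
  map_add' f g := Preadditive.comp_add _ _ _ _ _ _

/-- Ringed topos of sheaves on a small site with commutative structure sheaf O: the sections of the
internal hom Hom_O(M, N) over an object X form a group isomorphic to Hom_{O|X}(j_X^* M, j_X^* N).
Existence of an additive isomorphism only (the source's is canonical); the internal-hom binder
always holds. -/
theorem result {C : Type u} [SmallCategory C] {J : GrothendieckTopology C} (O : Sheaf J CommRingCat.{u})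
    (M N : ModSite.Mod O) [ModSite.HasSheafHom M] (X : C) :
    Nonempty (ModSite.sect ((ModSite.sheafHom M).obj N) X ≃+ ((ModSite.restr O X).obj M ⟶ (ModSite.restr O X).obj N)) := by
  haveI : ModSite.HasSheafHom ((ModSite.restr O X).obj M) :=
    Groth.Agent.S6165.result (O.over X) _
  obtain ⟨e⟩ := Groth.Agent.S6156.result O X M N
  let T : Over X := Over.mk (𝟙 X)
  have hT : Limits.IsTerminal T := Over.mkIdTerminal
  let H' := (ModSite.sheafHom ((ModSite.restr O X).obj M)).obj ((ModSite.restr O X).obj N)
  -- step 2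
  let e2 : ((ModSite.restr O X).obj ((ModSite.sheafHom M).obj N)).val.obj (op T) ≃+ H'.val.obj (op T) :=
    ((SheafOfModules.evaluation _ (op T)).mapIso e).toLinearEquiv.toAddEquiv
  -- step 3
  let e3 : (ModSite.unit (O.over X) ⟶ H') ≃+ H'.val.obj (op T) :=
    UnitHom.unitHomAddEquiv hT H'
  -- step 4
  let e4 : ((tR (O.over X) ((ModSite.restr O X).obj M)).obj (ModSite.unit (O.over X)) ⟶
      (ModSite.restr O X).obj N) ≃+ (ModSite.unit (O.over X) ⟶ H') :=
    (ModSite.sheafHomAdj ((ModSite.restr O X).obj M)).homAddEquiv _ _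
  -- step 5
  let e5 : ((tL (O.over X) (ModSite.unit (O.over X))).obj ((ModSite.restr O X).obj M) ⟶
      (ModSite.restr O X).obj N) ≃+ ((ModSite.restr O X).obj M ⟶ (ModSite.restr O X).obj N) :=
    homCongrLeftAdd ((ModTensor7.tLUnitIso (O.over X)).app _) _
  exact ⟨e2.trans (e3.symm.trans (e4.symm.trans e5))⟩

end Groth.Agent.S6170
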