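import Groth.Statements.S6172
-- import your own Groth.Agent.* helpers here

set_option autoImplicit false
universe u
open CategoryTheory
open SGA4

namespace Groth.Agent.S6172

open CategoryTheory.Limits MonoidalCategory in
/-- Topos E of sheaves of sets on a small site, localised at an object Z: with j_Z : E/Z -> E the
localisation morphism, j_Z^* X = Z x X over Z, and j_{Z*} its right adjoint (taken as an instance
hypothesis, which holds in any topos), j_{Z*} j_Z^* Y is isomorphic to the internal hom Hom(Z, Y)
for every object Y. Existence of an isomorphism only (the source's is canonical). -/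
theorem result {C : Type u} [SmallCategory C] (J : GrothendieckTopology C)
    (Z Y : Sheaf J (Type u)) [(Over.star Z).IsLeftAdjoint] :
    Nonempty (((Over.star Z).rightAdjoint).obj ((Over.star Z).obj Y) ≅ (ihom Z).obj Y) := by
  let adj1 : Over.star Z ⋙ Over.forget Z ⊣ Over.star Z ⋙ (Over.star Z).rightAdjoint :=
    (Adjunction.ofIsLeftAdjoint (Over.star Z)).comp (Over.forgetAdjStar Z)
  let κ : ∀ W : Sheaf J (Type u), Z ⊗ W ≅ Z ⨯ W := fun W =>
    IsLimit.conePointUniqueUpToIso
      (t := BinaryFan.mk (Limits.prod.fst : Z ⨯ W ⟶ Z) Limits.prod.snd)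
      (CartesianMonoidalCategory.tensorProductIsBinaryProduct Z W) (prodIsProd Z W)
  have h1 : ∀ W : Sheaf J (Type u), (κ W).hom ≫ Limits.prod.fst =
      CartesianMonoidalCategory.fst Z W := fun W =>
    IsLimit.conePointUniqueUpToIso_hom_comp
      (CartesianMonoidalCategory.tensorProductIsBinaryProduct Z W) (prodIsProd Z W)
      ⟨WalkingPair.left⟩
  have h2 : ∀ W : Sheaf J (Type u), (κ W).hom ≫ Limits.prod.snd =
      CartesianMonoidalCategory.snd Z W := fun W =>
    IsLimit.conePointUniqueUpToIso_hom_comp
      (CartesianMonoidalCategory.tensorProductIsBinaryProduct Z W) (prodIsProd Z W)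
      ⟨WalkingPair.right⟩
  have nat : ∀ {Y Y' : Sheaf J (Type u)} (f : Y ⟶ Y'),
      (Z ◁ f) ≫ (κ Y').hom = (κ Y).hom ≫ Limits.prod.map (𝟙 Z) f := by
    intro Y Y' f
    apply Limits.prod.hom_ext
    · rw [Category.assoc, Category.assoc, h1, prod.map_fst, Category.comp_id, h1]
      exact CartesianMonoidalCategory.whiskerLeft_fst _ _
    · rw [Category.assoc, Category.assoc, h2, prod.map_snd, ← Category.assoc, h2]
      exact CartesianMonoidalCategory.whiskerLeft_snd _ _
  let e : tensorLeft Z ≅ Over.star Z ⋙ Over.forget Z :=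
    NatIso.ofComponents κ (fun f => nat f)
  let adj2 : Over.star Z ⋙ Over.forget Z ⊣ ihom Z := (ihom.adjunction Z).ofNatIsoLeft e
  exact ⟨(adj1.rightAdjointUniq adj2).app Y⟩

end Groth.Agent.S6172
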