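import Groth.Statements.S6173
import Mathlib

set_option autoImplicit false
universe u
open CategoryTheory
open SGA4

namespace Groth.Agent.S6173

/-- Second assertion (topos of sheaves on a small site (C, J); E/X_i the induced topoi, modelled by the
sites (C/X_i, J/X_i); 'enough points' = a small conservative family of points, equivalently all
fibre functors together are conservative): if (X_i) is a family of objects covering the final object
and every E/X_i has enough points, then E has enough points. (The first assertion, that E/X inherits
enough points from E, is Mathlib's instance.) -/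
theorem result {C : Type u} [SmallCategory C] (J : GrothendieckTopology C) {ι : Type u}
    (X : ι → C) (hX : J.CoversTop X) (h : ∀ i, GrothendieckTopology.HasEnoughPoints.{u} (J.over (X i))) :
    GrothendieckTopology.HasEnoughPoints.{u} J := by
  classical
  choose P hPs hPc using fun i => (h i).exists_objectProperty
  refine ⟨⟨ObjectProperty.ofObj (fun (ψ : Σ i, (P i).FullSubcategory) =>
    ψ.2.obj.map (Over.forget (X ψ.1)) J), inferInstance, ⟨⟨?_⟩⟩⟩⟩
  intro K L f hf
  apply Sheaf.isIso_of_coversTop hX
  intro i
  have hi := (hPc i).jointlyReflectIsomorphisms_type
  rw [hi.isIso_iff]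
  intro Φ
  have h1 := hf ⟨Φ.obj.map (Over.forget (X i)) J, ObjectProperty.ofObj_apply _ (⟨i, Φ⟩ : Σ i, (P i).FullSubcategory)⟩
  exact ((MorphismProperty.isomorphisms _).arrow_mk_iso_iff
    (((Functor.mapArrowFunctor _ _).mapIso
      (Φ.obj.sheafFiberMapIso (Over.forget (X i)) J (Type u))).app (Arrow.mk f))).1 h1

end Groth.Agent.S6173
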