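import Groth.Statements.S6176
import Mathlib.CategoryTheory.Limits.Preserves.Shapes.Products

set_option autoImplicit false
universe u
open CategoryTheory
open SGA4

namespace Groth.Agent.S6176

open CategoryTheory.Limits in
/-- The clause on products (topos of sheaves of sets on a small site; j : E/U -> E the open embedding
defined by an open U, i.e. a subobject of the final object, so that j_! is the forgetful functor
from objects over U): j_! commutes with products indexed by a nonempty u-small set. (Commutation
with fibre products and cofiltered limits, the other clauses, holds for the forgetful functor of any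
slice.) -/
theorem result {C : Type u} [SmallCategory C] (J : GrothendieckTopology C)
    (U : Sheaf J (Type u)) (hU : SGA4.IsOpen U) (I : Type u) [Nonempty I] :
    PreservesLimitsOfShape (Discrete I) (Over.forget U) := by
  have hUsub : ∀ (T : Sheaf J (Type u)) (a b : T ⟶ U), a = b := by
    intro T a b
    have : Mono (terminal.from U) := hU
    rw [← cancel_mono (terminal.from U)]
    exact Subsingleton.elim _ _
  constructor
  intro K
  suffices h : ∀ Y : I → Over U, PreservesLimit (Discrete.functor Y) (Over.forget U) from
    preservesLimit_of_iso_diagram _ (Discrete.natIsoFunctor (F := K)).symm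
  intro Y
  obtain ⟨i₀⟩ := ‹Nonempty I›
  let Z : I → Sheaf J (Type u) := fun i => (Y i).left
  let c : Fan Y := Fan.mk (Over.mk (Pi.π Z i₀ ≫ (Y i₀).hom))
    (fun i => Over.homMk (Pi.π Z i) (hUsub _ _ _))
  have hc : IsLimit c := Fan.IsLimit.mk c
    (fun s => Over.homMk (Pi.lift (fun i => (s.proj i).left)) (hUsub _ _ _))
    (by
      intro s i
      ext
      simp [c, Z])
    (by
      intro s m hm
      apply Over.OverMorphism.ext
      apply Pi.hom_ext
      intro i
      have := congrArg (fun f => f.left) (hm i)
      simp only [Over.comp_left] at this
      simpa [c, Z] using this)
  refine preservesLimit_of_preserves_limit_cone hc ?_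
  exact (isLimitMapConeFanMkEquiv (Over.forget U) Y _).symm (productIsProduct Z)

end Groth.Agent.S6176
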