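import Groth.Statements.S6177
import Groth.Agent.Lib.Helper9Closed
import Mathlib.CategoryTheory.Sites.CartesianClosed
import Mathlib.CategoryTheory.Monoidal.Closed.FunctorToTypes
import Mathlib.CategoryTheory.Monoidal.Closed.Types

set_option autoImplicit false
universe u
open CategoryTheory
open SGA4

namespace Groth.Agent.S6177

open CategoryTheory.Limits in
/-- Topos of sheaves of sets on a small site; U an open, i.e. a subobject of the final object; X_CU the
pushout of U <- U x X -> X along the two projections: (ii) <=> (iii): the canonical map X -> X_CU is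
an isomorphism if and only if the projection U x X -> U is an isomorphism (X belongs to the closed
complement of U); and (i) => (iii): if X is isomorphic to Y_CU for some Y then X belongs to the
closed complement of U ((iii) => (i) with Y = X is then immediate from (ii)). -/
theorem result {C : Type u} [SmallCategory C] (J : GrothendieckTopology C)
    (U : Sheaf J (Type u)) (hU : SGA4.IsOpen U) (X : Sheaf J (Type u)) :
    (SGA4.closedCompl U X ↔ IsIso (pushout.inr (prod.fst : U ⨯ X ⟶ U) (prod.snd : U ⨯ X ⟶ X))) ∧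
    ((∃ Y : Sheaf J (Type u), Nonempty (X ≅ pushout (prod.fst : U ⨯ Y ⟶ U) (prod.snd : U ⨯ Y ⟶ Y))) →
      SGA4.closedCompl U X) := by
  have hUsub : ∀ (T : Sheaf J (Type u)) (a b : T ⟶ U), a = b := by
    intro T a b
    have : Mono (terminal.from U) := hU
    rw [← cancel_mono (terminal.from U)]
    exact Subsingleton.elim _ _
  have key : ∀ Y : Sheaf J (Type u),
      IsIso (prod.fst : U ⨯ pushout (prod.fst : U ⨯ Y ⟶ U) (prod.snd : U ⨯ Y ⟶ Y) ⟶ U) := by
    intro Y
    have mc : MonoidalClosed (Sheaf J (Type u)) := inferInstance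
    exact @Groth.Agent.Lib.Helper9.isIso_prod_fst_of_isPushout (Sheaf J (Type u)) _ _ mc _ _ _
      hUsub _ _ (IsPushout.of_hasPushout _ _)
  have key2 : ∀ (X Y : Sheaf J (Type u)) (e : X ≅ Y), IsIso (prod.fst : U ⨯ Y ⟶ U) →
      IsIso (prod.fst : U ⨯ X ⟶ U) := by
    intro X Y e h
    have : (prod.fst : U ⨯ X ⟶ U) = prod.map (𝟙 U) e.hom ≫ prod.fst := by
      rw [prod.map_fst, Category.comp_id]
    rw [this]
    infer_instance
  refine ⟨⟨?_, ?_⟩, ?_⟩
  · intro h
    have : IsIso (prod.fst : U ⨯ X ⟶ U) := h
    infer_instance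
  · intro h
    exact key2 X _ (asIso (pushout.inr (prod.fst : U ⨯ X ⟶ U) (prod.snd : U ⨯ X ⟶ X))) (key X)
  · rintro ⟨Y, ⟨e⟩⟩
    exact key2 X _ e (key Y)

end Groth.Agent.S6177
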