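import Groth.Statements.S6179
import Groth.Agent.Lib.Helper9Hens7

set_option autoImplicit false
open CategoryTheory CategoryTheory.Limits AlgebraicGeometry Opposite
universe u
open EtDesc

namespace Groth.Agent.S6179

/-- Let R be a strictly henselian local ring, X = Spec R and x̄ : Spec κ(R) -> X the closed geometric
point. For every etale sheaf of sets F on X the canonical map Γ(X, F) -> F_x̄ into the stalk (the
colimit of F(X') over the x̄-pointed etale X-schemes X', taken at X' = X) is bijective; in
particular the global-sections functor is isomorphic to the fibre functor at x̄ and commutes with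
all colimits. -/
theorem result (R : Type u) [CommRing R]
    [HenselianLocalRing R] [IsSepClosed (IsLocalRing.ResidueField R)]
    (F : EtDesc.Sh (Spec (CommRingCat.of R))) :
    Function.Bijective ((Scheme.pointSmallEtale
      (Spec.map (CommRingCat.ofHom (IsLocalRing.residue R)))).toPresheafFiber (A := Type (u + 1))
        (EtCoh.top (Spec (CommRingCat.of R)))
        (Over.homMk (Spec.map (CommRingCat.ofHom (IsLocalRing.residue R))) (Category.comp_id _)) F.obj) := by
  haveI : PreservesFilteredColimitsOfSize.{u, u} (forget (Type (u + 1))) := by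
    have h : PreservesFilteredColimitsOfSize.{u, u} (𝟭 (Type (u + 1))) := inferInstance
    exact h
  constructor
  · intro a b hab
    obtain ⟨V, f, v, hv, hfab⟩ :=
      (GrothendieckTopology.Point.toPresheafFiber_eq_iff' (A := Type (u + 1)) (P := F.obj) _ _ _ a b).1 hab
    obtain ⟨σ, hσ⟩ := Groth.Agent.Lib.Helper9.Hens.exists_section_site R V v
    have hid : σ ≫ f = 𝟙 _ := Groth.Agent.Lib.Helper9.Hens.section_comp R σ f
    have key : ∀ c : F.obj.obj (op (EtCoh.top (Spec (CommRingCat.of R)))),
        F.obj.map σ.op (F.obj.map f.op c) = c := by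
      intro c
      have h2 : F.obj.map σ.op (F.obj.map f.op c) = F.obj.map (σ ≫ f).op c := by
        rw [op_comp, F.obj.map_comp]
        rfl
      rw [h2, hid]
      simp
    rw [← key a, ← key b, hfab]
  · intro p
    obtain ⟨U, l, z, rfl⟩ := GrothendieckTopology.Point.toPresheafFiber_jointly_surjective (A := Type (u + 1)) (P := F.obj) _ p
    obtain ⟨σ, hσ⟩ := Groth.Agent.Lib.Helper9.Hens.exists_section_site R U l
    refine ⟨F.obj.map σ.op z, ?_⟩
    rw [← hσ]
    have h := ConcreteCategory.congr_hom (GrothendieckTopology.Point.toPresheafFiber_w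
      (A := Type (u + 1)) _ σ (Groth.Agent.Lib.Helper9.Hens.basePt R) F.obj) z
    rw [ConcreteCategory.comp_apply] at h
    exact h

end Groth.Agent.S6179
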