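import Groth.Statements.S6180
import Groth.Agent.Lib.LeadEtStalkT
import Groth.Agent.S6179

set_option autoImplicit false
open CategoryTheory CategoryTheory.Limits AlgebraicGeometry Opposite
universe u
open EtDesc

namespace Groth.Agent.S6180

/-- Let X be a scheme, x a point of X, R a strict henselisation of O_{X,x} with strict localisation X̄ =
Spec R -> X and attached geometric point ξ : Spec κ(R) -> X. The fibre functor F ↦ F_ξ on etale
sheaves of sets on X is isomorphic to the functor F ↦ Γ(X̄, F̄), F̄ the inverse image of F on X̄.
(The published statement gives a canonical isomorphism — global sections of F̄ identified with its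
stalk at the closed point of X̄, then with F_ξ; this row asserts only that an isomorphism of
functors exists.) -/
theorem result (X : Scheme.{u}) (x : X)
    (R : Type u) [CommRing R] [IsLocalRing R] [Algebra (X.presheaf.stalk x) R]
    [IsLocalHom (algebraMap (X.presheaf.stalk x) R)] [Hensel.IsStrictHenselization (X.presheaf.stalk x) R]
    [IsSepClosed (IsLocalRing.ResidueField R)] :
    Nonempty ((Scheme.pointSmallEtale (Hens2.geomPt X x R)).sheafFiber (A := Type (u + 1)) ≅
      EtDesc.pullSh (Hens2.specOf X x R) ⋙
        (sheafSections (Spec (CommRingCat.of R)).smallEtaleTopology (Type (u + 1))).obj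
          (op (EtCoh.top (Spec (CommRingCat.of R))))) := by
  haveI : HenselianLocalRing R :=
    Hensel.IsStrictHenselization.henselian (R := X.presheaf.stalk x) (S := R)
  let ξ : Spec (CommRingCat.of (IsLocalRing.ResidueField R)) ⟶ Spec (CommRingCat.of R) :=
    Spec.map (CommRingCat.ofHom (IsLocalRing.residue R))
  have e1 := Groth.Agent.Lib.LeadEtStalkT.stalkPullIsoT (Hens2.specOf X x R) ξ
  let pt : (Scheme.pointSmallEtale ξ).fiber.obj (EtCoh.top (Spec (CommRingCat.of R))) :=
    Over.homMk ξ (Category.comp_id _)
  let τ : (sheafSections (Spec (CommRingCat.of R)).smallEtaleTopology (Type (u + 1))).obj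
      (op (EtCoh.top (Spec (CommRingCat.of R)))) ⟶
      (Scheme.pointSmallEtale ξ).sheafFiber (A := Type (u + 1)) :=
    { app := fun F => (Scheme.pointSmallEtale ξ).toPresheafFiber (A := Type (u + 1))
        (EtCoh.top (Spec (CommRingCat.of R))) pt F.obj
      naturality := fun F G φ =>
        ((Scheme.pointSmallEtale ξ).toPresheafFiber_naturality (A := Type (u + 1)) φ.hom
          (EtCoh.top (Spec (CommRingCat.of R))) pt).symm }
  have hτ : IsIso τ := by
    apply (config := { allowSynthFailures := true }) NatIso.isIso_of_isIso_app
    intro F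
    exact (isIso_iff_bijective _).2 (Groth.Agent.S6179.result R F)
  exact ⟨e1 ≪≫ Functor.isoWhiskerLeft (EtDesc.pullSh (Hens2.specOf X x R)) (asIso τ).symm⟩

end Groth.Agent.S6180
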