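import Groth.Statements.S6181
import Mathlib
import Groth.Agent.Lib.Helper23FinStalkB
import Groth.Agent.Lib.LeadEtStalkT2
-- import your own Groth.Agent.* helpers here

set_option autoImplicit false
set_option backward.isDefEq.respectTransparency.types false
open CategoryTheory CategoryTheory.Limits AlgebraicGeometry Opposite
universe u
open EtDesc

namespace Groth.Agent.S6181
open Groth.Agent.Lib.Helper23.FinStalkB

open Groth.Agent.Lib.Helper23.FinStalkB

/-- the canonical natural transformation from the stalk of the direct image to the stalk at a point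
above -/
noncomputable def tau {X Y : Scheme.{u}} (f : X ⟶ Y) {Ω : Type u} [Field Ω] [IsAlgClosed Ω]
    (η : Spec (CommRingCat.of Ω) ⟶ Y) (ξ : Spec (CommRingCat.of Ω) ⟶ X) (hξ : ξ ≫ f = η) :
    EtDesc.pushSh f ⋙ (Scheme.pointSmallEtale η).sheafFiber (A := Type (u + 1)) ⟶
      ((Scheme.pointSmallEtale ξ).sheafFiber (A := Type (u + 1)) : EtDesc.Sh X ⥤ Type (u + 1)) where
  app F := theta f η ξ hξ F.obj
  naturality F G a := theta_naturality f η ξ hξ a.hom

/-- Let f : X -> Y be a finite morphism of schemes, Ω an algebraically closed field and η : Spec Ω -> Y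
a geometric point. The functor F ↦ (f_* F)_η on etale sheaves of sets on X is isomorphic to the
product, over the geometric points ξ : Spec Ω -> X lying over η, of the fibre functors F ↦ F_ξ. (The
published statement gives a canonical isomorphism and indexes the product by the points of the
geometric fibre over a separable closure of the residue field; this row asserts only that an
isomorphism of functors exists and indexes the product by the Ω-valued points of X over η, which for
Ω algebraically closed correspond to those points.) -/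
theorem result {X Y : Scheme.{u}} (f : X ⟶ Y) [IsFinite f]
    {Ω : Type u} [Field Ω] [IsAlgClosed Ω] (η : Spec (CommRingCat.of Ω) ⟶ Y) :
    Nonempty (EtDesc.pushSh f ⋙ (Scheme.pointSmallEtale η).sheafFiber (A := Type (u + 1)) ≅
      ∏ᶜ fun ξ : {ξ : Spec (CommRingCat.of Ω) ⟶ X // ξ ≫ f = η} =>
        ((Scheme.pointSmallEtale ξ.1).sheafFiber (A := Type (u + 1)) : EtDesc.Sh X ⥤ Type (u + 1))) := by
  let G : {ξ : Spec (CommRingCat.of Ω) ⟶ X // ξ ≫ f = η} → (EtDesc.Sh X ⥤ Type (u + 1)) :=
    fun ξ => (Scheme.pointSmallEtale ξ.1).sheafFiber (A := Type (u + 1))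
  let T : EtDesc.pushSh f ⋙ (Scheme.pointSmallEtale η).sheafFiber (A := Type (u + 1)) ⟶ ∏ᶜ G :=
    Pi.lift (fun ξ => tau f η ξ.1 ξ.2)
  have hT : IsIso T := by
    rw [NatTrans.isIso_iff_isIso_app]
    intro F
    let e2 := Types.productIso.{u, u + 1} (fun ξ => (G ξ).obj F)
    have h1 : ∀ (a : (EtDesc.pushSh f ⋙
        (Scheme.pointSmallEtale η).sheafFiber (A := Type (u + 1))).obj F)
        (ξ : {ξ : Spec (CommRingCat.of Ω) ⟶ X // ξ ≫ f = η}),
        e2.hom ((piObjIso G F).hom (T.app F a)) ξ = theta f η ξ.1 ξ.2 F.obj a := by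
      intro a ξ
      have h2 : e2.hom ((piObjIso G F).hom (T.app F a)) ξ =
          (Pi.π (fun ξ => (G ξ).obj F) ξ) ((piObjIso G F).hom (T.app F a)) :=
        Types.productIso_hom_comp_eval_apply.{u, u + 1} (fun ξ => (G ξ).obj F) ξ _
      rw [h2, ← types_comp_apply (piObjIso G F).hom, piObjIso_hom_comp_π,
        ← types_comp_apply (T.app F), ← NatTrans.comp_app, Pi.lift_π]
      rfl
    have hb : Function.Bijective (T.app F ≫ (piObjIso G F).hom ≫ e2.hom) := by
      have h3 : (⇑(ConcreteCategory.hom (T.app F ≫ (piObjIso G F).hom ≫ e2.hom))) =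
          (fun a (ξ : {ξ : Spec (CommRingCat.of Ω) ⟶ X // ξ ≫ f = η}) =>
            theta f η ξ.1 ξ.2 F.obj a) := by
        funext a
        funext ξ
        exact h1 a ξ
      rw [h3]
      exact theta_bijective f η F.obj ((isSheaf_iff_isSheaf_of_type _ F.obj).1 F.property)
    have h4 : IsIso (T.app F ≫ (piObjIso G F).hom ≫ e2.hom) :=
      (isIso_iff_bijective _).2 hb
    exact IsIso.of_isIso_comp_right (T.app F) ((piObjIso G F).hom ≫ e2.hom)
  exact ⟨asIso T⟩

end Groth.Agent.S6181
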