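import Groth.Statements.S6184
import Mathlib
-- import your own Groth.Agent.* helpers here

set_option autoImplicit false
open CategoryTheory CategoryTheory.Limits AlgebraicGeometry Opposite
universe u
open BigSite

namespace Groth.Agent.S6184

set_option backward.isDefEq.respectTransparency.types false in
lemma isIso_unit_ab (X : Scheme.{u}) :
    IsIso (BigSite.piEtAdj Scheme.etalePrecoverage X).unit := by
  have : (EtFppf.a X).Full := inferInstanceAs (Scheme.Etale.forget X).Full
  have : (EtFppf.a X).Faithful := inferInstanceAs (Scheme.Etale.forget X).Faithful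
  let t : Adjunction.Triple (BigSite.piEtPull Scheme.etalePrecoverage X)
      (BigSite.resEt Scheme.etalePrecoverage X) (BigSite.iEtPush Scheme.etalePrecoverage X) :=
    ⟨BigSite.piEtAdj Scheme.etalePrecoverage X, BigSite.iEtAdj Scheme.etalePrecoverage X⟩
  rw [t.isIso_unit_iff_isIso_counit]
  have h : ∀ F, IsIso ((BigSite.iEtAdj Scheme.etalePrecoverage X).counit.app F) := by
    intro F
    have h1 : IsIso ((sheafToPresheaf _ _).map
        ((BigSite.iEtAdj Scheme.etalePrecoverage X).counit.app F)) := by
      have e : (sheafToPresheaf _ _).map ((BigSite.iEtAdj Scheme.etalePrecoverage X).counit.app F) =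
          ((EtFppf.a X).op.ranAdjunction AddCommGrpCat.{u + 1}).counit.app F.obj :=
        Functor.sheafAdjunctionCocontinuous_counit_app_hom _ _ _ _ F
      have h0 : IsIso (((EtFppf.a X).op.ranAdjunction AddCommGrpCat.{u+1}).counit.app F.obj) :=
        inferInstance
      rw [e]
      exact h0
    exact isIso_of_reflects_iso _ (sheafToPresheaf _ _)
  exact NatIso.isIso_of_isIso_app _

set_option backward.isDefEq.respectTransparency.types false in
lemma isIso_unit_type (X : Scheme.{u}) :
    IsIso ((EtFppf.a X).sheafAdjunctionContinuous (Type (u + 1)) X.smallEtaleTopology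
      (QuotSh.J Scheme.etalePrecoverage X)).unit := by
  have : (EtFppf.a X).Full := inferInstanceAs (Scheme.Etale.forget X).Full
  have : (EtFppf.a X).Faithful := inferInstanceAs (Scheme.Etale.forget X).Faithful
  have : (EtFppf.a X).IsCocontinuous X.smallEtaleTopology (QuotSh.J Scheme.etalePrecoverage X) :=
    BigSite.aEtCocont_etale X
  let t : Adjunction.Triple
      ((EtFppf.a X).sheafPullback (Type (u + 1)) X.smallEtaleTopology (QuotSh.J Scheme.etalePrecoverage X))
      ((EtFppf.a X).sheafPushforwardContinuous (Type (u + 1)) X.smallEtaleTopology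
        (QuotSh.J Scheme.etalePrecoverage X))
      ((EtFppf.a X).sheafPushforwardCocontinuous (Type (u + 1)) X.smallEtaleTopology
        (QuotSh.J Scheme.etalePrecoverage X)) :=
    ⟨(EtFppf.a X).sheafAdjunctionContinuous (Type (u + 1)) X.smallEtaleTopology
      (QuotSh.J Scheme.etalePrecoverage X),
     (EtFppf.a X).sheafAdjunctionCocontinuous (Type (u + 1)) X.smallEtaleTopology
      (QuotSh.J Scheme.etalePrecoverage X)⟩
  rw [t.isIso_unit_iff_isIso_counit]
  have h : ∀ F, IsIso (((EtFppf.a X).sheafAdjunctionCocontinuous (Type (u + 1)) X.smallEtaleTopology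
      (QuotSh.J Scheme.etalePrecoverage X)).counit.app F) := by
    intro F
    have h1 : IsIso ((sheafToPresheaf _ _).map
        (((EtFppf.a X).sheafAdjunctionCocontinuous (Type (u + 1)) X.smallEtaleTopology
      (QuotSh.J Scheme.etalePrecoverage X)).counit.app F)) := by
      have e : (sheafToPresheaf _ _).map (((EtFppf.a X).sheafAdjunctionCocontinuous (Type (u + 1))
          X.smallEtaleTopology (QuotSh.J Scheme.etalePrecoverage X)).counit.app F) =
          ((EtFppf.a X).op.ranAdjunction (Type (u + 1))).counit.app F.obj :=
        Functor.sheafAdjunctionCocontinuous_counit_app_hom _ _ _ _ F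
      have h0 : IsIso (((EtFppf.a X).op.ranAdjunction (Type (u + 1))).counit.app F.obj) :=
        inferInstance
      rw [e]
      exact h0
    exact isIso_of_reflects_iso _ (sheafToPresheaf _ _)
  exact NatIso.isIso_of_isIso_app _


/-- Let X be a scheme, u the inclusion of the small etale site of X into the big etale site (X-schemes
with the etale topology), u_* restriction of sheaves along it and u^* its left adjoint. For every
sheaf of sets G and every abelian sheaf G on the small etale site, the unit G -> u_* u^* G is an
isomorphism (so u^* is fully faithful). Stated for sheaves of sets (first conjunct, with Mathlib's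
sheaf pullback along the inclusion) and for abelian sheaves (second conjunct, the prelude's
adjunction on the big etale site). -/
theorem result (X : Scheme.{u}) :
    (∀ G : EtDesc.Sh X, IsIso (((EtFppf.a X).sheafAdjunctionContinuous (Type (u + 1)) X.smallEtaleTopology
      (QuotSh.J Scheme.etalePrecoverage X)).unit.app G)) ∧
    (∀ G : EtCoh.Ab X, IsIso ((BigSite.piEtAdj Scheme.etalePrecoverage X).unit.app G)) := by
  have h1 := isIso_unit_type X
  have h2 := isIso_unit_ab X
  exact ⟨fun G => inferInstance, fun G => inferInstance⟩

end Groth.Agent.S6184
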