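import Groth.Statements.S6218
import Mathlib
import Groth.Agent.S6201
import Groth.Agent.Lib.Helper1TQ10
import Groth.Agent.Lib.Helper1TQ6
set_option maxHeartbeats 400000
-- import your own Groth.Agent.* helpers here

set_option autoImplicit false
universe u
open CategoryTheory CategoryTheory.Limits AlgebraicGeometry
attribute [local instance] HasDerivedCategory.standard
open KSix

namespace Groth.Agent.S6218

/-- Let i : X ⟶ Y be a closed immersion, g : Y ⟶ S smooth, a and b integers, and F a cochain complex of
O_X-modules such that the termwise direct image i_* F has perfect amplitude in [a, b] on Y in the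
absolute sense (locally isomorphic in D to a complex of finite locally free modules placed in [a,
b]). Then F has perfect amplitude in [a, b] relative to i ≫ g (pseudo-coherent relative to it in
chart form, with stalkwise tor amplitude in [a, b] over the local rings of S). -/
theorem result {X Y S : Scheme.{u}} (i : X ⟶ Y) [IsClosedImmersion i]
    (g : Y ⟶ S) [Smooth g] (a b : ℤ) (F : CochainComplex X.Modules ℤ)
    (hF : KSix.HasPerfectAmplitudeIn a b (DCoh.toD Y (((Scheme.Modules.pushforward i).mapHomologicalComplex (ComplexShape.up ℤ)).obj F))) :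
    DerSch.HasPerfAmplitudeRel (i ≫ g) a b F := by
  have h1 := Groth.Agent.Lib.Helper1.TQ.pc_and_flatAmp_of_hasPerfectAmplitudeIn _ a b hF
  have hA := (Groth.Agent.Lib.Helper1.TQ.hasPerfectAmplitudeIn_iff_hasPresA a b _).1 hF
  have hperf : DCoh.IsPerfect (DCoh.toD Y (((Scheme.Modules.pushforward i).mapHomologicalComplex
      (ComplexShape.up ℤ)).obj F)) :=
    (Groth.Agent.Lib.Helper1.SPL.isPerfect_iff_hasPres _).2 (fun x => (hA x).hasPres)
  have hpc := ((Groth.Agent.Lib.Helper1.SPL.isPerfect_iff_pseudoCoherent_locFiniteTorDim _).1
    hperf).1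
  refine ⟨fun m => (Groth.Agent.S6201.result i g m F).2 (hpc m), ?_⟩
  exact Groth.Agent.Lib.Helper1.TQ.hasTorAmplitude_of_hasFlatAmplitudeIn_pushforward i
    i.isClosedEmbedding.isInducing g F a b h1.2

end Groth.Agent.S6218
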