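import Groth.Statements.S6239
import Mathlib
-- import your own Groth.Agent.* helpers here

set_option autoImplicit false
universe u
open CategoryTheory CategoryTheory.Limits AlgebraicGeometry
attribute [local instance] HasDerivedCategory.standard
open KSix

namespace Groth.Agent.S6239

/-- Let f : X ⟶ Y be a morphism with X quasi-compact and F a cochain complex of O_X-modules which is
perfect relative to f (pseudo-coherent relative to f in chart form, and locally on X of finite
stalkwise tor amplitude over the local rings of Y). Then F has finite perfect amplitude relative to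
f: one interval [a, b] works at every point of X. -/
theorem result {X Y : Scheme.{u}} [CompactSpace X] (f : X ⟶ Y)
    (F : CochainComplex X.Modules ℤ) (hF : DerSch.IsPerfectRel f F) :
    DerSch.HasFinitePerfAmplitudeRel f F := by
  classical
  obtain ⟨hpc, hloc⟩ := hF
  -- monotonicity in the interval
  have mono : ∀ (x : X) (a b a' b' : ℤ), a' ≤ a → b ≤ b' →
      DerSch.HasTorAmplitudeAt f a b F x → DerSch.HasTorAmplitudeAt f a' b' F x := by
    intro x a b a' b' ha hb h
    obtain ⟨E, hE, hfl, hiso⟩ := h
    refine ⟨E, ?_, hfl, hiso⟩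
    intro i hi
    apply hE i
    rcases hi with hi | hi
    · exact Or.inl (lt_of_lt_of_le hi ha)
    · exact Or.inr (lt_of_le_of_lt hb hi)
  choose V a b hxV hV using hloc
  obtain ⟨t, ht⟩ := isCompact_univ.elim_finite_subcover (fun x => ((V x : X.Opens) : Set X))
    (fun x => (V x).isOpen) (fun x _ => Set.mem_iUnion.2 ⟨x, hxV x⟩)
  -- global bounds
  refine ⟨-(t.sum fun x => |a x|), t.sum (fun x => |b x|), hpc, ?_⟩
  intro x
  have hx := ht (Set.mem_univ x)
  simp only [Set.mem_iUnion] at hx
  obtain ⟨y, hyt, hxy⟩ := hx
  refine mono x (a y) (b y) _ _ ?_ ?_ (hV y x hxy)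
  · have h1 : |a y| ≤ t.sum fun x => |a x| :=
      Finset.single_le_sum (f := fun x => |a x|) (fun i _ => abs_nonneg _) hyt
    have h2 : -|a y| ≤ a y := neg_abs_le (a y)
    linarith
  · have h1 : |b y| ≤ t.sum fun x => |b x| :=
      Finset.single_le_sum (f := fun x => |b x|) (fun i _ => abs_nonneg _) hyt
    have h2 : b y ≤ |b y| := le_abs_self (b y)
    linarith

end Groth.Agent.S6239
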