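import Groth.Statements.S6249
import Mathlib
import Groth.Agent.Lib.Helper1LDer4
-- import your own Groth.Agent.* helpers here

set_option autoImplicit false
universe u
open CategoryTheory CategoryTheory.Limits AlgebraicGeometry
attribute [local instance] HasDerivedCategory.standard
open KSix

namespace Groth.Agent.S6249

open Groth.Agent.Lib.Helper1.BKF in
/-- Let (C, J, O) be a small site with a sheaf of commutative rings O, Mod(O) the category of O-modules,
E ∈ D⁻(O) given by a cochain complex, and p an integer. Then, the derived tensor product − ⊗^L_O E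
being assumed to exist, the functor M ↦ H^p(M ⊗^L E) from Mod(O) to Mod(O) is right exact if and
only if the functor M ↦ H^{p+1}(M ⊗^L E) is left exact. (The published statement is for a
commutative ringed topos and writes E ⊗^L M; this row is the topos of sheaves on a small site, with
the derived tensor product taken with E as the fixed right-hand factor.) -/
theorem result {C : Type u} [SmallCategory C]
    {J : GrothendieckTopology C} (O : Sheaf J CommRingCat.{u}) (E : CochainComplex (ModSite.Mod O) ℤ)
    (e : ℤ) [(DerivedCategory.Q.obj E).IsLE e] (p : ℤ) [ModSite.HasLTensorCx E] :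
    PreservesFiniteColimits (DerivedCategory.singleFunctor (ModSite.Mod O) 0 ⋙ ModSite.LTensorCx E ⋙ DerivedCategory.homologyFunctor (ModSite.Mod O) p) ↔
      PreservesFiniteLimits (DerivedCategory.singleFunctor (ModSite.Mod O) 0 ⋙ ModSite.LTensorCx E ⋙ DerivedCategory.homologyFunctor (ModSite.Mod O) (p + 1)) := by
  obtain ⟨P, q, hPK, hPf, hq, -⟩ := exists_kflat_flat_resolution O E
  haveI := hq
  obtain ⟨i1⟩ := nonempty_iso_single_LTensorCx_homology E P q hPK p
  obtain ⟨i2⟩ := nonempty_iso_single_LTensorCx_homology E P q hPK (p + 1)
  have key := preservesFiniteColimits_Hn_iff_preservesFiniteLimits_Hn_succ (singleTR P)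
    (shortExact_map_singleTR P hPf) p
  constructor
  · intro h
    have h1 : PreservesFiniteColimits (Hn (singleTR P) p) :=
      @preservesFiniteColimits_of_natIso _ _ _ _ _ _ i1 h
    have h2 : PreservesFiniteLimits (Hn (singleTR P) (p + 1)) := key.1 h1
    exact @preservesFiniteLimits_of_natIso _ _ _ _ _ _ i2.symm h2
  · intro h
    have h1 := @preservesFiniteLimits_of_natIso _ _ _ _ _ _ i2 h
    have h2 := key.2 h1
    exact @preservesFiniteColimits_of_natIso _ _ _ _ _ _ i1.symm h2

end Groth.Agent.S6249
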