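import Groth.Statements.S6264
import Mathlib.RingTheory.Ideal.HasGoingUp
import Mathlib.RingTheory.Ideal.GoingDown
import Mathlib.RingTheory.Localization.AtPrime.Basic

set_option autoImplicit false
universe u
open CAlg

namespace Groth.Agent.S6264

theorem key {R S : Type u} [CommRing R] [CommRing S] [Algebra R S] (p : Ideal R) [p.IsPrime]
    (q : Ideal S) [q.IsPrime] [q.LiesOver p]
    (h : ∀ Q : Ideal S, Q.IsPrime → Q.under R ≤ p → Q ≤ q) :
    IsLocalization.AtPrime (Localization (Algebra.algebraMapSubmonoid S p.primeCompl)) q := by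
  set T := Algebra.algebraMapSubmonoid S p.primeCompl with hT
  have hle : T ≤ q.primeCompl := by
    rintro _ ⟨r, hr, rfl⟩
    intro hmem
    apply hr
    have : r ∈ q.under R := hmem
    rwa [← Ideal.LiesOver.over (p := p) (P := q)] at this
  refine IsLocalization.of_le (M := T) (S := Localization T) q.primeCompl hle ?_
  intro s hs
  by_contra hnu
  obtain ⟨𝔫, h𝔫, hs𝔫⟩ := exists_max_ideal_of_mem_nonunits hnu
  haveI := h𝔫.isPrime
  let Q : Ideal S := 𝔫.comap (algebraMap S (Localization T))
  have hQ : Q.IsPrime := Ideal.comap_isPrime _ _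
  have hQle : Q.under R ≤ p := by
    intro r hr
    by_contra hrp
    have hu : IsUnit (algebraMap S (Localization T) (algebraMap R S r)) :=
      IsLocalization.map_units (Localization T) (⟨algebraMap R S r, ⟨r, hrp, rfl⟩⟩ : T)
    exact h𝔫.ne_top (Ideal.eq_top_of_isUnit_mem _ hr hu)
  exact hs (h Q hQ hQle hs𝔫)

/-- Let R → S be a ring map with the going-up property and p a prime of R such that exactly one prime q
of S lies over p. Then the localization S_p of S at the image of R - p is a localization of S at q,
i.e. S_p = S_q. -/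
theorem result {R S : Type u} [CommRing R] [CommRing S] [Algebra R S] [Algebra.HasGoingUp R S] (p : Ideal R) [p.IsPrime] (q : Ideal S) [q.IsPrime] [q.LiesOver p] (huniq : ∀ q' : Ideal S, q'.IsPrime → q'.under R = p → q' = q) : IsLocalization.AtPrime (Localization (Algebra.algebraMapSubmonoid S p.primeCompl)) q := by
  apply key p q
  intro Q hQ hQle
  haveI := hQ
  obtain ⟨Q', hQQ', hQ'prime, hQ'over⟩ :=
    Ideal.exists_ideal_ge_liesOver_of_le (p := Q.under R) (q := p) Q hQle
  have : Q' = q := huniq Q' hQ'prime (Ideal.LiesOver.over (p := p) (P := Q')).symm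
  rw [← this]
  exact hQQ'

end Groth.Agent.S6264
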