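import Groth.Statements.S6267
import Groth.Agent.Lib.Helper14FpWitness
import Mathlib.LinearAlgebra.TensorProduct.Quotient
import Mathlib.LinearAlgebra.TensorProduct.RightExactness
import Mathlib.RingTheory.Flat.Basic
import Mathlib.RingTheory.Ideal.Operations

set_option autoImplicit false
universe u
open CAlg

namespace Groth.Agent.S6267

open TensorProduct

section
variable {R : Type u} [CommRing R] {M M' : Type u} [AddCommGroup M] [Module R M]
  [AddCommGroup M'] [Module R M'] (f : M →ₗ[R] M')

theorem injective_rTensor_quot_iff (I : Ideal R) :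
    Function.Injective (f.rTensor (R ⧸ I)) ↔
      ∀ m : M, f m ∈ (I • ⊤ : Submodule R M') → m ∈ (I • ⊤ : Submodule R M) := by
  constructor
  · intro hinj m hm
    have h1 : f.rTensor (R ⧸ I) (m ⊗ₜ[R] (1 : R ⧸ I)) = 0 := by
      rw [LinearMap.rTensor_tmul]
      have : (tensorQuotEquivQuotSMul M' I).symm (Submodule.Quotient.mk (f m)) = 0 := by
        rw [(Submodule.Quotient.mk_eq_zero _).mpr hm, map_zero]
      simpa using this
    have h2 : m ⊗ₜ[R] (1 : R ⧸ I) = 0 := hinj (h1.trans (map_zero _).symm)
    have h3 := congrArg (tensorQuotEquivQuotSMul M I) h2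
    rw [← map_one (Ideal.Quotient.mk I), tensorQuotEquivQuotSMul_tmul_mk, one_smul, map_zero,
      Submodule.Quotient.mk_eq_zero] at h3
    exact h3
  · intro h
    rw [injective_iff_map_eq_zero]
    intro z hz
    obtain ⟨w, rfl⟩ := (tensorQuotEquivQuotSMul M I).symm.surjective z
    obtain ⟨m, rfl⟩ := Submodule.Quotient.mk_surjective _ w
    rw [tensorQuotEquivQuotSMul_symm_mk, LinearMap.rTensor_tmul] at hz
    have h3 := congrArg (tensorQuotEquivQuotSMul M' I) hz
    rw [← map_one (Ideal.Quotient.mk I), tensorQuotEquivQuotSMul_tmul_mk, one_smul, map_zero,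
      Submodule.Quotient.mk_eq_zero] at h3
    rw [(Submodule.Quotient.mk_eq_zero _).mpr (h m h3), map_zero]

/-- From finitely generated ideals to all ideals. -/
theorem injective_rTensor_quot_of_fg
    (h : ∀ I : Ideal R, I.FG → Function.Injective (f.rTensor (R ⧸ I))) (I : Ideal R) :
    Function.Injective (f.rTensor (R ⧸ I)) := by
  classical
  rw [injective_rTensor_quot_iff]
  intro m hm
  have htop : (⊤ : Submodule R M') = Submodule.span R (Set.range (id : M' → M')) := by
    rw [Set.range_id, Submodule.span_univ]
  rw [htop, Submodule.mem_ideal_smul_span_iff_exists_sum] at hm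
  obtain ⟨a, ha, hsum⟩ := hm
  let I' : Ideal R := Ideal.span ((a.support.image a : Finset R) : Set R)
  have hI'fg : I'.FG := ⟨_, rfl⟩
  have hI'le : I' ≤ I := by
    rw [Ideal.span_le]
    intro r hr
    simp only [Finset.coe_image, Set.mem_image] at hr
    obtain ⟨i, -, rfl⟩ := hr
    exact ha i
  have ha' : ∀ i, a i ∈ I' := by
    intro i
    by_cases hi : i ∈ a.support
    · exact Ideal.subset_span (by simp only [Finset.coe_image]; exact ⟨i, hi, rfl⟩)
    · rw [Finsupp.notMem_support_iff.mp hi]; exact I'.zero_mem
  have hm' : f m ∈ (I' • ⊤ : Submodule R M') := by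
    rw [htop, Submodule.mem_ideal_smul_span_iff_exists_sum]
    exact ⟨a, ha', hsum⟩
  have := (injective_rTensor_quot_iff f I').mp (h I' hI'fg) m hm'
  exact Submodule.smul_mono_left hI'le this

/-- Invariance under isomorphism of the test module. -/
theorem injective_rTensor_of_equiv {Q Q₂ : Type u} [AddCommGroup Q] [Module R Q] [AddCommGroup Q₂]
    [Module R Q₂] (e : Q ≃ₗ[R] Q₂) (h : Function.Injective (f.rTensor Q)) :
    Function.Injective (f.rTensor Q₂) := by
  intro a b hab
  have key : ∀ x : M ⊗[R] Q₂, f.rTensor Q (e.symm.toLinearMap.lTensor M x) =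
      e.symm.toLinearMap.lTensor M' (f.rTensor Q₂ x) := by
    intro x
    rw [← LinearMap.comp_apply, ← LinearMap.comp_apply, LinearMap.rTensor_comp_lTensor,
      LinearMap.lTensor_comp_rTensor]
  have h1 : e.symm.toLinearMap.lTensor M a = e.symm.toLinearMap.lTensor M b := by
    apply h
    rw [key, key, hab]
  have h2 := congrArg (e.toLinearMap.lTensor M) h1
  simpa [← LinearMap.comp_apply, ← LinearMap.lTensor_comp] using h2

/-- Extensions. -/
theorem injective_rTensor_of_extension [Module.Flat R M'] {Q : Type u} [AddCommGroup Q]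
    [Module R Q] (Q' : Submodule R Q) (h1 : Function.Injective (f.rTensor Q'))
    (h2 : Function.Injective (f.rTensor (Q ⧸ Q'))) : Function.Injective (f.rTensor Q) := by
  rw [injective_iff_map_eq_zero]
  intro z hz
  have hz2 : Q'.mkQ.lTensor M z = 0 := by
    apply h2
    rw [map_zero, ← LinearMap.comp_apply, LinearMap.rTensor_comp_lTensor,
      ← LinearMap.lTensor_comp_rTensor, LinearMap.comp_apply, hz, map_zero]
  have hex := lTensor_exact M (LinearMap.exact_subtype_mkQ Q') (Submodule.mkQ_surjective Q')
  obtain ⟨w, rfl⟩ := (hex z).mp hz2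
  have hw : f.rTensor Q' w = 0 := by
    have hinj : Function.Injective (Q'.subtype.lTensor M') :=
      Module.Flat.lTensor_preserves_injective_linearMap _ Q'.injective_subtype
    apply hinj
    rw [map_zero, ← LinearMap.comp_apply, LinearMap.lTensor_comp_rTensor,
      ← LinearMap.rTensor_comp_lTensor, LinearMap.comp_apply, hz]
  rw [h1 (hw.trans (map_zero _).symm), map_zero]

/-- Finitely generated test modules. -/
theorem injective_rTensor_of_fin [Module.Flat R M']
    (h : ∀ I : Ideal R, Function.Injective (f.rTensor (R ⧸ I))) :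
    ∀ (n : ℕ) (Q : Type u) [AddCommGroup Q] [Module R Q] (x : Fin n → Q),
      Submodule.span R (Set.range x) = ⊤ → Function.Injective (f.rTensor Q) := by
  intro n
  induction n with
  | zero =>
    intro Q _ _ x hx
    have : Subsingleton Q := by
      rw [← Submodule.subsingleton_iff R, ← subsingleton_iff_bot_eq_top, ← hx]
      simp [Set.range_eq_empty]
    intro a b _
    exact Subsingleton.elim _ _
  | succ n ih =>
    intro Q _ _ x hx
    let Q' : Submodule R Q := LinearMap.range (LinearMap.toSpanSingleton R Q (x 0))
    have h1 : Function.Injective (f.rTensor Q') :=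
      injective_rTensor_of_equiv f (LinearMap.toSpanSingleton R Q (x 0)).quotKerEquivRange
        (h (LinearMap.ker (LinearMap.toSpanSingleton R Q (x 0))))
    have h2 : Function.Injective (f.rTensor (Q ⧸ Q')) := by
      apply ih (Q ⧸ Q') (fun i => Q'.mkQ (x i.succ))
      rw [eq_top_iff]
      rintro y -
      obtain ⟨y, rfl⟩ := Q'.mkQ_surjective y
      have hy : y ∈ Submodule.span R (Set.range x) := hx ▸ Submodule.mem_top
      induction hy using Submodule.span_induction with
      | mem y hy =>
        obtain ⟨i, rfl⟩ := hy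
        refine Fin.cases ?_ (fun j => ?_) i
        · have : Q'.mkQ (x 0) = 0 := by
            rw [Submodule.mkQ_apply, Submodule.Quotient.mk_eq_zero]
            exact ⟨1, by simp⟩
          rw [this]; exact Submodule.zero_mem _
        · exact Submodule.subset_span ⟨j, rfl⟩
      | zero => rw [map_zero]; exact Submodule.zero_mem _
      | add a b _ _ ha hb => rw [map_add]; exact Submodule.add_mem _ ha hb
      | smul r a _ ha => rw [map_smul]; exact Submodule.smul_mem _ r ha
    exact injective_rTensor_of_extension f Q' h1 h2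

end

/-- Let R be a ring and f : M → M' a map of R-modules with M' flat. Then f is universally injective
exactly when, for each finitely generated ideal I of R, the induced map M ⊗ R/I → M' ⊗ R/I (that is,
M/IM → M'/IM') is injective. -/
theorem result {R : Type u} [CommRing R] {M M' : Type u} [AddCommGroup M] [Module R M] [AddCommGroup M'] [Module R M'] [Module.Flat R M'] (f : M →ₗ[R] M') : CAlgX.UniversallyInjective R f ↔ ∀ I : Ideal R, I.FG → Function.Injective (f.rTensor (R ⧸ I)) := by
  constructor
  · intro h I _
    exact h (R ⧸ I)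
  · intro h Q _ _
    rw [injective_iff_map_eq_zero]
    intro z hz
    obtain ⟨Q₀, i1, i2, i3, u, z₀, h1, h2⟩ := Groth.Agent.Lib.Helper14.exists_fp_witness' f z hz
    obtain ⟨n, x, hx⟩ := Module.Finite.exists_fin (R := R) (M := Q₀)
    have hinj := injective_rTensor_of_fin f (injective_rTensor_quot_of_fg f h) n Q₀ x hx
    rw [← h1, hinj (h2.trans (map_zero _).symm), map_zero]

end Groth.Agent.S6267
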