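import Groth.Statements.S6268
-- import your own Groth.Agent.* helpers here

set_option autoImplicit false
universe u
open CAlg

namespace Groth.Agent.S6268

theorem one_tmul_eq_zero {R S : Type u} [CommRing R] [CommRing S] [Algebra R S]
    (hS : CAlgX.UniversallyInjective R (Algebra.linearMap R S)) (Q : Type u) [AddCommGroup Q]
    [Module R Q] (q : Q) (h : (1 : S) ⊗ₜ[R] q = 0) : q = 0 := by
  have h1 : (Algebra.linearMap R S).rTensor Q ((1 : R) ⊗ₜ[R] q) = 0 := by
    rw [LinearMap.rTensor_tmul, Algebra.linearMap_apply, map_one, h]
  have h2 : (1 : R) ⊗ₜ[R] q = 0 := by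
    apply hS Q
    rw [h1, map_zero]
  have := congrArg (TensorProduct.lid R Q) h2
  simpa using this

/-- Suppose the structure map R → S of an R-algebra S is universally injective as an R-linear map. Then
tensoring with S detects injectivity and surjectivity of R-linear maps (and hence reflects
isomorphisms): for an R-linear g : M → N, if S ⊗ g is injective then so is g, and if S ⊗ g is
surjective then so is g. -/
theorem result {R S : Type u} [CommRing R] [CommRing S] [Algebra R S] (hS : CAlgX.UniversallyInjective R (Algebra.linearMap R S)) {M N : Type u} [AddCommGroup M] [Module R M] [AddCommGroup N] [Module R N] (g : M →ₗ[R] N) : (Function.Injective (g.lTensor S) → Function.Injective g) ∧ (Function.Surjective (g.lTensor S) → Function.Surjective g) := by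
  constructor
  · intro hinj
    rw [injective_iff_map_eq_zero]
    intro m hm
    apply one_tmul_eq_zero hS M m
    apply hinj
    rw [LinearMap.lTensor_tmul, hm, TensorProduct.tmul_zero, map_zero]
  · intro hsurj n
    let π := (LinearMap.range g).mkQ
    have hπg : π ∘ₗ g = 0 := LinearMap.range_mkQ_comp g
    have h0 : π n = 0 := by
      apply one_tmul_eq_zero hS _ (π n)
      obtain ⟨z, hz⟩ := hsurj ((1 : S) ⊗ₜ[R] n)
      have : (π.lTensor S) ((g.lTensor S) z) = (1 : S) ⊗ₜ[R] π n := by
        rw [hz, LinearMap.lTensor_tmul]
      rw [← this, ← LinearMap.comp_apply, ← LinearMap.lTensor_comp, hπg, LinearMap.lTensor_zero,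
        LinearMap.zero_apply]
    rw [Submodule.mkQ_apply, Submodule.Quotient.mk_eq_zero] at h0
    exact h0

end Groth.Agent.S6268
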