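import Groth.Statements.S6269
import Groth.Agent.Lib.Helper14FlatExact

set_option autoImplicit false
universe u
open CAlg

namespace Groth.Agent.S6269

/-- Let 0 → M₁ → M₂ → M₃ → 0 be a universally exact sequence of R-modules (a short exact sequence whose
first map is universally injective) with M₂ flat. Then M₁ and M₃ are flat. -/
theorem result {R : Type u} [CommRing R] {M₁ M₂ M₃ : Type u} [AddCommGroup M₁] [Module R M₁] [AddCommGroup M₂] [Module R M₂] [AddCommGroup M₃] [Module R M₃] (f : M₁ →ₗ[R] M₂) (g : M₂ →ₗ[R] M₃) (hexact : Function.Exact f g) (hg : Function.Surjective g) (hf : CAlgX.UniversallyInjective R f) [Module.Flat R M₂] : Module.Flat R M₁ ∧ Module.Flat R M₃ := by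
  refine ⟨?_, Groth.Agent.Lib.Helper14.flat_of_exact_of_rTensor_quotient_injective f g hexact hg
    (fun I _ => hf (R ⧸ I))⟩
  rw [Module.Flat.iff_lTensor_preserves_injective_linearMap]
  intro A B _ _ _ _ u hu
  have h1 : Function.Injective ((u.lTensor M₂) ∘ₗ (f.rTensor A)) :=
    (Module.Flat.lTensor_preserves_injective_linearMap u hu).comp (hf A)
  rw [LinearMap.lTensor_comp_rTensor, ← LinearMap.rTensor_comp_lTensor] at h1
  exact Function.Injective.of_comp h1

end Groth.Agent.S6269
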