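import Groth.Statements.S6271
import Groth.Agent.Lib.Helper14LiftProj

set_option autoImplicit false
universe u
open scoped TensorProduct
open CAlg

namespace Groth.Agent.S6271

theorem nonempty_tensor_equiv {R : Type*} [CommRing R] (I : Ideal R) {P Pb : Type*}
    [AddCommGroup P] [Module R P] [AddCommGroup Pb] [Module (R ⧸ I) Pb]
    (π : P →ₛₗ[Ideal.Quotient.mk I] Pb) (hs : Function.Surjective π)
    (hk : LinearMap.ker π = RingHom.ker (Ideal.Quotient.mk I) • (⊤ : Submodule R P)) :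
    Nonempty (((R ⧸ I) ⊗[R] P) ≃ₗ[R ⧸ I] Pb) := by
  letI : Module R Pb := Module.compHom Pb (Ideal.Quotient.mk I)
  haveI : IsScalarTower R (R ⧸ I) Pb := ⟨fun a q x => by
    change (a • q) • x = Ideal.Quotient.mk I a • (q • x)
    rw [Algebra.smul_def, mul_smul]
    rfl⟩
  let πR : P →ₗ[R] Pb :=
    { toFun := π
      map_add' := map_add π
      map_smul' := fun a x => map_smulₛₗ π a x }
  let F : ((R ⧸ I) ⊗[R] P) →ₗ[R ⧸ I] Pb := LinearMap.liftBaseChange (R ⧸ I) πR
  have hF : ∀ x : P, F (1 ⊗ₜ x) = π x := by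
    intro x
    change LinearMap.liftBaseChange (R ⧸ I) πR (1 ⊗ₜ x) = π x
    rw [LinearMap.liftBaseChange_tmul, one_smul]
    rfl
  have hform : ∀ z : (R ⧸ I) ⊗[R] P, ∃ x : P, z = 1 ⊗ₜ x := by
    intro z
    induction z using TensorProduct.induction_on with
    | zero => exact ⟨0, by rw [TensorProduct.tmul_zero]⟩
    | tmul q x =>
      obtain ⟨a, rfl⟩ := Ideal.Quotient.mk_surjective q
      refine ⟨a • x, ?_⟩
      rw [TensorProduct.tmul_smul, TensorProduct.smul_tmul', Algebra.smul_def, mul_one]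
      rfl
    | add z w hz hw =>
      obtain ⟨x, rfl⟩ := hz
      obtain ⟨y, rfl⟩ := hw
      exact ⟨x + y, by rw [TensorProduct.tmul_add]⟩
  have hzero : ∀ x ∈ (RingHom.ker (Ideal.Quotient.mk I) • (⊤ : Submodule R P)),
      ((1 : R ⧸ I) ⊗ₜ[R] x) = 0 := by
    intro x hx
    refine Submodule.smul_induction_on hx ?_ ?_
    · intro a ha y _
      rw [TensorProduct.tmul_smul, TensorProduct.smul_tmul', Algebra.smul_def, mul_one]
      rw [Ideal.Quotient.algebraMap_eq, RingHom.mem_ker.mp ha, TensorProduct.zero_tmul]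
    · intro y z hy hz
      rw [TensorProduct.tmul_add, hy, hz, add_zero]
  refine ⟨LinearEquiv.ofBijective F ⟨?_, ?_⟩⟩
  · rw [injective_iff_map_eq_zero]
    intro z hz
    obtain ⟨x, rfl⟩ := hform z
    rw [hF] at hz
    apply hzero
    rw [← hk, LinearMap.mem_ker]
    exact hz
  · intro y
    obtain ⟨x, rfl⟩ := hs y
    exact ⟨1 ⊗ₜ x, hF x⟩

/-- Let R be a ring, I ⊆ R a locally nilpotent ideal (every element of I is nilpotent) and P̄ a finite
projective R/I-module. Then there is a finite projective R-module P such that P/IP (that is, R/I ⊗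
P) is isomorphic to P̄ as an R/I-module. -/
theorem result {R : Type u} [CommRing R] (I : Ideal R) (hI : ∀ x ∈ I, IsNilpotent x) (Pb : Type u) [AddCommGroup Pb] [Module (R ⧸ I) Pb] [Module.Projective (R ⧸ I) Pb] [Module.Finite (R ⧸ I) Pb] : ∃ (P : Type u) (_ : AddCommGroup P) (_ : Module R P), Module.Projective R P ∧ Module.Finite R P ∧ Nonempty (((R ⧸ I) ⊗[R] P) ≃ₗ[R ⧸ I] Pb) := by
  obtain ⟨r, P', π, hfin, hproj, hs, hk⟩ := Groth.Agent.Lib.Helper14.LiftProj.exists_lift_of_nil
    (Ideal.Quotient.mk I) Ideal.Quotient.mk_surjective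
    (fun x hx => hI x (Ideal.Quotient.eq_zero_iff_mem.mp hx)) Pb
  exact ⟨P', inferInstance, inferInstance, hproj, hfin, nonempty_tensor_equiv I π hs hk⟩

end Groth.Agent.S6271
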