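import Groth.Statements.S6273
import Mathlib.RingTheory.Spectrum.Prime.Topology
import Mathlib.RingTheory.Nilpotent.Lemmas

set_option autoImplicit false
universe u
open CAlg

namespace Groth.Agent.S6273

theorem key {R : Type u} [CommRing R] (S : Submonoid R) (A : Type u) [CommRing A] [Algebra R A]
    [IsLocalization S A]
    (hcl : IsClosed (Set.range (PrimeSpectrum.comap (algebraMap R A))))
    (P : PrimeSpectrum R) (hP : RingHom.ker (algebraMap R A) ≤ P.asIdeal) :
    Disjoint (S : Set R) P.asIdeal := by
  have hrange := PrimeSpectrum.localization_comap_range A S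
  have : P ∈ closure (Set.range (PrimeSpectrum.comap (algebraMap R A))) := by
    rw [← PrimeSpectrum.zeroLocus_vanishingIdeal_eq_closure, PrimeSpectrum.mem_zeroLocus]
    intro x hx
    have hnil : IsNilpotent (algebraMap R A x) := by
      rw [← mem_nilradical, nilradical_eq_sInf, Ideal.mem_sInf]
      intro Q hQ
      exact (PrimeSpectrum.mem_vanishingIdeal _ _).mp hx
        (PrimeSpectrum.comap (algebraMap R A) ⟨Q, hQ⟩) ⟨_, rfl⟩
    obtain ⟨n, hn⟩ := hnil
    have h2 : x ^ n ∈ P.asIdeal := hP (by rw [RingHom.mem_ker, map_pow, hn])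
    exact P.2.mem_of_pow_mem n h2
  rw [hcl.closure_eq, hrange] at this
  exact this

/-- Let R be a ring, S ⊆ R a multiplicative subset and A = S⁻¹R. If the image of Spec(A) → Spec(R) is
closed, then the localization map R → A is surjective; in particular A is isomorphic to R/I for the
ideal I = ker(R → A). -/
theorem result {R : Type u} [CommRing R] (S : Submonoid R) (A : Type u) [CommRing A] [Algebra R A] [IsLocalization S A] (hcl : IsClosed (Set.range (PrimeSpectrum.comap (algebraMap R A)))) : Function.Surjective (algebraMap R A) := by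
  have hunit : ∀ s ∈ S, ∃ r : R, algebraMap R A r * algebraMap R A s = 1 := by
    intro s hs
    have htop : Ideal.span {s} ⊔ RingHom.ker (algebraMap R A) = ⊤ := by
      by_contra hne
      obtain ⟨P, hPmax, hle⟩ := Ideal.exists_le_maximal _ hne
      have hdisj := key S A hcl ⟨P, hPmax.isPrime⟩ (le_trans le_sup_right hle)
      have hsP : s ∈ P := hle (Ideal.mem_sup_left (Ideal.mem_span_singleton_self s))
      exact Set.disjoint_left.mp hdisj hs hsP
    have h1 : (1 : R) ∈ Ideal.span {s} ⊔ RingHom.ker (algebraMap R A) := by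
      rw [htop]; trivial
    obtain ⟨a, ha, i, hi, hai⟩ := Submodule.mem_sup.mp h1
    obtain ⟨r, rfl⟩ := Ideal.mem_span_singleton'.mp ha
    refine ⟨r, ?_⟩
    have := congrArg (algebraMap R A) hai
    rw [map_add, map_mul, map_one, (RingHom.mem_ker).mp hi, add_zero] at this
    exact this
  intro a
  obtain ⟨⟨x, s⟩, hxs⟩ := IsLocalization.surj S a
  obtain ⟨r, hr⟩ := hunit s.1 s.2
  refine ⟨x * r, ?_⟩
  simp only at hxs
  rw [map_mul, ← hxs, mul_assoc, mul_comm (algebraMap R A s.1), hr, mul_one]

end Groth.Agent.S6273
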