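import Groth.Statements.S6274
import Mathlib

set_option autoImplicit false
universe u
open CAlg

namespace Groth.Agent.S6274

open PrimeSpectrum

theorem isOpen_range {R : Type u} [CommRing R] (S : Submonoid R)
    (hcl : IsClosed {p : PrimeSpectrum R | Disjoint (S : Set R) p.asIdeal})
    (h : TopologicalSpace.NoetherianSpace (PrimeSpectrum R) ∨ S.FG) :
    IsOpen {p : PrimeSpectrum R | Disjoint (S : Set R) p.asIdeal} := by
  rcases h with h | h
  · have hgen : StableUnderGeneralization {p : PrimeSpectrum R | Disjoint (S : Set R) p.asIdeal} := by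
      intro x y hyx hx
      have hle : y ≤ x := (le_iff_specializes y x).mpr hyx
      exact Set.disjoint_of_subset_right hle hx
    have hfin := TopologicalSpace.NoetherianSpace.finite_irreducibleComponents (α := PrimeSpectrum R)
    have hcompl : {p : PrimeSpectrum R | Disjoint (S : Set R) p.asIdeal}ᶜ =
        ⋃ C ∈ {C ∈ irreducibleComponents (PrimeSpectrum R) |
          Disjoint C {p : PrimeSpectrum R | Disjoint (S : Set R) p.asIdeal}}, C := by
      ext x
      simp only [Set.mem_compl_iff, Set.mem_iUnion, exists_prop]
      constructor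
      · intro hx
        refine ⟨irreducibleComponent x,
          ⟨irreducibleComponent_mem_irreducibleComponents x, ?_⟩, mem_irreducibleComponent⟩
        rw [Set.disjoint_left]
        intro y hyC hyZ
        have hirr : IsIrreducible (irreducibleComponent x) := isIrreducible_irreducibleComponent
        have hclC : IsClosed (irreducibleComponent x) := isClosed_irreducibleComponent
        have hη := hirr.isGenericPoint_genericPoint hclC
        have hsp : hirr.genericPoint ⤳ y := hη.specializes hyC
        have hηZ := hgen hsp hyZ
        have hCZ : irreducibleComponent x ⊆ {p : PrimeSpectrum R | Disjoint (S : Set R) p.asIdeal} := by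
          rw [← hη.def]
          exact hcl.closure_subset_iff.mpr (Set.singleton_subset_iff.mpr hηZ)
        exact hx (hCZ mem_irreducibleComponent)
      · rintro ⟨C, ⟨_, hCZ⟩, hxC⟩ hxZ
        exact Set.disjoint_left.mp hCZ hxC hxZ
    rw [← isClosed_compl_iff, hcompl]
    exact Set.Finite.isClosed_biUnion (hfin.subset (fun C hC => hC.1))
      (fun C hC => isClosed_of_mem_irreducibleComponents C hC.1)
  · obtain ⟨T, hT⟩ := h
    have : {p : PrimeSpectrum R | Disjoint (S : Set R) p.asIdeal} =
        (basicOpen (∏ t ∈ T, t) : Set (PrimeSpectrum R)) := by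
      ext p
      simp only [Set.mem_ofPred_eq, SetLike.mem_coe, mem_basicOpen]
      constructor
      · intro hd hprod
        obtain ⟨t, ht, htp⟩ := (Ideal.IsPrime.prod_mem_iff).mp hprod
        exact Set.disjoint_left.mp hd (hT ▸ Submonoid.subset_closure ht) htp
      · intro hprod
        rw [Set.disjoint_left]
        intro s hs hsp
        rw [SetLike.mem_coe, ← hT] at hs
        have key : ∀ s ∈ Submonoid.closure (T : Set R), s ∈ p.asIdeal → ∃ t ∈ T, t ∈ p.asIdeal := by
          intro s hs
          induction hs using Submonoid.closure_induction with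
          | mem t ht => exact fun h => ⟨t, ht, h⟩
          | one => exact fun h => absurd ((Ideal.eq_top_iff_one _).mpr h) p.isPrime.ne_top
          | mul a b _ _ iha ihb =>
            intro hab
            rcases p.isPrime.mem_or_mem hab with h | h
            · exact iha h
            · exact ihb h
        obtain ⟨t, ht, htp⟩ := key s hs hsp
        exact hprod (Ideal.IsPrime.prod_mem_iff.mpr ⟨t, ht, htp⟩)
    rw [this]
    exact (basicOpen _).isOpen

/-- Let R be a ring, S ⊆ R a multiplicative subset and A = S⁻¹R, and assume the image of Spec(A) →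
Spec(R) is closed. If Spec(R) is a Noetherian topological space (which holds when R is Noetherian)
or S is finitely generated as a monoid, then R is isomorphic to A × R' for some ring R', by an
isomorphism whose first component is the localization map R → A. -/
theorem result {R : Type u} [CommRing R] (S : Submonoid R) (A : Type u) [CommRing A] [Algebra R A] [IsLocalization S A] (hcl : IsClosed (Set.range (PrimeSpectrum.comap (algebraMap R A)))) (h : TopologicalSpace.NoetherianSpace (PrimeSpectrum R) ∨ S.FG) : ∃ (R' : Type u) (_ : CommRing R') (e : R ≃+* A × R'), ∀ x : R, (e x).1 = algebraMap R A x := by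
  rw [localization_comap_range A S] at hcl
  have hop := isOpen_range S hcl h
  obtain ⟨e, f, hef, hadd, hZ⟩ := isClopen_iff_mul_add.mp ⟨hcl, hop⟩
  have he : e * e = e := by
    have : e * (e + f) = e := by rw [hadd, mul_one]
    rw [mul_add, hef, add_zero] at this; exact this
  have hf : f * f = f := by
    have : (e + f) * f = f := by rw [hadd, one_mul]
    rw [add_mul, hef, zero_add] at this; exact this
  have hunit : ∀ s ∈ S, ∃ t r : R, s * t = 1 + r * f := by
    intro s hs
    have htop : Ideal.span {s, f} = ⊤ := by
      by_contra hne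
      obtain ⟨m, hm, hle⟩ := Ideal.exists_le_maximal _ hne
      have hs' : s ∈ m := hle (Ideal.subset_span (by simp))
      have hf' : f ∈ m := hle (Ideal.subset_span (by simp))
      have hem : e ∉ m := fun hem =>
        hm.ne_top ((Ideal.eq_top_iff_one m).mpr (hadd ▸ Ideal.add_mem _ hem hf'))
      have hmZ : (⟨m, hm.isPrime⟩ : PrimeSpectrum R) ∈
          {p : PrimeSpectrum R | Disjoint (S : Set R) p.asIdeal} := by
        rw [hZ]; exact hem
      exact Set.disjoint_left.mp hmZ hs hs'
    have h1 : (1 : R) ∈ Ideal.span {s, f} := by rw [htop]; trivial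
    obtain ⟨a, b, hab⟩ := Ideal.mem_span_pair.mp h1
    exact ⟨a, -b, by linear_combination hab⟩
  have hf0 : algebraMap R A f = 0 := by
    have hnil : IsNilpotent (algebraMap R A f) := by
      rw [← mem_nilradical, nilradical_eq_sInf, Ideal.mem_sInf]
      intro P hP
      have hP' : P.IsPrime := hP
      have hmem : PrimeSpectrum.comap (algebraMap R A) ⟨P, hP'⟩ ∈
          {p : PrimeSpectrum R | Disjoint (S : Set R) p.asIdeal} := by
        rw [← localization_comap_range A S]; exact ⟨_, rfl⟩
      rw [hZ] at hmem
      have he' : algebraMap R A e ∉ P := hmem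
      have : algebraMap R A e * algebraMap R A f ∈ P := by
        rw [← map_mul, hef, map_zero]; exact Ideal.zero_mem _
      exact (hP'.mem_or_mem this).resolve_left he'
    obtain ⟨n, hn⟩ := hnil
    rcases n with _ | n
    · have : (1 : A) = 0 := by simpa using hn
      have hsub : Subsingleton A := subsingleton_of_zero_eq_one this.symm
      exact Subsingleton.elim _ _
    · have hfi : IsIdempotentElem f := hf
      rw [← map_pow, hfi.pow_succ_eq] at hn
      exact hn
  have he1 : algebraMap R A e = 1 := by
    have := congrArg (algebraMap R A) hadd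
    rw [map_add, hf0, add_zero, map_one] at this
    exact this
  have hsurj : Function.Surjective (algebraMap R A) := by
    intro a
    obtain ⟨x, s, rfl⟩ := IsLocalization.exists_mk'_eq S a
    obtain ⟨t, r, hst⟩ := hunit s s.2
    refine ⟨x * t, ?_⟩
    rw [IsLocalization.eq_mk'_iff_mul_eq, ← map_mul, mul_assoc, mul_comm t, hst, mul_add, mul_one,
      map_add, map_mul, map_mul, hf0, mul_zero, mul_zero, add_zero]
  have hker : ∀ x : R, algebraMap R A x = 0 → ∃ y, x = y * f := by
    intro x hx
    obtain ⟨s, hs⟩ := (IsLocalization.map_eq_zero_iff S A x).mp hx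
    obtain ⟨t, r, hst⟩ := hunit s s.2
    refine ⟨-(x * r), ?_⟩
    have h1 : x * (1 + r * f) = 0 := by
      rw [← hst, ← mul_assoc, mul_comm x, hs, zero_mul]
    linear_combination h1
  let Φ : R →+* A × (R ⧸ Ideal.span {e}) := (algebraMap R A).prod (Ideal.Quotient.mk _)
  have hΦ : Function.Bijective Φ := by
    constructor
    · rw [injective_iff_map_eq_zero]
      intro x hx
      have h1 : algebraMap R A x = 0 := congrArg Prod.fst hx
      have h2 : Ideal.Quotient.mk (Ideal.span {e}) x = 0 := congrArg Prod.snd hx
      obtain ⟨y, hy⟩ := hker x h1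
      rw [Ideal.Quotient.eq_zero_iff_mem, Ideal.mem_span_singleton'] at h2
      obtain ⟨z, hz⟩ := h2
      have : x = x * (e + f) := by rw [hadd, mul_one]
      rw [this, mul_add]
      have hxe : x * e = 0 := by rw [hy, mul_assoc, mul_comm f e, hef, mul_zero]
      have hxf : x * f = 0 := by rw [← hz, mul_assoc, hef, mul_zero]
      rw [hxe, hxf, add_zero]
    · rintro ⟨a, b⟩
      obtain ⟨x₀, rfl⟩ := hsurj a
      obtain ⟨y, rfl⟩ := Ideal.Quotient.mk_surjective b
      refine ⟨x₀ * e + y * f, ?_⟩
      apply Prod.ext
      · show algebraMap R A (x₀ * e + y * f) = algebraMap R A x₀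
        rw [map_add, map_mul, map_mul, he1, hf0, mul_one, mul_zero, add_zero]
      · show Ideal.Quotient.mk _ (x₀ * e + y * f) = Ideal.Quotient.mk _ y
        rw [Ideal.Quotient.eq, Ideal.mem_span_singleton']
        refine ⟨x₀ - y, ?_⟩
        have : f = 1 - e := by rw [← hadd]; ring
        rw [this]; ring
  exact ⟨R ⧸ Ideal.span {e}, inferInstance, RingEquiv.ofBijective Φ hΦ, fun x => rfl⟩

end Groth.Agent.S6274
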