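import Groth.Statements.S6276
import Mathlib
-- import your own Groth.Agent.* helpers here

set_option autoImplicit false
universe u
open scoped TensorProduct
open CAlg

namespace Groth.Agent.S6276

/-- Let k be a field, R a Noetherian k-algebra and K/k a finitely generated field extension. Then K ⊗ₖ R
is a Noetherian ring. -/
theorem result (k : Type u) [Field k] (R : Type u) [CommRing R] [Algebra k R] [IsNoetherianRing R] (K : Type u) [Field K] [Algebra k K] (hK : ∃ s : Finset K, IntermediateField.adjoin k (s : Set K) = ⊤) : IsNoetherianRing (K ⊗[k] R) := by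
  obtain ⟨s, hs⟩ := hK
  let A : Subalgebra k K := Algebra.adjoin k (s : Set K)
  have hfrac : IsFractionRing A K := by
    apply IsFractionRing.of_field
    intro z
    have hz : z ∈ IntermediateField.adjoin k (s : Set K) := by rw [hs]; trivial
    obtain ⟨r, hr, t, ht, e⟩ := IntermediateField.mem_adjoin_iff_div.mp hz
    exact ⟨⟨r, hr⟩, ⟨t, ht⟩, e⟩
  -- A ⊗[k] R is a finitely generated R-algebra, hence Noetherian
  have : Algebra.FiniteType k A := (Subalgebra.fg_iff_finiteType _).mp (Subalgebra.fg_adjoin_finset s)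
  have : IsNoetherianRing (R ⊗[k] A) := Algebra.FiniteType.isNoetherianRing R _
  have : IsNoetherianRing (A ⊗[k] R) :=
    isNoetherianRing_of_ringEquiv _ (Algebra.TensorProduct.comm k R A).toRingEquiv
  -- (A ⊗[k] R) ⊗[A] K is a localization of A ⊗[k] R
  have : IsLocalization (Algebra.algebraMapSubmonoid (A ⊗[k] R) (nonZeroDivisors A)) ((A ⊗[k] R) ⊗[A] K) :=
    IsLocalization.tensor K (nonZeroDivisors A)
  have : IsNoetherianRing ((A ⊗[k] R) ⊗[A] K) :=
    IsLocalization.isNoetherianRing (Algebra.algebraMapSubmonoid (A ⊗[k] R) (nonZeroDivisors A)) ((A ⊗[k] R) ⊗[A] K) inferInstance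
  let e1 : ((A ⊗[k] R) ⊗[A] K) ≃ₐ[A] (K ⊗[A] (A ⊗[k] R)) := Algebra.TensorProduct.comm A _ _
  let e2 : (K ⊗[A] (A ⊗[k] R)) ≃ₐ[K] K ⊗[k] R := Algebra.TensorProduct.cancelBaseChange k A K K R
  exact isNoetherianRing_of_ringEquiv _ (e1.toRingEquiv.trans e2.toRingEquiv)

end Groth.Agent.S6276
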