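import Groth.Statements.S6278
import Mathlib
-- import your own Groth.Agent.* helpers here

set_option autoImplicit false
universe u
open CAlg

namespace Groth.Agent.S6278.Aux

set_option autoImplicit false

namespace NormQ

theorem main (R : Type u) [CommRing R] (hR : EGA4.IsNormalRing R) :
    IsIntegrallyClosedIn R (FractionRing R) := by
  rw [isIntegrallyClosedIn_iff]
  refine ⟨IsLocalization.injective (FractionRing R) le_rfl, ?_⟩
  intro x hx
  obtain ⟨a, s, rfl⟩ := IsLocalization.exists_mk'_eq (nonZeroDivisors R) x
  -- the colon ideal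
  let J : Ideal R :=
    { carrier := {u | ∃ b, u * a = b * (s : R)}
      add_mem' := by
        rintro u v ⟨b, hb⟩ ⟨c, hc⟩
        exact ⟨b + c, by rw [add_mul, add_mul, hb, hc]⟩
      zero_mem' := ⟨0, by simp⟩
      smul_mem' := by
        rintro r u ⟨b, hb⟩
        exact ⟨r * b, by rw [smul_eq_mul, mul_assoc, hb, mul_assoc]⟩ }
  have hJ : J = ⊤ := by
    by_contra hne
    obtain ⟨m, hm, hJm⟩ := Ideal.exists_le_maximal J hne
    haveI := hm.isPrime
    obtain ⟨hdom, hic⟩ := hR m
    -- the map Q(R) → Frac(R_m)
    have hunit : ∀ t : nonZeroDivisors R,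
        IsUnit ((algebraMap (Localization.AtPrime m) (FractionRing (Localization.AtPrime m))).comp
          (algebraMap R (Localization.AtPrime m)) t) := by
      intro t
      rw [RingHom.comp_apply, isUnit_iff_ne_zero, Ne, IsFractionRing.to_map_eq_zero_iff,
        IsLocalization.map_eq_zero_iff m.primeCompl]
      rintro ⟨u, hu⟩
      have : (u : R) = 0 := by
        have := t.2
        rw [mem_nonZeroDivisors_iff] at this
        exact this.2 _ hu
      exact u.2 (this ▸ m.zero_mem)
    let ψ : FractionRing R →+* FractionRing (Localization.AtPrime m) :=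
      IsLocalization.lift hunit
    have hψ : ∀ r : R, ψ (algebraMap R (FractionRing R) r) =
        algebraMap (Localization.AtPrime m) (FractionRing (Localization.AtPrime m))
          (algebraMap R (Localization.AtPrime m) r) := fun r => IsLocalization.lift_eq hunit r
    have hint : IsIntegral (Localization.AtPrime m) (ψ (IsLocalization.mk' (FractionRing R) a s)) :=
      IsIntegral.map_of_comp_eq (algebraMap R (Localization.AtPrime m)) ψ
        (by ext r; simp [hψ]) hx
    obtain ⟨d, hd⟩ := IsIntegrallyClosed.isIntegral_iff.mp hint
    obtain ⟨b, t, rfl⟩ := IsLocalization.exists_mk'_eq m.primeCompl d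
    -- ψ x * s = a
    have h1 : ψ (IsLocalization.mk' (FractionRing R) a s) * ψ (algebraMap R (FractionRing R) s) =
        ψ (algebraMap R (FractionRing R) a) := by
      rw [← map_mul, IsLocalization.mk'_spec]
    rw [← hd, hψ, hψ, ← map_mul] at h1
    have h2 := IsFractionRing.injective (Localization.AtPrime m)
      (FractionRing (Localization.AtPrime m)) h1
    -- b * s = a * t in R_m
    have h3 : algebraMap R (Localization.AtPrime m) (b * s) =
        algebraMap R (Localization.AtPrime m) (a * t) := by
      rw [map_mul, map_mul, ← h2, mul_comm (IsLocalization.mk' _ b t), mul_assoc,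
        mul_comm (IsLocalization.mk' _ b t), IsLocalization.mk'_spec', mul_comm]
    obtain ⟨u, hu⟩ := (IsLocalization.eq_iff_exists m.primeCompl _).mp h3
    have hmem : (u : R) * t ∈ J := ⟨u * b, by
      rw [mul_assoc, mul_comm (t : R) a, ← hu, mul_assoc]⟩
    have : (u : R) * t ∈ m := hJm hmem
    rcases hm.isPrime.mem_or_mem this with h | h
    · exact u.2 h
    · exact t.2 h
  have h1 : (1 : R) ∈ J := hJ ▸ Submodule.mem_top
  obtain ⟨b, hb⟩ := h1
  refine ⟨b, ?_⟩
  rw [one_mul] at hb
  rw [IsLocalization.eq_mk'_iff_mul_eq, ← map_mul, hb]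

end NormQ

end Groth.Agent.S6278.Aux

namespace Groth.Agent.S6278

/-- A normal ring R (all localizations at primes are integrally closed domains) is integrally closed in
its total ring of fractions. -/
theorem result (R : Type u) [CommRing R] (hR : EGA4.IsNormalRing R) : IsIntegrallyClosedIn R (FractionRing R) := by
  exact Aux.NormQ.main R hR

end Groth.Agent.S6278
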