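import Groth.Statements.S6282
import Mathlib.RingTheory.Flat.FaithfullyFlat.Basic
import Mathlib.LinearAlgebra.TensorProduct.Tower

set_option autoImplicit false
universe u
open scoped TensorProduct
open CAlg

namespace Groth.Agent.S6282

open TensorProduct in
theorem square {R S S' : Type u} [CommRing R] [CommRing S] [CommRing S'] [Algebra R S]
    [Algebra R S'] [Algebra S S'] [IsScalarTower R S S'] (M : Type u) [AddCommGroup M] [Module S M]
    [Module R M] [IsScalarTower R S M] {N N' : Type u} [AddCommGroup N] [AddCommGroup N']
    [Module R N] [Module R N'] (f : N →ₗ[R] N') (x : (S' ⊗[S] M) ⊗[R] N) :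
    AlgebraTensorModule.assoc R S S' S' M N' (f.lTensor (S' ⊗[S] M) x) =
      (LinearMap.lTensor S' (AlgebraTensorModule.lTensor S M f))
        (AlgebraTensorModule.assoc R S S' S' M N x) := by
  induction x using TensorProduct.induction_on with
  | zero => simp
  | tmul y n =>
    induction y using TensorProduct.induction_on with
    | zero => simp
    | tmul s m => simp
    | add a b ha hb =>
      simp only [add_tmul, map_add] at ha hb ⊢
      rw [ha, hb]
  | add a b ha hb =>
    simp only [map_add]
    rw [ha, hb]

open TensorProduct in
theorem inj_iff {R S S' : Type u} [CommRing R] [CommRing S] [CommRing S'] [Algebra R S]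
    [Algebra R S'] [Algebra S S'] [IsScalarTower R S S'] (M : Type u) [AddCommGroup M] [Module S M]
    [Module R M] [IsScalarTower R S M] {N N' : Type u} [AddCommGroup N] [AddCommGroup N']
    [Module R N] [Module R N'] (f : N →ₗ[R] N') :
    Function.Injective (f.lTensor (S' ⊗[S] M)) ↔
      Function.Injective (LinearMap.lTensor S' (AlgebraTensorModule.lTensor S M f)) := by
  have h : (AlgebraTensorModule.assoc R S S' S' M N') ∘ (f.lTensor (S' ⊗[S] M)) =
      (LinearMap.lTensor S' (AlgebraTensorModule.lTensor S M f)) ∘
        (AlgebraTensorModule.assoc R S S' S' M N) := funext (square M f)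
  constructor
  · intro hinj
    have h1 : Function.Injective ((LinearMap.lTensor S' (AlgebraTensorModule.lTensor S M f)) ∘
        (AlgebraTensorModule.assoc R S S' S' M N)) := by
      rw [← h]
      exact (AlgebraTensorModule.assoc R S S' S' M N').injective.comp hinj
    intro a b hab
    obtain ⟨a', rfl⟩ := (AlgebraTensorModule.assoc R S S' S' M N).surjective a
    obtain ⟨b', rfl⟩ := (AlgebraTensorModule.assoc R S S' S' M N).surjective b
    rw [h1 hab]
  · intro hinj
    have h1 : Function.Injective ((AlgebraTensorModule.assoc R S S' S' M N') ∘
        (f.lTensor (S' ⊗[S] M))) := by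
      rw [h]
      exact hinj.comp (AlgebraTensorModule.assoc R S S' S' M N).injective
    exact Function.Injective.of_comp h1

/-- Let S → S' be a homomorphism of R-algebras, M an S-module, and M' = S' ⊗_S M with its induced
R-module structure. (1) When S' is flat over S, R-flatness of M passes to M'. (2) When S' is
faithfully flat over S, M is R-flat exactly when M' is. -/
theorem result {R S S' : Type u} [CommRing R] [CommRing S] [CommRing S'] [Algebra R S] [Algebra R S'] [Algebra S S'] [IsScalarTower R S S'] (M : Type u) [AddCommGroup M] [Module S M] [Module R M] [IsScalarTower R S M] : ([Module.Flat S S'] → Module.Flat R M → Module.Flat R (S' ⊗[S] M)) ∧ ([Module.FaithfullyFlat S S'] → (Module.Flat R M ↔ Module.Flat R (S' ⊗[S] M))) := by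
  refine ⟨fun hM => ?_, ⟨fun hM => ?_, fun hM' => ?_⟩⟩
  · rw [Module.Flat.iff_lTensor_preserves_injective_linearMap]
    intro N N' _ _ _ _ f hf
    rw [inj_iff]
    apply Module.Flat.lTensor_preserves_injective_linearMap
    exact Module.Flat.lTensor_preserves_injective_linearMap (M := M) f hf
  · rw [Module.Flat.iff_lTensor_preserves_injective_linearMap]
    intro N N' _ _ _ _ f hf
    rw [inj_iff]
    apply Module.Flat.lTensor_preserves_injective_linearMap
    exact Module.Flat.lTensor_preserves_injective_linearMap (M := M) f hf
  · rw [Module.Flat.iff_lTensor_preserves_injective_linearMap]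
    intro N N' _ _ _ _ f hf
    have h1 : Function.Injective (f.lTensor (TensorProduct S S' M)) :=
      Module.Flat.lTensor_preserves_injective_linearMap f hf
    rw [inj_iff, Module.FaithfullyFlat.lTensor_injective_iff_injective] at h1
    exact h1

end Groth.Agent.S6282
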