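import Groth.Statements.S6283
import Mathlib

set_option autoImplicit false
universe u
open scoped TensorProduct
open CAlg

namespace Groth.Agent.S6283

open TensorProduct in
theorem key {R S : Type u} [CommRing R] [CommRing S] [Algebra R S] [Module.Flat R S]
    {N : Type u} [AddCommGroup N] [Module R N] (f : R →ₗ[R] N) (s : S)
    (hs : (LinearMap.lTensor S f) (s ⊗ₜ[R] (1 : R)) = 0) :
    s ∈ Ideal.map (algebraMap R S) (LinearMap.ker f) := by
  have hex : Function.Exact (LinearMap.lTensor S (LinearMap.ker f).subtype)
      (LinearMap.lTensor S f) :=
    Module.Flat.lTensor_exact S (LinearMap.exact_subtype_ker_map f)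
  obtain ⟨z, hz⟩ := (hex _).1 hs
  have hmem : ∀ z : S ⊗[R] (LinearMap.ker f),
      (TensorProduct.rid R S) (LinearMap.lTensor S (LinearMap.ker f).subtype z) ∈
        Ideal.map (algebraMap R S) (LinearMap.ker f) := by
    intro z
    induction z using TensorProduct.induction_on with
    | zero => simp
    | tmul s' a =>
      simp only [LinearMap.lTensor_tmul, Submodule.subtype_apply, TensorProduct.rid_tmul]
      rw [Algebra.smul_def]
      exact Ideal.mul_mem_right _ _ (Ideal.mem_map_of_mem _ a.2)
    | add x y hx hy =>
      rw [map_add, map_add]
      exact Ideal.add_mem _ hx hy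
  have := hmem z
  rw [hz, TensorProduct.rid_tmul, one_smul] at this
  exact this

/-- Let R → S be a flat ring map, M an R-module and m ∈ M. Then Ann_R(m)S = Ann_S(1 ⊗ m), the
annihilator in S of the element 1 ⊗ m of S ⊗_R M. If moreover M is a finite R-module then Ann_R(M)S
= Ann_S(S ⊗_R M). -/
theorem result {R S : Type u} [CommRing R] [CommRing S] [Algebra R S] [Module.Flat R S] (M : Type u) [AddCommGroup M] [Module R M] : (∀ m : M, ((Submodule.span R {m}).annihilator).map (algebraMap R S) = (Submodule.span S {(1 : S) ⊗ₜ[R] m}).annihilator) ∧ (Module.Finite R M → (Module.annihilator R M).map (algebraMap R S) = Module.annihilator S (S ⊗[R] M)) := by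
  classical
  constructor
  · intro m
    apply le_antisymm
    · rw [Ideal.map_le_iff_le_comap]
      intro r hr
      rw [Submodule.mem_annihilator_span_singleton] at hr
      rw [Ideal.mem_comap, Submodule.mem_annihilator_span_singleton, algebraMap_smul,
        ← TensorProduct.tmul_smul, hr, TensorProduct.tmul_zero]
    · intro s hs
      rw [Submodule.mem_annihilator_span_singleton] at hs
      have h1 : (LinearMap.lTensor S (LinearMap.toSpanSingleton R M m)) (s ⊗ₜ[R] (1 : R)) = 0 := by
        rw [LinearMap.lTensor_tmul, LinearMap.toSpanSingleton_apply, one_smul]
        rw [TensorProduct.smul_tmul', smul_eq_mul, mul_one] at hs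
        exact hs
      have h2 := key (LinearMap.toSpanSingleton R M m) s h1
      have h3 : (LinearMap.ker (LinearMap.toSpanSingleton R M m) : Ideal R) =
          (Submodule.span R {m}).annihilator := by
        ext r
        rw [LinearMap.mem_ker, LinearMap.toSpanSingleton_apply,
          Submodule.mem_annihilator_span_singleton]
      rw [h3] at h2
      exact h2
  · intro hfin
    obtain ⟨k, g, hg⟩ := Module.Finite.exists_fin (R := R) (M := M)
    apply le_antisymm
    · rw [Ideal.map_le_iff_le_comap]
      intro r hr
      rw [Module.mem_annihilator] at hr
      rw [Ideal.mem_comap, Module.mem_annihilator]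
      intro z
      induction z using TensorProduct.induction_on with
      | zero => simp
      | tmul s' m =>
        rw [algebraMap_smul, ← TensorProduct.tmul_smul, hr m, TensorProduct.tmul_zero]
      | add x y hx hy => rw [smul_add, hx, hy, add_zero]
    · intro s hs
      rw [Module.mem_annihilator] at hs
      let f : R →ₗ[R] (Fin k → M) := LinearMap.pi (fun i => LinearMap.toSpanSingleton R M (g i))
      have h1 : (LinearMap.lTensor S f) (s ⊗ₜ[R] (1 : R)) = 0 := by
        apply (TensorProduct.piRight R R S (fun _ : Fin k => M)).injective
        rw [LinearMap.lTensor_tmul, map_zero]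
        funext i
        rw [TensorProduct.piRight_apply, TensorProduct.piRightHom_tmul]
        simp only [f, LinearMap.pi_apply, LinearMap.toSpanSingleton_apply, one_smul, Pi.zero_apply]
        have := hs ((1 : S) ⊗ₜ[R] g i)
        rw [TensorProduct.smul_tmul', smul_eq_mul, mul_one] at this
        exact this
      have h2 := key f s h1
      have h3 : (LinearMap.ker f : Ideal R) = Module.annihilator R M := by
        ext r
        rw [LinearMap.mem_ker, Module.mem_annihilator]
        constructor
        · intro h m
          have hm : m ∈ Submodule.span R (Set.range g) := by rw [hg]; trivial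
          induction hm using Submodule.span_induction with
          | mem x hx =>
            obtain ⟨i, rfl⟩ := hx
            have := congrFun h i
            simpa [f] using this
          | zero => simp
          | add x y _ _ hx hy => rw [smul_add, hx, hy, add_zero]
          | smul a x _ hx => rw [smul_comm, hx, smul_zero]
        · intro h
          funext i
          simp [f, h (g i)]
      rw [h3] at h2
      exact h2

end Groth.Agent.S6283
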