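import Groth.Statements.S6286
import Mathlib

set_option autoImplicit false
universe u
open scoped TensorProduct
open CAlg

namespace Groth.Agent.S6286


theorem mem_image_iff {R A : Type u} [CommRing R] [CommRing A] [Algebra R A] (f : A)
    (p : PrimeSpectrum R) :
    (∃ q : PrimeSpectrum A, f ∉ q.asIdeal ∧ q.asIdeal.comap (algebraMap R A) = p.asIdeal) ↔
      p ∈ PrimeSpectrum.comap (algebraMap R A) '' (PrimeSpectrum.basicOpen f) := by
  constructor
  · rintro ⟨q, hq, h⟩
    exact ⟨q, hq, PrimeSpectrum.ext h⟩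
  · rintro ⟨q, hq, h⟩
    exact ⟨q, hq, congrArg PrimeSpectrum.asIdeal h⟩

/-- Let k be a field, R and S k-algebras, S' ⊆ S a k-subalgebra and f ∈ R ⊗ₖ S', with image f again in R
⊗ₖ S. Then the images in Spec(R) of Spec((R ⊗ₖ S)_f) and of Spec((R ⊗ₖ S')_f) coincide: a prime p of
R is the contraction of a prime of R ⊗ₖ S not containing f if and only if it is the contraction of a
prime of R ⊗ₖ S' not containing f. -/
theorem result (k : Type u) [Field k] (R S : Type u) [CommRing R] [Algebra k R] [CommRing S] [Algebra k S] (S' : Subalgebra k S) (f : R ⊗[k] S') (p : PrimeSpectrum R) : (∃ q : PrimeSpectrum (R ⊗[k] S), Algebra.TensorProduct.map (AlgHom.id k R) S'.val f ∉ q.asIdeal ∧ q.asIdeal.comap (algebraMap R (R ⊗[k] S)) = p.asIdeal) ↔ (∃ q' : PrimeSpectrum (R ⊗[k] S'), f ∉ q'.asIdeal ∧ q'.asIdeal.comap (algebraMap R (R ⊗[k] S')) = p.asIdeal) := by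
  rw [mem_image_iff, mem_image_iff, PrimeSpectrum.mem_image_comap_basicOpen,
    PrimeSpectrum.mem_image_comap_basicOpen, not_iff_not]
  -- the R-algebra map φ
  let φ : (R ⊗[k] S') →ₐ[R] (R ⊗[k] S) := Algebra.TensorProduct.map (AlgHom.id R R) S'.val
  have hφ : ∀ x, φ x = Algebra.TensorProduct.map (AlgHom.id k R) S'.val x := by
    intro x
    induction x using TensorProduct.induction_on with
    | zero => simp
    | tmul a b => simp [φ]
    | add x y hx hy => rw [map_add, map_add, hx, hy]
  -- retraction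
  obtain ⟨r, hr⟩ := LinearMap.exists_leftInverse_of_injective S'.val.toLinearMap
    (LinearMap.ker_eq_bot.mpr Subtype.val_injective)
  let ρ : (R ⊗[k] S) →ₗ[R] (R ⊗[k] S') := TensorProduct.AlgebraTensorModule.lTensor R R r
  have hρφ : ∀ x, ρ (φ x) = x := by
    intro x
    induction x using TensorProduct.induction_on with
    | zero => simp
    | tmul a b =>
      have : r (S'.val.toLinearMap b) = b := LinearMap.congr_fun hr b
      simp only [φ, ρ, Algebra.TensorProduct.map_tmul, AlgHom.id_apply,
        TensorProduct.AlgebraTensorModule.lTensor_tmul]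
      exact congrArg (fun z => a ⊗ₜ[k] z) this
    | add x y hx hy => rw [map_add, map_add, hx, hy]
  let ψ : ((R ⊗[k] S') ⊗[R] p.asIdeal.ResidueField) →ₐ[R] ((R ⊗[k] S) ⊗[R] p.asIdeal.ResidueField) :=
    Algebra.TensorProduct.map φ (AlgHom.id R _)
  have hψ : Function.Injective ψ := by
    have hleft : Function.LeftInverse (ρ.rTensor p.asIdeal.ResidueField) ψ := by
      intro z
      induction z using TensorProduct.induction_on with
      | zero => simp
      | tmul a b =>
        simp only [ψ, Algebra.TensorProduct.map_tmul, AlgHom.id_apply, LinearMap.rTensor_tmul, hρφ]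
      | add x y hx hy => rw [map_add, map_add, hx, hy]
    exact hleft.injective
  simp only [Algebra.TensorProduct.algebraMap_apply, Algebra.algebraMap_self, RingHom.id_apply]
  rw [← hφ]
  have hf : ψ (f ⊗ₜ[R] (1 : p.asIdeal.ResidueField)) = (φ f) ⊗ₜ[R] (1 : p.asIdeal.ResidueField) := by
    simp [ψ]
  rw [← hf]
  have hψ' : Function.Injective (ψ.toRingHom) := hψ
  exact IsNilpotent.map_iff (f := ψ.toRingHom) hψ'

end Groth.Agent.S6286
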