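import Groth.Statements.S6289
-- import your own Groth.Agent.* helpers here

set_option autoImplicit false
universe u
open CAlg

namespace Groth.Agent.S6289

/-- Let A' be a valuation ring with residue field K and A ⊆ K a valuation ring with fraction field K.
Then the subring C of A' consisting of the elements whose residue class lies in A is a valuation
ring. -/
theorem result (A' : Type u) [CommRing A'] [IsDomain A'] [ValuationRing A'] (A : ValuationSubring (IsLocalRing.ResidueField A')) : ValuationRing (A.toSubring.comap (IsLocalRing.residue A')) := by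
  refine { toPreValuationRing := ⟨?_⟩ }
  intro a b
  obtain ⟨c, hc⟩ := ValuationRing.cond (a : A') (b : A')
  by_cases hcC : IsLocalRing.residue A' c ∈ A
  · refine ⟨⟨c, hcC⟩, ?_⟩
    rcases hc with h | h
    · left; ext; exact h
    · right; ext; exact h
  · have hne : IsLocalRing.residue A' c ≠ 0 := fun h0 => hcC (h0 ▸ A.zero_mem)
    have hu : IsUnit c := by
      by_contra hnu
      exact hne ((IsLocalRing.residue_eq_zero_iff c).mpr hnu)
    obtain ⟨u, rfl⟩ := hu
    have hinv : IsLocalRing.residue A' (↑u⁻¹ : A') ∈ A := by
      rcases A.mem_or_inv_mem (IsLocalRing.residue A' (u : A')) with h | h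
      · exact absurd h hcC
      · have e : (IsLocalRing.residue A' (u : A'))⁻¹ = IsLocalRing.residue A' (↑u⁻¹ : A') := by
          apply inv_eq_of_mul_eq_one_right
          rw [← map_mul, Units.mul_inv, map_one]
        rwa [e] at h
    refine ⟨⟨(↑u⁻¹ : A'), hinv⟩, ?_⟩
    rcases hc with h | h
    · right
      ext
      show (b : A') * ↑u⁻¹ = a
      rw [← h, mul_assoc, Units.mul_inv, mul_one]
    · left
      ext
      show (a : A') * ↑u⁻¹ = b
      rw [← h, mul_assoc, Units.mul_inv, mul_one]

end Groth.Agent.S6289
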