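import Groth.Statements.S6291
import Mathlib.RingTheory.FiniteLength
import Mathlib.RingTheory.SimpleModule.Basic
import Mathlib.RingTheory.LocalRing.MaximalIdeal.Basic

set_option autoImplicit false
universe u
open CAlg

namespace Groth.Agent.S6291

/-- Let R be a local ring with maximal ideal m and M an R-module of finite length. Then mⁿM = 0 for some
n. -/
theorem result {R : Type u} [CommRing R] [IsLocalRing R] (M : Type u) [AddCommGroup M] [Module R M] (hM : IsFiniteLength R M) : ∃ n : ℕ, (IsLocalRing.maximalIdeal R) ^ n • (⊤ : Submodule R M) = ⊥ := by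
  induction hM with
  | of_subsingleton =>
    exact ⟨0, Subsingleton.elim _ _⟩
  | @of_simple_quotient M _ _ N hs hN ih =>
    obtain ⟨n, hn⟩ := ih
    have hann : Module.annihilator R (M ⧸ N) = IsLocalRing.maximalIdeal R :=
      IsLocalRing.eq_maximalIdeal (IsSimpleModule.annihilator_isMaximal (R := R) (M := M ⧸ N))
    have hmM : IsLocalRing.maximalIdeal R • (⊤ : Submodule R M) ≤ N := by
      rw [Submodule.smul_le]
      intro a ha x _
      rw [← hann, Module.mem_annihilator] at ha
      have := ha (Submodule.Quotient.mk x)
      rwa [← Submodule.Quotient.mk_smul, Submodule.Quotient.mk_eq_zero] at this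
    have hN' : IsLocalRing.maximalIdeal R ^ n • N = ⊥ := by
      have h1 : Submodule.map N.subtype (IsLocalRing.maximalIdeal R ^ n • (⊤ : Submodule R N)) =
          IsLocalRing.maximalIdeal R ^ n • Submodule.map N.subtype ⊤ := Submodule.map_smul'' _ _ _
      rw [hn, Submodule.map_bot, Submodule.map_top, Submodule.range_subtype] at h1
      exact h1.symm
    refine ⟨n + 1, ?_⟩
    rw [pow_succ, Submodule.mul_smul, eq_bot_iff, ← hN']
    exact Submodule.smul_mono le_rfl hmM

end Groth.Agent.S6291
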