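import Groth.Statements.S6292
import Mathlib.RingTheory.Length
import Mathlib.Algebra.Module.Torsion.Basic
import Mathlib.RingTheory.Finiteness.Ideal
import Mathlib.RingTheory.Ideal.Quotient.Basic

set_option autoImplicit false
universe u
open CAlg

namespace Groth.Agent.S6292

theorem length_ne_top_of_killed {R : Type u} [CommRing R] (m : Ideal R) [m.IsMaximal]
    (V : Type u) [AddCommGroup V] [Module R V] [Module.Finite R V]
    (hV : ∀ a ∈ m, ∀ x : V, a • x = 0) : Module.length R V ≠ ⊤ := by
  have htors : Module.IsTorsionBySet R V (m : Set R) := fun x a => hV a.1 a.2 x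
  letI : Field (R ⧸ m) := Ideal.Quotient.field m
  letI : Module (R ⧸ m) V := htors.module
  haveI : IsScalarTower R (R ⧸ m) V := htors.isScalarTower
  haveI : Module.Finite (R ⧸ m) V := Module.Finite.of_restrictScalars_finite R (R ⧸ m) V
  rw [Module.length_eq_of_surjective (S := R) (R := R ⧸ m) (M := V) Ideal.Quotient.mk_surjective,
    Module.length_eq_finrank]
  exact ENat.coe_ne_top _

theorem main {R : Type u} [CommRing R] (m : Ideal R) [m.IsMaximal] (hm : m.FG) :
    ∀ (n : ℕ) (M : Type u) [AddCommGroup M] [Module R M] [Module.Finite R M],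
      m ^ n • (⊤ : Submodule R M) = ⊥ → Module.length R M ≠ ⊤ := by
  intro n
  induction n with
  | zero =>
    intro M _ _ _ hn
    rw [pow_zero, Ideal.one_eq_top, Submodule.top_smul] at hn
    haveI : Subsingleton M := by
      rw [← Submodule.subsingleton_iff R, ← subsingleton_iff_bot_eq_top]
      exact hn.symm
    rw [Module.length_eq_zero]
    exact ENat.zero_ne_top
  | succ n ih =>
    intro M _ _ _ hn
    set N : Submodule R M := m ^ n • ⊤ with hN
    have hNfg : N.FG := Submodule.FG.smul (Ideal.FG.pow hm) Module.Finite.fg_top
    haveI : Module.Finite R N := Module.Finite.iff_fg.mpr hNfg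
    have h1 : Module.length R N ≠ ⊤ := by
      apply length_ne_top_of_killed m
      intro a ha x
      ext
      have : a • (x : M) ∈ m ^ (n + 1) • (⊤ : Submodule R M) := by
        rw [pow_succ', Submodule.mul_smul]
        exact Submodule.smul_mem_smul ha x.2
      rw [hn] at this
      exact this
    have h2 : Module.length R (M ⧸ N) ≠ ⊤ := by
      apply ih
      have : m ^ n • (⊤ : Submodule R (M ⧸ N)) = Submodule.map N.mkQ (m ^ n • ⊤) := by
        rw [Submodule.map_smul'', Submodule.map_top, Submodule.range_mkQ]
      rw [this, ← hN, Submodule.mkQ_map_self]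
    rw [Module.length_eq_add_of_exact N.subtype N.mkQ N.subtype_injective
      (Submodule.mkQ_surjective N) (LinearMap.exact_subtype_mkQ N)]
    exact WithTop.add_ne_top.mpr ⟨h1, h2⟩

/-- Let R be a ring and m ⊆ R a finitely generated maximal ideal (for instance R Noetherian). If M is a
finite R-module with mⁿM = 0 for some n, then M has finite length. -/
theorem result {R : Type u} [CommRing R] (m : Ideal R) [m.IsMaximal] (hm : m.FG) (M : Type u) [AddCommGroup M] [Module R M] [Module.Finite R M] (n : ℕ) (hn : m ^ n • (⊤ : Submodule R M) = ⊥) : IsFiniteLength R M := by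
  rw [← Module.length_ne_top_iff]
  exact main m hm n M hn

end Groth.Agent.S6292
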