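import Groth.Statements.S6294
import Mathlib
-- import your own Groth.Agent.* helpers here

set_option autoImplicit false
universe u
open CAlg

namespace Groth.Agent.S6294.Aux

set_option autoImplicit false

namespace TotFrac

variable {R : Type u} [CommRing R]

/-- elements of a minimal prime are nilpotent in the localization -/
lemma exists_pow_mul_eq_zero {p : Ideal R} [p.IsPrime] (hp : p ∈ minimalPrimes R) {x : R}
    (hx : x ∈ p) : ∃ (n : ℕ) (t : R), t ∉ p ∧ t * x ^ n = 0 := by
  have h := IsLocalization.AtPrime.radical_map_of_mem_minimalPrimes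
    (A := Localization.AtPrime p) p ⊥ hp
  rw [Ideal.map_bot] at h
  have hx' : algebraMap R (Localization.AtPrime p) x ∈
      (⊥ : Ideal (Localization.AtPrime p)).radical := by
    rw [h]; exact Ideal.mem_map_of_mem _ hx
  obtain ⟨n, hn⟩ := hx'
  rw [Ideal.mem_bot, ← map_pow, IsLocalization.map_eq_zero_iff p.primeCompl] at hn
  obtain ⟨t, ht⟩ := hn
  exact ⟨n, t, t.2, ht⟩

variable {ι : Type} [Fintype ι] (q : ι → Ideal R) [∀ i, (q i).IsPrime]

/-- separating elements -/
lemma exists_sep (hinj : Function.Injective q)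
    (hmin : ∀ P : Ideal R, P ∈ minimalPrimes R ↔ P ∈ Set.range q) (i : ι) :
    ∃ e : R, e ∉ q i ∧ ∀ j, j ≠ i → algebraMap R (Localization.AtPrime (q j)) e = 0 := by
  classical
  have hz : ∀ j, j ≠ i → ∃ z : R, z ∉ q i ∧ algebraMap R (Localization.AtPrime (q j)) z = 0 := by
    intro j hj
    have hqj : q j ∈ minimalPrimes R := (hmin _).mpr ⟨j, rfl⟩
    have hqi : q i ∈ minimalPrimes R := (hmin _).mpr ⟨i, rfl⟩
    have hnle : ¬ q j ≤ q i := by
      intro hle
      have : q i ≤ q j := hqi.2 ⟨inferInstance, bot_le⟩ hle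
      exact hj (hinj (le_antisymm hle this))
    obtain ⟨y, hyj, hyi⟩ := SetLike.not_le_iff_exists.mp hnle
    obtain ⟨n, t, ht, htn⟩ := exists_pow_mul_eq_zero hqj hyj
    refine ⟨y ^ n, fun h => hyi (Ideal.IsPrime.mem_of_pow_mem inferInstance n h), ?_⟩
    rw [IsLocalization.map_eq_zero_iff (q j).primeCompl]
    exact ⟨⟨t, ht⟩, htn⟩
  choose! z hz1 hz2 using hz
  refine ⟨∏ j ∈ Finset.univ.erase i, z j, ?_, ?_⟩
  · intro h
    rw [Ideal.IsPrime.prod_mem_iff] at h
    obtain ⟨j, hj, hjm⟩ := h
    exact hz1 j (Finset.ne_of_mem_erase hj) hjm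
  · intro j hj
    rw [map_prod]
    exact Finset.prod_eq_zero (Finset.mem_erase.mpr ⟨hj, Finset.mem_univ j⟩) (hz2 j hj)

theorem main (hinj : Function.Injective q)
    (hmin : ∀ P : Ideal R, P ∈ minimalPrimes R ↔ P ∈ Set.range q)
    (hzd : ∀ x : R, x ∈ nonZeroDivisors R ↔ ∀ i, x ∉ q i) :
    IsLocalization (nonZeroDivisors R) (∀ i, Localization.AtPrime (q i)) := by
  classical
  choose e he1 he2 using exists_sep q hinj hmin
  -- the key computation
  have key : ∀ (w : ι → R) (j : ι),
      algebraMap R (Localization.AtPrime (q j)) (∑ i, w i * e i) =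
        algebraMap R (Localization.AtPrime (q j)) (w j * e j) := by
    intro w j
    rw [map_sum, Finset.sum_eq_single j]
    · intro i _ hij
      rw [map_mul, he2 i j (Ne.symm hij), mul_zero]
    · intro h; exact absurd (Finset.mem_univ j) h
  have hnzd : ∀ w : ι → R, (∀ i, w i ∉ q i) → ∑ i, w i * e i ∈ nonZeroDivisors R := by
    intro w hw
    rw [hzd]
    intro j hj
    have h1 : ¬ IsUnit (algebraMap R (Localization.AtPrime (q j)) (∑ i, w i * e i)) := by
      rw [IsLocalization.AtPrime.isUnit_to_map_iff (Localization.AtPrime (q j)) (q j)]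
      exact fun h => h hj
    apply h1
    rw [key, IsLocalization.AtPrime.isUnit_to_map_iff (Localization.AtPrime (q j)) (q j)]
    intro h
    rcases Ideal.IsPrime.mem_or_mem inferInstance h with h | h
    · exact hw j h
    · exact he1 j h
  refine ⟨?_, ?_, ?_⟩
  · intro s
    rw [Pi.isUnit_iff]
    intro i
    rw [Pi.algebraMap_apply, IsLocalization.AtPrime.isUnit_to_map_iff (Localization.AtPrime (q i)) (q i)]
    exact (hzd s).mp s.2 i
  · intro z
    have hsurj : ∀ i, ∃ (a : R) (s : R), s ∉ q i ∧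
        z i * algebraMap R (Localization.AtPrime (q i)) s =
          algebraMap R (Localization.AtPrime (q i)) a := by
      intro i
      obtain ⟨⟨a, s⟩, h⟩ := IsLocalization.surj (q i).primeCompl (z i)
      exact ⟨a, s, s.2, h⟩
    choose a s hs hz using hsurj
    refine ⟨⟨∑ i, a i * e i, ⟨∑ i, s i * e i, hnzd s hs⟩⟩, ?_⟩
    funext j
    simp only [Pi.mul_apply, Pi.algebraMap_apply]
    rw [key, key, map_mul, map_mul, ← mul_assoc, hz]
  · intro a b hab
    have hu : ∀ i, ∃ u : R, u ∉ q i ∧ u * a = u * b := by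
      intro i
      have := congrFun hab i
      simp only [Pi.algebraMap_apply] at this
      obtain ⟨u, hu⟩ := (IsLocalization.eq_iff_exists (q i).primeCompl _).mp this
      exact ⟨u, u.2, hu⟩
    choose u hu1 hu2 using hu
    refine ⟨⟨∑ i, u i * e i, hnzd u hu1⟩, ?_⟩
    simp only [Finset.sum_mul]
    apply Finset.sum_congr rfl
    intro i _
    rw [mul_right_comm, hu2, mul_right_comm]

end TotFrac

end Groth.Agent.S6294.Aux

namespace Groth.Agent.S6294

/-- Let R be a ring with finitely many minimal primes q₁, …, q_t, and assume that the zerodivisors of R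
are precisely the elements of q₁ ∪ … ∪ q_t. Then Q(R), the total ring of fractions of R, equals
R_{q₁} × … × R_{q_t}: the diagonal map R → ∏ R_{q_i} is a localization of R at its non-zerodivisors. -/
theorem result {R : Type u} [CommRing R] {ι : Type} [Fintype ι] (q : ι → Ideal R) [∀ i, (q i).IsPrime] (hinj : Function.Injective q) (hmin : ∀ P : Ideal R, P ∈ minimalPrimes R ↔ P ∈ Set.range q) (hzd : ∀ x : R, x ∈ nonZeroDivisors R ↔ ∀ i, x ∉ q i) : IsLocalization (nonZeroDivisors R) (∀ i, Localization.AtPrime (q i)) := by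
  exact Aux.TotFrac.main q hinj hmin hzd

end Groth.Agent.S6294
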