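import Groth.Statements.S6295
import Mathlib.RingTheory.KrullDimension.Zero
import Mathlib.RingTheory.LocalProperties.Reduced
import Mathlib.RingTheory.Ideal.MinimalPrime.Localization

set_option autoImplicit false
universe u
open CAlg

namespace Groth.Agent.S6295

theorem exists_minimal_not_mem (R : Type u) [CommRing R] [IsReduced R] (y : R) (hy : y ≠ 0) :
    ∃ p ∈ minimalPrimes R, y ∉ p := by
  by_contra hcon
  push Not at hcon
  apply hy
  have h1 : y ∈ sInf (minimalPrimes R) := by
    rw [Submodule.mem_sInf]
    exact hcon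
  have h2 : sInf (minimalPrimes R) = (⊥ : Ideal R).radical := Ideal.sInf_minimalPrimes
  rw [h2] at h1
  have h3 : (⊥ : Ideal R).radical = ⊥ := by
    have : (⊥ : Ideal R).radical = nilradical R := rfl
    rw [this, nilradical_eq_zero]
    rfl
  rw [h3] at h1
  exact h1

/-- Let R be a reduced ring. Then every localization R_p at a minimal prime p is a field and the map R →
∏_{p minimal} R_p is injective (so R is a subring of a product of fields); moreover the set of
zerodivisors of R is the union of the minimal primes. -/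
theorem result (R : Type u) [CommRing R] [IsReduced R] : (∀ p : PrimeSpectrum R, p.asIdeal ∈ minimalPrimes R → IsField (Localization.AtPrime p.asIdeal)) ∧ Function.Injective (algebraMap R (∀ p : {p : PrimeSpectrum R // p.asIdeal ∈ minimalPrimes R}, Localization.AtPrime p.1.asIdeal)) ∧ (∀ x : R, x ∉ nonZeroDivisors R ↔ ∃ p ∈ minimalPrimes R, x ∈ p) := by
  refine ⟨fun p hp => ?_, ?_, fun x => ⟨fun hx => ?_, fun ⟨p, hp, hxp⟩ => ?_⟩⟩
  · haveI : Ring.KrullDimLE 0 (Localization.AtPrime p.asIdeal) := .of_isLocalization _ hp _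
    exact Ring.KrullDimLE.isField_of_isReduced
  · rw [injective_iff_map_eq_zero]
    intro x hx
    by_contra hne
    obtain ⟨p, hp, hxp⟩ := exists_minimal_not_mem R x hne
    haveI : p.IsPrime := hp.1.1
    have h1 := congrFun hx ⟨⟨p, hp.1.1⟩, hp⟩
    rw [Pi.algebraMap_apply, Pi.zero_apply] at h1
    obtain ⟨⟨m, hm⟩, hmx⟩ := (IsLocalization.map_eq_zero_iff p.primeCompl
      (Localization.AtPrime p) x).mp h1
    have : m * x ∈ p := by rw [hmx]; exact p.zero_mem
    rcases (Ideal.IsPrime.mem_or_mem ‹_› this) with h | h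
    · exact hm h
    · exact hxp h
  · rw [mem_nonZeroDivisors_iff_right] at hx
    push Not at hx
    obtain ⟨y, hxy, hy⟩ := hx
    obtain ⟨p, hp, hyp⟩ := exists_minimal_not_mem R y hy
    refine ⟨p, hp, ?_⟩
    have hpp : p.IsPrime := hp.1.1
    have : y * x ∈ p := by rw [hxy]; exact p.zero_mem
    exact (hpp.mem_or_mem this).resolve_left hyp
  · exact notMem_nonZeroDivisors_of_mem_mem_minimalPrimes hxp hp

end Groth.Agent.S6295
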