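import Groth.Statements.S6297
import Mathlib
import Groth.Agent.Lib.Helper25Minors
-- import your own Groth.Agent.* helpers here

set_option autoImplicit false
universe u
open CAlg

namespace Groth.Agent.S6297.Aux
set_option autoImplicit false

namespace MinorInv
open Matrix

variable {R : Type u} [CommRing R] {n m : ℕ}

/-- selection matrix -/
def sel (f : Fin m → Fin n) : Matrix (Fin m) (Fin n) R :=
  Matrix.of fun i k => if k = f i then 1 else 0

theorem sel_mul (f : Fin m → Fin n) (A : Matrix (Fin n) (Fin m) R) :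
    (sel f : Matrix (Fin m) (Fin n) R) * A = A.submatrix f id := by
  ext i j
  rw [Matrix.mul_apply]
  simp [sel]

theorem part1_gen (A : Matrix (Fin n) (Fin m) R) (f : Fin m → Fin n) (g : Fin m → Fin m) :
    ∃ B : Matrix (Fin m) (Fin n) R, B * A = (A.submatrix f g).det • (1 : Matrix (Fin m) (Fin m) R) := by
  by_cases hg : Function.Injective g
  · have hbij : Function.Bijective g := Finite.injective_iff_bijective.mp hg
    let σ : Equiv.Perm (Fin m) := Equiv.ofBijective g hbij
    have h1 : A.submatrix f g = (A.submatrix f id).submatrix id σ := by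
      ext i j; rfl
    have h2 : (A.submatrix f g).det = Equiv.Perm.sign σ * (A.submatrix f id).det := by
      rw [h1, Matrix.det_permute']
    refine ⟨((Equiv.Perm.sign σ : ℤ) : R) • (adjugate (A.submatrix f id) * (sel f : Matrix (Fin m) (Fin n) R)), ?_⟩
    have h3 : adjugate (A.submatrix f id) * (sel f : Matrix (Fin m) (Fin n) R) * A = (A.submatrix f id).det • 1 := by
      rw [Matrix.mul_assoc (adjugate (A.submatrix f id)) (sel f : Matrix (Fin m) (Fin n) R) A, sel_mul, Matrix.adjugate_mul]
    rw [Matrix.smul_mul, h3, h2, smul_smul]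
  · refine ⟨0, ?_⟩
    rw [Matrix.zero_mul]
    obtain ⟨i, j, hij, hne⟩ : ∃ i j, g i = g j ∧ i ≠ j := by
      by_contra hcon
      exact hg fun i j hij => by
        by_contra hne
        exact hcon ⟨i, j, hij, hne⟩
    have : (A.submatrix f g).det = 0 := by
      rw [← Matrix.det_transpose]
      apply Matrix.det_zero_of_row_eq hne
      funext k
      simp [Matrix.transpose_apply, hij]
    rw [this, zero_smul]

theorem part1 (A : Matrix (Fin n) (Fin m) R) (x : R) (hx : x ∈ CAlgX.minorIdeal A m) :
    ∃ B : Matrix (Fin m) (Fin n) R, B * A = x • (1 : Matrix (Fin m) (Fin m) R) := by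
  unfold CAlgX.minorIdeal at hx
  induction hx using Submodule.span_induction with
  | mem x hx =>
    obtain ⟨fg, rfl⟩ := hx
    exact part1_gen A fg.1 fg.2
  | zero => exact ⟨0, by simp⟩
  | add x y _ _ hx hy =>
    obtain ⟨B1, h1⟩ := hx
    obtain ⟨B2, h2⟩ := hy
    exact ⟨B1 + B2, by rw [Matrix.add_mul, h1, h2, add_smul]⟩
  | smul a x _ hx =>
    obtain ⟨B1, h1⟩ := hx
    exact ⟨a • B1, by rw [Matrix.smul_mul, h1, smul_smul, smul_eq_mul]⟩

theorem part2 (A : Matrix (Fin n) (Fin m) R) (x : R) (B : Matrix (Fin m) (Fin n) R)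
    (h : B * A = x • (1 : Matrix (Fin m) (Fin m) R)) : x ^ m ∈ CAlgX.minorIdeal A m := by
  have hrows : ∀ i : Fin m, (B * A) i ∈ Submodule.span R (Set.range fun k : Fin n => A k) := by
    intro i
    have : (B * A) i = ∑ k, B i k • A k := by
      funext j
      simp [Matrix.mul_apply, Finset.sum_apply]
    rw [this]
    exact Submodule.sum_mem _ fun k _ => Submodule.smul_mem _ _ (Submodule.subset_span ⟨k, rfl⟩)
  have hdet := Groth.Agent.Lib.Helper25.MultilinearMap.map_mem_of_span
    (Matrix.detRowAlternating (R := R) (n := Fin m)).toMultilinearMap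
    (CAlgX.minorIdeal A m) (Set.range fun k : Fin n => A k)
    (by
      intro g hg
      choose f hf using hg
      have : g = fun i => A (f i) := funext fun i => (hf i).symm
      rw [this]
      exact Ideal.subset_span ⟨(f, id), rfl⟩)
    (fun i => (B * A) i) hrows
  have hval : (Matrix.detRowAlternating (R := R) (n := Fin m)).toMultilinearMap
      (fun i => (B * A) i) = x ^ m := by
    change det (B * A) = x ^ m
    rw [h, Matrix.det_smul, Matrix.det_one, mul_one, Fintype.card_fin]
  rw [hval] at hdet
  exact hdet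

theorem main (A : Matrix (Fin n) (Fin m) R) :
    (∀ f ∈ CAlgX.minorIdeal A m, ∃ B : Matrix (Fin m) (Fin n) R, B * A = f • (1 : Matrix (Fin m) (Fin m) R)) ∧ (∀ (f : R) (B : Matrix (Fin m) (Fin n) R), B * A = f • (1 : Matrix (Fin m) (Fin m) R) → f ^ m ∈ CAlgX.minorIdeal A m) :=
  ⟨part1 A, part2 A⟩

end MinorInv

end Groth.Agent.S6297.Aux

namespace Groth.Agent.S6297

/-- Let R be a ring, m ≤ n, A an n × m matrix over R and J the ideal generated by the m × m minors of A.
(1) For every f ∈ J there is an m × n matrix B with BA = f · 1. (2) If BA = f · 1 for some m × n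
matrix B, then f^m ∈ J. -/
theorem result {R : Type u} [CommRing R] {n m : ℕ} (hmn : m ≤ n) (A : Matrix (Fin n) (Fin m) R) : (∀ f ∈ CAlgX.minorIdeal A m, ∃ B : Matrix (Fin m) (Fin n) R, B * A = f • (1 : Matrix (Fin m) (Fin m) R)) ∧ (∀ (f : R) (B : Matrix (Fin m) (Fin n) R), B * A = f • (1 : Matrix (Fin m) (Fin m) R) → f ^ m ∈ CAlgX.minorIdeal A m) := by
  exact Aux.MinorInv.main A

end Groth.Agent.S6297
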