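import Groth.Statements.S6298
import Mathlib.RingTheory.Ideal.Operations
import Mathlib.Order.Preorder.Finite

set_option autoImplicit false
universe u
open CAlg

namespace Groth.Agent.S6298

theorem aux {R : Type u} [CommRing R] (x : R) (I : Ideal R) :
    ∀ (n : ℕ) (s : Finset (Ideal R)), s.card = n → (∀ P ∈ s, P.IsPrime) →
      (∀ P ∈ s, ∃ y ∈ I, x + y ∉ P) → ∃ y ∈ I, ∀ P ∈ s, x + y ∉ P := by
  classical
  intro n
  induction n with
  | zero =>
    intro s hs _ _
    rw [Finset.card_eq_zero] at hs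
    subst hs
    exact ⟨0, I.zero_mem, fun P hP => absurd hP (Finset.notMem_empty _)⟩
  | succ n ih =>
    intro s hs hprime h
    have hne : s.Nonempty := by rw [← Finset.card_pos]; omega
    obtain ⟨P₀, hP₀s, hmin⟩ := s.exists_minimal hne
    have hcard : (s.erase P₀).card = n := by rw [Finset.card_erase_of_mem hP₀s]; omega
    obtain ⟨y', hy'I, hy'⟩ := ih (s.erase P₀) hcard
      (fun P hP => hprime P (Finset.mem_of_mem_erase hP))
      (fun P hP => h P (Finset.mem_of_mem_erase hP))
    by_cases hmem : x + y' ∈ P₀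
    · have hP₀ := hprime P₀ hP₀s
      have hI : ¬ I ≤ P₀ := by
        intro hle
        obtain ⟨y₀, hy₀I, hy₀⟩ := h P₀ hP₀s
        apply hy₀
        have : x + y₀ = (x + y') + (y₀ - y') := by ring
        rw [this]
        exact P₀.add_mem hmem (P₀.sub_mem (hle hy₀I) (hle hy'I))
      have hJ : ¬ (s.erase P₀).inf id ≤ P₀ := by
        rw [hP₀.inf_le']
        rintro ⟨P, hP, hle⟩
        have hPs := Finset.mem_of_mem_erase hP
        have : P₀ ≤ P := hmin hPs hle
        exact (Finset.ne_of_mem_erase hP) (le_antisymm hle this)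
      have hIJ : ¬ I ⊓ (s.erase P₀).inf id ≤ P₀ := by
        rw [hP₀.inf_le]; push_neg; exact ⟨hI, hJ⟩
      obtain ⟨z, hz, hzP₀⟩ := SetLike.not_le_iff_exists.mp hIJ
      refine ⟨y' + z, I.add_mem hy'I hz.1, fun P hP => ?_⟩
      by_cases hPP₀ : P = P₀
      · subst hPP₀
        intro hcontra
        apply hzP₀
        have : z = (x + (y' + z)) - (x + y') := by ring
        rw [this]
        exact P.sub_mem hcontra hmem
      · have hPe : P ∈ s.erase P₀ := Finset.mem_erase.mpr ⟨hPP₀, hP⟩
        have hzP : z ∈ P := (Finset.inf_le hPe : (s.erase P₀).inf id ≤ id P) hz.2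
        intro hcontra
        apply hy' P hPe
        have : x + y' = (x + (y' + z)) - z := by ring
        rw [this]
        exact P.sub_mem hcontra hzP
    · refine ⟨y', hy'I, fun P hP => ?_⟩
      by_cases hPP₀ : P = P₀
      · subst hPP₀; exact hmem
      · exact hy' P (Finset.mem_erase.mpr ⟨hPP₀, hP⟩)

/-- Let R be a ring, x ∈ R, I ⊆ R an ideal and p₁, …, p_r prime ideals such that for each i the coset x
+ I is not contained in p_i. Then there is y ∈ I with x + y ∉ p_i for all i. -/
theorem result {R : Type u} [CommRing R] (x : R) (I : Ideal R) {r : ℕ} (p : Fin r → Ideal R) [∀ i, (p i).IsPrime] (h : ∀ i, ∃ y ∈ I, x + y ∉ p i) : ∃ y ∈ I, ∀ i, x + y ∉ p i := by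
  classical
  obtain ⟨y, hyI, hy⟩ := aux x I _ (Finset.univ.image p) rfl
    (fun P hP => by
      obtain ⟨i, -, rfl⟩ := Finset.mem_image.mp hP
      infer_instance)
    (fun P hP => by
      obtain ⟨i, -, rfl⟩ := Finset.mem_image.mp hP
      exact h i)
  exact ⟨y, hyI, fun i => hy (p i) (Finset.mem_image_of_mem p (Finset.mem_univ i))⟩

end Groth.Agent.S6298
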