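import Groth.Statements.S6359
import Mathlib.LinearAlgebra.TensorProduct.Vanishing
import Mathlib.Algebra.Module.FinitePresentation
import Mathlib.LinearAlgebra.Isomorphisms

set_option autoImplicit false
universe u
open CAlg
open scoped TensorProduct

namespace Groth.Agent.S6359

/-- Let f : M → N and g : M → M' be maps of R-modules such that the cokernel of f is finitely presented.
Then g dominates f (for every module Q the kernel of f ⊗ id_Q is contained in the kernel of g ⊗
id_Q) if and only if g factors through f. -/
theorem result (R : Type u) [CommRing R] {M N M' : Type u}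
    [AddCommGroup M] [Module R M] [AddCommGroup N] [Module R N] [AddCommGroup M'] [Module R M']
    (f : M →ₗ[R] N) (g : M →ₗ[R] M') [Module.FinitePresentation R (N ⧸ LinearMap.range f)] :
    (∀ (Q : Type u) [AddCommGroup Q] [Module R Q], LinearMap.ker (f.rTensor Q) ≤ LinearMap.ker (g.rTensor Q)) ↔
      ∃ h : N →ₗ[R] M', g = h ∘ₗ f := by
  constructor
  · intro hdom
    classical
    -- `ker f ≤ ker g`
    have hker : ∀ x : M, f x = 0 → g x = 0 := by
      intro x hx
      have h1 : x ⊗ₜ[R] (1 : R) ∈ LinearMap.ker (f.rTensor R) := by
        rw [LinearMap.mem_ker, LinearMap.rTensor_tmul, hx, TensorProduct.zero_tmul]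
      have h2 := hdom R h1
      rw [LinearMap.mem_ker, LinearMap.rTensor_tmul] at h2
      have := congrArg (TensorProduct.rid R M') h2
      simpa using this
    -- generators of the cokernel
    obtain ⟨k, c, hc⟩ := Module.Finite.exists_fin (R := R) (M := N ⧸ LinearMap.range f)
    have hlift : ∀ i, ∃ n : N, (LinearMap.range f).mkQ n = c i :=
      fun i => Submodule.mkQ_surjective _ (c i)
    choose n hn using hlift
    let p : (Fin k → R) →ₗ[R] (N ⧸ LinearMap.range f) := Fintype.linearCombination R c
    have hp : Function.Surjective p := by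
      rw [← LinearMap.range_eq_top, Fintype.range_linearCombination, hc]
    have hpn : ∀ r : Fin k → R, p r = (LinearMap.range f).mkQ (∑ i, r i • n i) := by
      intro r
      simp only [p, Fintype.linearCombination_apply, map_sum, map_smul, hn]
    have hK : (LinearMap.ker p).FG := Module.FinitePresentation.fg_ker p hp
    obtain ⟨l, ρ, hρ⟩ := Submodule.fg_iff_exists_fin_generating_family.mp hK
    have hρmem : ∀ j, ∃ m : M, f m = ∑ i, ρ j i • n i := by
      intro j
      have : ρ j ∈ LinearMap.ker p := by rw [← hρ]; exact Submodule.subset_span ⟨j, rfl⟩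
      rw [LinearMap.mem_ker, hpn, Submodule.mkQ_apply, Submodule.Quotient.mk_eq_zero] at this
      exact this
    choose m hm using hρmem
    -- the test module `Q`
    let w : Fin k → (Fin l → R) := fun i j => ρ j i
    let W : Submodule R (Fin l → R) := Submodule.span R (Set.range w)
    let e : Fin l → (Fin l → R) ⧸ W := fun j => W.mkQ (Pi.single j 1)
    have he : Submodule.span R (Set.range e) = ⊤ := by
      have : Set.range e = W.mkQ '' (Set.range (fun j : Fin l => (Pi.single j (1 : R) : Fin l → R))) := by
        rw [← Set.range_comp]; rfl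
      rw [this, ← Submodule.map_span]
      have h2 : Submodule.span R (Set.range (fun j : Fin l => (Pi.single j (1 : R) : Fin l → R))) = ⊤ :=
        (Pi.basisFun R (Fin l)).span_eq ▸ by
          congr 1
          ext x
          simp [Pi.basisFun_apply]
      rw [h2, Submodule.map_top, Submodule.range_mkQ]
    have hsum_e : ∀ a : Fin l → R, ∑ j, a j • e j = W.mkQ a := by
      intro a
      simp only [e, ← map_smul, ← map_sum]
      congr 1
      conv_rhs => rw [pi_eq_sum_univ' a]
    have hz : ∑ j, (m j) ⊗ₜ[R] (e j) ∈ LinearMap.ker (f.rTensor ((Fin l → R) ⧸ W)) := by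
      rw [LinearMap.mem_ker, map_sum]
      simp only [LinearMap.rTensor_tmul, hm, TensorProduct.sum_tmul, TensorProduct.smul_tmul]
      rw [Finset.sum_comm]
      simp only [← TensorProduct.tmul_sum]
      have : ∀ i, ∑ j, ρ j i • e j = 0 := by
        intro i
        rw [hsum_e (fun j => ρ j i), Submodule.mkQ_apply, Submodule.Quotient.mk_eq_zero]
        exact Submodule.subset_span ⟨i, rfl⟩
      simp only [this, TensorProduct.tmul_zero, Finset.sum_const_zero]
    have hz' := hdom _ hz
    rw [LinearMap.mem_ker, map_sum] at hz'
    simp only [LinearMap.rTensor_tmul] at hz'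
    have hz'' : ∑ j, (e j) ⊗ₜ[R] (g (m j)) = 0 := by
      have := congrArg (TensorProduct.comm R M' ((Fin l → R) ⧸ W)) hz'
      simpa using this
    obtain ⟨κ, a, y, hay, ha⟩ := TensorProduct.vanishesTrivially_of_sum_tmul_eq_zero R he hz''
    -- coefficients
    have hcoef : ∀ t : Fin κ, ∃ d : Fin k → R, ∑ i, d i • w i = fun j => a j t := by
      intro t
      have h1 := ha t
      rw [hsum_e (fun j => a j t), Submodule.mkQ_apply, Submodule.Quotient.mk_eq_zero] at h1
      exact (Submodule.mem_span_range_iff_exists_fun R).mp h1
    choose d hd using hcoef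
    let y' : Fin k → M' := fun i => ∑ t, d t i • y t
    have hy' : ∀ j, ∑ i, ρ j i • y' i = g (m j) := by
      intro j
      have hayj : g (m j) = ∑ t, a j t • y t := hay j
      rw [hayj]
      simp only [y', Finset.smul_sum, smul_smul]
      rw [Finset.sum_comm]
      refine Finset.sum_congr rfl fun t _ => ?_
      rw [← Finset.sum_smul]
      congr 1
      have := congrFun (hd t) j
      simp only [Finset.sum_apply, Pi.smul_apply, smul_eq_mul, w] at this
      rw [← this]
      exact Finset.sum_congr rfl fun i _ => mul_comm _ _
    -- the maps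
    let π : (M × (Fin k → R)) →ₗ[R] N := f.coprod (Fintype.linearCombination R n)
    let φ : (M × (Fin k → R)) →ₗ[R] M' := g.coprod (Fintype.linearCombination R y')
    have hπ : Function.Surjective π := by
      intro v
      obtain ⟨r, hr⟩ := hp ((LinearMap.range f).mkQ v)
      rw [hpn, eq_comm, Submodule.mkQ_apply, Submodule.mkQ_apply, Submodule.Quotient.eq] at hr
      obtain ⟨x, hx⟩ := hr
      refine ⟨(x, r), ?_⟩
      simp only [π, LinearMap.coprod_apply, Fintype.linearCombination_apply, hx]
      abel
    have hle : LinearMap.ker π ≤ LinearMap.ker φ := by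
      rintro ⟨x, r⟩ hxr
      rw [LinearMap.mem_ker] at hxr ⊢
      simp only [π, φ, LinearMap.coprod_apply, Fintype.linearCombination_apply] at hxr ⊢
      have hr : r ∈ LinearMap.ker p := by
        rw [LinearMap.mem_ker, hpn, Submodule.mkQ_apply, Submodule.Quotient.mk_eq_zero]
        refine ⟨-x, ?_⟩
        rw [map_neg]
        exact neg_eq_of_add_eq_zero_right hxr
      rw [← hρ] at hr
      obtain ⟨b, hb⟩ := (Submodule.mem_span_range_iff_exists_fun R).mp hr
      have hri : ∀ i, r i = ∑ j, b j * ρ j i := by
        intro i
        rw [← hb]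
        simp [Finset.sum_apply]
      have h1 : ∑ i, r i • n i = f (∑ j, b j • m j) := by
        simp only [map_sum, map_smul, hm, hri, Finset.sum_smul, Finset.smul_sum, smul_smul]
        rw [Finset.sum_comm]
      have h2 : ∑ i, r i • y' i = g (∑ j, b j • m j) := by
        simp only [map_sum, map_smul, ← hy', hri, Finset.sum_smul, Finset.smul_sum, smul_smul]
        rw [Finset.sum_comm]
      rw [h1, ← map_add] at hxr
      rw [h2, ← map_add]
      exact hker _ hxr
    refine ⟨(LinearMap.ker π).liftQ φ hle ∘ₗ (π.quotKerEquivOfSurjective hπ).symm.toLinearMap, ?_⟩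
    ext x
    have hx : f x = π (x, 0) := by
      simp [π]
    simp only [LinearMap.coe_comp, LinearEquiv.coe_coe, Function.comp_apply]
    rw [hx, LinearMap.quotKerEquivOfSurjective_symm_apply, Submodule.liftQ_apply]
    simp [φ]
  · rintro ⟨h, rfl⟩ Q _ _
    rw [LinearMap.rTensor_comp]
    exact LinearMap.ker_le_ker_comp _ _

end Groth.Agent.S6359
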