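import Groth.Statements.S6302
import Groth.Agent.S6359

set_option autoImplicit false
universe u
open CAlg

namespace Groth.Agent.S6302

/-- Let 0 → M₁ → M₂ → M₃ → 0 be a short exact sequence of R-modules with M₃ of finite presentation. If
the sequence is universally exact (its first map is universally injective) then it is split: M₂ → M₃
admits a section. (The converse, split implies universally exact, is elementary and not stated.) -/
theorem result {R : Type u} [CommRing R] {M₁ M₂ M₃ : Type u} [AddCommGroup M₁] [Module R M₁] [AddCommGroup M₂] [Module R M₂] [AddCommGroup M₃] [Module R M₃] [Module.FinitePresentation R M₃] (f : M₁ →ₗ[R] M₂) (g : M₂ →ₗ[R] M₃) (hexact : Function.Exact f g) (hg : Function.Surjective g) (hf : CAlgX.UniversallyInjective R f) : ∃ s : M₃ →ₗ[R] M₂, g.comp s = LinearMap.id := by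
  -- coker f ≅ M₃ is finitely presented
  have hker : LinearMap.ker g = LinearMap.range f := (LinearMap.exact_iff.mp hexact)
  let e : (M₂ ⧸ LinearMap.range f) ≃ₗ[R] M₃ :=
    (Submodule.quotEquivOfEq _ _ hker.symm).trans (g.quotKerEquivOfSurjective hg)
  have : Module.FinitePresentation R (M₂ ⧸ LinearMap.range f) :=
    Module.FinitePresentation.of_equiv e.symm
  -- `id` dominates `f`
  have hdom : ∀ (Q : Type u) [AddCommGroup Q] [Module R Q],
      LinearMap.ker (f.rTensor Q) ≤ LinearMap.ker ((LinearMap.id : M₁ →ₗ[R] M₁).rTensor Q) := by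
    intro Q _ _ z hz
    rw [LinearMap.mem_ker] at hz ⊢
    have := hf Q (hz.trans (map_zero _).symm)
    rw [this, map_zero]
  obtain ⟨h, hh⟩ := (Groth.Agent.S6359.result R f LinearMap.id).mp hdom
  have hhf : ∀ x, h (f x) = x := fun x => (LinearMap.congr_fun hh x).symm
  -- the section
  let t : M₂ →ₗ[R] M₂ := LinearMap.id - f ∘ₗ h
  have ht : LinearMap.ker g ≤ LinearMap.ker t := by
    rw [hker]
    rintro _ ⟨x, rfl⟩
    simp [t, hhf]
  refine ⟨(LinearMap.ker g).liftQ t ht ∘ₗ (g.quotKerEquivOfSurjective hg).symm.toLinearMap, ?_⟩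
  ext y
  obtain ⟨x, rfl⟩ := hg y
  simp only [LinearMap.coe_comp, LinearEquiv.coe_coe, Function.comp_apply, LinearMap.id_coe, id_eq]
  rw [LinearMap.quotKerEquivOfSurjective_symm_apply, Submodule.liftQ_apply]
  simp only [t, LinearMap.sub_apply, LinearMap.id_coe, id_eq, LinearMap.coe_comp,
    Function.comp_apply, map_sub]
  rw [hexact.apply_apply_eq_zero, sub_zero]

end Groth.Agent.S6302
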