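import Groth.Statements.S6303
import Mathlib.RingTheory.Flat.EquationalCriterion
import Mathlib.RingTheory.Ideal.Operations

set_option autoImplicit false
universe u
open CAlg

namespace Groth.Agent.S6303

theorem mem_smul_top_exists {R : Type u} [CommRing R] (I : Ideal R) (M : Type u) [AddCommGroup M]
    [Module R M] (x : M) (hx : x ∈ I • (⊤ : Submodule R M)) :
    ∃ (s : Finset M) (a : M → R), (∀ m, a m ∈ I) ∧ x = ∑ m ∈ s, a m • m := by
  have h : x ∈ I • Submodule.span R (Set.range (id : M → M)) := by
    rw [Set.range_id, Submodule.span_univ]; exact hx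
  rw [Submodule.mem_ideal_smul_span_iff_exists_sum] at h
  obtain ⟨a, ha, rfl⟩ := h
  exact ⟨a.support, fun m => a m, ha, rfl⟩

/-- Let R be a ring, I, J ⊆ R ideals and M a flat R-module. Then IM ∩ JM = (I ∩ J)M. -/
theorem result {R : Type u} [CommRing R] (I J : Ideal R) (M : Type u) [AddCommGroup M] [Module R M] [Module.Flat R M] : (I • (⊤ : Submodule R M)) ⊓ (J • ⊤) = (I ⊓ J) • (⊤ : Submodule R M) := by
  classical
  apply le_antisymm
  · rintro x ⟨hxI, hxJ⟩
    obtain ⟨s, a, ha, hxa⟩ := mem_smul_top_exists I M x hxI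
    obtain ⟨t, b, hb, hxb⟩ := mem_smul_top_exists J M x hxJ
    let f : (s ⊕ t) → R := Sum.elim (fun i => a i.1) (fun j => - b j.1)
    let xs : (s ⊕ t) → M := Sum.elim (fun i => i.1) (fun j => j.1)
    have hrel : ∑ i, f i • xs i = 0 := by
      rw [Fintype.sum_sum_type]
      simp only [f, xs, Sum.elim_inl, Sum.elim_inr, neg_smul, Finset.sum_neg_distrib]
      rw [Finset.sum_coe_sort s (fun m => a m • m), Finset.sum_coe_sort t (fun m => b m • m),
        ← hxa, ← hxb, add_neg_cancel]
    obtain ⟨k, c, y, hxs, hc⟩ := Module.Flat.isTrivialRelation_of_sum_smul_eq_zero hrel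
    have hx : x = ∑ j, (∑ i : s, a i.1 * c (Sum.inl i) j) • y j := by
      rw [hxa, ← Finset.sum_coe_sort s (fun m => a m • m)]
      have : ∀ i : s, a i.1 • (i.1 : M) = ∑ j, (a i.1 * c (Sum.inl i) j) • y j := by
        intro i
        have := hxs (Sum.inl i)
        simp only [xs, Sum.elim_inl] at this
        calc a i.1 • (i.1 : M) = a i.1 • ∑ j, c (Sum.inl i) j • y j :=
              congrArg (fun z => a i.1 • z) this
          _ = ∑ j, (a i.1 * c (Sum.inl i) j) • y j := by
              rw [Finset.smul_sum]
              refine Finset.sum_congr rfl fun j _ => ?_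
              rw [mul_smul]
      simp only [this]
      rw [Finset.sum_comm]
      refine Finset.sum_congr rfl fun j _ => ?_
      rw [Finset.sum_smul]
    rw [hx]
    refine Submodule.sum_mem _ fun j _ => Submodule.smul_mem_smul ⟨?_, ?_⟩ trivial
    · exact sum_mem fun i _ => I.mul_mem_right _ (ha _)
    · have := hc j
      rw [Fintype.sum_sum_type] at this
      simp only [f, Sum.elim_inl, Sum.elim_inr, neg_mul, Finset.sum_neg_distrib] at this
      rw [add_neg_eq_zero] at this
      rw [this]
      exact sum_mem fun i _ => J.mul_mem_right _ (hb _)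
  · exact le_inf (Submodule.smul_mono_left inf_le_left) (Submodule.smul_mono_left inf_le_right)

end Groth.Agent.S6303
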