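import Groth.Statements.S6308
import Mathlib.RingTheory.Support
import Mathlib.RingTheory.LocalRing.Module
import Mathlib.RingTheory.Spectrum.Prime.Module
import Mathlib.LinearAlgebra.TensorProduct.RightExactness

set_option autoImplicit false
universe u
open scoped TensorProduct
open CAlg

namespace Groth.Agent.S6308

/-- Let R be a ring and φ : M → N a map of R-modules with N finite. For a prime p, the localization φ_p
: M_p → N_p is surjective if and only if φ ⊗ κ(p) : M ⊗ κ(p) → N ⊗ κ(p) is surjective; the set U of
such primes is open in Spec(R); and for every f ∈ R with D(f) ⊆ U the map M_f → N_f is surjective. -/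
theorem result {R : Type u} [CommRing R] {M N : Type u} [AddCommGroup M] [Module R M] [AddCommGroup N] [Module R N] [Module.Finite R N] (φ : M →ₗ[R] N) : (∀ p : PrimeSpectrum R, Function.Surjective (LocalizedModule.map p.asIdeal.primeCompl φ) ↔ Function.Surjective (φ.lTensor p.asIdeal.ResidueField)) ∧ IsOpen {p : PrimeSpectrum R | Function.Surjective (LocalizedModule.map p.asIdeal.primeCompl φ)} ∧ (∀ f : R, (↑(PrimeSpectrum.basicOpen f) : Set (PrimeSpectrum R)) ⊆ {p : PrimeSpectrum R | Function.Surjective (LocalizedModule.map p.asIdeal.primeCompl φ)} → Function.Surjective (LocalizedModule.map (Submonoid.powers f) φ)) := by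
  classical
  have hU : ∀ p : PrimeSpectrum R, Function.Surjective (LocalizedModule.map p.asIdeal.primeCompl φ) ↔
      p ∉ Module.support R (N ⧸ LinearMap.range φ) := by
    intro p
    rw [LinearMap.localizedMap_surjective_iff_subsingleton_localized_coker, Module.notMem_support_iff]
  have hset : {p : PrimeSpectrum R | Function.Surjective (LocalizedModule.map p.asIdeal.primeCompl φ)} =
      (Module.support R (N ⧸ LinearMap.range φ))ᶜ := by
    ext p
    exact hU p
  refine ⟨?_, ?_, ?_⟩
  · intro p
    rw [hU p, Module.mem_support_iff_nontrivial_residueField_tensorProduct,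
      not_nontrivial_iff_subsingleton]
    have hex : Function.Exact (φ.lTensor p.asIdeal.ResidueField)
        ((LinearMap.range φ).mkQ.lTensor p.asIdeal.ResidueField) :=
      lTensor_exact _ (LinearMap.exact_map_mkQ_range φ) (Submodule.mkQ_surjective _)
    have hsurj : Function.Surjective ((LinearMap.range φ).mkQ.lTensor p.asIdeal.ResidueField) :=
      LinearMap.lTensor_surjective _ (Submodule.mkQ_surjective _)
    constructor
    · intro hs w
      exact (hex w).mp (Subsingleton.elim _ _)
    · intro hs
      refine ⟨fun a b => ?_⟩
      have h0 : ∀ z : TensorProduct R p.asIdeal.ResidueField (N ⧸ LinearMap.range φ), z = 0 := by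
        intro z
        obtain ⟨w, rfl⟩ := hsurj z
        obtain ⟨v, rfl⟩ := hs w
        exact hex.apply_apply_eq_zero v
      rw [h0 a, h0 b]
  · rw [hset, isOpen_compl_iff]
    exact Module.isClosed_support
  · intro f hf
    rw [LinearMap.localizedMap_surjective_iff_subsingleton_localized_coker]
    apply LocalizedModule.subsingleton_iff_support_subset.mpr
    intro p hp
    by_contra hpf
    have : p ∈ (↑(PrimeSpectrum.basicOpen f) : Set (PrimeSpectrum R)) := by
      rw [PrimeSpectrum.basicOpen_eq_zeroLocus_compl]
      exact hpf
    have := hf this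
    rw [hset] at this
    exact this hp

end Groth.Agent.S6308
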