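import Groth.Statements.S6309
import Mathlib
import Groth.Agent.Lib.Helper22RedProj

set_option autoImplicit false
universe u
open scoped TensorProduct
open CAlg

namespace Groth.Agent.S6309

open Groth.Agent.Lib.Helper22.RedProj Topology

section fibre
variable {R : Type u} [CommRing R]

/-- upper semicontinuity of the fibre dimension of a finite module. -/
lemma fd_eventually_le (M : Type u) [AddCommGroup M] [Module R M] [Module.Finite R M]
    (p : PrimeSpectrum R) :
    ∀ᶠ q in 𝓝 p, Module.finrank q.asIdeal.ResidueField (fib q M) ≤
      Module.finrank p.asIdeal.ResidueField (fib p M) := by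
  obtain ⟨x, f, hfp, hf⟩ := exists_gens (M := M) p
  have hopen : IsOpen (PrimeSpectrum.basicOpen f : Set (PrimeSpectrum R)) :=
    (PrimeSpectrum.basicOpen f).2
  filter_upwards [hopen.mem_nhds ((PrimeSpectrum.mem_basicOpen f p).mpr hfp)] with q hq
  have hspan := span_fib x f hf q ((PrimeSpectrum.mem_basicOpen f q).mp hq)
  have := finrank_le_of_span_eq_top (R := q.asIdeal.ResidueField) hspan
  simpa using this

lemma fd_eventually_eq (M : Type u) [AddCommGroup M] [Module R M] [Module.Finite R M]
    [Module.Projective R M] (p : PrimeSpectrum R) :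
    ∀ᶠ q in 𝓝 p, Module.finrank q.asIdeal.ResidueField (fib q M) =
      Module.finrank p.asIdeal.ResidueField (fib p M) := by
  have : Module.FinitePresentation R M := Module.finitePresentation_of_projective R M
  have h := (Module.isLocallyConstant_rankAtStalk (R := R) (M := M)).eventually_eq p
  filter_upwards [h] with q hq
  have e1 : Module.finrank q.asIdeal.ResidueField (fib q M) = Module.rankAtStalk M q :=
    (Module.rankAtStalk_eq q).symm
  have e2 : Module.finrank p.asIdeal.ResidueField (fib p M) = Module.rankAtStalk M p :=
    (Module.rankAtStalk_eq p).symm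
  rw [e1, e2, hq]

variable {P₁ P₂ : Type u} [AddCommGroup P₁] [Module R P₁] [AddCommGroup P₂] [Module R P₂]

lemma fib_coker [Module.Finite R P₂] (φ : P₁ →ₗ[R] P₂) (y : PrimeSpectrum R) :
    Module.finrank y.asIdeal.ResidueField (fib y P₂) =
      Module.finrank y.asIdeal.ResidueField (fib y (P₂ ⧸ LinearMap.range φ)) +
      Module.finrank y.asIdeal.ResidueField
        ↥(LinearMap.range (φ.baseChange y.asIdeal.ResidueField)) := by
  have hex : Function.Exact (φ.baseChange y.asIdeal.ResidueField)
      ((Submodule.mkQ (LinearMap.range φ)).baseChange y.asIdeal.ResidueField) :=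
    lTensor_exact y.asIdeal.ResidueField (LinearMap.exact_map_mkQ_range φ)
      (Submodule.mkQ_surjective _)
  rw [LinearMap.exact_iff] at hex
  have hsurj : Function.Surjective
      ((Submodule.mkQ (LinearMap.range φ)).baseChange y.asIdeal.ResidueField) :=
    LinearMap.lTensor_surjective _ (Submodule.mkQ_surjective _)
  have h1 := LinearMap.finrank_range_add_finrank_ker
    ((Submodule.mkQ (LinearMap.range φ)).baseChange y.asIdeal.ResidueField)
  rw [LinearMap.range_eq_top.mpr hsurj, finrank_top, hex] at h1
  exact h1.symm

/-- injectivity on the fibre in terms of dimensions. -/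
lemma inj_iff_dim [Module.Finite R P₁] [Module.Finite R P₂] (φ : P₁ →ₗ[R] P₂)
    (y : PrimeSpectrum R) :
    Function.Injective (φ.lTensor y.asIdeal.ResidueField) ↔
      Module.finrank y.asIdeal.ResidueField (fib y (P₂ ⧸ LinearMap.range φ)) +
        Module.finrank y.asIdeal.ResidueField (fib y P₁) ≤
      Module.finrank y.asIdeal.ResidueField (fib y P₂) := by
  have h1 := fib_coker φ y
  have h2 := LinearMap.finrank_range_add_finrank_ker (φ.baseChange y.asIdeal.ResidueField)
  have hiff : Function.Injective (φ.lTensor y.asIdeal.ResidueField) ↔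
      Function.Injective (φ.baseChange y.asIdeal.ResidueField) := Iff.rfl
  rw [hiff, ← LinearMap.ker_eq_bot, ← Submodule.finrank_eq_zero]
  change _ ↔ _ + Module.finrank y.asIdeal.ResidueField (y.asIdeal.ResidueField ⊗[R] P₁) ≤ _
  omega

end fibre

section local_
variable {R : Type u} [CommRing R]
  {P₁ P₂ : Type u} [AddCommGroup P₁] [Module R P₁] [AddCommGroup P₂] [Module R P₂]

/-- base change to the local ring, then to the residue field, is the fibre map. -/
lemma lTensor_baseChange_injective (φ : P₁ →ₗ[R] P₂) (p : PrimeSpectrum R)
    (h : Function.Injective (φ.lTensor p.asIdeal.ResidueField)) :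
    Function.Injective ((φ.baseChange (Localization.AtPrime p.asIdeal)).lTensor
      (IsLocalRing.ResidueField (Localization.AtPrime p.asIdeal))) := by
  let Rp := Localization.AtPrime p.asIdeal
  let k := p.asIdeal.ResidueField
  let e₁ := TensorProduct.AlgebraTensorModule.cancelBaseChange R Rp k k P₁
  let e₂ := TensorProduct.AlgebraTensorModule.cancelBaseChange R Rp k k P₂
  have hnat : ∀ z, e₂ (((φ.baseChange Rp).lTensor k) z) = φ.lTensor k (e₁ z) := by
    intro z
    induction z using TensorProduct.induction_on with
    | zero => simp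
    | add a b ha hb => simp only [map_add, ha, hb]
    | tmul a w =>
      induction w using TensorProduct.induction_on with
      | zero => simp
      | add c d hc hd =>
        simp only [TensorProduct.tmul_add, map_add, hc, hd]
      | tmul b x =>
        simp [e₁, e₂, TensorProduct.AlgebraTensorModule.cancelBaseChange_tmul]
  rw [injective_iff_map_eq_zero]
  intro z hz
  have h1 : φ.lTensor k (e₁ z) = 0 := by
    rw [← hnat, hz, map_zero]
  have h2 : e₁ z = 0 := (injective_iff_map_eq_zero _).mp h _ h1
  exact (LinearEquiv.map_eq_zero_iff e₁).mp h2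

end local_

/-- Let R be a ring and φ : P₁ → P₂ a map of finite projective R-modules. The set U of primes p of R
such that φ ⊗ κ(p) is injective is open, and for every f ∈ R with D(f) ⊆ U the map (P₁)_f → (P₂)_f
is injective and Coker(φ)_f is a finite projective module over R_f. -/
theorem result {R : Type u} [CommRing R] {P₁ P₂ : Type u} [AddCommGroup P₁] [Module R P₁] [AddCommGroup P₂] [Module R P₂] [Module.Finite R P₁] [Module.Projective R P₁] [Module.Finite R P₂] [Module.Projective R P₂] (φ : P₁ →ₗ[R] P₂) : IsOpen {p : PrimeSpectrum R | Function.Injective (φ.lTensor p.asIdeal.ResidueField)} ∧ ∀ f : R, (↑(PrimeSpectrum.basicOpen f) : Set (PrimeSpectrum R)) ⊆ {p : PrimeSpectrum R | Function.Injective (φ.lTensor p.asIdeal.ResidueField)} → Function.Injective (LocalizedModule.map (Submonoid.powers f) φ) ∧ Module.Finite (Localization.Away f) (LocalizedModule (Submonoid.powers f) (P₂ ⧸ LinearMap.range φ)) ∧ Module.Projective (Localization.Away f) (LocalizedModule (Submonoid.powers f) (P₂ ⧸ LinearMap.range φ)) := by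
  refine ⟨?_, ?_⟩
  · rw [isOpen_iff_mem_nhds]
    intro p hp
    have hp' := (inj_iff_dim φ p).mp hp
    have h1 := fd_eventually_le (P₂ ⧸ LinearMap.range φ) p
    have h2 := fd_eventually_eq P₁ p
    have h3 := fd_eventually_eq P₂ p
    filter_upwards [h1, h2, h3] with q hq1 hq2 hq3
    refine (inj_iff_dim φ q).mpr ?_
    omega
  intro f hf
  -- local analysis at primes of U
  have hloc : ∀ p : PrimeSpectrum R, Function.Injective (φ.lTensor p.asIdeal.ResidueField) →
      Function.Injective (φ.baseChange (Localization.AtPrime p.asIdeal)) ∧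
      Module.Free (Localization.AtPrime p.asIdeal)
        (Localization.AtPrime p.asIdeal ⊗[R] (P₂ ⧸ LinearMap.range φ)) := by
    intro p hp
    have hinj := lTensor_baseChange_injective φ p hp
    haveI : Module.Free (Localization.AtPrime p.asIdeal)
        (Localization.AtPrime p.asIdeal ⊗[R] P₂) := Module.free_of_flat_of_isLocalRing
    constructor
    · obtain ⟨l', hl'⟩ :=
        (IsLocalRing.split_injective_iff_lTensor_residueField_injective
          (φ.baseChange (Localization.AtPrime p.asIdeal))).mpr hinj
      exact Function.HasLeftInverse.injective ⟨l', LinearMap.congr_fun hl'⟩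
    · have hex : Function.Exact (φ.baseChange (Localization.AtPrime p.asIdeal))
          ((Submodule.mkQ (LinearMap.range φ)).baseChange (Localization.AtPrime p.asIdeal)) :=
        lTensor_exact _ (LinearMap.exact_map_mkQ_range φ) (Submodule.mkQ_surjective _)
      have hsurj : Function.Surjective
          ((Submodule.mkQ (LinearMap.range φ)).baseChange (Localization.AtPrime p.asIdeal)) :=
        LinearMap.lTensor_surjective _ (Submodule.mkQ_surjective _)
      exact Module.free_of_lTensor_residueField_injective
        (φ.baseChange (Localization.AtPrime p.asIdeal))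
        ((Submodule.mkQ (LinearMap.range φ)).baseChange (Localization.AtPrime p.asIdeal))
        hsurj hex hinj
  refine ⟨?_, inferInstance, ?_⟩
  · -- injectivity
    rw [injective_iff_map_eq_zero]
    intro z hz
    induction z using LocalizedModule.induction_on with
    | h x s =>
      rw [LocalizedModule.map_mk, ← LocalizedModule.zero_mk s, LocalizedModule.mk_eq] at hz
      obtain ⟨u, hu⟩ := hz
      rw [smul_zero, smul_zero] at hu
      obtain ⟨k, hk⟩ := u.2
      obtain ⟨k', hk'⟩ := s.2
      simp only at hk hk'
      have hφ : f ^ (k + k') • φ x = 0 := by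
        rw [pow_add, mul_smul, hk, hk']
        exact hu
      -- annihilator of x
      let J : Ideal R := LinearMap.ker (LinearMap.toSpanSingleton R P₁ x)
      have hJ : ∀ a : R, a ∈ J ↔ a • x = 0 := fun a => by
        simp [J, LinearMap.mem_ker, LinearMap.toSpanSingleton_apply]
      have hrad : f ∈ J.radical := by
        rw [Ideal.radical_eq_sInf, Ideal.mem_sInf]
        rintro q ⟨hq1, hq2⟩
        by_contra hfq
        have hqU : Function.Injective
            (φ.lTensor (⟨q, hq2⟩ : PrimeSpectrum R).asIdeal.ResidueField) := hf hfq
        obtain ⟨hinj, -⟩ := hloc ⟨q, hq2⟩ hqU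
        have hfk : f ^ (k + k') ∈ q.primeCompl := fun h => hfq (hq2.mem_of_pow_mem _ h)
        have h0 : TensorProduct.mk R (Localization.AtPrime q) P₂ 1 (φ x) = 0 :=
          (IsLocalizedModule.eq_zero_iff q.primeCompl
            (TensorProduct.mk R (Localization.AtPrime q) P₂ 1)).mpr ⟨⟨_, hfk⟩, hφ⟩
        have h1 : (φ.baseChange (Localization.AtPrime q))
            (TensorProduct.mk R (Localization.AtPrime q) P₁ 1 x) = 0 := by
          rw [TensorProduct.mk_apply, LinearMap.baseChange_tmul]
          exact h0
        have h2 : TensorProduct.mk R (Localization.AtPrime q) P₁ 1 x = 0 :=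
          (injective_iff_map_eq_zero _).mp hinj _ h1
        obtain ⟨c, hc⟩ := (IsLocalizedModule.eq_zero_iff q.primeCompl
            (TensorProduct.mk R (Localization.AtPrime q) P₁ 1)).mp h2
        exact c.2 (hq1 ((hJ c.1).mpr hc))
      obtain ⟨m, hm⟩ := hrad
      rw [← LocalizedModule.zero_mk s, LocalizedModule.mk_eq]
      refine ⟨⟨f ^ m, m, rfl⟩, ?_⟩
      rw [smul_zero, smul_zero]
      change f ^ m • (s : R) • x = 0
      rw [smul_comm, (hJ _).mp hm, smul_zero]
  · -- projectivity via the free locus
    have hfp : Module.FinitePresentation R (P₂ ⧸ LinearMap.range φ) := by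
      have : Module.FinitePresentation R P₂ := Module.finitePresentation_of_projective R P₂
      refine Module.finitePresentation_of_surjective (Submodule.mkQ (LinearMap.range φ))
        (Submodule.mkQ_surjective _) ?_
      rw [Submodule.ker_mkQ, LinearMap.range_eq_map]
      exact (Module.Finite.fg_top).map φ
    have hsub : (PrimeSpectrum.basicOpen f : Set (PrimeSpectrum R)) ⊆
        Module.freeLocus R (P₂ ⧸ LinearMap.range φ) := by
      intro p hp
      rw [Module.mem_freeLocus_iff_tensor p (Localization.AtPrime p.asIdeal)]
      exact (hloc p (hf hp)).2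
    exact Module.basicOpen_subset_freeLocus_iff.mp hsub

end Groth.Agent.S6309
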