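import Groth.Statements.S6310
import Mathlib
-- import your own Groth.Agent.* helpers here

set_option autoImplicit false
universe u
open CAlg

namespace Groth.Agent.S6310.Aux
set_option autoImplicit false
namespace GenAway

variable {R : Type u} [CommRing R]

lemma exists_common {M : Type u} [AddCommGroup M] [Module R M] [Module.Finite R M]
    (S : Submonoid R) (P : Submodule R M)
    (h : ∀ m : M, ∃ t ∈ S, t • m ∈ P) : ∃ t ∈ S, ∀ m : M, t • m ∈ P := by
  classical
  obtain ⟨T, hT⟩ := (Module.Finite.fg_top : (⊤ : Submodule R M).FG)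
  have key : ∀ T : Finset M, ∃ t ∈ S, ∀ m ∈ T, t • m ∈ P := by
    intro T
    induction T using Finset.induction_on with
    | empty => exact ⟨1, S.one_mem, by simp⟩
    | insert a T ha ih =>
      obtain ⟨t, ht, htT⟩ := ih
      obtain ⟨ta, hta, hta'⟩ := h a
      refine ⟨ta * t, S.mul_mem hta ht, ?_⟩
      intro m hm
      rcases Finset.mem_insert.mp hm with rfl | hm
      · rw [mul_comm, mul_smul]; exact P.smul_mem _ hta'
      · rw [mul_smul]; exact P.smul_mem _ (htT m hm)
  obtain ⟨t, ht, htT⟩ := key T
  refine ⟨t, ht, ?_⟩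
  have hle : Submodule.span R (T : Set M) ≤ P.comap (t • (LinearMap.id : M →ₗ[R] M)) := by
    rw [Submodule.span_le]
    intro m hm
    exact htT m hm
  intro m
  have : m ∈ Submodule.span R (T : Set M) := by rw [hT]; trivial
  exact hle this

theorem main (S : Submonoid R) (I : Ideal R) (M : Type u) [AddCommGroup M] [Module R M]
    [Module.Finite R M] {r : ℕ} (x : Fin r → M)
    (hx : Submodule.span (Localization S) (Set.range fun j =>
      LocalizedModule.mkLinearMap S (M ⧸ (I • (⊤ : Submodule R M))) (Submodule.Quotient.mk (x j))) = ⊤) :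
    ∃ (s : R) (i : R), s ∈ S ∧ i ∈ I ∧ Submodule.span (Localization.Away (s + i))
      (Set.range fun j => LocalizedModule.mkLinearMap (Submonoid.powers (s + i)) M (x j)) = ⊤ := by
  classical
  set N : Submodule R M := Submodule.span R (Set.range x) with hN
  set IM : Submodule R M := I • (⊤ : Submodule R M) with hIM
  set g := LocalizedModule.mkLinearMap S (M ⧸ IM) with hg
  -- step 1
  have h1 : ∀ m : M, ∃ t ∈ S, t • m ∈ N ⊔ IM := by
    intro m
    have hrange : (Set.range fun j => g (Submodule.Quotient.mk (x j))) =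
        g '' (Set.range fun j => (Submodule.Quotient.mk (x j) : M ⧸ IM)) := by
      ext z; simp
    rw [hrange, ← Submodule.localized'_span (Localization S) S g] at hx
    have hm : g (Submodule.Quotient.mk m) ∈ Submodule.localized' (Localization S) S g
        (Submodule.span R (Set.range fun j => (Submodule.Quotient.mk (x j) : M ⧸ IM))) := by
      rw [hx]; trivial
    obtain ⟨n, hn, s, hns⟩ := hm
    rw [IsLocalizedModule.mk'_eq_iff, Submonoid.smul_def, ← map_smul] at hns
    obtain ⟨c, hc⟩ := IsLocalizedModule.exists_of_eq (S := S) hns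
    have hmem : (c * s : R) • (Submodule.Quotient.mk m : M ⧸ IM) ∈
        Submodule.span R (Set.range fun j => (Submodule.Quotient.mk (x j) : M ⧸ IM)) := by
      have : (c * s : R) • (Submodule.Quotient.mk m : M ⧸ IM) = c • n := by
        rw [hc, mul_smul]; rfl
      rw [this]
      exact Submodule.smul_mem _ _ hn
    have hmap : Submodule.span R (Set.range fun j => (Submodule.Quotient.mk (x j) : M ⧸ IM)) =
        N.map IM.mkQ := by
      rw [hN, Submodule.map_span]
      congr 1
      ext z; simp
    rw [hmap] at hmem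
    obtain ⟨n', hn', hn'eq⟩ := hmem
    refine ⟨c * s, S.mul_mem c.2 s.2, ?_⟩
    have hsub : (c * s : R) • m - n' ∈ IM := by
      rw [← Submodule.Quotient.eq]
      simpa using hn'eq.symm
    have : (c * s : R) • m = n' + ((c * s : R) • m - n') := by abel
    rw [this]
    exact Submodule.add_mem_sup hn' hsub
  obtain ⟨s₀, hs₀, hs₀M⟩ := exists_common S (N ⊔ IM) h1
  -- step 2
  set φ : Module.End R (M ⧸ N) := algebraMap R (Module.End R (M ⧸ N)) s₀ with hφ
  have hrange : LinearMap.range φ ≤ I • (⊤ : Submodule R (M ⧸ N)) := by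
    rintro _ ⟨q, rfl⟩
    obtain ⟨m, rfl⟩ := Submodule.Quotient.mk_surjective _ q
    have hm := hs₀M m
    obtain ⟨n, hn, y, hy, hny⟩ := Submodule.mem_sup.mp hm
    have : φ (Submodule.Quotient.mk m) = N.mkQ y := by
      rw [hφ, Module.algebraMap_end_apply, ← Submodule.Quotient.mk_smul, ← hny]
      simp only [Submodule.Quotient.mk_add, Submodule.mkQ_apply]
      rw [(Submodule.Quotient.mk_eq_zero N).mpr hn, zero_add]
    rw [this]
    have h2 : N.mkQ y ∈ (I • (⊤ : Submodule R M)).map N.mkQ := Submodule.mem_map_of_mem hy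
    rw [Submodule.map_smul''] at h2
    exact Submodule.smul_mono le_rfl le_top h2
  obtain ⟨p, hpm, -, hpc, hp0⟩ :=
    LinearMap.exists_monic_and_natDegree_eq_and_coeff_mem_pow_and_aeval_eq_zero R φ I hrange
  rw [hφ, Polynomial.aeval_algebraMap_apply] at hp0
  have hf : Polynomial.aeval s₀ p = Polynomial.eval s₀ p := Polynomial.coe_aeval_eq_eval s₀ ▸ rfl
  rw [hf] at hp0
  have heval : Polynomial.eval s₀ p = s₀ ^ p.natDegree +
      ∑ k ∈ Finset.range p.natDegree, p.coeff k * s₀ ^ k := by
    rw [Polynomial.eval_eq_sum_range, Finset.sum_range_succ, hpm.coeff_natDegree, one_mul, add_comm]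
  refine ⟨s₀ ^ p.natDegree, ∑ k ∈ Finset.range p.natDegree, p.coeff k * s₀ ^ k,
    S.pow_mem hs₀ _, ?_, ?_⟩
  · refine Ideal.sum_mem _ fun k hk => Ideal.mul_mem_right _ _ ?_
    have hk' : k < p.natDegree := Finset.mem_range.mp hk
    have := hpc k
    refine Ideal.pow_le_self ?_ this
    omega
  · rw [← heval]
    set f := Polynomial.eval s₀ p with hfdef
    have hfM : ∀ m : M, f • m ∈ N := by
      intro m
      have : (algebraMap R (Module.End R (M ⧸ N)) f) (Submodule.Quotient.mk m) = 0 := by
        rw [hp0]; rfl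
      rw [Module.algebraMap_end_apply, ← Submodule.Quotient.mk_smul,
        Submodule.Quotient.mk_eq_zero] at this
      exact this
    set g' := LocalizedModule.mkLinearMap (Submonoid.powers f) M with hg'
    have hrange' : (Set.range fun j => g' (x j)) = g' '' (Set.range x) := by
      ext z; simp
    rw [hrange', ← Submodule.localized'_span (Localization.Away f) (Submonoid.powers f) g',
      eq_top_iff]
    rintro z -
    obtain ⟨⟨m, t⟩, rfl⟩ := IsLocalizedModule.mk'_surjective (Submonoid.powers f) g' z
    refine ⟨f • m, hfM m, ⟨f, Submonoid.mem_powers f⟩ * t, ?_⟩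
    simp only [Function.uncurry_apply_pair]
    exact IsLocalizedModule.mk'_cancel_left (f := g') m ⟨f, Submonoid.mem_powers f⟩ t

end GenAway

end Groth.Agent.S6310.Aux

namespace Groth.Agent.S6310

/-- Let R be a ring, S ⊆ R a multiplicative subset, I ⊆ R an ideal and M a finite R-module. If x₁, …,
x_r ∈ M have images generating S⁻¹(M/IM) as an S⁻¹R-module, then there is f ∈ S + I (f = s + i with
s ∈ S, i ∈ I) such that x₁, …, x_r generate M_f as an R_f-module. -/
theorem result {R : Type u} [CommRing R] (S : Submonoid R) (I : Ideal R) (M : Type u) [AddCommGroup M] [Module R M] [Module.Finite R M] {r : ℕ} (x : Fin r → M) (hx : Submodule.span (Localization S) (Set.range fun j => LocalizedModule.mkLinearMap S (M ⧸ (I • (⊤ : Submodule R M))) (Submodule.Quotient.mk (x j))) = ⊤) : ∃ (s : R) (i : R), s ∈ S ∧ i ∈ I ∧ Submodule.span (Localization.Away (s + i)) (Set.range fun j => LocalizedModule.mkLinearMap (Submonoid.powers (s + i)) M (x j)) = ⊤ := by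
  exact Aux.GenAway.main S I M x hx

end Groth.Agent.S6310
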