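import Groth.Statements.S6311
import Mathlib
-- import your own Groth.Agent.* helpers here

set_option autoImplicit false
universe u
open CategoryTheory
open CAlg

namespace Groth.Agent.S6311.Aux
set_option autoImplicit false
namespace K0Loc
open CategoryTheory KZero

variable (R : Type u) [CommRing R]

abbrev P : ObjectProperty (ModuleCat.{u} R) :=
  fun M => Module.Finite R M ∧ Module.Projective R M

variable {R}

lemma P_of (X : Type u) [AddCommGroup X] [Module R X] [Module.Finite R X] [Module.Projective R X] :
    P R (ModuleCat.of R X) :=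
  ⟨(inferInstance : Module.Finite R X), (inferInstance : Module.Projective R X)⟩

lemma clSub_of (X : Type u) [AddCommGroup X] [Module R X] [Module.Finite R X]
    [Module.Projective R X] :
    clSub (P R) (ModuleCat.of R X) =
      QuotientAddGroup.mk (FreeAbelianGroup.of ⟨ModuleCat.of R X, P_of X⟩) := by
  unfold clSub
  rw [dif_pos (P_of X)]

lemma cl_add {X₁ X₂ X₃ : Type u} [AddCommGroup X₁] [Module R X₁] [AddCommGroup X₂] [Module R X₂]
    [AddCommGroup X₃] [Module R X₃]
    [Module.Finite R X₁] [Module.Projective R X₁] [Module.Finite R X₂] [Module.Projective R X₂]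
    [Module.Finite R X₃] [Module.Projective R X₃]
    (f : X₁ →ₗ[R] X₂) (g : X₂ →ₗ[R] X₃) (hf : Function.Injective f) (hg : Function.Surjective g)
    (hex : Function.Exact f g) :
    clSub (P R) (ModuleCat.of R X₂) =
      clSub (P R) (ModuleCat.of R X₁) + clSub (P R) (ModuleCat.of R X₃) := by
  rw [clSub_of, clSub_of, clSub_of, ← sub_eq_zero, ← sub_sub, ← QuotientAddGroup.mk_sub,
    ← QuotientAddGroup.mk_sub, QuotientAddGroup.eq_zero_iff]
  apply AddSubgroup.subset_closure
  have eq0 : g.comp f = 0 := hex.linearMap_comp_eq_zero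
  refine ⟨ModuleCat.shortComplexOfCompEqZero f g eq0, P_of X₁, P_of X₂, P_of X₃, ?_, rfl⟩
  exact ModuleCat.shortComplex_shortExact _ hex hf hg

lemma cl_subsingleton (X : Type u) [AddCommGroup X] [Module R X] [Subsingleton X] :
    clSub (P R) (ModuleCat.of R X) = 0 := by
  have : Finite X := Finite.of_subsingleton
  have : Module.Finite R X := Module.Finite.of_finite
  have : Module.Projective R X := Module.Projective.of_free
  have h := cl_add (R := R) (LinearMap.id : X →ₗ[R] X) (0 : X →ₗ[R] X) Function.injective_id
    (fun y => ⟨y, Subsingleton.elim _ _⟩)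
    (fun y => ⟨fun _ => ⟨y, rfl⟩, fun _ => Subsingleton.elim _ _⟩)
  exact (add_eq_left.mp h.symm)

lemma cl_equiv {X Y : Type u} [AddCommGroup X] [Module R X] [AddCommGroup Y] [Module R Y]
    [Module.Finite R X] [Module.Projective R X] [Module.Finite R Y] [Module.Projective R Y]
    (e : X ≃ₗ[R] Y) : clSub (P R) (ModuleCat.of R X) = clSub (P R) (ModuleCat.of R Y) := by
  have h := cl_add (R := R) (0 : PUnit.{u+1} →ₗ[R] X) e.toLinearMap
    (fun a b _ => Subsingleton.elim _ _) e.surjective
    (fun y => ⟨fun hy => ⟨0, by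
      have : y = 0 := e.injective (by rw [map_zero]; exact hy)
      rw [this]; rfl⟩, fun ⟨a, ha⟩ => by
      rw [← ha]; simp⟩)
  rw [cl_subsingleton PUnit.{u+1}, zero_add] at h
  exact h

lemma cl_prod (X Y : Type u) [AddCommGroup X] [Module R X] [AddCommGroup Y] [Module R Y]
    [Module.Finite R X] [Module.Projective R X] [Module.Finite R Y] [Module.Projective R Y] :
    clSub (P R) (ModuleCat.of R (X × Y)) =
      clSub (P R) (ModuleCat.of R X) + clSub (P R) (ModuleCat.of R Y) := by
  refine cl_add (R := R) (LinearMap.inl R X Y) (LinearMap.snd R X Y) LinearMap.inl_injective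
    LinearMap.snd_surjective ?_
  intro p
  constructor
  · intro hp
    exact ⟨p.1, Prod.ext rfl hp.symm⟩
  · rintro ⟨x, rfl⟩
    rfl

lemma cl_fin (n : ℕ) : clSub (P R) (ModuleCat.of R (Fin n → R)) =
    (n : ℤ) • clSub (P R) (ModuleCat.of R R) := by
  induction n with
  | zero => rw [cl_subsingleton]; simp
  | succ n ih =>
    rw [← cl_equiv (Fin.consLinearEquiv R (fun _ : Fin (n + 1) => R)), cl_prod, ih]
    push_cast
    rw [add_smul, one_smul, add_comm]


section Local
variable [IsLocalRing R]

lemma finrank_add_of_shortExact (S : ShortComplex (ModuleCat.{u} R)) (h₁ : P R S.X₁)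
    (h₂ : P R S.X₂) (h₃ : P R S.X₃) (hS : S.ShortExact) :
    (Module.finrank R S.X₂ : ℤ) = Module.finrank R S.X₁ + Module.finrank R S.X₃ := by
  have := h₁.1
  have := h₁.2
  have := h₂.1
  have := h₂.2
  have := h₃.1
  have := h₃.2
  have : Module.Free R S.X₁ := Module.free_of_flat_of_isLocalRing
  have : Module.Free R S.X₃ := Module.free_of_flat_of_isLocalRing
  have hinj : Function.Injective S.f.hom := hS.moduleCat_injective_f
  have hsurj : Function.Surjective S.g.hom := hS.moduleCat_surjective_g
  have hex : Function.Exact S.f.hom S.g.hom :=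
    (ShortComplex.ShortExact.moduleCat_exact_iff_function_exact S).mp hS.exact
  obtain ⟨l, hl⟩ := Module.projective_lifting_property S.g.hom LinearMap.id hsurj
  obtain ⟨e, -⟩ := hex.splitSurjectiveEquiv hinj ⟨l, hl⟩
  rw [e.finrank_eq, Module.finrank_prod]
  push_cast
  rfl

noncomputable def rank₀ : FreeAbelianGroup (Subtype (P R)) →+ ℤ :=
  FreeAbelianGroup.lift (fun M : Subtype (P R) => (Module.finrank R M.1 : ℤ))

lemma rank₀_ker : relSub (P R) ≤ (rank₀ (R := R)).ker := by
  unfold relSub
  rw [AddSubgroup.closure_le]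
  rintro x ⟨S, h₁, h₂, h₃, hS, rfl⟩
  rw [SetLike.mem_coe, AddMonoidHom.mem_ker, map_sub, map_sub]
  simp only [rank₀, FreeAbelianGroup.lift_apply_of]
  rw [finrank_add_of_shortExact S h₁ h₂ h₃ hS]
  ring

noncomputable def rk : K0sub (P R) →+ ℤ :=
  QuotientAddGroup.lift (relSub (P R)) rank₀ rank₀_ker

lemma rk_mk_of (M : Subtype (P R)) :
    rk (QuotientAddGroup.mk (FreeAbelianGroup.of M) : K0sub (P R)) = Module.finrank R M.1 := by
  simp only [rk, QuotientAddGroup.lift_mk, rank₀, FreeAbelianGroup.lift_apply_of]

lemma mk_of_eq (M : Subtype (P R)) :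
    (QuotientAddGroup.mk (FreeAbelianGroup.of M) : K0sub (P R)) =
      (Module.finrank R M.1 : ℤ) • clSub (P R) (ModuleCat.of R R) := by
  obtain ⟨M, hM⟩ := M
  have := hM.1
  have := hM.2
  have : Module.Free R M := Module.free_of_flat_of_isLocalRing
  have e : M ≃ₗ[R] (Fin (Module.finrank R M) → R) := (Module.finBasis R M).equivFun
  have h1 : clSub (P R) M = QuotientAddGroup.mk (FreeAbelianGroup.of ⟨M, hM⟩) := by
    unfold clSub
    rw [dif_pos hM]
  have h2 : clSub (P R) M = clSub (P R) (ModuleCat.of R M) := rfl
  rw [← h1, h2, cl_equiv e, cl_fin]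

theorem main : ∃ e : K0sub (P R) ≃+ ℤ, e (clSub (P R) (ModuleCat.of R R)) = 1 := by
  have hone : rk (clSub (P R) (ModuleCat.of R R)) = 1 := by
    rw [clSub_of, rk_mk_of]
    change ((Module.finrank R R : ℕ) : ℤ) = 1
    rw [Module.finrank_self]
    rfl
  have hall : ∀ x : K0sub (P R), x = (rk x) • clSub (P R) (ModuleCat.of R R) := by
    intro x
    induction x using QuotientAddGroup.induction_on with
    | H z =>
      induction z using FreeAbelianGroup.induction_on with
      | zero => simp
      | of M => rw [rk_mk_of]; exact mk_of_eq M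
      | neg M ih =>
        rw [QuotientAddGroup.mk_neg, map_neg, neg_smul, ← ih]
      | add a b ha hb =>
        rw [QuotientAddGroup.mk_add, map_add, add_smul, ← ha, ← hb]
  refine ⟨{ toFun := rk, invFun := fun n => n • clSub (P R) (ModuleCat.of R R),
            left_inv := fun x => (hall x).symm,
            right_inv := fun n => by
              change rk (n • clSub (P R) (ModuleCat.of R R)) = n
              rw [map_zsmul, hone, smul_eq_mul, mul_one],
            map_add' := rk.map_add }, hone⟩

end Local
end K0Loc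

end Groth.Agent.S6311.Aux

namespace Groth.Agent.S6311

/-- Let R be a local ring. Then K₀(R), the Grothendieck group of the category of finite projective
R-modules, is isomorphic to ℤ via the rank; precisely, there is an isomorphism K₀(R) ≅ ℤ of abelian
groups sending the class [R] to 1 (such an isomorphism is then unique, K₀(R) being generated by
[R]). -/
theorem result (R : Type u) [CommRing R] [IsLocalRing R] : ∃ e : KZero.K0sub (fun M : ModuleCat.{u} R => Module.Finite R M ∧ Module.Projective R M) ≃+ ℤ, e (KZero.clSub (fun M : ModuleCat.{u} R => Module.Finite R M ∧ Module.Projective R M) (ModuleCat.of R R)) = 1 := by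
  exact Aux.K0Loc.main

end Groth.Agent.S6311
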