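import Groth.Statements.S6315
import Mathlib
import Groth.Agent.Lib.Helper13TorNat
-- import your own Groth.Agent.* helpers here

set_option autoImplicit false
universe u
open CategoryTheory
open CAlg

namespace Groth.Agent.S6315

open CategoryTheory CategoryTheory.Limits MonoidalCategory in
theorem finite_tor {R : Type u} [CommRing R] [IsNoetherianRing R] (M : Type u) [AddCommGroup M]
    [Module R M] [Module.Finite R M] (p : ℕ) :
    ∀ (N : Type u) [AddCommGroup N] [Module R N] [Module.Finite R N],
      Module.Finite R (((Tor (ModuleCat.{u} R) p).obj (ModuleCat.of R M)).obj (ModuleCat.of R N)) := by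
  induction p with
  | zero =>
    intro N _ _ _
    let e := (Groth.Agent.Helper13Tor.tL (ModuleCat.of R M)).leftDerivedZeroIsoSelf.app
      (ModuleCat.of R N)
    have h0 : Module.Finite R (TensorProduct R M N) := inferInstance
    have h1 : Module.Finite R
        ((Groth.Agent.Helper13Tor.tL (ModuleCat.of R M)).obj (ModuleCat.of R N)) := h0
    exact Module.Finite.equiv e.toLinearEquiv.symm
  | succ p ih =>
    intro N _ _ _
    obtain ⟨n, π, hπ⟩ := Module.Finite.exists_fin' R N
    let K := LinearMap.ker π
    let S : ShortComplex (ModuleCat.{u} R) :=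
      ShortComplex.mk (ModuleCat.ofHom K.subtype) (ModuleCat.ofHom π)
        (by ext x; exact x.2)
    have hS : S.ShortExact := by
      refine ShortComplex.ShortExact.mk' ?_ ?_ ?_
      · rw [ShortComplex.ShortExact.moduleCat_exact_iff_function_exact]
        intro x
        constructor
        · intro hx
          exact ⟨⟨x, hx⟩, rfl⟩
        · rintro ⟨y, rfl⟩
          exact y.2
      · rw [ModuleCat.mono_iff_injective]
        exact Subtype.val_injective
      · rw [ModuleCat.epi_iff_surjective]
        exact hπ
    obtain ⟨δ, w₁, w₂, hex, -⟩ :=
      Groth.Agent.Helper13Tor.tor₂_exists_δ (ModuleCat.of R M) S hS p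
    have hproj : Projective S.X₂ := by
      have : Module.Projective R (ModuleCat.of R (Fin n → R)) := Module.Projective.of_free
      exact (IsProjective.iff_projective _).1 this
    have hz : IsZero (((Tor (ModuleCat.{u} R) (p + 1)).obj (ModuleCat.of R M)).obj S.X₂) :=
      Functor.isZero_leftDerived_obj_projective_succ _ p _
    have hmono : Mono δ := hex.mono_g (hz.eq_of_src _ _)
    have hinj : Function.Injective δ.hom := (ModuleCat.mono_iff_injective δ).1 hmono
    have hK : Module.Finite R K := inferInstance
    have := ih K
    have hnoeth : IsNoetherian R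
        (((Tor (ModuleCat.{u} R) p).obj (ModuleCat.of R M)).obj (ModuleCat.of R K)) :=
      isNoetherian_of_isNoetherianRing_of_finite R _
    exact Module.Finite.of_injective δ.hom hinj

/-- Let R be a Noetherian ring and M, N finite R-modules. Then Tor_pᴿ(M, N) is a finite R-module for all
p. -/
theorem result (R : Type u) [CommRing R] [IsNoetherianRing R] (M N : Type u) [AddCommGroup M] [Module R M] [AddCommGroup N] [Module R N] [Module.Finite R M] [Module.Finite R N] (p : ℕ) : Module.Finite R (((CategoryTheory.Tor (ModuleCat.{u} R) p).obj (ModuleCat.of R M)).obj (ModuleCat.of R N)) := by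
  exact finite_tor M p N

end Groth.Agent.S6315
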