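import Groth.Statements.S6321
import Mathlib
-- import your own Groth.Agent.* helpers here

set_option autoImplicit false
universe u
open CAlg

namespace Groth.Agent.S6321

open TensorProduct

/-- naturality of `I ⊗ M → M` -/
lemma lift_lsmul_natural {R : Type u} [CommRing R] (I : Ideal R) {M N : Type u} [AddCommGroup M] [Module R M]
    [AddCommGroup N] [Module R N] (g : M →ₗ[R] N) (z : I ⊗[R] M) :
    TensorProduct.lift ((LinearMap.lsmul R N).comp I.subtype) (g.lTensor I z) =
      g (TensorProduct.lift ((LinearMap.lsmul R M).comp I.subtype) z) := by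
  induction z using TensorProduct.induction_on with
  | zero => simp
  | tmul a m => simp
  | add z1 z2 h1 h2 => simp only [map_add, h1, h2]

lemma map_mem_smul_top {R : Type u} [CommRing R] (I : Ideal R) {M N : Type u} [AddCommGroup M] [Module R M]
    [AddCommGroup N] [Module R N] (g : M →ₗ[R] N) (x : M) (hx : x ∈ I • (⊤ : Submodule R M)) :
    g x ∈ I • (⊤ : Submodule R N) := by
  refine Submodule.smul_induction_on hx (fun a ha y _ => ?_) (fun y z hy hz => ?_)
  · rw [map_smul]; exact Submodule.smul_mem_smul ha trivial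
  · rw [map_add]; exact add_mem hy hz


/-- Let R be a ring and (Sᵢ, φᵢⱼ) a directed system of faithfully flat R-algebras whose transition maps
are R-algebra maps. Then S = colim Sᵢ is a faithfully flat R-algebra: for any index i the composite
R → Sᵢ → S is faithfully flat. -/
theorem result {R : Type u} [CommRing R] {ι : Type u} [Preorder ι] [Nonempty ι] [IsDirected ι (· ≤ ·)] (G : ι → Type u) [∀ i, CommRing (G i)] [∀ i, Algebra R (G i)] (f : ∀ i j, i ≤ j → G i →+* G j) [DirectedSystem G fun i j h => f i j h] (hcompat : ∀ i j (h : i ≤ j), (f i j h).comp (algebraMap R (G i)) = algebraMap R (G j)) (hff : ∀ i, (algebraMap R (G i)).FaithfullyFlat) (i : ι) : ((Ring.DirectLimit.of G (fun i j h => f i j h) i).comp (algebraMap R (G i))).FaithfullyFlat := by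
  classical
  have hFF : ∀ j, Module.FaithfullyFlat R (G j) := fun j =>
    RingHom.faithfullyFlat_algebraMap_iff.mp (hff j)
  set S := Ring.DirectLimit G (fun i j h => f i j h) with hS
  set φ : R →+* S := (Ring.DirectLimit.of G (fun i j h => f i j h) i).comp (algebraMap R (G i)) with hφdef
  have hφ : ∀ (j : ι) (r : R), Ring.DirectLimit.of G (fun i j h => f i j h) j (algebraMap R (G j) r) = φ r := by
    intro j r
    obtain ⟨k, hik, hjk⟩ := exists_ge_ge i j
    have e1 : f j k hjk (algebraMap R (G j) r) = algebraMap R (G k) r := by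
      rw [← hcompat j k hjk]; rfl
    have e2 : f i k hik (algebraMap R (G i) r) = algebraMap R (G k) r := by
      rw [← hcompat i k hik]; rfl
    rw [hφdef, RingHom.comp_apply, ← Ring.DirectLimit.of_f hjk, e1, ← e2, Ring.DirectLimit.of_f]
  change letI : Algebra R S := φ.toAlgebra; Module.FaithfullyFlat R S
  let _ : Algebra R S := φ.toAlgebra
  have hsmul : ∀ (r : R) (s : S), r • s = φ r * s := fun r s => rfl
  let ofL : ∀ j, G j →ₗ[R] S := fun j =>
    { toFun := Ring.DirectLimit.of G (fun i j h => f i j h) j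
      map_add' := map_add _
      map_smul' := fun r x => by
        rw [RingHom.id_apply, hsmul, Algebra.smul_def, map_mul, hφ] }
  let fL : ∀ j k (h : j ≤ k), G j →ₗ[R] G k := fun j k h =>
    { toFun := f j k h
      map_add' := map_add _
      map_smul' := fun r x => by
        have e1 : f j k h (algebraMap R (G j) r) = algebraMap R (G k) r := by
          rw [← hcompat j k h]; rfl
        rw [RingHom.id_apply, Algebra.smul_def, Algebra.smul_def, map_mul, e1] }
  have hofL : ∀ j k (h : j ≤ k), (ofL k).comp (fL j k h) = ofL j := by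
    intro j k h
    ext x
    exact Ring.DirectLimit.of_f h x
  have hflat : Module.Flat R S := by
    rw [Module.Flat.iff_lift_lsmul_comp_subtype_injective]
    intro I hI
    rw [injective_iff_map_eq_zero]
    intro z hz
    have key : ∀ z : I ⊗[R] S, ∃ (k : ι) (zk : I ⊗[R] G k), z = (ofL k).lTensor I zk := by
      intro z
      induction z using TensorProduct.induction_on with
      | zero => exact ⟨i, 0, by simp⟩
      | tmul a s =>
        obtain ⟨k, x, rfl⟩ := Ring.DirectLimit.exists_of s
        exact ⟨k, a ⊗ₜ x, rfl⟩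
      | add z1 z2 h1 h2 =>
        obtain ⟨k1, y1, rfl⟩ := h1
        obtain ⟨k2, y2, rfl⟩ := h2
        obtain ⟨k, hk1, hk2⟩ := exists_ge_ge k1 k2
        refine ⟨k, (fL k1 k hk1).lTensor I y1 + (fL k2 k hk2).lTensor I y2, ?_⟩
        rw [map_add, ← LinearMap.comp_apply, ← LinearMap.comp_apply, ← LinearMap.lTensor_comp,
          ← LinearMap.lTensor_comp, hofL, hofL]
    obtain ⟨k, zk, rfl⟩ := key z
    rw [lift_lsmul_natural] at hz
    obtain ⟨k', hkk', hy⟩ := Ring.DirectLimit.of.zero_exact hz
    have h3 : (fL k k' hkk').lTensor I zk = 0 := by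
      have hinj := Module.Flat.iff_lift_lsmul_comp_subtype_injective.mp
        (inferInstance : Module.Flat R (G k')) hI
      apply hinj
      rw [lift_lsmul_natural, map_zero]
      exact hy
    rw [← hofL k k' hkk', LinearMap.lTensor_comp, LinearMap.comp_apply, h3, map_zero]
  refine (Module.faithfullyFlat_iff R S).mpr ⟨hflat, fun m hm htop => ?_⟩
  have h1 : (1 : S) ∈ m • (⊤ : Submodule R S) := by rw [htop]; trivial
  have key : ∀ s ∈ m • (⊤ : Submodule R S), ∃ (k : ι) (x : G k),
      x ∈ m • (⊤ : Submodule R (G k)) ∧ ofL k x = s := by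
    intro s hs
    refine Submodule.smul_induction_on hs (fun a ha s _ => ?_) (fun s1 s2 h1 h2 => ?_)
    · obtain ⟨k, x, rfl⟩ := Ring.DirectLimit.exists_of s
      exact ⟨k, a • x, Submodule.smul_mem_smul ha trivial, map_smul (ofL k) a x⟩
    · obtain ⟨k1, x1, hx1, rfl⟩ := h1
      obtain ⟨k2, x2, hx2, rfl⟩ := h2
      obtain ⟨k, hk1, hk2⟩ := exists_ge_ge k1 k2
      refine ⟨k, fL k1 k hk1 x1 + fL k2 k hk2 x2,
        add_mem (map_mem_smul_top m _ _ hx1) (map_mem_smul_top m _ _ hx2), ?_⟩
      rw [map_add, ← LinearMap.comp_apply, ← LinearMap.comp_apply, hofL, hofL]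
  obtain ⟨k, x, hx, hx1⟩ := key 1 h1
  have h2 : Ring.DirectLimit.of G (fun i j h => f i j h) k (x - 1) = 0 := by
    rw [map_sub, map_one, sub_eq_zero]; exact hx1
  obtain ⟨k', hkk', hy⟩ := Ring.DirectLimit.of.zero_exact h2
  have h3 : (1 : G k') ∈ m • (⊤ : Submodule R (G k')) := by
    have h4 : fL k k' hkk' x = 1 := by
      have : f k k' hkk' x - 1 = 0 := by rw [← map_one (f k k' hkk'), ← map_sub]; exact hy
      exact sub_eq_zero.mp this
    rw [← h4]
    exact map_mem_smul_top m _ _ hx
  refine (hFF k').submodule_ne_top hm (eq_top_iff.mpr fun y _ => ?_)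
  have := map_mem_smul_top m (LinearMap.mulLeft R y) 1 h3
  simpa using this

end Groth.Agent.S6321
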