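import Groth.Statements.S6324
import Mathlib
-- import your own Groth.Agent.* helpers here

set_option autoImplicit false
universe u
open CAlg

namespace Groth.Agent.S6324.Aux
set_option autoImplicit false

namespace ReesInt
open Polynomial

variable {R S : Type u} [CommRing R] [CommRing S] [Algebra R S] (I : Ideal R)

/-- the ring map from the Rees algebra to `S[t]` -/
noncomputable def fR : ↥(reesAlgebra I) →+* S[X] :=
  (Polynomial.mapRingHom (algebraMap R S)).comp (reesAlgebra I).val.toRingHom

theorem fR_apply (a : ↥(reesAlgebra I)) : fR (S := S) I a = (a : R[X]).map (algebraMap R S) := rfl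

theorem forward (s : S) (h : W4stkalgebra1.IsIntegralOverIdeal I s) :
    (fR (S := S) I).IsIntegralElem (C s * X) := by
  obtain ⟨p, hmon, hco, hev⟩ := h
  set d := p.natDegree with hd
  have hmem : ∀ j : Fin d, monomial (d - (j : ℕ)) (p.coeff j) ∈ reesAlgebra I := by
    intro j
    rw [reesAlgebra.monomial_mem]
    exact hco j j.2
  let c : Fin d → ↥(reesAlgebra I) := fun j => ⟨monomial (d - (j : ℕ)) (p.coeff j), hmem j⟩
  refine ⟨X ^ d + ∑ j : Fin d, C (c j) * X ^ (j : ℕ), ?_, ?_⟩
  · exact Polynomial.monic_X_pow_add (Polynomial.degree_sum_fin_lt c)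
  · rw [eval₂_add, eval₂_X_pow, eval₂_finsetSum]
    have h1 : ∀ j : Fin d, eval₂ (fR (S := S) I) (C s * X) (C (c j) * X ^ (j : ℕ)) =
        C (algebraMap R S (p.coeff j) * s ^ (j : ℕ)) * X ^ d := by
      intro j
      rw [eval₂_mul, eval₂_C, eval₂_X_pow, fR_apply]
      change (monomial (d - (j : ℕ)) (p.coeff j)).map (algebraMap R S) * _ = _
      rw [Polynomial.map_monomial, ← C_mul_X_pow_eq_monomial, mul_pow, ← C_pow]
      have : (X : S[X]) ^ d = X ^ (d - (j : ℕ)) * X ^ (j : ℕ) := by
        rw [← pow_add, Nat.sub_add_cancel j.2.le]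
      rw [this, C_mul]
      ring
    rw [Finset.sum_congr rfl (fun j _ => h1 j), ← Finset.sum_mul, mul_pow, ← C_pow, ← add_mul,
      ← map_sum, ← C_add]
    have h2 : s ^ d + ∑ j : Fin d, algebraMap R S (p.coeff j) * s ^ (j : ℕ) =
        eval₂ (algebraMap R S) s p := by
      conv_rhs => rw [hmon.as_sum, eval₂_add, eval₂_X_pow, eval₂_finsetSum]
      rw [← hd, ← Fin.sum_univ_eq_sum_range (fun j => eval₂ (algebraMap R S) s (C (p.coeff j) * X ^ j)) d]
      congr 1
      refine Finset.sum_congr rfl fun j _ => ?_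
      rw [eval₂_mul, eval₂_C, eval₂_X_pow]
    rw [h2, hev, C_0, zero_mul]

theorem backward (s : S) (h : (fR (S := S) I).IsIntegralElem (C s * X)) :
    W4stkalgebra1.IsIntegralOverIdeal I s := by
  obtain ⟨q, hmon, hev⟩ := h
  set d := q.natDegree with hd
  let cf : ℕ → R := fun j => ((q.coeff j : ↥(reesAlgebra I)) : R[X]).coeff (d - j)
  let p : R[X] := ∑ j ∈ Finset.range (d + 1), C (cf j) * X ^ j
  have hcoeff : ∀ j, j ≤ d → p.coeff j = cf j := by
    intro j hj
    simp only [p, finsetSum_coeff, coeff_C_mul_X_pow]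
    rw [Finset.sum_eq_single j]
    · simp
    · intro b _ hb
      rw [if_neg (fun h => hb h.symm)]
    · intro hj'
      exact absurd (Finset.mem_range.mpr (Nat.lt_succ_of_le hj)) hj'
  have hcfd : cf d = 1 := by
    simp only [cf]
    have : q.coeff d = 1 := hmon
    rw [this, Nat.sub_self]
    simp
  have hdeg : p.natDegree ≤ d := by
    refine Polynomial.natDegree_sum_le_of_forall_le _ _ fun j hj => ?_
    refine (Polynomial.natDegree_C_mul_X_pow_le _ _).trans ?_
    exact Nat.lt_succ_iff.mp (Finset.mem_range.mp hj)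
  have hpmon : p.Monic :=
    Polynomial.monic_of_natDegree_le_of_coeff_eq_one d hdeg (by rw [hcoeff d le_rfl, hcfd])
  have hcfmem : ∀ j, cf j ∈ I ^ (d - j) := by
    intro j
    exact (mem_reesAlgebra_iff I _).mp (q.coeff j).2 (d - j)
  have hev2 : eval₂ (algebraMap R S) s p = 0 := by
    have h1 : eval₂ (algebraMap R S) s p =
        ∑ j ∈ Finset.range (d + 1), algebraMap R S (cf j) * s ^ j := by
      simp only [p, eval₂_finsetSum, eval₂_mul, eval₂_C, eval₂_X_pow]
    have h2 : (eval₂ (fR (S := S) I) (C s * X) q).coeff d =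
        ∑ j ∈ Finset.range (d + 1), algebraMap R S (cf j) * s ^ j := by
      rw [eval₂_eq_sum_range, finsetSum_coeff]
      refine Finset.sum_congr rfl fun j hj => ?_
      have hjd : j ≤ d := Nat.lt_succ_iff.mp (Finset.mem_range.mp hj)
      rw [fR_apply, mul_pow, ← C_pow, ← mul_assoc, coeff_mul_X_pow', if_pos hjd, coeff_mul_C,
        coeff_map]
    rw [h1, ← h2, hev, coeff_zero]
  rcases subsingleton_or_nontrivial R with hR | hR
  · refine ⟨p, hpmon, ?_, hev2⟩
    intro j _
    rw [Subsingleton.elim (p.coeff j) 0]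
    exact zero_mem _
  · have hnat : p.natDegree = d := by
      refine le_antisymm hdeg ?_
      apply Polynomial.le_natDegree_of_ne_zero
      rw [hcoeff d le_rfl, hcfd]
      exact one_ne_zero
    refine ⟨p, hpmon, ?_, hev2⟩
    intro j hj
    rw [hnat] at hj ⊢
    rw [hcoeff j hj.le]
    exact hcfmem j

theorem main (s : S) : W4stkalgebra1.IsIntegralOverIdeal I s ↔
    ((Polynomial.mapRingHom (algebraMap R S)).comp (reesAlgebra I).val.toRingHom).IsIntegralElem
      (Polynomial.C s * Polynomial.X) :=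
  ⟨forward I s, backward I s⟩

end ReesInt

end Groth.Agent.S6324.Aux

namespace Groth.Agent.S6324

/-- Let R → S be a ring map, I ⊆ R an ideal and A = Σ Iⁿtⁿ ⊆ R[t] the Rees algebra of I. For s ∈ S,
being integral over I is equivalent to s·t ∈ S[t] being integral over A (via A ⊆ R[t] → S[t]). -/
theorem result {R S : Type u} [CommRing R] [CommRing S] [Algebra R S] (I : Ideal R) (s : S) : W4stkalgebra1.IsIntegralOverIdeal I s ↔ ((Polynomial.mapRingHom (algebraMap R S)).comp (reesAlgebra I).val.toRingHom).IsIntegralElem (Polynomial.C s * Polynomial.X) := by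
  exact Aux.ReesInt.main I s

end Groth.Agent.S6324
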