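import Groth.Statements.S6325
import Mathlib
import Groth.Agent.S6324
-- import your own Groth.Agent.* helpers here

set_option autoImplicit false
universe u
open CAlg

namespace Groth.Agent.S6325.Aux
set_option autoImplicit false

namespace ReesInt2
open Polynomial
open Groth.Agent.S6324.Aux.ReesInt

variable {R S : Type u} [CommRing R] [CommRing S] [Algebra R S] (I : Ideal R)

theorem iff_rees (s : S) : W4stkalgebra1.IsIntegralOverIdeal I s ↔
    (fR (S := S) I).IsIntegralElem (C s * X) := main I s

theorem fR_algebraMap (r : R) : fR (S := S) I (algebraMap R ↥(reesAlgebra I) r) = C (algebraMap R S r) := by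
  rw [fR_apply]
  change (algebraMap R R[X] r).map (algebraMap R S) = _
  rw [← Polynomial.C_eq_algebraMap, Polynomial.map_C]

theorem integral_C (s : S) (hs : IsIntegral R s) : (fR (S := S) I).IsIntegralElem (C s) := by
  obtain ⟨g, hg, hev⟩ := hs
  refine ⟨g.map (algebraMap R ↥(reesAlgebra I)), hg.map _, ?_⟩
  rw [eval₂_map]
  have hcomp : (fR (S := S) I).comp (algebraMap R ↥(reesAlgebra I)) = (C : S →+* S[X]).comp (algebraMap R S) := by
    ext r : 1
    simp only [RingHom.comp_apply]
    exact fR_algebraMap I r
  rw [hcomp, ← Polynomial.hom_eval₂, hev, map_zero]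

theorem main2 : (∃ N : Submodule R S, ∀ s : S, s ∈ N ↔ W4stkalgebra1.IsIntegralOverIdeal I s) ∧ (∀ s s' : S, IsIntegral R s → W4stkalgebra1.IsIntegralOverIdeal I s' → W4stkalgebra1.IsIntegralOverIdeal I (s * s')) := by
  constructor
  · refine ⟨{ carrier := {s | W4stkalgebra1.IsIntegralOverIdeal I s}
              add_mem' := ?_
              zero_mem' := ?_
              smul_mem' := ?_ }, fun s => Iff.rfl⟩
    · intro a b ha hb
      simp only [Set.mem_ofPred_eq] at ha hb ⊢
      rw [iff_rees] at ha hb ⊢
      rw [C_add, add_mul]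
      exact RingHom.IsIntegralElem.add _ ha hb
    · simp only [Set.mem_ofPred_eq]
      rw [iff_rees, C_0, zero_mul]
      exact RingHom.isIntegralElem_zero _
    · intro r a ha
      simp only [Set.mem_ofPred_eq] at ha ⊢
      rw [iff_rees] at ha ⊢
      rw [Algebra.smul_def, C_mul, mul_assoc, ← fR_algebraMap I r]
      exact RingHom.IsIntegralElem.mul _ (RingHom.isIntegralElem_map _) ha
  · intro s s' hs hs'
    rw [iff_rees] at hs' ⊢
    rw [C_mul, mul_assoc]
    exact RingHom.IsIntegralElem.mul _ (integral_C I s hs) hs'

end ReesInt2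

end Groth.Agent.S6325.Aux

namespace Groth.Agent.S6325

/-- Let R → S be a ring map and I ⊆ R an ideal. The elements of S integral over I form an R-submodule of
S; moreover, the product s s' is integral over I for any s ∈ S integral over R and any s' ∈ S
integral over I. -/
theorem result {R S : Type u} [CommRing R] [CommRing S] [Algebra R S] (I : Ideal R) : (∃ N : Submodule R S, ∀ s : S, s ∈ N ↔ W4stkalgebra1.IsIntegralOverIdeal I s) ∧ (∀ s s' : S, IsIntegral R s → W4stkalgebra1.IsIntegralOverIdeal I s' → W4stkalgebra1.IsIntegralOverIdeal I (s * s')) := by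
  exact Aux.ReesInt2.main2 I

end Groth.Agent.S6325
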