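import Groth.Statements.S6326
import Mathlib

set_option autoImplicit false
universe u
open CategoryTheory CategoryTheory.Limits
open CAlg

namespace Groth.Agent.S6326

open CategoryTheory CategoryTheory.Limits

section aux

variable (R : Type u) [CommRing R] (N : Type u) [AddCommGroup N] [Module R N]

/-- index: f.g. submodules -/
abbrev J := {N' : Submodule R N // N'.FG}

instance : Nonempty (J R N) := ⟨⟨⊥, Submodule.fg_bot⟩⟩

instance : IsDirected (J R N) (· ≤ ·) :=
  ⟨fun a b => ⟨⟨a.1 ⊔ b.1, a.2.sup b.2⟩, le_sup_left, le_sup_right⟩⟩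

instance : IsFiltered (J R N) := isFiltered_of_directed_le_nonempty _

/-- quotient diagram -/
noncomputable def F : J R N ⥤ ModuleCat.{u} R where
  obj N' := ModuleCat.of R (N ⧸ N'.1)
  map {a b} h := ModuleCat.ofHom (Submodule.factor (show a.1 ≤ b.1 from leOfHom h))
  map_id a := by
    ext x
    rfl
  map_comp f g := by
    ext x
    rfl

noncomputable def q (a : J R N) : ModuleCat.of R N ⟶ (F R N).obj a :=
  ModuleCat.ofHom (Submodule.mkQ a.1)

lemma q_comp_map {a b : J R N} (h : a ⟶ b) : q R N a ≫ (F R N).map h = q R N b := by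
  ext x
  rfl

lemma q_apply_eq_zero (a : J R N) (x : N) (hx : x ∈ a.1) : (q R N a).hom x = 0 := by
  show Submodule.mkQ a.1 x = 0
  rw [Submodule.mkQ_apply, Submodule.Quotient.mk_eq_zero]
  exact hx

lemma hw (a b : J R N) (hab : a ≤ b) :
      q R N a ≫ colimit.ι (F R N) a = q R N b ≫ colimit.ι (F R N) b := by
  rw [← colimit.w (F R N) (homOfLE hab), ← Category.assoc, q_comp_map]

lemma q_comp_ι (a : J R N) : q R N a ≫ colimit.ι (F R N) a = 0 := by
  apply ModuleCat.hom_ext
  apply LinearMap.ext
  intro x
  have hle : a.1 ≤ a.1 ⊔ Submodule.span R {x} := le_sup_left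
  rw [hw R N a ⟨a.1 ⊔ Submodule.span R {x}, a.2.sup (Submodule.fg_span_singleton x)⟩ hle]
  rw [ModuleCat.hom_comp, LinearMap.comp_apply, q_apply_eq_zero, map_zero]
  · rfl
  · exact le_sup_right (α := Submodule R N) (Submodule.mem_span_singleton_self x)

theorem finite_of_injective
    (h : Function.Injective
      (colimit.post (F R N) (coyoneda.obj (Opposite.op (ModuleCat.of R N))))) :
    Module.Finite R N := by
  let G := coyoneda.obj (Opposite.op (ModuleCat.of R N))
  let a0 : J R N := ⟨⊥, Submodule.fg_bot⟩
  have hpost : ∀ (a : J R N) (φ : (F R N ⋙ G).obj a),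
      colimit.post (F R N) G (colimit.ι (F R N ⋙ G) a φ) = φ ≫ colimit.ι (F R N) a := by
    intro a φ
    have := ConcreteCategory.congr_hom (colimit.ι_post (F R N) G a) φ
    exact this
  have h1 : colimit.ι (F R N ⋙ G) a0 (q R N a0) = colimit.ι (F R N ⋙ G) a0 (0 : _ ⟶ _) := by
    apply h
    rw [hpost, hpost, q_comp_ι, zero_comp]
  rw [Types.FilteredColimit.colimit_eq_iff] at h1
  obtain ⟨k, f, g, hk⟩ := h1
  have hk' : q R N a0 ≫ (F R N).map f = 0 ≫ (F R N).map g := hk
  rw [q_comp_map, zero_comp] at hk'
  have htop : k.1 = ⊤ := by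
    rw [eq_top_iff]
    intro x _
    have := congrArg (fun φ => φ.hom x) hk'
    simp only [ModuleCat.hom_zero, LinearMap.zero_apply] at this
    exact (Submodule.Quotient.mk_eq_zero _).1 this
  rw [Module.finite_def, ← htop]
  exact k.2


end aux

/-- Let R be a ring and N an R-module such that whenever M is the colimit of a filtered diagram (Mᵢ) of
R-modules (indexed by a filtered category in the same universe), the comparison map colim Hom_R(N,
Mᵢ) → Hom_R(N, M) is injective. Then N is finitely generated. (The implication from finite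
generation back to this injectivity also holds; only the characterizing direction is stated here.) -/
theorem result (R : Type u) [CommRing R] (N : Type u) [AddCommGroup N] [Module R N] (h : ∀ (J : Type u) [SmallCategory J] [IsFiltered J] (F : J ⥤ ModuleCat.{u} R), Function.Injective (colimit.post F (coyoneda.obj (Opposite.op (ModuleCat.of R N))))) : Module.Finite R N := by
  exact finite_of_injective R N (h (J R N) (F R N))

end Groth.Agent.S6326
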