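import Groth.Statements.S6327
import Mathlib
import Groth.Agent.S6326

set_option autoImplicit false
universe u
open CategoryTheory CategoryTheory.Limits
open CAlg

namespace Groth.Agent.S6327

open CategoryTheory CategoryTheory.Limits

section aux

variable (R : Type u) [CommRing R] {N : Type u} [AddCommGroup N] [Module R N]
  {P : Type u} [AddCommGroup P] [Module R P] (p : P →ₗ[R] N)

/-- index: f.g. submodules of the kernel -/
abbrev J := {K' : Submodule R P // K'.FG ∧ K' ≤ LinearMap.ker p}

instance : Nonempty (J R p) := ⟨⟨⊥, Submodule.fg_bot, bot_le⟩⟩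

instance : IsDirected (J R p) (· ≤ ·) :=
  ⟨fun a b => ⟨⟨a.1 ⊔ b.1, a.2.1.sup b.2.1, sup_le a.2.2 b.2.2⟩,
    (le_sup_left : a.1 ≤ a.1 ⊔ b.1), (le_sup_right : b.1 ≤ a.1 ⊔ b.1)⟩⟩

instance : IsFiltered (J R p) := isFiltered_of_directed_le_nonempty _

/-- quotient diagram -/
noncomputable def F : J R p ⥤ ModuleCat.{u} R where
  obj K' := ModuleCat.of R (P ⧸ K'.1)
  map {a b} h := ModuleCat.ofHom (Submodule.factor (show a.1 ≤ b.1 from leOfHom h))
  map_id a := by
    ext x
    rfl
  map_comp f g := by
    ext x
    rfl

noncomputable def q (a : J R p) : ModuleCat.of R P ⟶ (F R p).obj a :=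
  ModuleCat.ofHom (Submodule.mkQ a.1)

lemma q_surjective (a : J R p) : Function.Surjective (q R p a).hom :=
  Submodule.mkQ_surjective _

lemma q_comp_map {a b : J R p} (h : a ⟶ b) : q R p a ≫ (F R p).map h = q R p b := by
  ext x
  rfl

noncomputable def toN (a : J R p) : (F R p).obj a ⟶ ModuleCat.of R N :=
  ModuleCat.ofHom (Submodule.liftQ a.1 p a.2.2)

lemma q_toN (a : J R p) : q R p a ≫ toN R p a = ModuleCat.ofHom p := by
  ext x
  rfl

lemma map_toN {a b : J R p} (h : a ⟶ b) : (F R p).map h ≫ toN R p b = toN R p a := by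
  ext x
  obtain ⟨x, rfl⟩ := q_surjective R p a x
  rfl

noncomputable def cocone : Cocone (F R p) where
  pt := ModuleCat.of R N
  ι := { app := toN R p
         naturality := fun a b h => by
          rw [map_toN]; simp }

noncomputable def desc : colimit (F R p) ⟶ ModuleCat.of R N := colimit.desc _ (cocone R p)

lemma ι_desc (a : J R p) : colimit.ι (F R p) a ≫ desc R p = toN R p a :=
  colimit.ι_desc _ _

instance : PreservesColimitsOfShape (J R p) (forget (ModuleCat.{u} R)) :=
  have : PreservesFilteredColimits (forget (ModuleCat.{u} R)) :=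
    ModuleCat.FilteredColimits.forget_preservesFilteredColimits
  PreservesFilteredColimitsOfSize.preserves_filtered_colimits (J R p)

lemma hw (a b : J R p) (hab : a ≤ b) :
    q R p a ≫ colimit.ι (F R p) a = q R p b ≫ colimit.ι (F R p) b := by
  rw [← colimit.w (F R p) (homOfLE hab), ← Category.assoc, q_comp_map]

lemma q_apply_eq_zero (a : J R p) (x : P) (hx : x ∈ a.1) : (q R p a).hom x = 0 := by
  show Submodule.mkQ a.1 x = 0
  rw [Submodule.mkQ_apply, Submodule.Quotient.mk_eq_zero]
  exact hx

lemma ι_q_eq_zero (a : J R p) (x : P) (hx : p x = 0) :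
    (q R p a ≫ colimit.ι (F R p) a).hom x = 0 := by
  have hle : a.1 ≤ a.1 ⊔ Submodule.span R {x} := le_sup_left
  rw [hw R p a ⟨a.1 ⊔ Submodule.span R {x}, a.2.1.sup (Submodule.fg_span_singleton x),
    sup_le a.2.2 (by rw [Submodule.span_singleton_le_iff_mem]; exact hx)⟩ hle]
  rw [ModuleCat.hom_comp, LinearMap.comp_apply, q_apply_eq_zero, map_zero]
  exact le_sup_right (α := Submodule R P) (Submodule.mem_span_singleton_self x)

lemma desc_bijective (hp : Function.Surjective p) : Function.Bijective (desc R p).hom := by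
  constructor
  · rw [← LinearMap.ker_eq_bot, eq_bot_iff]
    intro z hz
    obtain ⟨a, y, rfl⟩ := Concrete.colimit_exists_rep (F R p) z
    obtain ⟨x, rfl⟩ := q_surjective R p a y
    have h1 : (desc R p).hom ((colimit.ι (F R p) a).hom ((q R p a).hom x)) = p x := by
      have := congrArg (fun φ => φ.hom x) (q_toN R p a)
      rw [← ι_desc] at this
      exact this
    have h2 : p x = 0 := by rw [← h1]; exact hz
    exact ι_q_eq_zero R p a x h2
  · intro n
    obtain ⟨x, rfl⟩ := hp n
    let a0 : J R p := ⟨⊥, Submodule.fg_bot, bot_le⟩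
    refine ⟨(colimit.ι (F R p) a0).hom ((q R p a0).hom x), ?_⟩
    have := congrArg (fun φ => φ.hom x) (q_toN R p a0)
    rw [← ι_desc] at this
    exact this

theorem fp_of_surjective [Module.FinitePresentation R P] (hp : Function.Surjective p)
    (h : Function.Surjective
      (colimit.post (F R p) (coyoneda.obj (Opposite.op (ModuleCat.of R N))))) :
    Module.FinitePresentation R N := by
  let G := coyoneda.obj (Opposite.op (ModuleCat.of R N))
  let e : ((colimit (F R p) : ModuleCat.{u} R) : Type u) ≃ₗ[R] N := LinearEquiv.ofBijective (desc R p).hom (desc_bijective R p hp)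
  let ψ : ModuleCat.of R N ⟶ colimit (F R p) := ModuleCat.ofHom e.symm.toLinearMap
  have hψ : ψ ≫ desc R p = 𝟙 _ := by
    ext x
    exact e.apply_symm_apply x
  obtain ⟨z, hz⟩ := h ψ
  obtain ⟨a, φ, rfl⟩ := Types.jointly_surjective' z
  have hpost : colimit.post (F R p) G (colimit.ι (F R p ⋙ G) a φ) = φ ≫ colimit.ι (F R p) a :=
    ConcreteCategory.congr_hom (colimit.ι_post (F R p) G a) φ
  have hφ : φ ≫ toN R p a = 𝟙 _ := by
    rw [← ι_desc, ← Category.assoc, ← hpost]
    exact (congrArg (fun t => t ≫ desc R p) hz).trans hψ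
  -- retract
  let φl : N →ₗ[R] (P ⧸ a.1) := φ.hom
  let πl : (P ⧸ a.1) →ₗ[R] N := Submodule.liftQ a.1 p a.2.2
  have hπφ : ∀ n, πl (φl n) = n := fun n => congrArg (fun t => t.hom n) hφ
  haveI : Module.FinitePresentation R (P ⧸ a.1) :=
    Module.finitePresentation_of_surjective (Submodule.mkQ a.1) (Submodule.mkQ_surjective _)
      (by rw [Submodule.ker_mkQ]; exact a.2.1)
  refine Module.finitePresentation_of_surjective πl (fun n => ⟨φl n, hπφ n⟩) ?_
  have hker : LinearMap.ker πl = LinearMap.range (LinearMap.id - φl ∘ₗ πl) := by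
    ext x
    constructor
    · intro hx
      refine ⟨x, ?_⟩
      have hx' : πl x = 0 := hx
      simp [hx']
    · rintro ⟨y, rfl⟩
      show πl _ = 0
      simp [hπφ]
  rw [hker]
  exact Submodule.fg_range _


end aux

/-- Let R be a ring and N an R-module such that whenever M is the colimit of a filtered diagram (Mᵢ) of
R-modules (indexed by a filtered category in the same universe), the comparison map colim Hom_R(N,
Mᵢ) → Hom_R(N, M) is bijective. Then N is finitely presented. (The implication from finite
presentation back to this bijectivity also holds; only the characterizing direction is stated here.) -/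
theorem result (R : Type u) [CommRing R] (N : Type u) [AddCommGroup N] [Module R N] (h : ∀ (J : Type u) [SmallCategory J] [IsFiltered J] (F : J ⥤ ModuleCat.{u} R), Function.Bijective (colimit.post F (coyoneda.obj (Opposite.op (ModuleCat.of R N))))) : Module.FinitePresentation R N := by
  haveI : Module.Finite R N :=
    Groth.Agent.S6326.finite_of_injective R N (h _ _).1
  obtain ⟨n, p, hp⟩ := Module.Finite.exists_fin' R N
  exact fp_of_surjective R p hp (h _ _).2

end Groth.Agent.S6327
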