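import Groth.Statements.S6328
import Mathlib

set_option autoImplicit false
universe u
open CAlg

namespace Groth.Agent.S6328

section aux

variable (R : Type u) [CommRing R] {M : Type u} [AddCommGroup M] [Module R M]
  {P : Type u} [AddCommGroup P] [Module R P] (pp : P →ₗ[R] M)
  {I : Type u} (AA : Finset I → Submodule R P)

structure Idx where
  S : Finset I
  B : Submodule R P
  fg : B.FG
  le_ker : B ≤ LinearMap.ker pp
  le_supp : B ≤ AA S

instance : Preorder (Idx R pp AA) where
  le a b := a.S ⊆ b.S ∧ a.B ≤ b.B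
  le_refl a := ⟨subset_rfl, le_rfl⟩
  le_trans a b c h1 h2 := ⟨h1.1.trans h2.1, h1.2.trans h2.2⟩

instance : Nonempty (Idx R pp AA) := ⟨⟨∅, ⊥, Submodule.fg_bot, bot_le, bot_le⟩⟩

variable (hA : Monotone AA)

include hA in
lemma isDirected : IsDirected (Idx R pp AA) (· ≤ ·) := by
  classical
  exact ⟨fun a b => ⟨⟨a.S ∪ b.S, a.B ⊔ b.B, a.fg.sup b.fg, sup_le a.le_ker b.le_ker,
    sup_le (a.le_supp.trans (hA Finset.subset_union_left))
      (b.le_supp.trans (hA Finset.subset_union_right))⟩,
    ⟨Finset.subset_union_left, le_sup_left⟩, ⟨Finset.subset_union_right, le_sup_right⟩⟩⟩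

/-- the submodule we divide by -/
abbrev BB (i : Idx R pp AA) : Submodule R (AA i.S) :=
  i.B.comap (AA i.S).subtype

/-- the f.p. modules -/
abbrev G (i : Idx R pp AA) : Type u := (AA i.S) ⧸ BB R pp AA i

include hA in
lemma BB_le {i j : Idx R pp AA} (h : i ≤ j) :
    BB R pp AA i ≤ (BB R pp AA j).comap (Submodule.inclusion (hA h.1)) := by
  intro y hy
  exact h.2 hy

def f (i j : Idx R pp AA) (h : i ≤ j) : G R pp AA i →ₗ[R] G R pp AA j :=
  Submodule.mapQ _ _ (Submodule.inclusion (hA h.1)) (BB_le R pp AA hA h)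

lemma f_mk (i j : Idx R pp AA) (h : i ≤ j) (y : AA i.S) :
    f R pp AA hA i j h (Submodule.Quotient.mk y) =
      Submodule.Quotient.mk (Submodule.inclusion (hA h.1) y) := rfl

instance : DirectedSystem (G R pp AA) fun i j h => f R pp AA hA i j h where
  map_self i x := by
    obtain ⟨y, rfl⟩ := Submodule.Quotient.mk_surjective _ x
    rfl
  map_map i j k hij hjk x := by
    obtain ⟨y, rfl⟩ := Submodule.Quotient.mk_surjective _ x
    rfl

lemma fp_G (hfp : ∀ S, Module.FinitePresentation R (AA S)) (i : Idx R pp AA) :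
    Module.FinitePresentation R (G R pp AA i) := by
  haveI := hfp i.S
  refine Module.finitePresentation_of_surjective (Submodule.mkQ (BB R pp AA i))
    (Submodule.mkQ_surjective _) ?_
  rw [Submodule.ker_mkQ]
  have e : BB R pp AA i ≃ₗ[R] i.B := Submodule.comapSubtypeEquivOfLe i.le_supp
  haveI : Module.Finite R i.B := Module.Finite.iff_fg.2 i.fg
  exact Module.Finite.iff_fg.1 (Module.Finite.equiv e.symm)

/-- maps to `M` -/
def g (i : Idx R pp AA) : G R pp AA i →ₗ[R] M :=
  Submodule.liftQ _ (pp ∘ₗ (AA i.S).subtype) (by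
    intro y hy
    exact i.le_ker hy)

lemma g_mk (i : Idx R pp AA) (y : AA i.S) :
    g R pp AA i (Submodule.Quotient.mk y) = pp (y : P) := rfl

lemma g_f (i j : Idx R pp AA) (h : i ≤ j) (x : G R pp AA i) :
    g R pp AA j (f R pp AA hA i j h x) = g R pp AA i x := by
  obtain ⟨y, rfl⟩ := Submodule.Quotient.mk_surjective _ x
  rfl

noncomputable def lim [DecidableEq (Idx R pp AA)] : Module.DirectLimit (G R pp AA) (f R pp AA hA) →ₗ[R] M :=
  Module.DirectLimit.lift R (Idx R pp AA) (G R pp AA) (f R pp AA hA) (g R pp AA)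
    (fun i j h x => g_f R pp AA hA i j h x)

lemma lim_of [DecidableEq (Idx R pp AA)] (i : Idx R pp AA) (x : G R pp AA i) :
    lim R pp AA hA (Module.DirectLimit.of R (Idx R pp AA) (G R pp AA) (f R pp AA hA) i x)
      = g R pp AA i x :=
  Module.DirectLimit.lift_of _ _ _

lemma lim_bijective [DecidableEq (Idx R pp AA)] (hsurj : ∀ m : M, ∃ S, ∃ x ∈ AA S, pp x = m) :
    Function.Bijective (lim R pp AA hA) := by
  haveI := isDirected R pp AA hA
  constructor
  · intro z w hzw
    obtain ⟨i0, x0, rfl⟩ := Module.DirectLimit.exists_of z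
    obtain ⟨j0, y0, rfl⟩ := Module.DirectLimit.exists_of w
    obtain ⟨i, hi0, hj0⟩ := exists_ge_ge i0 j0
    rw [lim_of, lim_of, ← g_f R pp AA hA i0 i hi0, ← g_f R pp AA hA j0 i hj0] at hzw
    rw [← Module.DirectLimit.of_f (hij := hi0), ← Module.DirectLimit.of_f (hij := hj0)]
    generalize f R pp AA hA i0 i hi0 x0 = x at hzw ⊢
    generalize f R pp AA hA j0 i hj0 y0 = x' at hzw ⊢
    obtain ⟨y, rfl⟩ := Submodule.Quotient.mk_surjective _ x
    obtain ⟨y', rfl⟩ := Submodule.Quotient.mk_surjective _ x'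
    have h0 : pp ((y - y' : AA i.S) : P) = 0 := by
      rw [g_mk, g_mk] at hzw
      rw [Submodule.coe_sub, map_sub, hzw, sub_self]
    let j : Idx R pp AA := ⟨i.S, i.B ⊔ Submodule.span R {((y - y' : AA i.S) : P)},
      i.fg.sup (Submodule.fg_span_singleton _),
      sup_le i.le_ker (by rw [Submodule.span_singleton_le_iff_mem]; exact h0),
      sup_le i.le_supp (by rw [Submodule.span_singleton_le_iff_mem]; exact (y - y').2)⟩
    have hij : i ≤ j := ⟨subset_rfl, le_sup_left⟩
    have h1 : f R pp AA hA i j hij (Submodule.Quotient.mk y) =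
        f R pp AA hA i j hij (Submodule.Quotient.mk y') := by
      rw [← sub_eq_zero, ← map_sub, ← Submodule.Quotient.mk_sub, f_mk,
        Submodule.Quotient.mk_eq_zero]
      show ((Submodule.inclusion (hA hij.1) (y - y') : AA j.S) : P) ∈ j.B
      exact le_sup_right (α := Submodule R P) (Submodule.mem_span_singleton_self _)
    rw [← Module.DirectLimit.of_f (hij := hij), h1, Module.DirectLimit.of_f]
  · intro m
    obtain ⟨S, x, hx, rfl⟩ := hsurj m
    let i : Idx R pp AA := ⟨S, ⊥, Submodule.fg_bot, bot_le, bot_le⟩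
    refine ⟨Module.DirectLimit.of R (Idx R pp AA) (G R pp AA) (f R pp AA hA) i
      (Submodule.Quotient.mk ⟨x, hx⟩), ?_⟩
    rw [lim_of, g_mk]


theorem main (R : Type u) [CommRing R] (M : Type u) [AddCommGroup M] [Module R M] :
    ∃ (ι : Type u) (_ : Preorder ι) (_ : IsDirected ι (· ≤ ·)) (_ : Nonempty ι)
      (_ : DecidableEq ι) (G : ι → Type u) (_ : ∀ i, AddCommGroup (G i))
      (_ : ∀ i, Module R (G i)) (f : ∀ i j, i ≤ j → G i →ₗ[R] G j)
      (_ : DirectedSystem G fun i j h => f i j h),
      (∀ i, Module.FinitePresentation R (G i)) ∧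
        Nonempty (Module.DirectLimit G f ≃ₗ[R] M) := by
  classical
  let pp : (M →₀ R) →ₗ[R] M := Finsupp.linearCombination R (id : M → M)
  let AA : Finset M → Submodule R (M →₀ R) := fun S => Finsupp.supported R R (S : Set M)
  have hA : Monotone AA := fun S T h => Finsupp.supported_mono (by exact_mod_cast h)
  have hfp : ∀ S, Module.FinitePresentation R (AA S) := fun S => by
    have e : ((S : Set M) →₀ R) ≃ₗ[R] (AA S) :=
      (Finsupp.supportedEquivFinsupp (R := R) (M := R) (S : Set M)).symm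
    exact @Module.FinitePresentation.of_equiv R ((S : Set M) →₀ R) (AA S) _ _ _ _ _ e _
  have hsurj : ∀ m : M, ∃ S, ∃ x ∈ AA S, pp x = m := by
    intro m
    refine ⟨{m}, Finsupp.single m 1, ?_, ?_⟩
    · apply Finsupp.single_mem_supported
      simp
    · simp [pp]
  refine ⟨Idx R pp AA, inferInstance, isDirected R pp AA hA, inferInstance, inferInstance,
    G R pp AA, fun i => inferInstance, fun i => inferInstance, f R pp AA hA, inferInstance,
    fp_G R pp AA hfp, ⟨LinearEquiv.ofBijective (lim R pp AA hA) (lim_bijective R pp AA hA hsurj)⟩⟩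


end aux

/-- Every module M over a ring R can be written as the direct limit of a directed system (Mᵢ, μᵢⱼ) of
finitely presented R-modules. -/
theorem result (R : Type u) [CommRing R] (M : Type u) [AddCommGroup M] [Module R M] : ∃ (ι : Type u) (_ : Preorder ι) (_ : IsDirected ι (· ≤ ·)) (_ : Nonempty ι) (_ : DecidableEq ι) (G : ι → Type u) (_ : ∀ i, AddCommGroup (G i)) (_ : ∀ i, Module R (G i)) (f : ∀ i j, i ≤ j → G i →ₗ[R] G j) (_ : DirectedSystem G fun i j h => f i j h), (∀ i, Module.FinitePresentation R (G i)) ∧ Nonempty (Module.DirectLimit G f ≃ₗ[R] M) := by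
  exact main R M

end Groth.Agent.S6328
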