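import Groth.Statements.S6329
import Mathlib
import Groth.Agent.S6320

set_option autoImplicit false
universe u
open CAlg

namespace Groth.Agent.S6329

open Groth.Agent.S6320

section
variable {R : Type u} [CommRing R]

theorem loc_length_simple (m : Ideal R) [hm : m.IsMaximal] (T : Type u) [AddCommGroup T] [Module R T]
    (n₀ : Ideal R) (hn₀ : n₀.IsMaximal) (e : T ≃ₗ[R] R ⧸ n₀) :
    Module.length (Localization.AtPrime m) (LocalizedModule m.primeCompl T) =
      if n₀ = m then 1 else 0 := by
  have hsimple : IsSimpleModule R T := isSimpleModule_iff_quot_maximal.mpr ⟨n₀, hn₀, ⟨e⟩⟩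
  have hkill : ∀ s ∈ n₀, ∀ x : T, s • x = 0 := by
    intro s hs x
    apply e.injective
    rw [map_smul, map_zero]
    obtain ⟨b, hb⟩ := Ideal.Quotient.mk_surjective (e x)
    rw [← hb, ← Ideal.Quotient.mk_eq_mk, ← Submodule.Quotient.mk_smul, smul_eq_mul]
    exact (Submodule.Quotient.mk_eq_zero _).mpr (Ideal.mul_mem_right _ _ hs)
  split_ifs with h
  · subst h
    apply le_antisymm
    · calc _ ≤ Module.length R T := loc_length_le n₀ T
        _ = 1 := Module.length_eq_one R T
    · rw [Order.one_le_iff_ne_zero, Ne, Module.length_eq_zero_iff]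
      intro hnt
      rw [LocalizedModule.subsingleton_iff] at hnt
      haveI := IsSimpleModule.nontrivial R T
      obtain ⟨x, hx⟩ := exists_ne (0 : T)
      obtain ⟨r, hr, hrx⟩ := hnt x
      obtain ⟨b, hb⟩ := Ideal.Quotient.mk_surjective (e x)
      have hbn : b ∉ n₀ := by
        intro hbn
        apply hx
        apply e.injective
        rw [map_zero, ← hb]
        exact Ideal.Quotient.eq_zero_iff_mem.mpr hbn
      have : Ideal.Quotient.mk n₀ (r * b) = 0 := by
        have h0 : r • e x = 0 := by rw [← map_smul, hrx, map_zero]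
        rw [Algebra.smul_def, Ideal.Quotient.algebraMap_eq] at h0
        rw [map_mul, hb]
        exact h0
      rw [Ideal.Quotient.eq_zero_iff_mem] at this
      rcases hn₀.isPrime.mem_or_mem this with h | h
      · exact hr h
      · exact hbn h
  · have hnle : ¬ n₀ ≤ m := fun hle => h (hn₀.eq_of_le hm.ne_top hle)
    obtain ⟨s, hs, hsn⟩ := Set.not_subset.mp hnle
    have : Subsingleton (LocalizedModule m.primeCompl T) := by
      rw [LocalizedModule.subsingleton_iff]
      intro x
      exact ⟨s, hsn, hkill s hs x⟩
    rw [Module.length_eq_zero]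

theorem step (m : Ideal R) [hm : m.IsMaximal] {M : Type u} [AddCommGroup M] [Module R M]
    (P Q : Submodule R M) (hPQ : P ⋖ Q) :
    Module.length (Localization.AtPrime m) (LocalizedModule m.primeCompl Q) =
      Module.length (Localization.AtPrime m) (LocalizedModule m.primeCompl P) +
        (if P.colon (Q : Set M) = m then 1 else 0) := by
  classical
  have hle : P ≤ Q := hPQ.le
  have hsimple : IsSimpleModule R (Q ⧸ Submodule.comap Q.subtype P) :=
    (covBy_iff_quot_is_simple hle).mp hPQ
  obtain ⟨n₀, hn₀, ⟨e⟩⟩ := isSimpleModule_iff_quot_maximal.mp hsimple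
  have hcolon : P.colon (Q : Set M) = n₀ := by
    ext r
    rw [Submodule.mem_colon]
    constructor
    · intro h
      -- r kills the quotient, so r • e⁻¹(1) = 0
      have h1 : r • (e.symm (Ideal.Quotient.mk n₀ 1)) = 0 := by
        obtain ⟨q, hq⟩ := Submodule.Quotient.mk_surjective _ (e.symm (Ideal.Quotient.mk n₀ 1))
        rw [← hq, ← Submodule.Quotient.mk_smul, Submodule.Quotient.mk_eq_zero]
        exact h q.1 q.2
      have h2 := congrArg e h1
      rw [map_smul, LinearEquiv.apply_symm_apply, map_zero, ← Ideal.Quotient.mk_eq_mk,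
        ← Submodule.Quotient.mk_smul, smul_eq_mul, mul_one] at h2
      exact (Submodule.Quotient.mk_eq_zero _).mp h2
    · intro hr q hq
      have h1 : r • (Submodule.Quotient.mk (⟨q, hq⟩ : Q) : Q ⧸ Submodule.comap Q.subtype P) = 0 := by
        apply e.injective
        rw [map_smul, map_zero]
        obtain ⟨b, hb⟩ := Ideal.Quotient.mk_surjective (e (Submodule.Quotient.mk (⟨q, hq⟩ : Q)))
        rw [← hb, ← Ideal.Quotient.mk_eq_mk, ← Submodule.Quotient.mk_smul, smul_eq_mul]
        exact (Submodule.Quotient.mk_eq_zero _).mpr (Ideal.mul_mem_right _ _ hr)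
      rw [← Submodule.Quotient.mk_smul, Submodule.Quotient.mk_eq_zero] at h1
      exact h1
  rw [loc_length_add m (Submodule.comap Q.subtype P), loc_length_simple m _ n₀ hn₀ e, hcolon]
  congr 1
  -- localized comap ≃ localized P
  have e' : (Submodule.comap Q.subtype P) ≃ₗ[R] P := Submodule.comapSubtypeEquivOfLe hle
  have hb : Function.Bijective (LocalizedModule.map m.primeCompl e'.toLinearMap) :=
    ⟨LocalizedModule.map_injective _ _ e'.injective, LocalizedModule.map_surjective _ _ e'.surjective⟩
  exact (LinearEquiv.ofBijective _ hb).length_eq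

theorem telescope : ∀ (n : ℕ) (F : Fin (n + 1) → ℕ∞) (c : Fin n → ℕ∞),
    (∀ j : Fin n, F j.succ = F j.castSucc + c j) → F (Fin.last n) = F 0 + ∑ j, c j := by
  intro n
  induction n with
  | zero => intro F c _; simp
  | succ n ih =>
    intro F c h
    have := ih (fun k => F k.castSucc) (fun j => c j.castSucc) (fun j => by
      have := h j.castSucc
      rw [Fin.succ_castSucc] at this
      exact this)
    simp only [Fin.castSucc_zero] at this
    rw [Fin.sum_univ_castSucc, ← add_assoc, ← this]
    have h2 := h (Fin.last n)
    rw [Fin.succ_last] at h2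
    exact h2

end

/-- Let R be a ring, M an R-module and 0 = M₀ ⊂ M₁ ⊂ … ⊂ Mₙ = M a maximal chain of submodules (a
composition series; each Mᵢ/Mᵢ₋₁ is simple, of the form R/mᵢ with mᵢ = (Mᵢ₋₁ : Mᵢ) maximal). Then
for every maximal ideal m of R the number of indices i with mᵢ = m equals length_{R_m}(M_m). -/
theorem result {R : Type u} [CommRing R] (M : Type u) [AddCommGroup M] [Module R M] (s : CompositionSeries (Submodule R M)) (h0 : s.head = ⊥) (h1 : s.last = ⊤) (m : Ideal R) [m.IsMaximal] : ((Finset.univ.filter fun i : Fin s.length => (s i.castSucc).colon (s i.succ : Set M) = m).card : ℕ∞) = Module.length (Localization.AtPrime m) (LocalizedModule m.primeCompl M) := by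
  classical
  have key := telescope s.length
    (fun k => Module.length (Localization.AtPrime m) (LocalizedModule m.primeCompl (s k)))
    (fun j => if (s j.castSucc).colon (s j.succ : Set M) = m then 1 else 0)
    (fun j => step m (s j.castSucc) (s j.succ) (s.step j))
  simp only at key
  have hhead : s 0 = ⊥ := h0
  have hlast : s (Fin.last s.length) = ⊤ := h1
  rw [hhead, hlast] at key
  have hbot : Module.length (Localization.AtPrime m)
      (LocalizedModule m.primeCompl (⊥ : Submodule R M)) = 0 := by
    rw [Module.length_eq_zero_iff, LocalizedModule.subsingleton_iff]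
    intro x
    exact ⟨1, Submonoid.one_mem _, by rw [one_smul]; exact Subsingleton.elim _ _⟩
  have htop : Module.length (Localization.AtPrime m) (LocalizedModule m.primeCompl M) =
      Module.length (Localization.AtPrime m) (LocalizedModule m.primeCompl (⊤ : Submodule R M)) := by
    rw [loc_length_add m (⊤ : Submodule R M)]
    have : Module.length (Localization.AtPrime m)
        (LocalizedModule m.primeCompl (M ⧸ (⊤ : Submodule R M))) = 0 := by
      rw [Module.length_eq_zero_iff, LocalizedModule.subsingleton_iff]
      intro x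
      exact ⟨1, Submonoid.one_mem _, by rw [one_smul]; exact Subsingleton.elim _ _⟩
    rw [this, add_zero]
  rw [htop, key, hbot, zero_add, Finset.sum_boole]

end Groth.Agent.S6329
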