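import Groth.Statements.S6330
import Mathlib

set_option autoImplicit false
universe u
open scoped TensorProduct
open CAlg

namespace Groth.Agent.S6330

/-- kernel of a surjection onto a projective module is a retract: finite & projective. -/
lemma ker_finite_projective {T : Type u} [CommRing T] {A B C : Type u}
    [AddCommGroup A] [Module T A] [AddCommGroup B] [Module T B] [AddCommGroup C] [Module T C]
    [Module.Finite T B] [Module.Projective T B] [Module.Projective T C]
    (ι : A →ₗ[T] B) (π : B →ₗ[T] C) (hι : Function.Injective ι) (hπ : Function.Surjective π)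
    (hex : Function.Exact ι π) :
    Module.Finite T A ∧ Module.Projective T A := by
  obtain ⟨s, hs⟩ := Module.projective_lifting_property π LinearMap.id hπ
  have hπs : ∀ c, π (s c) = c := fun c => LinearMap.congr_fun hs c
  -- retraction onto ker π = range ι
  have hmem : ∀ b : B, b - s (π b) ∈ LinearMap.range ι := by
    intro b
    rw [← LinearMap.exact_iff.mp hex, LinearMap.mem_ker, map_sub, hπs, sub_self]
  let e : A ≃ₗ[T] LinearMap.range ι := LinearEquiv.ofInjective ι hι
  let ρ : B →ₗ[T] LinearMap.range ι :=
    (LinearMap.id - s.comp π).codRestrict _ (by intro b; simpa using hmem b)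
  let r : B →ₗ[T] A := e.symm.toLinearMap.comp ρ
  have hr : r.comp ι = LinearMap.id := by
    ext a
    simp only [r, LinearMap.comp_apply, LinearMap.id_apply, LinearEquiv.coe_coe]
    rw [LinearEquiv.symm_apply_eq]
    apply Subtype.ext
    simp only [ρ, LinearMap.codRestrict_apply, LinearMap.sub_apply, LinearMap.id_apply,
      LinearMap.comp_apply, e, LinearEquiv.ofInjective_apply]
    rw [hex.apply_apply_eq_zero, map_zero, sub_zero]
  have hsurj : Function.Surjective r := fun a => ⟨ι a, LinearMap.congr_fun hr a⟩
  exact ⟨Module.Finite.of_surjective r hsurj, Module.Projective.of_split ι r hr⟩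

/-- Let R be a ring and φ : P₁ → P₂ a map of finite projective R-modules. The set W of primes p of R
such that φ ⊗ κ(p) is surjective is open, and for every f ∈ R with D(f) ⊆ W the map (P₁)_f → (P₂)_f
is surjective and Ker(φ)_f is a finite projective module over R_f. -/
theorem result {R : Type u} [CommRing R] {P₁ P₂ : Type u} [AddCommGroup P₁] [Module R P₁] [AddCommGroup P₂] [Module R P₂] [Module.Finite R P₁] [Module.Projective R P₁] [Module.Finite R P₂] [Module.Projective R P₂] (φ : P₁ →ₗ[R] P₂) : IsOpen {p : PrimeSpectrum R | Function.Surjective (φ.lTensor p.asIdeal.ResidueField)} ∧ ∀ f : R, (↑(PrimeSpectrum.basicOpen f) : Set (PrimeSpectrum R)) ⊆ {p : PrimeSpectrum R | Function.Surjective (φ.lTensor p.asIdeal.ResidueField)} → Function.Surjective (LocalizedModule.map (Submonoid.powers f) φ) ∧ Module.Finite (Localization.Away f) (LocalizedModule (Submonoid.powers f) (LinearMap.ker φ)) ∧ Module.Projective (Localization.Away f) (LocalizedModule (Submonoid.powers f) (LinearMap.ker φ)) := by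
  -- the surjective locus is the complement of the support of the cokernel
  have hW : {p : PrimeSpectrum R | Function.Surjective (φ.lTensor p.asIdeal.ResidueField)} =
      (Module.support R (P₂ ⧸ LinearMap.range φ))ᶜ := by
    ext p
    rw [Set.mem_setOf_eq, Set.mem_compl_iff,
      Module.mem_support_iff_nontrivial_residueField_tensorProduct,
      not_nontrivial_iff_subsingleton]
    have hex : Function.Exact (φ.lTensor p.asIdeal.ResidueField)
        ((LinearMap.range φ).mkQ.lTensor p.asIdeal.ResidueField) :=
      lTensor_exact _ (LinearMap.exact_map_mkQ_range φ) (Submodule.mkQ_surjective _)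
    have hsurj : Function.Surjective ((LinearMap.range φ).mkQ.lTensor p.asIdeal.ResidueField) :=
      LinearMap.lTensor_surjective _ (Submodule.mkQ_surjective _)
    constructor
    · intro h
      refine ⟨fun a b => ?_⟩
      obtain ⟨a', rfl⟩ := hsurj a
      obtain ⟨b', rfl⟩ := hsurj b
      obtain ⟨a'', rfl⟩ := h a'
      obtain ⟨b'', rfl⟩ := h b'
      rw [hex.apply_apply_eq_zero, hex.apply_apply_eq_zero]
    · intro h y
      have : (LinearMap.range φ).mkQ.lTensor p.asIdeal.ResidueField y = 0 :=
        Subsingleton.elim _ _
      exact (hex y).mp this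
  refine ⟨?_, ?_⟩
  · rw [hW]
    exact (Module.isClosed_support (R := R) (M := P₂ ⧸ LinearMap.range φ)).isOpen_compl
  intro f hf
  rw [hW] at hf
  -- a power of f kills the cokernel
  have hrad : f ∈ (Module.annihilator R (P₂ ⧸ LinearMap.range φ)).radical := by
    rw [Ideal.radical_eq_sInf, Ideal.mem_sInf]
    rintro q ⟨hq1, hq2⟩
    by_contra hfq
    have h1 : (⟨q, hq2⟩ : PrimeSpectrum R) ∈ (PrimeSpectrum.basicOpen f : Set (PrimeSpectrum R)) :=
      hfq
    have h2 := hf h1
    apply h2
    rw [Module.support_eq_zeroLocus]
    exact hq1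
  obtain ⟨n, hn⟩ := hrad
  have hpow : ∀ y : P₂, ∃ x : P₁, φ x = f ^ n • y := by
    intro y
    have h1 := Module.mem_annihilator.mp hn (Submodule.Quotient.mk y)
    rw [← Submodule.Quotient.mk_smul, Submodule.Quotient.mk_eq_zero] at h1
    exact h1
  have hsurj : Function.Surjective (LocalizedModule.map (Submonoid.powers f) φ) := by
    intro z
    induction z using LocalizedModule.induction_on with
    | h y s =>
      obtain ⟨x, hx⟩ := hpow y
      refine ⟨LocalizedModule.mk x (⟨f ^ n, n, rfl⟩ * s), ?_⟩
      rw [LocalizedModule.map_mk, hx]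
      exact LocalizedModule.mk_cancel_common_left (⟨f ^ n, n, rfl⟩ : Submonoid.powers f) s y
  refine ⟨hsurj, ?_⟩
  have hex : Function.Exact (LocalizedModule.map (Submonoid.powers f) (LinearMap.ker φ).subtype)
      (LocalizedModule.map (Submonoid.powers f) φ) :=
    LocalizedModule.map_exact (Submonoid.powers f) (LinearMap.ker φ).subtype φ
      (LinearMap.exact_subtype_ker_map φ)
  have hinj : Function.Injective
      (LocalizedModule.map (Submonoid.powers f) (LinearMap.ker φ).subtype) :=
    LocalizedModule.map_injective _ _ (Submodule.injective_subtype _)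
  exact ker_finite_projective _ _ hinj hsurj hex

end Groth.Agent.S6330
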