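import Groth.Statements.S6331
import Mathlib.Dynamics.Newton
import Mathlib.RingTheory.Nilpotent.Basic
import Mathlib.RingTheory.Ideal.Quotient.Operations

set_option autoImplicit false
universe u
open CAlg

namespace Groth.Agent.S6331

open Polynomial in
/-- Newton: unique `n`-th root near `1`. -/
theorem newton_root {R S : Type u} [CommRing R] [CommRing S] [Algebra R S] (n : ℕ)
    (hn : IsUnit ((n : ℕ) : S)) (c : R) (hc : IsNilpotent (1 - algebraMap R S c)) :
    ∃! r : S, IsNilpotent (1 - r) ∧ r ^ n = algebraMap R S c := by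
  have h1 : aeval (1 : S) (X ^ n - C c : R[X]) = 1 - algebraMap R S c := by
    simp
  have h2 : aeval (1 : S) (derivative (X ^ n - C c : R[X])) = (n : S) := by
    rw [derivative_sub, derivative_C, sub_zero, derivative_X_pow, map_mul, map_pow, aeval_X,
      one_pow, mul_one]
    simp
  have := Polynomial.existsUnique_nilpotent_sub_and_aeval_eq_zero (P := (X ^ n - C c : R[X]))
    (x := (1 : S)) (by rw [h1]; exact hc) (by rw [h2]; exact hn)
  have e : ∀ r : S, aeval r (X ^ n - C c : R[X]) = 0 ↔ r ^ n = algebraMap R S c := by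
    intro r
    simp [sub_eq_zero]
  simpa only [e] using this

/-- Let R be a ring, I ⊆ R an ideal all of whose elements are nilpotent, and n ≥ 1 an integer whose
image in R/I is invertible. Then (1) raising to the n-th power is a bijection of the subset 1 + I of
R onto itself: for every y ∈ I there is exactly one x ∈ I with (1 + x)ⁿ = 1 + y; (2) a unit u of R
has an n-th root in R exactly when the residue class of u has an n-th root in R/I. -/
theorem result {R : Type u} [CommRing R] (I : Ideal R) (hI : ∀ x ∈ I, IsNilpotent x) (n : ℕ) (hn : 1 ≤ n) (hinv : IsUnit ((n : ℕ) : R ⧸ I)) : (∀ y ∈ I, ∃! x : R, x ∈ I ∧ (1 + x) ^ n = 1 + y) ∧ (∀ u : Rˣ, (∃ v : R, v ^ n = (u : R)) ↔ ∃ w : R ⧸ I, w ^ n = Ideal.Quotient.mk I (u : R)) := by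
  -- n is a unit in R
  have hnR : IsUnit ((n : ℕ) : R) := by
    obtain ⟨w, hw⟩ := hinv.exists_right_inv
    obtain ⟨m, rfl⟩ := Ideal.Quotient.mk_surjective w
    have hmem : (n : R) * m - 1 ∈ I := by
      rw [← Ideal.Quotient.eq_zero_iff_mem, map_sub, map_mul, map_natCast, hw, map_one, sub_self]
    have hu : IsUnit ((n : R) * m) := by
      have := (hI _ hmem).isUnit_add_one
      simpa using this
    exact isUnit_of_mul_isUnit_left hu
  -- roots near 1 are congruent to 1 mod I
  have hB : ∀ r : R, IsNilpotent (1 - r) → r ^ n - 1 ∈ I → r - 1 ∈ I := by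
    intro r hr hrn
    have hone : IsNilpotent (1 - algebraMap R (R ⧸ I) (1 : R)) := by simp
    have huniq := newton_root (R := R) (S := R ⧸ I) n hinv 1 hone
    have c1 : IsNilpotent (1 - (1 : R ⧸ I)) ∧ (1 : R ⧸ I) ^ n = algebraMap R (R ⧸ I) 1 := by
      simp
    have c2 : IsNilpotent (1 - Ideal.Quotient.mk I r) ∧
        (Ideal.Quotient.mk I r) ^ n = algebraMap R (R ⧸ I) 1 := by
      constructor
      · have := hr.map (Ideal.Quotient.mk I)
        simpa using this
      · rw [map_one, ← map_pow, ← sub_eq_zero, ← map_one (Ideal.Quotient.mk I), ← map_sub,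
          Ideal.Quotient.eq_zero_iff_mem]
        exact hrn
    have := huniq.unique c2 c1
    rw [← Ideal.Quotient.eq_zero_iff_mem, map_sub, this, map_one, sub_self]
  have h1 : ∀ y ∈ I, ∃! x : R, x ∈ I ∧ (1 + x) ^ n = 1 + y := by
    intro y hy
    have hc : IsNilpotent (1 - algebraMap R R (1 + y)) := by
      have : (1 : R) - algebraMap R R (1 + y) = -y := by simp
      rw [this]
      exact (hI y hy).neg
    obtain ⟨r, ⟨hr1, hr2⟩, hruniq⟩ := newton_root (R := R) (S := R) n hnR (1 + y) hc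
    have hr2' : r ^ n = 1 + y := hr2
    have hrI : r - 1 ∈ I := hB r hr1 (by rw [hr2']; simpa using hy)
    refine ⟨r - 1, ⟨hrI, by rw [add_sub_cancel, hr2']⟩, ?_⟩
    rintro x' ⟨hx'I, hx'⟩
    have := hruniq (1 + x') ⟨by
      have : (1 : R) - (1 + x') = -x' := by ring
      rw [this]; exact (hI x' hx'I).neg, hx'⟩
    rw [← this]; ring
  refine ⟨h1, ?_⟩
  intro u
  constructor
  · rintro ⟨v, hv⟩
    exact ⟨Ideal.Quotient.mk I v, by rw [← map_pow, hv]⟩
  · rintro ⟨w, hw⟩
    obtain ⟨v₀, rfl⟩ := Ideal.Quotient.mk_surjective w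
    -- v₀ ^ n - u ∈ I
    have hmem : v₀ ^ n - (u : R) ∈ I := by
      rw [← Ideal.Quotient.eq_zero_iff_mem, map_sub, map_pow, hw, sub_self]
    -- y := u⁻¹ * (v₀^n - u) ∈ I, v₀^n = u * (1 + y)
    set y : R := (↑u⁻¹ : R) * (v₀ ^ n - (u : R)) with hy
    have hyI : y ∈ I := I.mul_mem_left _ hmem
    have hv₀ : v₀ ^ n = (u : R) * (1 + y) := by
      rw [hy, mul_add, mul_one, ← mul_assoc, Units.mul_inv, one_mul]; ring
    obtain ⟨x, ⟨hxI, hx⟩, -⟩ := h1 y hyI
    have hux : IsUnit (1 + x) := (hI x hxI).isUnit_one_add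
    obtain ⟨t, ht⟩ := hux
    refine ⟨v₀ * (↑t⁻¹ : R), ?_⟩
    rw [mul_pow, hv₀, ← hx, ← ht, mul_assoc, ← mul_pow, Units.mul_inv, one_pow, mul_one]

end Groth.Agent.S6331
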