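import Groth.Statements.S6333
import Mathlib

set_option autoImplicit false
universe u
open Fields

namespace Groth.Agent.S6333

open MvPolynomial in
/-- polynomial form of linear disjointness: `L/k` algebraic inside `K`, `B` algebraically independent
over `k` -/
lemma claim1 {k K : Type u} [Field k] [Field K] [Algebra k K] {ι : Type u} (B : ι → K)
    (hB : AlgebraicIndependent k B) {κ : Type} [Fintype κ] (ℓ : κ → algebraicClosure k K)
    (hℓ : LinearIndependent k ℓ) (p : κ → MvPolynomial ι k)
    (h : ∑ i, MvPolynomial.aeval B (p i) * (ℓ i : K) = 0) : ∀ i, p i = 0 := by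
  have hBL : AlgebraicIndependent (algebraicClosure k K) B := hB.algebraicClosure
  let Q : MvPolynomial ι (algebraicClosure k K) :=
    ∑ i, C (ℓ i) * map (algebraMap k (algebraicClosure k K)) (p i)
  have hQ : aeval B Q = 0 := by
    simp only [Q, map_sum, map_mul, aeval_C, aeval_map_algebraMap]
    rw [← h]
    refine Finset.sum_congr rfl fun i _ => ?_
    rw [mul_comm]; rfl
  have hQ0 : Q = 0 := by
    apply hBL
    rw [hQ, map_zero]
  intro i
  ext μ
  have hc : coeff μ Q = 0 := by rw [hQ0, coeff_zero]
  simp only [Q, coeff_sum, coeff_C_mul, coeff_map] at hc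
  have hc' : ∑ j, (coeff μ (p j)) • ℓ j = 0 := by
    rw [← hc]
    refine Finset.sum_congr rfl fun j _ => ?_
    rw [Algebra.smul_def, mul_comm]
  have := (Fintype.linearIndependent_iff.1 hℓ) (fun j => coeff μ (p j)) hc' i
  rw [this, coeff_zero]

open MvPolynomial in
lemma claim2 {k K : Type u} [Field k] [Field K] [Algebra k K] {ι : Type u} (B : ι → K)
    (hB : AlgebraicIndependent k B) {κ : Type} [Fintype κ] [DecidableEq κ]
    (ℓ : κ → algebraicClosure k K)
    (hℓ : LinearIndependent k ℓ) :
    LinearIndependent (IntermediateField.adjoin k (Set.range B)) (fun i => (ℓ i : K)) := by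
  rw [Fintype.linearIndependent_iff]
  intro g hg
  -- write each coefficient as a fraction with nonvanishing denominator
  have hfrac : ∀ i, ∃ r s : MvPolynomial ι k, aeval B s ≠ 0 ∧
      ((g i : IntermediateField.adjoin k (Set.range B)) : K) = aeval B r / aeval B s := by
    intro i
    obtain ⟨r, s, hrs⟩ := (IntermediateField.mem_adjoin_range_iff k B _).1 (g i).2
    by_cases hs : aeval B s = 0
    · refine ⟨0, 1, by simp, ?_⟩
      rw [hrs, hs, div_zero]; simp
    · exact ⟨r, s, hs, hrs⟩
  choose r s hs hrs using hfrac
  let p : κ → MvPolynomial ι k := fun i => r i * ∏ j ∈ Finset.univ.erase i, s j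
  have hp : ∑ i, aeval B (p i) * (ℓ i : K) = 0 := by
    have h1 : (∏ j, aeval B (s j)) * ∑ i, ((g i : IntermediateField.adjoin k (Set.range B)) : K) * (ℓ i : K) = 0 := by
      have : ∑ i, ((g i : IntermediateField.adjoin k (Set.range B)) : K) * (ℓ i : K) = 0 := by
        rw [← hg]
        refine Finset.sum_congr rfl fun i _ => ?_
        rfl
      rw [this, mul_zero]
    rw [Finset.mul_sum] at h1
    rw [← h1]
    refine Finset.sum_congr rfl fun i _ => ?_
    simp only [p, map_mul, map_prod]
    rw [hrs i, ← Finset.mul_prod_erase Finset.univ (fun j => aeval B (s j)) (Finset.mem_univ i)]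
    have hsi := hs i
    field_simp
  have hp0 := claim1 B hB ℓ hℓ p hp
  intro i
  have hsne : ∀ j, s j ≠ 0 := fun j h0 => hs j (by rw [h0, map_zero])
  have hri : r i = 0 := by
    have := hp0 i
    simp only [p] at this
    rcases mul_eq_zero.1 this with h | h
    · exact h
    · exact absurd h (Finset.prod_ne_zero_iff.2 fun j _ => hsne j)
  apply Subtype.ext
  rw [hrs i, hri, map_zero, zero_div]; rfl


/-- For a finitely generated field extension K/k, the algebraic closure of k inside K is a finite
extension of k. -/
theorem result {k K : Type u} [Field k] [Field K] [Algebra k K]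
    (hfg : (⊤ : IntermediateField k K).FG) :
    FiniteDimensional k (algebraicClosure k K) := by
  classical
  have hess : Algebra.EssFiniteType k K := IntermediateField.fg_top_iff.mp hfg
  obtain ⟨ι, B, hB⟩ := exists_isTranscendenceBasis' k K
  let F := IntermediateField.adjoin k (Set.range B)
  have halg : Algebra.IsAlgebraic F K := hB.isAlgebraic_field
  have hess' : Algebra.EssFiniteType F K := Algebra.EssFiniteType.of_comp k F K
  have hfin : Module.Finite F K := Algebra.finite_of_essFiniteType_of_isAlgebraic
  -- bound the rank
  have hrank : Module.rank k (algebraicClosure k K) ≤ (Module.finrank F K : ℕ) := by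
    apply rank_le
    intro t ht
    -- reindex by Fin
    have e := (Fintype.equivFin t).symm
    have hℓ : LinearIndependent k (fun i : Fin (Fintype.card t) => ((e i : t) : algebraicClosure k K)) :=
      ht.comp _ e.injective
    have h2 := claim2 B hB.1 _ hℓ
    have := h2.fintype_card_le_finrank
    simpa using this
  have hlt : Module.rank k (algebraicClosure k K) < Cardinal.aleph0 :=
    lt_of_le_of_lt hrank (Cardinal.natCast_lt_aleph0)
  exact Module.rank_lt_aleph0_iff.1 hlt

end Groth.Agent.S6333
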