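import Groth.Statements.S6334
import Mathlib

set_option autoImplicit false
universe u
open Fields

namespace Groth.Agent.S6334

open IntermediateField Polynomial

theorem range_snoc' {α : Type*} {n : ℕ} (a : Fin n → α) (y : α) :
    Set.range (Fin.snoc a y : Fin (n + 1) → α) = Set.range a ∪ {y} := by
  ext z
  constructor
  · rintro ⟨i, rfl⟩
    refine Fin.lastCases ?_ (fun j => ?_) i
    · right; simp
    · left; exact ⟨j, by simp⟩
  · rintro (⟨j, rfl⟩ | h)
    · exact ⟨j.castSucc, by simp⟩
    · rw [Set.mem_singleton_iff] at h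
      exact ⟨Fin.last n, by simp [h]⟩

theorem image_snoc_castSucc {α : Type*} {n : ℕ} (a : Fin n → α) (y : α) (j : Fin n) :
    (Fin.snoc a y : Fin (n + 1) → α) '' {k | k < j.castSucc} = a '' {k | k < j} := by
  ext z
  constructor
  · rintro ⟨k, hk, rfl⟩
    have hk' : (k : ℕ) < n := lt_trans (Fin.lt_def.mp hk) j.isLt
    refine ⟨⟨k, hk'⟩, ?_, ?_⟩
    · exact Fin.lt_def.mpr (Fin.lt_def.mp hk)
    · exact (Fin.snoc_castSucc (α := fun _ => α) y a ⟨k, hk'⟩).symm
  · rintro ⟨k, hk, rfl⟩
    exact ⟨k.castSucc, Fin.castSucc_lt_castSucc_iff.mpr hk, by simp⟩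

theorem image_snoc_last {α : Type*} {n : ℕ} (a : Fin n → α) (y : α) :
    (Fin.snoc a y : Fin (n + 1) → α) '' {k | k < Fin.last n} = Set.range a := by
  ext z
  constructor
  · rintro ⟨k, hk, rfl⟩
    have hk' : (k : ℕ) < n := Fin.lt_def.mp hk
    refine ⟨⟨k, hk'⟩, ?_⟩
    exact (Fin.snoc_castSucc (α := fun _ => α) y a ⟨k, hk'⟩).symm
  · rintro ⟨k, rfl⟩
    exact ⟨k.castSucc, Fin.castSucc_lt_last k, by simp⟩


/-- a degree-`p` step. -/
theorem deg_step {K E : Type u} [Field K] [Field E] [Algebra K E] (p : ℕ) [Fact p.Prime] [CharP K p]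
    [IsPurelyInseparable K E] (y : E) (hy : y ∉ (algebraMap K E).range)
    (hyp : y ^ p ∈ (algebraMap K E).range) : Module.finrank K K⟮y⟯ = p := by
  have hp : p.Prime := Fact.out
  have : ExpChar K p := ExpChar.prime hp
  have hint : IsIntegral K y := Algebra.IsIntegral.isIntegral y
  rw [adjoin.finrank hint]
  obtain ⟨t, z, ht⟩ := IsPurelyInseparable.minpoly_eq_X_pow_sub_C K p y
  obtain ⟨w, hw⟩ := hyp
  have hdvd : minpoly K y ∣ X ^ p - C w := by
    apply minpoly.dvd
    simp [hw]
  have hne : (X ^ p - C w : K[X]) ≠ 0 := X_pow_sub_C_ne_zero hp.pos w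
  have hle := natDegree_le_of_dvd hdvd hne
  rw [ht, natDegree_X_pow_sub_C, natDegree_X_pow_sub_C] at hle
  rw [ht, natDegree_X_pow_sub_C]
  have ht1 : t ≤ 1 := by
    by_contra h
    have : p ^ 2 ≤ p ^ t := Nat.pow_le_pow_right hp.pos (by omega)
    have : p < p ^ 2 := by nlinarith [hp.two_le]
    omega
  have ht0 : t ≠ 0 := by
    intro h0
    apply hy
    have := minpoly.aeval K y
    rw [ht, h0] at this
    simp at this
    exact ⟨z, (sub_eq_zero.mp this).symm⟩
  have : t = 1 := by omega
  rw [this, pow_one]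

theorem step {F E : Type u} [Field F] [Field E] [Algebra F E] (p : ℕ)
    [Fact p.Prime] [CharP F p] [FiniteDimensional F E] [IsPurelyInseparable F E]
    (n : ℕ) (a : Fin n → E)
    (hchain : ∀ i : Fin n, a i ^ p ∈ adjoin F (a '' {j | j < i}) ∧ a i ∉ adjoin F (a '' {j | j < i}))
    (hrank : Module.finrank F (adjoin F (Set.range a)) = p ^ n)
    (hne : adjoin F (Set.range a) ≠ ⊤) :
    ∃ a' : Fin (n + 1) → E,
      (∀ i : Fin (n + 1), a' i ^ p ∈ adjoin F (a' '' {j | j < i}) ∧
        a' i ∉ adjoin F (a' '' {j | j < i})) ∧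
      Module.finrank F (adjoin F (Set.range a')) = p ^ (n + 1) := by
  have hp : p.Prime := Fact.out
  obtain ⟨K, hK⟩ : ∃ K, K = adjoin F (Set.range a) := ⟨_, rfl⟩
  rw [← hK] at hrank hne
  have : CharP K p := charP_of_injective_algebraMap (algebraMap F K).injective p
  have : ExpChar K p := ExpChar.prime hp
  -- pick x ∉ K
  obtain ⟨x, -, hx⟩ := SetLike.exists_of_lt (lt_of_le_of_ne le_top hne)
  have hex := IsPurelyInseparable.pow_mem K p x
  classical
  let m := Nat.find hex
  have hm : x ^ p ^ m ∈ (algebraMap K E).range := Nat.find_spec hex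
  have hm0 : m ≠ 0 := by
    intro h0
    rw [h0, pow_zero, pow_one] at hm
    obtain ⟨k, hk⟩ := hm
    exact hx (hk ▸ k.2)
  obtain ⟨m', hm'⟩ : ∃ m', m = m' + 1 := ⟨m - 1, by omega⟩
  have hmin : x ^ p ^ m' ∉ (algebraMap K E).range := Nat.find_min hex (by omega)
  let y := x ^ p ^ m'
  have hyp : y ^ p ∈ (algebraMap K E).range := by
    have : y ^ p = x ^ p ^ m := by
      rw [hm', pow_succ, pow_mul]
    rw [this]; exact hm
  have hyK : y ∉ K := fun h => hmin ⟨⟨y, h⟩, rfl⟩
  have hypK : y ^ p ∈ K := by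
    obtain ⟨k, hk⟩ := hyp
    exact hk ▸ k.2
  have hdeg : Module.finrank K K⟮y⟯ = p := deg_step p y hmin hyp
  refine ⟨Fin.snoc a y, ?_, ?_⟩
  · intro i
    refine Fin.lastCases ?_ (fun j => ?_) i
    · rw [image_snoc_last, Fin.snoc_last, ← hK]
      exact ⟨hypK, hyK⟩
    · rw [image_snoc_castSucc, Fin.snoc_castSucc]
      exact hchain j
  · rw [range_snoc', ← adjoin_adjoin_left, ← hK]
    have h1 : Module.finrank F K * Module.finrank K K⟮y⟯ = Module.finrank F K⟮y⟯ :=
      Module.finrank_mul_finrank F K K⟮y⟯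
    rw [hrank, hdeg] at h1
    rw [pow_succ, h1]
    rfl


theorem main_aux {F E : Type u} [Field F] [Field E] [Algebra F E] (p : ℕ)
    [Fact p.Prime] [CharP F p] [FiniteDimensional F E] [IsPurelyInseparable F E] (k : ℕ) :
    (∃ (n : ℕ) (a : Fin n → E), adjoin F (Set.range a) = ⊤ ∧
      (∀ i : Fin n, a i ^ p ∈ adjoin F (a '' {j | j < i}) ∧ a i ∉ adjoin F (a '' {j | j < i})) ∧
      Module.finrank F E = p ^ n) ∨
    (∃ a : Fin k → E,
      (∀ i : Fin k, a i ^ p ∈ adjoin F (a '' {j | j < i}) ∧ a i ∉ adjoin F (a '' {j | j < i})) ∧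
      Module.finrank F (adjoin F (Set.range a)) = p ^ k) := by
  induction k with
  | zero =>
    right
    refine ⟨Fin.elim0, fun i => i.elim0, ?_⟩
    have : Set.range (Fin.elim0 : Fin 0 → E) = ∅ := Set.range_eq_empty _
    rw [this, adjoin_empty, IntermediateField.finrank_bot, pow_zero]
  | succ k ih =>
    rcases ih with h | ⟨a, hchain, hrank⟩
    · left; exact h
    · by_cases htop : adjoin F (Set.range a) = ⊤
      · left
        refine ⟨k, a, htop, hchain, ?_⟩
        rw [← hrank, htop, IntermediateField.finrank_top']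
      · right
        exact step p k a hchain hrank htop


open IntermediateField in
/-- Let E/F be a finite purely inseparable extension of fields of characteristic p > 0. Then there are
elements a_1, ..., a_n of E generating E over F such that for each i the p-th power of a_i lies in
F(a_1, ..., a_{i-1}) while a_i itself does not (so each step adjoins a p-th root and has degree p);
in particular [E : F] = p ^ n. -/
theorem result {F E : Type u} [Field F] [Field E] [Algebra F E] (p : ℕ)
    [Fact p.Prime] [CharP F p] [FiniteDimensional F E] [IsPurelyInseparable F E] :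
    ∃ (n : ℕ) (a : Fin n → E), adjoin F (Set.range a) = ⊤ ∧
      (∀ i : Fin n, a i ^ p ∈ adjoin F (a '' {j | j < i}) ∧ a i ∉ adjoin F (a '' {j | j < i})) ∧
      Module.finrank F E = p ^ n := by
  have hp : p.Prime := Fact.out
  rcases main_aux (F := F) (E := E) p (Module.finrank F E) with h | ⟨a, -, hrank⟩
  · exact h
  · exfalso
    have hle : Module.finrank F (adjoin F (Set.range a)) ≤ Module.finrank F E :=
      (adjoin F (Set.range a)).toSubalgebra.toSubmodule.finrank_le
    rw [hrank] at hle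
    have : Module.finrank F E < p ^ Module.finrank F E := Nat.lt_pow_self hp.one_lt
    omega

end Groth.Agent.S6334
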