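import Groth.Statements.S6336


set_option autoImplicit false
universe u
open Fields

namespace Groth.Agent.S6336


open IntermediateField Polynomial in
lemma finrank_le_of_pow_mem {K L : Type u} [Field K] [Field L] [Algebra K L]
    [FiniteDimensional K L] (a : L) (ha : K⟮a⟯ = ⊤) (m : ℕ) (hm : 0 < m) :
    Module.finrank K⟮a ^ m⟯ L ≤ m := by
  set F := K⟮a ^ m⟯
  have hint : IsIntegral F a := IsIntegral.of_finite _ _
  have hFa : F⟮a⟯ = ⊤ := adjoin_eq_top_of_adjoin_eq_top (F := K) (E := F) (K := L) (S := {a}) ha
  have h1 : Module.finrank F L = (minpoly F a).natDegree := by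
    rw [← adjoin.finrank hint, hFa, finrank_top']
  rw [h1]
  let c : F := ⟨a ^ m, mem_adjoin_simple_self K (a ^ m)⟩
  have hp : (X ^ m - C c : F[X]).Monic := monic_X_pow_sub_C c hm.ne'
  have hroot : aeval a (X ^ m - C c : F[X]) = 0 := by
    simp [c]
  have := minpoly.degree_le_of_ne_zero F a hp.ne_zero hroot
  have h2 := natDegree_le_natDegree this
  rwa [natDegree_X_pow_sub_C] at h2

open IntermediateField Polynomial in
lemma pow_natDegree_mem {K L : Type u} [Field K] [Field L] [Algebra K L]
    [FiniteDimensional K L] (a : L) (ha0 : a ≠ 0) (e : ℕ) (he : 0 < e) (b : K)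
    (hb : algebraMap K L b = a ^ e)
    (hroots : (X ^ e - 1 : K[X]).Splits) (L' : IntermediateField K L) :
    a ^ (minpoly L' a).natDegree ∈ L' := by
  classical
  have hint : IsIntegral L' a := IsIntegral.of_finite _ _
  set g := minpoly L' a with hg_def
  have hgm : g.Monic := minpoly.monic hint
  set m := g.natDegree with hm_def
  let Ω := AlgebraicClosure L
  let ι : L →+* Ω := algebraMap L Ω
  let φ : L' →+* Ω := ι.comp (algebraMap L' L)
  have hιa : ι a ≠ 0 := by
    simpa [ι] using ha0
  -- g divides X^e - b
  have hdvd : g ∣ (X ^ e - C (algebraMap K L' b) : L'[X]) := by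
    apply minpoly.dvd
    simp only [map_sub, map_pow, aeval_X, aeval_C]
    rw [← IsScalarTower.algebraMap_apply, hb, sub_self]
  have hsplit : (g.map φ).Splits := IsAlgClosed.splits _
  have hmon : (g.map φ).Monic := hgm.map φ
  have hroot : ∀ r ∈ (g.map φ).roots, r ^ e = (ι a) ^ e := by
    intro r hr
    have h1 : (g.map φ).IsRoot r := (mem_roots hmon.ne_zero).mp hr
    have h2 : ((X ^ e - C (algebraMap K L' b) : L'[X]).map φ).IsRoot r :=
      h1.dvd (Polynomial.map_dvd φ hdvd)
    simp only [Polynomial.map_sub, Polynomial.map_pow, map_X, map_C, IsRoot.def, eval_sub,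
      eval_pow, eval_X, eval_C] at h2
    rw [sub_eq_zero] at h2
    rw [h2]
    simp only [φ, RingHom.comp_apply]
    rw [← IsScalarTower.algebraMap_apply K L' L, hb, map_pow]
  have hquot : ∀ r ∈ (g.map φ).roots, r / ι a ∈ (algebraMap K Ω).range := by
    intro r hr
    have h1 : (r / ι a) ^ e = 1 := by
      rw [div_pow, hroot r hr, div_self (pow_ne_zero _ hιa)]
    have hne : (X ^ e - 1 : K[X]) ≠ 0 := (monic_X_pow_sub_C (1 : K) he.ne').ne_zero
    apply hroots.mem_range_of_isRoot (by simpa using hne) (i := algebraMap K Ω)
    simp [h1]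
  have hprod : ((g.map φ).roots.map (fun r => r / ι a)).prod ∈ (algebraMap K Ω).range := by
    apply Subring.multiset_prod_mem
    intro x hx
    obtain ⟨r, hr, rfl⟩ := Multiset.mem_map.mp hx
    exact hquot r hr
  obtain ⟨c, hc⟩ := hprod
  have hcard : Multiset.card (g.map φ).roots = m := by
    rw [← hsplit.natDegree_eq_card_roots, hgm.natDegree_map]
  have hprod2 : (g.map φ).roots.prod = algebraMap K Ω c * (ι a) ^ m := by
    rw [hc, ← hcard, ← Multiset.prod_replicate, ← Multiset.map_const',
      ← Multiset.prod_map_mul]
    congr 1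
    conv_lhs => rw [← Multiset.map_id (g.map φ).roots]
    apply Multiset.map_congr rfl
    intro r _
    simp [div_mul_cancel₀ _ hιa]
  have hcoeff : (g.map φ).coeff 0 = (-1) ^ m * (algebraMap K Ω c * (ι a) ^ m) := by
    rw [hsplit.coeff_zero_eq_prod_roots_of_monic hmon, hprod2, hgm.natDegree_map]
  have hcoeffL : (algebraMap L' L (g.coeff 0)) = (-1) ^ m * (algebraMap K L c * a ^ m) := by
    apply ι.injective
    rw [coeff_map] at hcoeff
    simp only [φ, RingHom.comp_apply] at hcoeff
    rw [hcoeff]
    simp only [map_mul, map_pow, map_neg, map_one, ι]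
    rw [← IsScalarTower.algebraMap_apply]
  have hc0 : c ≠ 0 := by
    intro h0
    rw [h0, map_zero, zero_mul, mul_zero] at hcoeffL
    have : g.coeff 0 = 0 := by
      apply (algebraMap L' L).injective
      rw [hcoeffL, map_zero]
    exact minpoly.coeff_zero_ne_zero hint ha0 this
  have hfinal : a ^ m = (algebraMap K L c)⁻¹ * ((-1) ^ m * algebraMap L' L (g.coeff 0)) := by
    rw [hcoeffL]
    have hcL : algebraMap K L c ≠ 0 := by simpa using hc0
    have h1 : ((-1 : L) ^ m) * (-1) ^ m = 1 := by
      rw [← mul_pow]; simp
    field_simp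
    rw [sq, h1]
  rw [hfinal]
  apply L'.mul_mem (L'.inv_mem (L'.algebraMap_mem c))
  apply L'.mul_mem
  · exact pow_mem (L'.neg_mem L'.one_mem) m
  · exact (g.coeff 0).2

open IntermediateField Polynomial in
theorem main_aux {K L : Type u} [Field K] [Field L] [Algebra K L]
    [FiniteDimensional K L] (a : L) (ha : K⟮a⟯ = ⊤)
    (hpow : a ^ Module.finrank K L ∈ Set.range (algebraMap K L))
    (hroots : (X ^ Module.finrank K L - 1 : K[X]).Splits) (L' : IntermediateField K L) :
    ∃ d : ℕ, d ∣ Module.finrank K L ∧ L' = K⟮a ^ d⟯ := by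
  classical
  set e := Module.finrank K L with he_def
  have he : 0 < e := Module.finrank_pos
  by_cases ha0 : a = 0
  · refine ⟨1, one_dvd _, ?_⟩
    subst ha0
    rw [adjoin_zero] at ha
    have h1 : L' = ⊥ := by
      apply le_antisymm _ bot_le
      rw [ha]; exact le_top
    rw [h1, pow_one, adjoin_zero]
  obtain ⟨b, hb⟩ := hpow
  have hint : IsIntegral L' a := IsIntegral.of_finite _ _
  set g := minpoly L' a with hg_def
  have hgm : g.Monic := minpoly.monic hint
  have hL'a : L'⟮a⟯ = ⊤ := adjoin_eq_top_of_adjoin_eq_top (F := K) (E := L') (K := L) (S := {a}) ha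
  have hdeg : g.natDegree = Module.finrank L' L := by
    rw [hg_def, ← adjoin.finrank hint, hL'a, finrank_top']
  set m := g.natDegree with hm_def
  have hme : m ∣ e := ⟨Module.finrank K L', by
    rw [hdeg, mul_comm, Module.finrank_mul_finrank]⟩
  refine ⟨m, hme, ?_⟩
  -- key: a ^ m ∈ L'
  have hkey : a ^ m ∈ L' := pow_natDegree_mem a ha0 e he b hb hroots L'
  have hle : K⟮a ^ m⟯ ≤ L' := adjoin_simple_le_iff.mpr hkey
  symm
  apply eq_of_le_of_finrank_le' hle
  rw [← hdeg]
  have hm0 : 0 < m := by rw [hdeg]; exact Module.finrank_pos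
  exact finrank_le_of_pow_mem a ha m hm0

open IntermediateField Polynomial in


open IntermediateField Polynomial in
/-- With an added hypothesis: let L/K be a finite extension of degree e generated by a single element a
whose e-th power lies in K, and assume that the polynomial X ^ e - 1 splits into linear factors over
K (so every e-th root of unity of any extension of K already lies in K; this holds when K contains a
primitive e-th root of unity, and when e is a power of the characteristic). Then every intermediate
field of L/K is generated by a ^ d for some divisor d of e. (The published statement has no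
hypothesis on roots of unity; for K the rationals and a a primitive 8-th root of unity, e = 4 and a
^ 4 = -1, the intermediate field generated by a + a⁻¹, a square root of 2, is none of K(a), K(a ^
2), K(a ^ 4); the published proof uses that the e-th roots of unity met are fixed by the
automorphisms it constructs, which the splitting hypothesis guarantees.) -/
theorem result {K L : Type u} [Field K] [Field L] [Algebra K L]
    [FiniteDimensional K L] (a : L) (ha : K⟮a⟯ = ⊤)
    (hpow : a ^ Module.finrank K L ∈ Set.range (algebraMap K L))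
    (hroots : (X ^ Module.finrank K L - 1 : K[X]).Splits) (L' : IntermediateField K L) :
    ∃ d : ℕ, d ∣ Module.finrank K L ∧ L' = K⟮a ^ d⟯ := by
  exact main_aux a ha hpow hroots L'

end Groth.Agent.S6336
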