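import Groth.Statements.S6339
import Groth.Agent.Lib.Helper14ML

set_option autoImplicit false
universe u
open CAlg

namespace Groth.Agent.S6339

/-- Let 0 → M₁ → M₂ → M₃ → 0 be a universally exact short exact sequence of modules over a commutative
ring (the first map is universally injective, the second is surjective with kernel the image of the
first). If M₁ and M₃ are Mittag-Leffler then so is M₂. -/
theorem result (R : Type u) [CommRing R] {M₁ M₂ M₃ : Type u}
    [AddCommGroup M₁] [Module R M₁] [AddCommGroup M₂] [Module R M₂] [AddCommGroup M₃] [Module R M₃]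
    (f : M₁ →ₗ[R] M₂) (g : M₂ →ₗ[R] M₃) (hf : CAlgX.UniversallyInjective R f)
    (hg : Function.Surjective g) (hfg : LinearMap.range f = LinearMap.ker g)
    (h₁ : CAlg.IsMittagLeffler R M₁) (h₃ : CAlg.IsMittagLeffler R M₃) :
    CAlg.IsMittagLeffler R M₂ := by
  open Groth.Agent.Lib.Helper14.ML in
  rw [isMittagLeffler_iff] at h₁ h₃ ⊢
  intro ι Q _ _ z hz
  have hexact : Function.Exact f g := LinearMap.exact_iff.mpr hfg.symm
  -- the image in `M₃ ⊗ ∏ Q` vanishes
  have h3 : g.rTensor (∀ i, Q i) z = 0 := by
    apply h₃ ι Q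
    intro i
    rw [rTensor_lTensor_comm, hz i, map_zero]
  obtain ⟨w, rfl⟩ := (rTensor_exact (∀ i, Q i) hexact hg z).mp h3
  have hw : w = 0 := by
    apply h₁ ι Q
    intro i
    apply hf (Q i)
    rw [map_zero, ← rTensor_lTensor_comm]
    exact hz i
  rw [hw, map_zero]

end Groth.Agent.S6339
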