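import Groth.Statements.S6340
import Groth.Agent.Lib.Helper14ML
import Groth.Agent.Lib.Helper18TensorPi

set_option autoImplicit false
universe u
open CAlg
open scoped TensorProduct

namespace Groth.Agent.S6340

/-- Let M₁ → M₂ → M₃ → 0 be exact with M₁ finitely generated; if M₂ is Mittag-Leffler then so is M₃.
Equivalently, as stated here: the quotient of a Mittag-Leffler module by a finitely generated
submodule is Mittag-Leffler. -/
theorem result (R : Type u) [CommRing R] {M : Type u} [AddCommGroup M] [Module R M]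
    (N : Submodule R M) (hN : N.FG) (hM : CAlg.IsMittagLeffler R M) :
    CAlg.IsMittagLeffler R (M ⧸ N) := by
  open Groth.Agent.Lib.Helper14.ML in
  rw [isMittagLeffler_iff] at hM ⊢
  intro ι Q _ _ z hz
  have : Module.Finite R N := Module.Finite.iff_fg.mpr hN
  obtain ⟨z', rfl⟩ := LinearMap.rTensor_surjective (∀ i, Q i) N.mkQ_surjective z
  have hex : ∀ i, Function.Exact (N.subtype.rTensor (Q i)) (N.mkQ.rTensor (Q i)) := fun i =>
    rTensor_exact (Q i) (LinearMap.exact_subtype_mkQ N) N.mkQ_surjective
  have hw : ∀ i, ∃ w : N ⊗[R] Q i, N.subtype.rTensor (Q i) w =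
      (LinearMap.proj i : (∀ i, Q i) →ₗ[R] Q i).lTensor M z' := by
    intro i
    apply (hex i _).mp
    rw [← rTensor_lTensor_comm]
    exact hz i
  choose w hw using hw
  obtain ⟨W, hW⟩ := Groth.Agent.Lib.Helper18.TensorPi.piRightHom_surjective_of_finite
    (R := R) (M := N) Q w
  have hWi : ∀ i, (LinearMap.proj i : (∀ i, Q i) →ₗ[R] Q i).lTensor N W = w i := by
    intro i
    rw [← piRightHom_apply, hW]
  have hz'' : z' - N.subtype.rTensor (∀ i, Q i) W = 0 := by
    apply hM ι Q
    intro i
    rw [map_sub, rTensor_lTensor_comm, hWi, hw, sub_self]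
  rw [sub_eq_zero] at hz''
  rw [hz'']
  exact (rTensor_exact (∀ i, Q i) (LinearMap.exact_subtype_mkQ N) N.mkQ_surjective).apply_apply_eq_zero W

end Groth.Agent.S6340
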