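import Groth.Statements.S6357
import Groth.Agent.Lib.Helper14ML
import Groth.Agent.Lib.Helper18TensorPi
import Groth.Agent.S6359
import Mathlib.LinearAlgebra.TensorProduct.DirectLimit

set_option autoImplicit false
universe u
open CAlg

namespace Groth.Agent.S6357

open scoped TensorProduct
open Groth.Agent.Lib.Helper14.ML

section
variable {R : Type u} [CommRing R] {ι : Type u} [Preorder ι] [IsDirected ι (· ≤ ·)] [Nonempty ι]
  [DecidableEq ι] {G : ι → Type u} [∀ i, AddCommGroup (G i)] [∀ i, Module R (G i)]
  (f : ∀ i j, i ≤ j → G i →ₗ[R] G j) [DirectedSystem G fun i j h => f i j h]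
  (N : Type u) [AddCommGroup N] [Module R N]

theorem ker_of_rTensor {i : ι} (z : G i ⊗[R] N)
    (hz : (Module.DirectLimit.of R ι G f i).rTensor N z = 0) :
    ∃ k, ∃ hik : i ≤ k, (f i k hik).rTensor N z = 0 := by
  have := TensorProduct.directLimitLeft_rTensor_of f N z
  rw [hz, map_zero] at this
  exact Module.DirectLimit.of.zero_exact this.symm

theorem exists_rTensor_of (z : Module.DirectLimit G f ⊗[R] N) :
    ∃ i, ∃ zi : G i ⊗[R] N, (Module.DirectLimit.of R ι G f i).rTensor N zi = z := by
  obtain ⟨i, zi, h⟩ := Module.DirectLimit.exists_of (TensorProduct.directLimitLeft f N z)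
  refine ⟨i, zi, ?_⟩
  apply (TensorProduct.directLimitLeft f N).injective
  rw [TensorProduct.directLimitLeft_rTensor_of, h]

theorem of_comp_f {i j : ι} (hij : i ≤ j) :
    (Module.DirectLimit.of R ι G f j) ∘ₗ (f i j hij) = Module.DirectLimit.of R ι G f i := by
  ext x
  exact Module.DirectLimit.of_f

end

/-- Given finitely presented R-modules G_i forming a directed system over a nonempty directed index set,
with transition maps f_ij and colimit M, the module M is Mittag-Leffler exactly when every index i
admits some j ≥ i for which f_ij factors through f_ik whenever k ≥ i. -/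
theorem result (R : Type u) [CommRing R] {ι : Type u}
    [Preorder ι] [IsDirected ι (· ≤ ·)] [Nonempty ι] [DecidableEq ι] (G : ι → Type u)
    [∀ i, AddCommGroup (G i)] [∀ i, Module R (G i)] [∀ i, Module.FinitePresentation R (G i)]
    (f : ∀ i j, i ≤ j → G i →ₗ[R] G j) [DirectedSystem G fun i j h => f i j h] :
    CAlg.IsMittagLeffler R (Module.DirectLimit G f) ↔
      ∀ i, ∃ (j : ι) (hij : i ≤ j), ∀ (k : ι) (hik : i ≤ k),
        ∃ h : G k →ₗ[R] G j, f i j hij = h ∘ₗ f i k hik := by
  classical
  constructor
  · intro hM i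
    rw [isMittagLeffler_iff] at hM
    -- a stage dominating `of i`
    have hclaim : ∃ j, ∃ hij : i ≤ j, ∀ (N : Type u) [AddCommGroup N] [Module R N],
        LinearMap.ker ((Module.DirectLimit.of R ι G f i).rTensor N) ≤
          LinearMap.ker ((f i j hij).rTensor N) := by
      by_contra hcon
      have hbad : ∀ j : {j // i ≤ j}, ∃ (N : Type u) (_ : AddCommGroup N) (_ : Module R N)
          (x : G i ⊗[R] N), (Module.DirectLimit.of R ι G f i).rTensor N x = 0 ∧
            (f i j.1 j.2).rTensor N x ≠ 0 := by
        intro j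
        by_contra hj
        apply hcon
        refine ⟨j.1, j.2, ?_⟩
        intro N _ _ x hx
        rw [LinearMap.mem_ker] at hx ⊢
        by_contra hne
        exact hj ⟨N, inferInstance, inferInstance, x, hx, hne⟩
      choose N iA iM x hx1 hx2 using hbad
      obtain ⟨X, hX⟩ := Groth.Agent.Lib.Helper18.TensorPi.piRightHom_surjective_of_finite
        (R := R) (M := G i) N x
      have hXj : ∀ j, (LinearMap.proj j : (∀ j, N j) →ₗ[R] N j).lTensor (G i) X = x j := by
        intro j
        rw [← piRightHom_apply, hX]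
      have hfX : (Module.DirectLimit.of R ι G f i).rTensor (∀ j, N j) X = 0 := by
        apply hM _ N
        intro j
        rw [rTensor_lTensor_comm, hXj, hx1]
      obtain ⟨k, hik, hk⟩ := ker_of_rTensor f (∀ j, N j) X hfX
      apply hx2 ⟨k, hik⟩
      rw [← hXj ⟨k, hik⟩, ← rTensor_lTensor_comm, hk, map_zero]
    obtain ⟨j, hij, hdom⟩ := hclaim
    refine ⟨j, hij, ?_⟩
    intro k hik
    have hfp : Module.FinitePresentation R (G k ⧸ LinearMap.range (f i k hik)) :=
      Module.finitePresentation_of_surjective (LinearMap.range (f i k hik)).mkQ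
        (Submodule.mkQ_surjective _)
        (by rw [Submodule.ker_mkQ, LinearMap.range_eq_map]
            exact (Module.Finite.fg_top).map _)
    have hdom' : ∀ (Q : Type u) [AddCommGroup Q] [Module R Q],
        LinearMap.ker ((f i k hik).rTensor Q) ≤ LinearMap.ker ((f i j hij).rTensor Q) := by
      intro Q _ _ x hx
      apply hdom Q
      rw [LinearMap.mem_ker] at hx ⊢
      rw [← of_comp_f f hik, LinearMap.rTensor_comp, LinearMap.comp_apply, hx, map_zero]
    exact (Groth.Agent.S6359.result R (f i k hik) (f i j hij)).mp hdom'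
  · intro H
    rw [isMittagLeffler_iff]
    intro α Q _ _ z hz
    obtain ⟨i, zi, rfl⟩ := exists_rTensor_of f (∀ a, Q a) z
    obtain ⟨j, hij, hj⟩ := H i
    have hclaim : (f i j hij).rTensor (∀ a, Q a) zi = 0 := by
      apply Groth.Agent.Lib.Helper18.TensorPi.piRightHom_injective_of_finitePresentation
        (R := R) (M := G j) Q
      rw [map_zero, piRightHom_eq_zero_iff]
      intro a
      rw [rTensor_lTensor_comm]
      have h0 : (Module.DirectLimit.of R ι G f i).rTensor (Q a)
          ((LinearMap.proj a : (∀ a, Q a) →ₗ[R] Q a).lTensor (G i) zi) = 0 := by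
        rw [← rTensor_lTensor_comm]
        exact hz a
      obtain ⟨k, hik, hk⟩ := ker_of_rTensor f (Q a) _ h0
      obtain ⟨h, hh⟩ := hj k hik
      rw [hh, LinearMap.rTensor_comp, LinearMap.comp_apply, hk, map_zero]
    rw [← of_comp_f f hij, LinearMap.rTensor_comp, LinearMap.comp_apply, hclaim, map_zero]

end Groth.Agent.S6357
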