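import Groth.Statements.S6341
import Groth.Agent.S6357

set_option autoImplicit false
universe u
open CAlg

namespace Groth.Agent.S6341

/-- The colimit of a directed system of Mittag-Leffler modules with universally injective transition
maps is Mittag-Leffler. -/
theorem result (R : Type u) [CommRing R] {ι : Type u}
    [Preorder ι] [IsDirected ι (· ≤ ·)] [DecidableEq ι] (G : ι → Type u) [∀ i, AddCommGroup (G i)]
    [∀ i, Module R (G i)] (f : ∀ i j, i ≤ j → G i →ₗ[R] G j) [DirectedSystem G fun i j h => f i j h]
    (hf : ∀ i j (h : i ≤ j), CAlgX.UniversallyInjective R (f i j h))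
    (hG : ∀ i, CAlg.IsMittagLeffler R (G i)) :
    CAlg.IsMittagLeffler R (Module.DirectLimit G f) := by
  open Groth.Agent.Lib.Helper14.ML in
  rw [isMittagLeffler_iff]
  intro α Q _ _ z hz
  rcases isEmpty_or_nonempty ι with hι | hι
  · have : Subsingleton (Module.DirectLimit G f) := by
      refine ⟨fun a b => ?_⟩
      induction a using Quotient.inductionOn with
      | h a =>
        induction b using Quotient.inductionOn with
        | h b => exact congrArg _ (Subsingleton.elim a b)
    exact Subsingleton.elim _ _
  · obtain ⟨i, zi, rfl⟩ := Groth.Agent.S6357.exists_rTensor_of f (∀ a, Q a) z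
    have hzi : zi = 0 := by
      apply (isMittagLeffler_iff.mp (hG i)) α Q
      intro a
      have h0 : (Module.DirectLimit.of R ι G f i).rTensor (Q a)
          ((LinearMap.proj a : (∀ a, Q a) →ₗ[R] Q a).lTensor (G i) zi) = 0 := by
        rw [← rTensor_lTensor_comm]
        exact hz a
      obtain ⟨k, hik, hk⟩ := Groth.Agent.S6357.ker_of_rTensor f (Q a) _ h0
      exact hf i k hik (Q a) (hk.trans (map_zero _).symm)
    rw [hzi, map_zero]

end Groth.Agent.S6341
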