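import Groth.Statements.S6342
import Groth.Agent.Lib.Helper14ML2

set_option autoImplicit false
universe u
open CAlg

namespace Groth.Agent.S6342

/-- Let R → S be a ring map such that S is Mittag-Leffler as an R-module, and let M be an S-module which
is flat and Mittag-Leffler over S. Then M is Mittag-Leffler as an R-module. -/
theorem result (R S : Type u) [CommRing R] [CommRing S] [Algebra R S]
    (M : Type u) [AddCommGroup M] [Module S M] [Module R M] [IsScalarTower R S M]
    (hS : CAlg.IsMittagLeffler R S) [Module.Flat S M] (hM : CAlg.IsMittagLeffler S M) :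
    CAlg.IsMittagLeffler R M := by
  apply Groth.Agent.Lib.Helper14.ML.isMittagLeffler_restrictScalars_aux R S M _ hM
  intro ι Q _ _
  apply Module.Flat.lTensor_preserves_injective_linearMap
  intro a b hab
  rw [Groth.Agent.Lib.Helper14.ML.piRightHom_eq, Groth.Agent.Lib.Helper14.ML.piRightHom_eq] at hab
  exact hS ι Q hab
end Groth.Agent.S6342
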