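import Groth.Statements.S6343
import Groth.Agent.Lib.Helper14ML3
import Groth.Agent.S6356
import Mathlib.LinearAlgebra.TensorProduct.Finiteness

set_option autoImplicit false
universe u
open scoped TensorProduct
open CAlg

namespace Groth.Agent.S6343

/-- The tensor product of two Mittag-Leffler modules over a commutative ring is Mittag-Leffler. -/
theorem result (R : Type u) [CommRing R] (M N : Type u) [AddCommGroup M] [Module R M]
    [AddCommGroup N] [Module R N] (hM : CAlg.IsMittagLeffler R M) (hN : CAlg.IsMittagLeffler R N) :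
    CAlg.IsMittagLeffler R (M ⊗[R] N) := by
  classical
  apply Groth.Agent.S6356.isMittagLeffler_of_finiteFree_dominate
  intro n f
  obtain ⟨M', N', hM', hN', hsub⟩ := TensorProduct.exists_finite_submodule_of_setFinite
    (Set.range fun k : Fin n => f (Pi.single k 1)) (Set.finite_range _)
  obtain ⟨a, p₁, hp₁⟩ := Module.Finite.exists_fin' R M'
  obtain ⟨b, p₂, hp₂⟩ := Module.Finite.exists_fin' R N'
  let f₁ : (Fin a → R) →ₗ[R] M := M'.subtype ∘ₗ p₁
  let f₂ : (Fin b → R) →ₗ[R] N := N'.subtype ∘ₗ p₂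
  have hrange : ∀ k : Fin n, ∃ y : (Fin a → R) ⊗[R] (Fin b → R),
      TensorProduct.map f₁ f₂ y = f (Pi.single k 1) := by
    intro k
    obtain ⟨w, hw⟩ := hsub (Set.mem_range_self k)
    obtain ⟨y, rfl⟩ := TensorProduct.map_surjective hp₁ hp₂ w
    refine ⟨y, ?_⟩
    rw [← hw]
    change _ = (TensorProduct.map M'.subtype N'.subtype) ((TensorProduct.map p₁ p₂) y)
    rw [← LinearMap.comp_apply, ← TensorProduct.map_comp]
  choose y hy using hrange
  let h : (Fin n → R) →ₗ[R] (Fin a → R) ⊗[R] (Fin b → R) := Fintype.linearCombination R y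
  have hf : f = TensorProduct.map f₁ f₂ ∘ₗ h := by
    apply LinearMap.pi_ext'
    intro k
    ext
    simp only [LinearMap.coe_comp, LinearMap.coe_single, Function.comp_apply, h,
      Fintype.linearCombination_apply_single, one_smul, hy]
  obtain ⟨Q₁, _, _, _, g₁, hg₁⟩ :=
    Groth.Agent.S6356.exists_dominate_of_isMittagLeffler R M hM (Fin a → R) f₁
  obtain ⟨Q₂, _, _, _, g₂, hg₂⟩ :=
    Groth.Agent.S6356.exists_dominate_of_isMittagLeffler R N hN (Fin b → R) f₂
  have d₁ : Groth.Agent.Lib.Helper14.ML.Dom f₁ g₁ :=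
    (Groth.Agent.Lib.Helper14.ML.dom_iff_ker f₁ g₁).mpr hg₁
  have d₂ : Groth.Agent.Lib.Helper14.ML.Dom f₂ g₂ :=
    (Groth.Agent.Lib.Helper14.ML.dom_iff_ker f₂ g₂).mpr hg₂
  have d := (d₁.map d₂).comp h
  refine ⟨Q₁ ⊗[R] Q₂, inferInstance, inferInstance,
    Groth.Agent.Lib.Helper14.ML.finitePresentation_tensorProduct R Q₁ Q₂,
    TensorProduct.map g₁ g₂ ∘ₗ h, ?_⟩
  rw [hf]
  exact (Groth.Agent.Lib.Helper14.ML.dom_iff_ker _ _).mp d
end Groth.Agent.S6343
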