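import Groth.Statements.S6344
import Groth.Agent.Lib.Helper14ML2
import Groth.Agent.Lib.Helper18TensorPi

set_option autoImplicit false
universe u
open CAlg

namespace Groth.Agent.S6344

/-- Let R → S be a finite and finitely presented ring map and M an S-module. If M is Mittag-Leffler over
S then M is Mittag-Leffler over R. -/
theorem result (R S : Type u) [CommRing R] [CommRing S]
    [Algebra R S] [Module.Finite R S] [Algebra.FinitePresentation R S]
    (M : Type u) [AddCommGroup M] [Module S M] [Module R M] [IsScalarTower R S M]
    (hM : CAlg.IsMittagLeffler S M) : CAlg.IsMittagLeffler R M := by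
  have hfp : Module.FinitePresentation R S := Module.FinitePresentation.of_finite_of_finitePresentation R S
  apply Groth.Agent.Lib.Helper14.ML.isMittagLeffler_restrictScalars_aux R S M _ hM
  intro ι Q _ _
  have hbij : Function.Bijective (TensorProduct.piRightHom R S S Q) := by
    constructor
    · intro a b hab
      rw [Groth.Agent.Lib.Helper14.ML.piRightHom_eq, Groth.Agent.Lib.Helper14.ML.piRightHom_eq] at hab
      exact Groth.Agent.Lib.Helper18.TensorPi.piRightHom_injective_of_finitePresentation (R := R) (M := S) Q hab
    · intro y
      obtain ⟨w, hw⟩ := Groth.Agent.Lib.Helper18.TensorPi.piRightHom_surjective_of_finite (R := R) (M := S) Q y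
      exact ⟨w, by rw [Groth.Agent.Lib.Helper14.ML.piRightHom_eq]; exact hw⟩
  exact ((LinearEquiv.ofBijective _ hbij).lTensor M).injective
end Groth.Agent.S6344
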