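import Groth.Statements.S6345
import Groth.Agent.S6344

set_option autoImplicit false
universe u
open CAlg
open scoped TensorProduct

namespace Groth.Agent.S6345

/-- Let I be a finitely generated ideal of a commutative ring R and M an R/I-module. Then M is
Mittag-Leffler over R if and only if it is Mittag-Leffler over R/I. -/
theorem result (R : Type u) [CommRing R] (I : Ideal R) (hI : I.FG)
    (M : Type u) [AddCommGroup M] [Module (R ⧸ I) M] [Module R M] [IsScalarTower R (R ⧸ I) M] :
    CAlg.IsMittagLeffler R M ↔ CAlg.IsMittagLeffler (R ⧸ I) M := by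
  constructor
  · intro hM
    rw [Groth.Agent.Lib.Helper14.ML.isMittagLeffler_iff] at hM ⊢
    intro ι Q _ _ z hz
    letI : ∀ i, Module R (Q i) := fun i => Module.compHom (Q i) (algebraMap R (R ⧸ I))
    have hst : ∀ i, IsScalarTower R (R ⧸ I) (Q i) := fun i =>
      IsScalarTower.of_algebraMap_smul fun r x => rfl
    have hsurj : Function.Surjective (algebraMap R (R ⧸ I)) := Ideal.Quotient.mk_surjective
    have hc : ∀ (N : Type u) [AddCommGroup N] [Module R N] [Module (R ⧸ I) N]
        [IsScalarTower R (R ⧸ I) N], TensorProduct.CompatibleSMul R (R ⧸ I) M N := fun N _ _ _ _ =>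
      TensorProduct.CompatibleSMul.of_algebraMap_surjective M N hsurj
    have hc1 := hc (∀ i, Q i)
    have hc2 := fun i => hc (Q i)
    let e := TensorProduct.equivOfCompatibleSMul R (R ⧸ I) (R ⧸ I) M (∀ i, Q i)
    apply e.injective
    rw [map_zero]
    apply hM ι Q
    intro i
    have key : ∀ w : M ⊗[R ⧸ I] (∀ i, Q i),
        (LinearMap.proj i : (∀ i, Q i) →ₗ[R] Q i).lTensor M (e w) =
        TensorProduct.equivOfCompatibleSMul R (R ⧸ I) (R ⧸ I) M (Q i)
          ((LinearMap.proj i : (∀ i, Q i) →ₗ[R ⧸ I] Q i).lTensor M w) := by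
      intro w
      induction w using TensorProduct.induction_on with
      | zero => simp
      | tmul x y => rfl
      | add x y hx hy => rw [map_add, map_add, hx, hy, map_add, map_add]
    rw [key, hz i, map_zero]
  · intro hM
    have : Algebra.FinitePresentation R (R ⧸ I) := Algebra.FinitePresentation.quotient hI
    exact Groth.Agent.S6344.result R (R ⧸ I) M hM
end Groth.Agent.S6345
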