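import Groth.Statements.S6346
import Groth.Agent.Lib.Helper14ML4
import Groth.Agent.S6356
import Mathlib.LinearAlgebra.TensorProduct.Vanishing

set_option autoImplicit false
universe u
open scoped TensorProduct
open CAlg

namespace Groth.Agent.S6346

theorem exists_repr {R : Type u} [CommRing R] {N : Type u} [AddCommGroup N] [Module R N] (n : ℕ)
    (y : (Fin n → R) ⊗[R] N) :
    ∃ c : Fin n → N, y = ∑ k, (Pi.single k (1 : R) : Fin n → R) ⊗ₜ[R] c k := by
  classical
  induction y using TensorProduct.induction_on with
  | zero => exact ⟨0, by simp⟩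
  | tmul u m =>
    refine ⟨fun k => u k • m, ?_⟩
    conv_lhs => rw [pi_eq_sum_univ' u]
    rw [TensorProduct.sum_tmul]
    apply Finset.sum_congr rfl
    intro k _
    rw [TensorProduct.smul_tmul]
  | add y₁ y₂ h₁ h₂ =>
    obtain ⟨c₁, rfl⟩ := h₁
    obtain ⟨c₂, rfl⟩ := h₂
    refine ⟨c₁ + c₂, ?_⟩
    rw [← Finset.sum_add_distrib]
    apply Finset.sum_congr rfl
    intro k _
    rw [Pi.add_apply, TensorProduct.tmul_add]

theorem ml_of_smallest (R : Type u) [CommRing R] (M : Type u)
    [AddCommGroup M] [Module R M] [Module.Flat R M]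
    (H : ∀ (n : ℕ) (x : (Fin n → R) ⊗[R] M), ∃ F' : Submodule R (Fin n → R),
        x ∈ LinearMap.range (F'.subtype.rTensor M) ∧
        ∀ F'' : Submodule R (Fin n → R), x ∈ LinearMap.range (F''.subtype.rTensor M) → F' ≤ F'') :
    CAlg.IsMittagLeffler R M := by
  classical
  apply Groth.Agent.S6356.isMittagLeffler_of_finiteFree_dominate
  intro n f
  let e : Fin n → (Fin n → R) := fun k => Pi.single k 1
  let x : (Fin n → R) ⊗[R] M := ∑ k, e k ⊗ₜ[R] f (e k)
  obtain ⟨F', hx, hmin⟩ := H n x
  obtain ⟨m, a, m', ha, hxa⟩ := Groth.Agent.Lib.Helper14.ML.exists_fg_le_mem_range F' x hx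
  let g : (Fin n → R) →ₗ[R] (Fin m → R) := LinearMap.pi fun j => Fintype.linearCombination R (a j)
  let c : (Fin m → R) →ₗ[R] M := Fintype.linearCombination R m'
  have hge : ∀ k j, g (e k) j = a j k := by
    intro k j
    simp only [g, e, LinearMap.pi_apply, Fintype.linearCombination_apply_single, one_smul]
  have hfc : f = c ∘ₗ g := by
    apply LinearMap.pi_ext'
    intro k
    ext
    simp only [LinearMap.coe_comp, LinearMap.coe_single, Function.comp_apply]
    change f (e k) = c (g (e k))
    let evk : (Fin n → R) ⊗[R] M →ₗ[R] M :=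
      (TensorProduct.lid R M).toLinearMap ∘ₗ (LinearMap.proj k : (Fin n → R) →ₗ[R] R).rTensor M
    have h1 : evk x = f (e k) := by
      simp only [x, map_sum, evk, LinearMap.coe_comp, LinearEquiv.coe_coe, Function.comp_apply,
        LinearMap.rTensor_tmul, LinearMap.proj_apply, TensorProduct.lid_tmul, e]
      rw [Finset.sum_eq_single k]
      · simp
      · intro k' _ hk'
        rw [Pi.single_eq_of_ne hk'.symm, zero_smul]
      · intro h; exact absurd (Finset.mem_univ k) h
    have h2 : evk x = c (g (e k)) := by
      rw [hxa]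
      simp only [map_sum, evk, LinearMap.coe_comp, LinearEquiv.coe_coe, Function.comp_apply,
        LinearMap.rTensor_tmul, LinearMap.proj_apply, TensorProduct.lid_tmul, c,
        Fintype.linearCombination_apply, hge]
    rw [← h1, h2]
  refine ⟨Fin m → R, inferInstance, inferInstance, inferInstance, g, ?_⟩
  intro N _ _
  ext y
  simp only [LinearMap.mem_ker]
  constructor
  · intro hy
    obtain ⟨yc, rfl⟩ := exists_repr n y
    have h1 : ∑ k, f (e k) ⊗ₜ[R] yc k = 0 := by
      simpa only [map_sum, LinearMap.rTensor_tmul] using hy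
    have h2 : ∑ k, yc k ⊗ₜ[R] f (e k) = 0 := by
      have := congrArg (TensorProduct.comm R M N) h1
      simpa only [map_sum, TensorProduct.comm_tmul, map_zero] using this
    have hinj : Function.Injective
        (LinearMap.rTensor M (Submodule.span R (Set.range yc)).subtype) :=
      Module.Flat.rTensor_preserves_injective_linearMap _ Subtype.val_injective
    obtain ⟨κ, aa, mm, hmm, hrel⟩ :=
      TensorProduct.vanishesTrivially_of_sum_tmul_eq_zero_of_rTensor_injective R hinj h2
    let b : Fin κ → (Fin n → R) := fun l k => aa k l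
    have hb : ∀ l, b l = ∑ k, aa k l • e k := by
      intro l
      exact pi_eq_sum_univ' (b l)
    have hxb : x = ∑ l, b l ⊗ₜ[R] mm l := by
      simp only [x, hmm, TensorProduct.tmul_sum, hb, TensorProduct.sum_tmul]
      rw [Finset.sum_comm]
      apply Finset.sum_congr rfl
      intro l _
      apply Finset.sum_congr rfl
      intro k _
      rw [TensorProduct.smul_tmul, TensorProduct.tmul_smul]
    have hF' : F' ≤ Submodule.span R (Set.range b) := by
      apply hmin
      rw [hxb]
      exact Groth.Agent.Lib.Helper14.ML.sum_tmul_mem_range _ b mm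
        fun l => Submodule.subset_span (Set.mem_range_self l)
    have hd : ∀ j, ∃ d : Fin κ → R, ∑ l, d l • b l = a j := fun j =>
      (Submodule.mem_span_range_iff_exists_fun R).mp (hF' (ha j))
    choose d hd using hd
    have hajk : ∀ j k, a j k = ∑ l, d j l * aa k l := by
      intro j k
      rw [← hd j]
      simp [Finset.sum_apply, b]
    have hinner : ∀ j, ∑ k, a j k • yc k = 0 := by
      intro j
      simp only [hajk, Finset.sum_smul, mul_smul]
      rw [Finset.sum_comm]
      apply Finset.sum_eq_zero
      intro l _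
      rw [← Finset.smul_sum, hrel l, smul_zero]
    simp only [map_sum, LinearMap.rTensor_tmul]
    have hgek : ∀ k : Fin n, g (Pi.single k (1 : R)) =
        ∑ j, a j k • (Pi.single j (1 : R) : Fin m → R) := by
      intro k
      rw [pi_eq_sum_univ' (g (Pi.single k (1 : R)))]
      apply Finset.sum_congr rfl
      intro j _
      exact congrArg (fun r => r • (Pi.single j (1 : R) : Fin m → R)) (hge k j)
    simp only [hgek, TensorProduct.sum_tmul]
    rw [Finset.sum_comm]
    apply Finset.sum_eq_zero
    intro j _
    simp only [TensorProduct.smul_tmul]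
    rw [← TensorProduct.tmul_sum, hinner j, TensorProduct.tmul_zero]
  · intro hy
    have : f.rTensor N y = c.rTensor N (g.rTensor N y) := by
      conv_lhs => rw [hfc, LinearMap.rTensor_comp, LinearMap.comp_apply]
    rw [this, hy, map_zero]

/-- Let M be a flat module over a commutative ring R. Then M is Mittag-Leffler exactly when, for each
finite free module F = R^n and each element x of F ⊗ M there is a smallest submodule F' of F such
that x lies in the image of F' ⊗ M → F ⊗ M. -/
theorem result (R : Type u) [CommRing R] (M : Type u)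
    [AddCommGroup M] [Module R M] [Module.Flat R M] :
    CAlg.IsMittagLeffler R M ↔
      ∀ (n : ℕ) (x : (Fin n → R) ⊗[R] M), ∃ F' : Submodule R (Fin n → R),
        x ∈ LinearMap.range (F'.subtype.rTensor M) ∧
        ∀ F'' : Submodule R (Fin n → R), x ∈ LinearMap.range (F''.subtype.rTensor M) → F' ≤ F'' := by
  constructor
  · intro hM n x
    obtain ⟨F', _, h1, h2⟩ := Groth.Agent.Lib.Helper14.ML.exists_smallest hM (Fin n → R) x
    exact ⟨F', h1, h2⟩
  · exact ml_of_smallest R M
end Groth.Agent.S6346
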