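import Groth.Statements.S6347
import Groth.Agent.Lib.Helper14ML3
import Groth.Agent.Lib.Helper18TensorPi
import Groth.Agent.S6356

set_option autoImplicit false
universe u
open CAlg
open scoped TensorProduct

namespace Groth.Agent.S6347

theorem ker_eq_of_factor {R : Type u} [CommRing R] {P M Q : Type u} [AddCommGroup P] [Module R P]
    [AddCommGroup M] [Module R M] [AddCommGroup Q] [Module R Q]
    (f : P →ₗ[R] M) (g : P →ₗ[R] Q) (c : Q →ₗ[R] M) (π : M →ₗ[R] Q)
    (hf : f = c ∘ₗ g) (hg : g = π ∘ₗ f) (N : Type u) [AddCommGroup N] [Module R N] :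
    LinearMap.ker (f.rTensor N) = LinearMap.ker (g.rTensor N) := by
  ext x
  simp only [LinearMap.mem_ker]
  constructor
  · intro h
    have : g.rTensor N x = π.rTensor N (f.rTensor N x) := by
      conv_lhs => rw [hg, LinearMap.rTensor_comp, LinearMap.comp_apply]
    rw [this, h, map_zero]
  · intro h
    have : f.rTensor N x = c.rTensor N (g.rTensor N x) := by
      conv_lhs => rw [hf, LinearMap.rTensor_comp, LinearMap.comp_apply]
    rw [this, h, map_zero]

theorem flat_pi_of_noetherian (R : Type u) [CommRing R] [IsNoetherianRing R] (A : Type u) :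
    Module.Flat R (A → R) := by
  rw [Module.Flat.iff_rTensor_injective']
  intro I
  rw [injective_iff_map_eq_zero]
  intro z hz
  have hfp : Module.FinitePresentation R I := Module.finitePresentation_of_finite R I
  have hinj := Groth.Agent.Lib.Helper18.TensorPi.piRightHom_injective_of_finitePresentation
    (R := R) (M := I) (fun _ : A => R)
  apply hinj
  rw [map_zero, Groth.Agent.Lib.Helper14.ML.piRightHom_eq_zero_iff]
  intro α
  have h1 := Groth.Agent.Lib.Helper14.ML.rTensor_lTensor_comm I.subtype
    (LinearMap.proj α : (A → R) →ₗ[R] R) z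
  rw [hz, map_zero] at h1
  exact (Module.Flat.rTensor_preserves_injective_linearMap (M := R) I.subtype
    Subtype.val_injective) (h1.symm.trans (map_zero _).symm)

theorem ml_pi_of_noetherian (R : Type u) [CommRing R] [IsNoetherianRing R] (A : Type u) :
    CAlg.IsMittagLeffler R (A → R) := by
  classical
  apply Groth.Agent.S6356.isMittagLeffler_of_finiteFree_dominate
  intro n f
  -- the functionals
  let v : A → (Fin n → R) := fun α k => f (Pi.single k 1) α
  have hfv : ∀ x α, f x α = ∑ k, x k * v α k := by
    intro x α
    conv_lhs => rw [pi_eq_sum_univ' x]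
    rw [map_sum, Finset.sum_apply]
    apply Finset.sum_congr rfl
    intro k _
    rw [map_smul, Pi.smul_apply, smul_eq_mul]
  have hfg : (Submodule.span R (Set.range v)).FG := IsNoetherian.noetherian _
  obtain ⟨s, hs, hspan⟩ := (Submodule.fg_span_iff_fg_span_finset_subset _).mp hfg
  have hα : ∀ w : s, ∃ α, v α = w.1 := fun w => hs w.2
  choose αw hαw using hα
  let π : (A → R) →ₗ[R] (s → R) := LinearMap.funLeft R R αw
  let g : (Fin n → R) →ₗ[R] (s → R) := π ∘ₗ f
  have hcoef : ∀ α, ∃ c : s → R, ∑ w, c w • (w : Fin n → R) = v α := by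
    intro α
    have hmem : v α ∈ Submodule.span R (Set.range (Subtype.val : s → (Fin n → R))) := by
      rw [Subtype.range_coe_subtype]
      have : v α ∈ Submodule.span R (Set.range v) := Submodule.subset_span (Set.mem_range_self α)
      rw [hspan] at this
      exact this
    exact (Submodule.mem_span_range_iff_exists_fun R).mp hmem
  choose coef hcoefs using hcoef
  let c : (s → R) →ₗ[R] (A → R) := LinearMap.pi fun α => Fintype.linearCombination R (coef α)
  have hfc : f = c ∘ₗ g := by
    apply LinearMap.ext
    intro x
    funext α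
    simp only [LinearMap.coe_comp, Function.comp_apply, c, g, π, LinearMap.pi_apply,
      Fintype.linearCombination_apply, LinearMap.funLeft_apply, smul_eq_mul]
    rw [hfv]
    have h2 : ∀ w : s, f x (αw w) = ∑ k, x k * (w : Fin n → R) k := by
      intro w
      rw [hfv, hαw]
    simp only [h2]
    have h3 : ∀ k, v α k = ∑ w, coef α w * (w : Fin n → R) k := by
      intro k
      rw [← hcoefs α]
      simp [Finset.sum_apply]
    simp only [h3, Finset.mul_sum, Finset.sum_mul]
    rw [Finset.sum_comm]
    apply Finset.sum_congr rfl
    intro w _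
    apply Finset.sum_congr rfl
    intro k _
    ring
  exact ⟨s → R, inferInstance, inferInstance, inferInstance, g,
    fun N _ _ => ker_eq_of_factor f g c π hfc rfl N⟩

/-- Over a Noetherian ring R, the product module R^A (functions from any set A to R) is flat and
Mittag-Leffler. -/
theorem result (R : Type u) [CommRing R] [IsNoetherianRing R]
    (A : Type u) : Module.Flat R (A → R) ∧ CAlg.IsMittagLeffler R (A → R) := by
  exact ⟨flat_pi_of_noetherian R A, ml_pi_of_noetherian R A⟩
end Groth.Agent.S6347
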