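import Groth.Statements.S6350
import Mathlib
import Groth.Agent.Lib.Helper5NilFree

set_option autoImplicit false
universe u
open scoped TensorProduct
open CAlg

namespace Groth.Agent.S6350

/-- Let (R, m) be a local ring with nilpotent maximal ideal and M a flat R-module. A family of elements
of M is a basis of M over R if and only if its image is a basis of the R/m-vector space M/mM = R/m ⊗
M. -/
theorem result (R : Type u) [CommRing R] [IsLocalRing R]
    (hnil : IsNilpotent (IsLocalRing.maximalIdeal R)) (M : Type u) [AddCommGroup M] [Module R M] [Module.Flat R M]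
    {A : Type u} (x : A → M) :
    (LinearIndependent R x ∧ Submodule.span R (Set.range x) = ⊤) ↔
      (LinearIndependent (R ⧸ IsLocalRing.maximalIdeal R)
          (fun a => (1 : R ⧸ IsLocalRing.maximalIdeal R) ⊗ₜ[R] x a) ∧
        Submodule.span (R ⧸ IsLocalRing.maximalIdeal R)
          (Set.range fun a => (1 : R ⧸ IsLocalRing.maximalIdeal R) ⊗ₜ[R] x a) = ⊤) := by
  constructor
  · rintro ⟨hli, hspan⟩
    let b : Module.Basis A R M := Module.Basis.mk hli hspan.ge
    let b' := Algebra.TensorProduct.basis (R ⧸ IsLocalRing.maximalIdeal R) b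
    have hfun : (fun a => (1 : R ⧸ IsLocalRing.maximalIdeal R) ⊗ₜ[R] x a) = ⇑b' := by
      funext a
      rw [Algebra.TensorProduct.basis_apply, Module.Basis.mk_apply]
    rw [hfun]
    exact ⟨b'.linearIndependent, b'.span_eq⟩
  · rintro ⟨hli, hspan⟩
    constructor
    · exact Module.IsLocalRing.linearIndependent_of_flat x hli
    · apply Groth.Agent.Lib.Helper5.eq_top_of_sup_smul_top_eq_top_of_isNilpotent hnil
      rw [eq_top_iff]
      intro y _
      -- `1 ⊗ y` is a combination of the `1 ⊗ x a`
      have hy : (1 : R ⧸ IsLocalRing.maximalIdeal R) ⊗ₜ[R] y ∈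
          Submodule.span (R ⧸ IsLocalRing.maximalIdeal R)
            (Set.range fun a => (1 : R ⧸ IsLocalRing.maximalIdeal R) ⊗ₜ[R] x a) := by
        rw [hspan]
        trivial
      -- the image of `span R (range x)` under `1 ⊗ -` contains the span
      let φ : M →ₗ[R] (R ⧸ IsLocalRing.maximalIdeal R) ⊗[R] M :=
        TensorProduct.mk R (R ⧸ IsLocalRing.maximalIdeal R) M 1
      have hle : (Submodule.span (R ⧸ IsLocalRing.maximalIdeal R)
            (Set.range fun a => (1 : R ⧸ IsLocalRing.maximalIdeal R) ⊗ₜ[R] x a)).restrictScalars R ≤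
          (Submodule.span R (Set.range x)).map φ := by
        intro z hz
        rw [Submodule.restrictScalars_mem] at hz
        refine Submodule.span_induction ?_ ?_ ?_ ?_ hz
        · rintro _ ⟨a, rfl⟩
          exact ⟨x a, Submodule.subset_span ⟨a, rfl⟩, rfl⟩
        · exact Submodule.zero_mem _
        · intro u v _ _ hu hv
          exact Submodule.add_mem _ hu hv
        · intro c u _ hu
          obtain ⟨r, rfl⟩ := Ideal.Quotient.mk_surjective c
          have : (Ideal.Quotient.mk (IsLocalRing.maximalIdeal R) r) • u = r • u := by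
            rw [← Ideal.Quotient.algebraMap_eq, algebraMap_smul]
          rw [this]
          exact Submodule.smul_mem _ _ hu
      obtain ⟨w, hw, hwy⟩ := hle hy
      have hker : y - w ∈ LinearMap.ker φ := by
        rw [LinearMap.mem_ker, map_sub, hwy]
        exact sub_self _
      have hmem : y - w ∈ (IsLocalRing.maximalIdeal R) • (⊤ : Submodule R M) := by
        have h3 := (TensorProduct.quotTensorEquivQuotSMul M (IsLocalRing.maximalIdeal R)).map_eq_zero_iff.mpr hker
        change (TensorProduct.quotTensorEquivQuotSMul M (IsLocalRing.maximalIdeal R))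
          ((1 : R ⧸ IsLocalRing.maximalIdeal R) ⊗ₜ[R] (y - w)) = 0 at h3
        rw [TensorProduct.quotTensorEquivQuotSMul_mk_one_tmul, Submodule.Quotient.mk_eq_zero] at h3
        exact h3
      have : y = w + (y - w) := by abel
      rw [this]
      exact Submodule.add_mem_sup hw hmem

end Groth.Agent.S6350
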