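import Groth.Statements.S6351
import Mathlib

set_option autoImplicit false
universe u
open scoped TensorProduct
open CAlg

namespace Groth.Agent.S6351

/-- Let I be a nilpotent ideal of a commutative ring R and M an R-module with Tor_1^R(R/I, M) = 0, i.e.
I ⊗_R M → M injective. If a family of elements of M maps to a basis of the R/I-module M/IM = R/I ⊗
M, then it is a basis of M over R. -/
theorem result (R : Type u) [CommRing R] (I : Ideal R)
    (hI : IsNilpotent I) (M : Type u) [AddCommGroup M] [Module R M]
    (htor : Function.Injective ((Submodule.subtype I).rTensor M)) {A : Type u} (x : A → M)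
    (hli : LinearIndependent (R ⧸ I) (fun a => (1 : R ⧸ I) ⊗ₜ[R] x a))
    (hsp : Submodule.span (R ⧸ I) (Set.range fun a => (1 : R ⧸ I) ⊗ₜ[R] x a) = ⊤) :
    LinearIndependent R x ∧ Submodule.span R (Set.range x) = ⊤ := by
  classical
  obtain ⟨n, hn⟩ := hI
  -- nilpotent Nakayama
  have nak : ∀ {N : Type u} [AddCommGroup N] [Module R N] (K : Submodule R N), K ≤ I • K → K = ⊥ := by
    intro N _ _ K hK
    have hpow : ∀ m : ℕ, K ≤ I ^ m • K := by
      intro m
      induction m with
      | zero => rw [pow_zero, Ideal.one_eq_top, Submodule.top_smul]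
      | succ m ih =>
        calc K ≤ I • K := hK
          _ ≤ I • (I ^ m • K) := Submodule.smul_mono le_rfl ih
          _ = I ^ (m + 1) • K := by rw [← Submodule.mul_smul, ← pow_succ']
    have := hpow n
    rw [hn, Ideal.zero_eq_bot, Submodule.bot_smul] at this
    exact le_bot_iff.mp this
  -- Step 1: spanning
  have hspan : Submodule.span R (Set.range x) = ⊤ := by
    have h1 : Submodule.span R (Set.range fun a => (1 : R ⧸ I) ⊗ₜ[R] x a) = ⊤ := by
      rw [← Submodule.restrictScalars_span R (R ⧸ I) Ideal.Quotient.mk_surjective, hsp]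
      rfl
    have h2 : Submodule.map (I • (⊤ : Submodule R M)).mkQ (Submodule.span R (Set.range x)) = ⊤ := by
      have h3 := congrArg (Submodule.map (TensorProduct.quotTensorEquivQuotSMul M I).toLinearMap) h1
      rw [Submodule.map_top, LinearEquiv.range, Submodule.map_span] at h3
      rw [Submodule.map_span, ← h3]
      congr 1
      ext y
      simp only [Set.mem_image, Set.mem_range, exists_exists_eq_and]
      constructor
      · rintro ⟨a, rfl⟩
        exact ⟨a, by simp [TensorProduct.quotTensorEquivQuotSMul_mk_one_tmul]⟩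
      · rintro ⟨a, rfl⟩
        exact ⟨a, by simp [TensorProduct.quotTensorEquivQuotSMul_mk_one_tmul]⟩
    rw [Submodule.map_mkQ_eq_top] at h2
    -- quotient argument
    have h4 : (⊤ : Submodule R (M ⧸ Submodule.span R (Set.range x))) ≤
        I • (⊤ : Submodule R (M ⧸ Submodule.span R (Set.range x))) := by
      rw [← Submodule.range_mkQ (Submodule.span R (Set.range x)), LinearMap.range_eq_map,
        ← Submodule.map_smul'', ← LinearMap.range_eq_map, Submodule.range_mkQ]
      intro y _
      obtain ⟨y, rfl⟩ := Submodule.mkQ_surjective _ y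
      have hy : y ∈ I • (⊤ : Submodule R M) ⊔ Submodule.span R (Set.range x) := by
        rw [h2]; trivial
      obtain ⟨u, hu, v, hv, rfl⟩ := Submodule.mem_sup.mp hy
      rw [map_add, show (Submodule.span R (Set.range x)).mkQ v = 0 from
        (Submodule.Quotient.mk_eq_zero _).mpr hv, add_zero]
      exact Submodule.mem_map_of_mem hu
    have h5 := nak _ h4
    rw [← Submodule.Quotient.subsingleton_iff]
    exact (Submodule.subsingleton_iff R).mp (subsingleton_of_bot_eq_top h5.symm)
  refine ⟨?_, hspan⟩
  -- Step 2: independence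
  have hsurj : Function.Surjective (Finsupp.linearCombination R x) := by
    rw [← LinearMap.range_eq_top, Finsupp.range_linearCombination, hspan]
  rw [linearIndependent_iff]
  suffices hK : LinearMap.ker (Finsupp.linearCombination R x) = ⊥ by
    intro l hl
    have : l ∈ LinearMap.ker (Finsupp.linearCombination R x) := hl
    rwa [hK, Submodule.mem_bot] at this
  apply nak
  intro l hl
  rw [LinearMap.mem_ker] at hl
  -- coefficients lie in `I`
  have hlI : ∀ a, l a ∈ I := by
    intro a
    have h1 : Finsupp.linearCombination (R ⧸ I) (fun a => (1 : R ⧸ I) ⊗ₜ[R] x a)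
        (l.mapRange (Ideal.Quotient.mk I) (map_zero _)) = 0 := by
      rw [Finsupp.linearCombination_apply, Finsupp.sum_mapRange_index (by intro a; simp)]
      have h2 : (1 : R ⧸ I) ⊗ₜ[R] (Finsupp.linearCombination R x l) = 0 := by rw [hl, TensorProduct.tmul_zero]
      rw [Finsupp.linearCombination_apply, Finsupp.sum, TensorProduct.tmul_sum] at h2
      rw [Finsupp.sum, ← h2]
      refine Finset.sum_congr rfl (fun a _ => ?_)
      rw [TensorProduct.smul_tmul', smul_eq_mul, mul_one, ← TensorProduct.smul_tmul,
        Algebra.smul_def, mul_one]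
      rfl
    have h3 := (linearIndependent_iff.mp hli) _ h1
    have h4 := DFunLike.congr_fun h3 a
    rw [Finsupp.mapRange_apply, Finsupp.zero_apply] at h4
    exact Ideal.Quotient.eq_zero_iff_mem.mp h4
  let μ : I ⊗[R] (A →₀ R) →ₗ[R] (A →₀ R) :=
    (TensorProduct.lid R (A →₀ R)).toLinearMap ∘ₗ ((Submodule.subtype I).rTensor (A →₀ R))
  have hμ : ∀ (i : I) (f : A →₀ R), μ (i ⊗ₜ[R] f) = (i : R) • f := by
    intro i f
    simp [μ]
  let tt : I ⊗[R] (A →₀ R) :=
    ∑ a ∈ l.support, (⟨l a, hlI a⟩ : I) ⊗ₜ[R] Finsupp.single a (1 : R)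
  have hμtt : μ tt = l := by
    simp only [tt, map_sum, hμ]
    conv_rhs => rw [← Finsupp.sum_single l]
    rw [Finsupp.sum]
    refine Finset.sum_congr rfl (fun a _ => ?_)
    rw [Finsupp.smul_single, smul_eq_mul, mul_one]
  have htt0 : (LinearMap.lTensor I (Finsupp.linearCombination R x)) tt = 0 := by
    apply htor
    rw [map_zero]
    apply (TensorProduct.lid R M).injective
    rw [map_zero]
    simp only [tt, map_sum, LinearMap.lTensor_tmul, LinearMap.rTensor_tmul, Submodule.subtype_apply,
      TensorProduct.lid_tmul, Finsupp.linearCombination_single, one_smul]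
    rw [Finsupp.linearCombination_apply, Finsupp.sum] at hl
    exact hl
  have hex0 : Function.Exact (LinearMap.ker (Finsupp.linearCombination R x)).subtype
      (Finsupp.linearCombination R x) :=
    LinearMap.exact_subtype_ker_map (Finsupp.linearCombination R x)
  have hex : Function.Exact
      (LinearMap.lTensor I (LinearMap.ker (Finsupp.linearCombination R x)).subtype)
      (LinearMap.lTensor I (Finsupp.linearCombination R x)) :=
    lTensor_exact (M := ↥(LinearMap.ker (Finsupp.linearCombination R x))) (N := A →₀ R) (P := M)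
      I hex0 hsurj
  obtain ⟨u, hu⟩ := (hex tt).mp htt0
  rw [← hμtt, ← hu]
  clear hu
  induction u using TensorProduct.induction_on with
  | zero => simp
  | tmul i k =>
    rw [LinearMap.lTensor_tmul, hμ]
    exact Submodule.smul_mem_smul i.2 k.2
  | add u v hu hv =>
    rw [map_add, map_add]
    exact add_mem hu hv

end Groth.Agent.S6351
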