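import Groth.Statements.S6353
import Mathlib

set_option autoImplicit false
universe u
open CAlg

namespace Groth.Agent.S6353

open PrimeSpectrum

theorem locally_nilp {R : Type u} [CommRing R] (J : Ideal R)
    (hZg : StableUnderGeneralization (zeroLocus (J : Set R)))
    (p : PrimeSpectrum R) (hp : p ∈ zeroLocus (J : Set R)) (j : R) (hj : j ∈ J) :
    ∃ n : ℕ, ∃ s : R, s ∉ p.asIdeal ∧ s * j ^ n = 0 := by
  by_contra h
  push_neg at h
  let S : Submonoid R := p.asIdeal.primeCompl ⊔ Submonoid.powers j
  have hdisj : Disjoint (((⊥ : Ideal R) : Set R)) (S : Set R) := by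
    rw [Set.disjoint_left]
    intro x hx hxS
    have hx0 : x = 0 := hx
    obtain ⟨s, hs, w, ⟨n, rfl⟩, hsw⟩ := Submonoid.mem_sup.mp hxS
    exact h n s hs (by rw [← hx0, ← hsw])
  obtain ⟨p', hp', -, hp'S⟩ := Ideal.exists_le_prime_disjoint ⊥ S hdisj
  rw [Set.disjoint_left] at hp'S
  have hle : (⟨p', hp'⟩ : PrimeSpectrum R) ≤ p := by
    intro x hx
    by_contra hxp
    exact hp'S hx ((le_sup_left : _ ≤ S) hxp)
  have hmem : (⟨p', hp'⟩ : PrimeSpectrum R) ∈ zeroLocus (J : Set R) :=
    hZg ((le_iff_specializes _ _).mp hle) hp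
  have hjp' : j ∈ p' := hmem hj
  exact hp'S hjp' ((le_sup_right : _ ≤ S) (Submonoid.mem_powers j))

open PrimeSpectrum in
/-- For a commutative ring R, I ↦ V(I) is a bijection between pure ideals (R/I flat over R) and closed
subsets of Spec R stable under generalization. Stated here as: V(I) is stable under generalization
for I pure, and every closed generalization-stable subset is V(I) for some pure I (injectivity on
pure ideals being the standard fact that pure ideals with the same zero locus coincide). -/
theorem result (R : Type u) [CommRing R] :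
    (∀ I : Ideal R, I.Pure → StableUnderGeneralization (zeroLocus (I : Set R))) ∧
      ∀ Z : Set (PrimeSpectrum R), IsClosed Z → StableUnderGeneralization Z →
        ∃ I : Ideal R, I.Pure ∧ zeroLocus (I : Set R) = Z := by
  constructor
  · intro I hI x y hyx hx
    have hle : y ≤ x := (le_iff_specializes y x).mpr hyx
    rw [mem_zeroLocus] at hx ⊢
    intro a ha
    haveI : I.Pure := hI
    obtain ⟨b, hb, hab⟩ := Ideal.exists_eq_mul_of_pure ha
    have h1 : a * (1 - b) = 0 := by rw [mul_sub, mul_one, ← hab, sub_self]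
    have h2 : (1 - b) ∉ y.asIdeal := by
      intro h
      have h3 : (1 - b) ∈ x.asIdeal := hle h
      have h4 : b ∈ x.asIdeal := hx hb
      apply x.isPrime.ne_top
      rw [Ideal.eq_top_iff_one]
      have := Ideal.add_mem _ h3 h4
      simpa using this
    have h5 : a * (1 - b) ∈ y.asIdeal := by rw [h1]; exact Ideal.zero_mem _
    exact (y.isPrime.mem_or_mem h5).resolve_right h2
  · intro Z hZc hZg
    obtain ⟨J, rfl⟩ := (isClosed_iff_zeroLocus_ideal Z).mp hZc
    let I : Ideal R :=
      { carrier := {a | ∀ p ∈ zeroLocus (J : Set R), ∃ s : R, s ∉ p.asIdeal ∧ s * a = 0}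
        zero_mem' := fun p _ => ⟨1, p.asIdeal.one_notMem, by simp⟩
        add_mem' := by
          intro a b ha hb p hp
          obtain ⟨s, hs, hsa⟩ := ha p hp
          obtain ⟨t, ht, htb⟩ := hb p hp
          refine ⟨s * t, fun h => (p.isPrime.mem_or_mem h).elim hs ht, ?_⟩
          rw [mul_add, mul_right_comm, hsa, mul_assoc, htb]; simp
        smul_mem' := by
          intro c a ha p hp
          obtain ⟨s, hs, hsa⟩ := ha p hp
          refine ⟨s, hs, ?_⟩
          rw [smul_eq_mul, mul_left_comm, hsa, mul_zero] }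
    have hImem : ∀ a, a ∈ I ↔ ∀ p ∈ zeroLocus (J : Set R), ∃ s : R, s ∉ p.asIdeal ∧ s * a = 0 :=
      fun a => Iff.rfl
    -- powers of elements of J land in I
    have hpow : ∀ j ∈ J, ∃ n : ℕ, j ^ n ∈ I := by
      intro j hj
      let U : ℕ → Set (PrimeSpectrum R) := fun n => {p | ∃ s : R, s ∉ p.asIdeal ∧ s * j ^ n = 0}
      have hUo : ∀ n, IsOpen (U n) := by
        intro n
        have : U n = ⋃ s ∈ {s : R | s * j ^ n = 0}, (basicOpen s : Set (PrimeSpectrum R)) := by
          ext p
          simp only [U, Set.mem_iUnion, SetLike.mem_coe, mem_basicOpen, exists_prop]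
          constructor
          · rintro ⟨s, hs, h⟩; exact ⟨s, h, hs⟩
          · rintro ⟨s, h, hs⟩; exact ⟨s, hs, h⟩
        rw [this]
        exact isOpen_biUnion fun s _ => (basicOpen s).isOpen
      have hUm : Monotone U := by
        apply monotone_nat_of_le_succ
        intro n p ⟨s, hs, h⟩
        exact ⟨s, hs, by rw [pow_succ, ← mul_assoc, h, zero_mul]⟩
      have hcov : zeroLocus (J : Set R) ⊆ ⋃ n, U n := by
        intro p hp
        obtain ⟨n, s, hs, h⟩ := locally_nilp J hZg p hp j hj
        exact Set.mem_iUnion.mpr ⟨n, s, hs, h⟩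
      obtain ⟨n, hn⟩ := (isClosed_zeroLocus (J : Set R)).isCompact.elim_directed_cover U hUo hcov
        hUm.directed_le
      exact ⟨n, fun p hp => hn hp⟩
    have hV : zeroLocus (I : Set R) = zeroLocus (J : Set R) := by
      ext q
      constructor
      · intro hq j hj
        obtain ⟨n, hn⟩ := hpow j hj
        exact q.isPrime.mem_of_pow_mem n (hq hn)
      · intro hq a ha
        obtain ⟨s, hs, hsa⟩ := ha q hq
        have : s * a ∈ q.asIdeal := by rw [hsa]; exact Ideal.zero_mem _
        exact (q.isPrime.mem_or_mem this).resolve_left hs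
    have helt : ∀ a ∈ I, ∃ b ∈ I, a = a * b := by
      intro a ha
      have hK : (Ideal.span {a}).annihilator ⊔ I = ⊤ := by
        by_contra hne
        obtain ⟨m, hm, hle⟩ := Ideal.exists_le_maximal _ hne
        by_cases hmZ : (⟨m, hm.isPrime⟩ : PrimeSpectrum R) ∈ zeroLocus (J : Set R)
        · obtain ⟨s, hs, hsa⟩ := ha _ hmZ
          apply hs
          apply hle
          apply Ideal.mem_sup_left
          rw [Submodule.mem_annihilator_span_singleton]
          exact hsa
        · rw [← hV] at hmZ
          apply hmZ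
          intro x hx
          exact hle (Ideal.mem_sup_right hx)
      have h1 : (1 : R) ∈ (Ideal.span {a}).annihilator ⊔ I := by rw [hK]; trivial
      obtain ⟨c, hc, b, hb, hcb⟩ := Submodule.mem_sup.mp h1
      rw [Submodule.mem_annihilator_span_singleton, smul_eq_mul] at hc
      refine ⟨b, hb, ?_⟩
      calc a = a * 1 := (mul_one a).symm
        _ = a * (c + b) := by rw [hcb]
        _ = c * a + a * b := by ring
        _ = a * b := by rw [hc, zero_add]
    refine ⟨I, ?_, hV⟩
    apply Ideal.Pure.of_inf_eq_mul
    intro J' _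
    apply le_antisymm
    · intro x ⟨hxI, hxJ⟩
      obtain ⟨b, hb, hxb⟩ := helt x hxI
      have h : b * x ∈ I * J' := Ideal.mul_mem_mul hb hxJ
      have h' : b * x = x := by rw [mul_comm]; exact hxb.symm
      rwa [h'] at h
    · exact Ideal.mul_le_inf

end Groth.Agent.S6353
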