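import Groth.Statements.S6354
import Mathlib.RingTheory.Ideal.Pure
import Mathlib.RingTheory.Spectrum.Prime.Topology
import Mathlib.Algebra.Module.Projective

set_option autoImplicit false
universe u
open CAlg

namespace Groth.Agent.S6354

open PrimeSpectrum in
/-- For an ideal I of a commutative ring R these four conditions are equivalent: (1) I is finitely
generated and pure; (2) I = (e) for some idempotent e; (3) I is pure with V(I) open in Spec R; (4)
R/I is projective as an R-module. -/
theorem result (R : Type u) [CommRing R] (I : Ideal R) :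
    List.TFAE [I.Pure ∧ I.FG, ∃ e : R, IsIdempotentElem e ∧ I = Ideal.span {e},
      I.Pure ∧ IsOpen (zeroLocus (I : Set R)), Module.Projective R (R ⧸ I)] := by
  have pure_of_idem : ∀ e : R, IsIdempotentElem e → (Ideal.span {e}).Pure := by
    intro e he
    apply Ideal.Pure.of_isIdempotentElem (Submodule.fg_span_singleton e)
    rw [Ideal.isIdempotentElem_iff_of_fg _ (Submodule.fg_span_singleton e)]
    exact ⟨e, he, rfl⟩
  tfae_have 1 → 2 := by
    rintro ⟨hp, hfg⟩
    have : I.Pure := hp
    exact (Ideal.isIdempotentElem_iff_of_fg I hfg).mp I.isIdempotentElem_of_pure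
  tfae_have 2 → 1 := by
    rintro ⟨e, he, rfl⟩
    exact ⟨pure_of_idem e he, Submodule.fg_span_singleton e⟩
  tfae_have 2 → 3 := by
    rintro ⟨e, he, rfl⟩
    refine ⟨pure_of_idem e he, ?_⟩
    rw [zeroLocus_span]
    have : IsClopen (zeroLocus ({e} : Set R)) :=
      isClopen_iff_mul_add_zeroLocus.mpr ⟨e, 1 - e, by rw [mul_sub, mul_one, he.eq, sub_self],
        by ring, rfl⟩
    exact this.2
  tfae_have 3 → 2 := by
    rintro ⟨hp, ho⟩
    have hc : IsClopen (zeroLocus (I : Set R)) := ⟨isClosed_zeroLocus _, ho⟩
    obtain ⟨e, f, hmul, hadd, hs⟩ := isClopen_iff_mul_add_zeroLocus.mp hc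
    have he : IsIdempotentElem e := (IsIdempotentElem.of_mul_add hmul hadd).1
    refine ⟨e, he, ?_⟩
    have h1 : I.Pure := hp
    have h2 : (Ideal.span {e}).Pure := pure_of_idem e he
    apply Ideal.zeroLocus_inj_of_pure.mp
    rw [hs, zeroLocus_span]
  tfae_have 2 → 4 := by
    rintro ⟨e, he, rfl⟩
    -- section R/(e) → R, x ↦ (1 - e) * x
    let s : (R ⧸ Ideal.span {e}) →ₗ[R] R :=
      Submodule.liftQ _ (LinearMap.mulLeft R (1 - e)) (by
        rw [Ideal.span_le]
        rintro x hx
        rw [Set.mem_singleton_iff] at hx
        subst hx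
        simp only [SetLike.mem_coe, LinearMap.mem_ker, LinearMap.mulLeft_apply]
        rw [sub_mul, one_mul, he.eq, sub_self])
    refine Module.Projective.of_split s (Submodule.mkQ _) ?_
    ext
    simp only [LinearMap.coe_comp, Function.comp_apply, Submodule.mkQ_apply, LinearMap.id_comp, s]
    rw [Submodule.liftQ_apply, LinearMap.mulLeft_apply, mul_one]
    rw [eq_comm]
    rw [Submodule.Quotient.eq]
    rw [Ideal.mem_span_singleton]
    exact ⟨1, by ring⟩
  tfae_have 4 → 2 := by
    intro hproj
    obtain ⟨s, hs⟩ := Module.projective_lifting_property (Submodule.mkQ I) LinearMap.id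
      (Submodule.mkQ_surjective I)
    set a : R := s (Submodule.Quotient.mk 1) with ha
    have hmk : ∀ x : R, s (Submodule.Quotient.mk x) = x * a := by
      intro x
      have : (Submodule.Quotient.mk x : R ⧸ I) = x • Submodule.Quotient.mk (1 : R) := by
        rw [← Submodule.Quotient.mk_smul, smul_eq_mul, mul_one]
      rw [this, map_smul, smul_eq_mul]
    have h1a : 1 - a ∈ I := by
      have := LinearMap.congr_fun hs (Submodule.Quotient.mk (1 : R))
      simp only [LinearMap.coe_comp, Function.comp_apply, Submodule.mkQ_apply,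
        LinearMap.id_coe, id_eq] at this
      rw [← ha] at this
      rw [← Submodule.Quotient.eq]
      exact this.symm
    have hI : ∀ x ∈ I, x * a = 0 := by
      intro x hx
      rw [← hmk x, (Submodule.Quotient.mk_eq_zero I).mpr hx, map_zero]
    have hidem : IsIdempotentElem (1 - a) := by
      have := hI _ h1a
      unfold IsIdempotentElem
      linear_combination -this
    refine ⟨1 - a, hidem, le_antisymm ?_ ?_⟩
    · intro x hx
      rw [Ideal.mem_span_singleton]
      exact ⟨x, by linear_combination (hI x hx)⟩
    · rw [Ideal.span_le]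
      rintro x hx
      rw [Set.mem_singleton_iff] at hx
      subst hx
      exact h1a
  tfae_finish

end Groth.Agent.S6354
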