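import Groth.Statements.S6355
import Groth.Agent.Lib.Helper14PureOpen

set_option autoImplicit false
universe u
open CAlg

namespace Groth.Agent.S6355

/-- For a commutative ring R the following are equivalent: (1) every subset of Spec R which is closed
and stable under generalization is open; (2) every finite flat R-module is finite locally free, i.e.
(for finite modules) projective. -/
theorem result (R : Type u) [CommRing R] :
    (∀ Z : Set (PrimeSpectrum R), IsClosed Z → StableUnderGeneralization Z → IsOpen Z) ↔
      ∀ (M : Type u) [AddCommGroup M] [Module R M], Module.Finite R M → Module.Flat R M →
        Module.Projective R M := by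
  constructor
  · intro H M _ _ hfin hflat
    exact Groth.Agent.Lib.Helper14.PureOpen.projective_of_finite_flat H
  · intro H Z hZ hgen
    exact Groth.Agent.Lib.Helper14.PureOpen.isOpen_of_forall_projective H Z hZ hgen

end Groth.Agent.S6355
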