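import Groth.Statements.S6360
import Groth.Agent.Lib.Helper14FpWitness

set_option autoImplicit false
universe u
open CAlg

namespace Groth.Agent.S6360

/-- For maps of R-modules f : M → N and g : M → M', g dominates f (the kernel of f ⊗ id_Q is contained
in that of g ⊗ id_Q for every module Q) if and only if this containment holds for every finitely
presented module Q. -/
theorem result (R : Type u) [CommRing R] {M N M' : Type u}
    [AddCommGroup M] [Module R M] [AddCommGroup N] [Module R N] [AddCommGroup M'] [Module R M']
    (f : M →ₗ[R] N) (g : M →ₗ[R] M') :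
    (∀ (Q : Type u) [AddCommGroup Q] [Module R Q], LinearMap.ker (f.rTensor Q) ≤ LinearMap.ker (g.rTensor Q)) ↔
      ∀ (Q : Type u) [AddCommGroup Q] [Module R Q], Module.FinitePresentation R Q →
        LinearMap.ker (f.rTensor Q) ≤ LinearMap.ker (g.rTensor Q) := by
  constructor
  · intro h Q _ _ _
    exact h Q
  · intro h Q _ _ z hz
    rw [LinearMap.mem_ker] at hz ⊢
    obtain ⟨Q₀, i1, i2, i3, u, z₀, h1, h2⟩ := Groth.Agent.Lib.Helper14.exists_fp_witness' f z hz
    have h3 : g.rTensor Q₀ z₀ = 0 := h Q₀ i3 h2
    rw [← h1, ← LinearMap.comp_apply, LinearMap.rTensor_comp_lTensor,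
      ← LinearMap.lTensor_comp_rTensor, LinearMap.comp_apply, h3, map_zero]

end Groth.Agent.S6360
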