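import Groth.Statements.S6361
import Groth.Agent.Lib.Helper14ML3
import Groth.Agent.S6356
import Groth.Agent.S6359
import Mathlib.Algebra.DirectSum.Module

set_option autoImplicit false
universe u
open CAlg
open scoped TensorProduct

namespace Groth.Agent.S6361

open Groth.Agent.Lib.Helper14.ML

/-- A finitely presented module with a map to `M`. -/
structure Stage (R : Type u) [CommRing R] (M : Type u) [AddCommGroup M] [Module R M] where
  Q : Type u
  [ag : AddCommGroup Q]
  [mod : Module R Q]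
  [fp : Module.FinitePresentation R Q]
  v : Q →ₗ[R] M

attribute [instance] Stage.ag Stage.mod Stage.fp

/-- `u` dominates `β`. -/
def DomBy {R : Type u} [CommRing R] {A B C : Type u} [AddCommGroup A] [Module R A]
    [AddCommGroup B] [Module R B] [AddCommGroup C] [Module R C]
    (u : A →ₗ[R] B) (β : A →ₗ[R] C) : Prop :=
  ∀ (T : Type u) [AddCommGroup T] [Module R T] (z : A ⊗[R] T), u.rTensor T z = 0 → β.rTensor T z = 0

theorem fp_coker {R : Type u} [CommRing R] {A B : Type u} [AddCommGroup A] [Module R A]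
    [AddCommGroup B] [Module R B] [Module.Finite R A] [Module.FinitePresentation R B]
    (g : A →ₗ[R] B) : Module.FinitePresentation R (B ⧸ LinearMap.range g) := by
  apply Module.finitePresentation_of_surjective (LinearMap.range g).mkQ
    (LinearMap.range g).mkQ_surjective
  rw [Submodule.ker_mkQ, LinearMap.range_eq_map]
  exact Module.Finite.fg_top.map g

theorem factor_of_domBy {R : Type u} [CommRing R] {A B C : Type u} [AddCommGroup A] [Module R A]
    [AddCommGroup B] [Module R B] [AddCommGroup C] [Module R C] [Module.Finite R A]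
    [Module.FinitePresentation R B] (u : A →ₗ[R] B) (β : A →ₗ[R] C) (h : DomBy u β) :
    ∃ γ : B →ₗ[R] C, β = γ ∘ₗ u := by
  have := fp_coker u
  apply (Groth.Agent.S6359.result R u β).mp
  intro T _ _ z hz
  rw [LinearMap.mem_ker] at hz ⊢
  exact h T z hz

theorem exists_step (R : Type u) [CommRing R] (M : Type u) [AddCommGroup M] [Module R M]
    (hML : CAlg.IsMittagLeffler R M) (s : Stage R M) (m : M) :
    ∃ (t : Stage R M) (u : s.Q →ₗ[R] t.Q), t.v ∘ₗ u = s.v ∧ Dom s.v u ∧
      m ∈ LinearMap.range t.v := by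
  obtain ⟨Q', _, _, _, g, hg⟩ :=
    Groth.Agent.S6356.exists_dominate_of_isMittagLeffler R M hML s.Q s.v
  obtain ⟨h, hh⟩ := factor_of_domBy g s.v (by
    intro T _ _ z hz
    have : z ∈ LinearMap.ker (s.v.rTensor T) := by
      rw [hg T, LinearMap.mem_ker]; exact hz
    exact this)
  refine ⟨⟨Q' × R, h.coprod (LinearMap.toSpanSingleton R M m)⟩, LinearMap.inl R Q' R ∘ₗ g, ?_, ?_, ?_⟩
  · show (h.coprod (LinearMap.toSpanSingleton R M m)) ∘ₗ (LinearMap.inl R Q' R ∘ₗ g) = s.v
    rw [← LinearMap.comp_assoc, LinearMap.coprod_inl, ← hh]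
  · intro T _ _ z
    show s.v.rTensor T z = 0 ↔ (LinearMap.inl R Q' R ∘ₗ g).rTensor T z = 0
    have hinj : Function.Injective ((LinearMap.inl R Q' R).rTensor T) := by
      apply Function.LeftInverse.injective (g := (LinearMap.fst R Q' R).rTensor T)
      intro w
      rw [← LinearMap.comp_apply, ← LinearMap.rTensor_comp, LinearMap.fst_comp_inl,
        LinearMap.rTensor_id, LinearMap.id_apply]
    rw [LinearMap.rTensor_comp, LinearMap.comp_apply, ← LinearMap.mem_ker, hg T, LinearMap.mem_ker]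
    constructor
    · intro hz; rw [hz, map_zero]
    · intro hz; exact hinj (hz.trans (map_zero _).symm)
  · refine ⟨((0 : Q'), (1 : R)), ?_⟩
    show (h.coprod (LinearMap.toSpanSingleton R M m)) ((0 : Q'), (1 : R)) = m
    simp

theorem main (R : Type u) [CommRing R] (M : Type u) [AddCommGroup M] [Module R M]
    (hML : CAlg.IsMittagLeffler R M) (x : ℕ → M) (hx : Submodule.span R (Set.range x) = ⊤)
    (s₀ : Stage R M) :
    ∃ (Q : Type u) (_ : AddCommGroup Q) (_ : Module R Q) (_ : Module.FinitePresentation R Q)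
      (b : M →ₗ[R] Q) (c : Q →ₗ[R] M), (c ∘ₗ b) ∘ₗ s₀.v = s₀.v := by
  classical
  choose next U hU1 hU2 hU3 using exists_step R M hML
  let stg : ℕ → Stage R M := fun n => Nat.rec (motive := fun _ => Stage R M) s₀ (fun n s => next s (x n)) n
  let u : ∀ n : ℕ, (stg n).Q →ₗ[R] (stg (n + 1)).Q := fun n => U (stg n) (x n)
  have hv : ∀ n : ℕ, (stg (n + 1)).v ∘ₗ u n = (stg n).v := fun n => hU1 _ _
  have hdom : ∀ n : ℕ, Dom (stg n).v (u n) := fun n => hU2 _ _
  have hxr : ∀ n : ℕ, x n ∈ LinearMap.range (stg (n + 1)).v := fun n => hU3 _ _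
  -- the compatible family of maps to `N = Q₁`
  have hstep : ∀ (k : ℕ) (β : (stg k).Q →ₗ[R] (stg 1).Q), DomBy (u k) β →
      ∃ β' : (stg (k + 1)).Q →ₗ[R] (stg 1).Q, DomBy (u (k + 1)) β' ∧ β' ∘ₗ u k = β := by
    intro k β hβ
    have hvv : (stg (k + 2)).v ∘ₗ (u (k + 1) ∘ₗ u k) = (stg k).v := by
      rw [← LinearMap.comp_assoc, hv (k + 1), hv k]
    have hw : DomBy (u (k + 1) ∘ₗ u k) β := by
      intro T _ _ z hz
      apply hβ T z
      apply (hdom k T z).mp
      rw [← hvv, LinearMap.rTensor_comp, LinearMap.comp_apply, hz, map_zero]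
    obtain ⟨γ, hγ⟩ := factor_of_domBy (u (k + 1) ∘ₗ u k) β hw
    refine ⟨γ ∘ₗ u (k + 1), ?_, ?_⟩
    · intro T _ _ z hz
      rw [LinearMap.rTensor_comp, LinearMap.comp_apply, hz, map_zero]
    · rw [hγ, LinearMap.comp_assoc]
  choose nb hnb1 hnb2 using hstep
  let βs : ∀ k : ℕ, {β : (stg k).Q →ₗ[R] (stg 1).Q // DomBy (u k) β} := fun k =>
    Nat.rec (motive := fun k => {β : (stg k).Q →ₗ[R] (stg 1).Q // DomBy (u k) β})
      ⟨u 0, fun T _ _ z hz => hz⟩ (fun k β => ⟨nb k β.1 β.2, hnb1 k β.1 β.2⟩) k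
  have hβ : ∀ k : ℕ, (βs (k + 1)).1 ∘ₗ u k = (βs k).1 := fun k => hnb2 k _ _
  -- the two maps on the direct sum
  let V : DirectSum ℕ (fun k => (stg k).Q) →ₗ[R] M :=
    DirectSum.toModule R ℕ M (fun k => (stg k).v)
  let B : DirectSum ℕ (fun k => (stg k).Q) →ₗ[R] (stg 1).Q :=
    DirectSum.toModule R ℕ (stg 1).Q (fun k => (βs k).1)
  have hVof : ∀ (k : ℕ) (q : (stg k).Q), V (DirectSum.of (fun k => (stg k).Q) k q) = (stg k).v q := by
    intro k q
    rw [← DirectSum.lof_eq_of R]
    exact DirectSum.toModule_lof (M := fun k => (stg k).Q) (φ := fun k => (stg k).v) R k q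
  have hBof : ∀ (k : ℕ) (q : (stg k).Q), B (DirectSum.of (fun k => (stg k).Q) k q) = (βs k).1 q := by
    intro k q
    rw [← DirectSum.lof_eq_of R]
    exact DirectSum.toModule_lof (M := fun k => (stg k).Q) (φ := fun k => (βs k).1) R k q
  have hpush : ∀ (K : ℕ) (q : (stg K).Q) (K' : ℕ), K ≤ K' → ∃ q' : (stg K').Q,
      (stg K').v q' = (stg K).v q ∧ (βs K').1 q' = (βs K).1 q := by
    intro K q K' hKK'
    induction K', hKK' using Nat.le_induction with
    | base => exact ⟨q, rfl, rfl⟩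
    | succ K' _ ih =>
      obtain ⟨q', h1, h2⟩ := ih
      refine ⟨u K' q', ?_, ?_⟩
      · rw [← h1, ← hv K']; rfl
      · rw [← h2, ← hβ K']; rfl
  have hrep : ∀ d : DirectSum ℕ (fun k => (stg k).Q), ∃ K : ℕ, ∃ q : (stg K).Q,
      V d = (stg K).v q ∧ B d = (βs K).1 q := by
    intro d
    refine DirectSum.induction_on d ?_ ?_ ?_
    · exact ⟨0, 0, by simp, by simp⟩
    · intro k q
      exact ⟨k, q, hVof k q, hBof k q⟩
    · rintro d₁ d₂ ⟨K₁, q₁, h₁, h₁'⟩ ⟨K₂, q₂, h₂, h₂'⟩
      obtain ⟨q₁', e₁, e₁'⟩ := hpush K₁ q₁ (max K₁ K₂) (le_max_left _ _)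
      obtain ⟨q₂', e₂, e₂'⟩ := hpush K₂ q₂ (max K₁ K₂) (le_max_right _ _)
      refine ⟨max K₁ K₂, q₁' + q₂', ?_, ?_⟩
      · rw [map_add, map_add, h₁, h₂, e₁, e₂]
      · rw [map_add, map_add, h₁', h₂', e₁', e₂']
  have hker : LinearMap.ker V ≤ LinearMap.ker B := by
    intro d hd
    rw [LinearMap.mem_ker] at hd ⊢
    obtain ⟨K, q, h1, h2⟩ := hrep d
    rw [h2]
    rw [hd] at h1
    have h3 : (u K).rTensor R (q ⊗ₜ[R] (1 : R)) = 0 := by
      apply (hdom K R _).mp
      rw [LinearMap.rTensor_tmul, ← h1, TensorProduct.zero_tmul]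
    rw [LinearMap.rTensor_tmul] at h3
    have h4 : u K q = 0 := by
      have := congrArg (TensorProduct.rid R _) h3
      simpa using this
    rw [← hβ K, LinearMap.comp_apply, h4, map_zero]
  have hVsurj : LinearMap.range V = ⊤ := by
    rw [eq_top_iff, ← hx, Submodule.span_le]
    rintro _ ⟨n, rfl⟩
    obtain ⟨q, hq⟩ := hxr n
    exact ⟨DirectSum.of (fun k => (stg k).Q) (n + 1) q, by rw [hVof, hq]⟩
  let b : M →ₗ[R] (stg 1).Q :=
    (LinearMap.ker V).liftQ B hker ∘ₗ (V.quotKerEquivOfSurjective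
      (LinearMap.range_eq_top.mp hVsurj)).symm.toLinearMap
  have hb : ∀ d, b (V d) = B d := by
    intro d
    simp only [b, LinearMap.coe_comp, LinearEquiv.coe_coe, Function.comp_apply,
      LinearMap.quotKerEquivOfSurjective_symm_apply, Submodule.liftQ_apply]
  refine ⟨(stg 1).Q, inferInstance, inferInstance, inferInstance, b, (stg 1).v, ?_⟩
  apply LinearMap.ext
  intro q
  have h0 : (stg 0).v = s₀.v := rfl
  show (stg 1).v (b (s₀.v q)) = s₀.v q
  rw [← h0, ← hVof 0 q, hb, hBof]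
  show (stg 1).v (u 0 q) = _
  rw [hVof, ← hv 0]
  rfl

/-- Let M be a Mittag-Leffler, countably generated module over a commutative ring R, and f : P → M a
linear map with P finitely generated. Then there is an endomorphism a of M which factors through
some finitely presented module and satisfies a ∘ f = f. -/
theorem result (R : Type u)
    [CommRing R] (M : Type u) [AddCommGroup M] [Module R M] (hML : CAlg.IsMittagLeffler R M)
    (hc : CAlg.IsCountablyGenerated R M) {P : Type u} [AddCommGroup P] [Module R P] [Module.Finite R P]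
    (f : P →ₗ[R] M) :
    ∃ (Q : Type u) (_ : AddCommGroup Q) (_ : Module R Q) (_ : Module.FinitePresentation R Q)
      (b : M →ₗ[R] Q) (c : Q →ₗ[R] M), (c ∘ₗ b) ∘ₗ f = f := by
  classical
  obtain ⟨n, π, hπ⟩ := Module.Finite.exists_fin' R P
  obtain ⟨s, hs, hspan⟩ := hc
  have hs' : (s ∪ {0}).Countable := hs.union (Set.countable_singleton 0)
  obtain ⟨x, hx⟩ := hs'.exists_eq_range ⟨0, Or.inr rfl⟩
  have hxspan : Submodule.span R (Set.range x) = ⊤ := by
    rw [← hx, eq_top_iff, ← hspan]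
    exact Submodule.span_mono Set.subset_union_left
  obtain ⟨Q, i1, i2, i3, b, c, hbc⟩ := main R M hML x hxspan ⟨Fin n → R, f ∘ₗ π⟩
  refine ⟨Q, i1, i2, i3, b, c, ?_⟩
  apply LinearMap.ext
  intro p
  obtain ⟨p', rfl⟩ := hπ p
  exact LinearMap.congr_fun hbc p'
end Groth.Agent.S6361
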