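import Groth.Statements.S6363
import Mathlib

set_option autoImplicit false
universe u
open scoped TensorProduct
open Fields

namespace Groth.Agent.S6363


/-- For a finite field extension L/K and a normal closure M of L/K, some K-algebra homomorphism from the
n-fold tensor power L ⊗_K ⋯ ⊗_K L to M is surjective, where n = [L : K]_s is the separable degree
(so n ≤ [L : K]). -/
theorem result {K L M : Type u} [Field K] [Field L] [Field M]
    [Algebra K L] [Algebra K M] [Algebra L M] [IsScalarTower K L M] [FiniteDimensional K L]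
    [IsNormalClosure K L M] :
    ∃ f : (⨂[K] _ : Fin (Field.finSepDegree K L), L) →ₐ[K] M, Function.Surjective f := by
  classical
  have hNC : IsNormalClosure K L M := inferInstance
  have hsplit := hNC.splits
  have htop : IntermediateField.normalClosure K L M = ⊤ :=
    (Algebra.IsAlgebraic.isNormalClosure_iff.1 hNC).2
  have hnormal : Normal K M := IsNormalClosure.normal (K := L)
  have halgM : Algebra.IsAlgebraic K M := hnormal.toIsAlgebraic
  -- count embeddings
  have hcard : Field.finSepDegree K L = Nat.card (L →ₐ[K] M) :=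
    Field.finSepDegree_eq_of_adjoin_splits K L M (S := Set.univ) (IntermediateField.adjoin_univ K L)
      (fun s _ => ⟨Algebra.IsIntegral.isIntegral s, hsplit s⟩)
  have hfinite : Finite (L →ₐ[K] M) := inferInstance
  let e : (L →ₐ[K] M) ≃ Fin (Field.finSepDegree K L) := Finite.equivFinOfCardEq hcard.symm
  let σ : Fin (Field.finSepDegree K L) → (L →ₐ[K] M) := e.symm
  -- the multilinear map
  let μ : MultilinearMap K (fun _ : Fin (Field.finSepDegree K L) => L) M :=
    (MultilinearMap.mkPiAlgebra K (Fin (Field.finSepDegree K L)) M).compLinearMap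
      (fun i => (σ i).toLinearMap)
  have hμ : ∀ x : Fin (Field.finSepDegree K L) → L, μ x = ∏ i, σ i (x i) := by
    intro x
    simp [μ]
  let f : (⨂[K] _ : Fin (Field.finSepDegree K L), L) →ₐ[K] M :=
    PiTensorProduct.liftAlgHom μ (by rw [hμ]; simp)
      (by intro x y; rw [hμ, hμ, hμ, ← Finset.prod_mul_distrib]; simp)
  refine ⟨f, ?_⟩
  -- range contains all images of embeddings
  have hsingle : ∀ (i : Fin (Field.finSepDegree K L)) (a : L),
      f (PiTensorProduct.singleAlgHom i a) = σ i a := by
    intro i a
    simp only [f, PiTensorProduct.singleAlgHom_apply, PiTensorProduct.liftAlgHom_apply,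
      PiTensorProduct.lift.tprod, hμ]
    rw [Finset.prod_eq_single i]
    · simp
    · intro j _ hj
      simp [hj]
    · intro h; exact absurd (Finset.mem_univ i) h
  rw [← AlgHom.range_eq_top, eq_top_iff]
  intro y _
  have hy : y ∈ IntermediateField.normalClosure K L M := htop ▸ IntermediateField.mem_top
  -- normal closure as algebra adjoin
  have hle : IntermediateField.normalClosure K L M ≤
      IntermediateField.adjoin K (⋃ τ : L →ₐ[K] M, Set.range τ) := by
    rw [normalClosure_le_iff]
    intro τ
    intro z hz
    obtain ⟨a, rfl⟩ := hz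
    exact IntermediateField.subset_adjoin K _ (Set.mem_iUnion.2 ⟨τ, a, rfl⟩)
  have hy2 := hle hy
  have hsub : (IntermediateField.adjoin K (⋃ τ : L →ₐ[K] M, Set.range τ)).toSubalgebra =
      Algebra.adjoin K (⋃ τ : L →ₐ[K] M, Set.range τ) :=
    IntermediateField.adjoin_toSubalgebra _
  have hy3 : y ∈ Algebra.adjoin K (⋃ τ : L →ₐ[K] M, Set.range τ) := by
    rw [← hsub]; exact hy2
  have hadj : Algebra.adjoin K (⋃ τ : L →ₐ[K] M, Set.range τ) ≤ f.range := by
    rw [Algebra.adjoin_le_iff]
    intro z hz
    obtain ⟨τ, a, rfl⟩ := Set.mem_iUnion.1 hz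
    refine ⟨PiTensorProduct.singleAlgHom (e τ) a, ?_⟩
    show f (PiTensorProduct.singleAlgHom (e τ) a) = τ a
    rw [hsingle]
    simp [σ]
  exact hadj hy3

end Groth.Agent.S6363
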