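import Groth.Statements.S6365
import Mathlib

set_option autoImplicit false
universe u
open Fields

namespace Groth.Agent.S6365

/-- Let L/K be a finite extension of fields, V a finite-dimensional L-vector space and φ an L-linear
endomorphism of V. Then the trace over K of φ (regarded as a K-linear map) is the trace from L to K
of the trace over L of φ. (The determinant analogue, det_K φ = Norm_{L/K}(det_L φ), is the standard
companion.) -/
theorem result {K L : Type u} [Field K] [Field L] [Algebra K L]
    [FiniteDimensional K L] (V : Type u) [AddCommGroup V] [Module L V] [Module K V] [IsScalarTower K L V]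
    [FiniteDimensional L V] (φ : V →ₗ[L] V) :
    LinearMap.trace K V (φ.restrictScalars K) = Algebra.trace K L (LinearMap.trace L V φ) := by
  classical
  let b := Module.finBasis K L
  let c := Module.finBasis L V
  have hentry : ∀ (ik jk : Fin (Module.finrank K L) × Fin (Module.finrank L V)),
      LinearMap.toMatrix (b.smulTower c) (b.smulTower c) (φ.restrictScalars K) ik jk =
        Algebra.leftMulMatrix b (LinearMap.toMatrix c c φ ik.2 jk.2) ik.1 jk.1 := by
    rintro ⟨i, k⟩ ⟨j, l⟩
    simp only [Algebra.leftMulMatrix_apply, LinearMap.toMatrix_apply, Module.Basis.smulTower_apply,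
      Module.Basis.smulTower_repr, LinearMap.restrictScalars_apply, map_smul, Finsupp.smul_apply,
      smul_eq_mul, Algebra.coe_lmul_eq_mul, LinearMap.mul_apply', mul_comm]
  have h1 : LinearMap.trace K V (φ.restrictScalars K) =
      ∑ k, ∑ i, Algebra.leftMulMatrix b (LinearMap.toMatrix c c φ k k) i i := by
    rw [LinearMap.trace_eq_matrix_trace K (b.smulTower c) (φ.restrictScalars K), Matrix.trace,
      ← Finset.univ_product_univ, Finset.sum_product, Finset.sum_comm]
    refine Finset.sum_congr rfl fun k _ ↦ Finset.sum_congr rfl fun i _ ↦ ?_
    rw [Matrix.diag_apply, hentry]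
  have h2 : Algebra.trace K L (LinearMap.trace L V φ) =
      ∑ k, ∑ i, Algebra.leftMulMatrix b (LinearMap.toMatrix c c φ k k) i i := by
    rw [LinearMap.trace_eq_matrix_trace L c φ, Matrix.trace, map_sum]
    refine Finset.sum_congr rfl fun k _ ↦ ?_
    rw [Algebra.trace_eq_matrix_trace b, Matrix.trace]
    rfl
  rw [h1, h2]

end Groth.Agent.S6365
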