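import Groth.Statements.S6367
import Mathlib
-- import your own Groth.Agent.* helpers here

set_option autoImplicit false
universe u
open CAlg

namespace Groth.Agent.S6367.Aux

set_option autoImplicit false

namespace CohExt

variable {R : Type u} [CommRing R] {M₁ M₂ M₃ : Type u}
    [AddCommGroup M₁] [Module R M₁] [AddCommGroup M₂] [Module R M₂] [AddCommGroup M₃] [Module R M₃]

theorem main (f : M₁ →ₗ[R] M₂) (g : M₂ →ₗ[R] M₃) (hf : Function.Injective f)
    (hg : Function.Surjective g) (hfg : LinearMap.range f = LinearMap.ker g)
    (h₁ : (Module.Finite R M₁ ∧ ∀ N : Submodule R M₁, N.FG → Module.FinitePresentation R N))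
    (h₃ : (Module.Finite R M₃ ∧ ∀ N : Submodule R M₃, N.FG → Module.FinitePresentation R N)) :
    (Module.Finite R M₂ ∧ ∀ N : Submodule R M₂, N.FG → Module.FinitePresentation R N) := by
  obtain ⟨hfin₁, hcoh₁⟩ := h₁
  obtain ⟨hfin₃, hcoh₃⟩ := h₃
  constructor
  · -- finiteness
    have h1 : Module.Finite R (LinearMap.ker g) := by
      rw [← hfg]
      exact Module.Finite.range f
    have h2 : Module.Finite R (M₂ ⧸ LinearMap.ker g) :=
      Module.Finite.equiv (g.quotKerEquivOfSurjective hg).symm
    exact Module.Finite.of_submodule_quotient (LinearMap.ker g)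
  · intro N hN
    haveI : Module.Finite R N := Module.Finite.iff_fg.mpr hN
    -- the restriction of g to N, onto its image
    let l : N →ₗ[R] LinearMap.range (g.domRestrict N) := (g.domRestrict N).rangeRestrict
    have hl : Function.Surjective l := LinearMap.surjective_rangeRestrict _
    have hfg3 : (LinearMap.range (g.domRestrict N)).FG := by
      rw [LinearMap.range_eq_map]
      exact Module.Finite.fg_top.map _
    haveI : Module.FinitePresentation R (LinearMap.range (g.domRestrict N)) := hcoh₃ _ hfg3
    have hker : (LinearMap.ker l).FG := Module.FinitePresentation.fg_ker l hl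
    -- the kernel is isomorphic to the submodule `N.comap f` of `M₁`
    let φ : (N.comap f) →ₗ[R] LinearMap.ker l :=
      { toFun := fun m => ⟨⟨f m.1, m.2⟩, by
          rw [LinearMap.mem_ker]
          apply Subtype.ext
          show g (f m.1) = 0
          have : f m.1 ∈ LinearMap.ker g := by rw [← hfg]; exact ⟨_, rfl⟩
          exact this⟩
        map_add' := fun a b => by
          apply Subtype.ext; apply Subtype.ext
          simp
        map_smul' := fun c a => by
          apply Subtype.ext; apply Subtype.ext
          simp }
    have hφi : Function.Injective φ := by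
      intro a b hab
      apply Subtype.ext
      apply hf
      exact congrArg (fun z => (z.1 : N).1) hab
    have hφs : Function.Surjective φ := by
      rintro ⟨⟨x, hxN⟩, hx⟩
      rw [LinearMap.mem_ker] at hx
      have hx' : g x = 0 := congrArg Subtype.val hx
      have : x ∈ LinearMap.range f := by rw [hfg]; exact hx'
      obtain ⟨m, rfl⟩ := this
      exact ⟨⟨m, hxN⟩, rfl⟩
    let e : (N.comap f) ≃ₗ[R] LinearMap.ker l := LinearEquiv.ofBijective φ ⟨hφi, hφs⟩
    have hfg1 : (N.comap f).FG := by
      have : Module.Finite R (LinearMap.ker l) := Module.Finite.iff_fg.mpr hker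
      exact Module.Finite.iff_fg.mp (Module.Finite.equiv e.symm)
    haveI : Module.FinitePresentation R (N.comap f) := hcoh₁ _ hfg1
    haveI : Module.FinitePresentation R (LinearMap.ker l) := Module.FinitePresentation.of_equiv e
    exact Module.finitePresentation_of_ker l hl

end CohExt

end Groth.Agent.S6367.Aux

namespace Groth.Agent.S6367

/-- Let 0 → M₁ → M₂ → M₃ → 0 be a short exact sequence of R-modules (f injective, g surjective, image of
f = kernel of g). If M₁ and M₃ are coherent — finitely generated with every finitely generated
submodule finitely presented — then so is M₂. -/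
theorem result (R : Type u) [CommRing R] {M₁ M₂ M₃ : Type u}
    [AddCommGroup M₁] [Module R M₁] [AddCommGroup M₂] [Module R M₂] [AddCommGroup M₃] [Module R M₃]
    (f : M₁ →ₗ[R] M₂) (g : M₂ →ₗ[R] M₃) (hf : Function.Injective f) (hg : Function.Surjective g)
    (hfg : LinearMap.range f = LinearMap.ker g)
    (h₁ : (Module.Finite R M₁ ∧ ∀ N : Submodule R M₁, N.FG → Module.FinitePresentation R N))
    (h₃ : (Module.Finite R M₃ ∧ ∀ N : Submodule R M₃, N.FG → Module.FinitePresentation R N)) :
    (Module.Finite R M₂ ∧ ∀ N : Submodule R M₂, N.FG → Module.FinitePresentation R N) := by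
  exact Aux.CohExt.main f g hf hg hfg h₁ h₃

end Groth.Agent.S6367
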