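import Groth.Statements.S6366
import Mathlib
import Groth.Agent.S6367
import Groth.Agent.Lib.Helper15Coherent
-- import your own Groth.Agent.* helpers here

set_option autoImplicit false
universe u
open CAlg

namespace Groth.Agent.S6366.Aux

set_option autoImplicit false

namespace CohRing
open Groth.Agent.Lib.Helper15

variable {R : Type u} [CommRing R]

/-- coherence predicate -/
abbrev Coh (R : Type u) [CommRing R] (N : Type u) [AddCommGroup N] [Module R N] : Prop :=
  Module.Finite R N ∧ ∀ P : Submodule R N, P.FG → Module.FinitePresentation R P

lemma Coh.of_equiv {N N' : Type u} [AddCommGroup N] [Module R N] [AddCommGroup N'] [Module R N']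
    (e : N ≃ₗ[R] N') (h : Coh R N) : Coh R N' := by
  obtain ⟨h1, h2⟩ := h
  refine ⟨Module.Finite.equiv e, fun P hP => ?_⟩
  have hfg : (P.map e.symm.toLinearMap).FG := hP.map _
  haveI := h2 _ hfg
  exact Module.FinitePresentation.of_equiv (e.symm.submoduleMap P).symm

lemma Coh.prod {N N' : Type u} [AddCommGroup N] [Module R N] [AddCommGroup N'] [Module R N']
    (h : Coh R N) (h' : Coh R N') : Coh R (N × N') :=
  Groth.Agent.S6367.Aux.CohExt.main (LinearMap.inl R N N') (LinearMap.snd R N N')
    LinearMap.inl_injective LinearMap.snd_surjective (LinearMap.range_inl R N N') h h'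

lemma Coh.punit : Coh R PUnit.{u+1} := by
  refine ⟨inferInstance, fun P _ => ?_⟩
  infer_instance

lemma Coh.pi (hR : Coh R R) (n : ℕ) : Coh R (Fin n → R) :=
  Module.pi_induction' (ι := Fin n) R (fun N _ _ => Coh R N) (fun N _ _ => Coh R N)
    (fun e h => h.of_equiv e) (fun e h => h.of_equiv e) Coh.punit
    (fun h h' => h.prod h') (fun _ => R) (fun _ => hR)

theorem main (hR : ∀ I : Ideal R, I.FG → Module.FinitePresentation R I) (M : Type u)
    [AddCommGroup M] [Module R M] :
    (Module.Finite R M ∧ ∀ N : Submodule R M, N.FG → Module.FinitePresentation R N) ↔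
      Module.FinitePresentation R M := by
  constructor
  · rintro ⟨h1, h2⟩
    haveI := h2 ⊤ h1.fg_top
    exact Module.FinitePresentation.of_equiv (Submodule.topEquiv (R := R) (M := M))
  · intro hfp
    obtain ⟨n, K, e, hK⟩ := Module.FinitePresentation.exists_fin R M
    have hRR : Coh R R := ⟨inferInstance, fun I hI => hR I hI⟩
    have hpi : IsCohMod R (Fin n → R) := Coh.pi hRR n
    have hq : IsCohMod R ((Fin n → R) ⧸ K) := hpi.quotient K hK
    exact Coh.of_equiv e.symm hq

end CohRing

end Groth.Agent.S6366.Aux

namespace Groth.Agent.S6366

/-- Let R be a coherent ring, i.e. every finitely generated ideal of R is finitely presented. Then an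
R-module is coherent (finitely generated, and every finitely generated submodule is finitely
presented) if and only if it is finitely presented. -/
theorem result (R : Type u) [CommRing R]
    (hR : ∀ I : Ideal R, I.FG → Module.FinitePresentation R I) (M : Type u) [AddCommGroup M] [Module R M] :
    (Module.Finite R M ∧ ∀ N : Submodule R M, N.FG → Module.FinitePresentation R N) ↔ Module.FinitePresentation R M := by
  exact Aux.CohRing.main hR M

end Groth.Agent.S6366
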