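import Groth.Statements.S6368
import Groth.Agent.Lib.Helper14BaseChange
import Mathlib.RingTheory.Flat.FaithfullyFlat.Basic
import Mathlib.LinearAlgebra.TensorProduct.Finiteness

set_option autoImplicit false
universe u
open scoped TensorProduct
open CAlg

namespace Groth.Agent.S6368

/-- Let R → S be faithfully flat and M an R-module. If the S-module S ⊗_R M is countably generated then
M is countably generated. -/
theorem result (R S : Type u) [CommRing R] [CommRing S] [Algebra R S]
    [Module.FaithfullyFlat R S] (M : Type u) [AddCommGroup M] [Module R M]
    (h : CAlg.IsCountablyGenerated S (S ⊗[R] M)) : CAlg.IsCountablyGenerated R M := by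
  classical
  obtain ⟨s, hs, hspan⟩ := h
  choose k a m hrep using fun t : S ⊗[R] M => TensorProduct.exists_sum_tmul_eq t
  let G : Set M := ⋃ t ∈ s, Set.range (m t)
  have hG : G.Countable := hs.biUnion fun t _ => Set.countable_range _
  refine ⟨G, hG, ?_⟩
  have htop : (Submodule.span R G).baseChange S = ⊤ := by
    rw [eq_top_iff, ← hspan, Submodule.span_le]
    intro t ht
    rw [hrep t]
    apply Submodule.sum_mem
    intro j _
    apply Submodule.tmul_mem_baseChange_of_mem
    apply Submodule.subset_span
    exact Set.mem_biUnion ht (Set.mem_range_self j)
  have hsurj : Function.Surjective ((Submodule.span R G).subtype.lTensor S) := by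
    rw [← LinearMap.range_eq_top]
    have : LinearMap.range ((Submodule.span R G).subtype.baseChange S) = ⊤ := htop
    apply_fun (Submodule.restrictScalars R) at this
    exact this
  rw [Module.FaithfullyFlat.lTensor_surjective_iff_surjective] at hsurj
  rw [← Submodule.range_subtype (Submodule.span R G)]
  exact LinearMap.range_eq_top.mpr hsurj
end Groth.Agent.S6368
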