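import Groth.Statements.S6369
import Mathlib
-- import your own Groth.Agent.* helpers here

set_option autoImplicit false
universe u
open CAlg

namespace Groth.Agent.S6369.Aux

set_option autoImplicit false

namespace DF
open scoped nonZeroDivisors

section canc
variable {D : Type*} [CommRing D] [IsDomain D]

/-- factor of a nonzero principal ideal -/
def Canc (I : Ideal D) : Prop := ∃ (J : Ideal D) (d : D), d ≠ 0 ∧ I * J = Ideal.span {d}

lemma Canc.cancel {I A B : Ideal D} (hI : Canc I) (h : I * A = I * B) : A = B := by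
  obtain ⟨J, d, hd, hIJ⟩ := hI
  have : Ideal.span {d} * A = Ideal.span {d} * B := by
    rw [← hIJ, mul_comm I J, mul_assoc, mul_assoc, h]
  exact (Ideal.span_singleton_mul_right_inj hd).mp this

lemma Canc.of_mul {I J : Ideal D} (h : Canc (I * J)) : Canc I := by
  obtain ⟨J', d, hd, h'⟩ := h
  exact ⟨J * J', d, hd, by rw [← mul_assoc, h']⟩

lemma Canc.span {d : D} (hd : d ≠ 0) : Canc (Ideal.span {d}) := ⟨⊤, d, hd, by simp⟩

lemma Canc.mul {I J : Ideal D} (hI : Canc I) (hJ : Canc J) : Canc (I * J) := by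
  obtain ⟨I', d, hd, h1⟩ := hI
  obtain ⟨J', e, he, h2⟩ := hJ
  refine ⟨I' * J', d * e, mul_ne_zero hd he, ?_⟩
  rw [mul_mul_mul_comm, h1, h2, Ideal.span_singleton_mul_span_singleton]

lemma Canc.of_mem {s : Multiset (Ideal D)} {d : D} (hd : d ≠ 0) (hs : s.prod = Ideal.span {d})
    {q : Ideal D} (hq : q ∈ s) : Canc q := by
  obtain ⟨t, rfl⟩ := Multiset.exists_cons_of_mem hq
  rw [Multiset.prod_cons] at hs
  exact Canc.of_mul (hs ▸ Canc.span hd)

lemma Canc.prod {s : Multiset (Ideal D)} (hs : ∀ q ∈ s, Canc q) : Canc s.prod := by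
  induction s using Multiset.induction_on with
  | empty => exact ⟨⊤, 1, one_ne_zero, by simp⟩
  | cons a s ih =>
    rw [Multiset.prod_cons]
    exact Canc.mul (hs a (Multiset.mem_cons_self a s))
      (ih fun q hq => hs q (Multiset.mem_cons_of_mem hq))

lemma prod_le_of_mem {s : Multiset (Ideal D)} {q : Ideal D} (hq : q ∈ s) : s.prod ≤ q :=
  Ideal.multiset_prod_le_inf.trans (Multiset.inf_le hq)

theorem uniq : ∀ (n : ℕ) (s t : Multiset (Ideal D)), s.card = n →
    (∀ p ∈ s, p.IsPrime ∧ Canc p) → (∀ p ∈ t, p.IsPrime ∧ Canc p) → s.prod = t.prod → s = t := by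
  classical
  intro n
  induction n with
  | zero =>
    intro s t hs _ ht hst
    rw [Multiset.card_eq_zero] at hs
    subst hs
    by_contra hne
    obtain ⟨q, hq⟩ := Multiset.exists_mem_of_ne_zero (Ne.symm hne)
    have := prod_le_of_mem hq
    rw [← hst, Multiset.prod_zero, Ideal.one_eq_top, top_le_iff] at this
    exact (ht q hq).1.ne_top this
  | succ n ih =>
    intro s t hs hsP htP hst
    have hne : (s + t).toFinset.Nonempty := by
      have : s ≠ 0 := by intro h; rw [h] at hs; simp at hs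
      obtain ⟨q, hq⟩ := Multiset.exists_mem_of_ne_zero this
      exact ⟨q, by simp [hq]⟩
    obtain ⟨p, hpF, hpmin⟩ := Finset.exists_minimal hne
    have hpmin' : ∀ x, x ∈ s ∨ x ∈ t → x ≤ p → x = p := by
      intro x hx hxp
      exact le_antisymm hxp (hpmin (by simpa using hx) hxp)
    have hboth : p ∈ s ∧ p ∈ t := by
      rw [Multiset.mem_toFinset, Multiset.mem_add] at hpF
      rcases hpF with hps | hpt
      · refine ⟨hps, ?_⟩
        have h1 : t.prod ≤ p := hst ▸ prod_le_of_mem hps
        obtain ⟨q, hqt, hqp⟩ := (hsP p hps).1.multiset_prod_le.mp h1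
        rw [← hpmin' q (Or.inr hqt) hqp]; exact hqt
      · refine ⟨?_, hpt⟩
        have h1 : s.prod ≤ p := hst ▸ prod_le_of_mem hpt
        obtain ⟨q, hqs, hqp⟩ := (htP p hpt).1.multiset_prod_le.mp h1
        rw [← hpmin' q (Or.inl hqs) hqp]; exact hqs
    obtain ⟨hps, hpt⟩ := hboth
    have es := Multiset.cons_erase hps
    have et := Multiset.cons_erase hpt
    have hprod : p * (s.erase p).prod = p * (t.erase p).prod := by
      rw [← Multiset.prod_cons, ← Multiset.prod_cons, es, et, hst]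
    have hc := (hsP p hps).2.cancel hprod
    have hcard : (s.erase p).card = n := by
      rw [Multiset.card_erase_of_mem hps, hs]; rfl
    have := ih (s.erase p) (t.erase p) hcard
      (fun q hq => hsP q (Multiset.mem_of_mem_erase hq))
      (fun q hq => htP q (Multiset.mem_of_mem_erase hq)) hc
    rw [← es, ← et, this]

end canc

section main
variable {R : Type u} [CommRing R] [IsDomain R]

/-- Step 1: a cancellable prime is maximal. -/
theorem isMaximal_of_canc
    (h : ∀ I : Ideal R, I ≠ ⊥ → ∃ s : Multiset (Ideal R), (∀ p ∈ s, p.IsPrime ∧ p ≠ ⊥) ∧ s.prod = I)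
    (P : Ideal R) [hP : P.IsPrime] (hPc : Canc P) : P.IsMaximal := by
  classical
  rw [Ideal.isMaximal_iff]
  refine ⟨fun h1 => hP.ne_top ((Ideal.eq_top_iff_one _).mpr h1), ?_⟩
  intro J a hPJ haP haJ
  -- it suffices to show P + (a) = ⊤
  suffices hI1 : P ⊔ Ideal.span {a} = ⊤ by
    have : P ⊔ Ideal.span {a} ≤ J := sup_le hPJ ((Ideal.span_singleton_le_iff_mem _).mpr haJ)
    rw [hI1, top_le_iff] at this
    exact (Ideal.eq_top_iff_one _).mp this
  set I1 := P ⊔ Ideal.span {a} with hI1def
  set I2 := P ⊔ Ideal.span {a ^ 2} with hI2def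
  have hP0 : P ≠ ⊥ := by
    rintro rfl
    obtain ⟨J', d, hd, h'⟩ := hPc
    rw [Ideal.bot_mul] at h'
    exact hd (Ideal.span_singleton_eq_bot.mp h'.symm)
  have hI1ne : I1 ≠ ⊥ := fun h' => hP0 (le_bot_iff.mp (h' ▸ le_sup_left))
  have hI2ne : I2 ≠ ⊥ := fun h' => hP0 (le_bot_iff.mp (h' ▸ le_sup_left))
  obtain ⟨s1, hs1, hs1p⟩ := h I1 hI1ne
  obtain ⟨s2, hs2, hs2p⟩ := h I2 hI2ne
  let π := Ideal.Quotient.mk P
  have hπ : Function.Surjective π := Ideal.Quotient.mk_surjective
  have hker : RingHom.ker π = P := Ideal.mk_ker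
  have ha0 : π a ≠ 0 := fun h' => haP (Ideal.Quotient.eq_zero_iff_mem.mp h')
  have hle1 : ∀ q ∈ s1, P ≤ q := fun q hq =>
    (le_sup_left : P ≤ I1).trans (hs1p.symm.le.trans (prod_le_of_mem hq))
  have hle2 : ∀ q ∈ s2, P ≤ q := fun q hq =>
    (le_sup_left : P ≤ I2).trans (hs2p.symm.le.trans (prod_le_of_mem hq))
  have hmap1 : (s1.map (Ideal.map π)).prod = Ideal.span {π a} := by
    have := map_multiset_prod (Ideal.mapHom π) s1
    rw [hs1p] at this
    rw [show (s1.map (Ideal.map π)) = s1.map (Ideal.mapHom π) from rfl, ← this]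
    show Ideal.map π (P ⊔ Ideal.span {a}) = _
    rw [Ideal.map_sup, Ideal.map_quotient_self, bot_sup_eq, Ideal.map_span, Set.image_singleton]
  have hmap2 : (s2.map (Ideal.map π)).prod = Ideal.span {π a ^ 2} := by
    have := map_multiset_prod (Ideal.mapHom π) s2
    rw [hs2p] at this
    rw [show (s2.map (Ideal.map π)) = s2.map (Ideal.mapHom π) from rfl, ← this]
    show Ideal.map π (P ⊔ Ideal.span {a ^ 2}) = _
    rw [Ideal.map_sup, Ideal.map_quotient_self, bot_sup_eq, Ideal.map_span, Set.image_singleton,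
      map_pow]
  have hprime : ∀ (s : Multiset (Ideal R)), (∀ q ∈ s, q.IsPrime ∧ q ≠ ⊥) → (∀ q ∈ s, P ≤ q) →
      ∀ q' ∈ s.map (Ideal.map π), q'.IsPrime := by
    intro s hs hle q' hq'
    obtain ⟨q, hq, rfl⟩ := Multiset.mem_map.mp hq'
    haveI := (hs q hq).1
    exact Ideal.map_isPrime_of_surjective hπ (hker.le.trans (hle q hq))
  have key := uniq (s1.map (Ideal.map π) + s1.map (Ideal.map π)).card
    (s1.map (Ideal.map π) + s1.map (Ideal.map π)) (s2.map (Ideal.map π)) rfl
    (by
      intro q' hq'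
      have hq'' : q' ∈ s1.map (Ideal.map π) := by
        rcases Multiset.mem_add.mp hq' with h' | h' <;> exact h'
      exact ⟨hprime s1 hs1 hle1 q' hq'', Canc.of_mem ha0 hmap1 hq''⟩)
    (fun q' hq' => ⟨hprime s2 hs2 hle2 q' hq', Canc.of_mem (pow_ne_zero 2 ha0) hmap2 hq'⟩)
    (by rw [Multiset.prod_add, hmap1, hmap2, Ideal.span_singleton_mul_span_singleton, sq])
  have hcomap : ∀ (s : Multiset (Ideal R)), (∀ q ∈ s, P ≤ q) →
      (s.map (Ideal.map π)).map (Ideal.comap π) = s := by
    intro s hle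
    rw [Multiset.map_map]
    conv_rhs => rw [← Multiset.map_id s]
    apply Multiset.map_congr rfl
    intro q hq
    simp only [Function.comp_apply, id]
    rw [Ideal.comap_map_of_surjective π hπ, ← RingHom.ker_eq_comap_bot, hker]
    exact sup_eq_left.mpr (hle q hq)
  have hs12 : s1 + s1 = s2 := by
    have := congrArg (Multiset.map (Ideal.comap π)) key
    rwa [Multiset.map_add, hcomap s1 hle1, hcomap s2 hle2] at this
  have hI12 : I2 = I1 * I1 := by
    rw [← hs1p, ← hs2p, ← hs12, Multiset.prod_add]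
  -- P ≤ P * I1
  have hPle : P ≤ P * I1 := by
    intro x hx
    have hx2 : x ∈ I1 * I1 := hI12 ▸ (le_sup_left : P ≤ I2) hx
    have hsub : I1 * I1 ≤ P * P ⊔ Ideal.span {a} := by
      rw [hI1def, Ideal.sup_mul, Ideal.mul_sup, Ideal.mul_sup]
      refine sup_le (sup_le le_sup_left (le_sup_of_le_right Ideal.mul_le_right)) ?_
      exact sup_le (le_sup_of_le_right Ideal.mul_le_left) (le_sup_of_le_right Ideal.mul_le_left)
    obtain ⟨y, hy, z, hz, rfl⟩ := Submodule.mem_sup.mp (hsub hx2)
    obtain ⟨c, rfl⟩ := Ideal.mem_span_singleton'.mp hz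
    have hyP : y ∈ P := Ideal.mul_le_left hy
    have hcaP : c * a ∈ P := by
      have := P.sub_mem hx hyP
      rwa [add_sub_cancel_left] at this
    have hcP : c ∈ P := (hP.mem_or_mem hcaP).resolve_right haP
    refine Ideal.add_mem _ ?_ ?_
    · exact Ideal.mul_mono_right (le_sup_left : P ≤ I1) hy
    · exact Ideal.mul_mem_mul hcP (Ideal.mem_sup_right (Ideal.mem_span_singleton_self a))
  have : P * I1 = P * ⊤ := by
    rw [Ideal.mul_top]
    exact le_antisymm Ideal.mul_le_left hPle
  exact hPc.cancel this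

/-- Step 2: a nonzero prime is cancellable. -/
theorem canc_of_prime
    (h : ∀ I : Ideal R, I ≠ ⊥ → ∃ s : Multiset (Ideal R), (∀ p ∈ s, p.IsPrime ∧ p ≠ ⊥) ∧ s.prod = I)
    (P : Ideal R) [hP : P.IsPrime] (hP0 : P ≠ ⊥) : Canc P := by
  obtain ⟨x, hxP, hx0⟩ := Submodule.exists_mem_ne_zero_of_ne_bot hP0
  obtain ⟨s, hs, hsp⟩ := h (Ideal.span {x}) (by simpa using hx0)
  have hle : s.prod ≤ P := by rw [hsp]; exact (Ideal.span_singleton_le_iff_mem _).mpr hxP
  obtain ⟨q, hq, hqP⟩ := hP.multiset_prod_le.mp hle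
  have hqc : Canc q := Canc.of_mem hx0 hsp hq
  haveI := (hs q hq).1
  have hqmax := isMaximal_of_canc h q hqc
  rw [← hqmax.eq_of_le hP.ne_top hqP]
  exact hqc

theorem canc_of_ne_bot
    (h : ∀ I : Ideal R, I ≠ ⊥ → ∃ s : Multiset (Ideal R), (∀ p ∈ s, p.IsPrime ∧ p ≠ ⊥) ∧ s.prod = I)
    (I : Ideal R) (hI : I ≠ ⊥) : Canc I := by
  obtain ⟨s, hs, hsp⟩ := h I hI
  rw [← hsp]
  apply Canc.prod
  intro q hq
  haveI := (hs q hq).1
  exact canc_of_prime h q (hs q hq).2

theorem main
    (h : ∀ I : Ideal R, I ≠ ⊥ → ∃ s : Multiset (Ideal R), (∀ p ∈ s, p.IsPrime ∧ p ≠ ⊥) ∧ s.prod = I) :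
    IsDedekindDomain R := by
  rw [isDedekindDomain_iff_mul_inv_cancel (K := FractionRing R)]
  intro I hI
  open FractionalIdeal in
  obtain ⟨a, J, ha, hJ⟩ := exists_eq_spanSingleton_mul (K := FractionRing R) I
  have hJ0 : J ≠ ⊥ := by
    rintro rfl
    apply hI
    rw [hJ]
    simp
  obtain ⟨J', d, hd, hJJ'⟩ := canc_of_ne_bot h J hJ0
  rw [FractionalIdeal.mul_inv_cancel_iff]
  have haK : algebraMap R (FractionRing R) a ≠ 0 :=
    mt ((injective_iff_map_eq_zero (algebraMap R _)).mp (IsFractionRing.injective R _) _) ha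
  have hdK : algebraMap R (FractionRing R) d ≠ 0 :=
    mt ((injective_iff_map_eq_zero (algebraMap R _)).mp (IsFractionRing.injective R _) _) hd
  refine ⟨FractionalIdeal.spanSingleton R⁰ (algebraMap R (FractionRing R) a) *
    ((J' : FractionalIdeal R⁰ (FractionRing R)) *
      FractionalIdeal.spanSingleton R⁰ (algebraMap R (FractionRing R) d)⁻¹), ?_⟩
  rw [hJ]
  have e1 : (J : FractionalIdeal R⁰ (FractionRing R)) * (J' : FractionalIdeal R⁰ (FractionRing R)) =
      FractionalIdeal.spanSingleton R⁰ (algebraMap R (FractionRing R) d) := by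
    rw [← FractionalIdeal.coeIdeal_mul, hJJ', FractionalIdeal.coeIdeal_span_singleton]
  calc FractionalIdeal.spanSingleton R⁰ (algebraMap R (FractionRing R) a)⁻¹ * (J : FractionalIdeal R⁰ (FractionRing R)) *
      (FractionalIdeal.spanSingleton R⁰ (algebraMap R (FractionRing R) a) *
        ((J' : FractionalIdeal R⁰ (FractionRing R)) *
          FractionalIdeal.spanSingleton R⁰ (algebraMap R (FractionRing R) d)⁻¹))
      = (FractionalIdeal.spanSingleton R⁰ (algebraMap R (FractionRing R) a)⁻¹ *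
          FractionalIdeal.spanSingleton R⁰ (algebraMap R (FractionRing R) a)) *
        (((J : FractionalIdeal R⁰ (FractionRing R)) * (J' : FractionalIdeal R⁰ (FractionRing R))) *
          FractionalIdeal.spanSingleton R⁰ (algebraMap R (FractionRing R) d)⁻¹) := by ring
    _ = 1 := by
      rw [e1, FractionalIdeal.spanSingleton_mul_spanSingleton,
        FractionalIdeal.spanSingleton_mul_spanSingleton, inv_mul_cancel₀ haK,
        mul_inv_cancel₀ hdK, FractionalIdeal.spanSingleton_one, one_mul]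

end main

end DF

end Groth.Agent.S6369.Aux

namespace Groth.Agent.S6369

/-- (1) ⇒ (3): let R be a domain such that every nonzero ideal is a product of nonzero prime ideals,
uniquely up to permutation of the factors. Then R is Noetherian, integrally closed and of dimension
at most one, i.e. a Dedekind domain in the Noetherian sense. (The converse and the description by
discrete valuation rings at maximal ideals are the standard equivalences.) -/
theorem result (R : Type u) [CommRing R] [IsDomain R]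
    (h : ∀ I : Ideal R, I ≠ ⊥ → ∃! s : Multiset (Ideal R), (∀ p ∈ s, p.IsPrime ∧ p ≠ ⊥) ∧ s.prod = I) :
    IsDedekindDomain R := by
  exact Aux.DF.main (fun I hI => (h I hI).exists)

end Groth.Agent.S6369
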