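import Groth.Statements.S6370
import Mathlib
import Groth.Agent.S0556
-- import your own Groth.Agent.* helpers here

set_option autoImplicit false
universe u
open CAlg

namespace Groth.Agent.S6370.Aux

set_option autoImplicit false
open TensorProduct
open Groth.Agent.S0556.Aux

namespace KA2


section
variable (R : Type u) [CommRing R] [IsDomain R] [IsNoetherianRing R] (hdim : ringKrullDim R = 1)
  (K L : Type u) [Field K] [Field L]
  [Algebra R K] [IsFractionRing R K] [Algebra K L] [FiniteDimensional K L] [Algebra R L]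
  [IsScalarTower R K L] (A : Type u) [CommRing A] [Algebra R A] [Algebra A L]
  [IsScalarTower R A L] (hA : Function.Injective (algebraMap A L))

include hdim K L hA

theorem hart (c : R) (hc : c ≠ 0) : IsArtinianRing (R ⧸ Ideal.span {c}) := by
  haveI hd1 : Ring.KrullDimLE 1 R := Ring.krullDimLE_iff.mpr hdim.le
  refine isArtinianRing_iff_isNoetherianRing_krullDimLE_zero.mpr ⟨inferInstance, ?_⟩
  refine Ring.KrullDimLE.mk₀ fun P hP => ?_
  have hsurj : Function.Surjective (Ideal.Quotient.mk (Ideal.span {c})) :=
    Ideal.Quotient.mk_surjective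
  have hcP : P.comap (Ideal.Quotient.mk (Ideal.span {c})) ≠ ⊥ := by
    intro h
    have : c ∈ P.comap (Ideal.Quotient.mk (Ideal.span {c})) := by
      rw [Ideal.mem_comap]
      have : Ideal.Quotient.mk (Ideal.span {c}) c = 0 :=
        Ideal.Quotient.eq_zero_iff_mem.mpr (Ideal.mem_span_singleton_self c)
      rw [this]; exact P.zero_mem
    rw [h] at this
    exact hc (by simpa using this)
  have hmax : (P.comap (Ideal.Quotient.mk (Ideal.span {c}))).IsMaximal :=
    Ideal.IsPrime.isMaximal_of_ne_bot (Ideal.comap_isPrime _ P) hcP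
  rcases Ideal.map_eq_top_or_isMaximal_of_surjective _ hsurj hmax with h | h
  · rw [Ideal.map_comap_of_surjective _ hsurj] at h
    exact absurd h hP.ne_top
  · rwa [Ideal.map_comap_of_surjective _ hsurj] at h

theorem exists_E_level (a : R) (ha0 : a ≠ 0) :
    ∃ (E : Submodule R A) (l : ℕ), E.FG ∧ ∀ x : A, ∃ y : A, ∃ e ∈ E,
      algebraMap R A a ^ l * x = algebraMap R A a ^ (l + 1) * y + e := by
  classical
  haveI : IsDomain A := hA.isDomain (algebraMap A L)
  have hRL : Function.Injective (algebraMap R L) := by
    rw [IsScalarTower.algebraMap_eq R K L]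
    exact (algebraMap K L).injective.comp (IsFractionRing.injective R K)
  have hRA : Function.Injective (algebraMap R A) := by
    have : Function.Injective ((algebraMap A L).comp (algebraMap R A)) := by
      rw [← IsScalarTower.algebraMap_eq R A L]; exact hRL
    exact Function.Injective.of_comp this
  let φ : A →ₗ[R] L := (IsScalarTower.toAlgHom R A L).toLinearMap
  have hφ : ∀ x, φ x = algebraMap A L x := fun x => rfl
  obtain ⟨t, htr, hts⟩ := (Submodule.fg_span_iff_fg_span_finset_subset
    (Set.range (algebraMap A L))).mp (IsNoetherian.noetherian (Submodule.span K (Set.range (algebraMap A L))))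
  have hpre : ∀ z ∈ t, ∃ x : A, algebraMap A L x = z := fun z hz => htr hz
  choose! g hg using hpre
  let E : Submodule R A := Submodule.span R ((t.image g : Finset A) : Set A)
  have hEfg : E.FG := ⟨t.image g, rfl⟩
  have hEmap : Submodule.map φ E = Submodule.span R (t : Set L) := by
    rw [Submodule.map_span]
    congr 1
    ext z
    simp only [Finset.coe_image, Set.mem_image, Finset.mem_coe, exists_exists_and_eq_and]
    constructor
    · rintro ⟨w, hw, rfl⟩; rw [hφ, hg w hw]; exact hw
    · intro hz; exact ⟨z, hz, by rw [hφ, hg z hz]⟩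
  have hE : ∀ x : A, ∃ c : R, c ≠ 0 ∧ c • x ∈ E := by
    intro x
    have hx : algebraMap A L x ∈ Submodule.span K (t : Set L) := by
      rw [← hts]; exact Submodule.subset_span ⟨x, rfl⟩
    obtain ⟨c, hc, hcx⟩ := KA.clear_denoms R K L _ _ hx
    refine ⟨c, hc, ?_⟩
    rw [← hEmap] at hcx
    obtain ⟨w, hw, hwe⟩ := hcx
    have : w = c • x := by
      apply hA
      show φ w = φ (c • x)
      rw [hwe, map_smul, hφ]
    rwa [← this]
  haveI := hart R hdim K L A hA a ha0
  have haA : algebraMap R A a ≠ 0 := fun h => ha0 (hRA (by rw [h, map_zero]))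
  have H2 : ∀ x : A, ∃ m : ℕ, ∃ y : A, ∃ e ∈ E,
      algebraMap R A a ^ m * x = algebraMap R A a ^ (m + 1) * y + e := by
    intro x
    obtain ⟨c, hc, hcx⟩ := hE x
    haveI := hart R hdim K L A hA c hc
    obtain ⟨n, y, hy⟩ := IsArtinian.exists_pow_succ_smul_dvd
      (Ideal.Quotient.mk (Ideal.span {c}) a) (1 : R ⧸ Ideal.span {c})
    obtain ⟨r, rfl⟩ := Ideal.Quotient.mk_surjective y
    rw [smul_eq_mul, smul_eq_mul, mul_one, ← map_pow, ← map_pow, ← map_mul,
      Ideal.Quotient.eq, Ideal.mem_span_singleton'] at hy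
    obtain ⟨s, hs⟩ := hy
    refine ⟨n, r • x, (-s) • (c • x), E.smul_mem (-s) hcx, ?_⟩
    simp only [Nat.succ_eq_add_one] at hs
    have h1 : a ^ n = a ^ (n + 1) * r + (-s) * c := by linear_combination hs
    rw [← map_pow, h1]
    simp only [Algebra.smul_def, map_add, map_neg, map_mul, map_pow]
    ring
  obtain ⟨l, hl⟩ := KA.exists_level a haA E hEfg H2
  exact ⟨E, l, hEfg, hl⟩

theorem isNoetherian_quot (a : R) (ha0 : a ≠ 0) :
    IsNoetherian R (A ⧸ (Ideal.span {algebraMap R A a}).restrictScalars R) := by
  classical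
  haveI : IsDomain A := hA.isDomain (algebraMap A L)
  have hRL : Function.Injective (algebraMap R L) := by
    rw [IsScalarTower.algebraMap_eq R K L]
    exact (algebraMap K L).injective.comp (IsFractionRing.injective R K)
  have hRA : Function.Injective (algebraMap R A) := by
    have : Function.Injective ((algebraMap A L).comp (algebraMap R A)) := by
      rw [← IsScalarTower.algebraMap_eq R A L]; exact hRL
    exact Function.Injective.of_comp this
  have haA : algebraMap R A a ≠ 0 := fun h => ha0 (hRA (by rw [h, map_zero]))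
  obtain ⟨E, l, hEfg, hl⟩ := exists_E_level R hdim K L A hA a ha0
  set α := algebraMap R A a with hα
  let J : Submodule R A := (Ideal.span {α ^ (l + 1)}).restrictScalars R
  let I' : Submodule R A := (Ideal.span {α}).restrictScalars R
  let f : A →ₗ[R] A ⧸ J := J.mkQ ∘ₗ (LinearMap.mulLeft R (α ^ l))
  have hf : ∀ x, f x = J.mkQ (α ^ l * x) := fun x => rfl
  have hker : I' ≤ LinearMap.ker f := by
    intro x hx
    rw [LinearMap.mem_ker, hf, Submodule.mkQ_apply, Submodule.Quotient.mk_eq_zero]
    simp only [I', J, Submodule.restrictScalars_mem, Ideal.mem_span_singleton'] at hx ⊢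
    obtain ⟨y, rfl⟩ := hx
    exact ⟨y, by ring⟩
  let g : A ⧸ I' →ₗ[R] A ⧸ J := I'.liftQ f hker
  have hginj : Function.Injective g := by
    rw [← LinearMap.ker_eq_bot, Submodule.ker_liftQ_eq_bot']
    apply le_antisymm hker
    intro x hx
    rw [LinearMap.mem_ker, hf, Submodule.mkQ_apply, Submodule.Quotient.mk_eq_zero] at hx
    simp only [I', J, Submodule.restrictScalars_mem, Ideal.mem_span_singleton'] at hx ⊢
    obtain ⟨y, hy⟩ := hx
    refine ⟨y, ?_⟩
    have : α ^ l * (y * α) = α ^ l * x := by rw [← hy]; ring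
    exact mul_left_cancel₀ (pow_ne_zero l haA) this
  let N : Submodule R (A ⧸ J) := Submodule.map J.mkQ E
  have hrange : ∀ z, g z ∈ N := by
    intro z
    obtain ⟨x, rfl⟩ := Submodule.mkQ_surjective I' z
    show I'.liftQ f hker (I'.mkQ x) ∈ N
    rw [Submodule.mkQ_apply, Submodule.liftQ_apply, hf]
    obtain ⟨y, e, he, h⟩ := hl x
    refine ⟨e, he, ?_⟩
    rw [Submodule.mkQ_apply, Submodule.mkQ_apply, Submodule.Quotient.eq]
    simp only [J, Submodule.restrictScalars_mem, Ideal.mem_span_singleton']
    exact ⟨-y, by rw [h]; ring⟩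
  haveI : IsNoetherian R E := isNoetherian_of_fg_of_noetherian E hEfg
  haveI : IsNoetherian R N := isNoetherian_of_surjective
    ((J.mkQ.domRestrict E).codRestrict N (fun x => ⟨x.1, x.2, rfl⟩)) (by
      rw [LinearMap.range_eq_top]
      rintro ⟨_, ⟨e, he, rfl⟩⟩
      exact ⟨⟨e, he⟩, rfl⟩)
  exact isNoetherian_of_injective (g.codRestrict N hrange)
    (fun x y h => hginj (by simpa using congrArg Subtype.val h))

end

theorem main (A K L B : Type u) [CommRing A] [IsDomain A]
    [IsNoetherianRing A] (hdim : ringKrullDim A = 1) [Field K] [Algebra A K] [IsFractionRing A K]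
    [Field L] [Algebra K L] [FiniteDimensional K L] [Algebra A L] [IsScalarTower A K L]
    [CommRing B] [IsDomain B] [Algebra A B] [Algebra B L] [IsScalarTower A B L] [IsIntegralClosure B A L] :
    IsDedekindDomain B ∧ Function.Surjective (PrimeSpectrum.comap (algebraMap A B)) ∧
      (∀ p : PrimeSpectrum A, (PrimeSpectrum.comap (algebraMap A B) ⁻¹' {p}).Finite) ∧
      ∀ Q : Ideal B, Q.IsMaximal → Module.Finite (A ⧸ Q.comap (algebraMap A B)) (B ⧸ Q) := by
  classical
  have hBL : Function.Injective (algebraMap B L) := IsIntegralClosure.algebraMap_injective B A L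
  haveI : IsFractionRing B L := IsIntegralClosure.isFractionRing_of_finite_extension A K L B
  haveI : Algebra.IsIntegral A B := IsIntegralClosure.isIntegral_algebra A L
  haveI hd1 : Ring.KrullDimLE 1 A := Ring.krullDimLE_iff.mpr hdim.le
  haveI hA1 : Ring.DimensionLEOne A := ⟨fun {p} hp hpp => Ideal.IsPrime.isMaximal_of_ne_bot hpp hp⟩
  have hAL : Function.Injective (algebraMap A L) := by
    rw [IsScalarTower.algebraMap_eq A K L]
    exact (algebraMap K L).injective.comp (IsFractionRing.injective A K)
  have hAB : Function.Injective (algebraMap A B) := by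
    have : Function.Injective ((algebraMap B L).comp (algebraMap A B)) := by
      rw [← IsScalarTower.algebraMap_eq A B L]; exact hAL
    exact Function.Injective.of_comp this
  haveI hBnoeth : IsNoetherianRing B := KA.main A hdim K L B hBL
  haveI hB1 : Ring.DimensionLEOne B := Ring.DimensionLEOne.of_isIntegral A B
  have hBded : IsDedekindDomain B :=
    { hBnoeth, hB1,
      (isIntegrallyClosed_iff L).mpr fun {x} hx =>
        ⟨IsIntegralClosure.mk' B x (isIntegral_trans (R := A) _ hx),
          IsIntegralClosure.algebraMap_mk' _ _ _⟩ with : IsDedekindDomain B }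
  refine ⟨hBded, ?_, ?_, ?_⟩
  · intro p
    obtain ⟨Q, hQ, hQp⟩ := Ideal.exists_ideal_over_prime_of_isIntegral_of_isDomain (S := B) p.asIdeal
      (by rw [(RingHom.injective_iff_ker_eq_bot _).mp hAB]; exact bot_le)
    exact ⟨⟨Q, hQ⟩, PrimeSpectrum.ext hQp⟩
  · intro p
    by_cases hp : p.asIdeal = ⊥
    · apply Set.Subsingleton.finite
      intro Q1 h1 Q2 h2
      have e1 : Q1.asIdeal = ⊥ := by
        apply Ideal.eq_bot_of_comap_eq_bot (R := A)
        have := congrArg PrimeSpectrum.asIdeal (Set.mem_singleton_iff.mp h1)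
        rw [← hp, ← this]; rfl
      have e2 : Q2.asIdeal = ⊥ := by
        apply Ideal.eq_bot_of_comap_eq_bot (R := A)
        have := congrArg PrimeSpectrum.asIdeal (Set.mem_singleton_iff.mp h2)
        rw [← hp, ← this]; rfl
      exact PrimeSpectrum.ext (e1.trans e2.symm)
    · obtain ⟨a, hap, ha0⟩ := Submodule.exists_mem_ne_zero_of_ne_bot hp
      have hfin := Ideal.finite_minimalPrimes_of_isNoetherianRing B (Ideal.span {algebraMap A B a})
      refine Set.Finite.subset (hfin.preimage (f := PrimeSpectrum.asIdeal)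
        (fun x _ y _ h => PrimeSpectrum.ext h)) ?_
      intro Q hQ
      have hQp : Q.asIdeal.comap (algebraMap A B) = p.asIdeal :=
        congrArg PrimeSpectrum.asIdeal (Set.mem_singleton_iff.mp hQ)
      have haQ : algebraMap A B a ∈ Q.asIdeal := by
        rw [← Ideal.mem_comap, hQp]; exact hap
      have haB : algebraMap A B a ≠ 0 := fun h => ha0 (hAB (by rw [h, map_zero]))
      refine ⟨⟨Q.2, (Ideal.span_singleton_le_iff_mem _).mpr haQ⟩, ?_⟩
      intro P' ⟨hP', hP'le⟩ hP'Q
      have hP'0 : P' ≠ ⊥ := by
        intro h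
        rw [h] at hP'le
        exact haB (by simpa using hP'le (Ideal.mem_span_singleton_self _))
      have hmax : P'.IsMaximal := hB1.maximalOfPrime hP'0 hP'
      exact (hmax.eq_of_le Q.2.ne_top hP'Q).ge
  · intro Q hQ
    have hq0 : Q.comap (algebraMap A B) ≠ ⊥ := by
      intro h
      have hQ0 : Q = ⊥ := Ideal.eq_bot_of_comap_eq_bot (R := A) h
      have hBf : IsField B := by
        rw [hQ0] at hQ
        exact Ring.isField_iff_maximal_bot.mpr hQ
      have hAf : IsField A := isField_of_isIntegral_of_isField hAB hBf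
      have := ringKrullDim_eq_zero_of_isField hAf
      rw [hdim] at this
      exact one_ne_zero this
    obtain ⟨a, haq, ha0⟩ := Submodule.exists_mem_ne_zero_of_ne_bot hq0
    haveI := isNoetherian_quot A hdim K L B hBL a ha0
    let I' : Submodule A B := (Ideal.span {algebraMap A B a}).restrictScalars A
    have hle : I' ≤ LinearMap.ker (Ideal.Quotient.mkₐ A Q).toLinearMap := by
      intro x hx
      rw [LinearMap.mem_ker]
      show Ideal.Quotient.mk Q x = 0
      rw [Ideal.Quotient.eq_zero_iff_mem]
      exact (Ideal.span_singleton_le_iff_mem _).mpr (Ideal.mem_comap.mp haq) hx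
    have hsurj : Function.Surjective (I'.liftQ (Ideal.Quotient.mkₐ A Q).toLinearMap hle) := by
      intro z
      obtain ⟨x, rfl⟩ := Ideal.Quotient.mk_surjective z
      exact ⟨I'.mkQ x, rfl⟩
    haveI : Module.Finite A (B ⧸ Q) := Module.Finite.of_surjective _ hsurj
    exact Module.Finite.of_restrictScalars_finite A _ _

end KA2

end Groth.Agent.S6370.Aux

namespace Groth.Agent.S6370

/-- For a one-dimensional Noetherian domain A with fraction field K, a finite field extension L of K
(separable or not) and B the integral closure of A in L: B is a Dedekind domain, Spec B → Spec A is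
surjective and has finite fibres, and at every maximal ideal Q of B the residue field B/Q is finite
over A/(Q ∩ A). -/
theorem result (A K L B : Type u) [CommRing A] [IsDomain A]
    [IsNoetherianRing A] (hdim : ringKrullDim A = 1) [Field K] [Algebra A K] [IsFractionRing A K]
    [Field L] [Algebra K L] [FiniteDimensional K L] [Algebra A L] [IsScalarTower A K L]
    [CommRing B] [IsDomain B] [Algebra A B] [Algebra B L] [IsScalarTower A B L] [IsIntegralClosure B A L] :
    IsDedekindDomain B ∧ Function.Surjective (PrimeSpectrum.comap (algebraMap A B)) ∧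
      (∀ p : PrimeSpectrum A, (PrimeSpectrum.comap (algebraMap A B) ⁻¹' {p}).Finite) ∧
      ∀ Q : Ideal B, Q.IsMaximal → Module.Finite (A ⧸ Q.comap (algebraMap A B)) (B ⧸ Q) := by
  exact Aux.KA2.main A K L B hdim

end Groth.Agent.S6370
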