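import Groth.Statements.S6371
import Mathlib.Algebra.Category.Ring.Epi
import Mathlib.RingTheory.Localization.AtPrime.Basic
import Mathlib.RingTheory.Localization.BaseChange

set_option autoImplicit false
universe u
open CAlg

namespace Groth.Agent.S6371

open CategoryTheory

/-- Elementary characterisation of ring epimorphisms. -/
theorem isEpi_iff_hom_ext {R S : Type u} [CommRing R] [CommRing S] [Algebra R S] :
    Algebra.IsEpi R S ↔ ∀ (T : Type u) [CommRing T] (f g : S →+* T),
      f.comp (algebraMap R S) = g.comp (algebraMap R S) → f = g := by
  rw [← CommRingCat.epi_iff_epi]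
  constructor
  · intro h T _ f g e
    have := (cancel_epi (CommRingCat.ofHom (algebraMap R S))).mp
      (show CommRingCat.ofHom (algebraMap R S) ≫ CommRingCat.ofHom f =
        CommRingCat.ofHom (algebraMap R S) ≫ CommRingCat.ofHom g by
        ext x
        exact RingHom.congr_fun e x)
    exact congrArg CommRingCat.Hom.hom this
  · intro h
    refine ⟨fun {T} f g e => ?_⟩
    ext1
    apply h T f.hom g.hom
    exact congrArg CommRingCat.Hom.hom e

/-- A ring map R → S is an epimorphism of rings if and only if for every prime p of R the localized map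
R_p → S_p is an epimorphism, where S_p is S localized at the image of R ∖ p. -/
theorem result (R S : Type u) [CommRing R] [CommRing S] [Algebra R S] :
    Algebra.IsEpi R S ↔ ∀ (p : Ideal R) [p.IsPrime],
      Algebra.IsEpi (Localization.AtPrime p) (Localization (Algebra.algebraMapSubmonoid S p.primeCompl)) := by
  constructor
  · intro hepi p _
    rw [isEpi_iff_hom_ext] at hepi ⊢
    intro T _ f g e
    apply IsLocalization.ringHom_ext (Algebra.algebraMapSubmonoid S p.primeCompl)
    apply hepi
    have := congrArg (fun h => h.comp (algebraMap R (Localization.AtPrime p))) e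
    simp only [RingHom.comp_assoc] at this
    rw [← IsScalarTower.algebraMap_eq, IsScalarTower.algebraMap_eq R S
      (Localization (Algebra.algebraMapSubmonoid S p.primeCompl))] at this
    simpa only [RingHom.comp_assoc] using this
  · intro hloc
    rw [isEpi_iff_hom_ext]
    intro T _ f g e
    ext s
    -- the ideal of `r` with `f (r • s) = g (r • s)`
    let J : Ideal R :=
      { carrier := {r | f (algebraMap R S r * s) = g (algebraMap R S r * s)}
        add_mem' := by
          intro a b ha hb
          simp only [Set.mem_setOf_eq, map_add, add_mul] at ha hb ⊢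
          rw [ha, hb]
        zero_mem' := by simp
        smul_mem' := by
          intro c a ha
          simp only [Set.mem_setOf_eq, smul_eq_mul] at ha ⊢
          have hc : f (algebraMap R S c) = g (algebraMap R S c) := RingHom.congr_fun e c
          rw [map_mul (algebraMap R S), mul_assoc, map_mul f, map_mul g, ha, hc] }
    suffices h1 : (1 : R) ∈ J by
      have : f (algebraMap R S 1 * s) = g (algebraMap R S 1 * s) := h1
      simpa using this
    rw [← Ideal.eq_top_iff_one]
    by_contra hJ
    obtain ⟨m, hm, hJm⟩ := Ideal.exists_le_maximal J hJ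
    have : m.IsPrime := hm.isPrime
    have hm_epi := hloc m
    rw [isEpi_iff_hom_ext] at hm_epi
    -- localize `T`
    let Mₜ : Submonoid T := (Algebra.algebraMapSubmonoid S m.primeCompl).map f
    let Tₘ := Localization Mₜ
    have hfu : ∀ y : Algebra.algebraMapSubmonoid S m.primeCompl,
        IsUnit (((algebraMap T Tₘ).comp f) y) := by
      intro y
      exact IsLocalization.map_units Tₘ (⟨f y, ⟨y, y.2, rfl⟩⟩ : Mₜ)
    have hgu : ∀ y : Algebra.algebraMapSubmonoid S m.primeCompl,
        IsUnit (((algebraMap T Tₘ).comp g) y) := by
      rintro ⟨y, r, hr, rfl⟩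
      have : g (algebraMap R S r) = f (algebraMap R S r) := (RingHom.congr_fun e r).symm
      simp only [RingHom.coe_comp, Function.comp_apply, this]
      exact IsLocalization.map_units Tₘ (⟨f (algebraMap R S r), ⟨_, ⟨r, hr, rfl⟩, rfl⟩⟩ : Mₜ)
    let fₘ : Localization (Algebra.algebraMapSubmonoid S m.primeCompl) →+* Tₘ :=
      IsLocalization.lift hfu
    let gₘ : Localization (Algebra.algebraMapSubmonoid S m.primeCompl) →+* Tₘ :=
      IsLocalization.lift hgu
    have hfg : fₘ = gₘ := by
      apply hm_epi
      apply IsLocalization.ringHom_ext m.primeCompl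
      simp only [RingHom.comp_assoc]
      rw [← IsScalarTower.algebraMap_eq, IsScalarTower.algebraMap_eq R S
        (Localization (Algebra.algebraMapSubmonoid S m.primeCompl))]
      simp only [← RingHom.comp_assoc]
      rw [IsLocalization.lift_comp, IsLocalization.lift_comp]
      simp only [RingHom.comp_assoc, e]
    have hs : algebraMap T Tₘ (f s) = algebraMap T Tₘ (g s) := by
      have h1 := IsLocalization.lift_eq
        (S := Localization (Algebra.algebraMapSubmonoid S m.primeCompl)) hfu s
      have h2 := IsLocalization.lift_eq
        (S := Localization (Algebra.algebraMapSubmonoid S m.primeCompl)) hgu s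
      have := RingHom.congr_fun hfg (algebraMap S _ s)
      simp only [fₘ, gₘ] at this
      rw [h1, h2] at this
      exact this
    obtain ⟨⟨c, y, ⟨r, hr, rfl⟩, rfl⟩, hc⟩ := (IsLocalization.eq_iff_exists Mₜ Tₘ).mp hs
    apply hr
    apply hJm
    show f (algebraMap R S r * s) = g (algebraMap R S r * s)
    have hrfg : g (algebraMap R S r) = f (algebraMap R S r) := (RingHom.congr_fun e r).symm
    rw [map_mul, map_mul, hrfg]
    exact hc

end Groth.Agent.S6371
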