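import Groth.Statements.S6372
import Mathlib.Algebra.Algebra.Epi
import Mathlib.RingTheory.Flat.FaithfullyFlat.Basic

set_option autoImplicit false
universe u
open CAlg

namespace Groth.Agent.S6372

open TensorProduct in
theorem aux (R S : Type u) [CommRing R] [CommRing S] [Algebra R S]
    [Module.FaithfullyFlat R S] [Algebra.IsEpi R S] : Function.Bijective (algebraMap R S) := by
  let f : R →ₗ[R] S := Algebra.linearMap R S
  have hf : (f : R → S) = algebraMap R S := rfl
  rw [← hf, ← Module.FaithfullyFlat.lTensor_bijective_iff_bijective R S f]
  let μ : S ⊗[R] S →ₗ[R] S := TensorProduct.lift (LinearMap.mul R S)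
  have hμ : Function.Injective μ := Algebra.IsEpi.injective_lift_mul
  have hcomp : ∀ x : S ⊗[R] R, μ (f.lTensor S x) = TensorProduct.rid R S x := by
    intro x
    induction x using TensorProduct.induction_on with
    | zero => simp
    | tmul s r =>
      simp only [LinearMap.lTensor_tmul, TensorProduct.rid_tmul, μ, TensorProduct.lift.tmul,
        LinearMap.mul_apply', f, Algebra.linearMap_apply]
      rw [Algebra.algebraMap_eq_smul_one, mul_smul_comm, mul_one]
    | add a b ha hb => simp only [map_add, ha, hb]
  constructor
  · intro a b hab
    apply (TensorProduct.rid R S).injective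
    rw [← hcomp, ← hcomp, hab]
  · intro y
    refine ⟨(μ y) ⊗ₜ 1, ?_⟩
    apply hμ
    rw [hcomp, TensorProduct.rid_tmul, one_smul]

/-- A faithfully flat epimorphism of rings is an isomorphism: if R → S is faithfully flat and an
epimorphism in the category of rings then it is bijective. -/
theorem result (R S : Type u) [CommRing R] [CommRing S] [Algebra R S]
    [Module.FaithfullyFlat R S] [Algebra.IsEpi R S] : Function.Bijective (algebraMap R S) := by
  exact aux R S

end Groth.Agent.S6372
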