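import Groth.Statements.S6374
import Groth.Agent.S6371
import Mathlib.RingTheory.LocalRing.ResidueField.Fiber
import Mathlib.LinearAlgebra.Basis.VectorSpace

set_option autoImplicit false
universe u
open CAlg

namespace Groth.Agent.S6374

open TensorProduct

/-- Base change of a ring epimorphism is a ring epimorphism. -/
theorem isEpi_baseChange (R S A : Type u) [CommRing R] [CommRing S] [Algebra R S]
    [CommRing A] [Algebra R A] [Algebra.IsEpi R S] : Algebra.IsEpi A (A ⊗[R] S) := by
  have hepi : Algebra.IsEpi R S := inferInstance
  rw [Groth.Agent.S6371.isEpi_iff_hom_ext] at hepi ⊢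
  intro T _ f g e
  have h1 : f.comp (Algebra.TensorProduct.includeRight (R := R) (A := A) (B := S)).toRingHom =
      g.comp (Algebra.TensorProduct.includeRight (R := R) (A := A) (B := S)).toRingHom := by
    apply hepi
    ext r
    have := RingHom.congr_fun e (algebraMap R A r)
    simp only [RingHom.coe_comp, Function.comp_apply, AlgHom.toRingHom_eq_coe, RingHom.coe_coe,
      Algebra.TensorProduct.includeRight_apply, Algebra.TensorProduct.algebraMap_apply,
      Algebra.algebraMap_self, RingHom.id_apply] at this ⊢
    rw [Algebra.algebraMap_eq_smul_one, ← TensorProduct.smul_tmul, ← Algebra.algebraMap_eq_smul_one]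
    exact this
  refine RingHom.ext fun z => ?_
  induction z using TensorProduct.induction_on with
  | zero => simp
  | add x y hx hy => rw [map_add, map_add, hx, hy]
  | tmul a s =>
    have : a ⊗ₜ[R] s = algebraMap A (A ⊗[R] S) a * (1 : A) ⊗ₜ[R] s := by
      simp [Algebra.TensorProduct.algebraMap_apply]
    rw [this, map_mul, map_mul]
    congr 1
    · exact RingHom.congr_fun e a
    · exact RingHom.congr_fun h1 s

/-- An epimorphism from a field to a nonzero ring is bijective. -/
theorem bijective_of_isEpi_field (k A : Type u) [Field k] [CommRing A] [Algebra k A]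
    [Nontrivial A] [Algebra.IsEpi k A] : Function.Bijective (algebraMap k A) := by
  refine ⟨(algebraMap k A).injective, ?_⟩
  intro x
  by_contra hx
  have hxp : x ∉ Submodule.span k {(1 : A)} := by
    intro h
    obtain ⟨c, rfl⟩ := Submodule.mem_span_singleton.mp h
    exact hx ⟨c, by rw [Algebra.algebraMap_eq_smul_one]⟩
  obtain ⟨l, hlx, hl⟩ := Submodule.exists_le_ker_of_notMem hxp
  have hl1 : l 1 = 0 := hl (Submodule.mem_span_singleton_self 1)
  have h := (Algebra.isEpi_iff_forall_one_tmul_eq k A).mp inferInstance x
  have h2 := congrArg ((TensorProduct.lid k A).toLinearMap ∘ₗ LinearMap.rTensor A l) h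
  simp only [LinearMap.coe_comp, LinearEquiv.coe_coe, Function.comp_apply,
    LinearMap.rTensor_tmul, TensorProduct.lid_tmul, hl1, zero_smul] at h2
  have h3 : algebraMap k A (l x) = 0 := by
    rw [Algebra.algebraMap_eq_smul_one]; exact h2.symm
  exact hlx ((map_eq_zero_iff _ (algebraMap k A).injective).mp h3)

/-- For an epimorphism of rings R → S, the induced map Spec S → Spec R is injective and induces trivial
residue field extensions; stated in the form the proof gives: for every prime p of R the fibre ring
S ⊗_R κ(p) is either zero or κ(p) → S ⊗_R κ(p) is bijective, together with injectivity of Spec S →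
Spec R. -/
theorem result (R S : Type u) [CommRing R] [CommRing S] [Algebra R S]
    [Algebra.IsEpi R S] :
    Function.Injective (PrimeSpectrum.comap (algebraMap R S)) ∧
      ∀ (p : Ideal R) [p.IsPrime],
        Subsingleton (p.Fiber S) ∨ Function.Bijective (algebraMap p.ResidueField (p.Fiber S)) := by
  have key : ∀ (p : Ideal R) [p.IsPrime],
      Subsingleton (p.Fiber S) ∨ Function.Bijective (algebraMap p.ResidueField (p.Fiber S)) := by
    intro p _
    rcases subsingleton_or_nontrivial (p.Fiber S) with h | h
    · exact Or.inl h
    · right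
      have : Algebra.IsEpi p.ResidueField (p.Fiber S) := isEpi_baseChange R S p.ResidueField
      exact bijective_of_isEpi_field _ _
  refine ⟨?_, key⟩
  intro q₁ q₂ hq
  set p := PrimeSpectrum.comap (algebraMap R S) q₁ with hp
  have hsub : Subsingleton (PrimeSpectrum (p.asIdeal.Fiber S)) := by
    rcases key p.asIdeal with h | h
    · exact ⟨fun a b => (a.isPrime.ne_top (Subsingleton.elim _ _)).elim⟩
    · let e : p.asIdeal.ResidueField ≃+* p.asIdeal.Fiber S := RingEquiv.ofBijective _ h
      exact (PrimeSpectrum.comapEquiv e).symm.subsingleton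
  let E := PrimeSpectrum.preimageEquivFiber R S p
  have h1 : q₁ ∈ PrimeSpectrum.comap (algebraMap R S) ⁻¹' {p} := rfl
  have h2 : q₂ ∈ PrimeSpectrum.comap (algebraMap R S) ⁻¹' {p} := hq.symm
  have := E.injective (Subsingleton.elim (E ⟨q₁, h1⟩) (E ⟨q₂, h2⟩))
  exact congrArg Subtype.val this

end Groth.Agent.S6374
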