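import Groth.Statements.S6375
import Mathlib.Algebra.Algebra.Epi
import Mathlib.LinearAlgebra.TensorProduct.Vanishing
import Mathlib.RingTheory.TensorProduct.DirectLimitFG
import Mathlib.SetTheory.Cardinal.Arithmetic

set_option autoImplicit false
universe u
open CAlg

namespace Groth.Agent.S6375

open Cardinal TensorProduct

theorem mk_fun_le (ι : Type) [Fintype ι] (X : Type u) [Infinite X] : #(ι → X) ≤ #X := by
  rw [Cardinal.mk_arrow]
  simp only [Cardinal.lift_uzero, Cardinal.mk_fintype, Cardinal.lift_natCast]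
  exact Cardinal.power_nat_le (Cardinal.aleph0_le_mk X)

theorem mk_sigma_le (X : Type u) [Infinite X] :
    #(Σ p : ℕ × ℕ, (Fin (p.1 + 2) → Fin p.2 → X)) ≤ #X := by
  rw [Cardinal.mk_sigma]
  calc Cardinal.sum (fun p : ℕ × ℕ => #(Fin (p.1 + 2) → Fin p.2 → X))
      ≤ Cardinal.sum (fun _ : ℕ × ℕ => #X) := by
        apply Cardinal.sum_le_sum
        intro p
        have e : (Fin (p.1 + 2) → Fin p.2 → X) ≃ (Fin (p.1 + 2) × Fin p.2 → X) :=
          (Equiv.curry _ _ _).symm
        rw [Cardinal.mk_congr e]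
        exact mk_fun_le _ X
    _ = #X := by
        rw [Cardinal.sum_const]
        simp only [Cardinal.mk_eq_aleph0, Cardinal.lift_aleph0, Cardinal.lift_uzero]
        rw [Cardinal.aleph0_mul_eq (Cardinal.aleph0_le_mk X)]

/-- The zig-zag data attached to an element `s`. -/
def Good {R S : Type u} [CommRing R] [CommRing S] [Algebra R S] (s : S)
    (p : Σ p : ℕ × ℕ, (Fin (p.1 + 2) → Fin p.2 → R)) : Prop :=
  ∃ (m : Fin (p.1.1 + 2) → S) (y : Fin p.1.2 → S), m 0 = 1 ∧ m 1 = s ∧
    (∀ j, ∑ i, p.2 i j • m i = 0) ∧ (∑ j, p.2 0 j • y j = s) ∧ (∑ j, p.2 1 j • y j = -1) ∧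
    ∀ i : Fin p.1.1, ∑ j, p.2 i.succ.succ j • y j = 0

theorem good_unique {R S : Type u} [CommRing R] [CommRing S] [Algebra R S] (s s' : S)
    (p : Σ p : ℕ × ℕ, (Fin (p.1 + 2) → Fin p.2 → R)) (h : Good s p) (h' : Good s' p) : s = s' := by
  obtain ⟨m, y, hm0, hm1, hmy, -, -, -⟩ := h
  obtain ⟨m', y', -, -, -, hy0, hy1, hy2⟩ := h'
  have h1 : ∑ i, ∑ j, m i * (p.2 i j • y' j) = 0 := by
    rw [Finset.sum_comm]
    refine Finset.sum_eq_zero fun j _ => ?_
    have := congrArg (fun z => z * y' j) (hmy j)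
    simp only [Finset.sum_mul, zero_mul] at this
    rw [← this]
    refine Finset.sum_congr rfl fun i _ => ?_
    rw [Algebra.smul_def, Algebra.smul_def]; ring
  have h2 : ∑ i, ∑ j, m i * (p.2 i j • y' j) = s' - s := by
    simp only [← Finset.mul_sum]
    rw [Fin.sum_univ_succ, Fin.sum_univ_succ]
    rw [hy0, hm0]
    have : (Fin.succ 0 : Fin (p.1.1 + 2)) = 1 := rfl
    rw [this, hy1, hm1]
    rw [Finset.sum_eq_zero (fun i _ => by rw [hy2 i, mul_zero])]
    ring
  rw [h1] at h2
  exact (sub_eq_zero.mp h2.symm).symm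

theorem good_exists {R S : Type u} [CommRing R] [CommRing S] [Algebra R S] [Algebra.IsEpi R S]
    (s : S) : ∃ p : Σ p : ℕ × ℕ, (Fin (p.1 + 2) → Fin p.2 → R), Good s p := by
  classical
  let P : Submodule R S := Submodule.span R {1, s}
  have hP : P.FG := Submodule.fg_span (by simp)
  have h1P : (1 : S) ∈ P := Submodule.subset_span (by simp)
  have hsP : s ∈ P := Submodule.subset_span (by simp)
  let t : P ⊗[R] S := (⟨1, h1P⟩ : P) ⊗ₜ[R] s - (⟨s, hsP⟩ : P) ⊗ₜ[R] (1 : S)
  have ht : LinearMap.rTensor S P.subtype t = 0 := by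
    simp only [t, map_sub, LinearMap.rTensor_tmul, Submodule.subtype_apply]
    rw [(Algebra.isEpi_iff_forall_one_tmul_eq R S).mp inferInstance s, sub_self]
  obtain ⟨Q, hPQ, hQ, hQt⟩ := TensorProduct.eq_zero_of_fg_of_subtype_eq_zero hP ht
  simp only [t, map_sub, LinearMap.rTensor_tmul] at hQt
  have : Module.Finite R Q := Module.Finite.iff_fg.mpr hQ
  obtain ⟨r, m', hm'⟩ := Module.Finite.exists_fin (R := R) (M := Q)
  let q1 : Q := Submodule.inclusion hPQ ⟨1, h1P⟩
  let qs : Q := Submodule.inclusion hPQ ⟨s, hsP⟩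
  let m : Fin (r + 2) → Q := Fin.cons q1 (Fin.cons qs m')
  let n : Fin (r + 2) → S := Fin.cons s (Fin.cons (-1) (fun _ => 0))
  have hm : Submodule.span R (Set.range m) = ⊤ := by
    rw [eq_top_iff, ← hm']
    apply Submodule.span_mono
    rintro _ ⟨i, rfl⟩
    exact ⟨i.succ.succ, by simp [m]⟩
  have hmn : ∑ i, m i ⊗ₜ[R] n i = 0 := by
    rw [Fin.sum_univ_succ, Fin.sum_univ_succ]
    simp only [m, n, Fin.cons_zero, Fin.cons_succ, TensorProduct.tmul_zero,
      Finset.sum_const_zero, add_zero, TensorProduct.tmul_neg]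
    rw [← hQt, sub_eq_add_neg]
  obtain ⟨k, a, y, hay, ha⟩ := TensorProduct.vanishesTrivially_of_sum_tmul_eq_zero R hm hmn
  refine ⟨⟨(r, k), a⟩, fun i => (m i : S), y, ?_, ?_, ?_, ?_, ?_, ?_⟩
  · simp [m, q1]
  · show ((m (Fin.succ 0) : Q) : S) = s
    simp [m, qs]
  · intro j
    have := congrArg (Q.subtype) (ha j)
    simpa using this
  · have := hay 0
    simpa [n] using this.symm
  · have := hay (Fin.succ 0)
    simpa [n] using this.symm
  · intro i
    have := hay i.succ.succ
    simpa [n] using this.symm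

/-- For an infinite source ring: if R → S is an epimorphism of rings with R infinite, then |S| ≤ |R| as
cardinals. (For finite R the published statement also asserts |S| ≤ |R|, but its proof only gives
that S is countable and omits the rest, so that case is not included.) -/
theorem result (R S : Type u) [CommRing R] [CommRing S] [Algebra R S] [Algebra.IsEpi R S]
    [Infinite R] : Cardinal.mk S ≤ Cardinal.mk R := by
  choose φ hφ using good_exists (R := R) (S := S)
  have hinj : Function.Injective φ := by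
    intro s s' hss'
    exact good_unique s s' (φ s) (hφ s) (hss' ▸ hφ s')
  exact (Cardinal.mk_le_of_injective hinj).trans (mk_sigma_le R)

end Groth.Agent.S6375
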