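import Groth.Statements.S6378
import Mathlib
import Groth.Agent.Lib.Helper13Tor
-- import your own Groth.Agent.* helpers here

set_option autoImplicit false
universe u
open CategoryTheory
open CAlg

namespace Groth.Agent.S6378

open CategoryTheory CategoryTheory.Limits in
theorem aux {R : Type u} [CommRing R] [IsLocalRing R] (M : ModuleCat.{u} R)
    (h : IsZero (((Tor (ModuleCat.{u} R) 1).obj
      (ModuleCat.of R (IsLocalRing.ResidueField R))).obj M))
    (N : Type u) [AddCommGroup N] [Module R N] (hN : IsFiniteLength R N) :
    IsZero (((Tor (ModuleCat.{u} R) 1).obj (ModuleCat.of R N)).obj M) := by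
  induction hN with
  | @of_subsingleton N _ _ _ =>
    have : Module.Flat R (ModuleCat.of R N) := inferInstanceAs (Module.Flat R N)
    exact Groth.Agent.Helper13Tor.isZero_tor_of_flat M (ModuleCat.of R N) 1 (by omega)
  | @of_simple_quotient N _ _ N' hsimple hN' ih =>
    obtain ⟨I, hI, ⟨e⟩⟩ := isSimpleModule_iff_quot_maximal.1 hsimple
    have hIm : I = IsLocalRing.maximalIdeal R := IsLocalRing.eq_maximalIdeal hI
    subst hIm
    let S : ShortComplex (ModuleCat.{u} R) :=
      ShortComplex.mk (ModuleCat.ofHom N'.subtype) (ModuleCat.ofHom N'.mkQ)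
        (by
          ext x
          show N'.mkQ (x : N) = 0
          rw [Submodule.mkQ_apply, Submodule.Quotient.mk_eq_zero]
          exact x.2)
    have hS : S.ShortExact := by
      refine ShortComplex.ShortExact.mk' ?_ ?_ ?_
      · rw [ShortComplex.ShortExact.moduleCat_exact_iff_function_exact]
        intro x
        constructor
        · intro hx
          have hx' : N'.mkQ x = 0 := hx
          rw [Submodule.mkQ_apply, Submodule.Quotient.mk_eq_zero] at hx'
          exact ⟨⟨x, hx'⟩, rfl⟩
        · rintro ⟨y, rfl⟩
          show N'.mkQ (y : N) = 0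
          rw [Submodule.mkQ_apply, Submodule.Quotient.mk_eq_zero]
          exact y.2
      · rw [ModuleCat.mono_iff_injective]
        exact Subtype.val_injective
      · rw [ModuleCat.epi_iff_surjective]
        exact Submodule.mkQ_surjective N'
    have e' : ModuleCat.of R (N ⧸ N') ≅ ModuleCat.of R (IsLocalRing.ResidueField R) :=
      LinearEquiv.toModuleIso e
    have h₃ : IsZero (((Tor (ModuleCat.{u} R) 1).obj S.X₃).obj M) :=
      IsZero.of_iso h (((Tor (ModuleCat.{u} R) 1).mapIso e').app M)
    exact Groth.Agent.Helper13Tor.isZero_tor_X₂ S hS M 1 ih h₃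

/-- Let (R, m, κ) be a local ring and M an R-module with Tor_1^R(κ, M) = 0. Then Tor_1^R(N, M) = 0 for
every finite length R-module N. -/
theorem result (R : Type u) [CommRing R] [IsLocalRing R]
    (M : Type u) [AddCommGroup M] [Module R M]
    (h : Limits.IsZero (((CategoryTheory.Tor (ModuleCat.{u} R) 1).obj (ModuleCat.of R (IsLocalRing.ResidueField R))).obj (ModuleCat.of R M)))
    (N : Type u) [AddCommGroup N] [Module R N] (hN : IsFiniteLength R N) :
    Limits.IsZero (((CategoryTheory.Tor (ModuleCat.{u} R) 1).obj (ModuleCat.of R N)).obj (ModuleCat.of R M)) := by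
  exact aux (ModuleCat.of R M) h N hN

end Groth.Agent.S6378
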