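import Groth.Statements.S6381
import Mathlib

set_option autoImplicit false
universe u
open CAlg

namespace Groth.Agent.S6381

open Polynomial

set_option linter.unusedSectionVars false

section
variable {R : Type u} [CommRing R] {L : Type u} [Field L]

/-- scaling a polynomial relation to a monic one. -/
theorem scale (φ : R →+* L) (x : L) (r : R[X]) (hne : r.map φ ≠ 0) (h0 : eval₂ φ x r = 0) :
    ∃ G : R[X], G.Monic ∧ G.natDegree = (r.map φ).natDegree ∧
      φ (r.coeff (r.map φ).natDegree) ≠ 0 ∧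
      eval₂ φ (φ (r.coeff (r.map φ).natDegree) * x) G = 0 := by
  obtain ⟨j, hj⟩ : ∃ j, j = (r.map φ).natDegree := ⟨_, rfl⟩
  rw [← hj]
  obtain ⟨b, hb⟩ : ∃ b, b = r.coeff j := ⟨_, rfl⟩
  rw [← hb]
  have hb0 : φ b ≠ 0 := by
    rw [hb, ← coeff_map, hj]
    exact fun h => hne (leadingCoeff_eq_zero.mp h)
  have hev : ∑ i ∈ Finset.range (j + 1), φ (r.coeff i) * x ^ i = 0 := by
    have := eval_eq_sum_range (p := r.map φ) x
    rw [eval_map, h0, ← hj] at this
    rw [this]
    exact Finset.sum_congr rfl fun i _ => by rw [coeff_map]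
  cases j with
  | zero =>
    exfalso
    rw [zero_add, Finset.sum_range_one, pow_zero, mul_one, ← hb] at hev
    exact hb0 hev
  | succ j =>
    obtain ⟨Q, hQ⟩ : ∃ Q : R[X],
        Q = ∑ i ∈ Finset.range (j + 1), monomial i (b ^ (j - i) * r.coeff i) := ⟨_, rfl⟩
    have hQdeg : Q.degree < ((j + 1 : ℕ) : WithBot ℕ) := by
      rw [← mem_degreeLT, hQ]
      refine Submodule.sum_mem _ fun i hi => ?_
      rw [mem_degreeLT]
      rw [Finset.mem_range] at hi
      exact lt_of_le_of_lt (degree_monomial_le _ _) (by exact_mod_cast hi)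
    have hnt : Nontrivial R := φ.domain_nontrivial
    have hnd : (X ^ (j + 1) + Q).natDegree = j + 1 :=
      (natDegree_add_eq_left_of_degree_lt (by rwa [degree_X_pow])).trans (natDegree_X_pow _)
    refine ⟨X ^ (j + 1) + Q, monic_X_pow_add hQdeg, hnd, hb0, ?_⟩
    rw [eval₂_add, eval₂_X_pow, hQ, eval₂_finsetSum]
    rw [Finset.sum_range_succ, ← hb] at hev
    have h1 : ∀ i ∈ Finset.range (j + 1),
        eval₂ φ (φ b * x) (monomial i (b ^ (j - i) * r.coeff i))
          = φ b ^ j * (φ (r.coeff i) * x ^ i) := by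
      intro i hi
      rw [Finset.mem_range] at hi
      rw [eval₂_monomial, map_mul, map_pow, mul_pow]
      have : φ b ^ j = φ b ^ (j - i) * φ b ^ i := by
        rw [← pow_add]
        congr 1
        omega
      rw [this]
      ring
    rw [Finset.sum_congr rfl h1, ← Finset.mul_sum, mul_pow, pow_succ (φ b) j]
    have : φ b ^ j * φ b * x ^ (j + 1) + φ b ^ j * ∑ i ∈ Finset.range (j + 1), φ (r.coeff i) * x ^ i
        = φ b ^ j * (∑ i ∈ Finset.range (j + 1), φ (r.coeff i) * x ^ i + φ b * x ^ (j + 1)) := by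
      ring
    rw [this, hev, mul_zero]

/-- minimal choice of scaling and monic polynomial. -/
theorem exists_min (φ : R →+* L) (θ : L) (halg : ∃ g : R[X], g.map φ ≠ 0 ∧ eval₂ φ θ g = 0) :
    ∃ (c : R) (F : R[X]), φ c ≠ 0 ∧ F.Monic ∧ eval₂ φ (φ c * θ) F = 0 ∧
      ∀ (c' : R) (G : R[X]), φ c' ≠ 0 → G.Monic → eval₂ φ (φ c' * θ) G = 0 →
        F.natDegree ≤ G.natDegree := by
  classical
  have hex : ∃ n : ℕ, ∃ (c : R) (F : R[X]), φ c ≠ 0 ∧ F.Monic ∧ eval₂ φ (φ c * θ) F = 0 ∧
      F.natDegree = n := by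
    obtain ⟨g, hg, hg0⟩ := halg
    obtain ⟨G, hG, -, hc, hG0⟩ := scale φ θ g hg hg0
    exact ⟨_, _, G, hc, hG, hG0, rfl⟩
  obtain ⟨c, F, hc, hF, hF0, hFn⟩ := Nat.find_spec hex
  refine ⟨c, F, hc, hF, hF0, fun c' G hc' hG hG0 => ?_⟩
  rw [hFn]
  exact Nat.find_min' hex ⟨c', G, hc', hG, hG0, rfl⟩

theorem map_eq_zero_of_lt (φ : R →+* L) (θ : L) (c : R) (hc : φ c ≠ 0) (F : R[X])
    (hmin : ∀ (c' : R) (G : R[X]), φ c' ≠ 0 → G.Monic → eval₂ φ (φ c' * θ) G = 0 →
        F.natDegree ≤ G.natDegree)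
    (r : R[X]) (hr : r.natDegree < F.natDegree) (hr0 : eval₂ φ (φ c * θ) r = 0) :
    r.map φ = 0 := by
  by_contra hne
  obtain ⟨G, hG, hGd, hb, hG0⟩ := scale φ (φ c * θ) r hne hr0
  rw [← mul_assoc, ← map_mul] at hG0
  have h1 := hmin _ G (by rw [map_mul]; exact mul_ne_zero hb hc) hG hG0
  have h2 : (r.map φ).natDegree ≤ r.natDegree := natDegree_map_le
  omega

theorem ker_lift (φ : R →+* L) (P : Ideal R) (hker : RingHom.ker φ = P) (θ' : L) (F : R[X])
    (hF : F.Monic) (hF0 : eval₂ φ θ' F = 0)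
    (hmin : ∀ r : R[X], r.natDegree < F.natDegree → eval₂ φ θ' r = 0 → r.map φ = 0) :
    RingHom.ker (AdjoinRoot.lift φ θ' hF0) = P.map (algebraMap R (AdjoinRoot F)) := by
  have hF1 : F ≠ 1 := by
    rintro rfl
    simp at hF0
  apply le_antisymm
  · intro x hx
    obtain ⟨g, rfl⟩ := AdjoinRoot.mk_surjective x
    rw [RingHom.mem_ker, AdjoinRoot.lift_mk] at hx
    have hdiv := modByMonic_add_div g F
    have hmk : AdjoinRoot.mk F g = AdjoinRoot.mk F (g %ₘ F) := by
      conv_lhs => rw [← hdiv]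
      rw [map_add, map_mul, AdjoinRoot.mk_self, zero_mul, add_zero]
    have hr0 : eval₂ φ θ' (g %ₘ F) = 0 := by
      have := congrArg (eval₂ φ θ') hdiv
      rw [eval₂_add, eval₂_mul, hF0, zero_mul, add_zero] at this
      rw [this, hx]
    have hlt : (g %ₘ F).natDegree < F.natDegree := natDegree_modByMonic_lt g hF hF1
    have hz := hmin (g %ₘ F) hlt hr0
    rw [hmk]
    have hcoef : ∀ i, (g %ₘ F).coeff i ∈ P := by
      intro i
      rw [← hker, RingHom.mem_ker, ← coeff_map, hz, coeff_zero]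
    rw [(g %ₘ F).as_sum_range_C_mul_X_pow, map_sum]
    refine Ideal.sum_mem _ fun i _ => ?_
    rw [map_mul, map_pow, AdjoinRoot.mk_C]
    exact Ideal.mul_mem_right _ _ (Ideal.mem_map_of_mem _ (hcoef i))
  · rw [Ideal.map_le_iff_le_comap]
    intro a ha
    rw [Ideal.mem_comap, RingHom.mem_ker, AdjoinRoot.algebraMap_eq, AdjoinRoot.lift_of,
      ← RingHom.mem_ker, hker]
    exact ha

theorem adjoin_step (φ : R →+* L) (P : Ideal R) (hker : RingHom.ker φ = P) (θ : L)
    (halg : ∃ g : R[X], g.map φ ≠ 0 ∧ eval₂ φ θ g = 0) :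
    ∃ (S : Type u) (_ : CommRing S) (_ : Algebra R S),
      Module.Finite R S ∧ Module.Free R S ∧
      ∃ φ₁ : S →+* L, φ₁.comp (algebraMap R S) = φ ∧
        RingHom.ker φ₁ = P.map (algebraMap R S) ∧
        ∃ c : R, φ c ≠ 0 ∧ φ c * θ ∈ Set.range φ₁ := by
  obtain ⟨c, F, hc, hF, hF0, hmin⟩ := exists_min φ θ halg
  obtain ⟨φ₁, hφ₁⟩ : ∃ φ₁ : AdjoinRoot F →+* L, φ₁ = AdjoinRoot.lift φ (φ c * θ) hF0 := ⟨_, rfl⟩
  have hk := ker_lift φ P hker (φ c * θ) F hF hF0
    (fun r hr hr0 => map_eq_zero_of_lt φ θ c hc F hmin r hr hr0)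
  rw [← hφ₁] at hk
  have hcomp : φ₁.comp (algebraMap R (AdjoinRoot F)) = φ := by
    rw [hφ₁]
    ext a
    rw [RingHom.comp_apply, AdjoinRoot.algebraMap_eq, AdjoinRoot.lift_of]
  exact ⟨AdjoinRoot F, inferInstance, inferInstance, hF.finite_adjoinRoot, hF.free_adjoinRoot,
    φ₁, hcomp, hk, c, hc, ⟨AdjoinRoot.root F, by rw [hφ₁, AdjoinRoot.lift_root]⟩⟩

end

theorem induct (n : ℕ) : ∀ (R : Type u) [CommRing R] (L : Type u) [Field L]
    (φ : R →+* L) (P : Ideal R) (_ : RingHom.ker φ = P)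
    (_ : ∀ θ : L, ∃ g : R[X], g.map φ ≠ 0 ∧ eval₂ φ θ g = 0)
    (s : Finset L) (_ : s.card = n) (_ : Subfield.closure (Set.range φ ∪ ↑s) = ⊤),
    ∃ (S : Type u) (_ : CommRing S) (_ : Algebra R S),
      Module.Finite R S ∧ Module.Free R S ∧
      ∃ ψ : S →+* L, ψ.comp (algebraMap R S) = φ ∧
        RingHom.ker ψ = P.map (algebraMap R S) ∧
        Subfield.closure (Set.range ψ) = ⊤ := by
  induction n with
  | zero =>
    intro R _ L _ φ P hker halg s hs hgen
    have hs0 : s = ∅ := Finset.card_eq_zero.mp hs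
    rw [hs0, Finset.coe_empty, Set.union_empty] at hgen
    refine ⟨R, inferInstance, Algebra.id R, inferInstance, inferInstance, φ, rfl, ?_, hgen⟩
    rw [hker]
    exact (Ideal.map_id _).symm
  | succ n ih =>
    intro R _ L _ φ P hker halg s hs hgen
    classical
    obtain ⟨θ, hθ⟩ : ∃ θ, θ ∈ s := Finset.card_pos.mp (by omega)
    obtain ⟨S₁, _, _, hfin, hfree, φ₁, hcomp, hker₁, c, hc, hθ₁⟩ :=
      adjoin_step φ P hker θ (halg θ)
    have hrange : ∀ a : R, φ a ∈ Set.range φ₁ := fun a =>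
      ⟨algebraMap R S₁ a, by rw [← hcomp]; rfl⟩
    have hgen₁ : Subfield.closure (Set.range φ₁ ∪ ↑(s.erase θ)) = ⊤ := by
      rw [eq_top_iff, ← hgen, Subfield.closure_le]
      rintro x (⟨a, rfl⟩ | hx)
      · exact Subfield.subset_closure (Or.inl (hrange a))
      · by_cases hxθ : x = θ
        · have h1 : φ c * θ ∈ Subfield.closure (Set.range φ₁ ∪ ↑(s.erase θ)) :=
            Subfield.subset_closure (Or.inl hθ₁)
          have h2 : φ c ∈ Subfield.closure (Set.range φ₁ ∪ ↑(s.erase θ)) :=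
            Subfield.subset_closure (Or.inl (hrange c))
          have h3 : θ = (φ c * θ) / φ c := by
            field_simp
          rw [hxθ, SetLike.mem_coe]
          have h4 := div_mem h1 h2
          rwa [← h3] at h4
        · exact Subfield.subset_closure
            (Or.inr (Finset.mem_coe.mpr (Finset.mem_erase.mpr ⟨hxθ, hx⟩)))
    have halg₁ : ∀ θ : L, ∃ g : S₁[X], g.map φ₁ ≠ 0 ∧ eval₂ φ₁ θ g = 0 := by
      intro θ
      obtain ⟨g, hg, hg0⟩ := halg θ
      refine ⟨g.map (algebraMap R S₁), ?_, ?_⟩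
      · rw [Polynomial.map_map, hcomp]
        exact hg
      · rw [eval₂_map, hcomp]
        exact hg0
    obtain ⟨S₂, _, _, hfin₂, hfree₂, ψ, hψc, hψk, hψg⟩ :=
      ih S₁ L φ₁ (P.map (algebraMap R S₁)) hker₁ halg₁ (s.erase θ)
        (by rw [Finset.card_erase_of_mem hθ, hs]; rfl) hgen₁
    let _ : Algebra R S₂ := ((algebraMap S₁ S₂).comp (algebraMap R S₁)).toAlgebra
    have hst : IsScalarTower R S₁ S₂ := IsScalarTower.of_algebraMap_eq (fun _ => rfl)
    refine ⟨S₂, inferInstance, inferInstance, Module.Finite.trans S₁ S₂,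
      Module.Free.trans (R := R) (S := S₁) (M := S₂), ψ, ?_, ?_, hψg⟩
    · change ψ.comp ((algebraMap S₁ S₂).comp (algebraMap R S₁)) = φ
      rw [← RingHom.comp_assoc, hψc, hcomp]
    · rw [hψk, Ideal.map_map]
      rfl


/-- Let R be a ring, p ⊆ R a prime and L a finite extension of the residue field κ(p). Then one can find
a ring map R → S, with S finite free over R, for which q = pS is a prime of S and the residue field
κ(q) is isomorphic to L over κ(p) (stated as a ring isomorphism κ(q) ≅ L compatible with the maps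
from R, which determines compatibility with κ(p)). -/
theorem result (R : Type u) [CommRing R] (p : Ideal R) [p.IsPrime]
    (L : Type u) [Field L] [Algebra p.ResidueField L] [FiniteDimensional p.ResidueField L]
    [Algebra R L] [IsScalarTower R p.ResidueField L] :
    ∃ (S : Type u) (_ : CommRing S) (_ : Algebra R S) (_ : Module.Finite R S) (_ : Module.Free R S)
      (_ : (p.map (algebraMap R S)).IsPrime)
      (e : (p.map (algebraMap R S)).ResidueField ≃+* L),
      ∀ r : R, e (algebraMap R (p.map (algebraMap R S)).ResidueField r) = algebraMap R L r := by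
  classical
  obtain ⟨φ, hφ⟩ : ∃ φ : R →+* L, φ = algebraMap R L := ⟨_, rfl⟩
  have hφ' : ∀ x, φ x = algebraMap p.ResidueField L (algebraMap R p.ResidueField x) := fun x => by
    rw [hφ]
    exact IsScalarTower.algebraMap_apply R p.ResidueField L x
  have hker : RingHom.ker φ = p := by
    ext x
    rw [RingHom.mem_ker, hφ', map_eq_zero_iff _ (algebraMap p.ResidueField L).injective,
      Ideal.algebraMap_residueField_eq_zero]
  let _ : Algebra (R ⧸ p) L :=
    ((algebraMap p.ResidueField L).comp (algebraMap (R ⧸ p) p.ResidueField)).toAlgebra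
  have hst : IsScalarTower (R ⧸ p) p.ResidueField L := IsScalarTower.of_algebraMap_eq (fun _ => rfl)
  have hqφ : ∀ x : R, algebraMap (R ⧸ p) L (Ideal.Quotient.mk p x) = φ x := by
    intro x
    rw [hφ']
    change algebraMap p.ResidueField L (algebraMap (R ⧸ p) p.ResidueField (Ideal.Quotient.mk p x)) = _
    congr 1
  have hinj : Function.Injective (algebraMap (R ⧸ p) L) :=
    (algebraMap p.ResidueField L).injective.comp (IsFractionRing.injective (R ⧸ p) p.ResidueField)
  have hcomp : (algebraMap (R ⧸ p) L).comp (Ideal.Quotient.mk p) = φ := RingHom.ext hqφ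
  have halg : ∀ θ : L, ∃ g : R[X], g.map φ ≠ 0 ∧ eval₂ φ θ g = 0 := by
    intro θ
    have h1 : IsAlgebraic p.ResidueField θ := Algebra.IsAlgebraic.isAlgebraic θ
    have h2 : IsAlgebraic (R ⧸ p) θ :=
      (IsFractionRing.isAlgebraic_iff (R ⧸ p) p.ResidueField L).mpr h1
    obtain ⟨f, hf, hf0⟩ := h2
    obtain ⟨g, rfl⟩ := Polynomial.map_surjective (Ideal.Quotient.mk p)
      Ideal.Quotient.mk_surjective f
    refine ⟨g, ?_, ?_⟩
    · rw [← hcomp, ← Polynomial.map_map]
      exact (Polynomial.map_ne_zero_iff hinj).mpr hf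
    · rw [← hcomp, ← eval₂_map]
      exact hf0
  obtain ⟨s, hs⟩ := (Module.Finite.fg_top : (⊤ : Submodule p.ResidueField L).FG)
  have hgen : Subfield.closure (Set.range φ ∪ ↑s) = ⊤ := by
    rw [eq_top_iff]
    intro x hxtop
    have hx : x ∈ Submodule.span p.ResidueField (s : Set L) := hs ▸ Submodule.mem_top
    clear hxtop
    induction hx using Submodule.span_induction with
    | mem x hx => exact Subfield.subset_closure (Or.inr hx)
    | zero => exact zero_mem _
    | add x y _ _ hx hy => exact add_mem hx hy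
    | smul c x _ hx =>
      obtain ⟨a, b, -, rfl⟩ := IsFractionRing.div_surjective (A := R ⧸ p) c
      obtain ⟨a, rfl⟩ := Ideal.Quotient.mk_surjective a
      obtain ⟨b, rfl⟩ := Ideal.Quotient.mk_surjective b
      rw [Algebra.smul_def, map_div₀]
      have ha : algebraMap p.ResidueField L (algebraMap (R ⧸ p) p.ResidueField
          (Ideal.Quotient.mk p a)) = φ a := hqφ a
      have hb : algebraMap p.ResidueField L (algebraMap (R ⧸ p) p.ResidueField
          (Ideal.Quotient.mk p b)) = φ b := hqφ b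
      rw [ha, hb]
      refine mul_mem (div_mem ?_ ?_) hx
      · exact Subfield.subset_closure (Or.inl ⟨a, rfl⟩)
      · exact Subfield.subset_closure (Or.inl ⟨b, rfl⟩)
  obtain ⟨S, _, _, hfin, hfree, ψ, hψc, hψk, hψg⟩ := induct s.card R L φ p hker halg s rfl hgen
  have hq : (p.map (algebraMap R S)).IsPrime := hψk ▸ RingHom.ker_isPrime ψ
  refine ⟨S, inferInstance, inferInstance, hfin, hfree, hq, ?_⟩
  have hle : ∀ a ∈ p.map (algebraMap R S), ψ a = 0 := fun a ha => by
    rw [← RingHom.mem_ker, hψk]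
    exact ha
  let _ : Algebra (S ⧸ p.map (algebraMap R S)) L :=
    (Ideal.Quotient.lift (p.map (algebraMap R S)) ψ hle).toAlgebra
  have hinj' : Function.Injective (algebraMap (S ⧸ p.map (algebraMap R S)) L) :=
    RingHom.lift_injective_of_ker_le_ideal _ hle hψk.le
  have hfs : FaithfulSMul (S ⧸ p.map (algebraMap R S)) L :=
    (faithfulSMul_iff_algebraMap_injective _ _).mpr hinj'
  have hfrac : IsFractionRing (S ⧸ p.map (algebraMap R S)) L := by
    refine IsFractionRing.of_field _ _ fun z => ?_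
    have hz : z ∈ Subfield.closure (Set.range ψ) := hψg ▸ Subfield.mem_top z
    rw [Subfield.mem_closure_iff] at hz
    obtain ⟨y, hy, w, hw, rfl⟩ := hz
    have hcl : Subring.closure (Set.range ψ) = ψ.range := by
      rw [← RingHom.coe_range]
      exact Subring.closure_eq _
    rw [hcl] at hy hw
    obtain ⟨a, rfl⟩ := hy
    obtain ⟨b, rfl⟩ := hw
    exact ⟨Ideal.Quotient.mk _ a, Ideal.Quotient.mk _ b, rfl⟩
  refine ⟨(IsLocalization.algEquiv (nonZeroDivisors (S ⧸ p.map (algebraMap R S)))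
    (p.map (algebraMap R S)).ResidueField L).toRingEquiv, fun r => ?_⟩
  have h1 : algebraMap R (p.map (algebraMap R S)).ResidueField r
      = algebraMap (S ⧸ p.map (algebraMap R S)) (p.map (algebraMap R S)).ResidueField
          (Ideal.Quotient.mk _ (algebraMap R S r)) :=
    IsScalarTower.algebraMap_apply R (S ⧸ p.map (algebraMap R S)) _ r
  rw [h1]
  have h2 := (IsLocalization.algEquiv (nonZeroDivisors (S ⧸ p.map (algebraMap R S)))
    (p.map (algebraMap R S)).ResidueField L).commutes (Ideal.Quotient.mk _ (algebraMap R S r))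
  refine h2.trans ?_
  change ψ (algebraMap R S r) = _
  rw [← RingHom.comp_apply, hψc, hφ]

end Groth.Agent.S6381
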