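import Groth.Statements.S6382
import Mathlib
import Groth.Agent.Lib.Helper5SquareFlat

set_option autoImplicit false
universe u
open CAlg

namespace Groth.Agent.S6382

/-- Consider a commutative square of local rings and local homomorphisms R → S, R → R', S → S', R' → S',
and a finite S-module M. Assume the maps R → R' and S → S' are flat, M is flat over R, the maximal
ideal of R generates the maximal ideal of R', and R', S' are Noetherian. Then M' = M ⊗_S S' (any
base change of M along S → S') is flat over R'. -/
theorem result (R S R' S' : Type u) [CommRing R] [CommRing S]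
    [CommRing R'] [CommRing S'] [IsLocalRing R] [IsLocalRing S] [IsLocalRing R'] [IsLocalRing S']
    [Algebra R S] [Algebra R R'] [Algebra S S'] [Algebra R' S'] [Algebra R S']
    [IsScalarTower R S S'] [IsScalarTower R R' S']
    [IsLocalHom (algebraMap R S)] [IsLocalHom (algebraMap R R')] [IsLocalHom (algebraMap S S')]
    [IsLocalHom (algebraMap R' S')] [Module.Flat R R'] [Module.Flat S S']
    [IsNoetherianRing R'] [IsNoetherianRing S']
    (hm : (IsLocalRing.maximalIdeal R).map (algebraMap R R') = IsLocalRing.maximalIdeal R')
    (M : Type u) [AddCommGroup M] [Module S M] [Module R M] [IsScalarTower R S M] [Module.Finite S M]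
    [Module.Flat R M]
    (M' : Type u) [AddCommGroup M'] [Module S' M'] [Module S M'] [IsScalarTower S S' M'] [Module R' M']
    [IsScalarTower R' S' M'] (j : M →ₗ[S] M') (hj : IsBaseChange S' j) :
    Module.Flat R' M' := by
  -- `T = S' ⊗_S M` is flat over `R`
  have hT : Module.Flat R (TensorProduct S S' M) :=
    Groth.Agent.Lib.Helper5.flat_tensorProduct_of_flat_of_flat M
  -- local criterion over `R'`
  have hfin : Module.Finite S' (TensorProduct S S' M) := inferInstance
  have key : ∀ J : Ideal R', J = (IsLocalRing.maximalIdeal R).map (algebraMap R R') →
      Function.Injective (J.subtype.lTensor (TensorProduct S S' M)) := by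
    intro J hJ
    subst hJ
    exact Groth.Agent.Lib.Helper5.lTensor_map_subtype_injective_of_flat (R := R) (S := R')
      (TensorProduct S S' M) (IsLocalRing.maximalIdeal R)
  have hflat : Module.Flat R' (TensorProduct S S' M) := by
    apply Groth.Agent.Lib.Helper5.flat_of_lTensor_maximalIdeal_injective (A := R') (B := S')
      (TensorProduct S S' M)
    · rw [IsLocalRing.jacobson_eq_maximalIdeal ⊥ bot_ne_top]
      exact IsLocalRing.map_maximalIdeal_le (algebraMap R' S')
    · exact key _ hm.symm
  exact Module.Flat.of_linearEquiv (hj.equiv.restrictScalars R').symm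

end Groth.Agent.S6382
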