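import Groth.Statements.S6385
import Mathlib
import Groth.Agent.Lib.Helper5IntDim

set_option autoImplicit false
universe u
open CAlg

namespace Groth.Agent.S6385

section aux

theorem main (k S : Type u) [Field k] [CommRing S] [Algebra k S]
    [Algebra.FiniteType k S] (q : Ideal S) [q.IsPrime] :
    ∃ (g : S) (d : ℕ), g ∉ q ∧ ringKrullDim (Localization.Away g) = d ∧
      (∀ g' : S, g' ∉ q → ringKrullDim (Localization.Away g) ≤ ringKrullDim (Localization.Away g')) ∧
      ∃ φ : MvPolynomial (Fin d) k →ₐ[k] Localization.Away g, Function.Injective φ ∧ φ.toRingHom.Finite := by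
  have hwf : WellFounded (fun a b : {g' : S // g' ∉ q} =>
      ringKrullDim (Localization.Away a.1) < ringKrullDim (Localization.Away b.1)) :=
    InvImage.wf (fun a : {g' : S // g' ∉ q} => ringKrullDim (Localization.Away a.1)) wellFounded_lt
  have h1 : (1 : S) ∉ q := fun h => (Ideal.IsPrime.ne_top ‹_›) (q.eq_top_of_isUnit_mem h isUnit_one)
  obtain ⟨g, -, hg⟩ := hwf.has_min Set.univ ⟨⟨1, h1⟩, trivial⟩
  have hmin : ∀ g' : S, g' ∉ q →
      ringKrullDim (Localization.Away g.1) ≤ ringKrullDim (Localization.Away g') :=
    fun g' hg' => not_lt.1 (hg ⟨g', hg'⟩ trivial)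
  -- nontriviality
  haveI : Nontrivial (Localization.Away g.1) := by
    rw [← not_subsingleton_iff_nontrivial]
    intro hsub
    have h0 := (IsLocalization.subsingleton_iff (M := Submonoid.powers g.1)
      (S := Localization.Away g.1)).1 hsub
    obtain ⟨n, hn⟩ := h0
    have hn' : g.1 ^ n = 0 := hn
    exact g.2 (Ideal.IsPrime.mem_of_pow_mem ‹_› n (hn'.symm ▸ q.zero_mem))
  haveI : Algebra.FiniteType k (Localization.Away g.1) :=
    Algebra.FiniteType.trans (inferInstance : Algebra.FiniteType k S)
      (IsLocalization.finiteType_of_monoid_fg (Submonoid.powers g.1) (Localization.Away g.1))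
  obtain ⟨d, φ, hinj, hfin⟩ := exists_finite_inj_algHom_of_fg k (Localization.Away g.1)
  refine ⟨g.1, d, g.2, ?_, hmin, φ, hinj, hfin⟩
  have hfin' : φ.toRingHom.Finite := hfin
  algebraize [φ.toRingHom]
  haveI : Algebra.IsIntegral (MvPolynomial (Fin d) k) (Localization.Away g.1) :=
    Algebra.IsIntegral.of_finite _ _
  have := Groth.Agent.Lib.Helper5.ringKrullDim_eq_of_isIntegral_of_injective
    (MvPolynomial (Fin d) k) (Localization.Away g.1) hinj
  rw [this, MvPolynomial.ringKrullDim_of_isNoetherianRing]
  simp


end aux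

/-- Let k be a field, S a finite type k-algebra, q a prime of S and x the corresponding point of X =
Spec S. Then there is g ∈ S, g ∉ q, such that dim S_g equals dim_x X — the minimum of dim S_{g'}
over all g' ∉ q — and, writing d for this dimension, a finite injective k-algebra map from the
polynomial ring k[y_1, ..., y_d] to S_g. -/
theorem result (k S : Type u) [Field k] [CommRing S] [Algebra k S]
    [Algebra.FiniteType k S] (q : Ideal S) [q.IsPrime] :
    ∃ (g : S) (d : ℕ), g ∉ q ∧ ringKrullDim (Localization.Away g) = d ∧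
      (∀ g' : S, g' ∉ q → ringKrullDim (Localization.Away g) ≤ ringKrullDim (Localization.Away g')) ∧
      ∃ φ : MvPolynomial (Fin d) k →ₐ[k] Localization.Away g, Function.Injective φ ∧ φ.toRingHom.Finite := by
  exact main k S q

end Groth.Agent.S6385
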