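import Groth.Statements.S6386
import Mathlib

set_option autoImplicit false
universe u
open CAlg

namespace Groth.Agent.S6386

open Cardinal

section
variable {A B : Type u} [CommRing A] [CommRing B] [Algebra A B]

/-- witnesses for the triviality of a relation -/
noncomputable def W [Module.Flat A B] (t : Σ l : ℕ, (Fin l → A) × (Fin l → B)) : Set B :=
  open Classical in
  if h : ∑ i, t.2.1 i • t.2.2 i = 0 then
    Set.range (Module.Flat.isTrivialRelation_of_sum_smul_eq_zero (R := A) (M := B) h).choose_spec.choose_spec.choose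
  else ∅

theorem W_finite [Module.Flat A B] (t : Σ l : ℕ, (Fin l → A) × (Fin l → B)) :
    (W t).Finite := by
  unfold W
  split_ifs
  · exact Set.finite_range _
  · exact Set.finite_empty

theorem W_spec [Module.Flat A B] (t : Σ l : ℕ, (Fin l → A) × (Fin l → B))
    (h : ∑ i, t.2.1 i • t.2.2 i = 0) :
    ∃ (k : ℕ) (a : Fin t.1 → Fin k → A) (y : Fin k → B),
      (∀ j, y j ∈ W t) ∧ (∀ i, t.2.2 i = ∑ j, a i j • y j) ∧ ∀ j, ∑ i, t.2.1 i * a i j = 0 := by
  have H := Module.Flat.isTrivialRelation_of_sum_smul_eq_zero (R := A) (M := B) h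
  refine ⟨H.choose, H.choose_spec.choose, H.choose_spec.choose_spec.choose, ?_,
    H.choose_spec.choose_spec.choose_spec⟩
  intro j
  unfold W
  rw [dif_pos h]
  exact ⟨j, rfl⟩

/-- one closure step -/
noncomputable def step [Module.Flat A B] (S : Subalgebra A B) : Subalgebra A B :=
  Algebra.adjoin A ((S : Set B) ∪
    ⋃ t : (Σ l : ℕ, (Fin l → A) × (Fin l → S)),
      W (A := A) (B := B) ⟨t.1, t.2.1, fun i => (t.2.2 i : B)⟩)

theorem le_step [Module.Flat A B] (S : Subalgebra A B) : S ≤ step S := by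
  intro x hx
  exact Algebra.subset_adjoin (Or.inl hx)

theorem step_spec [Module.Flat A B] (S : Subalgebra A B) {l : ℕ} (f : Fin l → A) (x : Fin l → B)
    (hx : ∀ i, x i ∈ S) (h : ∑ i, f i • x i = 0) :
    ∃ (k : ℕ) (a : Fin l → Fin k → A) (y : Fin k → B),
      (∀ j, y j ∈ step S) ∧ (∀ i, x i = ∑ j, a i j • y j) ∧ ∀ j, ∑ i, f i * a i j = 0 := by
  obtain ⟨k, a, y, hy, h1, h2⟩ := W_spec (A := A) (B := B) ⟨l, f, x⟩ h
  refine ⟨k, a, y, ?_, h1, h2⟩
  intro j
  refine Algebra.subset_adjoin (Or.inr ?_)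
  refine Set.mem_iUnion.mpr ⟨⟨l, f, fun i => ⟨x i, hx i⟩⟩, ?_⟩
  exact hy j

theorem card_step [Module.Flat A B] (S : Subalgebra A B)
    (hS : #S ≤ max #A ℵ₀) : #(step S) ≤ max #A ℵ₀ := by
  have hκ : ℵ₀ ≤ max #A ℵ₀ := le_max_right _ _
  have hT : #(Σ l : ℕ, (Fin l → A) × (Fin l → S)) ≤ max #A ℵ₀ := by
    rw [mk_sigma]
    have : ∀ l : ℕ, #((Fin l → A) × (Fin l → S)) ≤ max #A ℵ₀ := by
      intro l
      rw [mk_prod, mk_arrow, mk_arrow]
      simp only [lift_id, mk_fin, lift_natCast, lift_uzero]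
      refine mul_le_of_le hκ ?_ ?_
      · exact (power_le_power_right (le_max_left _ _)).trans (power_nat_le hκ)
      · exact (power_le_power_right hS).trans (power_nat_le hκ)
    refine (sum_le_sum _ _ this).trans ?_
    rw [sum_const]
    simp only [mk_nat, lift_aleph0, lift_id, lift_uzero]
    exact mul_le_of_le hκ hκ le_rfl
  have hU : #(⋃ t : (Σ l : ℕ, (Fin l → A) × (Fin l → S)),
      W (A := A) (B := B) ⟨t.1, t.2.1, fun i => (t.2.2 i : B)⟩) ≤ max #A ℵ₀ := by
    refine mk_iUnion_le_sum_mk.trans ?_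
    refine (sum_le_sum _ (fun _ => ℵ₀) (fun t => (W_finite _).lt_aleph0.le)).trans ?_
    rw [sum_const']
    exact mul_le_of_le hκ hT hκ
  unfold step
  refine (Algebra.cardinalMk_adjoin_le A _).trans ?_
  refine max_le (max_le (le_max_left _ _) ?_) hκ
  refine (mk_union_le _ _).trans ?_
  exact add_le_of_le hκ hS hU

end

/-- The key step of its proof: let A be a ring, κ = max(|A|, ℵ₀), and B a flat A-algebra. Then every
A-subalgebra E ⊆ B with at most κ elements lies inside a flat A-subalgebra B' ⊆ B with at most κ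
elements. Consequently B is the filtered colimit (union) of its flat A-subalgebras of cardinality at
most κ. -/
theorem result (A B : Type u) [CommRing A] [CommRing B] [Algebra A B]
    [Module.Flat A B] (E : Subalgebra A B) (hE : Cardinal.mk E ≤ max (Cardinal.mk A) Cardinal.aleph0) :
    ∃ B' : Subalgebra A B, E ≤ B' ∧ Module.Flat A B' ∧ Cardinal.mk B' ≤ max (Cardinal.mk A) Cardinal.aleph0 := by
  let Sn : ℕ → Subalgebra A B := fun n => Nat.rec (motive := fun _ => Subalgebra A B) E (fun _ S => step S) n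
  have hSn_succ : ∀ n : ℕ, Sn (n+1) = step (Sn n) := fun n => rfl
  have hmono : Monotone Sn := monotone_nat_of_le_succ (fun n => le_step _)
  have hdir : Directed (· ≤ ·) Sn := hmono.directed_le
  have hcard : ∀ n : ℕ, #(Sn n) ≤ max #A ℵ₀ := by
    intro n
    induction n with
    | zero => exact hE
    | succ n ih => rw [hSn_succ]; exact card_step _ ih
  have hκ : ℵ₀ ≤ max #A ℵ₀ := le_max_right _ _
  refine ⟨⨆ n, Sn n, le_iSup Sn 0, ?_, ?_⟩
  · refine Module.Flat.of_forall_isTrivialRelation ?_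
    intro l f x hfx
    have hx : ∀ i, ∃ n : ℕ, (x i : B) ∈ Sn n := by
      intro i
      have := (x i).2
      rw [← SetLike.mem_coe, Subalgebra.coe_iSup_of_directed hdir] at this
      exact Set.mem_iUnion.mp this
    choose n hn using hx
    obtain ⟨N, hN⟩ := hdir.finite_le n
    have hfx' : ∑ i, f i • (x i : B) = 0 := by
      have := congrArg (Subtype.val) hfx
      simpa using this
    obtain ⟨k, a, y, hy, h1, h2⟩ := step_spec (Sn N) f (fun i => (x i : B))
      (fun i => hN i (hn i)) hfx'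
    have hle : Sn (N+1) ≤ ⨆ n, Sn n := le_iSup Sn (N+1)
    refine ⟨k, a, fun j => ⟨y j, hle (hy j)⟩, ?_, h2⟩
    intro i
    apply Subtype.ext
    rw [h1 i]
    simp
  · have : ((⨆ n, Sn n : Subalgebra A B) : Set B) = ⋃ n, (Sn n : Set B) :=
      Subalgebra.coe_iSup_of_directed hdir
    change #((⨆ n, Sn n : Subalgebra A B) : Set B) ≤ _
    rw [this]
    have h2 := mk_iUnion_le_sum_mk_lift (f := fun n : ℕ => (Sn n : Set B))
    rw [lift_uzero] at h2
    refine h2.trans ?_
    refine (sum_le_sum _ (fun _ => max #A ℵ₀) hcard).trans ?_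
    rw [sum_const]
    simp only [mk_nat, lift_aleph0, lift_id, lift_uzero]
    exact mul_le_of_le hκ hκ le_rfl

end Groth.Agent.S6386
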