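import Groth.Statements.S6387
import Mathlib
import Groth.Agent.Lib.Helper5LocalComplex

set_option autoImplicit false
universe u
open CategoryTheory
open CAlg

namespace Groth.Agent.S6387

/-- Let R and S be Noetherian local rings, R → S a local ring map, and m the maximal ideal of R. Take a
bounded complex F_e → … → F_1 → F_0 of finitely generated S-modules, zero to the left of F_e (a
chain complex C with C_j = 0 for j > e) such that every F_j is flat over R and the complex 0 →
F_e/mF_e → … → F_0/mF_0 (C tensored over S with S/mS) is exact at F_e, …, F_1. Then 0 → F_e → … →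
F_0 is exact at F_e, …, F_1 and the cokernel of F_1 → F_0 (the homology of C in degree 0) is flat
over R. -/
theorem result {R S : Type u} [CommRing R] [CommRing S]
    [IsLocalRing R] [IsLocalRing S] [IsNoetherianRing R] [IsNoetherianRing S] [Algebra R S]
    [IsLocalHom (algebraMap R S)] (C : ChainComplex (ModuleCat.{u} S) ℕ) (e : ℕ)
    (hzero : ∀ j, e < j → Limits.IsZero (C.X j)) (hfin : ∀ j, Module.Finite S (C.X j))
    (hflat : ∀ j, Module.Flat R ((ModuleCat.restrictScalars (algebraMap R S)).obj (C.X j)))
    (hex : ∀ j, 1 ≤ j → j ≤ e →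
      (((MonoidalCategory.tensorLeft
          (ModuleCat.of S (S ⧸ (IsLocalRing.maximalIdeal R).map (algebraMap R S)))).mapHomologicalComplex
          (ComplexShape.down ℕ)).obj C).ExactAt j) :
    (∀ j, 1 ≤ j → j ≤ e → C.ExactAt j) ∧
      Module.Flat R ((ModuleCat.restrictScalars (algebraMap R S)).obj (C.homology 0)) := by
  classical
  -- module structures over `R`
  letI modR : ∀ j, Module R (C.X j) := fun j => Module.compHom (C.X j) (algebraMap R S)
  haveI tower : ∀ j, IsScalarTower R S (C.X j) := fun j =>
    ⟨fun r s x => by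
      show (r • s) • x = algebraMap R S r • (s • x)
      rw [Algebra.smul_def, mul_smul]⟩
  haveI hfin' : ∀ j, Module.Finite S (C.X j) := hfin
  haveI hflat' : ∀ j, Module.Flat R (C.X j) := hflat
  -- elementwise form of the hypothesis
  have hel : ∀ i, i + 1 ≤ e → ∀ x : C.X (i + 1),
      (C.d (i + 1) i).hom x ∈ (IsLocalRing.maximalIdeal R • ⊤ : Submodule R (C.X i)) →
      ∃ y : C.X (i + 2), x - (C.d (i + 2) (i + 1)).hom y ∈
        (IsLocalRing.maximalIdeal R • ⊤ : Submodule R (C.X (i + 1))) := by
    intro i hi x hx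
    have h1 := hex (i + 1) (by omega) hi
    rw [HomologicalComplex.exactAt_iff' _ (i + 2) (i + 1) i (by simp) (by simp),
      ShortComplex.ShortExact.moduleCat_exact_iff_function_exact] at h1
    have h2 : Function.Exact
        ((C.d (i + 2) (i + 1)).hom.lTensor
          (S ⧸ (IsLocalRing.maximalIdeal R).map (algebraMap R S)))
        ((C.d (i + 1) i).hom.lTensor
          (S ⧸ (IsLocalRing.maximalIdeal R).map (algebraMap R S))) := h1
    have hx' : (C.d (i + 1) i).hom x ∈
        (((IsLocalRing.maximalIdeal R).map (algebraMap R S)) • ⊤ : Submodule S (C.X i)) :=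
      (Groth.Agent.Lib.Helper28.mem_map_smul_top_iff _ _).mpr hx
    obtain ⟨y, hy⟩ := Groth.Agent.Lib.Helper5.forall_of_exact_lTensor_quotient _ _ h2 x hx'
    exact ⟨y, (Groth.Agent.Lib.Helper28.mem_map_smul_top_iff _ _).mp hy⟩
  have hdd : ∀ i (p : C.X (i + 2)), (C.d (i + 1) i).hom ((C.d (i + 2) (i + 1)).hom p) = 0 := by
    intro i p
    have := C.d_comp_d (i + 2) (i + 1) i
    exact congr($(this).hom p)
  have hT : ∀ i, i + 1 ≤ e →
      (∀ x : C.X (i + 1), (C.d (i + 1) i).hom x = 0 → ∃ y : C.X (i + 2),
        (C.d (i + 2) (i + 1)).hom y = x) ∧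
      Module.Flat R (C.X i ⧸ LinearMap.range (C.d (i + 1) i).hom) := by
    intro i hi
    exact Groth.Agent.Lib.Helper5.exact_and_flat_coker_of_exact_mod_maximalIdeal
      (C.d (i + 2) (i + 1)).hom (C.d (i + 1) i).hom (hdd i) (hel i hi)
  constructor
  · intro j hj1 hje
    obtain ⟨i, rfl⟩ : ∃ i, j = i + 1 := ⟨j - 1, by omega⟩
    rw [HomologicalComplex.exactAt_iff' _ (i + 2) (i + 1) i (by simp) (by simp),
      ShortComplex.moduleCat_exact_iff]
    intro x hx
    exact (hT i hje).1 x hx
  · -- flatness of the cokernel of `d 1 0`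
    have key0 : Module.Flat R (C.X 0 ⧸ LinearMap.range (C.d 1 0).hom) := by
      by_cases he : 1 ≤ e
      · exact (hT 0 he).2
      · have hsub : Subsingleton (C.X 1) := ModuleCat.subsingleton_of_isZero (hzero 1 (by omega))
        have hbot : LinearMap.range (C.d 1 0).hom = ⊥ := by
          rw [eq_bot_iff]
          rintro _ ⟨y, rfl⟩
          rw [Subsingleton.elim y 0, map_zero]
          exact Submodule.zero_mem _
        have e0 : (C.X 0 ⧸ LinearMap.range (C.d 1 0).hom) ≃ₗ[R] C.X 0 :=
          ((Submodule.Quotient.restrictScalarsEquiv R (LinearMap.range (C.d 1 0).hom)).symm).trans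
            (Submodule.quotEquivOfEqBot _ (by rw [hbot]; rfl))
        exact Module.Flat.of_linearEquiv e0
    -- identify the homology
    let iso : C.homology 0 ≅ ModuleCat.of S (C.X 0 ⧸ LinearMap.range (C.d 1 0).hom) :=
      C.isoHomologyι₀ ≪≫ Limits.IsColimit.coconePointUniqueUpToIso
        (C.opcyclesIsCokernel 1 0 (by simp)) (ModuleCat.cokernelIsColimit (C.d 1 0))
    let eS : (C.homology 0) ≃ₗ[S] (C.X 0 ⧸ LinearMap.range (C.d 1 0).hom) := iso.toLinearEquiv
    let eR : ((ModuleCat.restrictScalars (algebraMap R S)).obj (C.homology 0)) ≃ₗ[R]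
        (C.X 0 ⧸ LinearMap.range (C.d 1 0).hom) :=
      { toFun := fun x => eS x
        invFun := fun y => eS.symm y
        map_add' := fun x y => eS.map_add x y
        map_smul' := fun r x => by
          show eS ((algebraMap R S r) • (show C.homology 0 from x)) = r • eS x
          rw [map_smul, algebraMap_smul]
        left_inv := eS.left_inv
        right_inv := eS.right_inv }
    exact Module.Flat.of_linearEquiv eR

end Groth.Agent.S6387
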