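import Groth.Statements.S6388
import Mathlib.LinearAlgebra.TensorProduct.RightExactness

set_option autoImplicit false
universe u
open CAlg

namespace Groth.Agent.S6388

/-- Let f : M → N and g : M → M' be maps of R-modules and let N' be their pushout, realised as the
quotient of M' × N by the submodule of elements (g x, -f x). Then g dominates f — for every module Q
the kernel of f ⊗ id_Q is contained in the kernel of g ⊗ id_Q — if and only if the canonical map M'
→ N' is universally injective. -/
theorem result (R : Type u) [CommRing R] {M N M' : Type u}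
    [AddCommGroup M] [Module R M] [AddCommGroup N] [Module R N] [AddCommGroup M'] [Module R M']
    (f : M →ₗ[R] N) (g : M →ₗ[R] M') :
    (∀ (Q : Type u) [AddCommGroup Q] [Module R Q], LinearMap.ker (f.rTensor Q) ≤ LinearMap.ker (g.rTensor Q)) ↔
      CAlgX.UniversallyInjective R
        ((LinearMap.range (g.prod (-f))).mkQ ∘ₗ LinearMap.inl R M' N) := by
  set T := LinearMap.range (g.prod (-f)) with hT
  have hex : Function.Exact (g.prod (-f)) T.mkQ := LinearMap.exact_map_mkQ_range _
  -- key identity in the pushout
  have hkey : (T.mkQ ∘ₗ LinearMap.inl R M' N) ∘ₗ g = (T.mkQ ∘ₗ LinearMap.inr R M' N) ∘ₗ f := by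
    ext x
    simp only [LinearMap.coe_comp, Function.comp_apply, LinearMap.inl_apply, LinearMap.inr_apply,
      Submodule.mkQ_apply]
    rw [Submodule.Quotient.eq]
    refine ⟨x, ?_⟩
    simp
  constructor
  · intro hdom Q _ _
    rw [injective_iff_map_eq_zero]
    intro z hz
    rw [LinearMap.rTensor_comp, LinearMap.comp_apply] at hz
    have hex' := rTensor_exact Q hex (Submodule.mkQ_surjective T)
    obtain ⟨y, hy⟩ := (hex' _).mp hz
    have h1 : (f.rTensor Q) y = 0 := by
      have := congrArg ((LinearMap.snd R M' N).rTensor Q) hy
      rw [← LinearMap.comp_apply, ← LinearMap.comp_apply, ← LinearMap.rTensor_comp,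
        ← LinearMap.rTensor_comp] at this
      have e1 : LinearMap.snd R M' N ∘ₗ g.prod (-f) = -f := by ext; simp
      have e2 : LinearMap.snd R M' N ∘ₗ LinearMap.inl R M' N = 0 := by ext; simp
      rw [e1, e2, LinearMap.rTensor_zero, LinearMap.zero_apply, LinearMap.rTensor_neg,
        LinearMap.neg_apply, neg_eq_zero] at this
      exact this
    have h2 : (g.rTensor Q) y = z := by
      have := congrArg ((LinearMap.fst R M' N).rTensor Q) hy
      rw [← LinearMap.comp_apply, ← LinearMap.comp_apply, ← LinearMap.rTensor_comp,
        ← LinearMap.rTensor_comp] at this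
      have e1 : LinearMap.fst R M' N ∘ₗ g.prod (-f) = g := by ext; simp
      have e2 : LinearMap.fst R M' N ∘ₗ LinearMap.inl R M' N = LinearMap.id := by ext; simp
      rw [e1, e2, LinearMap.rTensor_id, LinearMap.id_apply] at this
      exact this
    rw [← h2]
    exact hdom Q h1
  · intro huniv Q _ _ y hy
    rw [LinearMap.mem_ker] at hy ⊢
    apply huniv Q
    rw [map_zero, ← LinearMap.comp_apply, ← LinearMap.rTensor_comp, hkey, LinearMap.rTensor_comp,
      LinearMap.comp_apply, hy, map_zero]

end Groth.Agent.S6388
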