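import Groth.Statements.S6390
import Mathlib
import Groth.Agent.Lib.Helper11Devissage

set_option autoImplicit false
universe u
open scoped Classical
open CAlg

namespace Groth.Agent.S6390

open Groth.Agent.Lib.Helper11Devissage

lemma isCountablyGenerated_of_surjective {R : Type u} [CommRing R] {A B : Type u}
    [AddCommGroup A] [Module R A] [AddCommGroup B] [Module R B] (f : A →ₗ[R] B)
    (hf : Function.Surjective f) (hA : CAlg.IsCountablyGenerated R A) :
    CAlg.IsCountablyGenerated R B := by
  obtain ⟨s, hs, hspan⟩ := hA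
  refine ⟨f '' s, hs.image f, ?_⟩
  rw [← Submodule.map_span, hspan, Submodule.map_top, LinearMap.range_eq_top]
  exact hf

/-- general form of the complement/quotient isomorphism -/
noncomputable def complEquiv₀ {R : Type u} [CommRing R] {M : Type u} [AddCommGroup M] [Module R M]
    (A B C : Submodule R M) (h1 : A ⊓ C = ⊥) (h2 : A ⊔ C = B) :
    C ≃ₗ[R] (↥B ⧸ Submodule.comap B.subtype A) :=
  LinearEquiv.ofBijective
    ((Submodule.mkQ _).comp (Submodule.inclusion (h2 ▸ le_sup_right : C ≤ B)))
    (by
      constructor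
      · rw [injective_iff_map_eq_zero]
        intro c hc
        simp only [LinearMap.coe_comp, Function.comp_apply, Submodule.mkQ_apply,
          Submodule.Quotient.mk_eq_zero, Submodule.mem_comap, Submodule.subtype_apply,
          Submodule.coe_inclusion] at hc
        have : (c : M) ∈ A ⊓ C := ⟨hc, c.2⟩
        rw [h1, Submodule.mem_bot] at this
        exact Subtype.ext this
      · intro y
        obtain ⟨⟨x, hx⟩, rfl⟩ := Submodule.mkQ_surjective _ y
        have hx' := hx
        rw [← h2, Submodule.mem_sup] at hx'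
        obtain ⟨a, ha, c, hc, rfl⟩ := hx'
        refine ⟨⟨c, hc⟩, ?_⟩
        simp only [LinearMap.coe_comp, Function.comp_apply, Submodule.mkQ_apply]
        rw [Submodule.Quotient.eq]
        simp only [Submodule.mem_comap, Submodule.subtype_apply, AddSubgroupClass.coe_sub,
          Submodule.coe_inclusion]
        rw [show c - (a + c) = -a by abel]
        exact Submodule.neg_mem _ ha)

section fwd
variable {R : Type u} [CommRing R] {M : Type u} [AddCommGroup M] [Module R M]
  {ι : Type u} [LinearOrder ι] (N : ι → Submodule R M)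

/-- the filtration attached to a well-ordered direct sum decomposition -/
def filt (s : WithTop ι) : Submodule R M := ⨆ i : ι, ⨆ (_ : (i : WithTop ι) < s), N i

lemma filt_mono : Monotone (filt N) := by
  intro s t hst
  refine iSup_mono fun i => ?_
  exact iSup_le fun hi => le_iSup_of_le (lt_of_lt_of_le hi hst) le_rfl

lemma filt_lim (s : WithTop ι) (hs : Order.IsSuccPrelimit s) :
    filt N s = ⨆ t : {t : WithTop ι // t < s}, filt N t.1 := by
  apply le_antisymm
  · refine iSup_le fun i => iSup_le fun hi => ?_
    have hnc : ¬ ((i : WithTop ι) ⋖ s) := hs _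
    rw [not_covBy_iff hi] at hnc
    obtain ⟨c, hic, hcs⟩ := hnc
    refine le_trans ?_ (le_iSup (fun t : {t : WithTop ι // t < s} => filt N t.1) ⟨c, hcs⟩)
    exact le_iSup_of_le i (le_iSup_of_le hic le_rfl)
  · exact iSup_le fun t => filt_mono N t.2.le

lemma filt_top : filt N ⊤ = ⨆ i, N i := by
  unfold filt
  refine iSup_congr fun i => ?_
  simp [WithTop.coe_lt_top]

lemma filt_succ (s t : WithTop ι) (hst : s ⋖ t) :
    ∃ i : ι, s = i ∧ filt N s ⊔ N i = filt N t ∧ filt N s ≤ ⨆ (j : ι) (_ : j ≠ i), N j := by
  have hsne : s ≠ ⊤ := ne_top_of_lt hst.lt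
  obtain ⟨i, rfl⟩ := WithTop.ne_top_iff_exists.mp hsne
  refine ⟨i, rfl, ?_, ?_⟩
  · apply le_antisymm
    · refine sup_le (filt_mono N hst.lt.le) ?_
      exact le_iSup_of_le i (le_iSup_of_le hst.lt le_rfl)
    · refine iSup_le fun j => iSup_le fun hj => ?_
      have hji : (j : WithTop ι) ≤ i := hst.le_of_lt hj
      rw [WithTop.coe_le_coe] at hji
      rcases hji.lt_or_eq with h | h
      · refine le_sup_of_le_left ?_
        exact le_iSup_of_le j (le_iSup_of_le (WithTop.coe_lt_coe.mpr h) le_rfl)
      · rw [h]; exact le_sup_right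
  · refine iSup_le fun j => iSup_le fun hj => ?_
    rw [WithTop.coe_lt_coe] at hj
    exact le_iSup_of_le j (le_iSup_of_le hj.ne le_rfl)

end fwd


/-- An R-module M is a direct sum of countably generated modules if and only if it admits a Kaplansky
dévissage, i.e. an increasing family of submodules (M_s) indexed by a well-ordered set S with M_s =
⋃_{t<s} M_t at non-successor indices (so the first term is 0), ⋃_s M_s = M, and, whenever t is the
successor of s, M_s a direct summand of M_t with M_t/M_s countably generated. -/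
theorem result (R : Type u) [CommRing R] (M : Type u)
    [AddCommGroup M] [Module R M] :
    (∃ (ι : Type u) (N : ι → Submodule R M), DirectSum.IsInternal N ∧ ∀ i, CAlg.IsCountablyGenerated R (N i)) ↔
      ∃ (S : Type u) (_ : LinearOrder S) (_ : WellFoundedLT S) (Mf : S → Submodule R M), Monotone Mf ∧
        (∀ s : S, Order.IsSuccPrelimit s → Mf s = ⨆ t : {t : S // t < s}, Mf t.1) ∧
        (⨆ s, Mf s) = ⊤ ∧
        (∀ s t : S, s ⋖ t → ∃ C : Submodule R M, Mf s ⊓ C = ⊥ ∧ Mf s ⊔ C = Mf t ∧
          CAlg.IsCountablyGenerated R (↥(Mf t) ⧸ Submodule.comap (Mf t).subtype (Mf s))) := by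
  constructor
  · rintro ⟨ι, N, hN, hcg⟩
    have hNtop : (⨆ i, N i) = ⊤ := hN.submodule_iSup_eq_top
    have hNind : iSupIndep N := hN.submodule_iSupIndep
    obtain ⟨_, _⟩ := exists_wellFoundedLT ι
    refine ⟨WithTop ι, inferInstance, inferInstance, filt N, filt_mono N, filt_lim N, ?_, ?_⟩
    · rw [eq_top_iff]
      refine le_trans ?_ (le_iSup (filt N) ⊤)
      rw [filt_top, hNtop]
    · intro s t hst
      obtain ⟨i, rfl, h2, h3⟩ := filt_succ N s t hst
      have h1 : filt N (i : WithTop ι) ⊓ N i = ⊥ := by
        have := hNind i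
        rw [disjoint_iff] at this
        rw [eq_bot_iff, ← this, inf_comm]
        exact inf_le_inf_left _ h3
      refine ⟨N i, h1, h2, ?_⟩
      exact isCountablyGenerated_of_surjective _
        (complEquiv₀ (filt N (i : WithTop ι)) (filt N t) (N i) h1 h2).surjective (hcg i)
  · rintro ⟨S, _, _, Mf, hmono, hlim, htop, hsucc⟩
    choose C hC1 hC2 hC3 using fun p : Step S => hsucc p.1.1 p.1.2 p.2
    have hCtop : iSup C = ⊤ := (isInternal Mf hmono hlim C hC1 hC2 htop).submodule_iSup_eq_top
    refine ⟨Step S, C, (@DirectSum.isInternal_submodule_iff_iSupIndep_and_iSup_eq_top R _ (Step S)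
      (fun a b => Classical.propDecidable (a = b)) M _ _ C).mpr
      ⟨iSupIndep_compl Mf hmono C hC1 hC2, hCtop⟩, fun p => ?_⟩
    exact isCountablyGenerated_of_surjective _
      (complEquiv₀ (Mf p.1.1) (Mf p.1.2) (C p) (hC1 p) (hC2 p)).symm.surjective (hC3 p)

end Groth.Agent.S6390
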