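import Groth.Statements.S6391
import Groth.Agent.Lib.Helper3IndEtDesc
import Mathlib

set_option autoImplicit false
universe u
open CAlg

namespace Groth.Agent.S6391

open Groth.Agent.Lib.Helper3.IndEt

/-- Let R be a ring, S and S' henselian local rings which are filtered colimits of étale R-algebras, and
K a field together with R-algebra maps S → K and S' → K identifying K with the residue field of each
(surjective with kernel the maximal ideal). Then exactly one isomorphism of R-algebras S → S'
commutes with the two maps to K. -/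
theorem result (R S S' K : Type u) [CommRing R]
    [CommRing S] [CommRing S'] [Field K] [HenselianLocalRing S] [HenselianLocalRing S']
    [Algebra R S] [Algebra R S'] [Algebra R K] (hS : EtPBC.IsIndEtale R S) (hS' : EtPBC.IsIndEtale R S')
    (u : S →ₐ[R] K) (u' : S' →ₐ[R] K) (hu : Function.Surjective u) (hu' : Function.Surjective u')
    (hku : RingHom.ker u.toRingHom = IsLocalRing.maximalIdeal S)
    (hku' : RingHom.ker u'.toRingHom = IsLocalRing.maximalIdeal S') :
    ∃! e : S ≃ₐ[R] S', u'.comp (e : S →ₐ[R] S') = u := by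
  obtain ⟨e₀, he₀, he₀uniq⟩ := existsUnique_algHom_of_isIndEtale hS u' hu' hku' u
  obtain ⟨e₁, he₁, -⟩ := existsUnique_algHom_of_isIndEtale hS' u hu hku u'
  obtain ⟨i₀, -, hi₀uniq⟩ := existsUnique_algHom_of_isIndEtale hS u hu hku u
  obtain ⟨i₁, -, hi₁uniq⟩ := existsUnique_algHom_of_isIndEtale hS' u' hu' hku' u'
  have h10 : e₁.comp e₀ = AlgHom.id R S := by
    rw [hi₀uniq (e₁.comp e₀) (by show u.comp (e₁.comp e₀) = u; rw [← AlgHom.comp_assoc, he₁, he₀]),
      hi₀uniq (AlgHom.id R S) (AlgHom.comp_id _)]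
  have h01 : e₀.comp e₁ = AlgHom.id R S' := by
    rw [hi₁uniq (e₀.comp e₁) (by show u'.comp (e₀.comp e₁) = u'; rw [← AlgHom.comp_assoc, he₀, he₁]),
      hi₁uniq (AlgHom.id R S') (AlgHom.comp_id _)]
  refine ⟨AlgEquiv.ofAlgHom e₀ e₁ h01 h10, he₀, ?_⟩
  intro e he
  apply AlgEquiv.ext
  intro x
  have := he₀uniq (e : S →ₐ[R] S') he
  exact congr($this x)

end Groth.Agent.S6391
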