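import Groth.Statements.S6392
import Groth.Agent.S6357

set_option autoImplicit false
universe u
open CAlg

namespace Groth.Agent.S6392

/-- Suppose M is the colimit of finitely presented R-modules G_i along a directed system over a nonempty
directed index set (transition maps f_ij), and M is both Mittag-Leffler and countably generated.
Then some countable directed subset I' of the indices already computes M: the canonical map from the
colimit of the G_i with i ∈ I' to M is bijective. -/
theorem result (R : Type u) [CommRing R]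
    {ι : Type u} [Preorder ι] [IsDirected ι (· ≤ ·)] [Nonempty ι] [DecidableEq ι] (G : ι → Type u)
    [∀ i, AddCommGroup (G i)] [∀ i, Module R (G i)] [∀ i, Module.FinitePresentation R (G i)]
    (f : ∀ i j, i ≤ j → G i →ₗ[R] G j) [DirectedSystem G fun i j h => f i j h]
    (hML : CAlg.IsMittagLeffler R (Module.DirectLimit G f))
    (hc : CAlg.IsCountablyGenerated R (Module.DirectLimit G f)) :
    ∃ I' : Set ι, I'.Countable ∧ DirectedOn (· ≤ ·) I' ∧
      Function.Bijective (Module.DirectLimit.lift R I' (fun i : I' => G i.1)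
        (fun (i j : I') (h : i ≤ j) => f i.1 j.1 h)
        (fun i : I' => Module.DirectLimit.of R ι G f i.1)
        (fun (i j : I') (h : i ≤ j) (x : G i.1) => Module.DirectLimit.of_f)) := by
  classical
  have H := (Groth.Agent.S6357.result R G f).mp hML
  -- a stage killing the kernel of `of i`
  have hJ : ∀ i, ∃ j, ∃ hij : i ≤ j, ∀ y : G i, Module.DirectLimit.of R ι G f i y = 0 →
      f i j hij y = 0 := by
    intro i
    obtain ⟨j, hij, hj⟩ := H i
    refine ⟨j, hij, ?_⟩
    intro y hy
    obtain ⟨k, hik, hk⟩ := Module.DirectLimit.of.zero_exact hy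
    obtain ⟨h, hh⟩ := hj k hik
    rw [hh, LinearMap.comp_apply, hk, map_zero]
  choose J hJle hJ using hJ
  -- enumerate generators
  obtain ⟨s, hs, hspan⟩ := hc
  have hs' : (s ∪ {0}).Countable := hs.union (Set.countable_singleton 0)
  obtain ⟨x, hx⟩ := hs'.exists_eq_range ⟨0, Or.inr rfl⟩
  have hxspan : Submodule.span R (Set.range x) = ⊤ := by
    rw [← hx, eq_top_iff, ← hspan]
    exact Submodule.span_mono Set.subset_union_left
  have hk : ∀ n, ∃ k, ∃ y : G k, Module.DirectLimit.of R ι G f k y = x n := fun n =>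
    Module.DirectLimit.exists_of (x n)
  choose k y hy using hk
  -- the sequence of indices
  have hstep : ∀ (i : ι) (n : ℕ), ∃ j, J i ≤ j ∧ k n ≤ j := fun i n => exists_ge_ge (J i) (k n)
  choose step hstep1 hstep2 using hstep
  let a : ℕ → ι := fun n => Nat.rec (Classical.arbitrary ι) (fun n i => step i n) n
  have ha_succ : ∀ n, a (n + 1) = step (a n) n := fun n => rfl
  have ha1 : ∀ n, J (a n) ≤ a (n + 1) := fun n => by rw [ha_succ]; exact hstep1 _ _
  have ha2 : ∀ n, k n ≤ a (n + 1) := fun n => by rw [ha_succ]; exact hstep2 _ _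
  have ha3 : ∀ n, a n ≤ a (n + 1) := fun n => (hJle (a n)).trans (ha1 n)
  have hamono : Monotone a := monotone_nat_of_le_succ ha3
  refine ⟨Set.range a, Set.countable_range a, ?_, ?_⟩
  · rintro _ ⟨n, rfl⟩ _ ⟨m, rfl⟩
    exact ⟨a (max n m), ⟨_, rfl⟩, hamono (le_max_left _ _), hamono (le_max_right _ _)⟩
  · have hne : Nonempty (Set.range a) := ⟨⟨a 0, 0, rfl⟩⟩
    have hdir : IsDirected (Set.range a) (· ≤ ·) := by
      constructor
      rintro ⟨_, n, rfl⟩ ⟨_, m, rfl⟩
      exact ⟨⟨a (max n m), _, rfl⟩, hamono (le_max_left _ _), hamono (le_max_right _ _)⟩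
    constructor
    · rw [injective_iff_map_eq_zero]
      intro z hz
      obtain ⟨⟨_, n, rfl⟩, w, rfl⟩ := Module.DirectLimit.exists_of z
      rw [Module.DirectLimit.lift_of] at hz
      have h1 : f (a n) (J (a n)) (hJle (a n)) w = 0 := hJ (a n) w hz
      have h2 : f (a n) (a (n + 1)) (ha3 n) w = 0 := by
        have := DirectedSystem.map_map (f := fun i j h => f i j h) (hJle (a n)) (ha1 n) w
        rw [← this, h1, map_zero]
      have h3 : (⟨a n, n, rfl⟩ : Set.range a) ≤ ⟨a (n + 1), n + 1, rfl⟩ := ha3 n
      rw [← Module.DirectLimit.of_f (hij := h3)]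
      show Module.DirectLimit.of R (Set.range a) (fun i : Set.range a => G i.1)
        (fun (i j : Set.range a) (h : i ≤ j) => f i.1 j.1 h) ⟨a (n + 1), n + 1, rfl⟩
          (f (a n) (a (n + 1)) (ha3 n) w) = 0
      rw [h2, map_zero]
    · rw [← LinearMap.range_eq_top, eq_top_iff, ← hxspan, Submodule.span_le]
      rintro _ ⟨n, rfl⟩
      refine ⟨Module.DirectLimit.of R (Set.range a) (fun i : Set.range a => G i.1)
        (fun (i j : Set.range a) (h : i ≤ j) => f i.1 j.1 h) ⟨a (n + 1), n + 1, rfl⟩
          (f (k n) (a (n + 1)) (ha2 n) (y n)), ?_⟩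
      rw [Module.DirectLimit.lift_of, Module.DirectLimit.of_f, hy]
end Groth.Agent.S6392
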