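import Groth.Statements.S6417
-- import your own Groth.Agent.* helpers here

set_option autoImplicit false
open CategoryTheory CategoryTheory.Limits
universe v₁ u₁ v₂ u₂
open FibCat

namespace Groth.Agent.S6417

/-- For `p : 𝒮 ⥤ C`, a strongly cartesian `φ : x ⟶ y`, any `ψ : z ⟶ y`, and a strongly cartesian `a : w
⟶ z` lying over the second projection of `p x ×_{p y} p z`, the object `w` is a fibre product `x ×_y
z`: there is `b : w ⟶ x` over the first projection with `(b, a)` a pullback square. -/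
theorem result {𝒮 : Type u₁} [Category.{v₁} 𝒮] {C : Type u₂} [Category.{v₂} C] (p : 𝒮 ⥤ C) {x y z w : 𝒮} (φ : x ⟶ y) (ψ : z ⟶ y)
    [p.IsStronglyCartesian (p.map φ) φ] [HasPullback (p.map φ) (p.map ψ)] (a : w ⟶ z)
    [p.IsStronglyCartesian (pullback.snd (p.map φ) (p.map ψ)) a] :
    ∃ b : w ⟶ x, p.IsHomLift (pullback.fst (p.map φ) (p.map ψ)) b ∧ IsPullback b a φ ψ := by
  have hcond : pullback.fst (p.map φ) (p.map ψ) ≫ p.map φ = pullback.snd (p.map φ) (p.map ψ) ≫ p.map ψ :=
    pullback.condition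
  have h1 : p.IsHomLift (pullback.fst (p.map φ) (p.map ψ) ≫ p.map φ) (a ≫ ψ) := by
    rw [hcond]; infer_instance
  obtain ⟨b, ⟨hb1, hb2⟩, -⟩ := Functor.IsStronglyCartesian.universal_property p (p.map φ) φ
    (pullback.fst (p.map φ) (p.map ψ)) _ rfl (a ≫ ψ)
  have key : ∀ (s : PullbackCone φ ψ), ∃ t : s.pt ⟶ w, t ≫ b = s.fst ∧ t ≫ a = s.snd ∧
      ∀ t' : s.pt ⟶ w, t' ≫ b = s.fst → t' ≫ a = s.snd → t' = t := by
    intro s
    have hs : p.map s.fst ≫ p.map φ = p.map s.snd ≫ p.map ψ := by
      rw [← p.map_comp, ← p.map_comp, s.condition]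
    obtain ⟨t, ⟨ht1, ht2⟩, htu⟩ := Functor.IsStronglyCartesian.universal_property p
      (pullback.snd (p.map φ) (p.map ψ)) a (pullback.lift (p.map s.fst) (p.map s.snd) hs)
      (p.map s.snd) (pullback.lift_snd _ _ _).symm s.snd
    have e1 : t ≫ b = s.fst := by
      have k1 : p.IsHomLift (p.map s.fst) (t ≫ b) := by
        have : p.IsHomLift (pullback.lift (p.map s.fst) (p.map s.snd) hs ≫
            pullback.fst (p.map φ) (p.map ψ)) (t ≫ b) := inferInstance
        rw [pullback.lift_fst] at this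
        exact this
      apply Functor.IsStronglyCartesian.ext p (p.map φ) φ (p.map s.fst)
      rw [Category.assoc, hb2, ← Category.assoc, ht2, s.condition]
    refine ⟨t, e1, ht2, ?_⟩
    intro t' h1' h2'
    apply htu
    refine ⟨?_, h2'⟩
    have hw : p.obj w = pullback (p.map φ) (p.map ψ) :=
      IsHomLift.domain_eq p (pullback.snd (p.map φ) (p.map ψ)) a
    have e : p.map t' ≫ eqToHom hw = pullback.lift (p.map s.fst) (p.map s.snd) hs := by
      apply pullback.hom_ext
      · rw [pullback.lift_fst, ← h1', p.map_comp, Category.assoc]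
        congr 1
        have := IsHomLift.fac' p (pullback.fst (p.map φ) (p.map ψ)) b
        rw [this]; simp
      · rw [pullback.lift_snd, ← h2', p.map_comp, Category.assoc]
        congr 1
        have := IsHomLift.fac' p (pullback.snd (p.map φ) (p.map ψ)) a
        rw [this]; simp
    rw [← e]
    exact IsHomLift.of_fac' p _ t' rfl hw (by simp)
  exact ⟨b, hb1, ⟨⟨hb2⟩, ⟨PullbackCone.IsLimit.mk _ (fun s => (key s).choose)
    (fun s => (key s).choose_spec.1) (fun s => (key s).choose_spec.2.1)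
    (fun s m h1 h2 => (key s).choose_spec.2.2 m h1 h2)⟩⟩⟩

end Groth.Agent.S6417
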