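import Groth.Statements.S6423
import Mathlib.CategoryTheory.IsConnected
import Mathlib.CategoryTheory.Limits.Shapes.Pullback.HasPullback
import Mathlib.CategoryTheory.Limits.Shapes.Equalizers
import Mathlib.Data.Fintype.Sigma

set_option autoImplicit false
open CategoryTheory CategoryTheory.Limits
universe v u
open CatLim

namespace Groth.Agent.S6423

section
variable {C : Type u} [Category.{v} C] [HasEqualizers C] [HasPullbacks C]

/-- Joint equalizer of a finite family of parallel pairs out of `T`. -/
lemma exists_joint_equalizer {T : C} {ι : Type*} (S : Finset ι) (Y : ι → C)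
    (f g : ∀ t, T ⟶ Y t) :
    ∃ (E : C) (e : E ⟶ T), Mono e ∧ (∀ t ∈ S, e ≫ f t = e ≫ g t) ∧
      ∀ (W : C) (w : W ⟶ T), (∀ t ∈ S, w ≫ f t = w ≫ g t) → ∃ l : W ⟶ E, l ≫ e = w := by
  classical
  induction S using Finset.induction_on with
  | empty => exact ⟨T, 𝟙 T, inferInstance, by simp, fun W w _ => ⟨w, by simp⟩⟩
  | insert t₀ S ht₀ ih =>
    obtain ⟨E, e, he, heq, huniv⟩ := ih
    refine ⟨equalizer (e ≫ f t₀) (e ≫ g t₀), equalizer.ι _ _ ≫ e, mono_comp _ _, ?_, ?_⟩
    · intro t ht
      rcases Finset.mem_insert.mp ht with rfl | ht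
      · simpa using equalizer.condition (e ≫ f t) (e ≫ g t)
      · rw [Category.assoc, Category.assoc, heq t ht]
    · intro W w hw
      obtain ⟨l, hl⟩ := huniv W w (fun t ht => hw t (Finset.mem_insert_of_mem ht))
      refine ⟨equalizer.lift l ?_, ?_⟩
      · rw [← Category.assoc, ← Category.assoc, hl]
        exact hw t₀ (Finset.mem_insert_self _ _)
      · rw [← Category.assoc, equalizer.lift_ι, hl]

variable {J : Type} [SmallCategory J] (F : J ⥤ C)

/-- A "weak product" of the `F j`, `j ∈ S`: a jointly monic family through which every cone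
factors. -/
def P (S : Finset J) : Prop :=
  ∃ (T : C) (π : ∀ j, j ∈ S → (T ⟶ F.obj j)),
    (∀ (W : C) (a b : W ⟶ T), (∀ j (hj : j ∈ S), a ≫ π j hj = b ≫ π j hj) → a = b) ∧
    (∀ c : Cone F, ∃ l : c.pt ⟶ T, ∀ j (hj : j ∈ S), l ≫ π j hj = c.π.app j)

lemma P_singleton [DecidableEq J] (j₀ : J) : P F {j₀} := by
  refine ⟨F.obj j₀, fun j hj => eqToHom (by rw [Finset.mem_singleton.mp hj]), ?_, ?_⟩
  · intro W a b h
    simpa using h j₀ (Finset.mem_singleton_self _)
  · intro c
    refine ⟨c.π.app j₀, fun j hj => ?_⟩
    obtain rfl := Finset.mem_singleton.mp hj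
    simp

lemma P_insert_out [DecidableEq J] {S : Finset J} (hS : P F S) {p j : J} (hp : p ∈ S)
    (hj : j ∉ S) (e : j ⟶ p) : P F (insert j S) := by
  obtain ⟨T, π, hmono, hcone⟩ := hS
  have hmemS : ∀ j', j' ∈ insert j S → j' ≠ j → j' ∈ S := fun j' h hne =>
    (Finset.mem_insert.mp h).resolve_left hne
  refine ⟨pullback (π p hp) (F.map e), fun j' hj' =>
    if h : j' = j then pullback.snd _ _ ≫ eqToHom (by rw [h])
    else pullback.fst _ _ ≫ π j' (hmemS j' hj' h), ?_, ?_⟩
  · intro W a b hab
    apply pullback.hom_ext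
    · apply hmono
      intro j' hj'
      have hne : j' ≠ j := fun h => hj (h ▸ hj')
      have := hab j' (Finset.mem_insert_of_mem hj')
      dsimp only at this
      rw [dif_neg hne] at this
      simpa [Category.assoc] using this
    · have := hab j (Finset.mem_insert_self _ _)
      dsimp only at this
      rw [dif_pos rfl] at this
      simpa using this
  · intro c
    obtain ⟨l, hl⟩ := hcone c
    refine ⟨pullback.lift l (c.π.app j) (by rw [hl p hp, c.w e]), fun j' hj' => ?_⟩
    dsimp only
    by_cases h : j' = j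
    · subst h
      rw [dif_pos rfl]
      simp only [eqToHom_refl, Category.comp_id]
      exact pullback.lift_snd _ _ _
    · rw [dif_neg h, ← Category.assoc, pullback.lift_fst, hl]

lemma P_insert_in [DecidableEq J] {S : Finset J} (hS : P F S) {p j : J} (hp : p ∈ S)
    (hj : j ∉ S) (e : p ⟶ j) : P F (insert j S) := by
  obtain ⟨T, π, hmono, hcone⟩ := hS
  have hmemS : ∀ j', j' ∈ insert j S → j' ≠ j → j' ∈ S := fun j' h hne =>
    (Finset.mem_insert.mp h).resolve_left hne
  refine ⟨T, fun j' hj' =>
    if h : j' = j then π p hp ≫ F.map e ≫ eqToHom (by rw [h])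
    else π j' (hmemS j' hj' h), ?_, ?_⟩
  · intro W a b hab
    apply hmono
    intro j' hj'
    have hne : j' ≠ j := fun h => hj (h ▸ hj')
    have := hab j' (Finset.mem_insert_of_mem hj')
    dsimp only at this
    rw [dif_neg hne] at this
    exact this
  · intro c
    obtain ⟨l, hl⟩ := hcone c
    refine ⟨l, fun j' hj' => ?_⟩
    dsimp only
    by_cases h : j' = j
    · subst h
      rw [dif_pos rfl, ← Category.assoc, hl p hp]
      simp
    · rw [dif_neg h, hl]

lemma exists_adjacent [IsConnected J] (S : Finset J) (hne : S.Nonempty)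
    (hS : ∃ j, j ∉ S) :
    ∃ (p j : J), p ∈ S ∧ j ∉ S ∧ (Nonempty (j ⟶ p) ∨ Nonempty (p ⟶ j)) := by
  by_contra hcon
  push Not at hcon
  obtain ⟨j₀, hj₀⟩ := hne
  obtain ⟨j, hj⟩ := hS
  apply hj
  refine induct_on_objects (fun j => j ∈ S) hj₀ ?_ j
  intro j₁ j₂ f
  constructor
  · intro h1
    by_contra h2
    exact (hcon j₁ j₂ h1 h2).2.elim f
  · intro h2
    by_contra h1
    exact (hcon j₂ j₁ h2 h1).1.elim f

lemma P_univ [FinCategory J] [IsConnected J] : P F (Finset.univ : Finset J) := by
  classical
  have key : ∀ (n : ℕ) (S : Finset J), S.Nonempty → (Finset.univ \ S).card = n → P F S →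
      P F Finset.univ := by
    intro n
    induction n with
    | zero =>
      intro S _ hcard hP
      have : S = Finset.univ := by
        rw [Finset.card_eq_zero, Finset.sdiff_eq_empty_iff_subset] at hcard
        exact Finset.eq_univ_iff_forall.mpr fun x => hcard (Finset.mem_univ x)
      rwa [this] at hP
    | succ n ih =>
      intro S hne hcard hP
      have hex : ∃ j, j ∉ S := by
        by_contra hcon
        push Not at hcon
        have : Finset.univ \ S = ∅ :=
          Finset.sdiff_eq_empty_iff_subset.mpr fun x _ => hcon x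
        rw [this] at hcard
        simp at hcard
      obtain ⟨p, j, hp, hj, hadj⟩ := exists_adjacent S hne hex
      have hP' : P F (insert j S) := by
        rcases hadj with ⟨⟨e⟩⟩ | ⟨⟨e⟩⟩
        · exact P_insert_out F hP hp hj e
        · exact P_insert_in F hP hp hj e
      refine ih (insert j S) (Finset.insert_nonempty _ _) ?_ hP'
      have : Finset.univ \ insert j S = (Finset.univ \ S).erase j := by
        ext x
        simp [Finset.mem_sdiff, Finset.mem_erase, Finset.mem_insert, not_or, and_comm]
      rw [this, Finset.card_erase_of_mem (Finset.mem_sdiff.mpr ⟨Finset.mem_univ _, hj⟩), hcard]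
      rfl
  let j₀ : J := Classical.arbitrary J
  exact key _ {j₀} (Finset.singleton_nonempty _) rfl (P_singleton F j₀)

end

/-- (2) ⇒ (1): a category with equalizers and fibre products has all finite connected limits. -/
theorem result {C : Type u} [Category.{v} C] [HasEqualizers C] [HasPullbacks C]
    (J : Type) [SmallCategory J] [FinCategory J] [IsConnected J] : HasLimitsOfShape J C := by
  classical
  refine ⟨fun F => ?_⟩
  obtain ⟨T, π, hmono, hcone⟩ := P_univ F
  obtain ⟨E, e, he, heq, huniv⟩ := exists_joint_equalizer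
    (Finset.univ : Finset (Σ (j j' : J), j ⟶ j')) (fun t => F.obj t.2.1)
    (fun t => π t.1 (Finset.mem_univ _) ≫ F.map t.2.2) (fun t => π t.2.1 (Finset.mem_univ _))
  let c : Cone F :=
    { pt := E
      π :=
        { app := fun j => e ≫ π j (Finset.mem_univ _)
          naturality := by
            intro j j' φ
            have := heq ⟨j, j', φ⟩ (Finset.mem_univ _)
            simpa [Category.assoc] using this.symm } }
  refine HasLimit.mk ⟨c, IsLimit.ofExistsUnique fun s => ?_⟩
  obtain ⟨l, hl⟩ := hcone s
  obtain ⟨l', hl'⟩ := huniv s.pt l (by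
    rintro ⟨j, j', φ⟩ -
    dsimp only
    rw [← Category.assoc, hl, hl, s.w φ])
  refine ⟨l', fun j => ?_, fun m hm => ?_⟩
  · change l' ≫ e ≫ π j _ = _
    rw [← Category.assoc, hl', hl]
  · rw [← cancel_mono e, hl']
    apply hmono
    intro j _
    rw [Category.assoc, hl]
    exact hm j

end Groth.Agent.S6423
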