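import Groth.Statements.S6424
import Mathlib.CategoryTheory.Limits.Constructions.LimitsOfProductsAndEqualizers
import Mathlib.CategoryTheory.Limits.Constructions.FiniteProductsOfBinaryProducts

set_option autoImplicit false
open CategoryTheory CategoryTheory.Limits
universe v u
open CatLim

namespace Groth.Agent.S6424

theorem hasProduct_fin_succ {C : Type u} [Category.{v} C] [HasBinaryProducts C] :
    ∀ (n : ℕ) (f : Fin (n + 1) → C), HasProduct f
  | 0, f => by
    have : Unique (Fin (0 + 1)) := inferInstanceAs (Unique (Fin 1))
    infer_instance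
  | n + 1, f => by
    have := hasProduct_fin_succ n (fun i : Fin (n + 1) => f i.succ)
    exact HasLimit.mk ⟨_, extendFanIsLimit f (limit.isLimit _) (limit.isLimit _)⟩

theorem hasProduct_of_finite_nonempty {C : Type u} [Category.{v} C] [HasBinaryProducts C]
    {ι : Type} [Finite ι] [Nonempty ι] (f : ι → C) : HasProduct f := by
  obtain ⟨n, ⟨e⟩⟩ := Finite.exists_equiv_fin ι
  obtain _ | n := n
  · exact (IsEmpty.false (e (Classical.arbitrary ι))).elim
  · have : HasLimitsOfShape (Discrete (Fin (n + 1))) C :=
      ⟨fun K => by
        have := hasProduct_fin_succ n (K.obj ∘ Discrete.mk)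
        exact hasLimit_of_iso (Discrete.natIsoFunctor (F := K)).symm⟩
    have : HasLimitsOfShape (Discrete ι) C :=
      hasLimitsOfShape_of_equivalence (Discrete.equivalence e.symm)
    infer_instance

/-- (2) ⇒ (1): a category with products of pairs and equalizers has all finite nonempty limits. -/
theorem result {C : Type u} [Category.{v} C] [HasBinaryProducts C] [HasEqualizers C]
    (J : Type) [SmallCategory J] [FinCategory J] [Nonempty J] : HasLimitsOfShape J C := by
  refine ⟨fun F => ?_⟩
  have : HasLimit (Discrete.functor F.obj) := hasProduct_of_finite_nonempty _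
  have : Nonempty (Σ p : J × J, p.1 ⟶ p.2) :=
    ⟨⟨(Classical.arbitrary J, Classical.arbitrary J), 𝟙 _⟩⟩
  have : Finite (Σ p : J × J, p.1 ⟶ p.2) := inferInstance
  have : HasLimit (Discrete.functor fun f : Σ p : J × J, p.1 ⟶ p.2 => F.obj f.1.2) :=
    hasProduct_of_finite_nonempty _
  exact hasLimit_of_equalizer_and_product F

end Groth.Agent.S6424
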