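import Groth.Statements.S6425
-- import your own Groth.Agent.* helpers here

set_option autoImplicit false
open CategoryTheory CategoryTheory.Limits
universe v
open CatLim

namespace Groth.Agent.S6425

/-- Over an index category in which any two objects map to a common object, the comparison map `colim (M
× N) → colim M × colim N` for diagrams of sets is surjective. -/
theorem result {I : Type v} [SmallCategory I]
    (hI : ∀ x y : I, ∃ (z : I) (_ : x ⟶ z) (_ : y ⟶ z), True) (M N : I ⥤ Type v) :
    Function.Surjective (prodComparison (colim : (I ⥤ Type v) ⥤ Type v) M N) := by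
  intro p
  obtain ⟨i, x, hx⟩ := Types.jointly_surjective' (F := M)
    ((prod.fst : colim.obj M ⨯ colim.obj N ⟶ colim.obj M) p)
  obtain ⟨j, y, hy⟩ := Types.jointly_surjective' (F := N)
    ((prod.snd : colim.obj M ⨯ colim.obj N ⟶ colim.obj N) p)
  obtain ⟨k, f, g, -⟩ := hI i j
  let α : coyoneda.obj (Opposite.op k) ⟶ M := coyonedaEquiv.symm (M.map f x)
  let β : coyoneda.obj (Opposite.op k) ⟶ N := coyonedaEquiv.symm (N.map g y)
  let q : (M ⨯ N).obj k := (prod.lift α β).app k (𝟙 k)
  refine ⟨colimit.ι (M ⨯ N) k q, ?_⟩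
  apply Types.limit_ext
  rintro ⟨_ | _⟩
  · change (prodComparison colim M N ≫ prod.fst) _ =
      (prod.fst : colim.obj M ⨯ colim.obj N ⟶ colim.obj M) p
    rw [prodComparison_fst, ← hx]
    have h1 : (colim.map (prod.fst : M ⨯ N ⟶ M)) (colimit.ι (M ⨯ N) k q)
        = colimit.ι M k ((prod.fst : M ⨯ N ⟶ M).app k q) := by
      have := congrArg (fun φ => φ q) (colimit.ι_map (prod.fst : M ⨯ N ⟶ M) k)
      simpa using this
    have h2 : (prod.fst : M ⨯ N ⟶ M).app k q = M.map f x := by
      change ((prod.lift α β).app k ≫ (prod.fst : M ⨯ N ⟶ M).app k) (𝟙 k) = _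
      rw [← NatTrans.comp_app, prod.lift_fst]
      simp [α, coyonedaEquiv]
    rw [h1, h2]
    exact congrArg (fun φ => φ x) (colimit.w M f)
  · change (prodComparison colim M N ≫ prod.snd) _ =
      (prod.snd : colim.obj M ⨯ colim.obj N ⟶ colim.obj N) p
    rw [prodComparison_snd, ← hy]
    have h1 : (colim.map (prod.snd : M ⨯ N ⟶ N)) (colimit.ι (M ⨯ N) k q)
        = colimit.ι N k ((prod.snd : M ⨯ N ⟶ N).app k q) := by
      have := congrArg (fun φ => φ q) (colimit.ι_map (prod.snd : M ⨯ N ⟶ N) k)
      simpa using this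
    have h2 : (prod.snd : M ⨯ N ⟶ N).app k q = N.map g y := by
      change ((prod.lift α β).app k ≫ (prod.snd : M ⨯ N ⟶ N).app k) (𝟙 k) = _
      rw [← NatTrans.comp_app, prod.lift_snd]
      simp [β, coyonedaEquiv]
    rw [h1, h2]
    exact congrArg (fun φ => φ y) (colimit.w N g)

end Groth.Agent.S6425
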