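import Groth.Statements.S6426
-- import your own Groth.Agent.* helpers here

set_option autoImplicit false
open CategoryTheory CategoryTheory.Limits
universe v
open CatLim

namespace Groth.Agent.S6426

/-- Over a nonempty index category in which any two objects map to a common object, the set-theoretic
colimit of a diagram of abelian groups surjects onto its colimit in abelian groups. (The published
statement does not require the index category to be nonempty; this row assumes it, because for the
empty index category the colimit of sets is empty while the colimit of abelian groups is the zero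
group.) -/
theorem result {I : Type v} [SmallCategory I] [Nonempty I]
    (hI : ∀ x y : I, ∃ (z : I) (_ : x ⟶ z) (_ : y ⟶ z), True) (M : I ⥤ AddCommGrpCat.{v}) :
    Function.Surjective (colimit.post M (forget AddCommGrpCat.{v})) := by
  classical
  let F := forget AddCommGrpCat.{v}
  let P := colimit.post M F
  have hι : ∀ (i : I) (x : M.obj i), (colimit.ι M i) x ∈ Set.range (fun w => P w) := by
    intro i x
    refine ⟨colimit.ι (M ⋙ F) i x, ?_⟩
    exact congrArg (fun φ => φ x) (colimit.ι_post M F i)
  have hrange : ∀ z ∈ Set.range (fun w => P w), ∃ i, ∃ x : M.obj i, (colimit.ι M i) x = z := by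
    rintro z ⟨w, rfl⟩
    obtain ⟨i, x, rfl⟩ := Types.jointly_surjective' w
    refine ⟨i, x, ?_⟩
    exact (congrArg (fun φ => φ x) (colimit.ι_post M F i)).symm
  let H : AddSubgroup (colimit M : AddCommGrpCat.{v}) :=
    { carrier := Set.range (fun w => P w)
      zero_mem' := by
        obtain ⟨i⟩ := ‹Nonempty I›
        have := hι i 0
        simpa using this
      add_mem' := by
        intro a b ha hb
        obtain ⟨i, x, rfl⟩ := hrange a ha
        obtain ⟨j, y, rfl⟩ := hrange b hb
        obtain ⟨k, f, g, -⟩ := hI i j
        have := hι k (M.map f x + M.map g y)
        rw [map_add] at this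
        have e1 : (colimit.ι M k) (M.map f x) = (colimit.ι M i) x :=
          congrArg (fun φ => φ x) (colimit.w M f)
        have e2 : (colimit.ι M k) (M.map g y) = (colimit.ι M j) y :=
          congrArg (fun φ => φ y) (colimit.w M g)
        rwa [e1, e2] at this
      neg_mem' := by
        intro a ha
        obtain ⟨i, x, rfl⟩ := hrange a ha
        have := hι i (-x)
        simpa using this }
  let c : Cocone M :=
    { pt := AddCommGrpCat.of H
      ι :=
        { app := fun i => AddCommGrpCat.ofHom
            ((colimit.ι M i).hom.codRestrict H (fun x => hι i x))
          naturality := by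
            intro i j f
            ext x
            apply Subtype.ext
            simpa using congrArg (fun φ => φ x) (colimit.w M f) } }
  have hid : colimit.desc M c ≫ AddCommGrpCat.ofHom H.subtype = 𝟙 _ := by
    apply colimit.hom_ext
    intro i
    rw [colimit.ι_desc_assoc]
    ext x
    rfl
  intro z
  have hz : z = (H.subtype ((colimit.desc M c) z)) :=
    (congrArg (fun φ => φ z) hid).symm
  have : z ∈ H := by
    rw [hz]
    exact Subtype.property _
  exact this

end Groth.Agent.S6426
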