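import Groth.Statements.S6437
import Mathlib.CategoryTheory.Limits.Types.Colimits
import Mathlib.CategoryTheory.Limits.Types.Limits
import Mathlib.CategoryTheory.Limits.FunctorCategory.Basic
import Mathlib.CategoryTheory.IsConnected
import Mathlib.Data.Fintype.Sigma

set_option autoImplicit false
open CategoryTheory CategoryTheory.Limits
universe v
open CatLim

namespace Groth.Agent.S6437

section
variable {I : Type v} [SmallCategory I]

/-- The "filtered" relation on elements of a diagram of types. -/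
def Rel (G : I ⥤ Type v) (x y : Σ i, G.obj i) : Prop :=
  ∃ (k : I) (f : x.1 ⟶ k) (g : y.1 ⟶ k), G.map f x.2 = G.map g y.2

lemma rel_equiv (h1 : ∀ ⦃w x y : I⦄ (a : w ⟶ x) (b : w ⟶ y), ∃ (z : I) (c : x ⟶ z) (d : y ⟶ z),
    a ≫ c = b ≫ d) (G : I ⥤ Type v) : _root_.Equivalence (Rel G) where
  refl x := ⟨x.1, 𝟙 _, 𝟙 _, rfl⟩
  symm := fun ⟨k, f, g, h⟩ => ⟨k, g, f, h.symm⟩
  trans := by
    rintro x y z ⟨k, f, g, h⟩ ⟨k', f', g', h'⟩
    obtain ⟨m, c, d, hcd⟩ := h1 g f'
    refine ⟨m, f ≫ c, g' ≫ d, ?_⟩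
    calc G.map (f ≫ c) x.2 = G.map c (G.map f x.2) := by simp
      _ = G.map c (G.map g y.2) := by rw [h]
      _ = G.map (g ≫ c) y.2 := by simp
      _ = G.map (f' ≫ d) y.2 := by rw [hcd]
      _ = G.map d (G.map f' y.2) := by simp
      _ = G.map d (G.map g' z.2) := by rw [h']
      _ = G.map (g' ≫ d) z.2 := by simp

lemma colimit_eq_iff (h1 : ∀ ⦃w x y : I⦄ (a : w ⟶ x) (b : w ⟶ y), ∃ (z : I) (c : x ⟶ z) (d : y ⟶ z),
    a ≫ c = b ≫ d) (G : I ⥤ Type v) {i i' : I} (a : G.obj i) (a' : G.obj i') :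
    colimit.ι G i a = colimit.ι G i' a' ↔
      ∃ (k : I) (f : i ⟶ k) (g : i' ⟶ k), G.map f a = G.map g a' := by
  constructor
  · intro h
    let s : Cocone G :=
      { pt := Quot (Rel G)
        ι :=
          { app := fun i => ↾(fun a => Quot.mk _ ⟨i, a⟩)
            naturality := by
              intro i i' f
              ext a
              exact Quot.sound ⟨i', 𝟙 _, f, by simp; rfl⟩ } }
    have hs : ∀ (i : I) (a : G.obj i), colimit.desc G s (colimit.ι G i a) = Quot.mk _ ⟨i, a⟩ := by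
      intro i a
      exact congrArg (fun φ => φ a) (colimit.ι_desc s i)
    have := congrArg (colimit.desc G s) h
    rw [hs, hs] at this
    exact (rel_equiv h1 G).eqvGen_iff.mp (Quot.eqvGen_exact this)
  · rintro ⟨k, f, g, h⟩
    have e1 : colimit.ι G k (G.map f a) = colimit.ι G i a :=
      congrArg (fun φ => φ a) (colimit.w G f)
    have e2 : colimit.ι G k (G.map g a') = colimit.ι G i' a' :=
      congrArg (fun φ => φ a') (colimit.w G g)
    rw [← e1, ← e2, h]

/-- Finite families of arrows out of a fixed object admit a common refinement. -/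
lemma exists_common_refinement
    (h1 : ∀ ⦃w x y : I⦄ (a : w ⟶ x) (b : w ⟶ y), ∃ (z : I) (c : x ⟶ z) (d : y ⟶ z), a ≫ c = b ≫ d)
    {T : Type*} (S : Finset T) (x : I) (k : T → I) (u : ∀ t, x ⟶ k t) :
    ∃ (k₀ : I) (u₀ : x ⟶ k₀), ∀ t ∈ S, ∃ v : k t ⟶ k₀, u t ≫ v = u₀ := by
  classical
  induction S using Finset.induction_on with
  | empty => exact ⟨x, 𝟙 x, by simp⟩
  | insert t₀ S ht₀ ih =>
    obtain ⟨k₀, u₀, hS⟩ := ih
    obtain ⟨z, c, d, hcd⟩ := h1 u₀ (u t₀)
    refine ⟨z, u₀ ≫ c, ?_⟩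
    intro t ht
    rcases Finset.mem_insert.mp ht with rfl | ht
    · exact ⟨d, hcd.symm⟩
    · obtain ⟨v, hv⟩ := hS t ht
      exact ⟨v ≫ c, by rw [← Category.assoc, hv]⟩

/-- Finitely many equalities in colimits at a common index can be realised by one arrow. -/
lemma exists_common_equalizer
    (h1 : ∀ ⦃w x y : I⦄ (a : w ⟶ x) (b : w ⟶ y), ∃ (z : I) (c : x ⟶ z) (d : y ⟶ z), a ≫ c = b ≫ d)
    (h2 : ∀ ⦃x y : I⦄ (a b : x ⟶ y), ∃ (z : I) (c : y ⟶ z), a ≫ c = b ≫ c)
    {T : Type*} (S : Finset T) (k₀ : I) (G : T → (I ⥤ Type v))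
    (p q : ∀ t, (G t).obj k₀)
    (hpq : ∀ t ∈ S, colimit.ι (G t) k₀ (p t) = colimit.ι (G t) k₀ (q t)) :
    ∃ (m : I) (u : k₀ ⟶ m), ∀ t ∈ S, (G t).map u (p t) = (G t).map u (q t) := by
  classical
  have hex : ∀ t, ∃ (m : I) (u : k₀ ⟶ m), t ∈ S → (G t).map u (p t) = (G t).map u (q t) := by
    intro t
    by_cases ht : t ∈ S
    · obtain ⟨k, f, g, hfg⟩ := (colimit_eq_iff h1 (G t) (p t) (q t)).mp (hpq t ht)
      obtain ⟨z, c, hc⟩ := h2 f g
      refine ⟨z, f ≫ c, fun _ => ?_⟩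
      calc (G t).map (f ≫ c) (p t) = (G t).map c ((G t).map f (p t)) := by simp
        _ = (G t).map c ((G t).map g (q t)) := by rw [hfg]
        _ = (G t).map (g ≫ c) (q t) := by simp
        _ = (G t).map (f ≫ c) (q t) := by rw [hc]
    · exact ⟨k₀, 𝟙 _, fun h => absurd h ht⟩
  choose m u hu using hex
  obtain ⟨m₀, u₀, hS⟩ := exists_common_refinement h1 S k₀ m u
  refine ⟨m₀, u₀, fun t ht => ?_⟩
  obtain ⟨v, hv⟩ := hS t ht
  rw [← hv]
  calc (G t).map (u t ≫ v) (p t) = (G t).map v ((G t).map (u t) (p t)) := by simp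
    _ = (G t).map v ((G t).map (u t) (q t)) := by rw [hu t ht]
    _ = (G t).map (u t ≫ v) (q t) := by simp

/-- Objects of `I` attached to a connected finite category, linked by cospans along arrows,
admit a common target. -/
lemma exists_common_target
    (h1 : ∀ ⦃w x y : I⦄ (a : w ⟶ x) (b : w ⟶ y), ∃ (z : I) (c : x ⟶ z) (d : y ⟶ z), a ≫ c = b ≫ d)
    {J : Type} [SmallCategory J] [FinCategory J] [IsConnected J] (i : J → I)
    (hi : ∀ ⦃j j' : J⦄ (_ : j ⟶ j'), ∃ k : I, Nonempty (i j ⟶ k) ∧ Nonempty (i j' ⟶ k)) :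
    ∃ k₀ : I, ∀ j, Nonempty (i j ⟶ k₀) := by
  classical
  let C : J → J → Prop := fun j j' => ∃ k : I, Nonempty (i j ⟶ k) ∧ Nonempty (i j' ⟶ k)
  have Crefl : ∀ j, C j j := fun j => ⟨i j, ⟨𝟙 _⟩, ⟨𝟙 _⟩⟩
  have Csymm : ∀ {j j'}, C j j' → C j' j := fun ⟨k, a, b⟩ => ⟨k, b, a⟩
  have Ctrans : ∀ {j j' j''}, C j j' → C j' j'' → C j j'' := by
    rintro j j' j'' ⟨k, ⟨a⟩, ⟨b⟩⟩ ⟨k', ⟨a'⟩, ⟨b'⟩⟩
    obtain ⟨z, c, d, -⟩ := h1 b a'
    exact ⟨z, ⟨a ≫ c⟩, ⟨b' ≫ d⟩⟩
  have Call : ∀ j j', C j j' := by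
    intro j j'
    have hz : Zigzag j j' := isPreconnected_zigzag j j'
    induction hz with
    | refl => exact Crefl j
    | tail _ hzag ih =>
      rcases hzag with ⟨⟨φ⟩⟩ | ⟨⟨φ⟩⟩
      · exact Ctrans ih (hi φ)
      · exact Ctrans ih (Csymm (hi φ))
  let j₀ : J := Classical.arbitrary J
  choose k hk using fun j => Call j₀ j
  obtain ⟨k₀, u₀, hS⟩ := exists_common_refinement h1 (Finset.univ : Finset J) (i j₀) k
    (fun j => (hk j).1.some)
  refine ⟨k₀, fun j => ?_⟩
  obtain ⟨v, -⟩ := hS j (Finset.mem_univ j)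
  exact ⟨(hk j).2.some ≫ v⟩

end

/-- Over an index category in which spans can be completed to commutative squares and parallel pairs can
be coequalized (a disjoint union of filtered categories), colimits of sets commute with finite
connected limits. -/
theorem result {I : Type v} [SmallCategory I]
    (h1 : ∀ ⦃w x y : I⦄ (a : w ⟶ x) (b : w ⟶ y), ∃ (z : I) (c : x ⟶ z) (d : y ⟶ z), a ≫ c = b ≫ d)
    (h2 : ∀ ⦃x y : I⦄ (a b : x ⟶ y), ∃ (z : I) (c : y ⟶ z), a ≫ c = b ≫ c)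
    (J : Type) [SmallCategory J] [FinCategory J] [IsConnected J] :
    PreservesLimitsOfShape J (colim : (I ⥤ Type v) ⥤ Type v) := by
  classical
  refine ⟨fun {K} => ?_⟩
  let c := limit.cone K
  have hc : IsLimit c := limit.isLimit K
  apply preservesLimit_of_preserves_limit_cone hc
  apply Nonempty.some
  rw [Types.isLimit_iff]
  -- pointwise limit property
  have F1 : ∀ (i : I) (a : ∀ j, (K.obj j).obj i),
      (∀ ⦃j j' : J⦄ (φ : j ⟶ j'), (K.map φ).app i (a j) = a j') →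
      ∃! x : c.pt.obj i, ∀ j, (c.π.app j).app i x = a j := by
    intro i a ha
    have hci : IsLimit (((evaluation I (Type v)).obj i).mapCone c) := isLimitOfPreserves _ hc
    exact (Types.isLimit_iff _).mp ⟨hci⟩ a (fun {j j'} φ => ha φ)
  have F3 : ∀ (j : J) (i : I) (x : c.pt.obj i),
      (colim.mapCone c).π.app j (colimit.ι c.pt i x) =
        colimit.ι (K.obj j) i ((c.π.app j).app i x) := by
    intro j i x
    exact congrArg (fun φ => φ x) (colimit.ι_map (c.π.app j) i)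
  have Fnat : ∀ (j : J) {i i' : I} (f : i ⟶ i') (x : c.pt.obj i),
      (c.π.app j).app i' (c.pt.map f x) = (K.obj j).map f ((c.π.app j).app i x) := by
    intro j i i' f x
    exact congrArg (fun φ => φ x) ((c.π.app j).naturality f)
  have Fw : ∀ (G : I ⥤ Type v) {i i' : I} (f : i ⟶ i') (x : G.obj i),
      colimit.ι G i' (G.map f x) = colimit.ι G i x := by
    intro G i i' f x
    exact congrArg (fun φ => φ x) (colimit.w G f)
  have Fmap : ∀ {j j' : J} (φ : j ⟶ j') (i : I) (x : (K.obj j).obj i),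
      (K ⋙ colim).map φ (colimit.ι (K.obj j) i x) =
        colimit.ι (K.obj j') i ((K.map φ).app i x) := by
    intro j j' φ i x
    exact congrArg (fun ψ => ψ x) (colimit.ι_map (K.map φ) i)
  -- uniqueness
  have huniq : ∀ X X' : colimit c.pt,
      (∀ j, (colim.mapCone c).π.app j X = (colim.mapCone c).π.app j X') → X = X' := by
    intro X X' hXX'
    obtain ⟨i, x, rfl⟩ := Types.jointly_surjective' X
    obtain ⟨i', x', rfl⟩ := Types.jointly_surjective' X'
    simp only [F3] at hXX'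
    let j₀ : J := Classical.arbitrary J
    obtain ⟨k, f, g, -⟩ := (colimit_eq_iff h1 _ _ _).mp (hXX' j₀)
    have hj' : ∀ j, colimit.ι (K.obj j) k ((c.π.app j).app k (c.pt.map f x)) =
        colimit.ι (K.obj j) k ((c.π.app j).app k (c.pt.map g x')) := by
      intro j
      rw [Fnat, Fnat, Fw, Fw]
      exact hXX' j
    obtain ⟨m, u, hu⟩ := exists_common_equalizer h1 h2 (Finset.univ : Finset J) k
      (fun j => K.obj j) (fun j => (c.π.app j).app k (c.pt.map f x))
      (fun j => (c.π.app j).app k (c.pt.map g x')) (fun j _ => hj' j)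
    have hcompat : ∀ (y : c.pt.obj m) ⦃j j' : J⦄ (φ : j ⟶ j'),
        (K.map φ).app m ((c.π.app j).app m y) = (c.π.app j').app m y := by
      intro y j j' φ
      have := congrArg (fun ψ => ψ.app m y) (c.w φ)
      exact this
    have e : c.pt.map u (c.pt.map f x) = c.pt.map u (c.pt.map g x') := by
      refine (F1 m (fun j => (c.π.app j).app m (c.pt.map u (c.pt.map f x)))
        (hcompat _)).unique (fun j => rfl) (fun j => ?_)
      rw [Fnat, Fnat j u, hu j (Finset.mem_univ j)]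
    calc colimit.ι c.pt i x = colimit.ι c.pt m (c.pt.map u (c.pt.map f x)) := by
          rw [Fw, Fw]
      _ = colimit.ι c.pt m (c.pt.map u (c.pt.map g x')) := by rw [e]
      _ = colimit.ι c.pt i' x' := by rw [Fw, Fw]
  intro s hs
  -- existence
  choose i a ha using fun j => Types.jointly_surjective' (s j)
  have hlink : ∀ ⦃j j' : J⦄ (φ : j ⟶ j'),
      colimit.ι (K.obj j') (i j) ((K.map φ).app (i j) (a j)) =
        colimit.ι (K.obj j') (i j') (a j') := by
    intro j j' φ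
    rw [← Fmap, ha, ha]
    exact hs φ
  obtain ⟨k₀, hk₀⟩ := exists_common_target h1 i (fun {j j'} φ => by
    obtain ⟨k, f, g, -⟩ := (colimit_eq_iff h1 _ _ _).mp (hlink φ)
    exact ⟨k, ⟨f⟩, ⟨g⟩⟩)
  let w : ∀ j, i j ⟶ k₀ := fun j => (hk₀ j).some
  let b : ∀ j, (K.obj j).obj k₀ := fun j => (K.obj j).map (w j) (a j)
  have hb : ∀ j, colimit.ι (K.obj j) k₀ (b j) = s j := fun j => by
    rw [Fw]; exact ha j
  have hlink' : ∀ ⦃j j' : J⦄ (φ : j ⟶ j'),
      colimit.ι (K.obj j') k₀ ((K.map φ).app k₀ (b j)) = colimit.ι (K.obj j') k₀ (b j') := by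
    intro j j' φ
    rw [← Fmap, hb, hb]
    exact hs φ
  obtain ⟨m, u, hu⟩ := exists_common_equalizer h1 h2
    (Finset.univ : Finset (Σ (j j' : J), j ⟶ j')) k₀
    (fun t => K.obj t.2.1) (fun t => (K.map t.2.2).app k₀ (b t.1)) (fun t => b t.2.1)
    (fun t _ => hlink' t.2.2)
  let d : ∀ j, (K.obj j).obj m := fun j => (K.obj j).map u (b j)
  have hd : ∀ ⦃j j' : J⦄ (φ : j ⟶ j'), (K.map φ).app m (d j) = d j' := by
    intro j j' φ
    have hnat : (K.map φ).app m ((K.obj j).map u (b j)) =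
        (K.obj j').map u ((K.map φ).app k₀ (b j)) :=
      (congrArg (fun ψ => ψ (b j)) ((K.map φ).naturality u))
    change (K.map φ).app m ((K.obj j).map u (b j)) = (K.obj j').map u (b j')
    rw [hnat]
    exact hu ⟨j, j', φ⟩ (Finset.mem_univ _)
  obtain ⟨x, hx, -⟩ := F1 m d hd
  refine ⟨colimit.ι c.pt m x, fun j => ?_, fun X' hX' => ?_⟩
  · rw [F3, hx j, Fw]
    exact hb j
  · apply huniq
    intro j
    rw [hX' j, F3, hx j, Fw]
    exact (hb j).symm

end Groth.Agent.S6437
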