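import Groth.Statements.S6427
import Groth.Agent.S6437

set_option autoImplicit false
open CategoryTheory CategoryTheory.Limits
universe v
open CatLim

namespace Groth.Agent.S6427

/-- Over an index category in which every pair of morphisms with common source can be completed to a
commutative square, colimits of sets preserve injective morphisms of diagrams. -/
theorem result {I : Type v} [SmallCategory I]
    (hI : ∀ ⦃x y z : I⦄ (f : x ⟶ y) (g : x ⟶ z), ∃ (w : I) (f' : y ⟶ w) (g' : z ⟶ w), f ≫ f' = g ≫ g')
    {M N : I ⥤ Type v} (φ : M ⟶ N) (hφ : ∀ i, Function.Injective (φ.app i)) :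
    Function.Injective (colimMap φ) := by
  intro X X' hXX'
  obtain ⟨i, a, rfl⟩ := Types.jointly_surjective' X
  obtain ⟨i', a', rfl⟩ := Types.jointly_surjective' X'
  have e1 : colimMap φ (colimit.ι M i a) = colimit.ι N i (φ.app i a) :=
    congrArg (fun ψ => ψ a) (colimit.ι_map φ i)
  have e2 : colimMap φ (colimit.ι M i' a') = colimit.ι N i' (φ.app i' a') :=
    congrArg (fun ψ => ψ a') (colimit.ι_map φ i')
  rw [e1, e2] at hXX'
  obtain ⟨k, f, g, hfg⟩ := (Groth.Agent.S6437.colimit_eq_iff hI N _ _).mp hXX'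
  refine (Groth.Agent.S6437.colimit_eq_iff hI M _ _).mpr ⟨k, f, g, hφ k ?_⟩
  have n1 : φ.app k (M.map f a) = N.map f (φ.app i a) :=
    congrArg (fun ψ => ψ a) (φ.naturality f)
  have n2 : φ.app k (M.map g a') = N.map g (φ.app i' a') :=
    congrArg (fun ψ => ψ a') (φ.naturality g)
  rw [n1, n2, hfg]

end Groth.Agent.S6427
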