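import Groth.Statements.S6428
import Mathlib.CategoryTheory.IsConnected
import Mathlib.CategoryTheory.FiberedCategory.Fiber
import Mathlib.CategoryTheory.Limits.HasLimits

set_option autoImplicit false
open CategoryTheory CategoryTheory.Limits
universe v₁ u₁ v₂ u₂ v₃ u₃
open CatLim

namespace Groth.Agent.S6428

section
variable {I : Type u₁} [Category.{v₁} I] {I' : Type u₂} [Category.{v₂} I'] {C : Type u₃}
  [Category.{v₃} C] (F : I ⥤ I')
  (h1 : ∀ x' : I', IsConnected (F.Fiber x'))
  (h2 : ∀ ⦃x' y' : I'⦄ (α' : x' ⟶ y'), ∃ (x y : I) (hx : F.obj x = x') (hy : F.obj y = y')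
    (α : x ⟶ y), F.map α = eqToHom hx ≫ α' ≫ eqToHom hy.symm)
  (M : I' ⥤ C)

/-- component at a fibre object -/
def comp (t : Cocone (F ⋙ M)) {x' : I'} (a : F.Fiber x') : M.obj x' ⟶ t.pt :=
  M.map (eqToHom a.2.symm) ≫ t.ι.app a.1

include h1 in
lemma comp_const (t : Cocone (F ⋙ M)) {x' : I'} (a b : F.Fiber x') :
    comp F M t a = comp F M t b := by
  haveI := h1 x'
  refine constant_of_preserves_morphisms (fun a => comp F M t a) ?_ a b
  intro a b φ
  have hφ : F.map φ.1 = eqToHom a.2 ≫ 𝟙 x' ≫ eqToHom b.2.symm := by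
    haveI := φ.2
    exact IsHomLift.fac' F (𝟙 x') φ.1
  have hw := t.w φ.1
  obtain ⟨a, ha⟩ := a
  obtain ⟨b, hb⟩ := b
  subst ha
  dsimp only [comp] at hw ⊢
  rw [← hw]
  simp only [Functor.comp_map]
  rw [hφ]
  simp

noncomputable def inducedCocone (t : Cocone (F ⋙ M)) : Cocone M :=
  { pt := t.pt
    ι :=
      { app := fun x' => comp F M t (@Classical.arbitrary _ (h1 x').is_nonempty)
        naturality := by
          intro x' y' α'
          obtain ⟨x, y, hx, hy, α, hα⟩ := h2 α'
          rw [comp_const F h1 M t _ ⟨x, hx⟩, comp_const F h1 M t _ ⟨y, hy⟩]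
          subst hx hy
          have hw := t.w α
          dsimp only [comp]
          rw [← hw]
          simp only [Functor.comp_map]
          rw [hα]
          simp } }

lemma inducedCocone_ι (t : Cocone (F ⋙ M)) {x' : I'} (a : F.Fiber x') :
    (inducedCocone F h1 h2 M t).ι.app x' = comp F M t a :=
  comp_const F h1 M t _ a

noncomputable def whiskerIsColimit {c : Cocone M} (hc : IsColimit c) :
    IsColimit (c.whisker F) :=
  IsColimit.ofExistsUnique fun t => by
    refine ⟨hc.desc (inducedCocone F h1 h2 M t), fun x => ?_, fun m hm => ?_⟩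
    · refine (hc.fac (inducedCocone F h1 h2 M t) (F.obj x)).trans ?_
      rw [inducedCocone_ι F h1 h2 M t ⟨x, rfl⟩]
      simp [comp]
    · apply hc.hom_ext
      intro x'
      refine Eq.trans ?_ (hc.fac (inducedCocone F h1 h2 M t) x').symm
      obtain ⟨a⟩ := (h1 x').is_nonempty
      rw [inducedCocone_ι F h1 h2 M t a]
      obtain ⟨x, rfl⟩ := a
      have := hm x
      simp only [comp, eqToHom_refl, M.map_id, Category.id_comp]
      exact this

noncomputable def inducedIsColimit {d : Cocone (F ⋙ M)} (hd : IsColimit d) :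
    IsColimit (inducedCocone F h1 h2 M d) :=
  IsColimit.ofExistsUnique fun c' => by
    refine ⟨hd.desc (c'.whisker F), fun x' => ?_, fun m hm => ?_⟩
    · obtain ⟨a⟩ := (h1 x').is_nonempty
      rw [inducedCocone_ι F h1 h2 M d a]
      obtain ⟨x, rfl⟩ := a
      simp only [comp, eqToHom_refl, M.map_id, Category.id_comp]
      exact hd.fac (c'.whisker F) x
    · apply hd.hom_ext
      intro x
      refine Eq.trans ?_ (hd.fac (c'.whisker F) x).symm
      have := hm (F.obj x)
      rw [inducedCocone_ι F h1 h2 M d ⟨x, rfl⟩] at this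
      simp only [comp, eqToHom_refl, M.map_id, Category.id_comp] at this
      exact this

end

/-- If `F : I ⥤ I'` has connected fibre categories and is surjective on morphisms, then for every
diagram `M : I' ⥤ C` the colimit of `F ⋙ M` exists if and only if that of `M` does, and the
canonical comparison between them is then an isomorphism. -/
theorem result {I : Type u₁} [Category.{v₁} I] {I' : Type u₂} [Category.{v₂} I'] {C : Type u₃} [Category.{v₃} C] (F : I ⥤ I')
    (h1 : ∀ x' : I', IsConnected (F.Fiber x'))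
    (h2 : ∀ ⦃x' y' : I'⦄ (α' : x' ⟶ y'), ∃ (x y : I) (hx : F.obj x = x') (hy : F.obj y = y') (α : x ⟶ y), F.map α = eqToHom hx ≫ α' ≫ eqToHom hy.symm)
    (M : I' ⥤ C) :
    (HasColimit (F ⋙ M) ↔ HasColimit M) ∧ ∀ [HasColimit (F ⋙ M)] [HasColimit M], IsIso (colimit.pre M F) := by
  refine ⟨⟨fun h => ?_, fun h => ?_⟩, ?_⟩
  · exact ⟨⟨_, inducedIsColimit F h1 h2 M (colimit.isColimit (F ⋙ M))⟩⟩
  · exact ⟨⟨_, whiskerIsColimit F h1 h2 M (colimit.isColimit M)⟩⟩
  · intro _ _
    have hQ := whiskerIsColimit F h1 h2 M (colimit.isColimit M)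
    have : colimit.pre M F =
        (IsColimit.coconePointUniqueUpToIso (colimit.isColimit (F ⋙ M)) hQ).hom := by
      apply colimit.hom_ext
      intro x
      simp
    rw [this]
    infer_instance

end Groth.Agent.S6428
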