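import Groth.Statements.S6434
import Groth.Agent.S6433
import Mathlib.Data.Fintype.Sigma

set_option autoImplicit false
open CategoryTheory
universe v u v' u'
open CatLoc

namespace Groth.Agent.S6434

open Limits

section

variable {C : Type u} [Category.{v} C] {D : Type u'} [Category.{v'} D]
  (W : MorphismProperty C) (L : C ⥤ D) [L.IsLocalization W] [W.HasLeftCalculusOfFractions]

include W in
lemma exists_common_equalizer {ι : Type*} (S : Finset ι) (Z' : C) (A : ι → C)
    (x y : ∀ a, A a ⟶ Z') (h : ∀ a ∈ S, L.map (x a) = L.map (y a)) :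
    ∃ (Z'' : C) (t : Z' ⟶ Z'') (_ : W t), ∀ a ∈ S, x a ≫ t = y a ≫ t := by
  classical
  induction S using Finset.induction_on with
  | empty => exact ⟨Z', 𝟙 Z', W.id_mem Z', by simp⟩
  | insert a₀ S ha₀ ih =>
    obtain ⟨Z'', t, ht, hS⟩ := ih (fun a ha => h a (Finset.mem_insert_of_mem ha))
    have e : L.map (x a₀ ≫ t) = L.map (y a₀ ≫ t) := by
      rw [L.map_comp, L.map_comp, h a₀ (Finset.mem_insert_self _ _)]
    obtain ⟨Z₃, v, hv, fac⟩ := (MorphismProperty.map_eq_iff_postcomp L W _ _).mp e
    refine ⟨Z₃, t ≫ v, W.comp_mem _ _ ht hv, ?_⟩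
    intro a ha
    rcases Finset.mem_insert.mp ha with rfl | ha
    · simpa using fac
    · rw [← Category.assoc, hS a ha, Category.assoc]

include W in
lemma exists_desc {J : Type} [SmallCategory J] [FinCategory J] {K : J ⥤ C} {c : Cocone K}
    (hc : IsColimit c) (Z : C) (g : ∀ j, L.obj (K.obj j) ⟶ L.obj Z)
    (hg : ∀ ⦃j j' : J⦄ (a : j ⟶ j'), L.map (K.map a) ≫ g j' = g j) :
    ∃ m : L.obj c.pt ⟶ L.obj Z, ∀ j, L.map (c.ι.app j) ≫ m = g j := by
  classical
  obtain ⟨Z', s, hs, f, hf⟩ := Groth.Agent.S6433.result W L (fun j => K.obj j) Z g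
  obtain ⟨Z'', t, ht, hE⟩ := exists_common_equalizer W L
    (Finset.univ : Finset (Σ (j j' : J), j ⟶ j')) Z' (fun a => K.obj a.1)
    (fun a => K.map a.2.2 ≫ f a.2.1) (fun a => f a.1) (by
      rintro ⟨j, j', a⟩ -
      dsimp
      rw [L.map_comp, ← hf j', ← hf j, ← Category.assoc, hg a])
  let c' : Cocone K :=
    { pt := Z''
      ι :=
        { app := fun j => f j ≫ t
          naturality := by
            intro j j' a
            have := hE ⟨j, j', a⟩ (Finset.mem_univ _)
            dsimp at this ⊢
            rw [Category.comp_id, ← Category.assoc]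
            simpa using this } }
  have hst : W (s ≫ t) := W.comp_mem _ _ hs ht
  refine ⟨L.map (hc.desc c') ≫ (Localization.isoOfHom L W (s ≫ t) hst).inv, ?_⟩
  intro j
  rw [← Category.assoc, ← L.map_comp, hc.fac]
  change L.map (f j ≫ t) ≫ _ = _
  rw [L.map_comp, ← hf j]
  simp only [Category.assoc]
  rw [← L.map_comp_assoc, Localization.isoOfHom_hom_inv_id, Category.comp_id]

include W in
lemma hom_ext_of_isColimit {J : Type} [SmallCategory J] [FinCategory J] {K : J ⥤ C}
    {c : Cocone K} (hc : IsColimit c) (Z : C) (p q : L.obj c.pt ⟶ L.obj Z)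
    (hpq : ∀ j, L.map (c.ι.app j) ≫ p = L.map (c.ι.app j) ≫ q) : p = q := by
  classical
  obtain ⟨Z', s, hs, f, hf⟩ := Groth.Agent.S6433.result W L (fun _ : Bool => c.pt) Z
    (fun b => cond b p q)
  have hp : p ≫ L.map s = L.map (f true) := hf true
  have hq : q ≫ L.map s = L.map (f false) := hf false
  obtain ⟨Z'', t, ht, hE⟩ := exists_common_equalizer W L
    (Finset.univ : Finset J) Z' (fun j => K.obj j)
    (fun j => c.ι.app j ≫ f true) (fun j => c.ι.app j ≫ f false) (by
      intro j _
      rw [L.map_comp, L.map_comp, ← hp, ← hq, ← Category.assoc, ← Category.assoc, hpq j])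
  have e : f true ≫ t = f false ≫ t := by
    apply hc.hom_ext
    intro j
    have := hE j (Finset.mem_univ _)
    simpa using this
  have i1 : IsIso (L.map t) := Localization.inverts L W _ ht
  have i2 : IsIso (L.map s) := Localization.inverts L W _ hs
  have e' : L.map (f true) = L.map (f false) := by
    rw [← cancel_mono (L.map t), ← L.map_comp, ← L.map_comp, e]
  rw [← cancel_mono (L.map s), hp, hq, e']

end

/-- The localization functor at a left multiplicative system commutes with finite colimits. -/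
theorem result {C : Type u} [Category.{v} C] {D : Type u'} [Category.{v'} D] (W : MorphismProperty C) (L : C ⥤ D) [L.IsLocalization W] [W.HasLeftCalculusOfFractions] :
    Limits.PreservesFiniteColimits L := by
  refine ⟨fun J _ _ => ⟨fun {K} => ⟨fun {c} hc => ⟨?_⟩⟩⟩⟩
  apply IsColimit.ofExistsUnique
  intro s
  have := Localization.essSurj L W
  let e : L.obj (L.objPreimage s.pt) ≅ s.pt := L.objObjPreimageIso s.pt
  obtain ⟨m, hm⟩ := exists_desc W L hc (L.objPreimage s.pt) (fun j => s.ι.app j ≫ e.inv) (by
    intro j j' a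
    have := s.w a
    dsimp at this
    rw [← Category.assoc, this])
  refine ⟨m ≫ e.hom, ?_, ?_⟩
  · intro j
    change L.map (c.ι.app j) ≫ m ≫ e.hom = _
    rw [← Category.assoc, hm j, Category.assoc, e.inv_hom_id]
    exact Category.comp_id _
  · intro m' hm'
    rw [← cancel_mono e.inv, Category.assoc, e.hom_inv_id, Category.comp_id]
    apply hom_ext_of_isColimit W L hc
    intro j
    rw [hm j, ← Category.assoc]
    congr 1
    exact hm' j

end Groth.Agent.S6434
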