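import Groth.Statements.S6435
-- import your own Groth.Agent.* helpers here

set_option autoImplicit false
open CategoryTheory
universe v u v' u'
open CatLoc

namespace Groth.Agent.S6435

/-- For a multiplicative system `W` (left and right calculus of fractions) with localization functor
`L`, a morphism `f` becomes an isomorphism under `L` if and only if `g ∘ f ∈ W` and `f ∘ h ∈ W` for
some `g, h`. -/
theorem result {C : Type u} [Category.{v} C] {D : Type u'} [Category.{v'} D] (W : MorphismProperty C) (L : C ⥤ D) [L.IsLocalization W] [W.HasLeftCalculusOfFractions] [W.HasRightCalculusOfFractions]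
    {X Y : C} (f : X ⟶ Y) :
    IsIso (L.map f) ↔ ∃ (Z Z' : C) (g : Y ⟶ Z) (h : Z' ⟶ X), W (f ≫ g) ∧ W (h ≫ f) := by
  constructor
  · intro hf
    obtain ⟨α, hα⟩ := Localization.exists_leftFraction L W (inv (L.map f))
    obtain ⟨β, hβ⟩ := Localization.exists_rightFraction L W (inv (L.map f))
    have hα' : inv (L.map f) ≫ L.map α.s = L.map α.f := by
      rw [hα, MorphismProperty.LeftFraction.map_comp_map_s]
    have hβ' : L.map β.s ≫ inv (L.map f) = L.map β.f := by
      rw [hβ, MorphismProperty.RightFraction.map_s_comp_map]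
    have e1 : L.map (f ≫ α.f) = L.map α.s := by
      rw [L.map_comp, ← hα', IsIso.hom_inv_id_assoc]
    have e2 : L.map (β.f ≫ f) = L.map β.s := by
      rw [L.map_comp, ← hβ', Category.assoc, IsIso.inv_hom_id, Category.comp_id]
    obtain ⟨Z, t, ht, fac⟩ := (MorphismProperty.map_eq_iff_postcomp L W _ _).mp e1
    obtain ⟨Z', t', ht', fac'⟩ := (MorphismProperty.map_eq_iff_precomp L W _ _).mp e2
    refine ⟨Z, Z', α.f ≫ t, t' ≫ β.f, ?_, ?_⟩
    · rw [← Category.assoc, fac]
      exact W.comp_mem _ _ α.hs ht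
    · rw [Category.assoc, fac']
      exact W.comp_mem _ _ ht' β.hs
  · rintro ⟨Z, Z', g, h, h1, h2⟩
    have i1 : IsIso (L.map (f ≫ g)) := Localization.inverts L W _ h1
    have i2 : IsIso (L.map (h ≫ f)) := Localization.inverts L W _ h2
    rw [L.map_comp] at i1 i2
    have : IsSplitMono (L.map f) := ⟨⟨⟨L.map g ≫ inv (L.map f ≫ L.map g), by
      rw [← Category.assoc, IsIso.hom_inv_id]⟩⟩⟩
    have : IsSplitEpi (L.map f) := ⟨⟨⟨inv (L.map h ≫ L.map f) ≫ L.map h, by
      rw [Category.assoc, IsIso.inv_hom_id]⟩⟩⟩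
    exact isIso_of_mono_of_isSplitEpi _

end Groth.Agent.S6435
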