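import Groth.Statements.S6438
import Mathlib.CategoryTheory.Limits.Shapes.FiniteMultiequalizer
import Mathlib.CategoryTheory.Limits.IsConnected
import Mathlib.CategoryTheory.Limits.Final
import Mathlib.CategoryTheory.IsConnected

set_option autoImplicit false
open CategoryTheory
universe v u
open CatLim

namespace Groth.Agent.S6438

open Limits

section
variable {I : Type u} [Category.{v} I] {n m : ℕ} (e : I ≃ Fin n) (γ : Fin m → Σ x y : I, x ⟶ y)

/-- The shape: left objects are the objects of `I`, right objects the generators. -/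
def Sh : MulticospanShape where
  L := Fin n
  R := Fin m
  fst := fun b => e (γ b).1
  snd := fun b => e (γ b).2.1

instance : Fintype (Sh e γ).L := inferInstanceAs (Fintype (Fin n))
instance : Fintype (Sh e γ).R := inferInstanceAs (Fintype (Fin m))
instance : DecidableEq (Sh e γ).L := inferInstanceAs (DecidableEq (Fin n))
instance : DecidableEq (Sh e γ).R := inferInstanceAs (DecidableEq (Fin m))

/-- The multicospan index. -/
def Ix : MulticospanIndex (Sh e γ) I where
  left := fun a => e.symm a
  right := fun b => (γ b).2.1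
  fst := fun b => eqToHom (e.symm_apply_apply _) ≫ (γ b).2.2
  snd := fun b => eqToHom (e.symm_apply_apply _)

/-- The functor. -/
def FF : WalkingMulticospan (Sh e γ) ⥤ I := (Ix e γ).multicospan

lemma FF_obj_left (a : Fin n) :
    (FF e γ).obj (WalkingMulticospan.left (J := Sh e γ) a) = e.symm a := rfl
lemma FF_obj_right (b : Fin m) :
    (FF e γ).obj (WalkingMulticospan.right (J := Sh e γ) b) = (γ b).2.1 := rfl
lemma FF_map_fst (b : Fin m) : (FF e γ).map (WalkingMulticospan.Hom.fst (J := Sh e γ) b) =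
    eqToHom (e.symm_apply_apply _) ≫ (γ b).2.2 := rfl
lemma FF_map_snd (b : Fin m) : (FF e γ).map (WalkingMulticospan.Hom.snd (J := Sh e γ) b) =
    eqToHom (e.symm_apply_apply _) := rfl

/-- The structured arrow at a left object attached to `x : I`. -/
def mkL {i : I} (x : I) (v : i ⟶ x) : StructuredArrow i (FF e γ) :=
  StructuredArrow.mk (T := FF e γ)
    (Y := (WalkingMulticospan.left (J := Sh e γ) (e x)))
    (show i ⟶ (FF e γ).obj (WalkingMulticospan.left (J := Sh e γ) (e x)) from
      v ≫ eqToHom (e.symm_apply_apply x).symm)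

/-- The structured arrow at a right object. -/
def mkR {i : I} (b : Fin m) (v : i ⟶ (γ b).2.1) : StructuredArrow i (FF e γ) :=
  StructuredArrow.mk (T := FF e γ) (Y := (WalkingMulticospan.right (J := Sh e γ) b))
    (show i ⟶ (FF e γ).obj (WalkingMulticospan.right (J := Sh e γ) b) from v)

lemma zigzag_gen {i : I} (b : Fin m) (v : i ⟶ (γ b).1) :
    Zigzag (mkL e γ (γ b).1 v) (mkL e γ (γ b).2.1 (v ≫ (γ b).2.2)) := by
  have f₁ : mkL e γ (γ b).1 v ⟶ mkR e γ b (v ≫ (γ b).2.2) :=
    StructuredArrow.homMk (WalkingMulticospan.Hom.fst (J := Sh e γ) b) (by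
      change (v ≫ eqToHom _) ≫ (eqToHom _ ≫ (γ b).2.2) = v ≫ (γ b).2.2
      simp)
  have f₂ : mkL e γ (γ b).2.1 (v ≫ (γ b).2.2) ⟶ mkR e γ b (v ≫ (γ b).2.2) :=
    StructuredArrow.homMk (WalkingMulticospan.Hom.snd (J := Sh e γ) b) (by
      change ((v ≫ (γ b).2.2) ≫ eqToHom (e.symm_apply_apply _).symm) ≫
        eqToHom (e.symm_apply_apply _) = v ≫ (γ b).2.2
      simp)
  exact (Zigzag.of_hom f₁).trans (Zigzag.of_inv f₂)

/-- The morphism property used for finality. -/
def Pfin : MorphismProperty I := fun x y u =>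
  ∀ (i : I) (v : i ⟶ x), Zigzag (mkL e γ x v) (mkL e γ y (v ≫ u))

lemma Pfin_mult : (Pfin e γ).IsMultiplicative where
  id_mem x := fun i v => by rw [Category.comp_id]
  comp_mem u u' hu hu' := fun i v => by
    have := (hu i v).trans (hu' i (v ≫ u))
    rwa [Category.assoc] at this

lemma zigzag_base (hP : Pfin e γ = ⊤) {i : I} (X : StructuredArrow i (FF e γ)) :
    Zigzag (mkL e γ i (𝟙 i)) X := by
  have hleft : ∀ (x : I) (u : i ⟶ x), Zigzag (mkL e γ i (𝟙 i)) (mkL e γ x u) := by
    intro x u
    have : Pfin e γ u := by rw [hP]; trivial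
    simpa using this i (𝟙 i)
  obtain ⟨⟨⟨⟩⟩, Y, f⟩ := X
  cases Y with
  | left a =>
    obtain ⟨x, rfl⟩ : ∃ x, a = e x := ⟨e.symm a, (e.apply_symm_apply a).symm⟩
    have hX : (⟨⟨⟨⟩⟩, WalkingMulticospan.left (J := Sh e γ) (e x), f⟩ :
        StructuredArrow i (FF e γ)) =
        mkL e γ x ((show i ⟶ e.symm (e x) from f) ≫ eqToHom (e.symm_apply_apply x)) := by
      unfold mkL StructuredArrow.mk
      congr 1
      rw [Category.assoc, eqToHom_trans]
      exact (Category.comp_id f).symm
    rw [hX]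
    exact hleft _ _
  | right b =>
    have f₂ : mkL e γ (γ b).2.1 (show i ⟶ (γ b).2.1 from f) ⟶
        (⟨⟨⟨⟩⟩, WalkingMulticospan.right (J := Sh e γ) b, f⟩ : StructuredArrow i (FF e γ)) :=
      StructuredArrow.homMk (WalkingMulticospan.Hom.snd (J := Sh e γ) b) (by
        change ((show i ⟶ (γ b).2.1 from f) ≫ eqToHom (e.symm_apply_apply _).symm) ≫
          eqToHom (e.symm_apply_apply _) = f
        simp)
    exact (hleft _ _).trans (Zigzag.of_hom f₂)

lemma final_of (hP : Pfin e γ = ⊤) : (FF e γ).Final :=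
  ⟨fun i => by
    have : Nonempty (StructuredArrow i (FF e γ)) := ⟨mkL e γ i (𝟙 i)⟩
    exact zigzag_isConnected fun X Y => (zigzag_base e γ hP X).symm.trans (zigzag_base e γ hP Y)⟩

/-- The costructured arrow at a left object attached to `x : I`. -/
def mkL' {i : I} (x : I) (v : x ⟶ i) : CostructuredArrow (FF e γ) i :=
  CostructuredArrow.mk (S := FF e γ)
    (Y := (WalkingMulticospan.left (J := Sh e γ) (e x)))
    (show (FF e γ).obj (WalkingMulticospan.left (J := Sh e γ) (e x)) ⟶ i from
      eqToHom (e.symm_apply_apply x) ≫ v)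

/-- The costructured arrow at a right object. -/
def mkR' {i : I} (b : Fin m) (v : (γ b).2.1 ⟶ i) : CostructuredArrow (FF e γ) i :=
  CostructuredArrow.mk (S := FF e γ) (Y := (WalkingMulticospan.right (J := Sh e γ) b))
    (show (FF e γ).obj (WalkingMulticospan.right (J := Sh e γ) b) ⟶ i from v)

lemma zigzag_gen' {i : I} (b : Fin m) (v : (γ b).2.1 ⟶ i) :
    Zigzag (mkL' e γ (γ b).1 ((γ b).2.2 ≫ v)) (mkL' e γ (γ b).2.1 v) := by
  have f₁ : mkL' e γ (γ b).1 ((γ b).2.2 ≫ v) ⟶ mkR' e γ b v :=
    CostructuredArrow.homMk (WalkingMulticospan.Hom.fst (J := Sh e γ) b) (by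
      change (eqToHom (e.symm_apply_apply _) ≫ (γ b).2.2) ≫ v =
        eqToHom (e.symm_apply_apply _) ≫ (γ b).2.2 ≫ v
      simp)
  have f₂ : mkL' e γ (γ b).2.1 v ⟶ mkR' e γ b v :=
    CostructuredArrow.homMk (WalkingMulticospan.Hom.snd (J := Sh e γ) b) (by
      change eqToHom (e.symm_apply_apply _) ≫ v = eqToHom (e.symm_apply_apply _) ≫ v
      rfl)
  exact (Zigzag.of_hom f₁).trans (Zigzag.of_inv f₂)

/-- The morphism property used for initiality. -/
def Pini : MorphismProperty I := fun x y u =>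
  ∀ (i : I) (v : y ⟶ i), Zigzag (mkL' e γ x (u ≫ v)) (mkL' e γ y v)

lemma Pini_mult : (Pini e γ).IsMultiplicative where
  id_mem x := fun i v => by rw [Category.id_comp]
  comp_mem u u' hu hu' := fun i v => by
    have := (hu i (u' ≫ v)).trans (hu' i v)
    rwa [← Category.assoc] at this

lemma zigzag_base' (hP : Pini e γ = ⊤) {i : I} (X : CostructuredArrow (FF e γ) i) :
    Zigzag X (mkL' e γ i (𝟙 i)) := by
  have hleft : ∀ (x : I) (u : x ⟶ i), Zigzag (mkL' e γ x u) (mkL' e γ i (𝟙 i)) := by
    intro x u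
    have : Pini e γ u := by rw [hP]; trivial
    simpa using this i (𝟙 i)
  obtain ⟨Y, ⟨⟨⟩⟩, f⟩ := X
  cases Y with
  | left a =>
    obtain ⟨x, rfl⟩ : ∃ x, a = e x := ⟨e.symm a, (e.apply_symm_apply a).symm⟩
    have hX : (⟨WalkingMulticospan.left (J := Sh e γ) (e x), ⟨⟨⟩⟩, f⟩ :
        CostructuredArrow (FF e γ) i) =
        mkL' e γ x (eqToHom (e.symm_apply_apply x).symm ≫ (show e.symm (e x) ⟶ i from f)) := by
      unfold mkL' CostructuredArrow.mk
      congr 1
      rw [← Category.assoc, eqToHom_trans]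
      exact (Category.id_comp f).symm
    rw [hX]
    exact hleft _ _
  | right b =>
    have f₂ : mkL' e γ (γ b).2.1 (show (γ b).2.1 ⟶ i from f) ⟶
        (⟨WalkingMulticospan.right (J := Sh e γ) b, ⟨⟨⟩⟩, f⟩ : CostructuredArrow (FF e γ) i) :=
      CostructuredArrow.homMk (WalkingMulticospan.Hom.snd (J := Sh e γ) b) (by
        change eqToHom (e.symm_apply_apply _) ≫ f = eqToHom (e.symm_apply_apply _) ≫ f
        rfl)
    exact (Zigzag.of_inv f₂).trans (hleft _ _)

lemma initial_of (hP : Pini e γ = ⊤) : (FF e γ).Initial :=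
  ⟨fun i => by
    have : Nonempty (CostructuredArrow (FF e γ) i) := ⟨mkL' e γ i (𝟙 i)⟩
    exact zigzag_isConnected fun X Y =>
      (zigzag_base' e γ hP X).trans (zigzag_base' e γ hP Y).symm⟩

end

/-- A category with finitely many objects whose morphisms are generated under composition by finitely
many of them receives a functor from a finite category which is both final and initial, the finite
category being connected (resp. nonempty) exactly when the given one is. (The published statement
says that limits and colimits of every diagram are computed after restriction along the functor;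
this is expressed here through finality and initiality.) -/
theorem result {I : Type u} [Category.{v} I] [Finite I]
    (gen : Finset (Σ x y : I, x ⟶ y))
    (hgen : ∀ P : MorphismProperty I, P.IsMultiplicative → (∀ a ∈ gen, P a.2.2) → P = ⊤) :
    ∃ (J : Type) (_ : SmallCategory J) (_ : FinCategory J) (F : J ⥤ I),
      F.Final ∧ F.Initial ∧ (IsConnected J ↔ IsConnected I) ∧ (Nonempty J ↔ Nonempty I) := by
  classical
  obtain ⟨n, ⟨e⟩⟩ := Finite.exists_equiv_fin I
  let eg : {a // a ∈ gen} ≃ Fin gen.card := gen.equivFin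
  let γ : Fin gen.card → Σ x y : I, x ⟶ y := fun b => (eg.symm b).1
  have hγ : ∀ a ∈ gen, ∃ b, γ b = a := fun a ha => ⟨eg ⟨a, ha⟩, by simp [γ]⟩
  have hPfin : Pfin e γ = ⊤ := hgen _ (Pfin_mult e γ) (by
    intro a ha
    obtain ⟨b, rfl⟩ := hγ a ha
    intro i v
    exact zigzag_gen e γ b v)
  have hPini : Pini e γ = ⊤ := hgen _ (Pini_mult e γ) (by
    intro a ha
    obtain ⟨b, rfl⟩ := hγ a ha
    intro i v
    exact zigzag_gen' e γ b v)
  have hfin := final_of e γ hPfin
  have hini := initial_of e γ hPini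
  refine ⟨WalkingMulticospan (Sh e γ), inferInstance, inferInstance, FF e γ, hfin, hini,
    Functor.isConnected_iff_of_final (FF e γ), ?_⟩
  constructor
  · rintro ⟨Y⟩
    exact ⟨(FF e γ).obj Y⟩
  · rintro ⟨x⟩
    exact ⟨WalkingMulticospan.left (J := Sh e γ) (e x)⟩

end Groth.Agent.S6438
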