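import Groth.Statements.S6441
import Mathlib
-- import your own Groth.Agent.* helpers here

set_option autoImplicit false
open CategoryTheory CategoryTheory.Limits Opposite
universe u
open SiteMisc

namespace Groth.Agent.S6441

/-- sheaves of types have singleton values on objects covered by the empty sieve -/
lemma sheaf_unique_of_bot_mem {D : Type u} [SmallCategory D] (K : GrothendieckTopology D)
    (F : Dᵒᵖ ⥤ Type u) (hF : Presheaf.IsSheaf K F) (V : D) (hV : (⊥ : Sieve V) ∈ K V) :
    Nonempty (Unique (F.obj (op V))) := by
  have hF' := (isSheaf_iff_isSheaf_of_type _ _).mp hF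
  have h := hF' _ hV
  -- the empty family
  let x : Presieve.FamilyOfElements F (⊥ : Sieve V).arrows := fun W g hg => hg.elim
  have hx : x.Compatible := by
    intro Y₁ Y₂ Z g₁ g₂ f₁ f₂ h₁ h₂ _
    exact h₁.elim
  obtain ⟨t, -, htu⟩ := h x hx
  refine ⟨⟨⟨t⟩, fun s => htu s ?_⟩⟩
  intro W g hg
  exact hg.elim


/-- For a continuous and almost cocontinuous functor `u` between small sites and a presheaf of sets `G`
taking singleton values on sheaf theoretically empty objects, sheafification commutes with `u^p`:
the canonical comparison `(u^p G)^# ⟶ u^p(G^#)` is an isomorphism. -/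
theorem result {C D : Type u} [SmallCategory C] [SmallCategory D]
    (J : GrothendieckTopology C) (K : GrothendieckTopology D) (u : C ⥤ D) [u.IsContinuous J K]
    (hu : BigSite.IsAlmostCocontinuous u J K) (G : Dᵒᵖ ⥤ Type u)
    (hG : ∀ V : D, (⊥ : Sieve V) ∈ K V → Nonempty (Unique (G.obj (op V)))) :
    IsIso (((sheafificationAdjunction J (Type u)).homEquiv (u.op ⋙ G)
      ((u.sheafPushforwardContinuous (Type u) J K).obj ((presheafToSheaf K (Type u)).obj G))).symm
        (Functor.whiskerLeft u.op (toSheafify K G))) := by
  set α := Functor.whiskerLeft u.op (toSheafify K G) with hα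
  set F' := (u.sheafPushforwardContinuous (Type u) J K).obj ((presheafToSheaf K (Type u)).obj G)
  set β := ((sheafificationAdjunction J (Type u)).homEquiv (u.op ⋙ G) F').symm α with hβ
  have hαβ : (sheafificationAdjunction J (Type u)).unit.app (u.op ⋙ G) ≫
      (sheafToPresheaf J _).map β = α := by
    exact ((sheafificationAdjunction J (Type u)).homEquiv_unit (X := u.op ⋙ G) (Y := F') β).symm.trans
      (Equiv.apply_symm_apply _ _)
  have hW : J.W α := by
    have : Presheaf.IsLocallyInjective J α := by
      constructor
      intro U x y hxy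
      induction U using Opposite.rec with | _ U => ?_
      have h1 : Presheaf.equalizerSieve (F := G) (X := op (u.obj U)) x y ∈ K (u.obj U) :=
        Presheaf.equalizerSieve_mem K (toSheafify K G) (X := op (u.obj U)) x y hxy
      obtain ⟨R', hR', hR'2⟩ := hu U _ h1
      refine J.superset_covering ?_ hR'
      intro V g hg
      rcases hR'2 g hg with hbot | hmem
      · obtain ⟨hU⟩ := hG _ hbot
        exact (hU.uniq _).trans (hU.uniq _).symm
      · exact hmem
    have : Presheaf.IsLocallySurjective J α := by
      constructor
      intro U s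
      have h1 : Presheaf.imageSieve (toSheafify K G) (U := u.obj U) s ∈ K (u.obj U) :=
        Presheaf.imageSieve_mem K (toSheafify K G) (U := op (u.obj U)) s
      obtain ⟨R', hR', hR'2⟩ := hu U _ h1
      refine J.superset_covering ?_ hR'
      intro V g hg
      rcases hR'2 g hg with hbot | hmem
      · obtain ⟨hU⟩ := hG _ hbot
        obtain ⟨hS⟩ := sheaf_unique_of_bot_mem K (sheafify K G) ((presheafToSheaf K (Type u)).obj G).property _ hbot
        exact ⟨hU.default, (hS.uniq _).trans (hS.uniq _).symm⟩
      · exact hmem
    exact J.W_of_isLocallyBijective α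
  have hW2 : J.W ((sheafToPresheaf J _).map β) := by
    have h1 := J.W_adj_unit_app (sheafificationAdjunction J (Type u)) (u.op ⋙ G)
    rw [← hαβ] at hW
    exact J.W.of_precomp _ _ h1 hW
  exact (J.W_sheafToPresheaf_map_iff_isIso β).mp hW2

end Groth.Agent.S6441
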