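import Groth.Statements.S6440
import Mathlib
import Groth.Agent.S6441
-- import your own Groth.Agent.* helpers here

set_option autoImplicit false
open CategoryTheory CategoryTheory.Limits Opposite
universe u
open SiteMisc

namespace Groth.Agent.S6440

/-- a connected colimit of singletons in `Type u` is a singleton -/
lemma unique_of_isColimit_of_unique {I : Type} [SmallCategory I] [IsConnected I]
    (T : I ⥤ Type u) (c : Cocone T) (hc : IsColimit c) (hT : ∀ i, Nonempty (Unique (T.obj i))) :
    Nonempty (Unique c.pt) := by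
  have hT' : ∀ i, Unique (T.obj i) := fun i => (hT i).some
  let f : I → c.pt := fun i => c.ι.app i (hT' i).default
  have hf : ∀ i j, f i = f j := by
    apply constant_of_preserves_morphisms
    intro j₁ j₂ m
    have h1 : c.ι.app j₁ (hT' j₁).default = c.ι.app j₂ (T.map m (hT' j₁).default) := by
      have := congrArg (fun g => g (hT' j₁).default) (c.w m)
      exact this.symm
    change c.ι.app j₁ (hT' j₁).default = c.ι.app j₂ (hT' j₂).default
    rw [h1, (hT' j₂).uniq (T.map m (hT' j₁).default)]
  obtain ⟨i₀⟩ := (inferInstance : Nonempty I)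
  refine ⟨⟨⟨f i₀⟩, ?_⟩⟩
  intro x
  obtain ⟨i, a, rfl⟩ := Types.jointly_surjective_of_isColimit hc x
  rw [(hT' i).uniq a]
  exact hf i i₀


/-- For a continuous and almost cocontinuous functor `u` between small sites, the functor `u^s` on
sheaves of sets preserves finite connected colimits. -/
theorem result {C D : Type u} [SmallCategory C] [SmallCategory D]
    (J : GrothendieckTopology C) (K : GrothendieckTopology D) (u : C ⥤ D) [u.IsContinuous J K]
    (hu : BigSite.IsAlmostCocontinuous u J K) (I : Type) [SmallCategory I] [FinCategory I] [IsConnected I] :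
    PreservesColimitsOfShape I (u.sheafPushforwardContinuous (Type u) J K) := by
  constructor
  intro F
  let E : Cocone (F ⋙ sheafToPresheaf K (Type u)) := colimit.cocone _
  have hE : IsColimit E := colimit.isColimit _
  let c : Cocone F := Sheaf.sheafifyCocone E
  have hc : IsColimit c := Sheaf.isColimitSheafifyCocone E hE
  apply preservesColimit_of_preserves_colimit_cocone hc
  let up : (Dᵒᵖ ⥤ Type u) ⥤ (Cᵒᵖ ⥤ Type u) := (Functor.whiskeringLeft _ _ _).obj u.op
  let E' : Cocone ((F ⋙ u.sheafPushforwardContinuous (Type u) J K) ⋙ sheafToPresheaf J (Type u)) :=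
    up.mapCocone E
  have hE' : IsColimit E' := isColimitOfPreserves up hE
  let c' : Cocone (F ⋙ u.sheafPushforwardContinuous (Type u) J K) := Sheaf.sheafifyCocone E'
  have hc' : IsColimit c' := Sheaf.isColimitSheafifyCocone E' hE'
  -- singleton values on empty objects
  have hG : ∀ V : D, (⊥ : Sieve V) ∈ K V → Nonempty (Unique (E.pt.obj (op V))) := by
    intro V hV
    have hEV : IsColimit (((evaluation _ _).obj (op V)).mapCocone E) :=
      isColimitOfPreserves _ hE
    refine unique_of_isColimit_of_unique _ _ hEV ?_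
    intro i
    exact Groth.Agent.S6441.sheaf_unique_of_bot_mem K (F.obj i).obj (F.obj i).property V hV
  have hiso := Groth.Agent.S6441.result J K u hu E.pt hG
  let β : c'.pt ⟶ ((u.sheafPushforwardContinuous (Type u) J K).mapCocone c).pt :=
    ((sheafificationAdjunction J (Type u)).homEquiv (u.op ⋙ E.pt)
      ((u.sheafPushforwardContinuous (Type u) J K).obj ((presheafToSheaf K (Type u)).obj E.pt))).symm
        (Functor.whiskerLeft u.op (toSheafify K E.pt))
  have hβiso : IsIso β := hiso
  have hβ : toSheafify J (u.op ⋙ E.pt) ≫ β.hom = Functor.whiskerLeft u.op (toSheafify K E.pt) := by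
    exact ((sheafificationAdjunction J (Type u)).homEquiv_unit (X := u.op ⋙ E.pt)
      (Y := (u.sheafPushforwardContinuous (Type u) J K).obj ((presheafToSheaf K (Type u)).obj E.pt))
      β).symm.trans (Equiv.apply_symm_apply _ _)
  refine IsColimit.ofIsoColimit hc' (Cocone.ext (asIso β) ?_)
  intro i
  apply Sheaf.hom_ext
  change (c'.ι.app i).hom ≫ β.hom = Functor.whiskerLeft u.op (c.ι.app i).hom
  rw [Sheaf.sheafifyCocone_ι_app_val, Sheaf.sheafifyCocone_ι_app_val]
  have e1 : (E'.ι.app i ≫ toSheafify J E'.pt) ≫ β.hom =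
      E'.ι.app i ≫ (toSheafify J (u.op ⋙ E.pt) ≫ β.hom) := Category.assoc _ _ _
  have e2 : E'.ι.app i ≫ (toSheafify J (u.op ⋙ E.pt) ≫ β.hom) =
      E'.ι.app i ≫ Functor.whiskerLeft u.op (toSheafify K E.pt) :=
    congrArg (fun m => E'.ι.app i ≫ m) hβ
  exact e1.trans (e2.trans rfl)

end Groth.Agent.S6440
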