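import Groth.Statements.S6442
import Groth.Agent.Lib.Helper9QCSite

set_option autoImplicit false
open CategoryTheory CategoryTheory.Limits Opposite
universe u
open SiteMisc

namespace Groth.Agent.S6442

/-- An object `U` of a site is weakly contractible, i.e. for every covering sieve `S` the sheafified map
`(∐_{V → U ∈ S} h_V)^# ⟶ h_U^#` has a section, if and only if taking sections over `U` turns
epimorphisms of sheaves of sets into surjections. (Coverings are taken as covering sieves; the
coproduct is formed in presheaves and then sheafified.) -/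
theorem result {C : Type u} [SmallCategory C] (J : GrothendieckTopology C) (U : C) :
    (∀ S : Sieve U, S ∈ J U →
      IsSplitEpi ((presheafToSheaf J (Type u)).map
        (Sigma.desc (fun i : (Σ V : C, {f : V ⟶ U // S f}) => yoneda.map i.2.1) :
          (∐ fun i : (Σ V : C, {f : V ⟶ U // S f}) => yoneda.obj i.1) ⟶ yoneda.obj U))) ↔
    ∀ (F G : Sheaf J (Type u)) (φ : F ⟶ G), Epi φ → Function.Surjective (φ.hom.app (op U)) := by
  classical
  constructor
  · -- weakly contractible ⟹ sections over `U` preserve epimorphisms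
    intro hW F G φ hφ x
    have hls : Presheaf.IsLocallySurjective J φ.hom :=
      (Sheaf.isLocallySurjective_iff_epi φ).2 hφ
    have hS : Presheaf.imageSieve φ.hom x ∈ J U := Presheaf.imageSieve_mem J φ.hom x
    have hsplit := hW _ hS
    let ι : Type u := Σ V : C, {f : V ⟶ U // (Presheaf.imageSieve φ.hom x) f}
    let y : ∀ i : ι, F.obj.obj (op i.1) := fun i => i.2.2.choose
    have hy : ∀ i : ι, φ.hom.app _ (y i) = G.obj.map i.2.1.op x := fun i => i.2.2.choose_spec
    let σ : (∐ fun i : ι => yoneda.obj i.1) ⟶ yoneda.obj U :=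
      Sigma.desc (fun i : ι => yoneda.map i.2.1)
    let ψpre : (∐ fun i : ι => yoneda.obj i.1) ⟶ F.obj :=
      Sigma.desc (fun i : ι => yonedaEquiv.symm (y i))
    let adjn := sheafificationAdjunction J (Type u)
    let ψ : (presheafToSheaf J (Type u)).obj (∐ fun i : ι => yoneda.obj i.1) ⟶ F :=
      (adjn.homEquiv _ F).symm ψpre
    let xt : (presheafToSheaf J (Type u)).obj (yoneda.obj U) ⟶ G :=
      (Groth.Agent.Lib.Helper9.shYonedaEquiv J U G).symm x
    have hxt : adjn.homEquiv _ G xt = yonedaEquiv.symm x := by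
      have h1 : Groth.Agent.Lib.Helper9.shYonedaEquiv J U G xt = x := Equiv.apply_symm_apply _ _
      have h2 : yonedaEquiv (adjn.homEquiv _ G xt) = x := h1
      rw [← h2, Equiv.symm_apply_apply]
    have key : ψ ≫ φ = (presheafToSheaf J (Type u)).map σ ≫ xt := by
      apply (adjn.homEquiv _ G).injective
      rw [Adjunction.homEquiv_naturality_right, Adjunction.homEquiv_naturality_left, hxt]
      have h3 : adjn.homEquiv _ F ψ = ψpre := Equiv.apply_symm_apply _ _
      rw [h3]
      apply Sigma.hom_ext
      intro i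
      have e1 : Sigma.ι (fun i : ι => yoneda.obj i.1) i ≫ ψpre = yonedaEquiv.symm (y i) :=
        Sigma.ι_desc _ _
      have e2 : Sigma.ι (fun i : ι => yoneda.obj i.1) i ≫ σ = yoneda.map i.2.1 :=
        Sigma.ι_desc _ _
      show Sigma.ι (fun i : ι => yoneda.obj i.1) i ≫ ψpre ≫ (sheafToPresheaf J (Type u)).map φ =
        Sigma.ι (fun i : ι => yoneda.obj i.1) i ≫ σ ≫ yonedaEquiv.symm x
      rw [← Category.assoc, ← Category.assoc, e1, e2]
      apply yonedaEquiv.injective
      rw [yonedaEquiv_comp, Equiv.apply_symm_apply, yonedaEquiv_symm_naturality_left,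
        Equiv.apply_symm_apply]
      exact hy i
    refine ⟨Groth.Agent.Lib.Helper9.shYonedaEquiv J U F
      (section_ ((presheafToSheaf J (Type u)).map σ) ≫ ψ), ?_⟩
    rw [← Groth.Agent.Lib.Helper9.shYonedaEquiv_comp, Category.assoc, key, ← Category.assoc,
      IsSplitEpi.id, Category.id_comp]
    exact Equiv.apply_symm_apply _ _
  · -- conversely
    intro hH S hS
    let ι : Type u := Σ V : C, {f : V ⟶ U // S f}
    let σ : (∐ fun i : ι => yoneda.obj i.1) ⟶ yoneda.obj U :=
      Sigma.desc (fun i : ι => yoneda.map i.2.1)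
    have hj : Groth.Agent.Lib.Helper9.JEpi
        (fun i : ι => Groth.Agent.Lib.Helper9.epsMap J i.2.1) := by
      refine (Groth.Agent.Lib.Helper9.jEpi_epsMap_iff (fun i : ι => i.1) (fun i => i.2.1)).2
        (J.superset_covering ?_ hS)
      intro V f hf
      exact Sieve.ofArrows_mk (fun i : ι => i.1) (fun i => i.2.1) ⟨V, f, hf⟩
    have hepi : Epi ((presheafToSheaf J (Type u)).map σ) := by
      refine ⟨fun {Z} α β hαβ => hj α β fun i => ?_⟩
      have e2 : Sigma.ι (fun i : ι => yoneda.obj i.1) i ≫ σ = yoneda.map i.2.1 :=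
        Sigma.ι_desc _ _
      show (presheafToSheaf J (Type u)).map (yoneda.map i.2.1) ≫ α =
        (presheafToSheaf J (Type u)).map (yoneda.map i.2.1) ≫ β
      rw [← e2, Functor.map_comp, Category.assoc, Category.assoc, hαβ]
    obtain ⟨t, ht⟩ := hH _ _ _ hepi (Groth.Agent.Lib.Helper9.etaSec J U)
    refine ⟨⟨(Groth.Agent.Lib.Helper9.shYonedaEquiv J U _).symm t, ?_⟩⟩
    apply (Groth.Agent.Lib.Helper9.shYonedaEquiv J U _).injective
    rw [Groth.Agent.Lib.Helper9.shYonedaEquiv_comp, Equiv.apply_symm_apply]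
    exact ht

end Groth.Agent.S6442
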