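import Groth.Statements.S6448
-- import your own Groth.Agent.* helpers here

set_option autoImplicit false
open CategoryTheory
universe v u
open CatLim

namespace Groth.Agent.S6448

/-- In a category where spans complete to commutative squares and parallel pairs are coequalized by a
later arrow, every connected component is filtered (so the category is a disjoint union of filtered
categories). -/
theorem result {I : Type u} [Category.{v} I]
    (h1 : ∀ ⦃w x y : I⦄ (a : w ⟶ x) (b : w ⟶ y), ∃ (z : I) (c : x ⟶ z) (d : y ⟶ z), a ≫ c = b ≫ d)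
    (h2 : ∀ ⦃x y : I⦄ (a b : x ⟶ y), ∃ (z : I) (c : y ⟶ z), a ≫ c = b ≫ c)
    (j : ConnectedComponents I) : IsFiltered j.Component := by
  have key : ∀ x y : I, Zigzag x y → ∃ (z : I) (_ : x ⟶ z) (_ : y ⟶ z), True := by
    intro x y hxy
    induction hxy with
    | refl => exact ⟨x, 𝟙 x, 𝟙 x, trivial⟩
    | tail _ hzag ih =>
      obtain ⟨z, p, q, -⟩ := ih
      rcases hzag with ⟨⟨a⟩⟩ | ⟨⟨b⟩⟩
      · obtain ⟨z', c, d, -⟩ := h1 q a
        exact ⟨z', p ≫ c, d, trivial⟩
      · exact ⟨z, p, b ≫ q, trivial⟩
  have hmem : ∀ (x : j.Component) (z : I), (x.obj ⟶ z) → j.objectProperty z := by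
    intro x z f
    have : (Quotient.mk'' z : ConnectedComponents I) = Quotient.mk'' x.obj :=
      (Quotient.sound' (Zigzag.of_hom f)).symm
    exact this.trans x.property
  refine { cocone_objs := ?_, cocone_maps := ?_, nonempty := inferInstance }
  · intro x y
    have hxy : Zigzag x.obj y.obj := Quotient.exact' (x.property.trans y.property.symm)
    obtain ⟨z, p, q, -⟩ := key _ _ hxy
    exact ⟨⟨z, hmem x z p⟩, ObjectProperty.homMk p, ObjectProperty.homMk q, trivial⟩
  · intro x y f g
    obtain ⟨z, c, hc⟩ := h2 f.hom g.hom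
    refine ⟨⟨z, hmem y z c⟩, ObjectProperty.homMk c, ?_⟩
    ext
    exact hc

end Groth.Agent.S6448
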