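import Groth.Statements.S6453
import Groth.Agent.Lib.Helper2IntMultLoc

set_option autoImplicit false
universe u
open CategoryTheory AlgebraicGeometry
attribute [local instance] HasDerivedCategory.standard
open IntMult

namespace Groth.Agent.S6453

/-- Suppose the ideal of V in O_{X,ξ} is generated by a single nonzerodivisor g (c = 1: V is an
effective Cartier divisor at ξ). Then e(X, V·W, Z) = length_{O_{X,ξ}}(O_{W,ξ}/g O_{W,ξ}), i.e. the
length of O_{X,ξ}/(I_{W,ξ} + (g)). Here X is a nonsingular variety over an algebraically closed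
field K (smooth, separated, quasi-compact, integral), V and W are closed subvarieties given by
quasi-coherent ideal sheaves with integral subschemes, of dimensions r and s with dim X = n,
intersecting properly, and ξ is the generic point of an irreducible component Z of V ∩ W (a point of
V ∩ W maximal under specialization); e(X, V·W, Z) = IntMult.mult is the alternating sum of lengths
of Tor over O_{X,ξ}, and O_{W,ξ} = O_{X,ξ}/I_{W,ξ}. -/
theorem result (K : Type u) [Field K] [IsAlgClosed K] (X : Scheme.{u}) (f : X ⟶ Spec (CommRingCat.of K)) [Smooth f] [IsSeparated f] [QuasiCompact f] [IsIntegral X] (IV IW : X.IdealSheafData) [IsIntegral IV.subscheme] [IsIntegral IW.subscheme] (n r s : ℕ) (hn : topologicalKrullDim X = n) (hr : topologicalKrullDim IV.support = r) (hs : topologicalKrullDim IW.support = s) (hprop : IntMult.ProperInt (IV.support : Set X) (IW.support : Set X) n r s) (ξ : X) (hξV : ξ ∈ IV.support) (hξW : ξ ∈ IW.support) (hmax : ∀ ξ' : X, ξ' ∈ IV.support → ξ' ∈ IW.support → ξ' ⤳ ξ → ξ' = ξ) (g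 : ↑(X.presheaf.stalk ξ)) (hg : IntMult.stalkIdeal IV ξ = Ideal.span {g}) (hreg : IsSMulRegular (↑(X.presheaf.stalk ξ)) g) : (IntMult.mult IV IW ξ : ℤ) = (Module.length (X.presheaf.stalk ξ) (↑(X.presheaf.stalk ξ) ⧸ (IntMult.stalkIdeal IW ξ ⊔ Ideal.span {g}))).toNat := by
  haveI : LocallyOfFiniteType f := inferInstance
  obtain ⟨hN, hFLI, d, bV, bW, hd, hbV, hbW, hle⟩ :=
    Groth.Agent.Lib.Helper2.IntMultLoc.core K X f IV IW n r s hn hr hs hprop ξ hξV hξW hmax
  haveI := hN
  have hI : IntMult.stalkIdeal IV ξ = Ideal.ofList [g] := by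
    rw [hg, Ideal.ofList_singleton]
  have h1 : RingTheory.Sequence.IsWeaklyRegular (X.presheaf.stalk ξ) [g] :=
    (RingTheory.Sequence.isWeaklyRegular_singleton_iff _ g).mpr hreg
  haveI hP : (IntMult.stalkIdeal IW ξ).IsPrime :=
    Groth.Agent.Lib.Helper2.IntMultLoc.isPrime_stalkIdeal IW ξ hξW
  have hreg' : RingTheory.Sequence.IsRegular (X.presheaf.stalk ξ) [g] := by
    refine ⟨h1, ?_⟩
    intro htop
    apply Groth.Agent.Lib.Helper2.IntMultLoc.stalkIdeal_ne_top IV ξ hξV
    rw [hI]
    have h3 : Ideal.ofList [g] • (⊤ : Submodule (X.presheaf.stalk ξ) (X.presheaf.stalk ξ)) =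
        Ideal.ofList [g] := by
      rw [smul_eq_mul, Ideal.mul_top]
    rw [h3] at htop
    exact htop.symm
  have hgW : g ∉ IntMult.stalkIdeal IW ξ := by
    intro hmem
    have hVW : IntMult.stalkIdeal IV ξ ≤ IntMult.stalkIdeal IW ξ := by
      rw [hg, Ideal.span_singleton_le_iff_mem]
      exact hmem
    have hmaxW := Groth.Agent.Lib.Helper2.IntMultLoc.isMaximal_of_hmax IV IW ξ hmax
      (IntMult.stalkIdeal IW ξ) hVW le_rfl
    have hbW0 : bW = 0 := by
      letI := Ideal.Quotient.field (IsLocalRing.maximalIdeal (X.presheaf.stalk ξ))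
      have h0 : ringKrullDim (X.presheaf.stalk ξ ⧸ IsLocalRing.maximalIdeal (X.presheaf.stalk ξ))
          = 0 := ringKrullDim_eq_zero_of_field _
      rw [hmaxW, h0] at hbW
      exact_mod_cast hbW.symm
    have h2 := ringKrullDim_add_length_eq_ringKrullDim_of_isRegular [g] hreg'
    rw [← hI, hbV, hd] at h2
    simp only [List.length_singleton, Nat.cast_one] at h2
    have h2' : bV + 1 = d := by exact_mod_cast h2
    omega
  have h2 : RingTheory.Sequence.IsWeaklyRegular
      (X.presheaf.stalk ξ ⧸ IntMult.stalkIdeal IW ξ) [g] := by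
    rw [RingTheory.Sequence.isWeaklyRegular_singleton_iff,
      isSMulRegular_iff_right_eq_zero_of_smul]
    intro m hm
    obtain ⟨x, rfl⟩ := Ideal.Quotient.mk_surjective m
    have h3 : Ideal.Quotient.mk (IntMult.stalkIdeal IW ξ) (g * x) = 0 := hm
    rw [Ideal.Quotient.eq_zero_iff_mem] at h3
    rcases hP.mem_or_mem h3 with h | h
    · exact absurd h hgW
    · exact Ideal.Quotient.eq_zero_iff_mem.mpr h
  have key := Groth.Agent.Lib.Helper2.IntMultLoc.mult_eq_length_of_isWeaklyRegular IV IW ξ [g]
    hI h1 h2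
  rw [hg] at key
  exact key

end Groth.Agent.S6453
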