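import Groth.Statements.S6459
import Groth.Agent.Lib.Helper4DimFormulaX

set_option autoImplicit false
set_option linter.style.haveILetI false
universe u
open CategoryTheory AlgebraicGeometry
open Cyc

namespace Groth.Agent.S6459

/-- (b) ⇔ (c): let X be integral with generic point η and Z ⊂ X an integral closed subscheme with
generic point ξ. Then Z has codimension 1 in X (the local ring O_{X,ξ} is one-dimensional; Z is a
prime divisor) if and only if dim_δ(Z) = dim_δ(X) − 1. Here a pair (X, δ) with Cyc.IsSetup plays the
role of a scheme locally of finite type over the base (S, δ) (X locally Noetherian with universally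
catenary local rings, δ a dimension function). -/
theorem result (X : Scheme.{u}) [IsIntegral X] (δ : X → ℤ) (hX : Cyc.IsSetup X δ) (ξ : X) : ringKrullDim ↑(X.presheaf.stalk ξ) = 1 ↔ δ ξ = δ (genericPoint X) - 1 := by
  obtain ⟨hNoeth, -, hdim⟩ := hX
  haveI := hNoeth
  obtain ⟨k, hk, hδk⟩ :=
    Groth.Agent.Lib.Helper4.DimFormula.isDimFun_genericPoint_eq_add_stalkDim X δ hdim ξ
  rw [hk]
  constructor
  · intro h
    have h1 : k = 1 := by exact_mod_cast h
    rw [hδk, h1]
    ring
  · intro h
    have h1 : k = 1 := by omega
    rw [h1]
    rfl

end Groth.Agent.S6459
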