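import Groth.Statements.S6461
import Groth.Agent.Lib.Helper4DimFormulaY
import Groth.Agent.Lib.Helper4DimFormulaW

set_option autoImplicit false
set_option linter.style.haveILetI false
universe u
open CategoryTheory AlgebraicGeometry
open Cyc

namespace Groth.Agent.S6461

/-- If all local rings of X are Cohen–Macaulay then every x ∈ X has an open neighbourhood U and an
integer n with δ(ξ) = n for every generic point ξ of an irreducible component of U (every point of U
maximal under specialization). Here a pair (X, δ) with Cyc.IsSetup plays the role of a scheme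
locally of finite type over the base (S, δ) (X locally Noetherian with universally catenary local
rings, δ a dimension function). -/
theorem result (X : Scheme.{u}) (δ : X → ℤ) (hX : Cyc.IsSetup X δ) (hCM : ∀ x : X, LocCoh.IsCohenMacaulayLocalRing ↑(X.presheaf.stalk x)) (x : X) : ∃ (U : X.Opens) (n : ℤ), x ∈ U ∧ ∀ ξ : X, ξ ∈ U → (∀ ξ' : X, ξ' ⤳ ξ → ξ' = ξ) → δ ξ = n := by
  obtain ⟨hNoeth, -, hdim⟩ := hX
  haveI := hNoeth
  obtain ⟨U, hxU, hU⟩ :=
    Groth.Agent.Lib.Helper4.DimFormula.exists_opens_forall_maximal_specializes X x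
  haveI := hCM x
  obtain ⟨c, hc⟩ := Groth.Agent.Lib.Helper4.DimFormula.exists_ringKrullDim_stalk_eq_nat' x
  refine ⟨U, δ x + c, hxU, fun ξ hξU hξ => ?_⟩
  obtain ⟨c', hc', hδ'⟩ :=
    Groth.Agent.Lib.Helper4.DimFormula.isDimFun_maximal_eq_add_stalkDim_of_CM X δ hdim x ξ
      (hU ξ hξU hξ) hξ
  have h1 : c' = c := by
    rw [hc] at hc'
    exact_mod_cast hc'.symm
  rw [hδ', h1]

end Groth.Agent.S6461
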