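import Groth.Statements.S6463
import Groth.Agent.Lib.LeadPicFF8

set_option autoImplicit false
universe u
open CategoryTheory CategoryTheory.Limits AlgebraicGeometry
open PicF

namespace Groth.Agent.S6463

/-- For a field k and a smooth projective curve X over k that has a k-rational point σ, the conditions
under which the Picard functor is computed through the section are met: f : X → Spec k is flat,
proper and of finite presentation with a section, and O_T → f_{T,*} O_{X_T} is an isomorphism for
every scheme T over k. Only the last assertion is stated (the others are part of the hypotheses or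
immediate): for every t : T → Spec k, the sheaf map of the base change X ×_k T → T is an
isomorphism. Proper replaces projective (they agree for curves over a field). -/
theorem result (k : Type u) [Field k] (X : Scheme.{u}) (f : X ⟶ Spec (CommRingCat.of k)) (hX : Curve.IsSmoothProperCurve k X f) (σ : Spec (CommRingCat.of k) ⟶ X) (hσ : σ ≫ f = 𝟙 (Spec (CommRingCat.of k))) (T : Scheme.{u}) (t : T ⟶ Spec (CommRingCat.of k)) : IsIso (pullback.snd f t).c := by
  obtain ⟨hp, hs, hint, hdim⟩ := hX
  haveI := hp
  haveI := hint
  have hK : IsField Γ(X, ⊤) := isField_of_universallyClosed k f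
  letI := hK.toField
  have h1 : f.appTop ≫ σ.appTop = 𝟙 _ := by
    rw [← Scheme.Hom.comp_appTop, hσ]
    rfl
  have hσinj : Function.Injective σ.appTop.hom := RingHom.injective _
  have htop : Function.Bijective f.appTop.hom := by
    constructor
    · intro a b hab
      have := congrArg σ.appTop.hom hab
      rw [← CommRingCat.comp_apply, ← CommRingCat.comp_apply, h1] at this
      exact this
    · intro x
      refine ⟨σ.appTop.hom x, ?_⟩
      apply hσinj
      rw [← CommRingCat.comp_apply, h1]
      rfl
  have hf : ∀ V : (Spec (CommRingCat.of k)).Opens, Function.Bijective (f.app V) := by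
    intro V
    by_cases hV : V = ⊤
    · subst hV
      exact htop
    · have hV' : V = ⊥ := by
        rw [eq_bot_iff]
        intro x hx
        exfalso
        apply hV
        rw [eq_top_iff]
        intro y _
        have : y = x := Subsingleton.elim _ _
        rw [this]
        exact hx
      subst hV'
      have hs1 : Subsingleton Γ(Spec (CommRingCat.of k), ⊥) := inferInstance
      have hs2 : Subsingleton Γ(X, f ⁻¹ᵁ ⊥) := by
        have : f ⁻¹ᵁ (⊥ : (Spec (CommRingCat.of k)).Opens) = ⊥ := rfl
        rw [this]
        infer_instance
      constructor
      · intro a b _
        exact Subsingleton.elim _ _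
      · intro b
        exact ⟨0, Subsingleton.elim _ _⟩
  have hflat : Flat t := inferInstance
  have hb := Groth.Agent.Lib.LeadPicFF.bijective_app_of_flat_baseChange f t _ _
    (IsPullback.of_hasPullback f t) hf
  refine @NatIso.isIso_of_isIso_app _ _ _ _ _ _ _ (fun U => ?_)
  exact (ConcreteCategory.isIso_iff_bijective _).2 (hb U.unop)

end Groth.Agent.S6463
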