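import Groth.Statements.S6464
-- import your own Groth.Agent.* helpers here

set_option autoImplicit false
universe u v
open CycAlg

namespace Groth.Agent.S6464

section
variable {R : Type u} [CommRing R] {M N : Type v} [AddCommGroup M] [Module R M]
  [AddCommGroup N] [Module R N]

lemma len_ker_add_range (f : M →ₗ[R] N) :
    Module.length R M = Module.length R (LinearMap.ker f) + Module.length R (LinearMap.range f) := by
  refine Module.length_eq_add_of_exact (LinearMap.ker f).subtype f.rangeRestrict
    (Submodule.injective_subtype _) f.surjective_rangeRestrict ?_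
  intro x
  constructor
  · intro h
    refine ⟨⟨x, ?_⟩, rfl⟩
    simpa [Subtype.ext_iff] using h
  · rintro ⟨y, rfl⟩
    ext
    exact y.2

lemma len_sub_add_quot {K : Type v} [AddCommGroup K] [Module R K] (p : Submodule R K) :
    Module.length R K = Module.length R p + Module.length R (K ⧸ p) :=
  Module.length_eq_add_of_exact p.subtype p.mkQ (Submodule.injective_subtype _)
    (Submodule.mkQ_surjective _) (LinearMap.exact_subtype_mkQ p)

lemma len_ker (φ : M →ₗ[R] N) (ψ : N →ₗ[R] M) (h : φ ∘ₗ ψ = 0) :
    Module.length R (LinearMap.ker φ) =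
      Module.length R (LinearMap.range ψ) + Module.length R (CycAlg.perH φ ψ) := by
  have hle : LinearMap.range ψ ≤ LinearMap.ker φ := by
    rintro _ ⟨y, rfl⟩
    exact LinearMap.congr_fun h y
  rw [len_sub_add_quot ((LinearMap.range ψ).submoduleOf (LinearMap.ker φ)),
    (Submodule.submoduleOfEquivOfLe hle).length_eq]

end

/-- Let (M, N, φ, ψ) be a 2-periodic complex over a ring R with M and N of finite length. Then its
cohomology modules have finite length and e_R(M, N, φ, ψ) = length_R(M) − length_R(N). (The case M =
N, where the conclusion reads e_R(M, φ, ψ) = 0, is the special case and is not restated.) -/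
theorem result {R : Type u} [CommRing R] {M N : Type v} [AddCommGroup M] [Module R M] [AddCommGroup N] [Module R N] (φ : M →ₗ[R] N) (ψ : N →ₗ[R] M) (h : CycAlg.IsPeriodic φ ψ) (hM : Module.length R M < ⊤) (hN : Module.length R N < ⊤) : CycAlg.FinCoh R φ ψ ∧ CycAlg.herbrand R φ ψ = ((Module.length R M).toNat : ℤ) - ((Module.length R N).toNat : ℤ) := by
  have e1 := len_ker_add_range (R := R) φ
  have e2 := len_ker_add_range (R := R) ψ
  have e3 := len_ker φ ψ h.1
  have e4 := len_ker ψ φ h.2
  unfold CycAlg.FinCoh CycAlg.herbrand
  generalize Module.length R M = lM at *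
  generalize Module.length R N = lN at *
  generalize Module.length R (LinearMap.ker φ) = a1 at *
  generalize Module.length R (LinearMap.range φ) = b1 at *
  generalize Module.length R (LinearMap.ker ψ) = a2 at *
  generalize Module.length R (LinearMap.range ψ) = b2 at *
  generalize Module.length R (CycAlg.perH φ ψ) = h0 at *
  generalize Module.length R (CycAlg.perH ψ φ) = h1 at *
  subst e1 e2 e3 e4
  have hM' := hM.ne
  have hN' := hN.ne
  simp only [ne_eq, ENat.add_eq_top, not_or] at hM' hN'
  obtain ⟨⟨hb2, hh0⟩, hb1⟩ := hM'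
  obtain ⟨⟨-, hh1⟩, -⟩ := hN'
  lift b1 to ℕ using hb1
  lift b2 to ℕ using hb2
  lift h0 to ℕ using hh0
  lift h1 to ℕ using hh1
  refine ⟨⟨ENat.coe_lt_top _, ENat.coe_lt_top _⟩, ?_⟩
  simp only [← Nat.cast_add, ENat.toNat_coe]
  push_cast
  ring

end Groth.Agent.S6464
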