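import Groth.Statements.S6472
import Groth.Agent.Lib.Helper2RegAtLen
import Groth.Agent.Lib.Helper22FibDimLim
import Groth.Agent.Lib.Helper3SmDim
import Groth.Agent.Lib.Helper6SmRegSch
import Groth.Agent.Lib.Helper5RegImmAlg
import Groth.Agent.Lib.Helper4VarDim7

set_option autoImplicit false
universe u
open CategoryTheory CategoryTheory.Limits AlgebraicGeometry
open IntMult

namespace Groth.Agent.S6472

open Groth.Agent.Lib.Helper4.VarDim in
/-- The local dimension of an irreducible scheme locally of finite type over a field is its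
dimension. -/
theorem localDim_eq_of_irreducible (k : Type u) [Field k] (X : Scheme.{u})
    [X.Over (Spec (CommRingCat.of k))] [LocallyOfFiniteType (X ↘ Spec (CommRingCat.of k))]
    [IrreducibleSpace X] (x : X) : FlatMor.localDim X x = topologicalKrullDim X := by
  unfold FlatMor.localDim
  apply le_antisymm
  · refine (iInf_le _ ⟨⊤, trivial⟩).trans ?_
    exact (topologicalKrullDim_opens_eq_of_irreducible k X ⊤ ⟨x, trivial⟩).le
  · refine le_iInf fun U => ?_
    exact (topologicalKrullDim_opens_eq_of_irreducible k X U.1 ⟨x, U.2⟩).ge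

open Groth.Agent.Lib.Helper4.VarDim in
/-- For a smooth integral `X` of dimension `n` over a field, the local ring of `X ×_K X` at a
diagonal point has dimension `dim O_{X,z} + n`. -/
theorem ringKrullDim_stalk_diagonal (K : Type u) [Field K] (X : Scheme.{u})
    (f : X ⟶ Spec (CommRingCat.of K)) [Smooth f] [IsIntegral X] (n : ℕ)
    (hn : topologicalKrullDim X = n) (z : X) :
    ringKrullDim ((pullback f f).presheaf.stalk (pullback.diagonal f z)) =
      ringKrullDim (X.presheaf.stalk z) + n := by
  letI ovX : X.Over (Spec (CommRingCat.of K)) := ⟨f⟩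
  letI ovW : (pullback f f).Over (Spec (CommRingCat.of K)) := ⟨pullback.snd f f ≫ f⟩
  haveI : LocallyOfFiniteType (X ↘ Spec (CommRingCat.of K)) :=
    (inferInstance : LocallyOfFiniteType f)
  haveI : LocallyOfFiniteType ((pullback f f) ↘ Spec (CommRingCat.of K)) :=
    (inferInstance : LocallyOfFiniteType (pullback.snd f f ≫ f))
  haveI : Subsingleton (Spec (CommRingCat.of K)) := by
    change Subsingleton (PrimeSpectrum K)
    infer_instance
  have hp1 : (pullback.fst f f) (pullback.diagonal f z) = z := by
    rw [← Scheme.Hom.comp_apply, pullback.diagonal_fst]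
    rfl
  have hp2 : (pullback.snd f f) (pullback.diagonal f z) = z := by
    rw [← Scheme.Hom.comp_apply, pullback.diagonal_snd]
    rfl
  have hX : FlatMor.localDim X z = n := by rw [localDim_eq_of_irreducible K X z, hn]
  have hfz : FlatMor.fibreDimAt f z = n := by
    rw [Groth.Agent.Lib.Helper22.FibDimLim.fibreDimAt_eq_localDim_of_subsingleton f z, hX]
  have hW1 : FlatMor.localDim ↥(pullback f f) (pullback.diagonal f z) =
      FlatMor.fibreDimAt (pullback.snd f f ≫ f) (pullback.diagonal f z) :=
    (Groth.Agent.Lib.Helper22.FibDimLim.fibreDimAt_eq_localDim_of_subsingleton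
      (pullback.snd f f ≫ f) (pullback.diagonal f z)).symm
  have hW2 := Groth.Agent.Lib.Helper3.SmDim.fibreDimAt_comp_of_smooth (pullback.snd f f) f
    (pullback.diagonal f z)
  have hW3 := Groth.Agent.Lib.Helper3.LocDimBC.fibreDimAt_eq_of_isPullback f f
    (pullback.fst f f) (pullback.snd f f) (IsPullback.of_hasPullback f f) (pullback.diagonal f z)
  rw [hW3, hp1, hp2, hfz] at hW2
  rw [hW2] at hW1
  obtain ⟨bX, hbX⟩ := exists_ringKrullDim_stalk_eq K X z
  obtain ⟨bW, hbW⟩ := exists_ringKrullDim_stalk_eq K (pullback f f) (pullback.diagonal f z)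
  have h1 := localDim_eq_add K X z _ bX (trdeg_eq_trdegNat K X z) hbX
  have h2 := localDim_eq_add K (pullback f f) (pullback.diagonal f z) _ bW
    (trdeg_eq_trdegNat K (pullback f f) (pullback.diagonal f z)) hbW
  have hΔ : pullback.diagonal f ≫ ((pullback f f) ↘ Spec (CommRingCat.of K)) =
      (X ↘ Spec (CommRingCat.of K)) := by
    show pullback.diagonal f ≫ pullback.snd f f ≫ f = f
    rw [← Category.assoc, pullback.diagonal_snd, Category.id_comp]
  have ht : trdegNat K (pullback f f) (pullback.diagonal f z) = trdegNat K X z := by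
    apply le_antisymm
    · exact trdegNat_le_of_hom K (pullback.diagonal f) hΔ z
    · have := trdegNat_le_of_hom K (pullback.snd f f) rfl (pullback.diagonal f z)
      rwa [hp2] at this
  rw [hX] at h1
  rw [hW1, ht] at h2
  rw [hbX, hbW]
  have e1 : n = trdegNat K X z + bX := by exact_mod_cast h1
  have e2 : n + n = trdegNat K X z + bW := by exact_mod_cast h2
  have e3 : bW = bX + n := by omega
  rw [e3]
  push_cast
  rfl

/-- Let X be a nonsingular variety of dimension n over the algebraically closed field K. Then Δ : X → X
×_K X, the diagonal, is regular of codimension n as an immersion (RegImm.IsRegularImmersionOfCodim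
of kind regular: an immersion which, around every point, in an affine open where it is closed, is
cut out by a regular sequence of length n). Nonsingular variety: X → Spec K smooth, separated,
quasi-compact, X integral; n = Krull dimension of X. -/
theorem result (K : Type u) [Field K] [IsAlgClosed K] (X : Scheme.{u}) (f : X ⟶ Spec (CommRingCat.of K)) [Smooth f] [IsSeparated f] [QuasiCompact f] [IsIntegral X] (n : ℕ) (hn : topologicalKrullDim X = n) : RegImm.IsRegularImmersionOfCodim RegImm.Kind.regular n (pullback.diagonal f) := by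
  classical
  haveI : IsClosedImmersion (pullback.diagonal f) := inferInstance
  refine ⟨inferInstance, fun z => ?_⟩
  haveI : LocallyOfFiniteType (pullback.snd f f ≫ f) := inferInstance
  haveI : IsLocallyNoetherian (Spec (CommRingCat.of K)) := inferInstance
  haveI : IsLocallyNoetherian (pullback f f) :=
    LocallyOfFiniteType.isLocallyNoetherian (pullback.snd f f ≫ f)
  haveI : IsLocallyNoetherian X := LocallyOfFiniteType.isLocallyNoetherian f
  haveI : IsRegularLocalRing (X.presheaf.stalk z) :=
    Groth.Agent.Lib.Helper6.SmRegSch.isRegularLocalRing_stalk_of_smooth_over_field K X f z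
  haveI : IsRegularLocalRing ((pullback f f).presheaf.stalk (pullback.diagonal f z)) :=
    Groth.Agent.Lib.Helper6.SmRegSch.isRegularLocalRing_stalk_of_smooth_over_field K (pullback f f)
      (pullback.snd f f ≫ f) (pullback.diagonal f z)
  have hsurj : Function.Surjective ((pullback.diagonal f).stalkMap z).hom :=
    (pullback.diagonal f).stalkMap_surjective z
  obtain ⟨rs, hreg, hker⟩ := Groth.Agent.Lib.Helper5.RegImmAlg.exists_regular_ker_of_surjective
    ((pullback.diagonal f).stalkMap z).hom hsurj
  have hlen : rs.length = n := by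
    have h1 := ringKrullDim_add_length_eq_ringKrullDim_of_isRegular rs hreg
    have h2 : ringKrullDim ((pullback f f).presheaf.stalk (pullback.diagonal f z) ⧸ Ideal.ofList rs) =
        ringKrullDim (X.presheaf.stalk z) :=
      ringKrullDim_eq_of_ringEquiv ((Ideal.quotEquivOfEq hker.symm).trans
        (RingHom.quotientKerEquivOfSurjective hsurj))
    rw [h2, ringKrullDim_stalk_diagonal K X f n hn z] at h1
    letI ovX : X.Over (Spec (CommRingCat.of K)) := ⟨f⟩
    haveI : LocallyOfFiniteType (X ↘ Spec (CommRingCat.of K)) :=
      (inferInstance : LocallyOfFiniteType f)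
    obtain ⟨b, hb⟩ := Groth.Agent.Lib.Helper4.VarDim.exists_ringKrullDim_stalk_eq K X z
    rw [hb] at h1
    have : b + rs.length = b + n := by exact_mod_cast h1
    omega
  obtain ⟨U, hU, hzU, bs, hlen', hregbs, hkerbs⟩ :=
    Groth.Agent.Lib.Helper2.RegAtLen.regAt_of_stalkReg_length (pullback.diagonal f) z rs hreg hker
  refine ⟨⟨U, hU⟩, hzU, inferInstance, bs, by rw [hlen', hlen], hregbs, ?_⟩
  exact (Scheme.Hom.ker_apply (pullback.diagonal f) ⟨U, hU⟩).symm.trans hkerbs

end Groth.Agent.S6472
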