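import Groth.Statements.S6473
import Groth.Agent.S19416
import Groth.Agent.Lib.Helper4VarDim7
import Groth.Agent.Lib.Helper4VarDim8

set_option autoImplicit false
universe u
open CategoryTheory CategoryTheory.Limits AlgebraicGeometry
open IntMult

namespace Groth.Agent.S6473

/-- A point of an affine open `U` over which `f` is a closed immersion lies in the range of `f` as
soon as every section in the kernel of `Γ(Y, U) → Γ(X, f⁻¹U)` vanishes at it. -/
theorem mem_range_of_forall_notMem_basicOpen {X Y : Scheme.{u}} (f : X ⟶ Y) [QuasiCompact f]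
    (U : Y.affineOpens) (hU : IsClosedImmersion (f ∣_ U.1)) (y : Y) (hy : y ∈ U.1)
    (h : ∀ r ∈ RingHom.ker (f.app U.1).hom, y ∉ Y.basicOpen r) : y ∈ Set.range f := by
  have h1 : y ∈ f.ker.support := by
    rw [Scheme.IdealSheafData.mem_support_iff_of_mem (U := U) hy, Scheme.Hom.ker_apply,
      Scheme.mem_zeroLocus_iff]
    intro r hr
    exact h r hr
  have h1' : y ∈ closure (Set.range f) := by
    have : y ∈ (f.ker.support : Set Y) := h1
    rwa [Scheme.Hom.support_ker] at this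
  have h0 : IsClosed (Set.range (f ∣_ U.1)) := (f ∣_ U.1).isClosedEmbedding.isClosed_range
  have e : Set.range (f ∣_ U.1) = (Subtype.val : U.1 → Y) ⁻¹' Set.range f := by
    ext u
    constructor
    · rintro ⟨x, rfl⟩
      exact ⟨x.1, (morphismRestrict_base_coe f U.1 x).symm⟩
    · rintro ⟨x, hx⟩
      have hxU : x ∈ f ⁻¹ᵁ U.1 := by
        show f x ∈ U.1
        rw [hx]
        exact u.2
      exact ⟨⟨x, hxU⟩, Subtype.ext ((morphismRestrict_base_coe f U.1 ⟨x, hxU⟩).trans hx)⟩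
  have h2 : y ∈ closure ((U.1 : Set Y) ∩ Set.range f) := U.1.isOpen.inter_closure ⟨hy, h1'⟩
  have h3 : (⟨y, hy⟩ : U.1) ∈ closure ((Subtype.val : U.1 → Y) ⁻¹' Set.range f) := by
    rw [Topology.IsInducing.subtypeVal.closure_eq_preimage_closure_image]
    show y ∈ closure _
    refine closure_mono ?_ h2
    rintro v ⟨hv, hvf⟩
    exact ⟨⟨v, hv⟩, hvf, rfl⟩
  have h4 : (⟨y, hy⟩ : U.1) ∈ closure (Set.range (f ∣_ U.1)) := by
    rw [e]
    exact h3
  obtain ⟨x, hx⟩ := h0.closure_subset h4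
  refine ⟨x.1, ?_⟩
  rw [← morphismRestrict_base_coe f U.1 x, hx]

/-- Let f : X → Y be a morphism of varieties over K which is a regular immersion of codimension c, and Z
⊂ Y a closed subvariety of dimension d. Then each irreducible component T of f⁻¹(Z) = X ×_Y Z
satisfies dim T ≥ d − c; stated as d ≤ dim T + c. Varieties: integral, separated, of finite type
over the algebraically closed field K. (The published statement takes f to be a closed immersion,
regular immersions being closed there; this row allows any immersion cut out, locally on Y where it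
is closed, by a regular sequence of length c, the bound being local on Y. The published statement
also has a second part, for local complete intersection morphisms of a given relative dimension,
which this row does not state.) -/
theorem result (K : Type u) [Field K] [IsAlgClosed K] (X Y Z : Scheme.{u}) (gX : X ⟶ Spec (CommRingCat.of K)) (gY : Y ⟶ Spec (CommRingCat.of K)) [IsSeparated gX] [LocallyOfFiniteType gX] [QuasiCompact gX] [IsIntegral X] [IsSeparated gY] [LocallyOfFiniteType gY] [QuasiCompact gY] [IsIntegral Y] (f : X ⟶ Y) (hf : f ≫ gY = gX) (c : ℕ) (hreg : RegImm.IsRegularImmersionOfCodim RegImm.Kind.regular c f) (ι : Z ⟶ Y) [IsClosedImmersion ι] [IsIntegral Z] (d : ℕ) (hd : topologicalKrullDim Z = d) (T : Set ↥(pullback f ι)) (hT : T ∈ irreducibleComponents ↥(pullback f ι)) : ((d : ℕ) : WithBot ℕ∞) ≤ topologicalKrullDim ↥T + c := by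
  classical
  obtain ⟨himm, hloc⟩ := hreg
  haveI := himm
  haveI hlftX : LocallyOfFiniteType (f ≫ gY) := by rw [hf]; infer_instance
  haveI hqcX : QuasiCompact (f ≫ gY) := by rw [hf]; infer_instance
  haveI : LocallyOfFiniteType f := locallyOfFiniteType_of_comp f gY
  haveI : QuasiCompact f := QuasiCompact.of_comp f gY
  letI ovZ : Z.Over (Spec (CommRingCat.of K)) := ⟨ι ≫ gY⟩
  letI ovW : (pullback f ι).Over (Spec (CommRingCat.of K)) := ⟨pullback.snd f ι ≫ ι ≫ gY⟩
  haveI : LocallyOfFiniteType (Z ↘ Spec (CommRingCat.of K)) :=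
    (inferInstance : LocallyOfFiniteType (ι ≫ gY))
  haveI : LocallyOfFiniteType ((pullback f ι) ↘ Spec (CommRingCat.of K)) :=
    (inferInstance : LocallyOfFiniteType (pullback.snd f ι ≫ ι ≫ gY))
  have hTc : IsClosed T := isClosed_of_mem_irreducibleComponents T hT
  obtain ⟨ξ, hξ⟩ := QuasiSober.sober hT.1 hTc
  have dimT := Groth.Agent.S19416.dim_eq_trdegNat_of_isGenericPoint K (pullback f ι) T hTc ξ hξ
  have hle1 := Groth.Agent.Lib.Helper4.VarDim.trdegNat_le_of_hom K (pullback.snd f ι) rfl ξ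
  obtain ⟨U, hxU, hclU, rs, hlen, hrs, hker⟩ := hloc ((pullback.fst f ι) ξ)
  have hcond : f ((pullback.fst f ι) ξ) = ι ((pullback.snd f ι) ξ) := by
    have := congrArg (fun g : pullback f ι ⟶ Y => g ξ) (pullback.condition (f := f) (g := ι))
    simpa using this
  have hV : IsAffineOpen (ι ⁻¹ᵁ U.1) := U.2.preimage ι
  have hzV : (pullback.snd f ι) ξ ∈ ι ⁻¹ᵁ U.1 := by
    show ι ((pullback.snd f ι) ξ) ∈ U.1
    rw [← hcond]
    exact hxU
  letI algC : Algebra K Γ(Z, ι ⁻¹ᵁ U.1) :=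
    Groth.Agent.Lib.Helper4.VarDim.sectionsAlgebra K Z (ι ⁻¹ᵁ U.1)
  haveI : Algebra.FiniteType K Γ(Z, ι ⁻¹ᵁ U.1) :=
    Groth.Agent.Lib.Helper4.VarDim.finiteType_sections K Z hV
  haveI : IsNoetherianRing Γ(Z, ι ⁻¹ᵁ U.1) := Algebra.FiniteType.isNoetherianRing K _
  haveI : Nonempty (ι ⁻¹ᵁ U.1) := ⟨⟨_, hzV⟩⟩
  haveI : IsDomain Γ(Z, ι ⁻¹ᵁ U.1) := inferInstance
  set P : Ideal Γ(Z, ι ⁻¹ᵁ U.1) := (hV.primeIdealOf ⟨_, hzV⟩).asIdeal with hP
  set φ : Γ(Y, U.1) →+* Γ(Z, ι ⁻¹ᵁ U.1) := (ι.app U.1).hom with hφ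
  set s : Finset Γ(Z, ι ⁻¹ᵁ U.1) := (rs.map φ).toFinset with hs
  have hmemI : ∀ r ∈ rs, φ r ∈ Ideal.span (s : Set Γ(Z, ι ⁻¹ᵁ U.1)) := fun r hr =>
    Ideal.subset_span (by
      rw [hs, List.coe_toFinset]
      exact List.mem_map.mpr ⟨r, hr, rfl⟩)
  have hkerQ : ∀ Q : Ideal Γ(Z, ι ⁻¹ᵁ U.1), Ideal.span (s : Set Γ(Z, ι ⁻¹ᵁ U.1)) ≤ Q →
      ∀ r ∈ RingHom.ker (f.app U.1).hom, φ r ∈ Q := by
    intro Q hQ r hr
    rw [hker] at hr
    have hle : Ideal.ofList rs ≤ Q.comap φ :=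
      Ideal.span_le.mpr (fun a ha => hQ (hmemI a ha))
    exact hle hr
  have hbo : ∀ (z' : Z) (r : Γ(Y, U.1)), z' ∈ Z.basicOpen (φ r) ↔ ι z' ∈ Y.basicOpen r := by
    intro z' r
    have h' : Z.basicOpen (φ r) = ι ⁻¹ᵁ Y.basicOpen r := (Scheme.preimage_basicOpen ι r).symm
    rw [h']
    rfl
  have hIP : Ideal.span (s : Set Γ(Z, ι ⁻¹ᵁ U.1)) ≤ P := by
    rw [Ideal.span_le]
    intro a ha
    rw [hs, List.coe_toFinset] at ha
    obtain ⟨r, hr, rfl⟩ := List.mem_map.mp ha
    show φ r ∈ P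
    rw [hP, Groth.Agent.Lib.Helper4.VarDim.mem_primeIdealOf_iff_notMem_basicOpen hV _ hzV, hbo,
      ← hcond]
    intro hmem
    have hr' : r ∈ RingHom.ker (f.app U.1).hom := by
      rw [hker]
      exact Ideal.subset_span hr
    have h2 : (pullback.fst f ι) ξ ∈ f ⁻¹ᵁ Y.basicOpen r := hmem
    rw [Scheme.preimage_basicOpen] at h2
    have h3 : (f.app U.1) r = 0 := RingHom.mem_ker.mp hr'
    rw [h3, Scheme.basicOpen_zero] at h2
    exact h2
  have hPmin : P ∈ (Ideal.span (s : Set Γ(Z, ι ⁻¹ᵁ U.1))).minimalPrimes := by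
    refine ⟨⟨inferInstance, hIP⟩, ?_⟩
    rintro Q ⟨hQp, hQI⟩ hQP
    set z' : Z := hV.fromSpec ⟨Q, hQp⟩ with hz'
    have hz'V : z' ∈ ι ⁻¹ᵁ U.1 := Groth.Agent.Lib.Helper4.VarDim.fromSpec_mem hV _
    have hQeq : hV.primeIdealOf ⟨z', hz'V⟩ = ⟨Q, hQp⟩ :=
      Groth.Agent.Lib.Helper4.VarDim.primeIdealOf_fromSpec hV _ hz'V
    have hQ' : (hV.primeIdealOf ⟨z', hz'V⟩).asIdeal = Q := by rw [hQeq]
    have hsp : z' ⤳ (pullback.snd f ι) ξ :=
      (Groth.Agent.Lib.Helper4.VarDim.primeIdealOf_le_iff hV z' _ hz'V hzV).mp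
        (by rw [hQ']; exact hQP)
    have hrange : ι z' ∈ Set.range f := by
      apply mem_range_of_forall_notMem_basicOpen f U hclU (ι z') hz'V
      intro r hr
      rw [← hbo, ← Groth.Agent.Lib.Helper4.VarDim.mem_primeIdealOf_iff_notMem_basicOpen hV z' hz'V,
        hQ']
      exact hkerQ Q hQI r hr
    obtain ⟨x', hx'⟩ := hrange
    obtain ⟨w', hw'1, hw'2⟩ :=
      Scheme.Pullback.exists_preimage_pullback (f := f) (g := ι) x' z' hx'
    have hsp' : w' ⤳ ξ :=
      (pullback.snd f ι).isEmbedding.isInducing.specializes_iff.mp (by rw [hw'2]; exact hsp)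
    have hw'ξ : w' = ξ :=
      Groth.Agent.Lib.Helper4.VarDim.eq_of_specializes_generic ξ w'
        (by rw [hξ.def]; exact hT) hsp'
    have hzz' : z' = (pullback.snd f ι) ξ := by rw [← hw'2, hw'ξ]
    show P ≤ Q
    rw [← hQ', hP]
    exact (Groth.Agent.Lib.Helper4.VarDim.primeIdealOf_le_iff hV _ z' hzV hz'V).mpr
      (hzz' ▸ specializes_rfl)
  have hht : P.height ≤ (c : ℕ∞) := by
    have h1 := Ideal.height_le_card_of_mem_minimalPrimes_span_finset hPmin
    have h2 : s.card ≤ c := by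
      rw [hs, ← hlen]
      exact (List.toFinset_card_le _).trans (by rw [List.length_map])
    exact h1.trans (by exact_mod_cast h2)
  obtain ⟨n', hn', hall⟩ := Groth.Agent.Lib.Helper4.VarDim.exists_dim_irreducible K Z
  have hZn' := Groth.Agent.Lib.Helper4.VarDim.topologicalKrullDim_eq_of_irreducible K Z n' hn'
  have hC : ringKrullDim Γ(Z, ι ⁻¹ᵁ U.1) = n' := hall _ hV ⟨_, hzV⟩
  obtain ⟨m, c', hc'm, hm, hc', hquot⟩ :=
    Groth.Agent.Lib.Helper14.FTDim.exists_dim_height (k := K) Γ(Z, ι ⁻¹ᵁ U.1) P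
  obtain ⟨nz, hnz, hnz'⟩ := Groth.Agent.Lib.Helper4.VarDim.exists_trdeg_eq_dim K Z hV _ hzV
  have ez := Groth.Agent.Lib.Helper4.VarDim.trdegNat_eq_of_trdeg_eq K Z _ nz hnz
  rw [hZn'] at hd
  have e1 : n' = d := by exact_mod_cast hd
  have e2 : m = n' := by
    have : (m : WithBot ℕ∞) = n' := hm.symm.trans hC
    exact_mod_cast this
  have e3 : nz = m - c' := by
    have : (nz : WithBot ℕ∞) = ((m - c' : ℕ) : WithBot ℕ∞) := hnz'.symm.trans hquot
    exact_mod_cast this
  have e4 : c' ≤ c := by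
    rw [hc'] at hht
    exact_mod_cast hht
  have hle2 : nz ≤ Groth.Agent.Lib.Helper4.VarDim.trdegNat K (pullback f ι) ξ := by
    rw [← ez]
    exact hle1
  rw [dimT]
  have hfin : d ≤ Groth.Agent.Lib.Helper4.VarDim.trdegNat K (pullback f ι) ξ + c := by omega
  exact_mod_cast hfin

end Groth.Agent.S6473
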