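import Groth.Statements.S6476
import Mathlib
import Groth.Agent.Lib.Helper5InjEndo

set_option autoImplicit false
universe u v
open CycAlg

namespace Groth.Agent.S6476

/-- Let A be a Noetherian local ring, M a finite A-module of dimension 1, and φ, ψ : M → M injective
with φ(ψ(M)) = ψ(φ(M)) (e.g. φ, ψ commute). Then length_A(M/φψM) is finite and (M/φψM, φ, ψ) is an
exact (2, 1)-periodic complex; here φ', ψ' denote the endomorphisms of M/φψM induced by φ and ψ, and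
exactness says both cohomology modules (CycAlg.perH) are trivial. -/
theorem result {A : Type u} [CommRing A] [IsNoetherianRing A] [IsLocalRing A] {M : Type v} [AddCommGroup M] [Module A M] [Module.Finite A M] (hdim : Module.supportDim A M = 1) (φ ψ : M →ₗ[A] M) (hφ : Function.Injective φ) (hψ : Function.Injective ψ) (hcomm : Submodule.map φ (LinearMap.range ψ) = Submodule.map ψ (LinearMap.range φ)) (φ' ψ' : (M ⧸ LinearMap.range (φ ∘ₗ ψ)) →ₗ[A] (M ⧸ LinearMap.range (φ ∘ₗ ψ))) (hφ' : φ' ∘ₗ (LinearMap.range (φ ∘ₗ ψ)).mkQ = (LinearMap.range (φ ∘ₗ ψ)).mkQ ∘ₗ φ) (hψ' : ψ' ∘ₗ (LinearMap.range (φ ∘ₗ ψ)).mkQ = (LinearMap.range (φ ∘ₗ ψ)).mkQ ∘ₗ ψ) : Module.length A (M ⧸ LinearMap.range (φ ∘ₗ ψ)) < ⊤ ∧ CycAlg.IsPeriodic φ' ψ' ∧ Subsingleton (CycAlg.perH φ' ψ') ∧ Subsingleton (CycAlg.perH ψ' φ') := by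
  classical
  have hφ'_apply : ∀ m, φ' ((LinearMap.range (φ ∘ₗ ψ)).mkQ m) =
      (LinearMap.range (φ ∘ₗ ψ)).mkQ (φ m) := fun m => LinearMap.congr_fun hφ' m
  have hψ'_apply : ∀ m, ψ' ((LinearMap.range (φ ∘ₗ ψ)).mkQ m) =
      (LinearMap.range (φ ∘ₗ ψ)).mkQ (ψ m) := fun m => LinearMap.congr_fun hψ' m
  have hmem1 : ∀ m, φ (ψ m) ∈ LinearMap.range (φ ∘ₗ ψ) := fun m => ⟨m, rfl⟩
  have hmem2 : ∀ m, ψ (φ m) ∈ LinearMap.range (φ ∘ₗ ψ) := by
    intro m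
    have h1 : ψ (φ m) ∈ Submodule.map ψ (LinearMap.range φ) :=
      Submodule.mem_map_of_mem ⟨m, rfl⟩
    rw [← hcomm] at h1
    obtain ⟨_, ⟨n, rfl⟩, hn⟩ := h1
    exact ⟨n, hn⟩
  have hmem3 : ∀ y ∈ LinearMap.range (φ ∘ₗ ψ), ∃ n, ψ (φ n) = y := by
    rintro _ ⟨k, rfl⟩
    have h1 : φ (ψ k) ∈ Submodule.map φ (LinearMap.range ψ) :=
      Submodule.mem_map_of_mem ⟨k, rfl⟩
    rw [hcomm] at h1
    obtain ⟨_, ⟨n, rfl⟩, hn⟩ := h1
    exact ⟨n, hn⟩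
  have hmk0 : ∀ m, (LinearMap.range (φ ∘ₗ ψ)).mkQ m = 0 ↔ m ∈ LinearMap.range (φ ∘ₗ ψ) :=
    fun m => Submodule.Quotient.mk_eq_zero _
  have hinj : Function.Injective (φ ∘ₗ ψ) := by
    rw [LinearMap.coe_comp]
    exact hφ.comp hψ
  refine ⟨?_, ⟨?_, ?_⟩, ?_, ?_⟩
  · exact lt_top_iff_ne_top.mpr (Module.length_ne_top_iff.mpr
      (Groth.Agent.Lib.Helper5.InjEndo.isFiniteLength_quot_range (le_of_eq hdim) (φ ∘ₗ ψ) hinj))
  · refine LinearMap.ext fun z => ?_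
    obtain ⟨m, rfl⟩ := Submodule.mkQ_surjective _ z
    rw [LinearMap.comp_apply, hψ'_apply, hφ'_apply, LinearMap.zero_apply]
    exact (hmk0 _).mpr (hmem1 m)
  · refine LinearMap.ext fun z => ?_
    obtain ⟨m, rfl⟩ := Submodule.mkQ_surjective _ z
    rw [LinearMap.comp_apply, hφ'_apply, hψ'_apply, LinearMap.zero_apply]
    exact (hmk0 _).mpr (hmem2 m)
  · rw [Submodule.Quotient.subsingleton_iff, eq_top_iff]
    rintro ⟨z, hz⟩ _
    change z ∈ LinearMap.range ψ'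
    obtain ⟨m, rfl⟩ := Submodule.mkQ_surjective _ z
    rw [LinearMap.mem_ker, hφ'_apply, hmk0] at hz
    obtain ⟨n, hn⟩ := hz
    have hm : m = ψ n := hφ hn.symm
    exact ⟨(LinearMap.range (φ ∘ₗ ψ)).mkQ n, by rw [hψ'_apply, hm]⟩
  · rw [Submodule.Quotient.subsingleton_iff, eq_top_iff]
    rintro ⟨z, hz⟩ _
    change z ∈ LinearMap.range φ'
    obtain ⟨m, rfl⟩ := Submodule.mkQ_surjective _ z
    rw [LinearMap.mem_ker, hψ'_apply, hmk0] at hz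
    obtain ⟨n, hn⟩ := hmem3 _ hz
    have hm : m = φ n := hψ hn.symm
    exact ⟨(LinearMap.range (φ ∘ₗ ψ)).mkQ n, by rw [hφ'_apply, hm]⟩

end Groth.Agent.S6476
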