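import Groth.Statements.S6499
import Groth.Agent.S0036
import Groth.Agent.S0484
import Groth.Agent.Lib.Helper4DevD
import Groth.Agent.Lib.Helper2PushSupp
import Groth.Agent.Lib.Helper2CycFinFlat

set_option autoImplicit false
universe u
open CategoryTheory AlgebraicGeometry
open Cyc

namespace Groth.Agent.S6499

/-- Suppose X and Y are schemes locally of finite type over the base, and π : X → Y is a morphism
between them that is finite. Then π_* sends Coh_{≤k}(X) into Coh_{≤k}(Y): for F coherent on X with
dim_δ Supp(F) ≤ k, the direct image π_*F is coherent with dim_δ Supp(π_*F) ≤ k (Cyc.CohLe).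
(Exactness of π_* and the commutative diagram with the cycle maps are not restated; the latter is
the existing compatibility of [−]_k with π_*.) Here a pair (X, δ) with Cyc.IsSetup plays the role of
a scheme locally of finite type over the base (S, δ) (X locally Noetherian with universally catenary
local rings, δ a dimension function), and Cyc.DeltaCompat records that the dimension function
upstairs is the induced one. -/
theorem result (X Y : Scheme.{u}) (δX : X → ℤ) (δY : Y → ℤ) (hX : Cyc.IsSetup X δX) (hY : Cyc.IsSetup Y δY) (π : X ⟶ Y) [IsFinite π] (hδ : Cyc.DeltaCompat π δX δY) (k : ℤ) (F : X.Modules) (hF : Cyc.CohLe δX k F) : Cyc.CohLe δY k ((Coh.push π).obj F) := by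
  obtain ⟨hcoh, hsupp⟩ := hF
  haveI : IsLocallyNoetherian Y := hY.1
  refine ⟨?_, fun y hy => ?_⟩
  · have := Groth.Agent.S0484.result (Opens.grothendieckTopology X) X.ringCatSheaf
    haveI : EnoughInjectives X.Modules :=
      inferInstanceAs (EnoughInjectives (SheafOfModules.{u} X.ringCatSheaf))
    have h0 := Groth.Agent.S0036.result π F hcoh 0
    haveI : IsIso ((Scheme.Modules.pushforward π).toRightDerivedZero) := inferInstance
    exact Groth.Agent.Lib.Helper4.Dev.isCoh_of_iso
      (asIso ((Scheme.Modules.pushforward π).toRightDerivedZero.app F)).symm h0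
  · obtain ⟨x, hx, hne⟩ :=
      Groth.Agent.Lib.Helper2.PushSupp.exists_nontrivial_stalk_of_nontrivial_stalk_push π
        π.isClosedMap F y hy
    have h1 := hsupp x hne
    rw [Groth.Agent.Lib.Helper2.CycFinFlat.delta_eq π δX δY hδ x, hx] at h1
    exact h1

end Groth.Agent.S6499
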