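import Groth.Statements.S6500
import Groth.Agent.Lib.Helper4VarDim5
import Groth.Agent.Lib.Helper4VarDim6
import Groth.Agent.Lib.Helper7TopDim
import Groth.Agent.Lib.Helper13ABLocal
import Groth.Agent.Lib.Helper6SmRegSch
import Groth.Agent.S0563

set_option autoImplicit false
universe u
open CategoryTheory CategoryTheory.Limits AlgebraicGeometry
attribute [local instance] HasDerivedCategory.standard
open IntMult

namespace Groth.Agent.S6500

/-- Let X be a nonsingular variety of dimension n and F, G coherent O_X-modules. The Tor sheaves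
Tor_p^{O_X}(F, G), whose stalks are Tor_p^{O_{X,x}}(F_x, G_x), are nonzero only for p ∈ {0, …, n}:
for every point x and every p > n, Tor_p^{O_{X,x}}(F_x, G_x) = 0. (Coherence of the Tor sheaves and
the support statement are not restated.) Nonsingular variety: X → Spec K smooth, separated,
quasi-compact, X integral, K algebraically closed; n = dim X. -/
theorem result (K : Type u) [Field K] [IsAlgClosed K] (X : Scheme.{u}) (f : X ⟶ Spec (CommRingCat.of K)) [Smooth f] [IsSeparated f] [QuasiCompact f] [IsIntegral X] (n : ℕ) (hn : topologicalKrullDim X = n) (F G : X.Modules) (hF : Coh.IsCoh F) (hG : Coh.IsCoh G) (x : X) (p : ℕ) (hp : n < p) : Subsingleton (DRing.Tor ↑(X.presheaf.stalk x) p ↑(F.presheaf.stalk x) ↑(G.presheaf.stalk x)) := by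
  haveI hRLR : IsRegularLocalRing (X.presheaf.stalk x) :=
    Groth.Agent.Lib.Helper6.SmRegSch.isRegularLocalRing_stalk_of_smooth_over_field K X f x
  letI : X.Over (Spec (CommRingCat.of K)) := ⟨f⟩
  haveI : LocallyOfFiniteType (X ↘ Spec (CommRingCat.of K)) :=
    (inferInstance : LocallyOfFiniteType f)
  obtain ⟨d, hd⟩ := Groth.Agent.Lib.Helper4.VarDim.exists_ringKrullDim_stalk_eq K X x
  have e1 := Groth.Agent.Lib.Helper4.VarDim.localDim_eq_add K X x
    (Groth.Agent.Lib.Helper4.VarDim.trdegNat K X x) d
    (Groth.Agent.Lib.Helper4.VarDim.trdeg_eq_trdegNat K X x) hd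
  have e2 := Groth.Agent.Lib.Helper7.TopDim.localDim_le_dim x
  rw [e1, hn] at e2
  have hdn : Groth.Agent.Lib.Helper4.VarDim.trdegNat K X x + d ≤ n := by exact_mod_cast e2
  exact ModuleCat.subsingleton_of_isZero
    (Groth.Agent.Helper13ABLocal.isZero_tor_of_pdLT₁ _ d _
      (Groth.Agent.S0563.result (X.presheaf.stalk x) d hd _) p (by omega))

end Groth.Agent.S6500
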