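import Groth.Statements.S6501
import Mathlib

set_option autoImplicit false
universe u
open DPow

namespace Groth.Agent.S6501

/-- Let A be a commutative ring whose additive group is torsion free and I an ideal of A. Then I carries
at most one divided power structure, and it carries one if and only if I is generated by a set S
such that for every x in S and every n ≥ 1 the power x^n lies in the ideal generated by the products
of n! with elements of I. -/
theorem result {A : Type u} [CommRing A] [IsAddTorsionFree A] (I : Ideal A) :
    Subsingleton (DividedPowers I) ∧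
    (Nonempty (DividedPowers I) ↔ ∃ S : Set A, Ideal.span S = I ∧
      ∀ x ∈ S, ∀ n : ℕ, 1 ≤ n → x ^ n ∈ Ideal.span {(Nat.factorial n : A)} * I) := by
  classical
  have hcancel : ∀ n : ℕ, n ≠ 0 → ∀ a b : A, (n : A) * a = (n : A) * b → a = b := by
    intro n hn a b hab
    apply IsAddTorsionFree.nsmul_right_injective hn
    simpa [nsmul_eq_mul] using hab
  refine ⟨⟨fun h1 h2 => ?_⟩, ?_⟩
  · refine DividedPowers.ext h1 h2 (fun n x hx => ?_)
    apply hcancel (n.factorial) (Nat.factorial_ne_zero n)
    rw [h1.factorial_mul_dpow_eq_pow hx, h2.factorial_mul_dpow_eq_pow hx]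
  constructor
  · rintro ⟨hI⟩
    refine ⟨I, Ideal.span_eq I, fun x hx n hn => ?_⟩
    rw [← hI.factorial_mul_dpow_eq_pow hx]
    exact Ideal.mul_mem_mul (Ideal.mem_span_singleton_self _) (hI.dpow_mem (by omega) hx)
  · rintro ⟨S, hS, hSn⟩
    have hT : ∀ x ∈ I, ∀ n : ℕ, 1 ≤ n → ∃ y ∈ I, (n.factorial : A) * y = x ^ n := by
      intro x hx
      rw [← hS] at hx
      induction hx using Submodule.span_induction with
      | mem x hxS =>
        intro n hn
        exact Ideal.mem_span_singleton_mul.1 (hSn x hxS n hn)
      | zero =>
        intro n hn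
        exact ⟨0, I.zero_mem, by simp [zero_pow (by omega : n ≠ 0)]⟩
      | add x y _ _ ihx ihy =>
        intro n hn
        have key : ∀ k ∈ Finset.range (n + 1), ∃ z ∈ I,
            (n.factorial : A) * z = x ^ k * y ^ (n - k) * (n.choose k : A) := by
          intro k hk
          have hk' : k ≤ n := Nat.lt_succ_iff.1 (Finset.mem_range.1 hk)
          rcases Nat.eq_zero_or_pos k with rfl | hkpos
          · obtain ⟨v, hv, hv'⟩ := ihy n hn
            exact ⟨v, hv, by simp [hv']⟩
          · rcases Nat.eq_zero_or_pos (n - k) with hnk | hnkpos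
            · have hkn : k = n := by omega
              subst hkn
              obtain ⟨u, hu, hu'⟩ := ihx k hn
              exact ⟨u, hu, by simp [hu']⟩
            · obtain ⟨u, hu, hu'⟩ := ihx k hkpos
              obtain ⟨v, hv, hv'⟩ := ihy (n - k) hnkpos
              refine ⟨u * v, I.mul_mem_left _ hv, ?_⟩
              rw [← hu', ← hv']
              have h0 := Nat.choose_mul_factorial_mul_factorial hk'
              have h' : (n.factorial : A) =
                  (n.choose k : A) * (k.factorial : A) * ((n - k).factorial : A) := by
                rw [← h0]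
                push_cast
                ring
              rw [h']
              ring
        choose! z hz hz' using key
        refine ⟨∑ k ∈ Finset.range (n + 1), z k, I.sum_mem (fun k hk => hz k hk), ?_⟩
        rw [Finset.mul_sum, add_pow]
        exact Finset.sum_congr rfl (fun k hk => hz' k hk)
      | smul a x _ ihx =>
        intro n hn
        obtain ⟨u, hu, hu'⟩ := ihx n hn
        exact ⟨a ^ n * u, I.mul_mem_left _ hu, by rw [smul_eq_mul, mul_pow, ← hu']; ring⟩
    let f : A →+* TensorProduct ℤ ℚ A :=
      (Algebra.TensorProduct.includeRight : A →ₐ[ℤ] TensorProduct ℤ ℚ A).toRingHom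
    have hf : Function.Injective f :=
      Algebra.TensorProduct.includeRight_injective (R := ℤ) (A := ℚ) (B := A)
        (by intro a b hab; exact_mod_cast hab)
    let hJ : DividedPowers (I.map f) := DividedPowers.RatAlgebra.dividedPowers (I.map f)
    refine ⟨DividedPowers.ofInjective I (I.map f) f hf hJ rfl ?_⟩
    intro n x hx
    have hfx : f x ∈ I.map f := Ideal.mem_map_of_mem f hx
    rcases Nat.eq_zero_or_pos n with rfl | hn
    · refine ⟨1, fun h => absurd rfl h, ?_⟩
      rw [map_one, hJ.dpow_zero hfx]
    · obtain ⟨y, hy, hy'⟩ := hT x hx n hn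
      refine ⟨y, fun _ => hy, ?_⟩
      have h1 : hJ.dpow n (f x) = Ring.inverse ((n.factorial : ℕ) : TensorProduct ℤ ℚ A) * (f x) ^ n := by
        change (DividedPowers.RatAlgebra.dividedPowers (I.map f)).dpow n (f x) = _
        rw [DividedPowers.RatAlgebra.dpow_apply, if_pos hfx]
      rw [h1, ← map_pow, ← hy', map_mul, map_natCast, ← mul_assoc,
        Ring.inverse_mul_cancel _ (IsUnit.natCast_factorial_of_algebra ℚ n), one_mul]

end Groth.Agent.S6501
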