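import Groth.Statements.S6524
import Groth.Agent.Lib.Helper16BaerFamily
import Groth.Prelude.Def_FreeSh
-- import your own Groth.Agent.* helpers here

set_option autoImplicit false
set_option linter.style.haveILetI false
set_option linter.unusedSectionVars false
universe u
open CategoryTheory
open CohSite

namespace Groth.Agent.S6524

open Groth.Agent.Lib.Helper16.BaerFamily CategoryTheory.Limits Opposite MorphismProperty

variable {C : Type u} [SmallCategory C] (J : GrothendieckTopology C)

/-- the class of inclusions of subsheaves of the free sheaves, together with the isomorphisms. -/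
def W : MorphismProperty (Sheaf J AddCommGrpCat.{u}) :=
  (⨆ X : C, IsGrothendieckAbelian.generatingMonomorphisms (CohCx.freeSheaf J X)) ⊔
    MorphismProperty.isomorphisms _

theorem evalGen_comp {G G' : Sheaf J AddCommGrpCat.{u}} (a : G ⟶ G') (X : C)
    (φ : CohCx.freeSheaf J X ⟶ G) :
    CohFree.evalGen J X G' (φ ≫ a) = (a.hom.app (op X)).hom (CohFree.evalGen J X G φ) := rfl

/-- a monomorphism of abelian sheaves through which every morphism from a free sheaf factors is
an isomorphism. -/
theorem isIso_of_factor {A B : Sheaf J AddCommGrpCat.{u}} (p : A ⟶ B) [Mono p]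
    (h : ∀ (X : C) (f : CohCx.freeSheaf J X ⟶ B), ∃ a : CohCx.freeSheaf J X ⟶ A, a ≫ p = f) :
    IsIso p := by
  haveI : Mono p.hom := inferInstanceAs (Mono ((sheafToPresheaf J AddCommGrpCat.{u}).map p))
  haveI : ∀ X, IsIso (p.hom.app X) := by
    intro X
    haveI : Mono (p.hom.app X) := inferInstance
    rw [ConcreteCategory.isIso_iff_bijective]
    refine ⟨(AddCommGrpCat.mono_iff_injective _).1 inferInstance, fun s => ?_⟩
    obtain ⟨a, ha⟩ := h X.unop (CohFree.ofSect J X.unop B s)
    refine ⟨CohFree.evalGen J X.unop A a, ?_⟩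
    have := evalGen_comp J p X.unop a
    rw [ha, CohFree.evalGen_ofSect] at this
    exact this.symm
  haveI : IsIso p.hom := NatIso.isIso_of_isIso_app _
  haveI : IsIso ((sheafToPresheaf J AddCommGrpCat.{u}).map p) := ‹IsIso p.hom›
  exact isIso_of_reflects_iso p (sheafToPresheaf J AddCommGrpCat.{u})

theorem gen_W : Gen (W J) where
  iso_le := le_trans le_sup_right (MorphismProperty.le_pushouts _)
  exists_pushouts {A B} p _ hp := by
    have : ¬ ∀ (X : C) (f : CohCx.freeSheaf J X ⟶ B), ∃ a : CohCx.freeSheaf J X ⟶ A, a ≫ p = f :=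
      fun h => hp (isIso_of_factor J p h)
    push Not at this
    obtain ⟨X, f, hf⟩ := this
    obtain ⟨X', i, p', hi, h1, h2, h3⟩ := exists_pushouts_of_not_factor p f hf
    refine ⟨X', i, p', ?_, h1, h2, h3⟩
    exact MorphismProperty.pushouts_monotone
      (le_trans (le_iSup (fun X : C => IsGrothendieckAbelian.generatingMonomorphisms
        (CohCx.freeSheaf J X)) X) le_sup_left) _ hi


/-- Let (C, J) be a small site and I an abelian sheaf. Suppose that for every object X of C, every
abelian subsheaf S of the free abelian sheaf Z_X^# on X (given as a monomorphism S → Z_X^#) and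
every morphism S → I, the morphism extends to Z_X^# → I. Then I is an injective abelian sheaf. -/
theorem result {C : Type u} [SmallCategory C]
    (J : GrothendieckTopology C) (I : Sheaf J AddCommGrpCat.{u})
    (h : ∀ (X : C) (S : Sheaf J AddCommGrpCat.{u}) (i : S ⟶ CohCx.freeSheaf J X) [Mono i] (φ : S ⟶ I),
      ∃ ψ : CohCx.freeSheaf J X ⟶ I, i ≫ ψ = φ) :
    Injective I := by
  rw [injective_iff_rlp_monomorphisms_zero]
  apply rlp_le.{u} (gen_W J)
  intro A B i hi
  rcases hi with hi | hi
  · rw [MorphismProperty.iSup_iff] at hi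
    obtain ⟨X₀, hX₀⟩ := hi
    obtain ⟨S⟩ := hX₀
    refine ⟨fun {f g} sq => ?_⟩
    obtain ⟨ψ, hψ⟩ := h X₀ _ S.arrow f
    exact CommSq.HasLift.mk' ⟨ψ, hψ, (isZero_zero _).eq_of_tgt _ _⟩
  · haveI : IsIso i := hi
    exact HasLiftingProperty.of_left_iso i _

end Groth.Agent.S6524
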