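import Groth.Statements.S6564
-- no extra imports

set_option autoImplicit false
universe u
open CategoryTheory CategoryTheory.Limits AlgebraicGeometry
open Curves

namespace Groth.Agent.S6564

/-- Let X be proper over the field k of dimension at most 1. If X has a g^r_d (an invertible module L of
degree d with an ordered family of r + 1 global sections linearly independent over k), then X has a
g^s_d for every 0 ≤ s ≤ r. -/
theorem result (k : Type u) [Field k] (X : Scheme.{u}) [X.Over (Spec (CommRingCat.of k))] [IsProper (X ↘ (Spec (CommRingCat.of k)))] (hdim : topologicalKrullDim X ≤ 1)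
    (d r : ℕ) (L : X.Modules) (σ : Fin (r + 1) → LinSer.Sect X L) (hL : LinSer.IsLinSer k X L d r σ)
    (s : ℕ) (hs : s ≤ r) :
    ∃ (L' : X.Modules) (τ : Fin (s + 1) → LinSer.Sect X L'), LinSer.IsLinSer k X L' d s τ := by
  classical
  obtain ⟨hinv, hdeg, hli⟩ := hL
  let e : Fin (s + 1) ↪ Fin (r + 1) := ⟨Fin.castLE (Nat.succ_le_succ hs), Fin.castLE_injective _⟩
  refine ⟨L, fun i => σ (e i), hinv, hdeg, ?_⟩
  intro c hc
  let c' : Fin (r + 1) → k := Function.extend e c 0
  have hc'e : ∀ i, c' (e i) = c i := fun i => e.injective.extend_apply c 0 i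
  have hc'0 : ∀ j, j ∉ Finset.univ.map e → c' j = 0 := by
    intro j hj
    apply Function.extend_apply'
    rintro ⟨i, rfl⟩
    exact hj (Finset.mem_map_of_mem e (Finset.mem_univ i))
  have hsum : (∑ j, (Coh.toGlobal (X ↘ Spec (CommRingCat.of k)) (c' j)) • σ j) = 0 := by
    rw [← Finset.sum_subset (Finset.subset_univ (Finset.univ.map e))]
    · rw [Finset.sum_map]
      simp only [hc'e]
      exact hc
    · intro j _ hj
      rw [hc'0 j hj, map_zero, zero_smul]
  have := hli c' hsum
  funext i
  have h2 := congrFun this (e i)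
  rw [hc'e] at h2
  exact h2

end Groth.Agent.S6564
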