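import Groth.Statements.S6573
import Groth.Agent.Lib.Helper19NodeApproxF
import Groth.Agent.Lib.Helper19NodeApproxG
import Groth.Agent.Lib.Helper3SmUO
import Groth.Agent.Lib.Helper3NodeSemi

set_option autoImplicit false
universe u
open CategoryTheory CategoryTheory.Limits AlgebraicGeometry
open Curves

namespace Groth.Agent.S6573

/-- Let f : T → S be a morphism of schemes, t ∈ T with image s ∈ S. Assume that the local ring O_{S,s}
is Noetherian, that f is locally of finite type, that f is flat at the point t, and that t is a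
split node of the fibre T_s — here taken in the form: t is a closed point of T_s and the completion
of O_{T_s,t} is isomorphic, compatibly with κ(s), to κ(s)[[x,y]]/(xy). Then there are h in the
maximal ideal of the completion Â of O_{S,s} and an isomorphism of the completion of O_{T,t} with
Â[[x,y]]/(xy − h) compatible with the maps from O_{S,s} (hence an isomorphism of Â-algebras). -/
theorem result {T S : Scheme.{u}} (f : T ⟶ S) [LocallyOfFiniteType f] (t : T)
    [IsNoetherianRing (S.presheaf.stalk (f t))] (hfl : (f.stalkMap t).hom.Flat)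
    (ht : letI : (f.fiber (f t)).Over (Spec (S.residueField (f t))) := ⟨f.fiberToSpecResidueField (f t)⟩
      letI := Curv2.stalkAlgebra (S.residueField (f t)) (f.fiber (f t)) (f.asFiber t)
      IsClosed ({f.asFiber t} : Set (f.fiber (f t))) ∧
        Curv2.IsOrdDoublePt (S.residueField (f t)) ((f.fiber (f t)).presheaf.stalk (f.asFiber t))) :
    ∃ h ∈ IsLocalRing.maximalIdeal (Curv2.cpl (S.presheaf.stalk (f t))),
      ∃ e : Curv2.cpl (T.presheaf.stalk t) ≃+*
          (MvPowerSeries (Fin 2) (Curv2.cpl (S.presheaf.stalk (f t))) ⧸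
            Ideal.span {(MvPowerSeries.X 0 * MvPowerSeries.X 1 - MvPowerSeries.C h : MvPowerSeries (Fin 2) (Curv2.cpl (S.presheaf.stalk (f t))))}),
        ∀ a : S.presheaf.stalk (f t),
          e (algebraMap (T.presheaf.stalk t) (Curv2.cpl (T.presheaf.stalk t)) ((f.stalkMap t).hom a)) =
            Ideal.Quotient.mk _ (MvPowerSeries.C (algebraMap (S.presheaf.stalk (f t)) (Curv2.cpl (S.presheaf.stalk (f t))) a)) := by
  letI : (f.fiber (f t)).Over (Spec (S.residueField (f t))) := ⟨f.fiberToSpecResidueField (f t)⟩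
  letI := Curv2.stalkAlgebra (S.residueField (f t)) (f.fiber (f t)) (f.asFiber t)
  letI := Groth.Agent.Lib.Helper3.SmUO.algQ f t
  obtain ⟨-, hodp⟩ := ht
  letI : Algebra (S.presheaf.stalk (f t)) (T.presheaf.stalk t) := (f.stalkMap t).hom.toAlgebra
  haveI : IsLocalHom (algebraMap (S.presheaf.stalk (f t)) (T.presheaf.stalk t)) :=
    inferInstanceAs (IsLocalHom (f.stalkMap t).hom)
  haveI hess : Algebra.EssFiniteType (S.presheaf.stalk (f t)) (T.presheaf.stalk t) :=
    LocallyOfFiniteType.stalkMap f t
  haveI : IsNoetherianRing (T.presheaf.stalk t) :=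
    Algebra.EssFiniteType.isNoetherianRing (S.presheaf.stalk (f t)) (T.presheaf.stalk t)
  haveI : Module.Flat (S.presheaf.stalk (f t)) (T.presheaf.stalk t) := hfl
  obtain ⟨e⟩ := Groth.Agent.Lib.Helper3.SmUO.nonempty_stalk_asFiber_algEquiv f t
  haveI : IsLocalRing (T.presheaf.stalk t ⧸
      (IsLocalRing.maximalIdeal (S.presheaf.stalk (f t))).map (f.stalkMap t).hom) :=
    e.toRingEquiv.isLocalRing
  have hodp' : Curv2.IsOrdDoublePt (S.residueField (f t)) (T.presheaf.stalk t ⧸
      (IsLocalRing.maximalIdeal (S.presheaf.stalk (f t))).map (f.stalkMap t).hom) :=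
    Groth.Agent.Lib.Helper3.NodeSemi.isOrdDoublePt_of_semilinear e.symm.toRingEquiv
      (RingEquiv.refl _) (fun c => e.symm.commutes c) hodp
  obtain ⟨α, hα, ε, hε⟩ := Groth.Agent.Lib.Helper19.NodeApprox.exists_iso_of_ordDoublePt
    (S.presheaf.stalk (f t)) (T.presheaf.stalk t) hodp'
  exact ⟨α, hα, ε, hε⟩

end Groth.Agent.S6573
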