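import Groth.Statements.S6575
import Mathlib

set_option autoImplicit false
universe u
open Curves

namespace Groth.Agent.S6575

section Dev
open Matrix
open Matrix

/-- the ideal of r-minors -/
def minors {P : Type u} [CommRing P] {n m : ℕ} (r : ℕ) (M : Matrix (Fin m) (Fin n) P) : Set P :=
  {d : P | ∃ (ρ : Fin r → Fin m) (γ : Fin r → Fin n), Function.Injective ρ ∧ Function.Injective γ ∧
    d = (M.submatrix ρ γ).det}

theorem det_sum_rows {Q : Type u} [CommRing Q] {r m : ℕ} (c : Fin r → Fin m → Q)
    (v : Fin m → Fin r → Q) :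
    Matrix.det (Matrix.of fun p : Fin r => ∑ j, c p j • v j) =
      ∑ σ : Fin r → Fin m, (∏ p, c p (σ p)) * Matrix.det (Matrix.of fun p => v (σ p)) := by
  have h1 : Matrix.det (Matrix.of fun p : Fin r => ∑ j, c p j • v j) =
      Matrix.detRowAlternating (fun p : Fin r => ∑ j, c p j • v j) := rfl
  rw [h1, ← AlternatingMap.coe_multilinearMap, MultilinearMap.map_sum]
  apply Finset.sum_congr rfl
  intro σ _
  rw [MultilinearMap.map_smul_univ, smul_eq_mul]
  rfl

theorem one_dir {P : Type u} [CommRing P] {n m l : ℕ} (r : ℕ) (D : Fin n → (P → P))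
    (hadd : ∀ i x y, D i (x + y) = D i x + D i y) (hzero : ∀ i, D i 0 = 0)
    (hmul : ∀ i x y, D i (x * y) = x * D i y + y * D i x)
    (f : Fin m → P) (g : Fin l → P) (hg : ∀ s, g s ∈ Ideal.span (Set.range f)) :
    Ideal.span (minors r (Matrix.of fun (s : Fin l) (i : Fin n) => D i (g s))) ≤
      Ideal.span (minors r (Matrix.of fun (j : Fin m) (i : Fin n) => D i (f j))) ⊔
        Ideal.span (Set.range f) := by
  classical
  set I := Ideal.span (Set.range f) with hI
  set Jf := Ideal.span (minors r (Matrix.of fun (j : Fin m) (i : Fin n) => D i (f j))) with hJf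
  let π := Ideal.Quotient.mk I
  have hsup : Jf ⊔ I = Ideal.comap π (Ideal.map π Jf) := by
    rw [Ideal.comap_map_of_surjective π Ideal.Quotient.mk_surjective, ← RingHom.ker_eq_comap_bot,
      Ideal.mk_ker]
  rw [Ideal.span_le]
  rintro _ ⟨ρ, γ, hρ, hγ, rfl⟩
  rw [hsup]
  show π _ ∈ Ideal.map π Jf
  choose a ha using fun s => (Ideal.mem_span_range_iff_exists_fun).mp (hg s)
  have hDsum : ∀ i (s : Finset (Fin m)) (F : Fin m → P), D i (∑ j ∈ s, F j) = ∑ j ∈ s, D i (F j) := by
    intro i s F
    induction s using Finset.induction_on with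
    | empty => simp [hzero]
    | insert b s hb ih => rw [Finset.sum_insert hb, hadd, ih, Finset.sum_insert hb]
  have hπD : ∀ i s, π (D i (g s)) = ∑ j, π (a s j) * π (D i (f j)) := by
    intro i s
    rw [← ha s, hDsum, map_sum]
    apply Finset.sum_congr rfl
    intro j _
    rw [hmul, map_add, map_mul, map_mul]
    have : π (f j) = 0 := Ideal.Quotient.eq_zero_iff_mem.mpr (Ideal.subset_span ⟨j, rfl⟩)
    rw [this, zero_mul, add_zero]
  rw [RingHom.map_det]
  have hmat : π.mapMatrix ((Matrix.of fun (s : Fin l) (i : Fin n) => D i (g s)).submatrix ρ γ) =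
      Matrix.of fun p : Fin r => ∑ j, (π (a (ρ p) j)) • (fun q : Fin r => π (D (γ q) (f j))) := by
    ext p q
    simp only [RingHom.mapMatrix_apply, Matrix.map_apply, Matrix.submatrix_apply, Matrix.of_apply,
      Finset.sum_apply, Pi.smul_apply, smul_eq_mul]
    exact hπD (γ q) (ρ p)
  rw [hmat, det_sum_rows]
  apply Ideal.sum_mem
  intro σ _
  apply Ideal.mul_mem_left
  by_cases hσ : Function.Injective σ
  · have : Matrix.det (Matrix.of fun p : Fin r => (fun q : Fin r => π (D (γ q) (f (σ p))))) =
        π (((Matrix.of fun (j : Fin m) (i : Fin n) => D i (f j)).submatrix σ γ).det) := by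
      rw [RingHom.map_det]
      rfl
    rw [this]
    exact Ideal.mem_map_of_mem π (Ideal.subset_span ⟨σ, γ, hσ, hγ, rfl⟩)
  · have : Matrix.det (Matrix.of fun p : Fin r => (fun q : Fin r => π (D (γ q) (f (σ p))))) = 0 := by
      rw [Function.Injective] at hσ
      simp only [not_forall] at hσ
      obtain ⟨p1, p2, h12, hne⟩ := hσ
      apply Matrix.det_zero_of_row_eq hne
      funext q
      simp [h12]
    rw [this]
    exact Ideal.zero_mem _
end Dev

/-- Let k be a field, A = k[[x_1, …, x_n]] and I ⊆ A an ideal generated by f_1, …, f_m and also by g_1,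
…, g_l. Then for every r ≥ 0 the ideal of A/I generated by the r × r minors of (∂f_j/∂x_i) equals
the one generated by the r × r minors of (∂g_s/∂x_i); stated in A as equality of the ideals
generated by the minors together with I. (The published result also asserts independence of the
regular system of parameters x_1, …, x_n, which is not stated here.) -/
theorem result (k : Type u) [Field k] (n m l r : ℕ)
    (f : Fin m → MvPowerSeries (Fin n) k) (g : Fin l → MvPowerSeries (Fin n) k)
    (hfg : Ideal.span (Set.range f) = Ideal.span (Set.range g)) :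
    Ideal.span {d : MvPowerSeries (Fin n) k | ∃ (ρ : Fin r → Fin m) (γ : Fin r → Fin n), Function.Injective ρ ∧ Function.Injective γ ∧
          d = ((Matrix.of fun (j : Fin m) (i : Fin n) => MvPowerSeries.pderiv k i (f j)).submatrix ρ γ).det} ⊔ Ideal.span (Set.range f) =
      Ideal.span {d : MvPowerSeries (Fin n) k | ∃ (ρ : Fin r → Fin l) (γ : Fin r → Fin n), Function.Injective ρ ∧ Function.Injective γ ∧
          d = ((Matrix.of fun (j : Fin l) (i : Fin n) => MvPowerSeries.pderiv k i (g j)).submatrix ρ γ).det} ⊔ Ideal.span (Set.range g) := by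
  have hadd : ∀ (i : Fin n) (x y : MvPowerSeries (Fin n) k),
      MvPowerSeries.pderiv k i (x + y) = MvPowerSeries.pderiv k i x + MvPowerSeries.pderiv k i y :=
    fun i x y => map_add _ x y
  have hzero : ∀ i : Fin n, MvPowerSeries.pderiv k i (0 : MvPowerSeries (Fin n) k) = 0 :=
    fun i => map_zero _
  have hmul : ∀ (i : Fin n) (x y : MvPowerSeries (Fin n) k),
      MvPowerSeries.pderiv k i (x * y) = x * MvPowerSeries.pderiv k i y + y * MvPowerSeries.pderiv k i x := by
    intro i x y
    rw [Derivation.leibniz, smul_eq_mul, smul_eq_mul]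
  have hf : ∀ j, f j ∈ Ideal.span (Set.range g) := fun j => by
    rw [← hfg]; exact Ideal.subset_span ⟨j, rfl⟩
  have hg : ∀ s, g s ∈ Ideal.span (Set.range f) := fun s => by
    rw [hfg]; exact Ideal.subset_span ⟨s, rfl⟩
  have h1 := one_dir r (fun i x => MvPowerSeries.pderiv k i x) hadd hzero hmul f g hg
  have h2 := one_dir r (fun i x => MvPowerSeries.pderiv k i x) hadd hzero hmul g f hf
  apply le_antisymm
  · refine sup_le h2 ?_
    rw [hfg]; exact le_sup_right
  · refine sup_le h1 ?_
    rw [← hfg]; exact le_sup_right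

end Groth.Agent.S6575
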