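import Groth.Statements.S6580
import Mathlib.Tactic.NoncommRing
import Mathlib.Tactic.Abel

set_option autoImplicit false
universe v u
open CategoryTheory CategoryTheory.Limits
open CohDer

namespace Groth.Agent.S6580

theorem idem_key {R : Type*} [Ring R] (x : R) (h : (x * x - x) * (x * x - x) = 0) :
    (3 • (x * x) - 2 • (x * x * x)) * (3 • (x * x) - 2 • (x * x * x)) =
      3 • (x * x) - 2 • (x * x * x) := by
  have h2 : (3 • (x * x) - 2 • (x * x * x)) * (3 • (x * x) - 2 • (x * x * x)) -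
      (3 • (x * x) - 2 • (x * x * x)) =
      - (((x * x - x) * (x * x - x)) * ((3 - 2 • x) * (2 • x + 1))) := by
    noncomm_ring
  rw [h, zero_mul, neg_zero, sub_eq_zero] at h2
  exact h2

open CategoryTheory.Pretriangulated in
/-- Let (X, Y, Z, f, g, h) be a distinguished triangle of a pretriangulated category, and let a : X ⟶ X
and c : Z ⟶ Z be idempotents with h ≫ a⟦1⟧ = c ≫ h. Then there is an idempotent b : Y ⟶ Y such that
(a, b, c) is an endomorphism of the triangle. -/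
theorem result {D : Type u} [Category.{v} D] [Preadditive D] [HasZeroObject D] [HasShift D ℤ]
    [∀ n : ℤ, (shiftFunctor D n).Additive] [Pretriangulated D]
    (T : Triangle D) (hT : T ∈ distinguishedTriangles) (a : T.obj₁ ⟶ T.obj₁) (c : T.obj₃ ⟶ T.obj₃)
    (ha : a ≫ a = a) (hc : c ≫ c = c) (comm : T.mor₃ ≫ (shiftFunctor D (1 : ℤ)).map a = c ≫ T.mor₃) :
    ∃ b : T.obj₂ ⟶ T.obj₂, b ≫ b = b ∧ T.mor₁ ≫ b = a ≫ T.mor₁ ∧ T.mor₂ ≫ c = b ≫ T.mor₂ := by
  obtain ⟨b', hb1, hb2⟩ := Pretriangulated.complete_distinguished_triangle_morphism₂ T T hT hT a c comm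
  -- e = b'² - b'
  have he1 : T.mor₁ ≫ (b' ≫ b' - b') = 0 := by
    rw [Preadditive.comp_sub, ← Category.assoc, hb1, Category.assoc, hb1, ← Category.assoc, ha, sub_self]
  have he2 : (b' ≫ b' - b') ≫ T.mor₂ = 0 := by
    rw [Preadditive.sub_comp, Category.assoc, ← hb2, ← Category.assoc, ← hb2, Category.assoc, hc, sub_self]
  obtain ⟨e', he'⟩ := Pretriangulated.Triangle.coyoneda_exact₂ T hT _ he2
  have hee : (b' ≫ b' - b') ≫ (b' ≫ b' - b') = 0 := by
    have : (b' ≫ b' - b') ≫ (b' ≫ b' - b') = e' ≫ (T.mor₁ ≫ (b' ≫ b' - b')) := by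
      conv_lhs => rw [he']
      rw [Category.assoc, ← he']
    rw [this, he1, comp_zero]
  have hf2 : T.mor₁ ≫ b' ≫ b' = a ≫ T.mor₁ := by
    rw [← Category.assoc, hb1, Category.assoc, hb1, ← Category.assoc, ha]
  have hf3 : T.mor₁ ≫ b' ≫ b' ≫ b' = a ≫ T.mor₁ := by
    rw [← Category.assoc, hb1, Category.assoc, hf2, ← Category.assoc, ha]
  have hg2 : b' ≫ b' ≫ T.mor₂ = T.mor₂ ≫ c := by
    rw [← hb2, ← Category.assoc, ← hb2, Category.assoc, hc]
  have hg3 : b' ≫ b' ≫ b' ≫ T.mor₂ = T.mor₂ ≫ c := by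
    rw [hg2, ← Category.assoc, ← hb2, Category.assoc, hc]
  have hbb : (b' ≫ b' ≫ b') ≫ T.mor₂ = T.mor₂ ≫ c := by
    rw [Category.assoc, Category.assoc, hg3]
  have hbb2 : (b' ≫ b') ≫ T.mor₂ = T.mor₂ ≫ c := by
    rw [Category.assoc, hg2]
  refine ⟨3 • (b' ≫ b') - 2 • (b' ≫ b' ≫ b'), ?_, ?_, ?_⟩
  · have := idem_key (R := End T.obj₂) (b' : End T.obj₂) hee
    exact this
  · rw [Preadditive.comp_sub, Preadditive.comp_nsmul, Preadditive.comp_nsmul, hf2, hf3]
    abel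
  · rw [Preadditive.sub_comp, Preadditive.nsmul_comp, Preadditive.nsmul_comp, hbb, hbb2]
    abel

end Groth.Agent.S6580
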