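import Groth.Statements.S6581
import Mathlib
-- import your own Groth.Agent.* helpers here

set_option autoImplicit false
universe v u
open CategoryTheory CategoryTheory.Limits
open CohDer

namespace Groth.Agent.S6581

section aux
open CategoryTheory.Pretriangulated

variable {D : Type u} [Category.{v} D] [Preadditive D] [HasZeroObject D] [HasShift D ℤ]
    [∀ n : ℤ, (shiftFunctor D n).Additive] [Pretriangulated D]

/-- "coyoneda exactness" of a triangle -/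
structure CE (T : Triangle D) : Prop where
  zero₁₂ : T.mor₁ ≫ T.mor₂ = 0
  zero₃₁ : T.mor₃ ≫ (shiftFunctor D (1 : ℤ)).map T.mor₁ = 0
  ex₁ : ∀ {A : D} (a : A ⟶ (shiftFunctor D (1 : ℤ)).obj T.obj₁),
    a ≫ (shiftFunctor D (1 : ℤ)).map T.mor₁ = 0 → ∃ b : A ⟶ T.obj₃, a = b ≫ T.mor₃
  ex₂ : ∀ {A : D} (a : A ⟶ T.obj₂), a ≫ T.mor₂ = 0 → ∃ b : A ⟶ T.obj₁, a = b ≫ T.mor₁
  ex₃ : ∀ {A : D} (a : A ⟶ T.obj₃), a ≫ T.mor₃ = 0 → ∃ b : A ⟶ T.obj₂, a = b ≫ T.mor₂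

theorem CE_of_dist (T : Triangle D) (hT : T ∈ distinguishedTriangles) : CE T where
  zero₁₂ := comp_distTriang_mor_zero₁₂ _ hT
  zero₃₁ := comp_distTriang_mor_zero₃₁ _ hT
  ex₁ := fun a ha => Triangle.coyoneda_exact₁ _ hT a ha
  ex₂ := fun a ha => Triangle.coyoneda_exact₂ _ hT a ha
  ex₃ := fun a ha => Triangle.coyoneda_exact₃ _ hT a ha

theorem isIso_of_CE {X Y Z₁ Z₂ : D} (f : X ⟶ Y) (g₁ : Y ⟶ Z₁)
    (h₁ : Z₁ ⟶ (shiftFunctor D (1 : ℤ)).obj X) (g₂ : Y ⟶ Z₂)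
    (h₂ : Z₂ ⟶ (shiftFunctor D (1 : ℤ)).obj X)
    (H₁ : CE (Triangle.mk f g₁ h₁)) (H₂ : CE (Triangle.mk f g₂ h₂))
    (δ : Z₁ ⟶ Z₂) (hg : g₁ ≫ δ = g₂) (hh : δ ≫ h₂ = h₁) : IsIso δ := by
  refine isIso_of_yoneda_map_bijective _ (fun A => ⟨?_, ?_⟩)
  · suffices Mono δ by
      intro a₁ a₂ ha
      simpa only [← cancel_mono δ] using ha
    rw [Preadditive.mono_iff_cancel_zero]
    intro A q hq
    have h1 : q ≫ h₁ = 0 := by rw [← hh, ← Category.assoc, hq, zero_comp]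
    obtain ⟨y, hy⟩ : ∃ y : A ⟶ Y, q = y ≫ g₁ := H₁.ex₃ q h1
    have h2 : y ≫ g₂ = 0 := by rw [← hg, ← Category.assoc, ← hy, hq]
    obtain ⟨x, hx⟩ : ∃ x : A ⟶ X, y = x ≫ f := H₂.ex₂ y h2
    have h12 : f ≫ g₁ = 0 := H₁.zero₁₂
    rw [hy, hx, Category.assoc, h12, comp_zero]
  · intro z
    have h31 : h₂ ≫ (shiftFunctor D (1 : ℤ)).map f = 0 := H₂.zero₃₁
    obtain ⟨q, hq⟩ : ∃ q : A ⟶ Z₁, z ≫ h₂ = q ≫ h₁ :=
      H₁.ex₁ (z ≫ h₂) (by
        show (z ≫ h₂) ≫ (shiftFunctor D (1 : ℤ)).map f = 0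
        rw [Category.assoc, h31, comp_zero])
    have h3 : (z - q ≫ δ) ≫ h₂ = 0 := by
      rw [Preadditive.sub_comp, Category.assoc, hh, hq, sub_self]
    obtain ⟨y, hy⟩ : ∃ y : A ⟶ Y, z - q ≫ δ = y ≫ g₂ := H₂.ex₃ _ h3
    refine ⟨q + y ≫ g₁, ?_⟩
    show (q + y ≫ g₁) ≫ δ = z
    rw [Preadditive.add_comp, Category.assoc, hg, ← hy]
    abel

theorem CE_of_retract (T S : Triangle D) (i : T ⟶ S) (p : S ⟶ T)
    (h₁ : i.hom₁ ≫ p.hom₁ = 𝟙 _) (h₂ : i.hom₂ ≫ p.hom₂ = 𝟙 _) (h₃ : i.hom₃ ≫ p.hom₃ = 𝟙 _)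
    (hS : CE S) : CE T where
  zero₁₂ := by
    have e1 : T.mor₁ ≫ T.mor₂ ≫ i.hom₃ = 0 := by
      rw [i.comm₂, ← Category.assoc, i.comm₁, Category.assoc, hS.zero₁₂, comp_zero]
    have : T.mor₁ ≫ T.mor₂ = (T.mor₁ ≫ T.mor₂ ≫ i.hom₃) ≫ p.hom₃ := by
      rw [Category.assoc, Category.assoc, h₃, Category.comp_id]
    rw [this, e1, zero_comp]
  zero₃₁ := by
    have h2s : (shiftFunctor D (1 : ℤ)).map i.hom₂ ≫ (shiftFunctor D (1 : ℤ)).map p.hom₂ = 𝟙 _ := by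
      rw [← Functor.map_comp, h₂, CategoryTheory.Functor.map_id]
    have e2 : T.mor₃ ≫ (shiftFunctor D (1 : ℤ)).map T.mor₁ ≫ (shiftFunctor D (1 : ℤ)).map i.hom₂
        = 0 := by
      rw [← Functor.map_comp, i.comm₁, Functor.map_comp, ← Category.assoc, i.comm₃, Category.assoc,
        hS.zero₃₁, comp_zero]
    have : T.mor₃ ≫ (shiftFunctor D (1 : ℤ)).map T.mor₁ =
        (T.mor₃ ≫ (shiftFunctor D (1 : ℤ)).map T.mor₁ ≫ (shiftFunctor D (1 : ℤ)).map i.hom₂) ≫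
          (shiftFunctor D (1 : ℤ)).map p.hom₂ := by
      rw [Category.assoc, Category.assoc, h2s, Category.comp_id]
    rw [this, e2, zero_comp]
  ex₁ := by
    intro A a ha
    have h1s : (shiftFunctor D (1 : ℤ)).map i.hom₁ ≫ (shiftFunctor D (1 : ℤ)).map p.hom₁ = 𝟙 _ := by
      rw [← Functor.map_comp, h₁, CategoryTheory.Functor.map_id]
    obtain ⟨b, hb⟩ := hS.ex₁ (a ≫ (shiftFunctor D (1 : ℤ)).map i.hom₁) (by
      rw [Category.assoc, ← Functor.map_comp, ← i.comm₁, Functor.map_comp, ← Category.assoc, ha,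
        zero_comp])
    refine ⟨b ≫ p.hom₃, ?_⟩
    rw [Category.assoc, ← p.comm₃, ← Category.assoc, ← hb, Category.assoc, h1s, Category.comp_id]
  ex₂ := by
    intro A a ha
    obtain ⟨b, hb⟩ := hS.ex₂ (a ≫ i.hom₂) (by
      rw [Category.assoc, ← i.comm₂, ← Category.assoc, ha, zero_comp])
    refine ⟨b ≫ p.hom₁, ?_⟩
    rw [Category.assoc, ← p.comm₁, ← Category.assoc, ← hb, Category.assoc, h₂, Category.comp_id]
  ex₃ := by
    intro A a ha
    obtain ⟨b, hb⟩ := hS.ex₃ (a ≫ i.hom₃) (by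
      rw [Category.assoc, ← i.comm₃, ← Category.assoc, ha, zero_comp])
    refine ⟨b ≫ p.hom₂, ?_⟩
    rw [Category.assoc, ← p.comm₂, ← Category.assoc, ← hb, Category.assoc, h₃, Category.comp_id]

theorem dist_of_retract (T S : Triangle D) (i : T ⟶ S) (p : S ⟶ T)
    (h₁ : i.hom₁ ≫ p.hom₁ = 𝟙 _) (h₂ : i.hom₂ ≫ p.hom₂ = 𝟙 _) (h₃ : i.hom₃ ≫ p.hom₃ = 𝟙 _)
    (hS : S ∈ distinguishedTriangles) : T ∈ distinguishedTriangles := by
  have hCE : CE T := CE_of_retract T S i p h₁ h₂ h₃ (CE_of_dist S hS)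
  obtain ⟨Q, g'', h'', hD⟩ := distinguished_cocone_triangle T.mor₁
  obtain ⟨d, hd₂, hd₃⟩ : ∃ d : S.obj₃ ⟶ Q, S.mor₂ ≫ d = p.hom₂ ≫ g'' ∧
      S.mor₃ ≫ (shiftFunctor D (1 : ℤ)).map p.hom₁ = d ≫ h'' :=
    complete_distinguished_triangle_morphism S (Triangle.mk T.mor₁ g'' h'') hS hD
      p.hom₁ p.hom₂ p.comm₁
  let γ : T.obj₃ ⟶ Q := i.hom₃ ≫ d
  have hγ₂ : T.mor₂ ≫ γ = g'' := by
    show T.mor₂ ≫ i.hom₃ ≫ d = g''
    rw [← Category.assoc, i.comm₂, Category.assoc, hd₂, ← Category.assoc, h₂, Category.id_comp]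
  have hγ₃ : γ ≫ h'' = T.mor₃ := by
    show (i.hom₃ ≫ d) ≫ h'' = T.mor₃
    rw [Category.assoc, ← hd₃, ← Category.assoc, ← i.comm₃, Category.assoc, ← Functor.map_comp, h₁,
      CategoryTheory.Functor.map_id, Category.comp_id]
  have hiso : IsIso γ := isIso_of_CE T.mor₁ T.mor₂ T.mor₃ g'' h'' hCE (CE_of_dist _ hD) γ hγ₂ hγ₃
  refine isomorphic_distinguished _ hD _ ?_
  refine Triangle.isoMk _ _ (Iso.refl _) (Iso.refl _) (@asIso _ _ _ _ γ hiso) ?_ ?_ ?_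
  · show T.mor₁ ≫ 𝟙 _ = 𝟙 _ ≫ T.mor₁
    rw [Category.comp_id, Category.id_comp]
  · show T.mor₂ ≫ γ = 𝟙 _ ≫ g''
    rw [Category.id_comp, hγ₂]
  · show T.mor₃ ≫ (shiftFunctor D (1 : ℤ)).map (𝟙 _) = γ ≫ h''
    rw [CategoryTheory.Functor.map_id, Category.comp_id, hγ₃]

/-- the biproduct triangle -/
noncomputable abbrev bT (T T' : Triangle D) : Triangle D :=
  Triangle.mk (biprod.map T.mor₁ T'.mor₁) (biprod.map T.mor₂ T'.mor₂)
    (biprod.desc (T.mor₃ ≫ (shiftFunctor D (1 : ℤ)).map biprod.inl)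
      (T'.mor₃ ≫ (shiftFunctor D (1 : ℤ)).map biprod.inr))

theorem bT_mor₃_fst (T T' : Triangle D) :
    biprod.desc (T.mor₃ ≫ (shiftFunctor D (1 : ℤ)).map (biprod.inl : T.obj₁ ⟶ T.obj₁ ⊞ T'.obj₁))
      (T'.mor₃ ≫ (shiftFunctor D (1 : ℤ)).map (biprod.inr : T'.obj₁ ⟶ T.obj₁ ⊞ T'.obj₁)) ≫
        (shiftFunctor D (1 : ℤ)).map (biprod.fst : T.obj₁ ⊞ T'.obj₁ ⟶ T.obj₁) =
      biprod.fst ≫ T.mor₃ := by
  apply biprod.hom_ext'
  · rw [biprod.inl_desc_assoc, Category.assoc, ← Functor.map_comp, biprod.inl_fst,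
      CategoryTheory.Functor.map_id, Category.comp_id, biprod.inl_fst_assoc]
  · rw [biprod.inr_desc_assoc, Category.assoc, ← Functor.map_comp, biprod.inr_fst,
      Functor.map_zero, comp_zero, biprod.inr_fst_assoc, zero_comp]

theorem bT_mor₃_snd (T T' : Triangle D) :
    biprod.desc (T.mor₃ ≫ (shiftFunctor D (1 : ℤ)).map (biprod.inl : T.obj₁ ⟶ T.obj₁ ⊞ T'.obj₁))
      (T'.mor₃ ≫ (shiftFunctor D (1 : ℤ)).map (biprod.inr : T'.obj₁ ⟶ T.obj₁ ⊞ T'.obj₁)) ≫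
        (shiftFunctor D (1 : ℤ)).map (biprod.snd : T.obj₁ ⊞ T'.obj₁ ⟶ T'.obj₁) =
      biprod.snd ≫ T'.mor₃ := by
  apply biprod.hom_ext'
  · rw [biprod.inl_desc_assoc, Category.assoc, ← Functor.map_comp, biprod.inl_snd,
      Functor.map_zero, comp_zero, biprod.inl_snd_assoc, zero_comp]
  · rw [biprod.inr_desc_assoc, Category.assoc, ← Functor.map_comp, biprod.inr_snd,
      CategoryTheory.Functor.map_id, Category.comp_id, biprod.inr_snd_assoc]

/-- inclusion of the first summand -/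
noncomputable def bInl (T T' : Triangle D) : T ⟶ bT T T' where
  hom₁ := biprod.inl
  hom₂ := biprod.inl
  hom₃ := biprod.inl
  comm₁ := (biprod.inl_map _ _).symm
  comm₂ := (biprod.inl_map _ _).symm
  comm₃ := (biprod.inl_desc _ _).symm

noncomputable def bInr (T T' : Triangle D) : T' ⟶ bT T T' where
  hom₁ := biprod.inr
  hom₂ := biprod.inr
  hom₃ := biprod.inr
  comm₁ := (biprod.inr_map _ _).symm
  comm₂ := (biprod.inr_map _ _).symm
  comm₃ := (biprod.inr_desc _ _).symm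

noncomputable def bFst (T T' : Triangle D) : bT T T' ⟶ T where
  hom₁ := biprod.fst
  hom₂ := biprod.fst
  hom₃ := biprod.fst
  comm₁ := biprod.map_fst _ _
  comm₂ := biprod.map_fst _ _
  comm₃ := bT_mor₃_fst T T'

noncomputable def bSnd (T T' : Triangle D) : bT T T' ⟶ T' where
  hom₁ := biprod.snd
  hom₂ := biprod.snd
  hom₃ := biprod.snd
  comm₁ := biprod.map_snd _ _
  comm₂ := biprod.map_snd _ _
  comm₃ := bT_mor₃_snd T T'

theorem CE_mk' {X Y Z : D} (f : X ⟶ Y) (g : Y ⟶ Z) (h : Z ⟶ (shiftFunctor D (1 : ℤ)).obj X)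
    (z12 : f ≫ g = 0) (z31 : h ≫ (shiftFunctor D (1 : ℤ)).map f = 0)
    (e1 : ∀ {A : D} (a : A ⟶ (shiftFunctor D (1 : ℤ)).obj X),
      a ≫ (shiftFunctor D (1 : ℤ)).map f = 0 → ∃ b : A ⟶ Z, a = b ≫ h)
    (e2 : ∀ {A : D} (a : A ⟶ Y), a ≫ g = 0 → ∃ b : A ⟶ X, a = b ≫ f)
    (e3 : ∀ {A : D} (a : A ⟶ Z), a ≫ h = 0 → ∃ b : A ⟶ Y, a = b ≫ g) :
    CE (Triangle.mk f g h) := ⟨z12, z31, e1, e2, e3⟩

theorem CE_biprod (T T' : Triangle D) (hT : CE T) (hT' : CE T') : CE (bT T T') := by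
  apply CE_mk'
  · apply biprod.hom_ext
    · rw [Category.assoc, biprod.map_fst, ← Category.assoc, biprod.map_fst, Category.assoc,
        hT.zero₁₂, comp_zero, zero_comp]
    · rw [Category.assoc, biprod.map_snd, ← Category.assoc, biprod.map_snd, Category.assoc,
        hT'.zero₁₂, comp_zero, zero_comp]
  · apply biprod.hom_ext'
    · rw [biprod.inl_desc_assoc, Category.assoc, ← Functor.map_comp, biprod.inl_map,
        Functor.map_comp, ← Category.assoc, hT.zero₃₁, zero_comp, comp_zero]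
    · rw [biprod.inr_desc_assoc, Category.assoc, ← Functor.map_comp, biprod.inr_map,
        Functor.map_comp, ← Category.assoc, hT'.zero₃₁, zero_comp, comp_zero]
  · intro A a ha
    obtain ⟨b, hb⟩ := hT.ex₁ (a ≫ (shiftFunctor D (1 : ℤ)).map biprod.fst) (by
      rw [Category.assoc, ← Functor.map_comp, ← biprod.map_fst, Functor.map_comp,
        ← Category.assoc, ha, zero_comp])
    obtain ⟨b', hb'⟩ := hT'.ex₁ (a ≫ (shiftFunctor D (1 : ℤ)).map biprod.snd) (by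
      rw [Category.assoc, ← Functor.map_comp, ← biprod.map_snd, Functor.map_comp,
        ← Category.assoc, ha, zero_comp])
    refine ⟨biprod.lift b b', ?_⟩
    rw [biprod.lift_desc, ← Category.assoc, ← hb, ← Category.assoc, ← hb', Category.assoc,
      Category.assoc, ← Functor.map_comp, ← Functor.map_comp, ← Preadditive.comp_add,
      ← Functor.map_add, biprod.total, CategoryTheory.Functor.map_id, Category.comp_id]
  · intro A a ha
    obtain ⟨b, hb⟩ := hT.ex₂ (a ≫ biprod.fst) (by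
      rw [Category.assoc, ← biprod.map_fst, ← Category.assoc, ha, zero_comp])
    obtain ⟨b', hb'⟩ := hT'.ex₂ (a ≫ biprod.snd) (by
      rw [Category.assoc, ← biprod.map_snd, ← Category.assoc, ha, zero_comp])
    refine ⟨biprod.lift b b', ?_⟩
    apply biprod.hom_ext
    · rw [Category.assoc, biprod.map_fst, biprod.lift_fst_assoc, hb]
    · rw [Category.assoc, biprod.map_snd, biprod.lift_snd_assoc, hb']
  · intro A a ha
    obtain ⟨b, hb⟩ := hT.ex₃ (a ≫ biprod.fst) (by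
      rw [Category.assoc, ← bT_mor₃_fst, ← Category.assoc, ha, zero_comp])
    obtain ⟨b', hb'⟩ := hT'.ex₃ (a ≫ biprod.snd) (by
      rw [Category.assoc, ← bT_mor₃_snd, ← Category.assoc, ha, zero_comp])
    refine ⟨biprod.lift b b', ?_⟩
    apply biprod.hom_ext
    · rw [Category.assoc, biprod.map_fst, biprod.lift_fst_assoc, hb]
    · rw [Category.assoc, biprod.map_snd, biprod.lift_snd_assoc, hb']

theorem bT_dist (T T' : Triangle D) (hT : T ∈ distinguishedTriangles)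
    (hT' : T' ∈ distinguishedTriangles) : bT T T' ∈ distinguishedTriangles := by
  have hCE : CE (bT T T') := CE_biprod T T' (CE_of_dist T hT) (CE_of_dist T' hT')
  obtain ⟨Q, g'', h'', hD⟩ := distinguished_cocone_triangle (biprod.map T.mor₁ T'.mor₁)
  obtain ⟨c, hc₂, hc₃⟩ : ∃ c : T.obj₃ ⟶ Q, T.mor₂ ≫ c = biprod.inl ≫ g'' ∧
      T.mor₃ ≫ (shiftFunctor D (1 : ℤ)).map biprod.inl = c ≫ h'' :=
    complete_distinguished_triangle_morphism T (Triangle.mk (biprod.map T.mor₁ T'.mor₁) g'' h'')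
      hT hD biprod.inl biprod.inl (biprod.inl_map _ _).symm
  obtain ⟨c', hc'₂, hc'₃⟩ : ∃ c' : T'.obj₃ ⟶ Q, T'.mor₂ ≫ c' = biprod.inr ≫ g'' ∧
      T'.mor₃ ≫ (shiftFunctor D (1 : ℤ)).map biprod.inr = c' ≫ h'' :=
    complete_distinguished_triangle_morphism T' (Triangle.mk (biprod.map T.mor₁ T'.mor₁) g'' h'')
      hT' hD biprod.inr biprod.inr (biprod.inr_map _ _).symm
  let δ : T.obj₃ ⊞ T'.obj₃ ⟶ Q := biprod.desc c c'
  have hδ₂ : biprod.map T.mor₂ T'.mor₂ ≫ δ = g'' := by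
    apply biprod.hom_ext'
    · rw [biprod.inl_map_assoc, biprod.inl_desc, hc₂]
    · rw [biprod.inr_map_assoc, biprod.inr_desc, hc'₂]
  have hδ₃ : δ ≫ h'' = (bT T T').mor₃ := by
    show biprod.desc c c' ≫ h'' = biprod.desc _ _
    apply biprod.hom_ext'
    · rw [biprod.inl_desc_assoc, biprod.inl_desc, hc₃]
    · rw [biprod.inr_desc_assoc, biprod.inr_desc, hc'₃]
  have hiso : IsIso δ := isIso_of_CE (biprod.map T.mor₁ T'.mor₁) (biprod.map T.mor₂ T'.mor₂)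
    (bT T T').mor₃ g'' h'' hCE (CE_of_dist _ hD) δ hδ₂ hδ₃
  refine isomorphic_distinguished _ hD _ ?_
  refine Triangle.isoMk _ _ (Iso.refl _) (Iso.refl _) (@asIso _ _ _ _ δ hiso) ?_ ?_ ?_
  · show biprod.map T.mor₁ T'.mor₁ ≫ 𝟙 _ = 𝟙 _ ≫ biprod.map T.mor₁ T'.mor₁
    rw [Category.comp_id, Category.id_comp]
  · show biprod.map T.mor₂ T'.mor₂ ≫ δ = 𝟙 _ ≫ g''
    rw [Category.id_comp, hδ₂]
  · show (bT T T').mor₃ ≫ (shiftFunctor D (1 : ℤ)).map (𝟙 _) = δ ≫ h''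
    rw [CategoryTheory.Functor.map_id, Category.comp_id, hδ₃]

end aux

open CategoryTheory.Pretriangulated in
/-- Let T = (X, Y, Z, f, g, h) and T' = (X', Y', Z', f', g', h') be triangles in a pretriangulated
category. The direct sum triangle (X ⊞ X', Y ⊞ Y', Z ⊞ Z', f ⊕ f', g ⊕ g', h ⊕ h') (whose third map
Z ⊞ Z' ⟶ (X ⊞ X')⟦1⟧ has components h ≫ inl⟦1⟧ and h' ≫ inr⟦1⟧) is distinguished if and only if T
and T' are both distinguished. -/
theorem result {D : Type u} [Category.{v} D] [Preadditive D] [HasZeroObject D] [HasShift D ℤ]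
    [∀ n : ℤ, (shiftFunctor D n).Additive] [Pretriangulated D]
    (T T' : Triangle D) :
    Triangle.mk (biprod.map T.mor₁ T'.mor₁) (biprod.map T.mor₂ T'.mor₂)
        (biprod.desc (T.mor₃ ≫ (shiftFunctor D (1 : ℤ)).map biprod.inl) (T'.mor₃ ≫ (shiftFunctor D (1 : ℤ)).map biprod.inr)) ∈ distinguishedTriangles ↔
      (T ∈ distinguishedTriangles ∧ T' ∈ distinguishedTriangles) := by
  show bT T T' ∈ distinguishedTriangles ↔ _
  constructor
  · intro h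
    exact ⟨dist_of_retract T (bT T T') (bInl T T') (bFst T T') biprod.inl_fst biprod.inl_fst
        biprod.inl_fst h,
      dist_of_retract T' (bT T T') (bInr T T') (bSnd T T') biprod.inr_snd biprod.inr_snd
        biprod.inr_snd h⟩
  · rintro ⟨h, h'⟩
    exact bT_dist T T' h h'

end Groth.Agent.S6581
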