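import Groth.Statements.S6583
import Mathlib
-- import your own Groth.Agent.* helpers here

set_option autoImplicit false
universe v u v' u'
open CategoryTheory CategoryTheory.Limits
open CohDer

namespace Groth.Agent.S6583

open CategoryTheory.Pretriangulated ZeroObject in
/-- General version, for a relation `r` on the integers. -/
theorem general {D : Type u} [Category.{v} D] [Preadditive D] [HasZeroObject D] [HasShift D ℤ]
    [∀ n : ℤ, (shiftFunctor D n).Additive] [Pretriangulated D]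
    {A : Type u'} [Category.{v'} A] [Abelian A] (H : D ⥤ A) [H.IsHomological]
    (r : ℤ → ℤ → Prop)
    (hshift : ∀ m N : ℤ, ∃ N' : ℤ, ∀ n, r n N' → r (m + n) N)
    (hmin : ∀ N₁ N₃ : ℤ, ∃ N : ℤ, ∀ n, r n N → r n N₁ ∧ r n N₃) :
    (ObjectProperty.IsTriangulated (fun X : D => ∃ N : ℤ, ∀ n : ℤ, r n N →
      IsZero (H.obj ((shiftFunctor D n).obj X)))) ∧
    (ObjectProperty.IsClosedUnderIsomorphisms (fun X : D => ∃ N : ℤ, ∀ n : ℤ, r n N →
      IsZero (H.obj ((shiftFunctor D n).obj X)))) ∧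
    (∀ X Y : D, (∃ N : ℤ, ∀ n : ℤ, r n N → IsZero (H.obj ((shiftFunctor D n).obj (X ⊞ Y)))) →
      (∃ N : ℤ, ∀ n : ℤ, r n N → IsZero (H.obj ((shiftFunctor D n).obj X))) ∧
      (∃ N : ℤ, ∀ n : ℤ, r n N → IsZero (H.obj ((shiftFunctor D n).obj Y)))) := by
  have hiso : ObjectProperty.IsClosedUnderIsomorphisms (fun X : D => ∃ N : ℤ, ∀ n : ℤ, r n N →
      IsZero (H.obj ((shiftFunctor D n).obj X))) :=
    ⟨fun e ⟨N, hN⟩ => ⟨N, fun n hn => (hN n hn).of_iso ((shiftFunctor D n ⋙ H).mapIso e.symm)⟩⟩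
  refine ⟨?_, hiso, ?_⟩
  · exact
      { exists_zero := ⟨0, isZero_zero D, 0,
          fun n _ => (shiftFunctor D n ⋙ H).map_isZero (isZero_zero D)⟩
        isStableUnderShiftBy := fun a =>
          { le_shift := fun X ⟨N, hN⟩ => by
              obtain ⟨N', hN'⟩ := hshift a N
              exact ⟨N', fun b hb => (hN (a + b) (hN' b hb)).of_iso
                (H.mapIso ((shiftFunctorAdd D a b).app X).symm)⟩ }
        ext₂' := fun T hT ⟨N₁, h₁⟩ ⟨N₃, h₃⟩ => by
          obtain ⟨N, hN⟩ := hmin N₁ N₃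
          refine ObjectProperty.le_isoClosure _ _ ⟨N, fun n hn => ?_⟩
          exact (H.map_distinguished_exact _
            (Triangle.shift_distinguished T hT n)).isZero_of_both_zeros
              ((h₁ n (hN n hn).1).eq_of_src _ _) ((h₃ n (hN n hn).2).eq_of_tgt _ _) }
  · rintro X Y ⟨N, hN⟩
    constructor
    · refine ⟨N, fun n hn => ?_⟩
      rw [IsZero.iff_id_eq_zero]
      have : 𝟙 (H.obj ((shiftFunctor D n).obj X)) =
          (shiftFunctor D n ⋙ H).map (biprod.inl : X ⟶ X ⊞ Y) ≫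
            (shiftFunctor D n ⋙ H).map biprod.fst := by
        rw [← Functor.map_comp, biprod.inl_fst, CategoryTheory.Functor.map_id]; rfl
      rw [this, (hN n hn).eq_of_tgt ((shiftFunctor D n ⋙ H).map (biprod.inl : X ⟶ X ⊞ Y)) 0,
        zero_comp]
    · refine ⟨N, fun n hn => ?_⟩
      rw [IsZero.iff_id_eq_zero]
      have : 𝟙 (H.obj ((shiftFunctor D n).obj Y)) =
          (shiftFunctor D n ⋙ H).map (biprod.inr : Y ⟶ X ⊞ Y) ≫
            (shiftFunctor D n ⋙ H).map biprod.snd := by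
        rw [← Functor.map_comp, biprod.inr_snd, CategoryTheory.Functor.map_id]; rfl
      rw [this, (hN n hn).eq_of_tgt ((shiftFunctor D n ⋙ H).map (biprod.inr : Y ⟶ X ⊞ Y)) 0,
        zero_comp]

open CategoryTheory.Pretriangulated in
/-- Let H : D ⥤ A be a homological functor from a pretriangulated category to an abelian category. The
full subcategory of D on the objects X with H(X⟦n⟧) = 0 for all n ≪ 0 is a strictly full
pretriangulated subcategory (zero object, stable under shifts and isomorphisms, closed under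
extensions) and is saturated: if X ⊞ Y belongs to it then so do X and Y. -/
theorem result {D : Type u} [Category.{v} D] [Preadditive D] [HasZeroObject D] [HasShift D ℤ]
    [∀ n : ℤ, (shiftFunctor D n).Additive] [Pretriangulated D]
    {A : Type u'} [Category.{v'} A] [Abelian A] (H : D ⥤ A) [H.IsHomological] :
    (ObjectProperty.IsTriangulated (fun X : D => ∃ N : ℤ, ∀ n : ℤ, n ≤ N → IsZero (H.obj ((shiftFunctor D n).obj X)))) ∧
    (ObjectProperty.IsClosedUnderIsomorphisms (fun X : D => ∃ N : ℤ, ∀ n : ℤ, n ≤ N → IsZero (H.obj ((shiftFunctor D n).obj X)))) ∧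
    (∀ X Y : D, (∃ N : ℤ, ∀ n : ℤ, n ≤ N → IsZero (H.obj ((shiftFunctor D n).obj (X ⊞ Y)))) →
      (∃ N : ℤ, ∀ n : ℤ, n ≤ N → IsZero (H.obj ((shiftFunctor D n).obj X))) ∧
      (∃ N : ℤ, ∀ n : ℤ, n ≤ N → IsZero (H.obj ((shiftFunctor D n).obj Y)))) := by
  exact general H (fun n N => n ≤ N) (fun m N => ⟨N - m, fun n hn => by omega⟩)
    (fun N₁ N₃ => ⟨min N₁ N₃, fun n hn => by omega⟩)

end Groth.Agent.S6583
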