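import Groth.Statements.S6585
import Mathlib
-- import your own Groth.Agent.* helpers here

set_option autoImplicit false
universe v u
open CategoryTheory CategoryTheory.Limits
open CohDer

namespace Groth.Agent.S6585

open CategoryTheory.Pretriangulated in
/-- Let D be a triangulated category and E, K objects of D. Then Hom(E, K⟦i⟧) = 0 for all integers i if
and only if Hom(E', K) = 0 for every E' in ⟨E⟩, the smallest strictly full saturated triangulated
subcategory of D containing E (the objects obtained from E by shifts, finite direct sums, direct
summands and extensions). -/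
theorem result {D : Type u} [Category.{v} D] [Preadditive D] [HasZeroObject D] [HasShift D ℤ]
    [∀ n : ℤ, (shiftFunctor D n).Additive] [Pretriangulated D] [IsTriangulated D]
    (E K : D) :
    (∀ (i : ℤ) (f : E ⟶ (shiftFunctor D i).obj K), f = 0) ↔
      ∀ (E' : D), (ObjectProperty.singleton E).triangEnvelope E' → ∀ f : E' ⟶ K, f = 0 := by
  let PK : ObjectProperty D := (ObjectProperty.singleton K).shiftClosure ℤ
  let Q : ObjectProperty D := PK.leftOrthogonal
  have : Q.IsStableUnderRetracts := ⟨by
    intro X Y r hY Z f hZ
    have : f = r.i ≫ (r.r ≫ f) := by simp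
    rw [this, hY (r.r ≫ f) hZ, comp_zero]⟩
  constructor
  · intro h
    have hE : ObjectProperty.singleton E ≤ Q := by
      rw [ObjectProperty.singleton_le_iff]
      intro Z f hZ
      obtain ⟨Y, a, e, hY⟩ := hZ
      rw [ObjectProperty.singleton_iff] at hY
      subst hY
      rw [← cancel_mono e.hom, zero_comp]
      exact h a _
    have hle : (ObjectProperty.singleton E).triangEnvelope ≤ Q :=
      (ObjectProperty.triangEnvelope_le_iff _).mpr hE
    intro E' hE' f
    exact hle E' hE' f (ObjectProperty.le_shiftClosure _ K (by simp))
  · intro h i f
    have h1 : (ObjectProperty.singleton E).triangEnvelope ((shiftFunctor D (-i)).obj E) :=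
      (ObjectProperty.singleton E).triangEnvelope.le_shift (-i) E
        ((ObjectProperty.singleton E).le_triangEnvelope E (by simp))
    have h2 := h _ h1 ((shiftFunctor D (-i)).map f ≫ (shiftFunctorCompIsoId D i (-i) (by simp)).hom.app K)
    have h3 : (shiftFunctor D (-i)).map f = 0 := by
      rw [← cancel_mono ((shiftFunctorCompIsoId D i (-i) (by simp)).hom.app K), zero_comp]
      exact h2
    exact (shiftFunctor D (-i)).map_injective (by rw [h3, Functor.map_zero])

end Groth.Agent.S6585
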