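import Groth.Statements.S6589
import Mathlib
import Groth.Agent.S6615
import Groth.Agent.S14388
import Groth.Agent.S14100
-- import your own Groth.Agent.* helpers here

set_option autoImplicit false
universe w v u
open CategoryTheory CategoryTheory.Limits Opposite
open CohDer

namespace Groth.Agent.S6589

open DerivedCategory Pretriangulated

section gen
variable {D : Type u} [Category.{v} D]

/-- all terms zero ⇒ essentially constant -/
lemma essConst_of_isZero (X : ARSys.PS D) (hX : ∀ n : ℕ, IsZero (X.obj (op n))) :
    ∃ (L : D) (c : (Functor.const ℕᵒᵖ).obj L ⟶ X), DerCA.IsEssConstant X L c := by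
  refine ⟨X.obj (op 0), { app := fun n => (hX 0).to_ _, naturality := fun _ _ _ => (hX 0).eq_of_src _ _ }, 0, 𝟙 _, (hX 0).eq_of_src _ _, fun j => ⟨j, Nat.zero_le j, le_rfl, (hX j).eq_of_src _ _⟩⟩

/-- transport along a natural isomorphism -/
lemma essConst_of_iso {X X' : ARSys.PS D} (e : X ≅ X') {B : D} {c : (Functor.const ℕᵒᵖ).obj B ⟶ X}
    (h : DerCA.IsEssConstant X B c) : DerCA.IsEssConstant X' B (c ≫ e.hom) := by
  obtain ⟨i, s, hs, hk⟩ := h
  refine ⟨i, e.inv.app (op i) ≫ s, ?_, fun j => ?_⟩
  · simp only [NatTrans.comp_app, Category.assoc, Iso.hom_inv_id_app_assoc]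
    exact hs
  · obtain ⟨k, hi, hj, hkk⟩ := hk j
    refine ⟨k, hi, hj, ?_⟩
    have h1 : ARSys.tr X' hj = e.inv.app (op k) ≫ ARSys.tr X hj ≫ e.hom.app (op j) := by
      have := e.hom.naturality (homOfLE hj).op
      show X'.map _ = _ ≫ X.map _ ≫ _
      rw [this, Iso.inv_hom_id_app_assoc]
    have h2 : ARSys.tr X' hi ≫ e.inv.app (op i) = e.inv.app (op k) ≫ ARSys.tr X hi :=
      e.inv.naturality (homOfLE hi).op
    rw [h1, hkk]
    simp only [NatTrans.comp_app, Category.assoc]
    rw [← Category.assoc (ARSys.tr X' hi), h2]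
    simp only [Category.assoc]

end gen

section der
variable {A : Type u} [Category.{v} A] [Abelian A] [HasDerivedCategory.{w} A]

open Groth.Agent.S14388 in
/-- lifting maps on `H^b` between objects of the shifted heart -/
lemma exists_lift_heart (b : ℤ) {X Y : DerivedCategory A} [X.IsGE b] [X.IsLE b] [Y.IsGE b] [Y.IsLE b]
    (φ : (homologyFunctor A b).obj X ⟶ (homologyFunctor A b).obj Y) :
    ∃ f : X ⟶ Y, (homologyFunctor A b).map f = φ := by
  obtain ⟨M, ⟨eX⟩⟩ := exists_iso_singleFunctor_obj_of_isGE_of_isLE X b
  obtain ⟨N, ⟨eY⟩⟩ := exists_iso_singleFunctor_obj_of_isGE_of_isLE Y b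
  let ι := singleFunctorCompHomologyFunctorIso A b
  -- ψ : M ⟶ N
  let ψ : M ⟶ N := (ι.app M).inv ≫ (homologyFunctor A b).map eX.inv ≫ φ ≫
    (homologyFunctor A b).map eY.hom ≫ (ι.app N).hom
  refine ⟨eX.hom ≫ (singleFunctor A b).map ψ ≫ eY.inv, ?_⟩
  have hnat : (homologyFunctor A b).map ((singleFunctor A b).map ψ) =
      (ι.app M).hom ≫ ψ ≫ (ι.app N).inv := by
    have := ι.hom.naturality ψ
    dsimp at this
    rw [← cancel_mono (ι.hom.app N), this]
    simp
  rw [Functor.map_comp, Functor.map_comp, hnat]
  simp only [ψ, Category.assoc, Iso.hom_inv_id_assoc, Iso.hom_inv_id, Category.comp_id]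
  rw [← Functor.map_comp_assoc, eX.hom_inv_id, CategoryTheory.Functor.map_id, Category.id_comp,
    ← Functor.map_comp, eY.hom_inv_id, CategoryTheory.Functor.map_id, Category.comp_id]

lemma ext_heart (b : ℤ) {X Y : DerivedCategory A} [X.IsGE b] [X.IsLE b] [Y.IsGE b] [Y.IsLE b]
    (f g : X ⟶ Y) (h : (homologyFunctor A b).map f = (homologyFunctor A b).map g) : f = g := by
  rw [← sub_eq_zero]
  apply Groth.Agent.S14100.eq_zero_of_amp_zero b
  rw [Functor.map_sub, h, sub_self]

/-- a system in the shifted heart with essentially constant `H^b` is essentially constant -/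
lemma essConst_heart (b : ℤ) (Z : ARSys.PS (DerivedCategory A))
    (hGE : ∀ n : ℕ, (Z.obj (op n)).IsGE b) (hLE : ∀ n : ℕ, (Z.obj (op n)).IsLE b)
    (B : A) (c : (Functor.const ℕᵒᵖ).obj B ⟶ Z ⋙ homologyFunctor A b)
    (h : DerCA.IsEssConstant (Z ⋙ homologyFunctor A b) B c) :
    ∃ (L : DerivedCategory A) (c' : (Functor.const ℕᵒᵖ).obj L ⟶ Z), DerCA.IsEssConstant Z L c' := by
  obtain ⟨i, s, hs, hk⟩ := h
  let L : DerivedCategory A := (singleFunctor A b).obj B
  let e₀ : (homologyFunctor A b).obj L ≅ B := (singleFunctorCompHomologyFunctorIso A b).app B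
  have hGE' := hGE
  have hLE' := hLE
  have lift : ∀ n : ℕ, ∃ f : L ⟶ Z.obj (op n), (homologyFunctor A b).map f = e₀.hom ≫ c.app (op n) := by
    intro n
    have := hGE n
    have := hLE n
    exact exists_lift_heart b _
  choose c' hc' using lift
  have := hGE i
  have := hLE i
  obtain ⟨s', hs'⟩ := exists_lift_heart (X := Z.obj (op i)) (Y := L) b (s ≫ e₀.inv)
  have hnat : ∀ (n m : ℕ) (hnm : n ≤ m), c' m ≫ ARSys.tr Z hnm = c' n := by
    intro n m hnm
    have := hGE n
    have := hLE n
    apply ext_heart b
    rw [Functor.map_comp, hc', hc', Category.assoc]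
    congr 1
    have := c.naturality (homOfLE hnm).op
    simp only [Functor.const_obj_obj, Functor.const_obj_map, Category.id_comp] at this
    exact this.symm
  refine ⟨L, { app := fun n => c' n.unop, naturality := ?_ }, i, s', ?_, fun j => ?_⟩
  · intro n m u
    simp only [Functor.const_obj_obj, Functor.const_obj_map, Category.id_comp]
    have hle : m.unop ≤ n.unop := leOfHom u.unop
    have : u = (homOfLE hle).op := Subsingleton.elim _ _
    rw [this]
    exact (hnat _ _ hle).symm
  · show c' i ≫ s' = 𝟙 L
    apply ext_heart b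
    rw [Functor.map_comp, CategoryTheory.Functor.map_id]
    rw [hc', hs', Category.assoc]
    rw [← Category.assoc (c.app (op i)), hs]
    simp
  · obtain ⟨k, hi, hj, hkk⟩ := hk j
    refine ⟨k, hi, hj, ?_⟩
    have := hGE j
    have := hLE j
    have := hGE k
    have := hLE k
    apply ext_heart b
    rw [Functor.map_comp, Functor.map_comp]
    show _ = _ ≫ _ ≫ (homologyFunctor A b).map (c' j)
    rw [hc', hs']
    have h1 : (homologyFunctor A b).map (ARSys.tr Z hj) = ARSys.tr (Z ⋙ homologyFunctor A b) hj := rfl
    have h2 : (homologyFunctor A b).map (ARSys.tr Z hi) = ARSys.tr (Z ⋙ homologyFunctor A b) hi := rfl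
    rw [h1, h2, hkk]
    simp only [Category.assoc, Iso.inv_hom_id_assoc]

lemma isZero_of_amp {X : DerivedCategory A} (a b : ℤ) (hba : b < a)
    (hX : ∀ i : ℤ, i < a ∨ b < i → IsZero ((homologyFunctor A i).obj X)) : IsZero X := by
  have h1 : X.IsLE b := (isLE_iff _ _).2 (fun i hi => hX i (Or.inr hi))
  have h2 : X.IsGE (b + 1) := (isGE_iff _ _).2 (fun i hi => hX i (Or.inl (by omega)))
  exact DerivedCategory.TStructure.t.isZero X b (b + 1)

open Groth.Agent.S14388 in
theorem main (N : ℕ) : ∀ (X : ARSys.PS (DerivedCategory A)) (a b : ℤ), b < a + N →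
    (∀ (n : ℕ) (i : ℤ), i < a ∨ b < i → IsZero ((homologyFunctor A i).obj (X.obj (op n)))) →
    (∀ i : ℤ, ∃ (B : A) (c : (Functor.const ℕᵒᵖ).obj B ⟶ X ⋙ homologyFunctor A i),
      DerCA.IsEssConstant (X ⋙ homologyFunctor A i) B c) →
    ∃ (L : DerivedCategory A) (c : (Functor.const ℕᵒᵖ).obj L ⟶ X), DerCA.IsEssConstant X L c := by
  induction N with
  | zero =>
    intro X a b hab hX hH
    exact essConst_of_isZero X (fun n => isZero_of_amp a b (by simpa using hab) (hX n))
  | succ N ih =>
    intro X a b hab hX hH
    by_cases hba : b < a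
    · exact essConst_of_isZero X (fun n => isZero_of_amp a b hba (hX n))
    · push_neg at hba
      have hXLE : ∀ n : ℕᵒᵖ, (X.obj n).IsLE b := fun n =>
        (isLE_iff _ _).2 (fun i hi => hX n.unop i (Or.inr hi))
      let X' : ARSys.PS (DerivedCategory A) := X ⋙ tt.truncLT b
      let Z : ARSys.PS (DerivedCategory A) := X ⋙ tt.truncGE b
      let f : X' ⟶ X :=
        { app := fun n => (tt.truncLTι b).app (X.obj n)
          naturality := fun _ _ u => (tt.truncLTι b).naturality (X.map u) }
      let g : X ⟶ Z :=
        { app := fun n => (tt.truncGEπ b).app (X.obj n)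
          naturality := fun _ _ u => (tt.truncGEπ b).naturality (X.map u) }
      let h : Z ⟶ X' ⋙ shiftFunctor (DerivedCategory A) (1 : ℤ) :=
        { app := fun n => (tt.truncGEδLT b).app (X.obj n)
          naturality := fun _ _ u => (tt.truncGEδLT b).naturality (X.map u) }
      have hT : ∀ n : ℕ, Triangle.mk (f.app (op n)) (g.app (op n)) (h.app (op n)) ∈
          distinguishedTriangles := fun n => tt.triangleLTGE_distinguished b (X.obj (op n))
      have hX' : ∃ (L : DerivedCategory A) (c : (Functor.const ℕᵒᵖ).obj L ⟶ X'),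
          DerCA.IsEssConstant X' L c := by
        apply ih X' a (b - 1) (by push_cast at hab; omega)
        · intro n i hi
          rcases hi with hi | hi
          · have := isIso_homology_truncLTι b i (by omega) (X.obj (op n))
            exact (hX n i (Or.inl hi)).of_iso
              (asIso ((homologyFunctor A i).map ((tt.truncLTι b).app (X.obj (op n)))))
          · exact isZero_of_isLE ((tt.truncLT b).obj (X.obj (op n))) (b - 1) i hi
        · intro i
          by_cases hi : i < b
          · obtain ⟨B, c, hc⟩ := hH i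
            have hiso : ∀ n : ℕᵒᵖ, IsIso ((homologyFunctor A i).map ((tt.truncLTι b).app (X.obj n))) :=
              fun n => isIso_homology_truncLTι b i hi (X.obj n)
            let e : X' ⋙ homologyFunctor A i ≅ X ⋙ homologyFunctor A i :=
              NatIso.ofComponents
                (fun n => asIso ((homologyFunctor A i).map ((tt.truncLTι b).app (X.obj n))))
                (fun {n m} u => by
                  dsimp [X']
                  rw [← Functor.map_comp, ← Functor.map_comp]
                  congr 1
                  exact (tt.truncLTι b).naturality (X.map u))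
            exact ⟨B, c ≫ e.inv, essConst_of_iso e.symm hc⟩
          · exact essConst_of_isZero _ (fun n =>
              isZero_of_isLE ((tt.truncLT b).obj (X.obj (op n))) (b - 1) i (by omega))
      have hZ : ∃ (L : DerivedCategory A) (c : (Functor.const ℕᵒᵖ).obj L ⟶ Z),
          DerCA.IsEssConstant Z L c := by
        obtain ⟨B, c, hc⟩ := hH b
        have hiso : ∀ n : ℕᵒᵖ, IsIso ((homologyFunctor A b).map ((tt.truncGEπ b).app (X.obj n))) :=
          fun n => isIso_homology_truncGEπ b b le_rfl (X.obj n)
        let e : X ⋙ homologyFunctor A b ≅ Z ⋙ homologyFunctor A b :=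
          NatIso.ofComponents
            (fun n => asIso ((homologyFunctor A b).map ((tt.truncGEπ b).app (X.obj n))))
            (fun {n m} u => by
              dsimp [Z]
              rw [← Functor.map_comp, ← Functor.map_comp]
              congr 1
              exact (tt.truncGEπ b).naturality (X.map u))
        refine essConst_heart b Z (fun n => ?_) (fun n => ?_) B (c ≫ e.hom) (essConst_of_iso e hc)
        · show ((tt.truncGE b).obj (X.obj (op n))).IsGE b
          infer_instance
        · have := hXLE (op n)
          show ((tt.truncGE b).obj (X.obj (op n))).IsLE b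
          infer_instance
      exact Groth.Agent.S6615.result X' X Z f g h hT hX' hZ

end der

/-- Let A be an abelian category and (X_n) an ℕ-indexed inverse system of objects of D(A). Assume (1)
there are a ≤ b with Hⁱ(X_n) = 0 for all n and all i outside [a, b], and (2) for every i the inverse
system Hⁱ(X_n) of A is essentially constant. Then (X_n) is an essentially constant inverse system of
D(A). (The published statement also identifies Hⁱ of the value with the value of the system Hⁱ(X_n);
this row does not assert that identification.) -/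
theorem result {A : Type u} [Category.{v} A] [Abelian A] [HasDerivedCategory.{w} A]
    (X : ARSys.PS (DerivedCategory A)) (a b : ℤ) (hab : a ≤ b)
    (hX : ∀ (n : ℕ) (i : ℤ), i < a ∨ b < i → IsZero ((DerivedCategory.homologyFunctor A i).obj (X.obj (op n))))
    (hH : ∀ i : ℤ, ∃ (B : A) (c : (Functor.const ℕᵒᵖ).obj B ⟶ X ⋙ DerivedCategory.homologyFunctor A i),
      DerCA.IsEssConstant (X ⋙ DerivedCategory.homologyFunctor A i) B c) :
    ∃ (L : DerivedCategory A) (c : (Functor.const ℕᵒᵖ).obj L ⟶ X), DerCA.IsEssConstant X L c := by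
  exact main (b - a + 1).toNat X a b (by omega) hX hH

end Groth.Agent.S6589
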