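import Groth.Statements.S6592
import Mathlib.Tactic.Abel
import Mathlib.Order.WellFounded
import Mathlib.CategoryTheory.Triangulated.Triangulated
import Mathlib.Tactic.NthRewrite
-- import your own Groth.Agent.* helpers here

set_option autoImplicit false
universe v u
open CategoryTheory CategoryTheory.Limits
open DerLim

namespace Groth.Agent.S6592

open CategoryTheory.Pretriangulated

section Comb

variable (n : ℕ → ℕ) (hn : StrictMono n)

include hn in
theorem exists_le (m : ℕ) : ∃ j, m ≤ n j := ⟨m, hn.id_le m⟩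

/-- the least index `j` with `m ≤ n j` -/
noncomputable def jx (m : ℕ) : ℕ := Nat.find (exists_le n hn m)

theorem le_n_jx (m : ℕ) : m ≤ n (jx n hn m) := Nat.find_spec (exists_le n hn m)

theorem jx_le {m i : ℕ} (h : m ≤ n i) : jx n hn m ≤ i := Nat.find_min' (exists_le n hn m) h

theorem jx_n (i : ℕ) : jx n hn (n i) = i :=
  le_antisymm (jx_le n hn (le_refl _)) (hn.le_iff_le.mp (le_n_jx n hn (n i)))

theorem jx_succ_of_lt {m : ℕ} (h : m < n (jx n hn m)) : jx n hn (m + 1) = jx n hn m :=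
  le_antisymm (jx_le n hn h) (jx_le n hn ((Nat.le_succ m).trans (le_n_jx n hn (m + 1))))

theorem jx_succ_of_eq {m : ℕ} (h : n (jx n hn m) = m) : jx n hn (m + 1) = jx n hn m + 1 := by
  apply le_antisymm
  · apply jx_le
    have := hn (Nat.lt_succ_self (jx n hn m))
    simp only [Nat.succ_eq_add_one] at this
    omega
  · have h1 := le_n_jx n hn (m + 1)
    have : n (jx n hn m) < n (jx n hn (m + 1)) := by omega
    exact Nat.succ_le_of_lt (hn.lt_iff_lt.mp this)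

end Comb

section Tri

variable {D : Type u} [Category.{v} D] [Preadditive D] [HasZeroObject D] [HasShift D ℤ]
    [∀ n : ℤ, (shiftFunctor D n).Additive] [Pretriangulated D]

/-- an endomorphism of a distinguished triangle which is homotopic to the identity on the
two-term complex `P ⟶ Q` is an isomorphism on the cone -/
theorem isIso_of_homotopic_id {P Q L : D} (d : P ⟶ Q) (π : Q ⟶ L) (δ : L ⟶ P⟦(1 : ℤ)⟧)
    (hT : Triangle.mk d π δ ∈ distTriang D) (u₁ : P ⟶ P) (u₀ : Q ⟶ Q) (c : L ⟶ L)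
    (h₁ : π ≫ c = u₀ ≫ π) (h₂ : c ≫ δ = δ ≫ u₁⟦(1 : ℤ)⟧') (s : Q ⟶ P)
    (hs₁ : 𝟙 P - u₁ = d ≫ s) (hs₀ : 𝟙 Q - u₀ = s ≫ d) : IsIso c := by
  have hdπ : d ≫ π = 0 := comp_distTriang_mor_zero₁₂ _ hT
  have hδd : δ ≫ d⟦(1 : ℤ)⟧' = 0 := comp_distTriang_mor_zero₃₁ _ hT
  have e1 : π ≫ (𝟙 L - c) = 0 := by
    have : π ≫ (𝟙 L - c) = (𝟙 Q - u₀) ≫ π := by
      rw [Preadditive.comp_sub, Category.comp_id, h₁, Preadditive.sub_comp, Category.id_comp]
    rw [this, hs₀, Category.assoc, hdπ, comp_zero]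
  obtain ⟨t, ht⟩ : ∃ t : P⟦(1 : ℤ)⟧ ⟶ L, 𝟙 L - c = δ ≫ t := Triangle.yoneda_exact₃ _ hT _ e1
  have e2 : (𝟙 L - c) ≫ δ = 0 := by
    have : (𝟙 L - c) ≫ δ = δ ≫ (𝟙 P - u₁)⟦(1 : ℤ)⟧' := by
      rw [Preadditive.sub_comp, Category.id_comp, h₂, Functor.map_sub,
        CategoryTheory.Functor.map_id, Preadditive.comp_sub, Category.comp_id]
    rw [this, hs₁, Functor.map_comp, ← Category.assoc, hδd, zero_comp]
  have e3 : (𝟙 L - c) ≫ (𝟙 L - c) = 0 := by
    nth_rw 2 [ht]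
    rw [← Category.assoc, e2, zero_comp]
  have e4 : c ≫ c = c + c - 𝟙 L := by
    simp only [Preadditive.sub_comp, Preadditive.comp_sub, Category.id_comp, Category.comp_id]
      at e3
    have : c ≫ c = c + c - 𝟙 L + (𝟙 L - c - (c - c ≫ c)) := by abel
    rw [this, e3, add_zero]
  refine ⟨𝟙 L + 𝟙 L - c, ?_, ?_⟩
  · rw [Preadditive.comp_sub, Preadditive.comp_add, Category.comp_id, e4]
    abel
  · rw [Preadditive.sub_comp, Preadditive.add_comp, Category.id_comp, e4]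
    abel

end Tri


section Main

variable {D : Type u} [Category.{v} D] [Preadditive D]
  (F : ℕ ⥤ D) (n : ℕ → ℕ) (hn : StrictMono n)
  [HasCoproduct (fun m : ℕ => F.obj m)] [HasCoproduct (fun i : ℕ => F.obj (n i))]

theorem map_map {x y z : ℕ} (h₁ : x ≤ y) (h₂ : y ≤ z) :
    F.map (homOfLE h₁) ≫ F.map (homOfLE h₂) = F.map (homOfLE (h₁.trans h₂)) := by
  rw [← F.map_comp]
  rfl

theorem map_refl {x : ℕ} (h : x ≤ x) : F.map (homOfLE h) = 𝟙 (F.obj x) := by
  have : homOfLE h = 𝟙 x := Subsingleton.elim _ _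
  rw [this, F.map_id]

/-- the differential `1 - shift` on `∐ F.obj m` -/
noncomputable def dMap : (∐ (fun m : ℕ => F.obj m)) ⟶ ∐ (fun m : ℕ => F.obj m) :=
  𝟙 _ - shiftMap (fun m : ℕ => F.obj m) (fun m : ℕ => F.map (homOfLE (Nat.le_succ m)))

/-- the differential `1 - shift` on the subsequence -/
noncomputable def dMap' : (∐ (fun i : ℕ => F.obj (n i))) ⟶ ∐ (fun i : ℕ => F.obj (n i)) :=
  𝟙 _ - shiftMap (fun i : ℕ => F.obj (n i))
    (fun i : ℕ => F.map (homOfLE (hn.monotone (Nat.le_succ i))))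

theorem ι_dMap (m : ℕ) : Sigma.ι (fun m : ℕ => F.obj m) m ≫ dMap F =
    Sigma.ι (fun m : ℕ => F.obj m) m -
      F.map (homOfLE (Nat.le_succ m)) ≫ Sigma.ι (fun m : ℕ => F.obj m) (m + 1) := by
  rw [dMap, Preadditive.comp_sub, Category.comp_id, shiftMap, Sigma.ι_desc]

theorem ι_dMap' (i : ℕ) : Sigma.ι (fun i : ℕ => F.obj (n i)) i ≫ dMap' F n hn =
    Sigma.ι (fun i : ℕ => F.obj (n i)) i -
      F.map (homOfLE (hn.monotone (Nat.le_succ i))) ≫
        Sigma.ι (fun i : ℕ => F.obj (n i)) (i + 1) := by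
  rw [dMap', Preadditive.comp_sub, Category.comp_id, shiftMap, Sigma.ι_desc]

/-- partial sums `∑_{k<t} (F.obj m ⟶ F.obj (m+k) ⟶ ∐)` -/
noncomputable def tau : ∀ (_ m : ℕ), F.obj m ⟶ ∐ (fun m : ℕ => F.obj m)
  | 0, _ => 0
  | t + 1, m => Sigma.ι (fun m : ℕ => F.obj m) m +
      F.map (homOfLE (Nat.le_succ m)) ≫ tau t (m + 1)

theorem tau_dMap (t : ℕ) : ∀ (m N : ℕ) (h : m + t = N),
    tau F t m ≫ dMap F = Sigma.ι (fun m : ℕ => F.obj m) m -
      F.map (homOfLE (by omega : m ≤ N)) ≫ Sigma.ι (fun m : ℕ => F.obj m) N := by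
  induction t with
  | zero =>
    intro m N h
    obtain rfl : N = m := by omega
    rw [map_refl, Category.id_comp, sub_self]
    show (0 : F.obj N ⟶ _) ≫ dMap F = 0
    rw [zero_comp]
  | succ t ih =>
    intro m N h
    show (Sigma.ι (fun m : ℕ => F.obj m) m +
      F.map (homOfLE (Nat.le_succ m)) ≫ tau F t (m + 1)) ≫ dMap F = _
    rw [Preadditive.add_comp, Category.assoc, ih (m + 1) N (by omega), ι_dMap,
      Preadditive.comp_sub, ← Category.assoc, map_map]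
    abel

/-- components of the contracting homotopy -/
noncomputable def sig (m : ℕ) : F.obj m ⟶ ∐ (fun m : ℕ => F.obj m) :=
  tau F (n (jx n hn m) - m) m

noncomputable def sMap : (∐ (fun m : ℕ => F.obj m)) ⟶ ∐ (fun m : ℕ => F.obj m) :=
  Sigma.desc (sig F n hn)

noncomputable def rho (m : ℕ) : F.obj m ⟶ ∐ (fun i : ℕ => F.obj (n i)) :=
  F.map (homOfLE (le_n_jx n hn m)) ≫ Sigma.ι (fun i : ℕ => F.obj (n i)) (jx n hn m)

noncomputable def r0Map : (∐ (fun m : ℕ => F.obj m)) ⟶ ∐ (fun i : ℕ => F.obj (n i)) :=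
  Sigma.desc (rho F n hn)

noncomputable def rMap : (∐ (fun m : ℕ => F.obj m)) ⟶ ∐ (fun i : ℕ => F.obj (n i)) :=
  Sigma.desc (fun m => if n (jx n hn m) = m then rho F n hn m else 0)

noncomputable def bMap : (∐ (fun i : ℕ => F.obj (n i))) ⟶ ∐ (fun m : ℕ => F.obj m) :=
  Sigma.desc (fun i => Sigma.ι (fun m : ℕ => F.obj m) (n i))

theorem trans1 (m x y : ℕ) (hxy : x = y) (h₁ : m ≤ n x) (h₂ : m ≤ n y) :
    F.map (homOfLE h₁) ≫ Sigma.ι (fun i : ℕ => F.obj (n i)) x =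
      F.map (homOfLE h₂) ≫ Sigma.ι (fun i : ℕ => F.obj (n i)) y := by
  subst hxy
  rfl

theorem trans2 (m N : ℕ) (hN : N = m) (h : m ≤ N) :
    F.map (homOfLE h) ≫ Sigma.ι (fun m : ℕ => F.obj m) N =
      Sigma.ι (fun m : ℕ => F.obj m) m := by
  subst hN
  rw [map_refl, Category.id_comp]

theorem f_rho (m y : ℕ) (hy : jx n hn (m + 1) = y) (h : m ≤ n y) :
    F.map (homOfLE (Nat.le_succ m)) ≫ rho F n hn (m + 1) =
      F.map (homOfLE h) ≫ Sigma.ι (fun i : ℕ => F.obj (n i)) y := by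
  rw [rho, ← Category.assoc, map_map]
  exact trans1 F n m _ _ hy _ _

theorem ι_rMap_of_eq {m : ℕ} (h : n (jx n hn m) = m) :
    Sigma.ι (fun m : ℕ => F.obj m) m ≫ rMap F n hn = rho F n hn m := by
  rw [rMap, Sigma.ι_desc, if_pos h]

theorem ι_rMap_of_ne {m : ℕ} (h : n (jx n hn m) ≠ m) :
    Sigma.ι (fun m : ℕ => F.obj m) m ≫ rMap F n hn = 0 := by
  rw [rMap, Sigma.ι_desc, if_neg h]

theorem rho_n (i : ℕ) : rho F n hn (n i) = Sigma.ι (fun i : ℕ => F.obj (n i)) i := by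
  rw [rho, trans1 F n (n i) _ i (jx_n n hn i) _ (le_refl _), map_refl, Category.id_comp]

theorem bMap_r0Map : bMap F n ≫ r0Map F n hn = 𝟙 _ := by
  apply Sigma.hom_ext
  intro i
  rw [bMap, Sigma.ι_desc_assoc, r0Map, Sigma.ι_desc, Category.comp_id, rho_n]

theorem bMap_rMap : bMap F n ≫ rMap F n hn = 𝟙 _ := by
  apply Sigma.hom_ext
  intro i
  rw [bMap, Sigma.ι_desc_assoc, ι_rMap_of_eq F n hn (by rw [jx_n]), Category.comp_id, rho_n]

theorem rho_bMap (m : ℕ) : rho F n hn m ≫ bMap F n =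
    F.map (homOfLE (le_n_jx n hn m)) ≫ Sigma.ι (fun m : ℕ => F.obj m) (n (jx n hn m)) := by
  rw [rho, Category.assoc, bMap, Sigma.ι_desc]

/-- (I3) -/
theorem sMap_dMap : sMap F n hn ≫ dMap F = 𝟙 _ - r0Map F n hn ≫ bMap F n := by
  apply Sigma.hom_ext
  intro m
  rw [sMap, Sigma.ι_desc_assoc, sig,
    tau_dMap F _ m (n (jx n hn m)) (by have := le_n_jx n hn m; omega),
    Preadditive.comp_sub, Category.comp_id, r0Map, Sigma.ι_desc_assoc, rho_bMap]

/-- (I2) -/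
theorem dMap_r0Map : dMap F ≫ r0Map F n hn = rMap F n hn ≫ dMap' F n hn := by
  apply Sigma.hom_ext
  intro m
  rw [← Category.assoc, ι_dMap, Preadditive.sub_comp, Category.assoc, r0Map, Sigma.ι_desc,
    Sigma.ι_desc]
  by_cases h : n (jx n hn m) = m
  · rw [← Category.assoc, ι_rMap_of_eq F n hn h,
      f_rho F n hn m (jx n hn m + 1) (jx_succ_of_eq n hn h)
        ((le_n_jx n hn m).trans (hn.monotone (Nat.le_succ _)))]
    rw [rho, Category.assoc, ι_dMap', Preadditive.comp_sub, ← Category.assoc (F.map _) (F.map _),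
      map_map]
  · have h' : m < n (jx n hn m) := lt_of_le_of_ne (le_n_jx n hn m) (Ne.symm h)
    rw [← Category.assoc, ι_rMap_of_ne F n hn h, zero_comp,
      f_rho F n hn m (jx n hn m) (jx_succ_of_lt n hn h') (le_n_jx n hn m)]
    exact sub_self _

theorem tau_rMap (t : ℕ) : ∀ (m : ℕ), m + t ≤ n (jx n hn m) → tau F t m ≫ rMap F n hn = 0 := by
  induction t with
  | zero =>
    intro m _
    show (0 : F.obj m ⟶ _) ≫ _ = 0
    rw [zero_comp]
  | succ t ih =>
    intro m h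
    have h' : m < n (jx n hn m) := by omega
    show (Sigma.ι (fun m : ℕ => F.obj m) m +
      F.map (homOfLE (Nat.le_succ m)) ≫ tau F t (m + 1)) ≫ rMap F n hn = 0
    rw [Preadditive.add_comp, ι_rMap_of_ne F n hn (by omega), Category.assoc,
      ih (m + 1) (by rw [jx_succ_of_lt n hn h']; omega), comp_zero, add_zero]

/-- (I4) -/
theorem sMap_rMap : sMap F n hn ≫ rMap F n hn = 0 := by
  apply Sigma.hom_ext
  intro m
  rw [sMap, Sigma.ι_desc_assoc, sig, comp_zero]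
  exact tau_rMap F n hn _ m (by have := le_n_jx n hn m; omega)

/-- (I5) -/
theorem ι_dMap_sMap {m : ℕ} (h : m < n (jx n hn m)) :
    Sigma.ι (fun m : ℕ => F.obj m) m ≫ dMap F ≫ sMap F n hn =
      Sigma.ι (fun m : ℕ => F.obj m) m := by
  rw [← Category.assoc, ι_dMap, Preadditive.sub_comp, Category.assoc, sMap, Sigma.ι_desc,
    Sigma.ι_desc, sig, sig]
  have ht : n (jx n hn m) - m = (n (jx n hn (m + 1)) - (m + 1)) + 1 := by
    rw [jx_succ_of_lt n hn h]
    omega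
  rw [ht]
  show (Sigma.ι (fun m : ℕ => F.obj m) m +
      F.map (homOfLE (Nat.le_succ m)) ≫ tau F _ (m + 1)) - _ = _
  abel

/-- (I5') -/
theorem key5 : (𝟙 _ - rMap F n hn ≫ bMap F n) ≫ (𝟙 _ - dMap F ≫ sMap F n hn) = 0 := by
  apply Sigma.hom_ext
  intro m
  rw [comp_zero, ← Category.assoc]
  have h1 : Sigma.ι (fun m : ℕ => F.obj m) m ≫ (𝟙 _ - rMap F n hn ≫ bMap F n) =
      Sigma.ι (fun m : ℕ => F.obj m) m -
        (Sigma.ι (fun m : ℕ => F.obj m) m ≫ rMap F n hn) ≫ bMap F n := by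
    rw [Preadditive.comp_sub, Category.comp_id, Category.assoc]
  rw [h1]
  by_cases h : n (jx n hn m) = m
  · rw [ι_rMap_of_eq F n hn h, rho_bMap, trans2 F m _ h, sub_self, zero_comp]
  · have h' : m < n (jx n hn m) := lt_of_le_of_ne (le_n_jx n hn m) (Ne.symm h)
    rw [ι_rMap_of_ne F n hn h, zero_comp, sub_zero, Preadditive.comp_sub, Category.comp_id,
      ι_dMap_sMap F n hn h', sub_self]

/-- the chain map in degree one -/
noncomputable def aMap : (∐ (fun i : ℕ => F.obj (n i))) ⟶ ∐ (fun m : ℕ => F.obj m) :=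
  bMap F n ≫ (𝟙 _ - dMap F ≫ sMap F n hn)

theorem aMap_dMap : aMap F n hn ≫ dMap F = dMap' F n hn ≫ bMap F n := by
  have h1 : (𝟙 _ - dMap F ≫ sMap F n hn) ≫ dMap F = dMap F ≫ (𝟙 _ - sMap F n hn ≫ dMap F) := by
    simp only [Preadditive.sub_comp, Preadditive.comp_sub, Category.id_comp, Category.comp_id,
      Category.assoc]
  rw [aMap, Category.assoc, h1, sMap_dMap, sub_sub_cancel, ← Category.assoc (dMap F),
    dMap_r0Map, Category.assoc, ← Category.assoc (bMap F n), bMap_rMap, Category.id_comp]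

theorem aMap_rMap : aMap F n hn ≫ rMap F n hn = 𝟙 _ := by
  rw [aMap, Category.assoc, Preadditive.sub_comp, Category.id_comp, Category.assoc, sMap_rMap,
    comp_zero, sub_zero, bMap_rMap]

theorem one_sub_rMap_aMap : 𝟙 _ - rMap F n hn ≫ aMap F n hn = dMap F ≫ sMap F n hn := by
  have := key5 F n hn
  rw [Preadditive.comp_sub, Category.comp_id, sub_eq_zero] at this
  rw [aMap, ← Category.assoc, Preadditive.comp_sub, Category.comp_id]
  rw [Preadditive.sub_comp, Category.id_comp] at this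
  rw [sub_eq_iff_eq_add] at this ⊢
  rw [this]
  abel

end Main

/-- Let D be a triangulated category, (K_m, f_m) a system of objects of D indexed by ℕ (given as a
functor F : ℕ ⥤ D) and n₁ < n₂ < … a strictly increasing sequence. Assume ⨁ K_m and ⨁ K_{n_i} exist.
If L is a homotopy colimit of (K_m) and L' a homotopy colimit of the subsequence (K_{n_i}) (with the
composite transition maps), then there is an isomorphism L' ≅ L under which the structure map
K_{n_i} ⟶ L' corresponds to K_{n_i} ⟶ L for every i. -/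
theorem result {D : Type u} [Category.{v} D] [Preadditive D] [HasZeroObject D] [HasShift D ℤ]
    [∀ n : ℤ, (shiftFunctor D n).Additive] [Pretriangulated D] [IsTriangulated D]
    (F : ℕ ⥤ D) (n : ℕ → ℕ) (hn : StrictMono n)
    [HasCoproduct (fun m : ℕ => F.obj m)] [HasCoproduct (fun i : ℕ => F.obj (n i))]
    (L : D) (ι : ∀ m : ℕ, F.obj m ⟶ L)
    (hL : DerLim.IsHocolim (fun m : ℕ => F.obj m) (fun m : ℕ => F.map (homOfLE (Nat.le_succ m))) L ι)
    (L' : D) (ι' : ∀ i : ℕ, F.obj (n i) ⟶ L')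
    (hL' : DerLim.IsHocolim (fun i : ℕ => F.obj (n i)) (fun i : ℕ => F.map (homOfLE (hn.monotone (Nat.le_succ i)))) L' ι') :
    ∃ e : L' ≅ L, ∀ i : ℕ, ι' i ≫ e.hom = ι (n i) := by
  obtain ⟨δ, hT⟩ := hL
  obtain ⟨δ', hT'⟩ := hL'
  have hT0 : Triangle.mk (dMap F) (Sigma.desc ι) δ ∈ distTriang D := hT
  have hT0' : Triangle.mk (dMap' F n hn) (Sigma.desc ι') δ' ∈ distTriang D := hT'
  obtain ⟨c, hc1, hc2⟩ : ∃ c : L' ⟶ L, Sigma.desc ι' ≫ c = bMap F n ≫ Sigma.desc ι ∧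
      δ' ≫ (aMap F n hn)⟦(1 : ℤ)⟧' = c ≫ δ :=
    complete_distinguished_triangle_morphism _ _ hT0' hT0 (aMap F n hn) (bMap F n)
      (aMap_dMap F n hn).symm
  obtain ⟨c', hc'1, hc'2⟩ : ∃ c' : L ⟶ L', Sigma.desc ι ≫ c' = r0Map F n hn ≫ Sigma.desc ι' ∧
      δ ≫ (rMap F n hn)⟦(1 : ℤ)⟧' = c' ≫ δ' :=
    complete_distinguished_triangle_morphism _ _ hT0 hT0' (rMap F n hn) (r0Map F n hn)
      (dMap_r0Map F n hn)
  have i1 : IsIso (c ≫ c') := by
    refine isIso_of_homotopic_id (dMap' F n hn) (Sigma.desc ι') δ' hT0' (𝟙 _) (𝟙 _) (c ≫ c')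
      ?_ ?_ 0 ?_ ?_
    · rw [← Category.assoc, hc1, Category.assoc, hc'1, ← Category.assoc, bMap_r0Map]
    · rw [Category.assoc, ← hc'2, ← Category.assoc, ← hc2, Category.assoc, ← Functor.map_comp,
        aMap_rMap]
    · rw [sub_self, comp_zero]
    · rw [sub_self, zero_comp]
  have i2 : IsIso (c' ≫ c) := by
    refine isIso_of_homotopic_id (dMap F) (Sigma.desc ι) δ hT0 (rMap F n hn ≫ aMap F n hn)
      (r0Map F n hn ≫ bMap F n) (c' ≫ c) ?_ ?_ (sMap F n hn) (one_sub_rMap_aMap F n hn)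
      (sMap_dMap F n hn).symm
    · rw [← Category.assoc, hc'1, Category.assoc, hc1, ← Category.assoc]
    · rw [Category.assoc, ← hc2, ← Category.assoc, ← hc'2, Category.assoc, ← Functor.map_comp]
  have hl : (inv (c' ≫ c) ≫ c') ≫ c = 𝟙 L := by rw [Category.assoc, IsIso.inv_hom_id]
  have hr : c ≫ (c' ≫ inv (c ≫ c')) = 𝟙 L' := by rw [← Category.assoc, IsIso.hom_inv_id]
  have i3 : IsIso c := by
    refine ⟨c' ≫ inv (c ≫ c'), hr, ?_⟩
    calc (c' ≫ inv (c ≫ c')) ≫ c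
        = ((inv (c' ≫ c) ≫ c') ≫ c) ≫ (c' ≫ inv (c ≫ c')) ≫ c := by rw [hl, Category.id_comp]
      _ = (inv (c' ≫ c) ≫ c') ≫ (c ≫ (c' ≫ inv (c ≫ c'))) ≫ c := by
          simp only [Category.assoc]
      _ = 𝟙 L := by rw [hr, Category.id_comp, hl]
  refine ⟨asIso c, fun i => ?_⟩
  have := congrArg (fun x => Sigma.ι (fun i : ℕ => F.obj (n i)) i ≫ x) hc1
  simp only [Sigma.ι_desc_assoc, bMap, Sigma.ι_desc] at this
  exact this

end Groth.Agent.S6592
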