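import Groth.Statements.S6594
import Mathlib
-- import your own Groth.Agent.* helpers here

set_option autoImplicit false
universe v u
open CategoryTheory CategoryTheory.Limits
open CohDer

namespace Groth.Agent.S6594

open CategoryTheory.Pretriangulated in
/-- A monomorphism in a pretriangulated category is the inclusion of a direct summand. -/
theorem exists_iso_biprod_of_mono {D : Type u} [Category.{v} D] [Preadditive D] [HasZeroObject D]
    [HasShift D ℤ] [∀ n : ℤ, (shiftFunctor D n).Additive] [Pretriangulated D]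
    {K X : D} (k : K ⟶ X) [Mono k] :
    ∃ (Z : D) (e : X ≅ K ⊞ Z), k ≫ e.hom = biprod.inl := by
  obtain ⟨Z, g, h, hT⟩ := distinguished_cocone_triangle k
  have h0 : (Triangle.mk k g h).mor₃ = 0 :=
    Triangle.mor₃_eq_zero_of_mono₁ _ hT (inferInstanceAs (Mono k))
  obtain ⟨e, he, -⟩ := exists_iso_binaryBiproduct_of_distTriang _ hT h0
  exact ⟨Z, e, he⟩

open CategoryTheory.Pretriangulated in
/-- (1) ⇔ (3): let D be a pretriangulated category and f : X ⟶ Y a morphism. Then f has a kernel if and
only if f is isomorphic to a composite K ⊞ Z → Z → Z ⊞ Q of a projection and a coprojection for some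
objects K, Z, Q. -/
theorem result {D : Type u} [Category.{v} D] [Preadditive D] [HasZeroObject D] [HasShift D ℤ]
    [∀ n : ℤ, (shiftFunctor D n).Additive] [Pretriangulated D]
    {X Y : D} (f : X ⟶ Y) :
    HasKernel f ↔ ∃ (K Z Q : D) (e₁ : X ≅ K ⊞ Z) (e₂ : Y ≅ Z ⊞ Q),
      f = e₁.hom ≫ biprod.snd ≫ biprod.inl ≫ e₂.inv := by
  constructor
  · intro hK
    obtain ⟨Z, e₁, he₁⟩ := exists_iso_biprod_of_mono (kernel.ι f)
    -- `f = e₁.hom ≫ snd ≫ f'`
    let f' : Z ⟶ Y := biprod.inr ≫ e₁.inv ≫ f
    have hf : f = e₁.hom ≫ biprod.snd ≫ f' := by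
      rw [← cancel_epi e₁.inv]
      apply biprod.hom_ext'
      · have : biprod.inl ≫ e₁.inv = kernel.ι f := by
          rw [← he₁, Category.assoc, e₁.hom_inv_id, Category.comp_id]
        rw [← Category.assoc, this, kernel.condition]
        simp
      · simp [f']
    have hmono : Mono f' := by
      rw [Preadditive.mono_iff_cancel_zero]
      intro W a ha
      have h1 : (a ≫ biprod.inr ≫ e₁.inv) ≫ f = 0 := by
        simp only [Category.assoc]
        simpa [f'] using ha
      have h2 : kernel.lift f (a ≫ biprod.inr ≫ e₁.inv) h1 ≫ kernel.ι f = a ≫ biprod.inr ≫ e₁.inv :=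
        kernel.lift_ι _ _ _
      have h3 := congrArg (fun t => t ≫ e₁.hom ≫ biprod.snd) h2
      simp only [Category.assoc] at h3
      rw [← Category.assoc (kernel.ι f), he₁] at h3
      simpa using h3.symm
    obtain ⟨Q, e₂, he₂⟩ := exists_iso_biprod_of_mono f'
    refine ⟨kernel f, Z, Q, e₁, e₂, ?_⟩
    have : f' = biprod.inl ≫ e₂.inv := by
      rw [← he₂, Category.assoc, e₂.hom_inv_id, Category.comp_id]
    rw [← this]
    exact hf
  · rintro ⟨K, Z, Q, e₁, e₂, rfl⟩
    have : HasKernel (biprod.snd : K ⊞ Z ⟶ Z) := ⟨⟨⟨_, biprod.isKernelSndKernelFork K Z⟩⟩⟩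
    infer_instance

end Groth.Agent.S6594
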