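import Groth.Statements.S6596
import Mathlib.CategoryTheory.Triangulated.Triangulated
import Mathlib.Tactic.Ring
import Mathlib.Tactic.Linarith
import Mathlib.Algebra.Homology.HomologicalComplex
-- import your own Groth.Agent.* helpers here

set_option autoImplicit false
universe v u
open CategoryTheory CategoryTheory.Limits
open CohDer

namespace Groth.Agent.S6596

open CategoryTheory.Pretriangulated

section
variable {D : Type u} [Category.{v} D] [Preadditive D] [HasZeroObject D] [HasShift D ℤ]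
    [∀ n : ℤ, (shiftFunctor D n).Additive] [Pretriangulated D]
    (X X' : ChainComplex D ℕ) (φ : X ⟶ X') (n : ℕ)
    (Y : ℕ → D) (a : ∀ k, Y k ⟶ X.X k) (b : ∀ k, X.X (k + 1) ⟶ Y k)
    (c : ∀ k, Y k ⟶ (shiftFunctor D (1 : ℤ)).obj (Y (k + 1)))
    (qY : ℕ → D) (qa : ∀ k, qY k ⟶ X'.X k) (qb : ∀ k, X'.X (k + 1) ⟶ qY k)
    (qc : ∀ k, qY k ⟶ (shiftFunctor D (1 : ℤ)).obj (qY (k + 1)))

/-- vanishing of maps from shifted `X i` to `qY j` -/
lemma vanish (qh0 : IsIso (qa 0))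
    (qhP : ∀ k, k < n → Triangle.mk (qa (k + 1)) (qb k) (qc k) ∈ distinguishedTriangles ∧
      qb k ≫ qa k = X'.d (k + 1) k)
    (hX : ∀ i j : ℕ, j + 1 < i → i ≤ n →
      ∀ ψ : (shiftFunctor D ((i : ℤ) - j - 1)).obj (X.X i) ⟶ X'.X j, ψ = 0) (j : ℕ) :
    ∀ (i : ℕ) (m : ℤ), j + 1 < i → i ≤ n → m = (i : ℤ) - j - 1 →
      ∀ ψ : (shiftFunctor D m).obj (X.X i) ⟶ qY j, ψ = 0 := by
  induction j with
  | zero =>
    intro i m hij hin hm ψ
    have h1 : ψ ≫ qa 0 = 0 := by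
      subst hm
      exact hX i 0 hij hin _
    rw [← cancel_mono (qa 0), h1, zero_comp]
  | succ j ih =>
    intro i m hij hin hm ψ
    have h1 : ψ ≫ qa (j + 1) = 0 := by
      subst hm
      exact hX i (j + 1) hij hin _
    obtain ⟨g, hg⟩ : ∃ g : ((shiftFunctor D m).obj (X.X i))⟦(1 : ℤ)⟧ ⟶ qY j,
        ψ⟦(1 : ℤ)⟧' = g ≫ qc j :=
      Triangle.coyoneda_exact₁ _ (qhP j (by omega)).1 (ψ⟦(1 : ℤ)⟧') (by
        show ψ⟦(1 : ℤ)⟧' ≫ (qa (j + 1))⟦(1 : ℤ)⟧' = 0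
        rw [← Functor.map_comp, h1, Functor.map_zero])
    have h2 : ((shiftFunctorAdd' D m 1 (m + 1) rfl).app (X.X i)).hom ≫ g = 0 :=
      ih i (m + 1) (by omega) hin (by rw [hm]; push_cast; ring) _
    have h3 : g = 0 := by
      rw [← cancel_epi ((shiftFunctorAdd' D m 1 (m + 1) rfl).app (X.X i)).hom, h2, comp_zero]
    apply (shiftFunctor D (1 : ℤ)).map_injective
    rw [hg, h3, zero_comp, Functor.map_zero]

open Classical in
/-- the recursively chosen components -/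
noncomputable def yrec [IsIso (qa 0)] : ∀ k, Y k ⟶ qY k
  | 0 => a 0 ≫ φ.f 0 ≫ inv (qa 0)
  | k + 1 =>
    if h : ∃ y' : Y (k + 1) ⟶ qY (k + 1), y' ≫ qa (k + 1) = a (k + 1) ≫ φ.f (k + 1) ∧
        c k ≫ y'⟦(1 : ℤ)⟧' = yrec k ≫ qc k then h.choose else 0

end

open CategoryTheory.Pretriangulated in
/-- Let D be a triangulated category and φ : X ⟶ X' a morphism of chain complexes in D considered in
degrees ≤ n, where a Postnikov system for the complex X_n → … → X_0 consists of objects Y_k, an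
isomorphism Y_0 ⟶ X_0, and for 0 ≤ k < n distinguished triangles Y_{k+1} ⟶ X_{k+1} ⟶ Y_k ⟶
Y_{k+1}⟦1⟧ with X_{k+1} ⟶ Y_k ⟶ X_k the differential. Suppose X and X' carry Postnikov systems (Y,
a, b, c) and (Y', a', b', c'). If Hom(X_i⟦i - j - 1⟧, X'_j) = 0 for all j + 1 < i ≤ n, then φ
extends to a morphism of Postnikov systems: morphisms y_k : Y_k ⟶ Y'_k for k ≤ n forming, with the
φ_k, morphisms of the distinguished triangles and compatible with Y_0 ⟶ X_0 and Y'_0 ⟶ X'_0. -/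
theorem result {D : Type u} [Category.{v} D] [Preadditive D] [HasZeroObject D] [HasShift D ℤ]
    [∀ n : ℤ, (shiftFunctor D n).Additive] [Pretriangulated D] [IsTriangulated D]
    (X X' : ChainComplex D ℕ) (φ : X ⟶ X') (n : ℕ)
    (Y : ℕ → D) (a : ∀ k, Y k ⟶ X.X k) (b : ∀ k, X.X (k + 1) ⟶ Y k)
    (c : ∀ k, Y k ⟶ (shiftFunctor D (1 : ℤ)).obj (Y (k + 1)))
    (h0 : IsIso (a 0))
    (hP : ∀ k, k < n → Triangle.mk (a (k + 1)) (b k) (c k) ∈ distinguishedTriangles ∧ b k ≫ a k = X.d (k + 1) k)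
    (qY : ℕ → D) (qa : ∀ k, qY k ⟶ X'.X k) (qb : ∀ k, X'.X (k + 1) ⟶ qY k)
    (qc : ∀ k, qY k ⟶ (shiftFunctor D (1 : ℤ)).obj (qY (k + 1)))
    (qh0 : IsIso (qa 0))
    (qhP : ∀ k, k < n → Triangle.mk (qa (k + 1)) (qb k) (qc k) ∈ distinguishedTriangles ∧ qb k ≫ qa k = X'.d (k + 1) k)
    (hX : ∀ i j : ℕ, j + 1 < i → i ≤ n → ∀ ψ : (shiftFunctor D ((i : ℤ) - j - 1)).obj (X.X i) ⟶ X'.X j, ψ = 0) :
    ∃ y : ∀ k, Y k ⟶ qY k,
      (∀ k, k ≤ n → y k ≫ qa k = a k ≫ φ.f k) ∧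
      (∀ k, k < n → b k ≫ y k = φ.f (k + 1) ≫ qb k ∧ c k ≫ (shiftFunctor D (1 : ℤ)).map (y (k + 1)) = y k ≫ qc k) := by
  -- the square commutes for any `y k` compatible with `φ`
  have hsq : ∀ k, k < n → ∀ yk : Y k ⟶ qY k, yk ≫ qa k = a k ≫ φ.f k →
      b k ≫ yk = φ.f (k + 1) ≫ qb k := by
    intro k hk yk hyk
    rw [← sub_eq_zero]
    have h1 : (b k ≫ yk - φ.f (k + 1) ≫ qb k) ≫ qa k = 0 := by
      rw [Preadditive.sub_comp, Category.assoc, hyk, ← Category.assoc, (hP k hk).2,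
        Category.assoc, (qhP k hk).2, φ.comm, sub_self]
    cases k with
    | zero => rw [← cancel_mono (qa 0), h1, zero_comp]
    | succ k =>
      obtain ⟨g, hg⟩ : ∃ g : (X.X (k + 1 + 1))⟦(1 : ℤ)⟧ ⟶ qY k,
          (b (k + 1) ≫ yk - φ.f (k + 1 + 1) ≫ qb (k + 1))⟦(1 : ℤ)⟧' = g ≫ qc k :=
        Triangle.coyoneda_exact₁ _ (qhP k (by omega)).1 _ (by
          show (b (k + 1) ≫ yk - φ.f (k + 1 + 1) ≫ qb (k + 1))⟦(1 : ℤ)⟧' ≫
            (qa (k + 1))⟦(1 : ℤ)⟧' = 0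
          rw [← Functor.map_comp, h1, Functor.map_zero])
      have h3 : g = 0 := vanish X X' n qY qa qb qc qh0 qhP hX k (k + 1 + 1) 1 (by omega)
        (by omega) (by push_cast; ring) g
      apply (shiftFunctor D (1 : ℤ)).map_injective
      rw [hg, h3, zero_comp, Functor.map_zero]
  -- the recursion works
  have key : ∀ k, k ≤ n → yrec X X' φ Y a c qY qa qc k ≫ qa k = a k ≫ φ.f k ∧
      (∀ k', k' + 1 = k → c k' ≫ (yrec X X' φ Y a c qY qa qc (k' + 1))⟦(1 : ℤ)⟧' =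
        yrec X X' φ Y a c qY qa qc k' ≫ qc k') := by
    intro k
    induction k with
    | zero =>
      intro _
      refine ⟨?_, fun k' hk' => by omega⟩
      show (a 0 ≫ φ.f 0 ≫ inv (qa 0)) ≫ qa 0 = a 0 ≫ φ.f 0
      simp
    | succ k ih =>
      intro hk
      obtain ⟨h1, -⟩ := ih (by omega)
      have hcomm := hsq k (by omega) _ h1
      obtain ⟨y', hy'1, hy'2⟩ : ∃ y' : Y (k + 1) ⟶ qY (k + 1),
          a (k + 1) ≫ φ.f (k + 1) = y' ≫ qa (k + 1) ∧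
          c k ≫ y'⟦(1 : ℤ)⟧' = yrec X X' φ Y a c qY qa qc k ≫ qc k :=
        complete_distinguished_triangle_morphism₁ _ _ (hP k (by omega)).1 (qhP k (by omega)).1
          (φ.f (k + 1)) (yrec X X' φ Y a c qY qa qc k) hcomm
      have hex : ∃ y' : Y (k + 1) ⟶ qY (k + 1), y' ≫ qa (k + 1) = a (k + 1) ≫ φ.f (k + 1) ∧
          c k ≫ y'⟦(1 : ℤ)⟧' = yrec X X' φ Y a c qY qa qc k ≫ qc k := ⟨y', hy'1.symm, hy'2⟩
      have hdef : yrec X X' φ Y a c qY qa qc (k + 1) = hex.choose := by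
        rw [yrec, dif_pos hex]
      refine ⟨?_, fun k' hk' => ?_⟩
      · rw [hdef]
        exact hex.choose_spec.1
      · obtain rfl : k' = k := by omega
        rw [hdef]
        exact hex.choose_spec.2
  refine ⟨yrec X X' φ Y a c qY qa qc, fun k hk => (key k hk).1, fun k hk => ⟨?_, ?_⟩⟩
  · exact hsq k hk _ (key k (by omega)).1
  · exact (key (k + 1) (by omega)).2 k rfl

end Groth.Agent.S6596
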