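import Groth.Statements.S6597
import Mathlib.CategoryTheory.Triangulated.Triangulated
import Mathlib.Tactic.Ring
import Mathlib.Tactic.Linarith
import Mathlib.Algebra.Homology.HomologicalComplex
-- import your own Groth.Agent.* helpers here

set_option autoImplicit false
universe v u
open CategoryTheory CategoryTheory.Limits
open CohDer

namespace Groth.Agent.S6597

open CategoryTheory.Pretriangulated

section
variable {D : Type u} [Category.{v} D] [Preadditive D] [HasZeroObject D] [HasShift D ℤ]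
    [∀ n : ℤ, (shiftFunctor D n).Additive] [Pretriangulated D]

/-- injectivity of pullback along the shifted connecting map when maps out of the shifted middle
term vanish -/
lemma inj_shift {A B C : D} (a' : A ⟶ B) (b' : B ⟶ C) (c' : C ⟶ A⟦(1 : ℤ)⟧)
    (hT : Triangle.mk a' b' c' ∈ distTriang D)
    (p q : ℤ) (hpq : 1 + p = q) (Z : D) (hvan : ∀ ψ : B⟦q⟧ ⟶ Z, ψ = 0)
    (f : A⟦q⟧ ⟶ Z) (hf : (c'⟦p⟧' ≫ (shiftFunctorAdd' D 1 p q hpq).inv.app A) ≫ f = 0) :
    f = 0 := by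
  have hT' := Triangle.shift_distinguished _ (rot_of_distTriang _ hT) p
  obtain ⟨f', hf'⟩ : ∃ f' : (A⟦(1 : ℤ)⟧)⟦p⟧ ⟶ Z,
      f' = (shiftFunctorAdd' D 1 p q hpq).inv.app A ≫ f := ⟨_, rfl⟩
  have h1 : ((Triangle.shiftFunctor D p).obj (Triangle.mk a' b' c').rotate).mor₂ ≫ f' = 0 := by
    show (p.negOnePow • c'⟦p⟧') ≫ f' = 0
    rw [Linear.units_smul_comp, hf', ← Category.assoc, hf, smul_zero]
  obtain ⟨g, hg⟩ : ∃ g : (B⟦p⟧)⟦(1 : ℤ)⟧ ⟶ Z,
      f' = ((Triangle.shiftFunctor D p).obj (Triangle.mk a' b' c').rotate).mor₃ ≫ g :=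
    Triangle.yoneda_exact₃ _ hT' f' h1
  have hg0 : g = 0 := by
    have := hvan ((shiftFunctorAdd' D p 1 q (by omega)).hom.app B ≫ g)
    rw [← cancel_epi ((shiftFunctorAdd' D p 1 q (by omega)).hom.app B), this, comp_zero]
  have hf'0 : f' = 0 := by
    rw [hg, hg0]
    exact comp_zero
  rw [← cancel_epi ((shiftFunctorAdd' D 1 p q hpq).inv.app A), comp_zero, ← hf', hf'0]

end

open CategoryTheory.Pretriangulated in
/-- Let D be a triangulated category, φ : X ⟶ X' a morphism of chain complexes in D considered in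
degrees ≤ n, where a Postnikov system for the complex X_n → … → X_0 consists of objects Y_k, an
isomorphism Y_0 ⟶ X_0, and for 0 ≤ k < n distinguished triangles Y_{k+1} ⟶ X_{k+1} ⟶ Y_k ⟶
Y_{k+1}⟦1⟧ with X_{k+1} ⟶ Y_k ⟶ X_k the differential; let (Y, a, b, c) and (Y', a', b', c') be
Postnikov systems for X and X'. If Hom(X_i⟦i⟧, Y'_n⟦n⟧) = 0 for i = 1, …, n, then two morphisms of
Postnikov systems extending φ agree on Y_n. (The published statement says there is at most one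
morphism of Postnikov systems; the argument, by induction along Y_0 → Y_1⟦1⟧ → … → Y_n⟦n⟧,
determines the component in degree n, which is what is asserted here.) -/
theorem result {D : Type u} [Category.{v} D] [Preadditive D] [HasZeroObject D] [HasShift D ℤ]
    [∀ n : ℤ, (shiftFunctor D n).Additive] [Pretriangulated D] [IsTriangulated D]
    (X X' : ChainComplex D ℕ) (φ : X ⟶ X') (n : ℕ)
    (Y : ℕ → D) (a : ∀ k, Y k ⟶ X.X k) (b : ∀ k, X.X (k + 1) ⟶ Y k)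
    (c : ∀ k, Y k ⟶ (shiftFunctor D (1 : ℤ)).obj (Y (k + 1)))
    (h0 : IsIso (a 0))
    (hP : ∀ k, k < n → Triangle.mk (a (k + 1)) (b k) (c k) ∈ distinguishedTriangles ∧ b k ≫ a k = X.d (k + 1) k)
    (qY : ℕ → D) (qa : ∀ k, qY k ⟶ X'.X k) (qb : ∀ k, X'.X (k + 1) ⟶ qY k)
    (qc : ∀ k, qY k ⟶ (shiftFunctor D (1 : ℤ)).obj (qY (k + 1)))
    (qh0 : IsIso (qa 0))
    (qhP : ∀ k, k < n → Triangle.mk (qa (k + 1)) (qb k) (qc k) ∈ distinguishedTriangles ∧ qb k ≫ qa k = X'.d (k + 1) k)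
    (hv : ∀ i : ℕ, 1 ≤ i → i ≤ n → ∀ ψ : (shiftFunctor D (i : ℤ)).obj (X.X i) ⟶ (shiftFunctor D (n : ℤ)).obj (qY n), ψ = 0)
    (y z : ∀ k, Y k ⟶ qY k)
    (hy : (∀ k, k ≤ n → y k ≫ qa k = a k ≫ φ.f k) ∧
      (∀ k, k < n → b k ≫ y k = φ.f (k + 1) ≫ qb k ∧ c k ≫ (shiftFunctor D (1 : ℤ)).map (y (k + 1)) = y k ≫ qc k))
    (hz : (∀ k, k ≤ n → z k ≫ qa k = a k ≫ φ.f k) ∧
      (∀ k, k < n → b k ≫ z k = φ.f (k + 1) ≫ qb k ∧ c k ≫ (shiftFunctor D (1 : ℤ)).map (z (k + 1)) = z k ≫ qc k)) :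
    y n = z n := by
  obtain ⟨w, hw⟩ : ∃ w : ∀ k, Y k ⟶ qY k, ∀ k, w k = y k - z k := ⟨_, fun _ => rfl⟩
  have hw0 : w 0 = 0 := by
    rw [hw, sub_eq_zero, ← cancel_mono (qa 0), hy.1 0 (Nat.zero_le _), hz.1 0 (Nat.zero_le _)]
  have hwc : ∀ k, k < n → c k ≫ (w (k + 1))⟦(1 : ℤ)⟧' = w k ≫ qc k := by
    intro k hk
    rw [hw, hw, Functor.map_sub, Preadditive.comp_sub, Preadditive.sub_comp, (hy.2 k hk).2,
      (hz.2 k hk).2]
  have main : ∀ k, k ≤ n → ∀ e : (qY k)⟦(k : ℤ)⟧ ⟶ (qY n)⟦(n : ℤ)⟧,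
      (w k)⟦(k : ℤ)⟧' ≫ e = 0 := by
    intro k
    induction k with
    | zero =>
      intro _ e
      rw [hw0, Functor.map_zero, zero_comp]
    | succ k ih =>
      intro hk e
      have hpq : (1 : ℤ) + (k : ℤ) = ((k + 1 : ℕ) : ℤ) := by push_cast; ring
      have ih' := ih (by omega)
        (((qc k)⟦(k : ℤ)⟧' ≫ (shiftFunctorAdd' D 1 (k : ℤ) ((k + 1 : ℕ) : ℤ) hpq).inv.app
          (qY (k + 1))) ≫ e)
      apply inj_shift (a (k + 1)) (b k) (c k) (hP k (by omega)).1 (k : ℤ) ((k + 1 : ℕ) : ℤ) hpq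
        _ (hv (k + 1) (by omega) hk)
      have nat := (shiftFunctorAdd' D 1 (k : ℤ) ((k + 1 : ℕ) : ℤ) hpq).inv.naturality (w (k + 1))
      simp only [Functor.comp_obj, Functor.comp_map] at nat
      rw [Category.assoc, ← Category.assoc ((shiftFunctorAdd' D 1 (k : ℤ) ((k + 1 : ℕ) : ℤ)
        hpq).inv.app (Y (k + 1))), ← nat, Category.assoc, ← Category.assoc ((c k)⟦(k : ℤ)⟧'),
        ← Functor.map_comp, hwc k (by omega), Functor.map_comp, Category.assoc]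
      simpa only [Category.assoc] using ih'
  have h1 := main n le_rfl (𝟙 _)
  rw [Category.comp_id] at h1
  have h2 : w n = 0 := by
    apply (shiftFunctor D (n : ℤ)).map_injective
    rw [h1, Functor.map_zero]
  rw [hw, sub_eq_zero] at h2
  exact h2

end Groth.Agent.S6597
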