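import Groth.Statements.S6598
import Mathlib
-- import your own Groth.Agent.* helpers here

set_option autoImplicit false
set_option linter.style.haveILetI false
set_option linter.unusedSectionVars false
universe v u
open CategoryTheory CategoryTheory.Limits
open CohDer

namespace Groth.Agent.S6598
open CochainComplex HomologicalComplex

section split
variable {V : Type u} [Category.{v} V] [Preadditive V] [HasBinaryBiproducts V]

/-- shear isomorphism: if `B` is the biproduct of `K` (via `j, r`) and `C` (via `q, p`), the map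
`(a, j) : K ⟶ A ⊞ B` becomes `inl : K ⟶ K ⊞ (A ⊞ C)`. -/
noncomputable def shear {A B K C : V} (a : K ⟶ A) (j : K ⟶ B) (r : B ⟶ K) (q : C ⟶ B) (p : B ⟶ C)
    (hjr : j ≫ r = 𝟙 K) (hqp : q ≫ p = 𝟙 C) (hqr : q ≫ r = 0) (hjp : j ≫ p = 0)
    (hid : p ≫ q + r ≫ j = 𝟙 B) : A ⊞ B ≅ K ⊞ (A ⊞ C) where
  hom := biprod.lift (biprod.snd ≫ r)
    (biprod.lift (biprod.fst - biprod.snd ≫ r ≫ a) (biprod.snd ≫ p))
  inv := biprod.desc (biprod.lift a j) (biprod.desc biprod.inl (q ≫ biprod.inr))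
  hom_inv_id := by
    have hjr' : ∀ {Z : V} (h : K ⟶ Z), j ≫ r ≫ h = h := fun h => by rw [← Category.assoc, hjr, Category.id_comp]
    have hqp' : ∀ {Z : V} (h : C ⟶ Z), q ≫ p ≫ h = h := fun h => by rw [← Category.assoc, hqp, Category.id_comp]
    have hqr' : ∀ {Z : V} (h : K ⟶ Z), q ≫ r ≫ h = 0 := fun h => by rw [← Category.assoc, hqr, zero_comp]
    have hjp' : ∀ {Z : V} (h : C ⟶ Z), j ≫ p ≫ h = 0 := fun h => by rw [← Category.assoc, hjp, zero_comp]
    have hid' : r ≫ j + p ≫ q = 𝟙 B := by rw [add_comm]; exact hid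
    apply biprod.hom_ext <;> apply biprod.hom_ext' <;>
      simp [Preadditive.comp_add, Preadditive.add_comp, Preadditive.sub_comp, hjr, hqp, hqr, hjp,
        hjr', hqp', hqr', hjp', hid']
  inv_hom_id := by
    have hjr' : ∀ {Z : V} (h : K ⟶ Z), j ≫ r ≫ h = h := fun h => by rw [← Category.assoc, hjr, Category.id_comp]
    have hqp' : ∀ {Z : V} (h : C ⟶ Z), q ≫ p ≫ h = h := fun h => by rw [← Category.assoc, hqp, Category.id_comp]
    have hqr' : ∀ {Z : V} (h : K ⟶ Z), q ≫ r ≫ h = 0 := fun h => by rw [← Category.assoc, hqr, zero_comp]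
    have hjp' : ∀ {Z : V} (h : C ⟶ Z), j ≫ p ≫ h = 0 := fun h => by rw [← Category.assoc, hjp, zero_comp]
    apply biprod.hom_ext'
    · apply biprod.hom_ext
      · simp [hjr]
      · apply biprod.hom_ext <;>
          simp [Preadditive.comp_add, Preadditive.add_comp, Preadditive.sub_comp,
            Preadditive.comp_sub, hjr, hqp, hqr, hjp, hjr', hqp', hqr', hjp']
    · apply biprod.hom_ext' <;> apply biprod.hom_ext
      · simp
      · apply biprod.hom_ext <;>
          simp [Preadditive.comp_add, Preadditive.add_comp, Preadditive.sub_comp,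
            Preadditive.comp_sub, hjr, hqp, hqr, hjp, hjr', hqp', hqr', hjp']
      · simp [hqr]
      · apply biprod.hom_ext <;>
          simp [Preadditive.comp_add, Preadditive.add_comp, Preadditive.sub_comp,
            Preadditive.comp_sub, hjr, hqp, hqr, hjp, hjr', hqp', hqr', hjp']

theorem shear_spec {A B K C : V} (a : K ⟶ A) (j : K ⟶ B) (r : B ⟶ K) (q : C ⟶ B) (p : B ⟶ C)
    (hjr : j ≫ r = 𝟙 K) (hqp : q ≫ p = 𝟙 C) (hqr : q ≫ r = 0) (hjp : j ≫ p = 0)
    (hid : p ≫ q + r ≫ j = 𝟙 B) :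
    biprod.lift a j ≫ (shear a j r q p hjr hqp hqr hjp hid).hom = biprod.inl := by
  have hjr' : ∀ {Z : V} (h : K ⟶ Z), j ≫ r ≫ h = h := fun h => by rw [← Category.assoc, hjr, Category.id_comp]
  apply biprod.hom_ext
  · simp [shear, hjr]
  · apply biprod.hom_ext <;>
      simp [shear, Preadditive.comp_sub, hjr, hjp, hjr']

end split

section fact
variable {V : Type u} [Category.{v} V] [Preadditive V] [HasBinaryBiproducts V] [HasZeroObject V]
  {K L : CochainComplex V ℤ} (α : K ⟶ L)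

/-- the contractible complex -/
noncomputable abbrev Cn (K : CochainComplex V ℤ) : CochainComplex V ℤ := mappingCone (𝟙 K)

/-- the middle object of the factorization -/
noncomputable abbrev Lp {K L : CochainComplex V ℤ} (_α : K ⟶ L) : CochainComplex V ℤ := L ⊞ Cn K

noncomputable abbrev α' : K ⟶ Lp α := biprod.lift α (mappingCone.inr (𝟙 K))

noncomputable abbrev π : Lp α ⟶ L := biprod.fst

noncomputable abbrev sec : L ⟶ Lp α := biprod.inl

theorem α'_π : α' α ≫ π α = α := biprod.lift_fst _ _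

theorem sec_π : sec α ≫ π α = 𝟙 L := biprod.inl_fst

noncomputable def htpy : Homotopy (π α ≫ sec α) (𝟙 (Lp α)) := by
  have h0 : Homotopy (𝟙 (Cn K)) 0 := mappingCone.homotopyToZeroOfId K
  have h1 : Homotopy ((biprod.snd : Lp α ⟶ Cn K) ≫ 𝟙 (Cn K) ≫ (biprod.inr : Cn K ⟶ Lp α))
      ((biprod.snd : Lp α ⟶ Cn K) ≫ 0 ≫ (biprod.inr : Cn K ⟶ Lp α)) :=
    (h0.compRight biprod.inr).compLeft biprod.snd
  have h2 : Homotopy ((biprod.fst : Lp α ⟶ L) ≫ (biprod.inl : L ⟶ Lp α) +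
      (biprod.snd : Lp α ⟶ Cn K) ≫ 𝟙 (Cn K) ≫ (biprod.inr : Cn K ⟶ Lp α))
      ((biprod.fst : Lp α ⟶ L) ≫ (biprod.inl : L ⟶ Lp α) +
      (biprod.snd : Lp α ⟶ Cn K) ≫ 0 ≫ (biprod.inr : Cn K ⟶ Lp α)) :=
    (Homotopy.refl _).add h1
  refine (Homotopy.ofEq ?_).trans (h2.symm.trans (Homotopy.ofEq ?_))
  · simp
  · simp [biprod.total]

noncomputable def hEquiv : HomotopyEquiv (Lp α) L where
  hom := π α
  inv := sec α
  homotopyHomInvId := htpy α
  homotopyInvHomId := Homotopy.ofEq (sec_π α)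

theorem split_inj (n : ℤ) :
    ∃ (C : V) (e : (Lp α).X n ≅ K.X n ⊞ C), (α' α).f n ≫ e.hom = biprod.inl := by
  let e0 := biprodXIso L (Cn K) n
  let j : K.X n ⟶ (Cn K).X n := (mappingCone.inr (𝟙 K)).f n
  let r : (Cn K).X n ⟶ K.X n := (mappingCone.snd (𝟙 K)).v n n (add_zero n)
  let q : K.X (n + 1) ⟶ (Cn K).X n := (mappingCone.inl (𝟙 K)).v (n + 1) n (by omega)
  let p : (Cn K).X n ⟶ K.X (n + 1) := (mappingCone.fst (𝟙 K)).1.v n (n + 1) rfl
  have hjr : j ≫ r = 𝟙 _ := mappingCone.inr_f_snd_v _ _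
  have hqp : q ≫ p = 𝟙 _ := mappingCone.inl_v_fst_v _ _ _ rfl
  have hqr : q ≫ r = 0 := mappingCone.inl_v_snd_v _ _ _ _
  have hjp : j ≫ p = 0 := mappingCone.inr_f_fst_v _ _ _ rfl
  have hid : p ≫ q + r ≫ j = 𝟙 _ := mappingCone.id_X _ _ _ rfl
  refine ⟨L.X n ⊞ K.X (n + 1), e0 ≪≫ shear (α.f n) j r q p hjr hqp hqr hjp hid, ?_⟩
  have h1 : (α' α).f n ≫ e0.hom = biprod.lift (α.f n) j := by
    apply biprod.hom_ext
    · simp [e0, j]
    · simp [e0, j]
  rw [Iso.trans_hom, ← Category.assoc, h1]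
  exact shear_spec _ _ _ _ _ _ _ _ _ _

theorem isZero_Lp_X (n : ℤ) (h1 : IsZero (L.X n)) (h2 : IsZero (K.X n)) (h3 : IsZero (K.X (n + 1))) :
    IsZero ((Lp α).X n) := by
  refine IsZero.of_iso ?_ (biprodXIso L (Cn K) n)
  rw [biprod_isZero_iff]
  exact ⟨h1, (mappingCone.isZero_X_iff (𝟙 K) n).2 ⟨h3, h2⟩⟩

theorem Lp_ge (a b : ℤ) [K.IsStrictlyGE a] [L.IsStrictlyGE b] :
    (Lp α).IsStrictlyGE (min a b - 1) := by
  rw [isStrictlyGE_iff]
  intro i hi
  have h1 : i < b := by omega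
  have h2 : i < a := by omega
  have h3 : i + 1 < a := by omega
  exact isZero_Lp_X α i (L.isZero_of_isStrictlyGE b i h1) (K.isZero_of_isStrictlyGE a i h2)
    (K.isZero_of_isStrictlyGE a (i + 1) h3)

theorem Lp_le (a b : ℤ) [K.IsStrictlyLE a] [L.IsStrictlyLE b] :
    (Lp α).IsStrictlyLE (max a b) := by
  rw [isStrictlyLE_iff]
  intro i hi
  have h1 : b < i := by omega
  have h2 : a < i := by omega
  have h3 : a < i + 1 := by omega
  exact isZero_Lp_X α i (L.isZero_of_isStrictlyLE b i h1) (K.isZero_of_isStrictlyLE a i h2)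
    (K.isZero_of_isStrictlyLE a (i + 1) h3)

end fact


/-- Let α : K ⟶ L be a morphism of cochain complexes over an additive category. There is a factorization
K ⟶ L' ⟶ L of α such that (1) K ⟶ L' is a termwise split injection (in each degree isomorphic to the
inclusion of a direct summand) and (2) L' ⟶ L admits a section s : L ⟶ L' (s followed by L' ⟶ L is
the identity) such that L' ⟶ L followed by s is homotopic to the identity of L'. Moreover if K and L
are both bounded below, resp. both bounded above, then L' may be chosen bounded below, resp. bounded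
above. -/
theorem result {V : Type u} [Category.{v} V] [Preadditive V] [HasBinaryBiproducts V] [HasZeroObject V]
    (K L : CochainComplex V ℤ) (α : K ⟶ L) :
    ∃ (L' : CochainComplex V ℤ) (α' : K ⟶ L') (π : L' ⟶ L) (s : L ⟶ L'),
      α' ≫ π = α ∧ s ≫ π = 𝟙 L ∧ Nonempty (Homotopy (π ≫ s) (𝟙 L')) ∧
      (∀ n : ℤ, ∃ (C : V) (e : L'.X n ≅ K.X n ⊞ C), α'.f n ≫ e.hom = biprod.inl) ∧
      (∀ a : ℤ, K.IsStrictlyGE a → L.IsStrictlyGE a → ∃ a' : ℤ, L'.IsStrictlyGE a') ∧
      (∀ a : ℤ, K.IsStrictlyLE a → L.IsStrictlyLE a → ∃ a' : ℤ, L'.IsStrictlyLE a') := by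
  refine ⟨Lp α, α' α, π α, sec α, α'_π α, sec_π α, ⟨htpy α⟩, split_inj α, ?_, ?_⟩
  · intro a h1 h2
    exact ⟨_, Lp_ge α a a⟩
  · intro a h1 h2
    exact ⟨_, Lp_le α a a⟩

end Groth.Agent.S6598
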