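import Groth.Statements.S6599
import Mathlib
-- import your own Groth.Agent.* helpers here

set_option autoImplicit false
set_option linter.style.haveILetI false
set_option linter.unusedSectionVars false
universe v u
open CategoryTheory CategoryTheory.Limits
open CohDer

namespace Groth.Agent.S6599
open CochainComplex HomologicalComplex HomComplex

section split
variable {V : Type u} [Category.{v} V] [Preadditive V] [HasBinaryBiproducts V]

/-- dual shear isomorphism -/
noncomputable def shear' {A B K C : V} (a : K ⟶ A) (P : B ⟶ A) (σ : A ⟶ B) (j : C ⟶ B) (r : B ⟶ C)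
    (hσP : σ ≫ P = 𝟙 A) (hjr : j ≫ r = 𝟙 C) (hjP : j ≫ P = 0) (hσr : σ ≫ r = 0)
    (hid : P ≫ σ + r ≫ j = 𝟙 B) : K ⊞ B ≅ (K ⊞ C) ⊞ A where
  hom := biprod.lift (biprod.lift biprod.fst (biprod.snd ≫ r)) (biprod.desc a P)
  inv := biprod.desc (biprod.desc (biprod.lift (𝟙 K) (-(a ≫ σ))) (j ≫ biprod.inr)) (σ ≫ biprod.inr)
  hom_inv_id := by
    have hσP' : ∀ {Z : V} (h : A ⟶ Z), σ ≫ P ≫ h = h := fun h => by rw [← Category.assoc, hσP, Category.id_comp]
    have hjr' : ∀ {Z : V} (h : C ⟶ Z), j ≫ r ≫ h = h := fun h => by rw [← Category.assoc, hjr, Category.id_comp]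
    have hjP' : ∀ {Z : V} (h : A ⟶ Z), j ≫ P ≫ h = 0 := fun h => by rw [← Category.assoc, hjP, zero_comp]
    have hσr' : ∀ {Z : V} (h : C ⟶ Z), σ ≫ r ≫ h = 0 := fun h => by rw [← Category.assoc, hσr, zero_comp]
    have hid' : r ≫ j + P ≫ σ = 𝟙 B := by rw [add_comm]; exact hid
    apply biprod.hom_ext' <;> apply biprod.hom_ext <;>
      simp [Preadditive.comp_add, Preadditive.add_comp, Preadditive.sub_comp, Preadditive.comp_sub,
        Preadditive.comp_neg, Preadditive.neg_comp,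
        hσP, hjr, hjP, hσr, hσP', hjr', hjP', hσr', hid, hid']
  inv_hom_id := by
    have hσP' : ∀ {Z : V} (h : A ⟶ Z), σ ≫ P ≫ h = h := fun h => by rw [← Category.assoc, hσP, Category.id_comp]
    have hjr' : ∀ {Z : V} (h : C ⟶ Z), j ≫ r ≫ h = h := fun h => by rw [← Category.assoc, hjr, Category.id_comp]
    have hjP' : ∀ {Z : V} (h : A ⟶ Z), j ≫ P ≫ h = 0 := fun h => by rw [← Category.assoc, hjP, zero_comp]
    have hσr' : ∀ {Z : V} (h : C ⟶ Z), σ ≫ r ≫ h = 0 := fun h => by rw [← Category.assoc, hσr, zero_comp]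
    apply biprod.hom_ext'
    · apply biprod.hom_ext'
      · apply biprod.hom_ext
        · apply biprod.hom_ext <;>
            simp [Preadditive.comp_add, Preadditive.add_comp, Preadditive.sub_comp, Preadditive.comp_sub,
              Preadditive.comp_neg, Preadditive.neg_comp,
              hσP, hjr, hjP, hσr, hσP', hjr', hjP', hσr']
        · simp [Preadditive.comp_add, Preadditive.add_comp, Preadditive.sub_comp, Preadditive.comp_sub,
              Preadditive.comp_neg, Preadditive.neg_comp,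
              hσP, hjr, hjP, hσr, hσP', hjr', hjP', hσr']
      · apply biprod.hom_ext
        · apply biprod.hom_ext <;>
            simp [Preadditive.comp_add, Preadditive.add_comp, Preadditive.sub_comp, Preadditive.comp_sub,
              Preadditive.comp_neg, Preadditive.neg_comp,
              hσP, hjr, hjP, hσr, hσP', hjr', hjP', hσr']
        · simp [Preadditive.comp_add, Preadditive.add_comp, Preadditive.sub_comp, Preadditive.comp_sub,
              Preadditive.comp_neg, Preadditive.neg_comp,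
              hσP, hjr, hjP, hσr, hσP', hjr', hjP', hσr']
    · apply biprod.hom_ext
      · apply biprod.hom_ext <;>
          simp [Preadditive.comp_add, Preadditive.add_comp, Preadditive.sub_comp, Preadditive.comp_sub,
            Preadditive.comp_neg, Preadditive.neg_comp,
            hσP, hjr, hjP, hσr, hσP', hjr', hjP', hσr']
      · simp [Preadditive.comp_add, Preadditive.add_comp, Preadditive.sub_comp, Preadditive.comp_sub,
            Preadditive.comp_neg, Preadditive.neg_comp,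
            hσP, hjr, hjP, hσr, hσP', hjr', hjP', hσr']

theorem shear'_spec {A B K C : V} (a : K ⟶ A) (P : B ⟶ A) (σ : A ⟶ B) (j : C ⟶ B) (r : B ⟶ C)
    (hσP : σ ≫ P = 𝟙 A) (hjr : j ≫ r = 𝟙 C) (hjP : j ≫ P = 0) (hσr : σ ≫ r = 0)
    (hid : P ≫ σ + r ≫ j = 𝟙 B) :
    (shear' a P σ j r hσP hjr hjP hσr hid).inv ≫ biprod.desc a P = biprod.snd := by
  have hσP' : ∀ {Z : V} (h : A ⟶ Z), σ ≫ P ≫ h = h := fun h => by rw [← Category.assoc, hσP, Category.id_comp]
  apply biprod.hom_ext'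
  · apply biprod.hom_ext' <;>
      simp [shear', Preadditive.comp_neg, Preadditive.neg_comp, hσP, hjP, hσP']
  · simp [shear', hσP]

end split

section fact
variable {V : Type u} [Category.{v} V] [Preadditive V] [HasBinaryBiproducts V] [HasZeroObject V]

/-- `L` shifted by `-1` -/
noncomputable abbrev Msh (L : CochainComplex V ℤ) : CochainComplex V ℤ :=
  (CategoryTheory.shiftFunctor (CochainComplex V ℤ) (-1 : ℤ)).obj L

/-- the contractible complex surjecting onto `L` -/
noncomputable abbrev Dn (L : CochainComplex V ℤ) : CochainComplex V ℤ := mappingCone (𝟙 (Msh L))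

/-- the termwise split surjection `Dn L ⟶ L` -/
noncomputable def pD (L : CochainComplex V ℤ) : Dn L ⟶ L :=
  Cocycle.homOf ((mappingCone.fst (𝟙 (Msh L))).rightUnshift 0 (by simp))

theorem pD_f (L : CochainComplex V ℤ) (n : ℤ) :
    (pD L).f n = (mappingCone.fst (𝟙 (Msh L))).1.v n (n + 1) rfl ≫
      (L.shiftFunctorObjXIso (-1) (n + 1) n (by omega)).hom := by
  simp only [pD, Cocycle.homOf_f, Cocycle.rightUnshift_coe]
  rw [Cochain.rightUnshift_v _ 0 (by simp) n n (add_zero n) (n + 1) rfl]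

variable {K L : CochainComplex V ℤ}

noncomputable abbrev Kp (_α : K ⟶ L) : CochainComplex V ℤ := K ⊞ Dn L

noncomputable abbrev ι' (α : K ⟶ L) : K ⟶ Kp α := biprod.inl

noncomputable abbrev α' (α : K ⟶ L) : Kp α ⟶ L := biprod.desc α (pD L)

noncomputable abbrev ret (α : K ⟶ L) : Kp α ⟶ K := biprod.fst

theorem ι'_α' (α : K ⟶ L) : ι' α ≫ α' α = α := biprod.inl_desc _ _

theorem ι'_ret (α : K ⟶ L) : ι' α ≫ ret α = 𝟙 K := biprod.inl_fst

noncomputable def htpy (α : K ⟶ L) : Homotopy (ret α ≫ ι' α) (𝟙 (Kp α)) := by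
  have h0 : Homotopy (𝟙 (Dn L)) 0 := mappingCone.homotopyToZeroOfId (Msh L)
  have h1 : Homotopy ((biprod.snd : Kp α ⟶ Dn L) ≫ 𝟙 (Dn L) ≫ (biprod.inr : Dn L ⟶ Kp α))
      ((biprod.snd : Kp α ⟶ Dn L) ≫ 0 ≫ (biprod.inr : Dn L ⟶ Kp α)) :=
    (h0.compRight biprod.inr).compLeft biprod.snd
  have h2 : Homotopy ((biprod.fst : Kp α ⟶ K) ≫ (biprod.inl : K ⟶ Kp α) +
      (biprod.snd : Kp α ⟶ Dn L) ≫ 𝟙 (Dn L) ≫ (biprod.inr : Dn L ⟶ Kp α))
      ((biprod.fst : Kp α ⟶ K) ≫ (biprod.inl : K ⟶ Kp α) +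
      (biprod.snd : Kp α ⟶ Dn L) ≫ 0 ≫ (biprod.inr : Dn L ⟶ Kp α)) :=
    (Homotopy.refl _).add h1
  refine (Homotopy.ofEq ?_).trans (h2.symm.trans (Homotopy.ofEq ?_))
  · simp
  · simp [biprod.total]

theorem split_surj (α : K ⟶ L) (n : ℤ) :
    ∃ (C : V) (e : (Kp α).X n ≅ C ⊞ L.X n), e.inv ≫ (α' α).f n = biprod.snd := by
  let M := Msh L
  let e0 := biprodXIso K (Dn L) n
  let φ : M.X (n + 1) ≅ L.X n := L.shiftFunctorObjXIso (-1) (n + 1) n (by omega)
  let P : (Dn L).X n ⟶ L.X n := (pD L).f n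
  let σ : L.X n ⟶ (Dn L).X n := φ.inv ≫ (mappingCone.inl (𝟙 M)).v (n + 1) n (by omega)
  let j : M.X n ⟶ (Dn L).X n := (mappingCone.inr (𝟙 M)).f n
  let r : (Dn L).X n ⟶ M.X n := (mappingCone.snd (𝟙 M)).v n n (add_zero n)
  have hP : P = (mappingCone.fst (𝟙 M)).1.v n (n + 1) rfl ≫ φ.hom := pD_f L n
  have hσP : σ ≫ P = 𝟙 _ := by
    rw [hP]
    simp only [σ, Category.assoc]
    rw [mappingCone.inl_v_fst_v_assoc _ _ _ rfl]
    simp
  have hjr : j ≫ r = 𝟙 _ := mappingCone.inr_f_snd_v _ _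
  have hjP : j ≫ P = 0 := by
    rw [hP, ← Category.assoc]
    simp only [j]
    rw [mappingCone.inr_f_fst_v _ _ _ rfl, zero_comp]
  have hσr : σ ≫ r = 0 := by
    simp only [σ, r, Category.assoc]
    rw [mappingCone.inl_v_snd_v, comp_zero]
  have hid : P ≫ σ + r ≫ j = 𝟙 _ := by
    rw [hP]
    simp only [σ, Category.assoc, Iso.hom_inv_id_assoc]
    exact mappingCone.id_X _ _ _ rfl
  refine ⟨K.X n ⊞ M.X n, e0 ≪≫ shear' (α.f n) P σ j r hσP hjr hjP hσr hid, ?_⟩
  have h1 : e0.inv ≫ (α' α).f n = biprod.desc (α.f n) P := by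
    apply biprod.hom_ext'
    · simp [e0, P]
    · simp [e0, P]
  rw [Iso.trans_inv, Category.assoc, h1]
  exact shear'_spec _ _ _ _ _ _ _ _ _ _

theorem isZero_Kp_X (α : K ⟶ L) (n : ℤ) (h1 : IsZero (K.X n)) (h2 : IsZero (L.X (n + -1)))
    (h3 : IsZero (L.X (n + 1 + -1))) :
    IsZero ((Kp α).X n) := by
  refine IsZero.of_iso ?_ (biprodXIso K (Dn L) n)
  rw [biprod_isZero_iff]
  exact ⟨h1, (mappingCone.isZero_X_iff (𝟙 (Msh L)) n).2 ⟨h3, h2⟩⟩

theorem Kp_ge (α : K ⟶ L) (a : ℤ) [K.IsStrictlyGE a] [L.IsStrictlyGE a] :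
    (Kp α).IsStrictlyGE a := by
  rw [isStrictlyGE_iff]
  intro i hi
  exact isZero_Kp_X α i (K.isZero_of_isStrictlyGE a i hi)
    (L.isZero_of_isStrictlyGE a _ (by omega)) (L.isZero_of_isStrictlyGE a _ (by omega))

theorem Kp_le (α : K ⟶ L) (a : ℤ) [K.IsStrictlyLE a] [L.IsStrictlyLE a] :
    (Kp α).IsStrictlyLE (a + 1) := by
  rw [isStrictlyLE_iff]
  intro i hi
  exact isZero_Kp_X α i (K.isZero_of_isStrictlyLE a i (by omega))
    (L.isZero_of_isStrictlyLE a _ (by omega)) (L.isZero_of_isStrictlyLE a _ (by omega))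

end fact


/-- Let α : K ⟶ L be a morphism of cochain complexes over an additive category. There is a factorization
K ⟶ K' ⟶ L of α such that (1) K' ⟶ L is a termwise split surjection (in each degree isomorphic to
the projection onto a direct summand) and (2) K ⟶ K' admits a retraction s : K' ⟶ K (K ⟶ K' followed
by s is the identity) such that s followed by K ⟶ K' is homotopic to the identity of K'. Moreover if
K and L are both bounded below, resp. both bounded above, then K' may be chosen bounded below, resp.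
bounded above. -/
theorem result {V : Type u} [Category.{v} V] [Preadditive V] [HasBinaryBiproducts V] [HasZeroObject V]
    (K L : CochainComplex V ℤ) (α : K ⟶ L) :
    ∃ (K' : CochainComplex V ℤ) (i : K ⟶ K') (α' : K' ⟶ L) (s : K' ⟶ K),
      i ≫ α' = α ∧ i ≫ s = 𝟙 K ∧ Nonempty (Homotopy (s ≫ i) (𝟙 K')) ∧
      (∀ n : ℤ, ∃ (C : V) (e : K'.X n ≅ C ⊞ L.X n), e.inv ≫ α'.f n = biprod.snd) ∧
      (∀ a : ℤ, K.IsStrictlyGE a → L.IsStrictlyGE a → ∃ a' : ℤ, K'.IsStrictlyGE a') ∧
      (∀ a : ℤ, K.IsStrictlyLE a → L.IsStrictlyLE a → ∃ a' : ℤ, K'.IsStrictlyLE a') := by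
  refine ⟨Kp α, ι' α, α' α, ret α, ι'_α' α, ι'_ret α, ⟨htpy α⟩, split_surj α, ?_, ?_⟩
  · intro a h1 h2
    exact ⟨_, Kp_ge α a⟩
  · intro a h1 h2
    exact ⟨_, Kp_le α a⟩

end Groth.Agent.S6599
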