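import Groth.Statements.S6600
import Mathlib
-- import your own Groth.Agent.* helpers here

set_option autoImplicit false
universe v u
open CategoryTheory CategoryTheory.Limits
open CohDer

namespace Groth.Agent.S6600

open CategoryTheory.Pretriangulated in
/-- Let D be a triangulated category, A ⊂ D a full subcategory invariant under all shifts, and X → Y → Z
→ X⟦1⟧ a distinguished triangle. Then Z lies in the right orthogonal A^⊥ if and only if Hom(A, X) →
Hom(A, Y) is bijective for every object A of A. -/
theorem result {D : Type u} [Category.{v} D] [Preadditive D] [HasZeroObject D] [HasShift D ℤ]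
    [∀ n : ℤ, (shiftFunctor D n).Additive] [Pretriangulated D] [IsTriangulated D]
    (P : ObjectProperty D) [P.IsStableUnderShift ℤ] (T : Triangle D) (hT : T ∈ distinguishedTriangles) :
    P.rightOrthogonal T.obj₃ ↔ ∀ A : D, P A → Function.Bijective (fun u : A ⟶ T.obj₁ => u ≫ T.mor₁) := by
  constructor
  · intro hZ A hA
    constructor
    · intro u₁ u₂ h
      have h0 : (u₁ - u₂) ≫ T.mor₁ = 0 := by
        rw [Preadditive.sub_comp]; exact sub_eq_zero.mpr h
      obtain ⟨w, hw⟩ := Pretriangulated.Triangle.coyoneda_exact₂ _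
        (Pretriangulated.inv_rot_of_distTriang _ hT) (u₁ - u₂) h0
      have hZ' : P.rightOrthogonal ((shiftFunctor D (-1 : ℤ)).obj T.obj₃) :=
        P.rightOrthogonal.le_shift (-1) _ hZ
      have : w = 0 := hZ' w hA
      rw [this, zero_comp] at hw
      exact sub_eq_zero.mp hw
    · intro v
      obtain ⟨u, hu⟩ := Pretriangulated.Triangle.coyoneda_exact₂ T hT v (hZ (v ≫ T.mor₂) hA)
      exact ⟨u, hu.symm⟩
  · intro h A w hA
    -- first: `w ≫ T.mor₃ = 0`
    have h1 : w ≫ T.mor₃ = 0 := by
      set a := w ≫ T.mor₃ with ha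
      have ha0 : a ≫ (shiftFunctor D (1 : ℤ)).map T.mor₁ = 0 := by
        rw [ha, Category.assoc, Pretriangulated.comp_distTriang_mor_zero₃₁ _ hT, comp_zero]
      let e := shiftFunctorCompIsoId D (1 : ℤ) (-1) (by simp)
      have hA' : P ((shiftFunctor D (-1 : ℤ)).obj A) := P.le_shift (-1) _ hA
      have h2 : ((shiftFunctor D (-1 : ℤ)).map a ≫ e.hom.app T.obj₁) ≫ T.mor₁ = 0 ≫ T.mor₁ := by
        have nat := e.hom.naturality T.mor₁
        simp only [Functor.comp_map, Functor.id_map] at nat
        rw [Category.assoc, ← nat, ← Category.assoc, ← Functor.map_comp, ha0, Functor.map_zero,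
          zero_comp, zero_comp]
      have h3 := (h _ hA').1 h2
      have h4 : (shiftFunctor D (-1 : ℤ)).map a = 0 := by
        rw [← cancel_mono (e.hom.app T.obj₁), zero_comp]; exact h3
      exact (shiftFunctor D (-1 : ℤ)).map_injective (by rw [h4, Functor.map_zero])
    obtain ⟨v, hv⟩ := Pretriangulated.Triangle.coyoneda_exact₃ T hT w h1
    obtain ⟨u, hu⟩ := (h A hA).2 v
    rw [hv, ← hu]
    show (u ≫ T.mor₁) ≫ T.mor₂ = 0
    rw [Category.assoc, Pretriangulated.comp_distTriang_mor_zero₁₂ _ hT, comp_zero]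

end Groth.Agent.S6600
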