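import Groth.Statements.S6601
import Mathlib
-- import your own Groth.Agent.* helpers here

set_option autoImplicit false
universe v u
open CategoryTheory CategoryTheory.Limits
open CohDer

namespace Groth.Agent.S6601

open CategoryTheory.Pretriangulated in
/-- Let D be a triangulated category, B ⊂ D a full subcategory invariant under all shifts, and X → Y → Z
→ X⟦1⟧ a distinguished triangle. Then X lies in the left orthogonal ^⊥B if and only if Hom(Z, B) →
Hom(Y, B) is bijective for every object B of B. -/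
theorem result {D : Type u} [Category.{v} D] [Preadditive D] [HasZeroObject D] [HasShift D ℤ]
    [∀ n : ℤ, (shiftFunctor D n).Additive] [Pretriangulated D] [IsTriangulated D]
    (P : ObjectProperty D) [P.IsStableUnderShift ℤ] (T : Triangle D) (hT : T ∈ distinguishedTriangles) :
    P.leftOrthogonal T.obj₁ ↔ ∀ B : D, P B → Function.Bijective (fun u : T.obj₃ ⟶ B => T.mor₂ ≫ u) := by
  constructor
  · intro hX B hB
    constructor
    · intro u₁ u₂ h
      have h0 : T.mor₂ ≫ (u₁ - u₂) = 0 := by
        rw [Preadditive.comp_sub]; exact sub_eq_zero.mpr h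
      obtain ⟨w, hw⟩ := Pretriangulated.Triangle.yoneda_exact₃ T hT (u₁ - u₂) h0
      have hX' : P.leftOrthogonal ((shiftFunctor D (1 : ℤ)).obj T.obj₁) :=
        P.leftOrthogonal.le_shift 1 _ hX
      have : w = 0 := hX' w hB
      rw [this, comp_zero] at hw
      exact sub_eq_zero.mp hw
    · intro v
      obtain ⟨u, hu⟩ := Pretriangulated.Triangle.yoneda_exact₂ T hT v (hX (T.mor₁ ≫ v) hB)
      exact ⟨u, hu.symm⟩
  · intro h B w hB
    -- use the inverse rotated triangle, written explicitly
    let m₁ : (shiftFunctor D (-1 : ℤ)).obj T.obj₃ ⟶ T.obj₁ :=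
      -(shiftFunctor D (-1 : ℤ)).map T.mor₃ ≫ (shiftEquiv D (1 : ℤ)).unitIso.inv.app _
    have hT' : Pretriangulated.Triangle.mk m₁ T.mor₁
        (T.mor₂ ≫ (shiftEquiv D (1 : ℤ)).counitIso.inv.app _) ∈ distinguishedTriangles :=
      Pretriangulated.inv_rot_of_distTriang _ hT
    have hm₁ : (shiftFunctor D (-1 : ℤ)).map T.mor₂ ≫ m₁ = 0 := by
      simp only [m₁]
      rw [Preadditive.comp_neg, neg_eq_zero,
        ← Category.assoc, ← Functor.map_comp,
        Pretriangulated.comp_distTriang_mor_zero₂₃ _ hT, Functor.map_zero, zero_comp]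
    have h1 : m₁ ≫ w = 0 := by
      set a : (shiftFunctor D (-1 : ℤ)).obj T.obj₃ ⟶ B := m₁ ≫ w with ha
      have ha0 : (shiftFunctor D (-1 : ℤ)).map T.mor₂ ≫ a = 0 := by
        rw [ha, ← Category.assoc, hm₁, zero_comp]
      let e := shiftFunctorCompIsoId D (-1 : ℤ) 1 (by simp)
      have hB' : P ((shiftFunctor D (1 : ℤ)).obj B) := P.le_shift 1 _ hB
      have h2 : T.mor₂ ≫ (e.inv.app T.obj₃ ≫ (shiftFunctor D (1 : ℤ)).map a) = T.mor₂ ≫ 0 := by
        have nat := e.inv.naturality T.mor₂
        simp only [Functor.comp_map, Functor.id_map] at nat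
        rw [← Category.assoc, nat, Category.assoc, ← Functor.map_comp, ha0, Functor.map_zero,
          comp_zero, comp_zero]
      have h3 := (h _ hB').1 h2
      have h4 : (shiftFunctor D (1 : ℤ)).map a = 0 :=
        (cancel_epi (e.inv.app T.obj₃) (g := (shiftFunctor D (1 : ℤ)).map a) (h := 0)).mp
          (by rw [comp_zero]; exact h3)
      exact (shiftFunctor D (1 : ℤ)).map_injective (by rw [h4, Functor.map_zero])
    obtain ⟨v, hv⟩ := Pretriangulated.Triangle.yoneda_exact₂ _ hT' w h1
    obtain ⟨u, hu⟩ := (h B hB).2 v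
    rw [hv, ← hu]
    show T.mor₁ ≫ (T.mor₂ ≫ u) = 0
    rw [← Category.assoc, Pretriangulated.comp_distTriang_mor_zero₁₂ _ hT, zero_comp]

end Groth.Agent.S6601
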