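import Groth.Statements.S6602
import Mathlib

set_option autoImplicit false
universe v u
open CategoryTheory CategoryTheory.Limits
open CohDer

namespace Groth.Agent.S6602

open CategoryTheory.Pretriangulated in
/-- (1) ⇔ (2): let D be a triangulated category and B a full triangulated subcategory. The inclusion
functor B → D has a left adjoint if and only if for every X in D there is a distinguished triangle A
→ X → B → A⟦1⟧ with B in B and A in the left orthogonal ^⊥B. (The published statement further
asserts that B is then saturated and, when strictly full, equals the right orthogonal of its left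
orthogonal; this row asserts only the equivalence.) -/
theorem result {D : Type u} [Category.{v} D] [Preadditive D] [HasZeroObject D] [HasShift D ℤ]
    [∀ n : ℤ, (shiftFunctor D n).Additive] [Pretriangulated D] [IsTriangulated D]
    (P : ObjectProperty D) [P.IsTriangulated] :
    P.ι.IsRightAdjoint ↔ ∀ X : D, ∃ (A B : D) (f : A ⟶ X) (g : X ⟶ B) (h : B ⟶ (shiftFunctor D (1 : ℤ)).obj A),
      Triangle.mk f g h ∈ distinguishedTriangles ∧ P B ∧ P.leftOrthogonal A := by
  constructor
  · intro hadj X
    let F := P.ι.leftAdjoint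
    let adj : F ⊣ P.ι := Adjunction.ofIsRightAdjoint P.ι
    let B : D := (F.obj X).obj
    let g : X ⟶ B := adj.unit.app X
    obtain ⟨A, f, h, hT⟩ := distinguished_cocone_triangle₁ g
    refine ⟨A, B, f, g, h, hT, (F.obj X).property, ?_⟩
    -- universal property of g
    have huniq : ∀ {Y : D} (hY : P Y) (v₁ v₂ : B ⟶ Y), g ≫ v₁ = g ≫ v₂ → v₁ = v₂ := by
      intro Y hY v₁ v₂ hv
      have := (adj.homEquiv X ⟨Y, hY⟩).injective
        (a₁ := ObjectProperty.homMk v₁) (a₂ := ObjectProperty.homMk v₂)
        (by rw [Adjunction.homEquiv_unit, Adjunction.homEquiv_unit]; exact hv)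
      exact congrArg (fun w => w.hom) this
    have hex : ∀ {Y : D} (hY : P Y) (u : X ⟶ Y), ∃ v : B ⟶ Y, g ≫ v = u := by
      intro Y hY u
      obtain ⟨v, hv⟩ := (adj.homEquiv X ⟨Y, hY⟩).surjective u
      refine ⟨v.hom, ?_⟩
      rw [Adjunction.homEquiv_unit] at hv
      exact hv
    intro Y φ hY
    have hY1 : P (Y⟦(1 : ℤ)⟧) := P.le_shift (1 : ℤ) Y hY
    apply (shiftFunctor D (1 : ℤ)).map_injective
    rw [Functor.map_zero]
    -- h ≫ φ⟦1⟧ = 0
    have h1 : h ≫ φ⟦(1 : ℤ)⟧' = 0 := by
      apply huniq hY1
      have this : g ≫ h = 0 := comp_distTriang_mor_zero₂₃ _ hT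
      rw [comp_zero, reassoc_of% this, zero_comp]
    obtain ⟨ψ, hψ⟩ := Triangle.yoneda_exact₃ _ (rot_of_distTriang _ hT) (φ⟦(1 : ℤ)⟧') h1
    obtain ⟨u, rfl⟩ := (shiftFunctor D (1 : ℤ)).map_surjective ψ
    obtain ⟨v, rfl⟩ := hex hY u
    refine hψ.trans ?_
    have this : f ≫ g = 0 := comp_distTriang_mor_zero₁₂ _ hT
    show (-f⟦(1 : ℤ)⟧') ≫ (g ≫ v)⟦(1 : ℤ)⟧' = 0
    rw [Functor.map_comp, Preadditive.neg_comp, ← Category.assoc, ← Functor.map_comp, this,
      Functor.map_zero, zero_comp, neg_zero]
  · intro H
    have : ∀ X : D, HasInitial (StructuredArrow X P.ι) := by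
      intro X
      obtain ⟨A, B, f, g, h, hT, hB, hA⟩ := H X
      have hA1 : P.leftOrthogonal (A⟦(1 : ℤ)⟧) := P.leftOrthogonal.le_shift (1 : ℤ) A hA
      let B' : P.FullSubcategory := ⟨B, hB⟩
      let s : StructuredArrow X P.ι := StructuredArrow.mk (Y := B') g
      have hs : IsInitial s := by
        refine IsInitial.ofUniqueHom (fun t => ?_) (fun t m => ?_)
        · have h0 : f ≫ t.hom = 0 := hA _ t.right.property
          have hex := Triangle.yoneda_exact₂ _ hT t.hom h0
          exact StructuredArrow.homMk (ObjectProperty.homMk hex.choose) hex.choose_spec.symm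
        · apply StructuredArrow.ext
          apply ObjectProperty.hom_ext
          have h0 : f ≫ t.hom = 0 := hA _ t.right.property
          have hex := Triangle.yoneda_exact₂ _ hT t.hom h0
          show m.right.hom = hex.choose
          let v₁ : B ⟶ t.right.obj := m.right.hom
          let v₂ : B ⟶ t.right.obj := hex.choose
          show v₁ = v₂
          have h1 : g ≫ v₁ = t.hom := StructuredArrow.w m
          have h2 : g ≫ v₂ = t.hom := hex.choose_spec.symm
          have h3 : g ≫ (v₁ - v₂) = 0 := by
            rw [Preadditive.comp_sub, h1, h2, sub_self]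
          obtain ⟨w, hw⟩ := Triangle.yoneda_exact₃ _ hT (v₁ - v₂) h3
          have hw0 : w = 0 := hA1 w t.right.property
          rw [hw0, comp_zero] at hw
          exact sub_eq_zero.mp hw
      exact hs.hasInitial
    exact isRightAdjointOfStructuredArrowInitials _

end Groth.Agent.S6602
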