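import Groth.Statements.S6603
import Groth.Agent.Lib.Helper23TrLoc
-- import your own Groth.Agent.* helpers here

set_option autoImplicit false
universe v u v' u'
open CategoryTheory CategoryTheory.Limits
open CohDer

namespace Groth.Agent.S6603

open CategoryTheory.Pretriangulated in
/-- (1) ⇔ (2) ⇔ (3) ⇔ (4): let D be a pretriangulated category, S a multiplicative system compatible
with the triangulated structure, and Q : D → S⁻¹D the localization functor. For an object Z of D the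
following are equivalent: (1) Q(Z) = 0; (2) 0 : Z ⟶ Z' is in S for some Z'; (3) 0 : Z' ⟶ Z is in S
for some Z'; (4) there are an object Z' and a distinguished triangle (X, Y, Z ⊞ Z', f, g, h) with f
∈ S. (The further equivalences (5)–(7) for saturated S are not asserted.) -/
theorem result {D : Type u} [Category.{v} D] [Preadditive D] [HasZeroObject D] [HasShift D ℤ]
    [∀ n : ℤ, (shiftFunctor D n).Additive] [Pretriangulated D]
    (S : MorphismProperty D) [S.HasLeftCalculusOfFractions] [S.HasRightCalculusOfFractions]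
    [S.IsCompatibleWithTriangulation]
    {E : Type u'} [Category.{v'} E] (Q : D ⥤ E) [Q.IsLocalization S] (Z : D) :
    (IsZero (Q.obj Z) ↔ ∃ Z' : D, S (0 : Z ⟶ Z')) ∧
    (IsZero (Q.obj Z) ↔ ∃ Z' : D, S (0 : Z' ⟶ Z)) ∧
    (IsZero (Q.obj Z) ↔ ∃ (Z' X Y : D) (f : X ⟶ Y) (g : Y ⟶ Z ⊞ Z') (h : Z ⊞ Z' ⟶ (shiftFunctor D (1 : ℤ)).obj X),
      Triangle.mk f g h ∈ distinguishedTriangles ∧ S f) := by
  refine ⟨Groth.Agent.Lib.Helper23.isZero_obj_iff_exists_zero_mem_left S Q Z,
    Groth.Agent.Lib.Helper23.isZero_obj_iff_exists_zero_mem_right S Q Z, ?_⟩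
  constructor
  · intro hZ
    obtain ⟨Z'', hs⟩ := (Groth.Agent.Lib.Helper23.isZero_obj_iff_exists_zero_mem_right S Q Z).mp hZ
    obtain ⟨C, g, h, hT⟩ := Pretriangulated.distinguished_cocone_triangle (0 : Z'' ⟶ Z)
    have hR : Pretriangulated.Triangle.mk g h (-(shiftFunctor D (1 : ℤ)).map (0 : Z'' ⟶ Z)) ∈
        distinguishedTriangles := Pretriangulated.rot_of_distTriang _ hT
    obtain ⟨e, he₁, he₂⟩ := Pretriangulated.exists_iso_binaryBiproduct_of_distTriang _ hR
      (by
        show -(shiftFunctor D (1 : ℤ)).map (0 : Z'' ⟶ Z) = 0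
        rw [Functor.map_zero, neg_zero])
    have e' : C ≅ Z ⊞ (shiftFunctor D (1 : ℤ)).obj Z'' := e
    refine ⟨(shiftFunctor D (1 : ℤ)).obj Z'', Z'', Z, 0, g ≫ e'.hom, e'.inv ≫ h, ?_, hs⟩
    refine Pretriangulated.isomorphic_distinguished _ hT _ ?_
    exact Pretriangulated.Triangle.isoMk _ _ (Iso.refl Z'') (Iso.refl Z) e'.symm
      (by
        show (0 : Z'' ⟶ Z) ≫ 𝟙 Z = 𝟙 Z'' ≫ 0
        rw [zero_comp, comp_zero])
      (by
        show (g ≫ e'.hom) ≫ e'.inv = 𝟙 Z ≫ g
        rw [Category.assoc, e'.hom_inv_id, Category.comp_id, Category.id_comp])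
      (by
        show (e'.inv ≫ h) ≫ (shiftFunctor D (1 : ℤ)).map (𝟙 Z'') = e'.inv ≫ h
        rw [CategoryTheory.Functor.map_id, Category.comp_id])
  · rintro ⟨Z', X, Y, f, g, h, hT, hf⟩
    have h3 := Groth.Agent.Lib.Helper23.isZero_obj₃_iff_isIso_map_mor₁ S Q _ hT
    have h4 : IsIso (Q.map f) := Localization.inverts Q S f hf
    exact Groth.Agent.Lib.Helper23.isZero_obj_of_isZero_obj_biprod_left Q Z Z' (h3.mpr h4)

end Groth.Agent.S6603
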