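import Groth.Statements.S6604
import Groth.Agent.Lib.Helper23TrLoc
-- import your own Groth.Agent.* helpers here

set_option autoImplicit false
universe v u v' u'
open CategoryTheory CategoryTheory.Limits
open CohDer

namespace Groth.Agent.S6604

/-- Let D be a triangulated category, B a full triangulated subcategory and Q : D → D/B the quotient
functor. Q sends an object Z of D to zero (Q(Z) = 0, i.e. Z belongs to the kernel of Q) exactly
when, for a suitable object Z' of D, the direct sum Z ⊞ Z' is isomorphic to some object lying in B;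
put differently, the kernel is the smallest saturated, strictly full triangulated subcategory that
contains B. -/
theorem result {D : Type u} [Category.{v} D] [Preadditive D] [HasZeroObject D] [HasShift D ℤ]
    [∀ n : ℤ, (shiftFunctor D n).Additive] [Pretriangulated D] [IsTriangulated D]
    (B : ObjectProperty D) [B.IsTriangulated]
    {E : Type u'} [Category.{v'} E] (Q : D ⥤ E) [Q.IsLocalization B.trW] (Z : D) :
    IsZero (Q.obj Z) ↔ ∃ (Z' Y : D), B Y ∧ Nonempty (Z ⊞ Z' ≅ Y) := by
  constructor
  · intro hZ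
    obtain ⟨Z'', hs⟩ :=
      (Groth.Agent.Lib.Helper23.isZero_obj_iff_exists_zero_mem_right B.trW Q Z).mp hZ
    obtain ⟨C, g, h, hT, hC⟩ := hs
    have hR : Pretriangulated.Triangle.mk g h (-(shiftFunctor D (1 : ℤ)).map (0 : Z'' ⟶ Z)) ∈
        Pretriangulated.distinguishedTriangles := Pretriangulated.rot_of_distTriang _ hT
    obtain ⟨e, -, -⟩ := Pretriangulated.exists_iso_binaryBiproduct_of_distTriang _ hR
      (by
        show -(shiftFunctor D (1 : ℤ)).map (0 : Z'' ⟶ Z) = 0
        rw [Functor.map_zero, neg_zero])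
    have e' : C ≅ Z ⊞ (shiftFunctor D (1 : ℤ)).obj Z'' := e
    exact ⟨(shiftFunctor D (1 : ℤ)).obj Z'', C, hC, ⟨e'.symm⟩⟩
  · rintro ⟨Z', Y, hY, ⟨e⟩⟩
    open ZeroObject in
    have hT : Pretriangulated.Triangle.mk (0 : (0 : D) ⟶ Y) (𝟙 Y) 0 ∈
        Pretriangulated.distinguishedTriangles := Pretriangulated.contractible_distinguished₁ Y
    have h1 := Groth.Agent.Lib.Helper23.isZero_obj₃_iff_isIso_map_mor₁ B.trW Q _ hT
    have h2 : B.trW (0 : (0 : D) ⟶ Y) := ObjectProperty.trW.mk B hT hY
    have h3 : IsIso (Q.map (0 : (0 : D) ⟶ Y)) := Localization.inverts Q B.trW _ h2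
    have h4 : IsZero (Q.obj Y) := h1.mpr h3
    have h5 : IsZero (Q.obj (Z ⊞ Z')) := IsZero.of_iso h4 (Q.mapIso e)
    exact Groth.Agent.Lib.Helper23.isZero_obj_of_isZero_obj_biprod_left Q Z Z' h5

end Groth.Agent.S6604
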