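import Groth.Statements.S6606
import Mathlib
import Groth.Agent.Lib.Helper17PCoh10
import Groth.Agent.Lib.Helper21SPerf
-- import your own Groth.Agent.* helpers here

set_option autoImplicit false
universe v u
open CategoryTheory CategoryTheory.Limits
open CohDer

namespace Groth.Agent.S6606

open Groth.Agent.Lib.Helper17.PCoh10 Groth.Agent.Lib.Helper21.SPerf Pretriangulated

attribute [local instance] HasDerivedCategory.standard

/-- a chain map from a K-projective complex concentrated in degrees `≥ n` to a complex acyclic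
in degrees `≥ n` is null-homotopic. -/
theorem homotopy_zero {A : Type u} [Category.{v} A] [Abelian A]
    (P C : CochainComplex A ℤ) (n : ℤ) [P.IsStrictlyGE n] [P.IsKProjective]
    (hC : ∀ i : ℤ, n ≤ i → IsZero (C.homology i)) (φ : P ⟶ C) : Nonempty (Homotopy φ 0) := by
  have hLE : C.IsLE (n - 1) := by
    rw [CochainComplex.isLE_iff]
    intro i hi
    rw [HomologicalComplex.exactAt_iff_isZero_homology]
    exact hC i (by omega)
  obtain ⟨ψ, hψ⟩ := exists_map_eq_of_isKProjective P (C.truncLE (n - 1))
    (DerivedCategory.Q.map φ ≫ inv (DerivedCategory.Q.map (C.ιTruncLE (n - 1))))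
  have hψ0 : ψ = 0 := by
    ext i
    by_cases hi : i < n
    · exact (P.isZero_of_isStrictlyGE n i hi).eq_of_src _ _
    · exact ((C.truncLE (n - 1)).isZero_of_isStrictlyLE (n - 1) i (by omega)).eq_of_tgt _ _
  apply homotopy_of_Q_map_eq
  have : DerivedCategory.Q.map φ = DerivedCategory.Q.map ψ ≫ DerivedCategory.Q.map (C.ιTruncLE (n - 1)) := by
    rw [hψ, Category.assoc, IsIso.inv_hom_id, Category.comp_id]
  rw [this, hψ0, Functor.map_zero, Functor.map_zero, zero_comp]

/-- Let A be an abelian category, β : P ⟶ L and α : E ⟶ L morphisms of cochain complexes and n an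
integer. Assume P is a bounded complex of projective objects with Pⁱ = 0 for i < n, and that Hⁱ(α)
is an isomorphism for i > n and an epimorphism for i = n. Then there is γ : P ⟶ E such that γ ≫ α is
homotopic to β. -/
theorem result {A : Type u} [Category.{v} A] [Abelian A]
    (P E L : CochainComplex A ℤ) (β : P ⟶ L) (α : E ⟶ L) (n b : ℤ) [P.IsStrictlyGE n] [P.IsStrictlyLE b]
    (hP : ∀ i : ℤ, Projective (P.X i))
    (hiso : ∀ i : ℤ, n < i → IsIso (HomologicalComplex.homologyMap α i)) (hepi : Epi (HomologicalComplex.homologyMap α n)) :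
    ∃ γ : P ⟶ E, Nonempty (Homotopy (γ ≫ α) β) := by
  have : P.IsKProjective := CochainComplex.isKProjective_of_projective P b
  obtain ⟨h⟩ := homotopy_zero P (CochainComplex.mappingCone α) n
    (fun i hi => isZero_homology_mappingCone α n ⟨hiso, hepi⟩ i hi)
    (β ≫ CochainComplex.mappingCone.inr α)
  have hT := HomotopyCategory.mappingCone_triangleh_distinguished α
  have h0 : (HomotopyCategory.quotient _ _).map β ≫ (CochainComplex.mappingCone.triangleh α).mor₂ = 0 := by
    have := HomotopyCategory.eq_of_homotopy _ _ h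
    rw [Functor.map_comp, Functor.map_zero] at this
    exact this
  obtain ⟨g, hg⟩ := Triangle.coyoneda_exact₂ _ hT _ h0
  obtain ⟨γ, rfl⟩ := (HomotopyCategory.quotient _ _).map_surjective g
  refine ⟨γ, ⟨HomotopyCategory.homotopyOfEq _ _ ?_⟩⟩
  rw [Functor.map_comp]
  exact hg.symm

end Groth.Agent.S6606
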