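import Groth.Statements.S6607
import Mathlib.CategoryTheory.Triangulated.Orthogonal
-- import your own Groth.Agent.* helpers here

set_option autoImplicit false
universe v u
open CategoryTheory CategoryTheory.Limits
open CohDer

namespace Groth.Agent.S6607

open CategoryTheory.Pretriangulated

section
variable {D : Type u} [Category.{v} D] [Preadditive D] [HasZeroObject D] [HasShift D ℤ]
    [∀ n : ℤ, (shiftFunctor D n).Additive] [Pretriangulated D]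
    (P : ObjectProperty D)

/-- maps to `P`-objects extend along `X → Y` when the cocone is left orthogonal -/
theorem exists_ext {A X Y : D} (f : A ⟶ X) (g : X ⟶ Y) (k : Y ⟶ A⟦(1 : ℤ)⟧)
    (hT : Triangle.mk f g k ∈ distTriang D) (hA : P.leftOrthogonal A) {Z : D} (hZ : P Z)
    (x : X ⟶ Z) : ∃ y : Y ⟶ Z, g ≫ y = x := by
  obtain ⟨y, hy⟩ : ∃ y : Y ⟶ Z, x = g ≫ y := Triangle.yoneda_exact₂ _ hT x (hA _ hZ)
  exact ⟨y, hy.symm⟩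

/-- maps from `Y` to `P`-objects are detected on `X` -/
theorem eq_zero_of_comp [P.IsStableUnderShift ℤ] {A X Y : D} (f : A ⟶ X) (g : X ⟶ Y)
    (k : Y ⟶ A⟦(1 : ℤ)⟧)
    (hT : Triangle.mk f g k ∈ distTriang D) (hA : P.leftOrthogonal A) {Z : D} (hZ : P Z)
    (m : Y ⟶ Z) (hm : g ≫ m = 0) : m = 0 := by
  obtain ⟨m', hm'⟩ : ∃ m' : A⟦(1 : ℤ)⟧ ⟶ Z, m = k ≫ m' := Triangle.yoneda_exact₃ _ hT m hm
  have hA' : P.leftOrthogonal (A⟦(1 : ℤ)⟧) := P.leftOrthogonal.le_shift (1 : ℤ) _ hA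
  have : m' = 0 := hA' m' hZ
  rw [hm', this, comp_zero]

/-- the class of objects with a decomposition -/
def Dec : ObjectProperty D := fun X : D => ∃ (A Y : D) (f : A ⟶ X) (g : X ⟶ Y)
  (h : Y ⟶ (shiftFunctor D (1 : ℤ)).obj A),
    Triangle.mk f g h ∈ distinguishedTriangles ∧ P Y ∧ P.leftOrthogonal A

variable [P.IsTriangulated]

theorem dec_ext₂ (T : Triangle D) (hT : T ∈ distTriang D) (h₁ : Dec P T.obj₁) (h₃ : Dec P T.obj₃) :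
    Dec P T.obj₂ := by
  obtain ⟨A₁, Y₁, f₁, g₁, k₁, hT₁, hY₁, hA₁⟩ := h₁
  obtain ⟨A₃, Y₃, f₃, g₃, k₃, hT₃, hY₃, hA₃⟩ := h₃
  have hY₁' : P (Y₁⟦(1 : ℤ)⟧) := P.le_shift (1 : ℤ) _ hY₁
  -- the connecting map `s : Y₃ ⟶ Y₁⟦1⟧`
  obtain ⟨s, hs⟩ : ∃ s : Y₃ ⟶ Y₁⟦(1 : ℤ)⟧, g₃ ≫ s = T.mor₃ ≫ g₁⟦(1 : ℤ)⟧' :=
    exists_ext P f₃ g₃ k₃ hT₃ hA₃ hY₁' _
  obtain ⟨Y₂', a', b', hTY'⟩ := distinguished_cocone_triangle₂ s
  obtain ⟨Y₂, hY₂, ⟨e'⟩⟩ := P.ext_of_isTriangulatedClosed₂' _ hTY' hY₁ hY₃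
  have e : Y₂' ≅ Y₂ := e'
  let a : Y₁ ⟶ Y₂ := a' ≫ e.hom
  let b : Y₂ ⟶ Y₃ := e.inv ≫ b'
  have hTY : Triangle.mk a b s ∈ distTriang D :=
    isomorphic_distinguished _ hTY' _
      (Triangle.isoMk _ _ (Iso.refl _) e.symm (Iso.refl _)
        (by
          show (a' ≫ e.hom) ≫ e.inv = 𝟙 Y₁ ≫ a'
          rw [Category.assoc, e.hom_inv_id, Category.comp_id, Category.id_comp])
        (by
          show (e.inv ≫ b') ≫ 𝟙 Y₃ = e.inv ≫ b'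
          rw [Category.comp_id])
        (by
          show s ≫ (𝟙 Y₁)⟦(1 : ℤ)⟧' = 𝟙 Y₃ ≫ s
          rw [CategoryTheory.Functor.map_id, Category.comp_id, Category.id_comp]))
  obtain ⟨g₂, hg₂a, hg₂b⟩ : ∃ g₂ : T.obj₂ ⟶ Y₂, T.mor₁ ≫ g₂ = g₁ ≫ a ∧ T.mor₂ ≫ g₃ = g₂ ≫ b :=
    complete_distinguished_triangle_morphism₂ _ _ hT hTY g₁ g₃ hs.symm
  have hab : a ≫ b = 0 := comp_distTriang_mor_zero₁₂ _ hTY
  have hbs : b ≫ s = 0 := comp_distTriang_mor_zero₂₃ _ hTY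
  have hsa : s ≫ a⟦(1 : ℤ)⟧' = 0 := comp_distTriang_mor_zero₃₁ _ hTY
  obtain ⟨A₂, f₂, k₂, hT₂⟩ := distinguished_cocone_triangle₁ g₂
  refine ⟨A₂, Y₂, f₂, g₂, k₂, hT₂, hY₂, ?_⟩
  have hfg : f₂ ≫ g₂ = 0 := comp_distTriang_mor_zero₁₂ _ hT₂
  have hgk : g₂ ≫ k₂ = 0 := comp_distTriang_mor_zero₂₃ _ hT₂
  -- extension claim
  have hS : ∀ {Z : D} (_ : P Z) (ψ : T.obj₂ ⟶ Z), ∃ χ : Y₂ ⟶ Z, g₂ ≫ χ = ψ := by
    intro Z hZ ψ
    obtain ⟨χ₁, hχ₁⟩ := exists_ext P f₁ g₁ k₁ hT₁ hA₁ hZ (T.mor₁ ≫ ψ)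
    have hZ' : P (Z⟦(1 : ℤ)⟧) := P.le_shift (1 : ℤ) _ hZ
    have h0 : s ≫ χ₁⟦(1 : ℤ)⟧' = 0 := by
      refine eq_zero_of_comp P f₃ g₃ k₃ hT₃ hA₃ hZ' _ ?_
      rw [← Category.assoc, hs, Category.assoc, ← Functor.map_comp, hχ₁, Functor.map_comp,
        ← Category.assoc, comp_distTriang_mor_zero₃₁ _ hT, zero_comp]
    obtain ⟨c, hc⟩ : ∃ c : Y₂⟦(1 : ℤ)⟧ ⟶ Z⟦(1 : ℤ)⟧, χ₁⟦(1 : ℤ)⟧' = (-a⟦(1 : ℤ)⟧') ≫ c :=
      Triangle.yoneda_exact₃ _ (rot_of_distTriang _ hTY) _ h0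
    obtain ⟨χ₂', rfl⟩ := (shiftFunctor D (1 : ℤ)).map_surjective c
    have hχ₂ : χ₁ = a ≫ (-χ₂') := by
      apply (shiftFunctor D (1 : ℤ)).map_injective
      rw [hc]
      simp only [Functor.map_comp, Functor.map_neg, Preadditive.neg_comp, Preadditive.comp_neg]
    obtain ⟨ρ, hρ⟩ : ∃ ρ : T.obj₃ ⟶ Z, ψ - g₂ ≫ (-χ₂') = T.mor₂ ≫ ρ :=
      Triangle.yoneda_exact₂ _ hT (ψ - g₂ ≫ (-χ₂')) (by
        rw [Preadditive.comp_sub, ← Category.assoc, hg₂a, Category.assoc, ← hχ₂, hχ₁, sub_self])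
    obtain ⟨ρ₃, hρ₃⟩ := exists_ext P f₃ g₃ k₃ hT₃ hA₃ hZ ρ
    refine ⟨-χ₂' + b ≫ ρ₃, ?_⟩
    rw [Preadditive.comp_add, ← Category.assoc g₂ b, ← hg₂b, Category.assoc, hρ₃, ← hρ]
    abel
  -- detection claim
  have hI : ∀ {Z : D} (_ : P Z) (m : Y₂ ⟶ Z), g₂ ≫ m = 0 → m = 0 := by
    intro Z hZ m hm
    have h1 : a ≫ m = 0 := by
      refine eq_zero_of_comp P f₁ g₁ k₁ hT₁ hA₁ hZ _ ?_
      rw [← Category.assoc, ← hg₂a, Category.assoc, hm, comp_zero]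
    obtain ⟨m₃, hm₃⟩ : ∃ m₃ : Y₃ ⟶ Z, m = b ≫ m₃ := Triangle.yoneda_exact₂ _ hTY m h1
    have h2 : T.mor₂ ≫ (g₃ ≫ m₃) = 0 := by
      rw [← Category.assoc, hg₂b, Category.assoc, ← hm₃, hm]
    obtain ⟨n, hn⟩ : ∃ n : T.obj₁⟦(1 : ℤ)⟧ ⟶ Z, g₃ ≫ m₃ = T.mor₃ ≫ n :=
      Triangle.yoneda_exact₃ _ hT _ h2
    have hA₁' : P.leftOrthogonal (A₁⟦(1 : ℤ)⟧) := P.leftOrthogonal.le_shift (1 : ℤ) _ hA₁
    obtain ⟨n₁, hn₁⟩ : ∃ n₁ : Y₁⟦(1 : ℤ)⟧ ⟶ Z, n = (-g₁⟦(1 : ℤ)⟧') ≫ n₁ :=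
      Triangle.yoneda_exact₃ _ (rot_of_distTriang _ (rot_of_distTriang _ hT₁)) n (by
        show (-f₁⟦(1 : ℤ)⟧') ≫ n = 0
        have h0 : f₁⟦(1 : ℤ)⟧' ≫ n = 0 := hA₁' _ hZ
        rw [Preadditive.neg_comp, h0, neg_zero])
    have h3 : m₃ = s ≫ (-n₁) := by
      rw [← sub_eq_zero]
      refine eq_zero_of_comp P f₃ g₃ k₃ hT₃ hA₃ hZ _ ?_
      rw [Preadditive.comp_sub, hn, hn₁, ← Category.assoc g₃ s, hs]
      simp only [Preadditive.neg_comp, Preadditive.comp_neg, Category.assoc, sub_self]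
    rw [hm₃, h3, ← Category.assoc, hbs, zero_comp]
  intro Z φ hZ
  have hZ' : P (Z⟦(1 : ℤ)⟧) := P.le_shift (1 : ℤ) _ hZ
  have h1 : k₂ ≫ φ⟦(1 : ℤ)⟧' = 0 := hI hZ' _ (by rw [← Category.assoc, hgk, zero_comp])
  obtain ⟨c, hc⟩ : ∃ c : T.obj₂⟦(1 : ℤ)⟧ ⟶ Z⟦(1 : ℤ)⟧, φ⟦(1 : ℤ)⟧' = (-f₂⟦(1 : ℤ)⟧') ≫ c :=
    Triangle.yoneda_exact₃ _ (rot_of_distTriang _ hT₂) _ h1
  obtain ⟨ψ, rfl⟩ := (shiftFunctor D (1 : ℤ)).map_surjective c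
  obtain ⟨χ, hχ⟩ := hS hZ ψ
  apply (shiftFunctor D (1 : ℤ)).map_injective
  rw [hc, ← hχ, Preadditive.neg_comp, ← Functor.map_comp, ← Category.assoc, hfg,
    zero_comp, Functor.map_zero, neg_zero]

open ZeroObject in
theorem dec_isTriangulated : (Dec P).IsTriangulated where
  exists_zero := by
    obtain ⟨Z, hZ, hPZ⟩ := ObjectProperty.ContainsZero.exists_zero (P := P)
    refine ⟨Z, hZ, 0, Z, 0, 𝟙 Z, 0, contractible_distinguished₁ Z, hPZ, ?_⟩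
    intro Q φ _
    exact (isZero_zero D).eq_of_src _ _
  isStableUnderShiftBy n :=
    { le_shift := by
        rintro X ⟨A, B, f, g, h, hT, hA, hB⟩
        exact ⟨_, _, _, _, _, Triangle.shift_distinguished _ hT n, P.le_shift n _ hA,
          P.leftOrthogonal.le_shift n _ hB⟩ }
  ext₂' T hT h₁ h₃ := ObjectProperty.le_isoClosure _ _ (dec_ext₂ P T hT h₁ h₃)

end

open CategoryTheory.Pretriangulated in
/-- Let D be a triangulated category and B a full triangulated subcategory. Let P(X) be the property: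
there is a distinguished triangle A → X → B → A⟦1⟧ with B in B and A in ^⊥B. Then P satisfies
two-out-of-three in distinguished triangles, i.e. it is stable under all shifts and closed under
extensions (a triangulated object property). -/
theorem result {D : Type u} [Category.{v} D] [Preadditive D] [HasZeroObject D] [HasShift D ℤ]
    [∀ n : ℤ, (shiftFunctor D n).Additive] [Pretriangulated D] [IsTriangulated D]
    (B : ObjectProperty D) [B.IsTriangulated] :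
    ObjectProperty.IsTriangulated (fun X : D => ∃ (A Y : D) (f : A ⟶ X) (g : X ⟶ Y) (h : Y ⟶ (shiftFunctor D (1 : ℤ)).obj A),
      Triangle.mk f g h ∈ distinguishedTriangles ∧ B Y ∧ B.leftOrthogonal A) := by
  exact dec_isTriangulated B

end Groth.Agent.S6607
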