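import Groth.Statements.S6610
import Mathlib
import Groth.Agent.S1123
import Groth.Agent.Lib.Helper23Dual
-- import your own Groth.Agent.* helpers here

set_option autoImplicit false
universe v u
open CategoryTheory CategoryTheory.Limits
open CohDer

namespace Groth.Agent.S6610
open Opposite Groth.Agent.Lib.Helper23Dual


variable {A : Type u} [Category.{v} A] [Abelian A]

theorem dualMap_zero (K L : CochainComplex A ℤ) : dualMap (0 : K ⟶ L) = 0 := rfl

theorem dualMap'_zero (K L : CochainComplex Aᵒᵖ ℤ) : dualMap' (0 : K ⟶ L) = 0 := rfl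

/-- the dual of a short complex of cochain complexes -/
abbrev dualSC (S : ShortComplex (CochainComplex A ℤ)) : ShortComplex (CochainComplex Aᵒᵖ ℤ) :=
  ShortComplex.mk (dualMap S.g) (dualMap S.f) (by rw [← dualMap_comp, S.zero, dualMap_zero])

/-- the dual of a short complex of cochain complexes -/
abbrev dualSC' (S : ShortComplex (CochainComplex Aᵒᵖ ℤ)) : ShortComplex (CochainComplex A ℤ) :=
  ShortComplex.mk (dualMap' S.g) (dualMap' S.f) (by rw [← dualMap'_comp, S.zero, dualMap'_zero])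

theorem dualSC_shortExact (S : ShortComplex (CochainComplex A ℤ)) (hS : S.ShortExact) :
    (dualSC S).ShortExact := by
  apply HomologicalComplex.shortExact_of_degreewise_shortExact
  intro k
  exact ((HomologicalComplex.shortExact_iff_degreewise_shortExact S).1 hS (-k)).op

theorem dualSC'_shortExact (S : ShortComplex (CochainComplex Aᵒᵖ ℤ)) (hS : S.ShortExact) :
    (dualSC' S).ShortExact := by
  apply HomologicalComplex.shortExact_of_degreewise_shortExact
  intro k
  exact ((HomologicalComplex.shortExact_iff_degreewise_shortExact S).1 hS (-k)).unop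

/-- Let A be an abelian category with enough projectives and S : 0 → A• → B• → C• → 0 a short exact
sequence of cochain complexes all vanishing above degree n. Then there are a short exact sequence T
: 0 → P₁ → P₂ → P₃ → 0 of complexes of projective objects vanishing above degree n and a morphism of
short exact sequences T ⟶ S whose three components are quasi-isomorphisms (projective resolutions).
(The published statement is phrased for bounded below complexes; projective resolutions are bounded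
above by definition and exist only for complexes with cohomology bounded above, so the statement is
given here for bounded above complexes, the case dual to the injective one.) -/
theorem result {A : Type u} [Category.{v} A] [Abelian A] [EnoughProjectives A]
    (S : ShortComplex (CochainComplex A ℤ)) (hS : S.ShortExact) (n : ℤ)
    [S.X₁.IsStrictlyLE n] [S.X₂.IsStrictlyLE n] [S.X₃.IsStrictlyLE n] :
    ∃ (T : ShortComplex (CochainComplex A ℤ)) (φ : T ⟶ S), T.ShortExact ∧
      T.X₁.IsStrictlyLE n ∧ T.X₂.IsStrictlyLE n ∧ T.X₃.IsStrictlyLE n ∧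
      (∀ k : ℤ, Projective (T.X₁.X k) ∧ Projective (T.X₂.X k) ∧ Projective (T.X₃.X k)) ∧
      QuasiIso φ.τ₁ ∧ QuasiIso φ.τ₂ ∧ QuasiIso φ.τ₃ := by
  have i₁ : (dualSC S).X₁.IsStrictlyGE (-n) := isStrictlyGE_dual S.X₃ n
  have i₂ : (dualSC S).X₂.IsStrictlyGE (-n) := isStrictlyGE_dual S.X₂ n
  have i₃ : (dualSC S).X₃.IsStrictlyGE (-n) := isStrictlyGE_dual S.X₁ n
  obtain ⟨T', φ', hT', b₁, b₂, b₃, hinj, q₁, q₂, q₃⟩ :=
    Groth.Agent.S1123.result (dualSC S) (dualSC_shortExact S hS) (-n)
  obtain ⟨t₁, ht₁⟩ : ∃ t₁ : dual S.X₃ ⟶ T'.X₁, t₁ = φ'.τ₁ := ⟨_, rfl⟩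
  obtain ⟨t₂, ht₂⟩ : ∃ t₂ : dual S.X₂ ⟶ T'.X₂, t₂ = φ'.τ₂ := ⟨_, rfl⟩
  obtain ⟨t₃, ht₃⟩ : ∃ t₃ : dual S.X₁ ⟶ T'.X₃, t₃ = φ'.τ₃ := ⟨_, rfl⟩
  have c₁₂ : t₁ ≫ T'.f = dualMap S.g ≫ t₂ := by rw [ht₁, ht₂]; exact φ'.comm₁₂
  have c₂₃ : t₂ ≫ T'.g = dualMap S.f ≫ t₃ := by rw [ht₂, ht₃]; exact φ'.comm₂₃
  rw [← ht₁] at q₁
  rw [← ht₂] at q₂
  rw [← ht₃] at q₃
  let φ : dualSC' T' ⟶ S :=
    { τ₁ := dualMap' t₃ ≫ (ddIso S.X₁).hom
      τ₂ := dualMap' t₂ ≫ (ddIso S.X₂).hom
      τ₃ := dualMap' t₁ ≫ (ddIso S.X₃).hom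
      comm₁₂ := by
        show (dualMap' t₃ ≫ (ddIso S.X₁).hom) ≫ S.f =
          dualMap' T'.g ≫ dualMap' t₂ ≫ (ddIso S.X₂).hom
        rw [Category.assoc, ← ddIso_naturality S.f, ← Category.assoc, ← Category.assoc,
          ← dualMap'_comp, ← dualMap'_comp, c₂₃]
      comm₂₃ := by
        show (dualMap' t₂ ≫ (ddIso S.X₂).hom) ≫ S.g =
          dualMap' T'.f ≫ dualMap' t₁ ≫ (ddIso S.X₃).hom
        rw [Category.assoc, ← ddIso_naturality S.g, ← Category.assoc, ← Category.assoc,
          ← dualMap'_comp, ← dualMap'_comp, c₁₂] }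
  refine ⟨dualSC' T', φ, dualSC'_shortExact T' hT', isStrictlyLE_dual' T'.X₃ n,
    isStrictlyLE_dual' T'.X₂ n, isStrictlyLE_dual' T'.X₁ n, fun k => ⟨?_, ?_, ?_⟩, ?_, ?_, ?_⟩
  · have := (hinj (-k)).2.2
    show Projective (unop (T'.X₃.X (-k)))
    infer_instance
  · have := (hinj (-k)).2.1
    show Projective (unop (T'.X₂.X (-k)))
    infer_instance
  · have := (hinj (-k)).1
    show Projective (unop (T'.X₁.X (-k)))
    infer_instance
  · have := (quasiIso_dualMap'_iff t₃).2 q₃
    show QuasiIso (dualMap' t₃ ≫ (ddIso S.X₁).hom)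
    infer_instance
  · have := (quasiIso_dualMap'_iff t₂).2 q₂
    show QuasiIso (dualMap' t₂ ≫ (ddIso S.X₂).hom)
    infer_instance
  · have := (quasiIso_dualMap'_iff t₁).2 q₁
    show QuasiIso (dualMap' t₁ ≫ (ddIso S.X₃).hom)
    infer_instance

end Groth.Agent.S6610
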