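import Groth.Statements.S6611
import Mathlib

set_option autoImplicit false
universe v u
open CategoryTheory CategoryTheory.Limits
open CohDer

namespace Groth.Agent.S6611

open DerivedCategory in
attribute [local instance] HasDerivedCategory.standard in
/-- step 1: lift up to homotopy -/
lemma exists_homotopy {A : Type u} [Category.{v} A] [Abelian A]
    (K L I : CochainComplex A ℤ) (α : K ⟶ L) [QuasiIso α] [I.IsKInjective] (γ : K ⟶ I) :
    ∃ β' : L ⟶ I, Nonempty (Homotopy (α ≫ β') γ) := by
  let q := HomotopyCategory.quotient A (ComplexShape.up ℤ)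
  have : IsIso (Q.map α) := (isIso_Q_map_iff_quasiIso A α).mpr inferInstance
  have : IsIso (Qh.map (q.map α)) := by
    have h := quotientCompQhIso_hom_naturality α
    have : Qh.map (q.map α) = (quotientCompQhIso A).hom.app K ≫ Q.map α ≫
        (quotientCompQhIso A).inv.app L := by
      rw [← Category.assoc, ← h, Category.assoc, Iso.hom_inv_id_app]
      exact (Category.comp_id _).symm
    rw [this]; infer_instance
  obtain ⟨b, hb⟩ := (CochainComplex.IsKInjective.Qh_map_bijective (q.obj L) I).surjective
    (inv (Qh.map (q.map α)) ≫ Qh.map (q.map γ))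
  obtain ⟨β', rfl⟩ := q.map_surjective b
  refine ⟨β', ⟨HomotopyCategory.homotopyOfEq _ _ ?_⟩⟩
  apply (CochainComplex.IsKInjective.Qh_map_bijective (q.obj K) I).injective
  show Qh.map (q.map (α ≫ β')) = Qh.map (q.map γ)
  rw [q.map_comp, Qh.map_comp, hb, IsIso.hom_inv_id_assoc]


/-- Let A be an abelian category, α : K ⟶ L a quasi-isomorphism of cochain complexes which is injective
in every degree, I a bounded below complex of injective objects and γ : K ⟶ I a morphism. Then there
is a morphism β : L ⟶ I with α ≫ β = γ. -/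
theorem result {A : Type u} [Category.{v} A] [Abelian A]
    (K L I : CochainComplex A ℤ) (α : K ⟶ L) [QuasiIso α] (hα : ∀ n : ℤ, Mono (α.f n))
    (a : ℤ) [I.IsStrictlyGE a] (hI : ∀ n : ℤ, Injective (I.X n)) (γ : K ⟶ I) :
    ∃ β : L ⟶ I, α ≫ β = γ := by
  have := hI
  have := hα
  have : I.IsKInjective := CochainComplex.isKInjective_of_injective I a
  obtain ⟨β', ⟨h⟩⟩ := exists_homotopy K L I α γ
  let h' : ∀ i j, L.X i ⟶ I.X j := fun i j => Injective.factorThru (h.hom i j) (α.f i)
  have hh' : ∀ i j, α.f i ≫ h' i j = h.hom i j := fun i j => Injective.comp_factorThru _ _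
  refine ⟨β' - Homotopy.nullHomotopicMap h', ?_⟩
  rw [Preadditive.comp_sub, Homotopy.comp_nullHomotopicMap]
  have : (fun i j => α.f i ≫ h' i j) = h.hom := by
    funext i j; exact hh' i j
  rw [this]
  ext n
  have := h.comm n
  simp only [HomologicalComplex.sub_f_apply, Homotopy.nullHomotopicMap]
  rw [this]
  abel

end Groth.Agent.S6611
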