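import Groth.Statements.S6612
import Mathlib

set_option autoImplicit false
universe v u
open CategoryTheory CategoryTheory.Limits
open CohDer

namespace Groth.Agent.S6612

/-- Let A be an additive category and 0 → A₂ → B₂ → C₂ → 0 a termwise split exact sequence of complexes.
Given a chain map b from a complex B₁ into B₂ and a chain map b' from B₂ into a complex B₃, suppose
that both composites b ≫ (B₂ → C₂) and (A₂ → B₂) ≫ b' are null-homotopic. Then b ≫ b' is homotopic
to zero. (The published statement has three termwise split sequences Aᵢ → Bᵢ → Cᵢ and asks both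
squares of each diagram to commute up to homotopy; this row keeps only the middle sequence and the
two conditions at B₂ that the argument uses, so it is more general.) -/
theorem result {V : Type u} [Category.{v} V] [Preadditive V] [HasBinaryBiproducts V]
    (S : ShortComplex (CochainComplex V ℤ))
    (σ : ∀ n : ℤ, (S.map (HomologicalComplex.eval V (ComplexShape.up ℤ) n)).Splitting)
    {B₁ B₃ : CochainComplex V ℤ} (b : B₁ ⟶ S.X₂) (b' : S.X₂ ⟶ B₃)
    (hb : Nonempty (Homotopy (b ≫ S.g) 0)) (hb' : Nonempty (Homotopy (S.f ≫ b') 0)) :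
    Nonempty (Homotopy (b ≫ b') 0) := by
  obtain ⟨h⟩ := hb
  obtain ⟨h'⟩ := hb'
  let r : ∀ n, S.X₂.X n ⟶ S.X₁.X n := fun n => (σ n).r
  let s : ∀ n, S.X₃.X n ⟶ S.X₂.X n := fun n => (σ n).s
  have hfr : ∀ n, S.f.f n ≫ r n = 𝟙 (S.X₁.X n) := fun n => (σ n).f_r
  have hsg : ∀ n, s n ≫ S.g.f n = 𝟙 (S.X₃.X n) := fun n => (σ n).s_g
  have hid : ∀ n, r n ≫ S.f.f n + S.g.f n ≫ s n = 𝟙 (S.X₂.X n) := fun n => (σ n).id
  let hom : ∀ i j, B₁.X i ⟶ S.X₂.X j := fun i j => h.hom i j ≫ s j
  have hzero : ∀ i j, ¬ (ComplexShape.up ℤ).Rel j i → hom i j = 0 := by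
    intro i j hij
    simp only [hom, h.zero i j hij, zero_comp]
  let N : B₁ ⟶ S.X₂ := Homotopy.nullHomotopicMap hom
  have hN : Homotopy N 0 := Homotopy.nullHomotopy hom hzero
  let bt : B₁ ⟶ S.X₂ := b - N
  have hbt : Homotopy b bt :=
    Homotopy.equivSubZero.symm ((Homotopy.ofEq (show b - bt = N by simp [bt])).trans hN)
  have hNg : N ≫ S.g = b ≫ S.g := by
    have h1 : N ≫ S.g = Homotopy.nullHomotopicMap (fun i j => h.hom i j) := by
      rw [Homotopy.nullHomotopicMap_comp]
      congr 1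
      funext i j
      simp only [hom, Category.assoc, hsg, Category.comp_id]
    rw [h1]
    ext n
    have h2 := h.comm n
    rw [HomologicalComplex.zero_f, add_zero] at h2
    rw [h2]
    rfl
  have hbtg : bt ≫ S.g = 0 := by
    simp only [bt, Preadditive.sub_comp, hNg, sub_self]
  have hbtgn : ∀ n, bt.f n ≫ S.g.f n = 0 := by
    intro n
    have := congrArg (fun φ => φ.f n) hbtg
    simpa using this
  have hcf : ∀ n, (bt.f n ≫ r n) ≫ S.f.f n = bt.f n := by
    intro n
    have h1 : bt.f n = bt.f n ≫ (r n ≫ S.f.f n + S.g.f n ≫ s n) := by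
      rw [hid, Category.comp_id]
    conv_rhs => rw [h1]
    rw [Preadditive.comp_add, ← Category.assoc (bt.f n) (S.g.f n), hbtgn, zero_comp, add_zero,
      Category.assoc]
  let c : B₁ ⟶ S.X₁ :=
    { f := fun n => bt.f n ≫ r n
      comm' := by
        intro i j _
        have e1 : (bt.f i ≫ r i) ≫ S.X₁.d i j ≫ S.f.f j = B₁.d i j ≫ bt.f j := by
          rw [← S.f.comm i j, ← Category.assoc, hcf, bt.comm i j]
        calc (bt.f i ≫ r i) ≫ S.X₁.d i j
            = ((bt.f i ≫ r i) ≫ S.X₁.d i j) ≫ (S.f.f j ≫ r j) := by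
              rw [hfr, Category.comp_id]
          _ = ((bt.f i ≫ r i) ≫ S.X₁.d i j ≫ S.f.f j) ≫ r j := by simp only [Category.assoc]
          _ = (B₁.d i j ≫ bt.f j) ≫ r j := by rw [e1]
          _ = B₁.d i j ≫ bt.f j ≫ r j := Category.assoc _ _ _ }
  have hc : c ≫ S.f = bt := by
    ext n
    exact hcf n
  refine ⟨(hbt.compRight b').trans ((Homotopy.ofEq ?_).trans
    ((h'.compLeft c).trans (Homotopy.ofEq comp_zero)))⟩
  rw [← hc, Category.assoc]

end Groth.Agent.S6612
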