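import Groth.Statements.S6614
import Mathlib.Tactic.Abel
import Groth.Agent.S1079
-- import your own Groth.Agent.* helpers here

set_option autoImplicit false
universe v u
open CategoryTheory CategoryTheory.Limits Opposite
open CohDer

namespace Groth.Agent.S6614

/-- Let D be a triangulated category and (A_n) an ℕ-indexed inverse system of D which is essentially
constant with value A relative to the cone c. Then there are an index i and direct sum
decompositions A_{i+j} ≅ A ⊞ Z_j (j ≥ 0) such that (a) c_{i+j} is the inclusion of the summand A and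
the transition maps A_{i+k} → A_{i+j} are 𝟙_A ⊕ (Z_k → Z_j), and (b) for every j there is k ≥ j with
Z_k → Z_j zero. (The published statement is an equivalence whose converse is given without proof;
this row states only the forward implication.) -/
theorem result {D : Type u} [Category.{v} D] [Preadditive D] [HasZeroObject D] [HasShift D ℤ]
    [∀ n : ℤ, (shiftFunctor D n).Additive] [Pretriangulated D] [IsTriangulated D]
    (X : ARSys.PS D) (A : D) (c : (Functor.const ℕᵒᵖ).obj A ⟶ X) (hX : DerCA.IsEssConstant X A c) :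
    ∃ (i : ℕ) (Z : ℕ → D) (e : ∀ j : ℕ, X.obj (op (i + j)) ≅ A ⊞ Z j) (z : ∀ j k : ℕ, j ≤ k → (Z k ⟶ Z j)),
      (∀ j : ℕ, c.app (op (i + j)) ≫ (e j).hom = biprod.inl) ∧
      (∀ (j k : ℕ) (hjk : j ≤ k), (e k).inv ≫ ARSys.tr X (Nat.add_le_add_left hjk i) = biprod.map (𝟙 A) (z j k hjk) ≫ (e j).inv) ∧
      (∀ j : ℕ, ∃ (k : ℕ) (hjk : j ≤ k), z j k hjk = 0) := by
  obtain ⟨i, s, hs, hk⟩ := hX
  obtain ⟨c', hc'⟩ : ∃ c' : ∀ m : ℕ, A ⟶ X.obj (op m), ∀ m, c' m = c.app (op m) :=
    ⟨fun m => c.app (op m), fun _ => rfl⟩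
  simp only [← hc']
  rw [← hc'] at hs
  simp only [← hc'] at hk
  -- naturality of the cone
  have hc : ∀ {a b : ℕ} (h : a ≤ b), c' b ≫ ARSys.tr X h = c' a := by
    intro a b h
    have := c.naturality (homOfLE h).op
    simp only [Functor.const_obj_obj, Functor.const_obj_map, Category.id_comp] at this
    rw [hc', hc']
    exact this.symm
  have htr : ∀ {a b d : ℕ} (h₁ : a ≤ b) (h₂ : b ≤ d),
      ARSys.tr X h₂ ≫ ARSys.tr X h₁ = ARSys.tr X (h₁.trans h₂) := by
    intro a b d h₁ h₂
    show X.map _ ≫ X.map _ = X.map _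
    rw [← X.map_comp]
    rfl
  -- the retractions
  obtain ⟨p, hp⟩ : ∃ p : ∀ j : ℕ, X.obj (op (i + j)) ⟶ A,
      ∀ j, p j = ARSys.tr X (Nat.le_add_right i j) ≫ s := ⟨_, fun _ => rfl⟩
  have hcp : ∀ j, c' (i + j) ≫ p j = 𝟙 A := by
    intro j
    rw [hp, ← Category.assoc, hc, hs]
  have hpp : ∀ (j k : ℕ) (hjk : j ≤ k),
      ARSys.tr X (Nat.add_le_add_left hjk i) ≫ p j = p k := by
    intro j k hjk
    rw [hp, hp, ← Category.assoc, htr]
  choose Z q ι hιq hqι using fun j : ℕ =>
    Groth.Agent.S1079.exists_complement_of_split_mono (c' (i + j)) (p j) (hcp j)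
  have hcq : ∀ j, c' (i + j) ≫ q j = 0 := by
    intro j
    have h1 : c' (i + j) ≫ q j ≫ ι j = 0 := by
      rw [hqι, Preadditive.comp_sub, Category.comp_id, ← Category.assoc, hcp, Category.id_comp,
        sub_self]
    calc c' (i + j) ≫ q j = c' (i + j) ≫ q j ≫ ι j ≫ q j := by
          rw [hιq, Category.comp_id]
      _ = 0 := by rw [← Category.assoc (q j), ← Category.assoc, h1, zero_comp]
  have hιp : ∀ j, ι j ≫ p j = 0 := by
    intro j
    calc ι j ≫ p j = ι j ≫ (q j ≫ ι j) ≫ p j := by
          rw [← Category.assoc, ← Category.assoc, hιq, Category.id_comp]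
      _ = 0 := by
          rw [hqι, Preadditive.sub_comp, Category.id_comp, Category.assoc, hcp, Category.comp_id,
            sub_self, comp_zero]
  let e : ∀ j : ℕ, X.obj (op (i + j)) ≅ A ⊞ Z j := fun j =>
    { hom := biprod.lift (p j) (q j)
      inv := biprod.desc (c' (i + j)) (ι j)
      hom_inv_id := by
        rw [biprod.lift_desc, hqι]
        abel
      inv_hom_id := by
        apply biprod.hom_ext'
        · rw [biprod.inl_desc_assoc, Category.comp_id]
          apply biprod.hom_ext
          · rw [Category.assoc, biprod.lift_fst, hcp, biprod.inl_fst]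
          · rw [Category.assoc, biprod.lift_snd, hcq, biprod.inl_snd]
        · rw [biprod.inr_desc_assoc, Category.comp_id]
          apply biprod.hom_ext
          · rw [Category.assoc, biprod.lift_fst, hιp, biprod.inr_fst]
          · rw [Category.assoc, biprod.lift_snd, hιq, biprod.inr_snd] }
  refine ⟨i, Z, e, fun j k hjk => ι k ≫ ARSys.tr X (Nat.add_le_add_left hjk i) ≫ q j, ?_, ?_, ?_⟩
  · intro j
    show c' (i + j) ≫ biprod.lift (p j) (q j) = biprod.inl
    apply biprod.hom_ext
    · rw [Category.assoc, biprod.lift_fst, hcp, biprod.inl_fst]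
    · rw [Category.assoc, biprod.lift_snd, hcq, biprod.inl_snd]
  · intro j k hjk
    show biprod.desc (c' (i + k)) (ι k) ≫ ARSys.tr X (Nat.add_le_add_left hjk i) =
      biprod.map (𝟙 A) (ι k ≫ ARSys.tr X (Nat.add_le_add_left hjk i) ≫ q j) ≫
        biprod.desc (c' (i + j)) (ι j)
    apply biprod.hom_ext'
    · rw [biprod.inl_desc_assoc, biprod.inl_map_assoc, biprod.inl_desc, Category.id_comp, hc]
    · rw [biprod.inr_desc_assoc, biprod.inr_map_assoc, biprod.inr_desc, Category.assoc,
        Category.assoc, hqι, Preadditive.comp_sub, Preadditive.comp_sub, Category.comp_id,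
        ← Category.assoc (ARSys.tr X _), hpp j k hjk, ← Category.assoc (ι k), hιp, zero_comp,
        sub_zero]
  · intro j
    obtain ⟨k', hi, hj, hk'⟩ := hk (i + j)
    obtain ⟨k, rfl⟩ : ∃ k, k' = i + k := Nat.exists_eq_add_of_le hi
    have hjk : j ≤ k := by omega
    refine ⟨k, hjk, ?_⟩
    show ι k ≫ ARSys.tr X (Nat.add_le_add_left hjk i) ≫ q j = 0
    have : ARSys.tr X (Nat.add_le_add_left hjk i) = p k ≫ c' (i + j) := by
      rw [hp, Category.assoc]
      exact hk'
    rw [this, Category.assoc, hcq, comp_zero, comp_zero]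

end Groth.Agent.S6614
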