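import Groth.Statements.S6617
import Mathlib
import Groth.Agent.S6598
-- import your own Groth.Agent.* helpers here

set_option autoImplicit false
set_option linter.style.haveILetI false
set_option linter.unusedSectionVars false
universe v u
open CategoryTheory CategoryTheory.Limits
open CohDer

namespace Groth.Agent.S6617
open CochainComplex HomologicalComplex Groth.Agent.S6598

section
variable {V : Type u} [Category.{v} V] [Preadditive V] [HasBinaryBiproducts V] [HasZeroObject V]
  (X : ℕ → CochainComplex V ℤ) (a : ∀ i, X i ⟶ X (i + 1))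

/-- the recursive construction -/
noncomputable def seq : (i : ℕ) → Σ B : CochainComplex V ℤ, HomotopyEquiv B (X i)
  | 0 => ⟨X 0, HomotopyEquiv.refl _⟩
  | (i + 1) => ⟨Lp ((seq i).2.hom ≫ a i), hEquiv ((seq i).2.hom ≫ a i)⟩

noncomputable abbrev B (i : ℕ) : CochainComplex V ℤ := (seq X a i).1

noncomputable abbrev e (i : ℕ) : HomotopyEquiv (B X a i) (X i) := (seq X a i).2

noncomputable abbrev b (i : ℕ) : B X a i ⟶ B X a (i + 1) := α' ((e X a i).hom ≫ a i)

theorem comm (i : ℕ) : b X a i ≫ (e X a (i + 1)).hom = (e X a i).hom ≫ a i :=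
  α'_π _

theorem split (i : ℕ) (n : ℤ) :
    ∃ (C : V) (ε : (B X a (i + 1)).X n ≅ (B X a i).X n ⊞ C), (b X a i).f n ≫ ε.hom = biprod.inl :=
  split_inj _ n

theorem ge (h : ∀ i, ∃ m : ℤ, (X i).IsStrictlyGE m) : ∀ i, ∃ m : ℤ, (B X a i).IsStrictlyGE m := by
  intro i
  induction i with
  | zero => exact h 0
  | succ i ih =>
    obtain ⟨m1, hm1⟩ := ih
    obtain ⟨m2, hm2⟩ := h (i + 1)
    exact ⟨_, Lp_ge ((e X a i).hom ≫ a i) m1 m2⟩

theorem le (h : ∀ i, ∃ m : ℤ, (X i).IsStrictlyLE m) : ∀ i, ∃ m : ℤ, (B X a i).IsStrictlyLE m := by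
  intro i
  induction i with
  | zero => exact h 0
  | succ i ih =>
    obtain ⟨m1, hm1⟩ := ih
    obtain ⟨m2, hm2⟩ := h (i + 1)
    exact ⟨_, Lp_le ((e X a i).hom ≫ a i) m1 m2⟩

end


/-- Let A be an additive category and A₀ → A₁ → A₂ → … a sequence of composable morphisms of complexes.
There are complexes Bᵢ, homotopy equivalences Bᵢ ⟶ Aᵢ and termwise split injections Bᵢ ⟶ Bᵢ₊₁
forming a commutative ladder over the given sequence. Moreover if all Aᵢ are bounded below, resp.
bounded above, then the Bᵢ may be chosen bounded below, resp. bounded above. (The published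
statement is for finite sequences A₁ → … → A_n; this row takes a sequence indexed by ℕ, built by the
same step-by-step construction.) -/
theorem result {V : Type u} [Category.{v} V] [Preadditive V] [HasBinaryBiproducts V] [HasZeroObject V]
    (X : ℕ → CochainComplex V ℤ) (a : ∀ i, X i ⟶ X (i + 1)) :
    ∃ (B : ℕ → CochainComplex V ℤ) (b : ∀ i, B i ⟶ B (i + 1)) (e : ∀ i, HomotopyEquiv (B i) (X i)),
      (∀ i, b i ≫ (e (i + 1)).hom = (e i).hom ≫ a i) ∧
      (∀ (i : ℕ) (n : ℤ), ∃ (C : V) (ε : (B (i + 1)).X n ≅ (B i).X n ⊞ C), (b i).f n ≫ ε.hom = biprod.inl) ∧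
      ((∀ i, ∃ m : ℤ, (X i).IsStrictlyGE m) → ∀ i, ∃ m : ℤ, (B i).IsStrictlyGE m) ∧
      ((∀ i, ∃ m : ℤ, (X i).IsStrictlyLE m) → ∀ i, ∃ m : ℤ, (B i).IsStrictlyLE m) := by
  exact ⟨B X a, b X a, e X a, comm X a, split X a, ge X a, le X a⟩

end Groth.Agent.S6617
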