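import Groth.Statements.S6623
import Mathlib.CategoryTheory.Triangulated.Triangulated
import Mathlib.Tactic.Ring
import Mathlib.Tactic.Linarith
import Mathlib.Tactic.NormNum
import Mathlib.Algebra.Homology.HomologicalComplex
-- import your own Groth.Agent.* helpers here

set_option autoImplicit false
universe v u
open CategoryTheory CategoryTheory.Limits
open CohDer

namespace Groth.Agent.S6623

open CategoryTheory.Pretriangulated

open CategoryTheory.Pretriangulated in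
/-- Let D be a triangulated category, φ : X ⟶ X' a morphism of chain complexes in D considered in
degrees ≤ n, where a Postnikov system for the complex X_n → … → X_0 consists of objects Y_k, an
isomorphism Y_0 ⟶ X_0, and for 0 ≤ k < n distinguished triangles Y_{k+1} ⟶ X_{k+1} ⟶ Y_k ⟶
Y_{k+1}⟦1⟧ with X_{k+1} ⟶ Y_k ⟶ X_k the differential; let (Y, a, b, c) and (Y', a', b', c') be
Postnikov systems for X and X'. If Hom(X_{j-i}⟦1-i⟧, X'_j) = 0 and Hom(X_j, X'_{j-i}⟦-i⟧) = 0 for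
all 0 < i ≤ j ≤ n, then there is at most one morphism of Postnikov systems extending φ: two such
morphisms agree on Y_k for every k ≤ n. -/
theorem result {D : Type u} [Category.{v} D] [Preadditive D] [HasZeroObject D] [HasShift D ℤ]
    [∀ n : ℤ, (shiftFunctor D n).Additive] [Pretriangulated D] [IsTriangulated D]
    (X X' : ChainComplex D ℕ) (φ : X ⟶ X') (n : ℕ)
    (Y : ℕ → D) (a : ∀ k, Y k ⟶ X.X k) (b : ∀ k, X.X (k + 1) ⟶ Y k)
    (c : ∀ k, Y k ⟶ (shiftFunctor D (1 : ℤ)).obj (Y (k + 1)))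
    (h0 : IsIso (a 0))
    (hP : ∀ k, k < n → Triangle.mk (a (k + 1)) (b k) (c k) ∈ distinguishedTriangles ∧ b k ≫ a k = X.d (k + 1) k)
    (qY : ℕ → D) (qa : ∀ k, qY k ⟶ X'.X k) (qb : ∀ k, X'.X (k + 1) ⟶ qY k)
    (qc : ∀ k, qY k ⟶ (shiftFunctor D (1 : ℤ)).obj (qY (k + 1)))
    (qh0 : IsIso (qa 0))
    (qhP : ∀ k, k < n → Triangle.mk (qa (k + 1)) (qb k) (qc k) ∈ distinguishedTriangles ∧ qb k ≫ qa k = X'.d (k + 1) k)
    (hv : ∀ i j : ℕ, 0 < i → i ≤ j → j ≤ n →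
      (∀ ψ : (shiftFunctor D (1 - (i : ℤ))).obj (X.X (j - i)) ⟶ X'.X j, ψ = 0) ∧
      (∀ ψ : X.X j ⟶ (shiftFunctor D (-(i : ℤ))).obj (X'.X (j - i)), ψ = 0))
    (y z : ∀ k, Y k ⟶ qY k)
    (hy : (∀ k, k ≤ n → y k ≫ qa k = a k ≫ φ.f k) ∧
      (∀ k, k < n → b k ≫ y k = φ.f (k + 1) ≫ qb k ∧ c k ≫ (shiftFunctor D (1 : ℤ)).map (y (k + 1)) = y k ≫ qc k))
    (hz : (∀ k, k ≤ n → z k ≫ qa k = a k ≫ φ.f k) ∧
      (∀ k, k < n → b k ≫ z k = φ.f (k + 1) ≫ qb k ∧ c k ≫ (shiftFunctor D (1 : ℤ)).map (z (k + 1)) = z k ≫ qc k))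
    (k : ℕ) (hk : k ≤ n) :
    y k = z k := by
  obtain ⟨w, hw⟩ : ∃ w : ∀ k, Y k ⟶ qY k, ∀ k, w k = y k - z k := ⟨_, fun _ => rfl⟩
  have hwa : ∀ k, k ≤ n → w k ≫ qa k = 0 := by
    intro k hk
    rw [hw, Preadditive.sub_comp, hy.1 k hk, hz.1 k hk, sub_self]
  have hwc : ∀ k, k < n → c k ≫ (w (k + 1))⟦(1 : ℤ)⟧' = w k ≫ qc k := by
    intro k hk
    rw [hw, hw, Functor.map_sub, Preadditive.comp_sub, Preadditive.sub_comp, (hy.2 k hk).2,
      (hz.2 k hk).2]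
  -- converted vanishing hypotheses
  have H2' : ∀ (i j l : ℕ) (p : ℤ), 0 < i → l + i = j → j ≤ n → p = (i : ℤ) →
      ∀ ψ' : (X.X j)⟦p⟧ ⟶ X'.X l, ψ' = 0 := by
    intro i j l p hi hl hj hp ψ'
    obtain rfl : l = j - i := by omega
    subst hp
    have h := (hv i j hi (by omega) hj).2
      ((shiftFunctorCompIsoId D (i : ℤ) (-(i : ℤ)) (add_neg_cancel _)).inv.app (X.X j) ≫
        ψ'⟦-(i : ℤ)⟧')
    have h' : ψ'⟦-(i : ℤ)⟧' = 0 := by
      rw [← cancel_epi ((shiftFunctorCompIsoId D (i : ℤ) (-(i : ℤ))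
        (add_neg_cancel _)).inv.app (X.X j)), comp_zero]
      exact h
    apply (shiftFunctor D (-(i : ℤ))).map_injective
    rw [h', Functor.map_zero]
  have H1' : ∀ (i j l : ℕ) (m : ℤ), 0 < i → l + i = j → j ≤ n → m = (i : ℤ) - 1 →
      ∀ ψ' : X.X l ⟶ (X'.X j)⟦m⟧, ψ' = 0 := by
    intro i j l m hi hl hj hm ψ'
    obtain rfl : l = j - i := by omega
    have key : ∀ (p : ℤ), p = 1 - (i : ℤ) → ∀ ψ : (X.X (j - i))⟦p⟧ ⟶ X'.X j, ψ = 0 := by
      intro p hp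
      subst hp
      exact (hv i j hi (by omega) hj).1
    have h := key (-m) (by rw [hm]; ring)
      (ψ'⟦-m⟧' ≫ (shiftFunctorCompIsoId D m (-m) (add_neg_cancel m)).hom.app (X'.X j))
    have h' : ψ'⟦-m⟧' = 0 := by
      rw [← cancel_mono ((shiftFunctorCompIsoId D m (-m) (add_neg_cancel m)).hom.app (X'.X j)),
        zero_comp]
      exact h
    apply (shiftFunctor D (-m)).map_injective
    rw [h', Functor.map_zero]
  -- vanishing of maps from shifted `X j` to `qY l`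
  have V2 : ∀ l : ℕ, ∀ (i j : ℕ) (p : ℤ), 0 < i → l + i = j → j ≤ n → p = (i : ℤ) →
      ∀ f : (X.X j)⟦p⟧ ⟶ qY l, f = 0 := by
    intro l
    induction l with
    | zero =>
      intro i j p hi hl hj hp f
      have h1 : f ≫ qa 0 = 0 := H2' i j 0 p hi hl hj hp _
      rw [← cancel_mono (qa 0), h1, zero_comp]
    | succ l ih =>
      intro i j p hi hl hj hp f
      have h1 : f ≫ qa (l + 1) = 0 := H2' i j (l + 1) p hi hl hj hp _
      obtain ⟨g, hg⟩ : ∃ g : ((X.X j)⟦p⟧)⟦(1 : ℤ)⟧ ⟶ qY l, f⟦(1 : ℤ)⟧' = g ≫ qc l :=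
        Triangle.coyoneda_exact₁ _ (qhP l (by omega)).1 (f⟦(1 : ℤ)⟧') (by
          show f⟦(1 : ℤ)⟧' ≫ (qa (l + 1))⟦(1 : ℤ)⟧' = 0
          rw [← Functor.map_comp, h1, Functor.map_zero])
      have h2 : ((shiftFunctorAdd' D p 1 (p + 1) rfl).app (X.X j)).hom ≫ g = 0 :=
        ih (i + 1) j (p + 1) (by omega) (by omega) hj (by rw [hp]; push_cast; ring) _
      have h3 : g = 0 := by
        rw [← cancel_epi ((shiftFunctorAdd' D p 1 (p + 1) rfl).app (X.X j)).hom, h2, comp_zero]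
      apply (shiftFunctor D (1 : ℤ)).map_injective
      rw [hg, h3, zero_comp, Functor.map_zero]
  -- vanishing of maps from `Y l` to shifted `X' k`
  have V1 : ∀ l : ℕ, ∀ (k : ℕ) (m : ℤ), k ≤ n → (l : ℤ) + m + 1 = k → 0 ≤ m →
      ∀ f : Y l ⟶ (X'.X k)⟦m⟧, f = 0 := by
    intro l
    induction l with
    | zero =>
      intro k m hk hlm hm f
      have h1 : inv (a 0) ≫ f = 0 := H1' k k 0 m (by omega) (by omega) hk (by omega) _
      rw [← cancel_epi (inv (a 0)), h1, comp_zero]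
    | succ l ih =>
      intro k m hk hlm hm f
      have hln : l < n := by omega
      have h1 : c l ≫ f⟦(1 : ℤ)⟧' = 0 := by
        have := ih k (m + 1) hk (by push_cast at hlm ⊢; omega) (by omega)
          ((c l ≫ f⟦(1 : ℤ)⟧') ≫ ((shiftFunctorAdd' D m 1 (m + 1) rfl).app (X'.X k)).inv)
        rw [← cancel_mono ((shiftFunctorAdd' D m 1 (m + 1) rfl).app (X'.X k)).inv, this,
          zero_comp]
      obtain ⟨g, hg⟩ : ∃ g : (X.X (l + 1))⟦(1 : ℤ)⟧ ⟶ ((X'.X k)⟦m⟧)⟦(1 : ℤ)⟧,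
          f⟦(1 : ℤ)⟧' = (-(a (l + 1))⟦(1 : ℤ)⟧') ≫ g :=
        Triangle.yoneda_exact₃ _ (rot_of_distTriang _ (hP l hln).1) (f⟦(1 : ℤ)⟧') h1
      obtain ⟨g₀, rfl⟩ := (shiftFunctor D (1 : ℤ)).map_surjective g
      have hg₀ : g₀ = 0 :=
        H1' (k - (l + 1)) k (l + 1) m (by omega) (by omega) hk (by omega) g₀
      apply (shiftFunctor D (1 : ℤ)).map_injective
      rw [hg, hg₀, Functor.map_zero, comp_zero, Functor.map_zero]
  -- main induction
  have main : ∀ k, k ≤ n → w k = 0 := by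
    intro k
    induction k with
    | zero =>
      intro _
      rw [← cancel_mono (qa 0), hwa 0 (Nat.zero_le _), zero_comp]
    | succ k ih =>
      intro hk
      have hkn : k < n := by omega
      have hwk : w k = 0 := ih (by omega)
      have hc : c k ≫ (w (k + 1))⟦(1 : ℤ)⟧' = 0 := by rw [hwc k hkn, hwk, zero_comp]
      obtain ⟨g, hg⟩ : ∃ g : (X.X (k + 1))⟦(1 : ℤ)⟧ ⟶ (qY (k + 1))⟦(1 : ℤ)⟧,
          (w (k + 1))⟦(1 : ℤ)⟧' = (-(a (k + 1))⟦(1 : ℤ)⟧') ≫ g :=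
        Triangle.yoneda_exact₃ _ (rot_of_distTriang _ (hP k hkn).1) _ hc
      obtain ⟨g₀, rfl⟩ := (shiftFunctor D (1 : ℤ)).map_surjective g
      have hwψ : w (k + 1) = a (k + 1) ≫ (-g₀) := by
        apply (shiftFunctor D (1 : ℤ)).map_injective
        rw [hg, Functor.map_comp, Functor.map_neg, Preadditive.neg_comp, Preadditive.comp_neg]
      -- (b)
      have hb : (-g₀) ≫ qa (k + 1) = 0 := by
        have h1 : a (k + 1) ≫ ((-g₀) ≫ qa (k + 1)) = 0 := by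
          rw [← Category.assoc, ← hwψ, hwa (k + 1) hk]
        obtain ⟨θ', hθ'⟩ : ∃ θ' : Y k ⟶ X'.X (k + 1), (-g₀) ≫ qa (k + 1) = b k ≫ θ' :=
          Triangle.yoneda_exact₂ _ (hP k hkn).1 _ h1
        have h2 : θ' ≫ (shiftFunctorZero D ℤ).inv.app (X'.X (k + 1)) = 0 :=
          V1 k (k + 1) 0 hk (by push_cast; ring) le_rfl _
        have h3 : θ' = 0 := by
          rw [← cancel_mono ((shiftFunctorZero D ℤ).inv.app (X'.X (k + 1))), h2, zero_comp]
        rw [hθ', h3, comp_zero]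
      -- (c)
      obtain ⟨g', hg'⟩ : ∃ g' : (X.X (k + 1))⟦(1 : ℤ)⟧ ⟶ qY k, (-g₀)⟦(1 : ℤ)⟧' = g' ≫ qc k :=
        Triangle.coyoneda_exact₁ _ (qhP k hkn).1 ((-g₀)⟦(1 : ℤ)⟧') (by
          show (-g₀)⟦(1 : ℤ)⟧' ≫ (qa (k + 1))⟦(1 : ℤ)⟧' = 0
          rw [← Functor.map_comp, hb, Functor.map_zero])
      have hg'0 : g' = 0 := V2 k 1 (k + 1) 1 Nat.one_pos rfl hk (by norm_num) g'
      have hψ : -g₀ = 0 := by
        apply (shiftFunctor D (1 : ℤ)).map_injective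
        rw [hg', hg'0, zero_comp, Functor.map_zero]
      rw [hwψ, hψ, comp_zero]
  have := main k hk
  rw [hw, sub_eq_zero] at this
  exact this

end Groth.Agent.S6623
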