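import Groth.Statements.S6624
import Mathlib
import Groth.Agent.Lib.Helper23Bridge
-- import your own Groth.Agent.* helpers here

set_option autoImplicit false
universe w w' v v' u u'
open CategoryTheory CategoryTheory.Limits
open CohDer

namespace Groth.Agent.S6624


/-- Part (1): in the case where A has enough injectives: let F : A ⥤ B be an additive functor between
abelian categories, A with enough injectives, and X an object of A. Then X is right acyclic for F,
i.e. the canonical map F(X)[0] ⟶ RF(X[0]) is an isomorphism in D⁺(B), if and only if F(X) ⟶ R⁰F(X)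
is an isomorphism and RⁱF(X) = 0 for all i > 0. -/
theorem result {A : Type u} [Category.{v} A] [Abelian A] [HasDerivedCategory.{w} A] [EnoughInjectives A]
    {B : Type u'} [Category.{v'} B] [Abelian B] [HasDerivedCategory.{w'} B]
    (F : A ⥤ B) [F.Additive] (X : A) :
    IsIso (F.rightDerivedFunctorPlusUnit.app ((HomotopyCategory.Plus.singleFunctor A 0).obj X)) ↔
      (IsIso (F.toRightDerivedZero.app X) ∧ ∀ i : ℕ, 0 < i → IsZero ((F.rightDerived i).obj X)) := by
  let I := injectiveResolution X
  rw [Groth.Agent.Lib.Helper23Bridge.unit_single_iff_quasiIso F I,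
    Groth.Agent.Lib.Helper23Bridge.quasiIso_int_iff_nat,
    Groth.Agent.Lib.Helper23Bridge.quasiIso_nat_iff]
  have : IsIso (F.toRightDerivedZero.app X) ↔ IsIso (I.toRightDerivedZero' F) := by
    rw [I.toRightDerivedZero_eq F]
    have h1 : IsIso (CochainComplex.isoHomologyπ₀ ((F.mapHomologicalComplex (ComplexShape.up ℕ)).obj I.cocomplex)).hom := inferInstance
    have h2 : IsIso (I.isoRightDerivedObj F 0).inv := inferInstance
    have e : IsIso ((CochainComplex.isoHomologyπ₀ ((F.mapHomologicalComplex (ComplexShape.up ℕ)).obj I.cocomplex)).hom ≫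
        (I.isoRightDerivedObj F 0).inv) := @IsIso.comp_isIso _ _ _ _ _ _ _ h1 h2
    constructor
    · intro h
      exact @IsIso.of_isIso_comp_right _ _ _ _ _ _ _ e h
    · intro h
      exact @IsIso.comp_isIso _ _ _ _ _ _ _ h e
  rw [this]

end Groth.Agent.S6624
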