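import Groth.Statements.S6625
import Mathlib
import Groth.Agent.Lib.Helper23Adapted
-- import your own Groth.Agent.* helpers here

set_option autoImplicit false
universe w w' v v' u u'
open CategoryTheory CategoryTheory.Limits
open CohDer

namespace Groth.Agent.S6625

open Groth.Agent.S12229 Groth.Agent.Lib.Helper23Bridge Groth.Agent.Lib.Helper23Acyclic Groth.Agent.Lib.Helper23Adapted


open Groth.Agent.S12229 Groth.Agent.Lib.Helper23Bridge Groth.Agent.Lib.Helper23Acyclic Groth.Agent.Lib.Helper23Adapted

/-- In the case where A has enough injectives: let F : A ⥤ B be an additive functor between abelian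
categories, A with enough injectives, and I a class of objects of A such that (1) each object of A
embeds by a monomorphism into some object of I, and (2) whenever 0 → P → Q → R → 0 is a short exact
sequence whose terms P and Q lie in I, the third term R also lies in I, and applying F to the
sequence yields a short exact sequence in B. Under these assumptions, each X belonging to I is right
acyclic for F, meaning the map F(X)[0] ⟶ RF(X[0]) is an isomorphism. -/
theorem result {A : Type u} [Category.{v} A] [Abelian A] [HasDerivedCategory.{w} A] [EnoughInjectives A]
    {B : Type u'} [Category.{v'} B] [Abelian B] [HasDerivedCategory.{w'} B]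
    (F : A ⥤ B) [F.Additive] (I : ObjectProperty A)
    (h1 : ∀ X : A, ∃ (Y : A) (ι : X ⟶ Y), I Y ∧ Mono ι)
    (h2 : ∀ S : ShortComplex A, S.ShortExact → I S.X₁ → I S.X₂ → I S.X₃ ∧ (S.map F).ShortExact)
    (X : A) (hX : I X) :
    IsIso (F.rightDerivedFunctorPlusUnit.app ((HomotopyCategory.Plus.singleFunctor A 0).obj X)) := by
  rw [single_eq, isIso_unit_iff_isIso_τ]
  exact isIso_τ_of_adapted F h1 h2 hX

end Groth.Agent.S6625
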