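import Groth.Statements.S6626
import Mathlib
import Groth.Agent.Lib.Helper16EtGlue
-- import your own Groth.Agent.* helpers here

set_option autoImplicit false
open CategoryTheory CategoryTheory.Limits AlgebraicGeometry Opposite
universe u
open EtCore

namespace Groth.Agent.S6626

open Groth.Agent.Lib.Helper16.SmallEtale Groth.Agent.Lib.Helper16.EtGlue

set_option backward.isDefEq.respectTransparency.types false in
/-- two maps of abelian sheaves agreeing on base changes agree on clopen pieces of base changes -/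
lemma agree_on_clopen {X Y : Scheme.{u}} (f : X ⟶ Y) {F G : EtCoh.Ab X} (φ ψ : F ⟶ G)
    (hV : ∀ V : Y.Etale, φ.hom.app (op ((EtCoh.bc f).obj V)) = ψ.hom.app (op ((EtCoh.bc f).obj V)))
    {V : Scheme.{u}} (v : V ⟶ Y) [Etale v] (W : (pullback f v).Opens)
    (hW : IsClosed (W : Set ↥(pullback f v)))
    (t : F.obj.obj (op (Scheme.Etale.mk (W.ι ≫ pullback.fst f v)))) :
    φ.hom.app (op (Scheme.Etale.mk (W.ι ≫ pullback.fst f v))) t =
      ψ.hom.app (op (Scheme.Etale.mk (W.ι ≫ pullback.fst f v))) t := by
  let Wc : (pullback f v).Opens := ⟨(W : Set ↥(pullback f v))ᶜ, hW.isOpen_compl⟩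
  let P : X.Etale := (EtCoh.bc f).obj (Scheme.Etale.mk v)
  let W1 : X.Etale := Scheme.Etale.mk (W.ι ≫ pullback.fst f v)
  let W2 : X.Etale := Scheme.Etale.mk (Wc.ι ≫ pullback.fst f v)
  have hw1 : (W.ι ≫ (pullbackSymmetry f v).hom) ≫ P.hom = W1.hom := by
    rw [Category.assoc]
    congr 1
    exact pullbackSymmetry_hom_comp_snd f v
  have hw2 : (Wc.ι ≫ (pullbackSymmetry f v).hom) ≫ P.hom = W2.hom := by
    rw [Category.assoc]
    congr 1
    exact pullbackSymmetry_hom_comp_snd f v
  let j1 : W1 ⟶ P := MorphismProperty.Over.homMk (W.ι ≫ (pullbackSymmetry f v).hom) hw1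
  let j2 : W2 ⟶ P := MorphismProperty.Over.homMk (Wc.ι ≫ (pullbackSymmetry f v).hom) hw2
  have hj1 : j1.left = W.ι ≫ (pullbackSymmetry f v).hom := rfl
  have hj2 : j2.left = Wc.ι ≫ (pullbackSymmetry f v).hom := rfl
  have hFs : Presieve.IsSheaf X.smallEtaleTopology (F.obj ⋙ forget AddCommGrpCat) :=
    (isSheaf_iff_isSheaf_of_type _ _).mp
      ((Presheaf.isSheaf_iff_isSheaf_forget _ _ (forget AddCommGrpCat)).mp F.property)
  obtain ⟨s, hs1, -⟩ := exists_glue_binary (F.obj ⋙ forget AddCommGrpCat) hFs j1 j2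
    (by rw [hj1]; exact @mono_comp _ _ _ _ _ W.ι inferInstance _ inferInstance) (by rw [hj2]; exact @mono_comp _ _ _ _ _ Wc.ι inferInstance _ inferInstance)
    (by
      intro x y hxy
      have h1 : (W.ι ≫ (pullbackSymmetry f v).hom) x = (Wc.ι ≫ (pullbackSymmetry f v).hom) y := hxy
      simp only [Scheme.Hom.comp_apply] at h1
      have h2 : W.ι x = Wc.ι y := (pullbackSymmetry f v).hom.isOpenEmbedding.injective h1
      have hx : W.ι x ∈ W := x.2
      have hy : Wc.ι y ∈ Wc := y.2
      rw [← h2] at hy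
      exact hy hx)
    (by
      intro p
      have hp : (pullbackSymmetry f v).hom ((pullbackSymmetry f v).inv p) = p := by
        rw [← Scheme.Hom.comp_apply, Iso.inv_hom_id]
        rfl
      by_cases hq : (pullbackSymmetry f v).inv p ∈ W
      · exact Or.inl ⟨⟨_, hq⟩, hp⟩
      · exact Or.inr ⟨⟨_, hq⟩, hp⟩) t (0 : F.obj.obj (op W2))
  have hs1' : F.obj.map j1.op s = t := hs1
  rw [← hs1']
  have n1 := NatTrans.naturality_apply φ.hom j1.op s
  have n2 := NatTrans.naturality_apply ψ.hom j1.op s
  have e : φ.hom.app (op P) = ψ.hom.app (op P) := hV (Scheme.Etale.mk v)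
  rw [e] at n1
  exact n1.trans n2.symm

set_option backward.isDefEq.respectTransparency.types false in
theorem faithful_push {X Y : Scheme.{u}} (f : X ⟶ Y) (hA : BigSite.PropA f) :
    (EtCoh.push f).Faithful := by
  constructor
  intro F G φ ψ hφψ
  have hV : ∀ V : Y.Etale, φ.hom.app (op ((EtCoh.bc f).obj V)) = ψ.hom.app (op ((EtCoh.bc f).obj V)) := by
    intro V
    have := congrArg (fun α => α.hom.app (op V)) hφψ
    exact this
  apply Sheaf.hom_ext
  apply NatTrans.ext
  funext U
  induction U using Opposite.rec with | _ U => ?_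
  ext s
  have hGs : Presieve.IsSheaf X.smallEtaleTopology (G.obj ⋙ forget AddCommGrpCat) :=
    (isSheaf_iff_isSheaf_of_type _ _).mp
      ((Presheaf.isSheaf_iff_isSheaf_forget _ _ (forget AddCommGrpCat)).mp G.property)
  -- the sieve of arrows on which the two sections agree
  let T : Sieve U :=
    { arrows := fun Z k => G.obj.map k.op (φ.hom.app (op U) s) = G.obj.map k.op (ψ.hom.app (op U) s)
      downward_closed := by
        intro Z Z' k hk m
        change G.obj.map (m ≫ k).op _ = G.obj.map (m ≫ k).op _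
        rw [op_comp, Functor.map_comp, ConcreteCategory.comp_apply, ConcreteCategory.comp_apply, hk] }
  have hT : T ∈ X.smallEtaleTopology U := by
    rw [mem_smallEtale_iff]
    intro x
    obtain ⟨V, v, hv, W, hW, h, h1, ⟨y, hy⟩⟩ := hA U.left U.hom x
    let W1 : X.Etale := Scheme.Etale.mk (W.ι ≫ pullback.fst f v)
    let k : W1 ⟶ U := MorphismProperty.Over.homMk h h1
    refine ⟨W1, k, y, ?_, hy⟩
    change G.obj.map k.op (φ.hom.app (op U) s) = G.obj.map k.op (ψ.hom.app (op U) s)
    have n1 := NatTrans.naturality_apply φ.hom k.op s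
    have n2 := NatTrans.naturality_apply ψ.hom k.op s
    rw [← n1, ← n2]
    exact agree_on_clopen f φ ψ hV v W hW _
  apply (hGs _ hT).isSeparatedFor.ext
  intro Z k hk
  exact hk


/-- Let f : X ⟶ Y be a morphism of schemes satisfying condition (A) (for every etale U ⟶ X and every
point u of U there are an etale V ⟶ Y, an open and closed subscheme W of X ×_Y V and an X-morphism W
⟶ U whose image contains u). Then, on abelian sheaves on the small etale sites, f_* reflects
monomorphisms and epimorphisms, the counit f⁻¹ f_* F ⟶ F is an epimorphism for every F, and f_* is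
faithful. -/
theorem result {X Y : Scheme.{u}} (f : X ⟶ Y) (hA : BigSite.PropA f) :
    (EtCoh.push f).ReflectsMonomorphisms ∧ (EtCoh.push f).ReflectsEpimorphisms ∧
      (∀ F : EtCoh.Ab X, Epi ((EtCoh.pullPushAdj f).counit.app F)) ∧ (EtCoh.push f).Faithful := by
  have := faithful_push f hA
  exact ⟨inferInstance, inferInstance, fun F => inferInstance, inferInstance⟩

end Groth.Agent.S6626
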