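import Groth.Statements.S6631
import Mathlib
-- import your own Groth.Agent.* helpers here

set_option autoImplicit false
open CategoryTheory CategoryTheory.Limits AlgebraicGeometry Opposite
universe u
open EtDesc

namespace Groth.Agent.S6631

set_option backward.isDefEq.respectTransparency.types false in
theorem faithful_pushSh {X Y : Scheme.{u}} (f : X ⟶ Y) (hC : BigSite.PropC f) :
    (EtDesc.pushSh f).Faithful := by
  constructor
  intro F G φ ψ hφψ
  have hV : ∀ V : Y.Etale, φ.hom.app (op ((EtCoh.bc f).obj V)) = ψ.hom.app (op ((EtCoh.bc f).obj V)) := by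
    intro V
    have := congrArg (fun α => α.hom.app (op V)) hφψ
    exact this
  apply Sheaf.hom_ext
  apply NatTrans.ext
  funext U
  induction U using Opposite.rec with | _ U => ?_
  ext s
  obtain ⟨V₀, v, hv, h, h1, h2⟩ := hC U.left U.hom
  let V : Y.Etale := Scheme.Etale.mk v
  have hw : ((pullbackSymmetry v f).hom ≫ h) ≫ U.hom = ((EtCoh.bc f).obj V).hom := by
    rw [Category.assoc, h1, pullbackSymmetry_hom_comp_fst]
    rfl
  let k : (EtCoh.bc f).obj V ⟶ U := MorphismProperty.Over.homMk ((pullbackSymmetry v f).hom ≫ h) hw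
  have hk : k.left = (pullbackSymmetry v f).hom ≫ h := rfl
  have hcov : Sieve.ofArrows (fun _ : Unit => (EtCoh.bc f).obj V) (fun _ => k) ∈
      X.smallEtaleTopology U := by
    rw [Scheme.ofArrows_mem_smallEtaleTopology_iff]
    rw [Set.eq_univ_iff_forall]
    intro x
    obtain ⟨y, rfl⟩ := h2.surj x
    refine Set.mem_iUnion.mpr ⟨(), (pullbackSymmetry v f).inv y, ?_⟩
    have hk' : (pullbackSymmetry v f).inv ≫ k.left = h := by rw [hk, Iso.inv_hom_id_assoc]
    exact congrArg (fun m : pullback f v ⟶ U.left => m y) hk'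
  have hsep := ((isSheaf_iff_isSheaf_of_type _ _).mp G.property _ hcov).isSeparatedFor
  apply hsep.ext
  rintro W g ⟨W', w, _, ⟨⟨⟩⟩, rfl⟩
  have n1 := NatTrans.naturality_apply φ.hom k.op s
  have n2 := NatTrans.naturality_apply ψ.hom k.op s
  rw [hV V] at n1
  have e : G.obj.map k.op (φ.hom.app (op U) s) = G.obj.map k.op (ψ.hom.app (op U) s) :=
    n1.symm.trans n2
  change G.obj.map (w ≫ k).op (φ.hom.app (op U) s) = G.obj.map (w ≫ k).op (ψ.hom.app (op U) s)
  rw [op_comp, Functor.map_comp, ConcreteCategory.comp_apply, ConcreteCategory.comp_apply, e]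

/-- Let f : X ⟶ Y be a morphism of schemes satisfying condition (C) (for every etale U ⟶ X there are an
etale V ⟶ Y and a surjective X-morphism X ×_Y V ⟶ U). Then the direct image of sheaves of sets on
the small etale sites along f reflects monomorphisms and epimorphisms. -/
theorem result {X Y : Scheme.{u}} (f : X ⟶ Y) (hC : BigSite.PropC f) :
    (EtDesc.pushSh f).ReflectsMonomorphisms ∧ (EtDesc.pushSh f).ReflectsEpimorphisms := by
  haveI := faithful_pushSh f hC
  exact ⟨inferInstance, inferInstance⟩

end Groth.Agent.S6631
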