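import Groth.Statements.S6632
import Mathlib
import Groth.Agent.Lib.Helper16SmallEtale
-- import your own Groth.Agent.* helpers here

set_option autoImplicit false
open CategoryTheory CategoryTheory.Limits AlgebraicGeometry Opposite
universe u
open EtCore

namespace Groth.Agent.S6632

open Groth.Agent.Lib.Helper16.SmallEtale

set_option backward.isDefEq.respectTransparency.types false in
/-- Let f : X ⟶ Y be a morphism of schemes such that, for every etale V ⟶ Y, the base change X ×_Y V ⟶ V
satisfies condition (C) (for every etale U ⟶ X ×_Y V there are an etale V' ⟶ V and a surjective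
morphism from the base change of V' to U over X ×_Y V) and is closed as a map of topological spaces.
Then the base change functor V ↦ X ×_Y V from the small etale site of Y to that of X is almost
cocontinuous: every covering sieve of X ×_Y V contains the images of the members of some covering
sieve of V, except for members V' for which X ×_Y V' is covered by the empty sieve. -/
theorem result {X Y : Scheme.{u}} (f : X ⟶ Y)
    (hC : ∀ (V : Scheme.{u}) (v : V ⟶ Y) [Etale v], BigSite.PropC (pullback.snd f v))
    (hcl : ∀ (V : Scheme.{u}) (v : V ⟶ Y) [Etale v], IsClosedMap (pullback.snd f v).base) :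
    BigSite.IsAlmostCocontinuous (EtCoh.bc f) Y.smallEtaleTopology X.smallEtaleTopology := by
  intro V R hR
  rw [mem_smallEtale_iff] at hR
  choose U g u hRg hgu using hR
  -- the symmetry iso
  let σ : pullback V.hom f ≅ pullback f V.hom := pullbackSymmetry V.hom f
  have hσ1 : σ.hom ≫ pullback.fst f V.hom = pullback.snd V.hom f := pullbackSymmetry_hom_comp_fst _ _
  have hσ2 : σ.hom ≫ pullback.snd f V.hom = pullback.fst V.hom f := pullbackSymmetry_hom_comp_snd _ _
  have hUhom : ∀ x, (g x).left ≫ pullback.snd V.hom f = (U x).hom := fun x => Over.w (g x).hom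
  have hC' := fun x => hC V.left V.hom (U x).left ((g x).left ≫ σ.hom)
  choose V' v' hv' h hh hsurj using hC'
  -- the closed image and its open complement
  have hZ : IsClosed (Set.range (pullback.snd f V.hom).base) := (hcl V.left V.hom).isClosed_range
  let O : V.left.Opens := ⟨(Set.range (pullback.snd f V.hom).base)ᶜ, hZ.isOpen_compl⟩
  let W₀ : Y.Etale := Scheme.Etale.mk (O.ι ≫ V.hom)
  let k₀ : W₀ ⟶ V := MorphismProperty.Over.homMk O.ι rfl
  let W : (((EtCoh.bc f).obj V).left) → Y.Etale := fun x => Scheme.Etale.mk (v' x ≫ V.hom)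
  let k : ∀ x, W x ⟶ V := fun x => MorphismProperty.Over.homMk (v' x) rfl
  refine ⟨Sieve.ofArrows W k ⊔ Sieve.ofArrows (fun _ : Unit => W₀) (fun _ => k₀), ?_, ?_⟩
  · -- covering
    rw [mem_smallEtale_iff]
    intro y
    by_cases hy : y ∈ Set.range (pullback.snd f V.hom).base
    · obtain ⟨p, rfl⟩ := hy
      obtain ⟨t, ht⟩ := (hsurj (σ.inv p)).surj (u (σ.inv p))
      refine ⟨W (σ.inv p), k (σ.inv p),
        (pullback.snd (pullback.snd f V.hom) (v' (σ.inv p))) t, Or.inl (Sieve.ofArrows_mk _ _ _), ?_⟩
      change (v' (σ.inv p)) ((pullback.snd (pullback.snd f V.hom) (v' (σ.inv p))) t) =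
        (pullback.snd f V.hom) p
      have e1 : pullback.snd (pullback.snd f V.hom) (v' (σ.inv p)) ≫ v' (σ.inv p) =
          pullback.fst _ _ ≫ pullback.snd f V.hom := pullback.condition.symm
      have e2 := congrArg (fun m => m t) e1
      have e3 := congrArg (fun m => m t) (hh (σ.inv p))
      simp only [Scheme.Hom.comp_apply] at e2 e3
      rw [e2, ← e3, ht, hgu]
      have e4 := congrArg (fun m => m p) σ.inv_hom_id
      simp only [Scheme.Hom.comp_apply] at e4
      exact congrArg (pullback.snd f V.hom) e4
    · refine ⟨W₀, k₀, (⟨y, hy⟩ : O), Or.inr (Sieve.ofArrows_mk _ _ ()), rfl⟩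
  · intro W' g' hg'
    rcases hg' with hg' | hg'
    · right
      obtain ⟨_, w, _, ⟨x⟩, rfl⟩ := hg'
      rw [Functor.map_comp]
      apply R.downward_closed
      let θ₀ : pullback (v' x ≫ V.hom) f ⟶ pullback (pullback.snd f V.hom) (v' x) :=
        pullback.lift
          (pullback.lift (pullback.snd (v' x ≫ V.hom) f) (pullback.fst (v' x ≫ V.hom) f ≫ v' x)
            (by rw [Category.assoc]; exact pullback.condition.symm))
          (pullback.fst (v' x ≫ V.hom) f) (pullback.lift_snd _ _ _)
      have hθfst : θ₀ ≫ pullback.fst (pullback.snd f V.hom) (v' x) =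
          pullback.lift (pullback.snd (v' x ≫ V.hom) f) (pullback.fst (v' x ≫ V.hom) f ≫ v' x)
            (by rw [Category.assoc]; exact pullback.condition.symm) := pullback.lift_fst _ _ _
      have hkey : (θ₀ ≫ h x) ≫ (g x).left ≫ σ.hom =
          pullback.lift (pullback.snd (v' x ≫ V.hom) f) (pullback.fst (v' x ≫ V.hom) f ≫ v' x)
            (by rw [Category.assoc]; exact pullback.condition.symm) := by
        rw [Category.assoc, hh x, hθfst]
      have hsnd : (θ₀ ≫ h x) ≫ (g x).left ≫ pullback.snd V.hom f = pullback.snd (v' x ≫ V.hom) f := by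
        have e : (θ₀ ≫ h x) ≫ (g x).left ≫ pullback.snd V.hom f =
            ((θ₀ ≫ h x) ≫ (g x).left ≫ σ.hom) ≫ pullback.fst f V.hom := by
          rw [← hσ1]; simp only [Category.assoc]; rfl
        rw [e, hkey, pullback.lift_fst]
      have hfst : (θ₀ ≫ h x) ≫ (g x).left ≫ pullback.fst V.hom f =
          pullback.fst (v' x ≫ V.hom) f ≫ v' x := by
        have e : (θ₀ ≫ h x) ≫ (g x).left ≫ pullback.fst V.hom f =
            ((θ₀ ≫ h x) ≫ (g x).left ≫ σ.hom) ≫ pullback.snd f V.hom := by
          rw [← hσ2]; simp only [Category.assoc]; rfl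
        rw [e, hkey, pullback.lift_snd]
      have hθ : (θ₀ ≫ h x) ≫ (U x).hom = ((EtCoh.bc f).obj (W x)).hom := by
        rw [← hUhom x, hsnd]
        rfl
      let θ : (EtCoh.bc f).obj (W x) ⟶ U x := MorphismProperty.Over.homMk (θ₀ ≫ h x) hθ
      have hfac : (EtCoh.bc f).map (k x) = θ ≫ g x := by
        apply MorphismProperty.Over.Hom.ext
        apply pullback.hom_ext
        · exact (bc_map_left_fst f (k x)).trans (hfst.symm.trans (Category.assoc _ _ _).symm)
        · exact (bc_map_left_snd f (k x)).trans (hsnd.symm.trans (Category.assoc _ _ _).symm)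
      rw [hfac]
      exact R.downward_closed (hRg x) θ
    · left
      obtain ⟨_, w, _, ⟨⟨⟩⟩, rfl⟩ := hg'
      rw [mem_smallEtale_iff]
      intro p
      exfalso
      have hcond : pullback.snd W'.hom f ≫ f =
          (pullback.fst W'.hom f ≫ (w ≫ k₀).left) ≫ V.hom := by
        have e1 : (w ≫ k₀).left ≫ V.hom = W'.hom := Over.w (w ≫ k₀).hom
        rw [Category.assoc, e1]
        exact pullback.condition.symm
      let m : pullback W'.hom f ⟶ pullback f V.hom :=
        pullback.lift (pullback.snd W'.hom f) (pullback.fst W'.hom f ≫ (w ≫ k₀).left) hcond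
      have hm : m ≫ pullback.snd f V.hom = pullback.fst W'.hom f ≫ (w ≫ k₀).left :=
        pullback.lift_snd _ _ _
      have e := congrArg (fun t => t p) hm
      simp only [Scheme.Hom.comp_apply] at e
      have hO : (w ≫ k₀).left ((pullback.fst W'.hom f) p) ∈ (O : Set V.left) :=
        (w.left ((pullback.fst W'.hom f) p)).2
      exact hO ⟨m p, e⟩


end Groth.Agent.S6632
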