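import Groth.Statements.S6633
import Mathlib
import Groth.Agent.S6630
-- import your own Groth.Agent.* helpers here

set_option autoImplicit false
set_option backward.isDefEq.respectTransparency.types false
open CategoryTheory CategoryTheory.Limits AlgebraicGeometry Opposite
universe u
open EtCore

namespace Groth.Agent.S6633

open TopologicalSpace

/-- gluing morphisms along an open cover with pairwise empty intersections. -/
theorem glue_of_disjoint {P U : Scheme.{u}} (𝒰 : P.OpenCover)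
    (hdisj : ∀ i j, i ≠ j → IsEmpty ↥(pullback (𝒰.f i) (𝒰.f j))) (H : ∀ i, 𝒰.X i ⟶ U) :
    ∃ h : P ⟶ U, ∀ i, 𝒰.f i ≫ h = H i := by
  classical
  have hcompat : ∀ i j, pullback.fst (𝒰.f i) (𝒰.f j) ≫ H i = pullback.snd _ _ ≫ H j := by
    intro i j
    by_cases hij : i = j
    · subst hij
      have : pullback.fst (𝒰.f i) (𝒰.f i) = pullback.snd (𝒰.f i) (𝒰.f i) := by
        rw [← cancel_mono (𝒰.f i)]; exact pullback.condition
      rw [this]
    · haveI := hdisj i j hij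
      exact (isInitialOfIsEmpty).hom_ext _ _
  exact ⟨𝒰.glueMorphisms H hcompat, fun i => 𝒰.ι_glueMorphisms H hcompat i⟩

/-- a family of partial solutions of condition (C) glues to a solution over the coproduct. -/
theorem glue_family {X Y U : Scheme.{u}} (f : X ⟶ Y) (g : U ⟶ X) {κ : Type u}
    (V' : κ → Scheme.{u}) (v' : ∀ j, V' j ⟶ Y) [∀ j, Etale (v' j)]
    (h : ∀ j, pullback f (v' j) ⟶ U) (hh : ∀ j, h j ≫ g = pullback.fst f (v' j))
    (hsurj : ∀ u : U, ∃ j, u ∈ Set.range (h j).base) :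
    ∃ (V : Scheme.{u}) (v : V ⟶ Y) (_ : Etale v) (h : pullback f v ⟶ U),
      h ≫ g = pullback.fst f v ∧ Surjective h := by
  let v : (∐ V') ⟶ Y := Sigma.desc v'
  have hιv : ∀ j, Sigma.ι V' j ≫ v = v' j := fun j => Sigma.ι_desc _ _
  haveI : Etale v := by
    rw [IsZariskiLocalAtSource.iff_of_openCover (P := @Etale) (sigmaOpenCover V')]
    intro (j : κ)
    have : (sigmaOpenCover V').f j ≫ v = v' j := hιv j
    rw [this]
    exact inferInstanceAs (Etale (v' j))
  let 𝒰 : (pullback f v).OpenCover := (sigmaOpenCover V').pullback₁ (pullback.snd f v)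
  let E : ∀ j, pullback (pullback.snd f v) (Sigma.ι V' j) ≅ pullback f (v' j) := fun j =>
    pullbackLeftPullbackSndIso f v (Sigma.ι V' j) ≪≫ pullback.congrHom rfl (hιv j)
  have hE_fst : ∀ j, (E j).hom ≫ pullback.fst f (v' j) =
      pullback.fst (pullback.snd f v) (Sigma.ι V' j) ≫ pullback.fst f v := by
    intro j
    simp only [E, Iso.trans_hom, Category.assoc, pullback.congrHom_hom, pullback.lift_fst,
      Category.comp_id]
    exact pullbackLeftPullbackSndIso_hom_fst f v (Sigma.ι V' j)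
  have hdisj : ∀ i j, i ≠ j → IsEmpty ↥(pullback (𝒰.f i) (𝒰.f j)) := by
    intro (i : κ) (j : κ) hij
    refine isEmpty_of_commSq_sigmaι_of_ne (g := V') (i := i) (j := j)
      (a := pullback.fst (𝒰.f i) (𝒰.f j) ≫ pullback.snd (pullback.snd f v) (Sigma.ι V' i))
      (b := pullback.snd (𝒰.f i) (𝒰.f j) ≫ pullback.snd (pullback.snd f v) (Sigma.ι V' j)) ⟨?_⟩ hij
    have h1 : pullback.snd (pullback.snd f v) (Sigma.ι V' i) ≫ Sigma.ι V' i =
        𝒰.f i ≫ pullback.snd f v := pullback.condition.symm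
    have h2 : pullback.snd (pullback.snd f v) (Sigma.ι V' j) ≫ Sigma.ι V' j =
        𝒰.f j ≫ pullback.snd f v := pullback.condition.symm
    rw [Category.assoc, Category.assoc]
    refine (congrArg (pullback.fst (𝒰.f i) (𝒰.f j) ≫ ·) h1).trans ?_
    refine Eq.trans ?_ (congrArg (pullback.snd (𝒰.f i) (𝒰.f j) ≫ ·) h2).symm
    exact pullback.condition_assoc _
  obtain ⟨ht, hht⟩ := glue_of_disjoint 𝒰 hdisj (fun j => (E j).hom ≫ h j)
  refine ⟨∐ V', v, inferInstance, ht, ?_, ⟨?_⟩⟩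
  · refine 𝒰.hom_ext _ _ fun j => ?_
    rw [← Category.assoc, hht j, Category.assoc, hh j]
    exact hE_fst j
  · intro u
    obtain ⟨j, q, hq⟩ := hsurj u
    refine ⟨𝒰.f j ((E j).inv q), ?_⟩
    change (𝒰.f j ≫ ht) ((E j).inv q) = u
    rw [hht j]
    change h j (((E j).inv ≫ (E j).hom) q) = u
    rw [Iso.inv_hom_id]
    exact hq

/-- the local solution of condition (C) around a point of `U`. -/
theorem exists_family {X Y U : Scheme.{u}} (f : X ⟶ Y) [IsIntegralHom f]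
    (hf : Topology.IsClosedEmbedding f.base) (g : U ⟶ X) [Etale g] (u : U) :
    ∃ (V' : Scheme.{u}) (v' : V' ⟶ Y) (_ : Etale v') (h : pullback f v' ⟶ U),
      h ≫ g = pullback.fst f v' ∧ u ∈ Set.range h.base := by
  classical
  haveI : LocallyQuasiFinite g :=
    ((Groth.Agent.Lib.Helper6.SmQF.etale_iff_smooth_and_locallyQuasiFinite g).mp inferInstance).2
  -- (a) isolate `u` in its fibre
  obtain ⟨O₀, hO₀, hO₀u⟩ :=
    (isDiscrete_iff_forall_mem_exists_isOpen.mp (g.isDiscrete_preimage_singleton (g u))) u rfl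
  let O : U.Opens := ⟨O₀, hO₀⟩
  have huO : u ∈ O := by
    have : u ∈ O₀ ∩ g ⁻¹' {g u} := by rw [hO₀u]; rfl
    exact this.1
  have hiso : ∀ z : U, z ∈ O → g z = g u → z = u := by
    intro z hz hgz
    have : z ∈ O₀ ∩ g ⁻¹' {g u} := ⟨hz, hgz⟩
    rw [hO₀u] at this
    exact this
  -- (b) the open of `Y`
  have hopen : IsOpen (g '' (O : Set U)) := g.isOpenMap _ O.2
  obtain ⟨V₀s, hV₀s, hV₀pre⟩ := hf.isInducing.isOpen_iff.mp hopen
  let V₀ : Y.Opens := ⟨V₀s, hV₀s⟩
  -- (c) the covering map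
  have hrange : Set.range (O.ι ≫ g ≫ f).base ⊆ Set.range V₀.ι.base := by
    rintro _ ⟨o, rfl⟩
    rw [Scheme.Opens.range_ι]
    change f (g (O.ι o)) ∈ V₀s
    have : g (O.ι o) ∈ f ⁻¹' V₀s := by
      rw [hV₀pre]; exact ⟨O.ι o, o.2, rfl⟩
    exact this
  let l : (O : Scheme.{u}) ⟶ V₀ := IsOpenImmersion.lift V₀.ι (O.ι ≫ g ≫ f) hrange
  have hl : l ≫ V₀.ι = O.ι ≫ g ≫ f := IsOpenImmersion.lift_fac _ _ _
  let g₀ : (O : Scheme.{u}) ⟶ pullback f V₀.ι :=
    pullback.lift (O.ι ≫ g) l (by rw [Category.assoc, hl])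
  have hg₀ : g₀ ≫ pullback.fst f V₀.ι = O.ι ≫ g := pullback.lift_fst _ _ _
  haveI : Etale (g₀ ≫ pullback.fst f V₀.ι) := by rw [hg₀]; infer_instance
  haveI : Etale g₀ := Etale.of_comp g₀ (pullback.fst f V₀.ι)
  have hg₀surj : ∀ x : ↥(pullback f V₀.ι), x ∈ Set.range g₀.base := by
    intro x
    have h1 : (pullback.fst f V₀.ι) x ∈ f ⁻¹' V₀s := by
      change f ((pullback.fst f V₀.ι) x) ∈ V₀s
      have : f ((pullback.fst f V₀.ι) x) = V₀.ι ((pullback.snd f V₀.ι) x) := by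
        change (pullback.fst f V₀.ι ≫ f) x = (pullback.snd f V₀.ι ≫ V₀.ι) x
        rw [pullback.condition]
      rw [this]
      exact ((pullback.snd f V₀.ι) x).2
    rw [hV₀pre] at h1
    obtain ⟨o, ho, hox⟩ := h1
    refine ⟨⟨o, ho⟩, ?_⟩
    apply (pullback.fst f V₀.ι).isOpenEmbedding.injective
    change (g₀ ≫ pullback.fst f V₀.ι) ⟨o, ho⟩ = _
    rw [hg₀]
    exact hox
  -- (d) condition (B)
  obtain ⟨κ, V', v', hv', hcov, hW⟩ := Groth.Agent.S6630.result f V₀ V₀.ι PUnit.{u+1}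
    (fun _ => (O : Scheme.{u})) (fun _ => g₀) (fun _ => inferInstance) (fun x => ⟨⟨⟩, hg₀surj x⟩)
  -- the point of `Y` under `u`
  have hfu : f (g u) ∈ V₀ := by
    have : g u ∈ f ⁻¹' V₀s := by rw [hV₀pre]; exact ⟨u, huO, rfl⟩
    exact this
  obtain ⟨j, y', hy'⟩ := hcov ⟨f (g u), hfu⟩
  haveI := hv' j
  obtain ⟨μ, W, hWdisj, hWtop, hWa⟩ := hW j
  choose i H hH using hWa
  -- (e) glue
  let 𝒰 := (pullback f (v' j ≫ V₀.ι)).openCoverOfIsOpenCover W hWtop
  have hdisj : ∀ a b, a ≠ b → IsEmpty ↥(pullback (𝒰.f a) (𝒰.f b)) := by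
    intro a b hab
    refine ⟨fun z => ?_⟩
    have h1 : (pullback.fst (𝒰.f a) (𝒰.f b) ≫ 𝒰.f a) z ∈ W a :=
      ((pullback.fst (𝒰.f a) (𝒰.f b)) z).2
    have h2 : (pullback.fst (𝒰.f a) (𝒰.f b) ≫ 𝒰.f a) z ∈ W b := by
      rw [pullback.condition]
      exact ((pullback.snd (𝒰.f a) (𝒰.f b)) z).2
    have := (hWdisj a b hab).le_bot ⟨h1, h2⟩
    exact this
  obtain ⟨hj, hhj⟩ := glue_of_disjoint 𝒰 hdisj (fun a => H a)
  have hhj' : hj ≫ g₀ = pullback.map f (v' j ≫ V₀.ι) f V₀.ι (𝟙 X) (v' j) (𝟙 Y) (by simp) (by simp) := by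
    refine 𝒰.hom_ext _ _ fun a => ?_
    rw [← Category.assoc, hhj a]
    exact hH a
  refine ⟨V' j, v' j ≫ V₀.ι, inferInstance, hj ≫ O.ι, ?_, ?_⟩
  · rw [Category.assoc, ← hg₀, ← Category.assoc, hhj']
    exact (pullback.lift_fst _ _ _).trans (Category.comp_id _)
  · -- (f)
    obtain ⟨z, hz1, hz2⟩ := Scheme.Pullback.exists_preimage_pullback (f := f) (g := v' j ≫ V₀.ι)
      (g u) y' (by
        change f (g u) = V₀.ι ((v' j) y')
        rw [hy']; rfl)
    refine ⟨z, ?_⟩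
    change O.ι (hj z) = u
    apply hiso _ (hj z).2
    have : hj ≫ O.ι ≫ g = pullback.fst f (v' j ≫ V₀.ι) := by
      rw [← hg₀, ← Category.assoc, hhj']
      exact (pullback.lift_fst _ _ _).trans (Category.comp_id _)
    change (hj ≫ O.ι ≫ g) z = g u
    rw [this]
    exact hz1

/-- An integral morphism of schemes whose underlying continuous map is a homeomorphism onto a closed
subset (a closed topological embedding) satisfies condition (C): for every etale U ⟶ X there are an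
etale V ⟶ Y and a surjective X-morphism X ×_Y V ⟶ U. -/
theorem result {X Y : Scheme.{u}} (f : X ⟶ Y) [IsIntegralHom f]
    (hf : Topology.IsClosedEmbedding f.base) : BigSite.PropC f := by
  intro U g _
  choose V' v' hv' h hh hu using fun u : U => exists_family f hf g u
  haveI := hv'
  exact glue_family f g V' v' h hh (fun u => ⟨u, hu u⟩)

end Groth.Agent.S6633
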