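import Groth.Statements.S6635
import Mathlib
import Groth.Agent.Lib.Helper12EtaleNbhdLiftOI
import Groth.Agent.Lib.Helper20SmoothSec
-- import your own Groth.Agent.* helpers here

set_option autoImplicit false
set_option backward.isDefEq.respectTransparency.types false
open CategoryTheory CategoryTheory.Limits AlgebraicGeometry Opposite
universe u
open BigSite

namespace Groth.Agent.S6635


/-- etale and smooth morphisms lift etale-locally along a closed immersion, up to refinement. -/
theorem exists_lift {W W' : Scheme.{u}} (j : W ⟶ W') [IsClosedImmersion j]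
    {W₀ : Scheme.{u}} (p₀ : W₀ ⟶ W) (hp₀ : Etale p₀ ∨ Smooth p₀) (w : W₀) :
    ∃ (V V₀ : Scheme.{u}) (c : V ⟶ W') (i₀ : V₀ ⟶ V) (r : V₀ ⟶ W₀),
      Etale c ∧ IsPullback i₀ (r ≫ p₀) c j ∧ j (p₀ w) ∈ Set.range c := by
  rcases hp₀ with h | h
  · obtain ⟨V, V₀, c, i₀, r, -, hc, hpb, ⟨v₀, hv₀⟩, -⟩ :=
      Groth.Agent.Lib.Helper12.EtaleNbhdLiftOI.exists_lift_etale_nbhd_oi j p₀ w
    refine ⟨V, V₀, c, i₀, r, hc, hpb, i₀ v₀, ?_⟩
    change (i₀ ≫ c) v₀ = _
    rw [hpb.w, ← hv₀]
    rfl
  · obtain ⟨S', g, s', hg, hgs, h', hh'⟩ :=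
      Groth.Agent.Lib.Helper20.SmoothSec.exists_etale_section_of_smooth p₀ w
    obtain ⟨V, V₀, c, i₀, r, -, hc, hpb, ⟨v₀, hv₀⟩, -⟩ :=
      Groth.Agent.Lib.Helper12.EtaleNbhdLiftOI.exists_lift_etale_nbhd_oi j g s'
    refine ⟨V, V₀, c, i₀, r ≫ h', hc, ?_, i₀ v₀, ?_⟩
    · rw [Category.assoc, hh']; exact hpb
    · change (i₀ ≫ c) v₀ = _
      rw [hpb.w, ← hgs, ← hv₀]
      rfl

theorem main {X Y : Scheme.{u}} (f : X ⟶ Y) [IsClosedImmersion f]
    (P : MorphismProperty Scheme.{u}) [P.IsStableUnderBaseChange] [P.IsMultiplicative]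
    (hEt : ∀ {A B : Scheme.{u}} (g : A ⟶ B), Etale g → P g)
    (hP : ∀ {A B : Scheme.{u}} (g : A ⟶ B), P g → Etale g ∨ Smooth g) :
    BigSite.IsAlmostCocontinuous (Over.pullback f) (QuotSh.J (Scheme.precoverage P) Y)
      (QuotSh.J (Scheme.precoverage P) X) := by
  classical
  intro U R hR
  rw [GrothendieckTopology.mem_over_iff] at hR
  obtain ⟨𝒰, h𝒰⟩ := Scheme.exists_cover_of_mem_grothendieckTopology hR
  -- notation
  let W : Scheme.{u} := pullback U.hom f
  let j : W ⟶ U.left := pullback.fst U.hom f
  haveI : IsClosedImmersion j := inferInstanceAs (IsClosedImmersion (pullback.fst U.hom f))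
  have hcov : ∀ q : W, ∃ (i : 𝒰.I₀) (w : 𝒰.X i), 𝒰.f i w = q := fun q => by
    obtain ⟨i, w, hw⟩ := 𝒰.exists_eq q
    exact ⟨i, w, hw⟩
  choose iq wq hwq using hcov
  have hlift : ∀ q : W, ∃ (V V₀ : Scheme.{u}) (c : V ⟶ U.left) (i₀ : V₀ ⟶ V) (r : V₀ ⟶ 𝒰.X (iq q)),
      Etale c ∧ IsPullback i₀ (r ≫ 𝒰.f (iq q)) c j ∧ j (𝒰.f (iq q) (wq q)) ∈ Set.range c :=
    fun q => exists_lift j (𝒰.f (iq q)) (hP _ (𝒰.map_prop (iq q))) (wq q)
  choose V V₀ c i₀ r hc hpb hrange using hlift
  -- the open complement
  let U₀ : U.left.Opens := ⟨(Set.range j)ᶜ, j.isClosedEmbedding.isClosed_range.isOpen_compl⟩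
  let Xs : Option W → Scheme.{u} := fun k => Option.casesOn k (U₀ : Scheme.{u}) V
  let fs : ∀ k, Xs k ⟶ U.left := fun k => Option.casesOn k U₀.ι c
  have hmem : Presieve.ofArrows Xs fs ∈ Scheme.precoverage P U.left := by
    rw [Scheme.ofArrows_mem_precoverage_iff]
    refine ⟨fun x => ?_, fun k => ?_⟩
    · by_cases hx : x ∈ Set.range j
      · obtain ⟨q, rfl⟩ := hx
        refine ⟨some q, ?_⟩
        have := hrange q
        rw [hwq q] at this
        exact this
      · refine ⟨none, ?_⟩
        change x ∈ Set.range U₀.ι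
        rw [Scheme.Opens.range_ι]
        exact hx
    · cases k with
      | none => exact hEt _ (inferInstanceAs (Etale U₀.ι))
      | some q => exact hEt _ (hc q)
  refine ⟨(Sieve.overEquiv U).symm (Sieve.generate (Presieve.ofArrows Xs fs)), ?_, ?_⟩
  · rw [GrothendieckTopology.mem_over_iff, OrderIso.apply_symm_apply]
    exact Precoverage.generate_mem_toGrothendieck hmem
  · intro T g hg
    rw [Sieve.overEquiv_symm_iff] at hg
    obtain ⟨Z, a, b, ⟨k⟩, hab⟩ := hg
    cases k with
    | none =>
      left
      have hempty : IsEmpty ↥(pullback T.hom f) := by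
        refine ⟨fun z => ?_⟩
        obtain ⟨q, hq1, hq2⟩ := Scheme.Pullback.exists_preimage_pullback (f := U.hom) (g := f)
          (g.left ((pullback.fst T.hom f) z)) ((pullback.snd T.hom f) z) (by
            change (g.left ≫ U.hom) _ = _
            rw [Over.w g]
            change (pullback.fst T.hom f ≫ T.hom) z = (pullback.snd T.hom f ≫ f) z
            rw [pullback.condition])
        have h1 : g.left ((pullback.fst T.hom f) z) ∈ U₀ := by
          rw [← hab]
          exact (a ((pullback.fst T.hom f) z)).2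
        exact h1 ⟨q, hq1⟩
      rw [GrothendieckTopology.mem_over_iff]
      haveI : IsEmpty ↥((Over.pullback f).obj T).left := hempty
      exact (Scheme.precoverage P).toGrothendieck.superset_covering bot_le
        (Scheme.bot_mem_grothendieckTopology (P := P) _)
    | some q =>
      right
      have h1 : (Sieve.overEquiv _ R) ((Over.pullback f).map g).left := by
        have hfac : (pullback.fst T.hom f ≫ a) ≫ c q = ((Over.pullback f).map g).left ≫ j := by
          have hab' : a ≫ c q = g.left := hab
          rw [Category.assoc, hab']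
          exact (pullback.lift_fst _ _ _).symm
        have h2 : ((Over.pullback f).map g).left =
            ((hpb q).lift _ _ hfac ≫ r q) ≫ 𝒰.f (iq q) := by
          rw [Category.assoc, (hpb q).lift_snd]
        rw [h2]
        exact Sieve.downward_closed _ (h𝒰 _ _ (Presieve.ofArrows.mk (iq q))) _
      have h3 : R = (Sieve.overEquiv _).symm (Sieve.overEquiv _ R) := by
        rw [OrderIso.symm_apply_apply]
      rw [h3, Sieve.overEquiv_symm_iff]
      exact h1

/-- For the etale and the smooth topologies: for a closed immersion of schemes f : X ⟶ Y the base change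
functor V ↦ X ×_Y V from schemes over Y to schemes over X is almost cocontinuous between the big
sites: every covering sieve of X ×_Y V is answered by a covering sieve of V each of whose members
V_j either has X ×_Y V_j covered by the empty sieve or has X ×_Y V_j ⟶ X ×_Y V in the given sieve.
(The published statement also covers the syntomic topology; this row treats the etale and smooth
topologies only.) -/
theorem result {X Y : Scheme.{u}} (f : X ⟶ Y) [IsClosedImmersion f]
    (K : Precoverage Scheme.{u}) (hK : K = Scheme.etalePrecoverage ∨ K = Scheme.precoverage @Smooth) :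
    BigSite.IsAlmostCocontinuous (Over.pullback f) (QuotSh.J K Y) (QuotSh.J K X) := by
  rcases hK with rfl | rfl
  · exact main f @Etale (fun _ h => h) (fun _ h => Or.inl h)
  · haveI : MorphismProperty.IsMultiplicative (@Smooth : MorphismProperty Scheme.{u}) :=
      { id_mem := fun X => inferInstanceAs (Smooth (𝟙 X)) }
    exact main f @Smooth (fun _ h => by haveI := h; infer_instance) (fun _ h => Or.inr h)

end Groth.Agent.S6635
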