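import Groth.Statements.S6636
import Mathlib
import Groth.Agent.S6635
import Groth.Agent.Lib.Helper23AlmostCocont
-- import your own Groth.Agent.* helpers here

set_option autoImplicit false
set_option backward.isDefEq.respectTransparency.types false
open CategoryTheory CategoryTheory.Limits AlgebraicGeometry Opposite
universe u
open BigSite

namespace Groth.Agent.S6636


open Groth.Agent.Lib.Helper23.AlmostCocont

/-- For the etale and the smooth topologies: for a closed immersion of schemes f : X ⟶ Y the big direct
image along f preserves coequalizers and pushouts of sheaves of sets, and preserves finite colimits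
of abelian sheaves (so it is exact there, being a right adjoint). (The published statement also
covers the syntomic topology; this row treats the etale and smooth topologies only.) -/
theorem result {X Y : Scheme.{u}} (f : X ⟶ Y) [IsClosedImmersion f]
    (K : Precoverage Scheme.{u}) (hK : K = Scheme.etalePrecoverage ∨ K = Scheme.precoverage @Smooth) :
    PreservesColimitsOfShape WalkingParallelPair (BigSite.pushBig K f (Type (u + 1))) ∧
      PreservesColimitsOfShape WalkingSpan (BigSite.pushBig K f (Type (u + 1))) ∧
      PreservesFiniteColimits (BigSite.pushBig K f AddCommGrpCat.{u + 1}) := by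
  have hac := Groth.Agent.S6635.result f K hK
  refine ⟨?_, ?_, ?_⟩
  · exact preservesColimitsOfShape_of_isConnected.{u+1,u,u,u+1,u+1} (QuotSh.J K Y) (QuotSh.J K X) (Over.pullback f) hac
      WalkingParallelPair
  · exact preservesColimitsOfShape_of_isConnected.{u+1,u,u,u+1,u+1} (QuotSh.J K Y) (QuotSh.J K X) (Over.pullback f) hac
      WalkingSpan
  · haveI := preservesEpimorphisms_ab.{u+1,u,u,u+1,u+1} (QuotSh.J K Y) (QuotSh.J K X) (Over.pullback f) hac
    haveI : PreservesFiniteLimits (BigSite.pushBig K f AddCommGrpCat.{u + 1}) := by
      haveI := (BigSite.bigAdj K f AddCommGrpCat.{u + 1}).rightAdjoint_preservesLimits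
      infer_instance
    rw [Functor.preservesFiniteColimits_iff_forall_exact_map_and_epi]
    intro S hS
    refine ⟨?_, ?_⟩
    · exact ((Functor.preservesFiniteLimits_iff_forall_exact_map_and_mono _).mp inferInstance S hS).1
    · haveI := hS.epi_g
      infer_instance

end Groth.Agent.S6636
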