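import Groth.Statements.S6637
import Mathlib
-- import your own Groth.Agent.* helpers here

set_option autoImplicit false
open CategoryTheory CategoryTheory.Limits AlgebraicGeometry Opposite
universe u
open BigSite

namespace Groth.Agent.S6637

lemma isIso_lift_of_mono {C : Type*} [Category C] [HasPullbacks C] {X Y T : C} (f : X ⟶ Y) [Mono f]
    (t : T ⟶ X) : IsIso (pullback.lift (𝟙 T) t (by simp) : T ⟶ pullback (t ≫ f) f) := by
  refine ⟨pullback.fst _ _, pullback.lift_fst _ _ _, ?_⟩
  apply pullback.hom_ext
  · rw [Category.assoc, pullback.lift_fst, Category.comp_id, Category.id_comp]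
  · rw [Category.assoc, pullback.lift_snd, Category.id_comp, ← cancel_mono f, Category.assoc]
    exact pullback.condition

/-- the unit of `Over.map f ⊣ Over.pullback f` is an isomorphism when `f` is a monomorphism -/
lemma isIso_unit_of_mono {C : Type*} [Category C] [HasPullbacks C] {X Y : C} (f : X ⟶ Y) [Mono f]
    (T : Over X) : IsIso ((Over.mapPullbackAdj f).unit.app T) := by
  have : IsIso ((Over.forget X).map ((Over.mapPullbackAdj f).unit.app T)) := by
    rw [Over.mapPullbackAdj_unit_app]
    exact isIso_lift_of_mono f T.hom
  exact isIso_of_reflects_iso _ (Over.forget X)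

set_option backward.isDefEq.respectTransparency.types false in
lemma isIso_counit {X Y : Scheme.{u}} (f : X ⟶ Y) [Mono f] (K : Precoverage Scheme.{u})
    (A : Type (u + 2)) [Category.{u + 1} A] (F : Sheaf (QuotSh.J K X) A) :
    IsIso ((BigSite.bigAdj K f A).counit.app F) := by
  have h1 : IsIso ((sheafToPresheaf _ _).map ((BigSite.bigAdj K f A).counit.app F)) := by
    have h2 : ∀ T, IsIso (((sheafToPresheaf _ _).map ((BigSite.bigAdj K f A).counit.app F)).app T) := by
      intro T
      have := isIso_unit_of_mono f (unop T)
      have e : ((sheafToPresheaf _ _).map ((BigSite.bigAdj K f A).counit.app F)).app T =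
          F.obj.map ((Over.mapPullbackAdj f).unit.app (unop T)).op :=
        Adjunction.sheafPushforwardContinuous_counit_app_hom_app (Over.mapPullbackAdj f)
          (QuotSh.J K X) (QuotSh.J K Y) F T
      rw [e]
      have h3 : IsIso ((Over.mapPullbackAdj f).unit.app (unop T)).op := inferInstance
      exact Functor.map_isIso F.obj _
    exact NatIso.isIso_of_isIso_app _
  exact isIso_of_reflects_iso _ (sheafToPresheaf _ _)


/-- For the Zariski, etale, smooth and fppf topologies: for a monomorphism of schemes f : X ⟶ Y the
counit f_big⁻¹ f_big,* F ⟶ F is an isomorphism for every sheaf of sets F on the big site of X, and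
for every abelian sheaf. (The published statement also covers the syntomic topology; this row treats
the Zariski, etale, smooth and fppf topologies only.) -/
theorem result {X Y : Scheme.{u}} (f : X ⟶ Y) [Mono f]
    (K : Precoverage Scheme.{u}) (hK : K = Scheme.zariskiPrecoverage ∨ K = Scheme.etalePrecoverage ∨
      K = Scheme.precoverage @Smooth ∨ K = Scheme.fppfPrecoverage) :
    (∀ F : QuotSh.Sh K X, IsIso ((BigSite.bigAdj K f (Type (u + 1))).counit.app F)) ∧
      (∀ F : BigSite.Ab K X, IsIso ((BigSite.bigAdj K f AddCommGrpCat.{u + 1}).counit.app F)) := by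
  exact ⟨fun F => isIso_counit f K _ F, fun F => isIso_counit f K _ F⟩

end Groth.Agent.S6637
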