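import Groth.Statements.S6639
import Mathlib
import Groth.Agent.Lib.Helper22SigmaLin

set_option autoImplicit false
universe u
open scoped TensorProduct
open EtBase

namespace Groth.Agent.S6639

open Groth.Agent.Lib.Helper22.SigmaLin

/-- Let k ⟶ k' be a homomorphism of algebraically closed fields of characteristic p > 0 (an extension of
algebraically closed fields), V a finite-dimensional k-vector space, F : V ⟶ V additive with F(c •
v) = c^p • F(v), and F' the additive endomorphism of V' = k' ⊗_k V satisfying F'(c ⊗ v) = c^p ⊗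
F(v). Then v ↦ 1 ⊗ v maps the fixed vectors of F bijectively onto the fixed vectors of F'. -/
theorem result {k k' V : Type u} [Field k] [IsAlgClosed k] [Field k']
    [IsAlgClosed k'] [Algebra k k'] (p : ℕ) [Fact p.Prime] [CharP k p]
    [AddCommGroup V] [Module k V] [FiniteDimensional k V] (F : V →+ V)
    (hF : ∀ (c : k) (v : V), F (c • v) = c ^ p • F v)
    (F' : k' ⊗[k] V →+ k' ⊗[k] V) (hF' : ∀ (c : k') (v : V), F' (c ⊗ₜ[k] v) = (c ^ p) ⊗ₜ[k] F v) :
    Set.BijOn (fun v : V => (1 : k') ⊗ₜ[k] v) {v : V | F v = v} {w : k' ⊗[k] V | F' w = w} := by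
  classical
  have hσ : Function.Surjective (frobenius k p) := surjective_frobenius k p
  obtain ⟨-, b, hb⟩ := surjective_and_fixed_basis (σ := frobenius k p) hσ
    (ofAdd p F hF) (fun n b hb => frob_h2 p n b hb) (fun c => frob_h3 p c)
  obtain ⟨N, hN⟩ := exists_W_stable (ofAdd p F hF)
  have hU : (⨅ n : ℕ, Submodule.span k (Set.range ((⇑(ofAdd p F hF))^[n]))) = W (ofAdd p F hF) N :=
    iInf_W_eq (ofAdd p F hF) hN
  -- roots of X^p - X in k' come from k
  have key : ∀ d : k', d ^ p = d → ∃ a : k, a ^ p = a ∧ algebraMap k k' a = d := by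
    intro d hd
    have hp2 : 2 ≤ p := (Fact.out : p.Prime).two_le
    have hnd : (Polynomial.X ^ p - Polynomial.X : Polynomial k).natDegree = p := by
      rw [Polynomial.natDegree_sub_eq_left_of_natDegree_lt, Polynomial.natDegree_X_pow]
      rw [Polynomial.natDegree_X_pow, Polynomial.natDegree_X]
      omega
    have hne : (Polynomial.X ^ p - Polynomial.X : Polynomial k) ≠ 0 := by
      intro h
      rw [h, Polynomial.natDegree_zero] at hnd
      omega
    have hsp : (Polynomial.X ^ p - Polynomial.X : Polynomial k).Splits := IsAlgClosed.splits _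
    have hroot : ((Polynomial.X ^ p - Polynomial.X : Polynomial k).map (algebraMap k k')).IsRoot d := by
      simp [Polynomial.IsRoot.def, hd]
    have hmem : ((Polynomial.X ^ p - Polynomial.X : Polynomial k).map (algebraMap k k')).roots =
        (Polynomial.X ^ p - Polynomial.X : Polynomial k).roots.map (algebraMap k k') :=
      hsp.roots_map _
    rw [← Polynomial.mem_roots (Polynomial.map_ne_zero hne), hmem, Multiset.mem_map] at hroot
    obtain ⟨a, ha, rfl⟩ := hroot
    refine ⟨a, ?_, rfl⟩
    rw [Polynomial.mem_roots hne, Polynomial.IsRoot.def] at ha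
    simp only [Polynomial.eval_sub, Polynomial.eval_pow, Polynomial.eval_X] at ha
    exact sub_eq_zero.mp ha
  -- iterates of F'
  have hiter : ∀ (n : ℕ) (c : k') (v : V), (⇑F')^[n] (c ⊗ₜ[k] v) = (c ^ (p ^ n)) ⊗ₜ[k] ((⇑F)^[n] v) := by
    intro n
    induction n with
    | zero => intro c v; simp
    | succ n ih =>
      intro c v
      rw [Function.iterate_succ_apply, hF', ih, Function.iterate_succ_apply, ← pow_mul, pow_succ']
  -- linear independence of 1 ⊗ b i
  have hli : LinearIndependent k' (fun i => (1 : k') ⊗ₜ[k] ((b i : _) : V)) := by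
    have h1 : LinearIndependent k (fun i => ((b i : _) : V)) :=
      b.linearIndependent.map' (Submodule.subtype _) (Submodule.ker_subtype _)
    exact Module.Flat.linearIndependent_one_tmul h1
  -- image of F'^[N] lies in the span
  have hspan : ∀ w : k' ⊗[k] V, (⇑F')^[N] w ∈
      Submodule.span k' (Set.range (fun i => (1 : k') ⊗ₜ[k] ((b i : _) : V))) := by
    intro w
    induction w using TensorProduct.induction_on with
    | zero => rw [iterate_map_zero]; exact Submodule.zero_mem _
    | add x y hx hy => rw [iterate_map_add]; exact Submodule.add_mem _ hx hy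
    | tmul c v =>
      rw [hiter]
      have hmem : (⇑F)^[N] v ∈ (⨅ n : ℕ, Submodule.span k (Set.range ((⇑(ofAdd p F hF))^[n]))) := by
        rw [hU]
        exact iterate_mem_W (ofAdd p F hF) N v
      set u : ↥(⨅ n : ℕ, Submodule.span k (Set.range ((⇑(ofAdd p F hF))^[n]))) := ⟨_, hmem⟩ with hu
      have h2 : (⇑F)^[N] v = ∑ j, b.repr u j • ((b j : _) : V) := by
        have := congrArg (Submodule.subtype _) (b.sum_repr u).symm
        rw [map_sum] at this
        simpa using this
      rw [h2, TensorProduct.tmul_sum]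
      refine Submodule.sum_mem _ (fun j _ => ?_)
      have h3 : (c ^ p ^ N) ⊗ₜ[k] (b.repr u j • ((b j : _) : V)) =
          (b.repr u j • c ^ p ^ N) • ((1 : k') ⊗ₜ[k] ((b j : _) : V)) := by
        rw [TensorProduct.tmul_smul, TensorProduct.smul_tmul', TensorProduct.smul_tmul', smul_eq_mul,
          mul_one]
      rw [h3]
      exact Submodule.smul_mem _ _ (Submodule.subset_span ⟨j, rfl⟩)
  refine ⟨?_, ?_, ?_⟩
  · intro v hv
    simp only [Set.mem_ofPred_eq] at hv ⊢
    rw [hF', one_pow, hv]
  · exact (Module.Flat.tensorProduct_mk_injective k V k').injOn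
  · intro w hw
    simp only [Set.mem_ofPred_eq] at hw
    have hw' : (⇑F')^[N] w = w := Function.iterate_fixed hw N
    have hws := hspan w
    rw [hw', Submodule.mem_span_range_iff_exists_fun] at hws
    obtain ⟨d, hd⟩ := hws
    have hFw : F' w = ∑ i, (d i ^ p) • ((1 : k') ⊗ₜ[k] ((b i : _) : V)) := by
      rw [← hd, map_sum]
      refine Finset.sum_congr rfl (fun i _ => ?_)
      rw [TensorProduct.smul_tmul', TensorProduct.smul_tmul', smul_eq_mul, mul_one, smul_eq_mul,
        mul_one, hF']
      have := hb i
      rw [ofAdd_apply] at this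
      rw [this]
    have hdp : ∀ i, d i ^ p = d i := by
      have h0 : ∑ i, (d i ^ p) • ((1 : k') ⊗ₜ[k] ((b i : _) : V)) =
          ∑ i, d i • ((1 : k') ⊗ₜ[k] ((b i : _) : V)) := by
        rw [← hFw, hd, hw]
      intro i
      exact hli.eq_coords_of_eq h0 i
    choose a ha1 ha2 using fun i => key (d i) (hdp i)
    refine ⟨∑ i, a i • ((b i : _) : V), ?_, ?_⟩
    · simp only [Set.mem_ofPred_eq]
      rw [map_sum]
      refine Finset.sum_congr rfl (fun i _ => ?_)
      have := hb i
      rw [ofAdd_apply] at this
      rw [hF, ha1, this]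
    · show (1 : k') ⊗ₜ[k] (∑ i, a i • ((b i : _) : V)) = w
      rw [← hd, TensorProduct.tmul_sum]
      refine Finset.sum_congr rfl (fun i _ => ?_)
      rw [TensorProduct.tmul_smul, TensorProduct.smul_tmul', TensorProduct.smul_tmul', ← ha2,
        Algebra.smul_def, mul_one, smul_eq_mul, mul_one]

end Groth.Agent.S6639
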