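import Groth.Statements.S6645
import Mathlib
import Groth.Agent.Lib.Helper23FlcSerre
import Groth.Agent.Lib.Helper23FlcExt
-- import your own Groth.Agent.* helpers here

set_option autoImplicit false
set_option backward.isDefEq.respectTransparency.types false
open CategoryTheory CategoryTheory.Limits AlgebraicGeometry Opposite
universe u
open EtCore

namespace Groth.Agent.S6645


open Groth.Agent.Lib.Helper23FlcSerre Groth.Agent.Lib.Helper23FlcExt

/-- On the small etale site of a scheme, kernels and cokernels of maps between finite locally constant
abelian sheaves are finite locally constant, and the property of being finite locally constant is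
closed under extensions (a weak Serre subcategory). -/
theorem result (X : Scheme.{u}) :
    (∀ (F G : EtCoh.Ab X) (φ : F ⟶ G), EtCoh.IsFiniteLocallyConstant F → EtCoh.IsFiniteLocallyConstant G →
      EtCoh.IsFiniteLocallyConstant (kernel φ) ∧ EtCoh.IsFiniteLocallyConstant (cokernel φ)) ∧
    ObjectProperty.IsClosedUnderExtensions (fun F : EtCoh.Ab X => EtCoh.IsFiniteLocallyConstant F) := by
  refine ⟨fun F G φ hF hG => ⟨isFlc_kernel φ hF hG, isFlc_cokernel φ hF hG⟩, ⟨?_⟩⟩
  intro S hS h1 h3
  exact isFlc_of_shortExact S hS h1 h3

end Groth.Agent.S6645
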