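import Groth.Statements.S6648
import Mathlib

set_option autoImplicit false
open CategoryTheory CategoryTheory.Limits AlgebraicGeometry Opposite
universe u
open EtCore

namespace Groth.Agent.S6648

/-- For a sheaf of (commutative) rings O on the small etale site of a scheme S, the set of points s of S
over which some geometric stalk of O is a nonzero ring is closed in S. (Rings are taken in the
universe of the schemes, as for the structure presheaf of the prelude.) -/
theorem result {S : Scheme.{u}} (O : Sheaf S.smallEtaleTopology CommRingCat.{u}) :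
    IsClosed {s : ↥S | ∃ (Ω : Type u) (_ : Field Ω) (_ : IsSepClosed Ω) (ξ : Spec (CommRingCat.of Ω) ⟶ S),
      ξ.base default = s ∧ Nontrivial ↑((Scheme.pointSmallEtale ξ).presheafFiber.obj O.obj)} := by
  let W : Set ↥S :=
    ⋃ (V : S.Etale) (_ : (1 : ↥(O.obj.obj (op V))) = 0), Set.range V.hom
  have hW : IsOpen W := isOpen_iUnion fun V => isOpen_iUnion fun _ =>
    V.hom.isOpenMap.isOpen_range
  have key : {s : ↥S | ∃ (Ω : Type u) (_ : Field Ω) (_ : IsSepClosed Ω)
      (ξ : Spec (CommRingCat.of Ω) ⟶ S),
      ξ.base default = s ∧ Nontrivial ↑((Scheme.pointSmallEtale ξ).presheafFiber.obj O.obj)} = Wᶜ := by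
    ext s
    constructor
    · rintro ⟨Ω, _, _, ξ, hs, hnt⟩ hsW
      simp only [W, Set.mem_iUnion, Set.mem_range] at hsW
      obtain ⟨V, h10, v, hv⟩ := hsW
      obtain ⟨l, hl, -⟩ := Scheme.exists_fac_of_etale_of_isSepClosed V.hom ξ v (hv.trans hs.symm)
      let x : (Scheme.pointSmallEtale ξ).fiber.obj V := Over.homMk l hl
      have h1 : (Scheme.pointSmallEtale ξ).toPresheafFiber V x O.obj 1 =
          (Scheme.pointSmallEtale ξ).toPresheafFiber V x O.obj 0 := congrArg _ h10
      rw [map_one, map_zero] at h1
      exact one_ne_zero h1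
    · intro hsW
      let κ := S.residueField s
      let ξ : Spec (CommRingCat.of (AlgebraicClosure κ)) ⟶ S :=
        Spec.map (CommRingCat.ofHom (algebraMap κ (AlgebraicClosure κ))) ≫
          S.fromSpecResidueField s
      have hξ : ξ.base default = s := Scheme.fromSpecResidueField_apply s _
      refine ⟨AlgebraicClosure κ, inferInstance, inferInstance, ξ, hξ, ?_⟩
      by_contra hnt
      rw [not_nontrivial_iff_subsingleton] at hnt
      apply hsW
      obtain ⟨N⟩ := (Scheme.pointSmallEtale ξ).isCofiltered.nonempty
      have h1 : (Scheme.pointSmallEtale ξ).toPresheafFiber N.1 N.2 O.obj 1 =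
          (Scheme.pointSmallEtale ξ).toPresheafFiber N.1 N.2 O.obj 0 :=
        Subsingleton.elim (α := ↑((Scheme.pointSmallEtale ξ).presheafFiber.obj O.obj)) _ _
      rw [GrothendieckTopology.Point.toPresheafFiber_eq_iff'] at h1
      obtain ⟨V, φ, y, hy, h10⟩ := h1
      rw [map_one, map_zero] at h10
      simp only [W, Set.mem_iUnion, Set.mem_range]
      refine ⟨V, h10, y.left (default : Spec (CommRingCat.of (AlgebraicClosure κ))), ?_⟩
      have h2 : y.left ≫ V.hom = ξ := Over.w y
      refine Eq.trans ?_ hξ
      exact congrArg (fun k : Spec (CommRingCat.of (AlgebraicClosure κ)) ⟶ S =>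
        k.base (default : Spec (CommRingCat.of (AlgebraicClosure κ)))) h2
  rw [key]
  exact hW.isClosed_compl

end Groth.Agent.S6648
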