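import Groth.Statements.S6649
import Groth.Agent.Lib.LeadTsenCurve
-- import your own Groth.Agent.* helpers here

set_option autoImplicit false
open CategoryTheory CategoryTheory.Limits AlgebraicGeometry Opposite
universe u
open Curves

namespace Groth.Agent.S6649

/-- For a curve C over an algebraically closed field k (C integral of dimension one, separated and of
finite type over k) the Brauer group of the function field of C is zero: every finite-dimensional
central division algebra over the function field has dimension one. -/
theorem result (k : Type u) [Field k] [IsAlgClosed k] (C : Scheme.{u})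
    (f : C ⟶ Spec (CommRingCat.of k)) [IsSeparated f] [LocallyOfFiniteType f] [QuasiCompact f] [IsIntegral C]
    (hdim : topologicalKrullDim ↥C = 1)
    (D : Type u) [DivisionRing D] [Algebra ↑C.functionField D] [Algebra.IsCentral ↑C.functionField D]
    [FiniteDimensional ↑C.functionField D] : Module.finrank ↑C.functionField D = 1 := by
  letI : C.Over (Spec (CommRingCat.of k)) := ⟨f⟩
  haveI : LocallyOfFiniteType (C ↘ Spec (CommRingCat.of k)) := ‹LocallyOfFiniteType f›
  letI : Algebra k ↑C.functionField := Curv2.stalkAlgebra k C (genericPoint C)
  have h4 : Algebra.trdeg k ↑C.functionField = ((1 : ℕ) : Cardinal) := by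
    have := Groth.Agent.Lib.LeadTsenCurve.trdeg_functionField k C hdim
    rw [Nat.cast_one]
    exact this
  have hCi := Groth.Agent.S0212.result k ↑C.functionField 1 h4
  have hCr := Groth.Agent.Lib.LeadTsenCurve.isCr_of_isCi ↑C.functionField 1 hCi
  exact Groth.Agent.S0214.result ↑C.functionField hCr D

end Groth.Agent.S6649
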