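import Groth.Statements.S6666
import Mathlib
import Groth.Agent.Lib.Helper22LQ

set_option autoImplicit false
universe u
open CategoryTheory AlgebraicGeometry
open Lim

namespace Groth.Agent.S6666

open Groth.Agent.Lib.Helper22 Limits

theorem range_away_eq_compl {B : Type u} [CommRing B] (b : B) :
    Set.range (Spec.map (CommRingCat.ofHom (algebraMap B (Localization.Away b)))) =
      (Set.range (Spec.map (CommRingCat.ofHom (Ideal.Quotient.mk (Ideal.span {b})))))ᶜ := by
  change Set.range (PrimeSpectrum.comap (algebraMap B (Localization.Away b))) =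
    (Set.range (PrimeSpectrum.comap (Ideal.Quotient.mk (Ideal.span {b}))))ᶜ
  rw [PrimeSpectrum.localization_away_comap_range (Localization.Away b) b,
    range_comap_of_surjective _ _ Ideal.Quotient.mk_surjective, Ideal.mk_ker,
    PrimeSpectrum.zeroLocus_span, PrimeSpectrum.basicOpen_eq_zeroLocus_compl]

section
variable {T : Scheme.{u}} (P : ∀ ⦃T' : Scheme.{u}⦄, (T' ⟶ T) → Prop)

/-- hypothesis 1 -/
def H1 : Prop := ∀ ⦃T' T'' : Scheme.{u}⦄ (a : T' ⟶ T) (t : T'' ⟶ T') [IsClosedImmersion t]
  [Surjective t] [CompactSpace T'] [QuasiSeparatedSpace T'] [CompactSpace T'']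
  [QuasiSeparatedSpace T''], P (t ≫ a) ↔ P a

/-- hypothesis 2 -/
def H2 : Prop := ∀ ⦃I : Type u⦄ [SmallCategory I] [IsCofiltered I] (D : I ⥤ Over T)
  (c : Limits.Cone D) (_ : Limits.IsLimit c),
  (∀ (i j : I) (m : i ⟶ j), IsAffineHom (D.map m).left) →
  (∀ i, CompactSpace (D.obj i).left ∧ QuasiSeparatedSpace (D.obj i).left) →
  (∀ i, P (D.obj i).hom) → P c.pt.hom

/-- hypothesis 3 -/
def H3 : Prop := ∀ ⦃T' Z V : Scheme.{u}⦄ (a : T' ⟶ T) [CompactSpace T'] [QuasiSeparatedSpace T']
  (i : Z ⟶ T') [IsClosedImmersion i] (j : V ⟶ T') [IsOpenImmersion j] [CompactSpace V],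
  Set.range j = (Set.range i)ᶜ → P a → P (j ≫ a) ∨ P (i ≫ a)

variable {P}

theorem P_of_ringEquiv (h1 : H1 P) {A A' : Type u} [CommRing A] [CommRing A'] (e : A ≃+* A')
    (a : Spec (CommRingCat.of A) ⟶ T) :
    P (Spec.map (CommRingCat.ofHom e.toRingHom) ≫ a) ↔ P a := by
  have : IsIso (CommRingCat.ofHom e.toRingHom) := e.toCommRingCatIso.isIso_hom
  exact h1 a (Spec.map (CommRingCat.ofHom e.toRingHom))

/-- `A ≃ ⊥⁻¹(A/⊥)` -/
noncomputable def botEquiv (A : Type u) [CommRing A] :
    A ≃+* LQ.B (⊥ : Ideal A) (⊥ : Submonoid A) :=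
  RingEquiv.ofRingHom (LQ.toB ⊥ ⊥)
    (LQ.lift ⊥ ⊥ (RingHom.id A)
      (fun x hx => by rw [Ideal.mem_bot] at hx; rw [hx, map_zero])
      (fun s hs => by rw [Submonoid.mem_bot] at hs; rw [hs, map_one]; exact isUnit_one))
    (by
      apply LQ.hom_ext
      rw [RingHom.comp_assoc, LQ.lift_comp, RingHom.comp_id, RingHom.id_comp])
    (LQ.lift_comp _ _ _ _ _)

theorem affine_case (h1 : H1 P) (h2 : H2 P) (h3 : H3 P) (A : Type u) [CommRing A] [Nontrivial A]
    (a : Spec (CommRingCat.of A) ⟶ T) (ha : P a) :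
    ∃ (K : Type u) (_ : Field K) (t : Spec (CommRingCat.of K) ⟶ T), P t := by
  let Good : Set (Ideal A × Submonoid A) :=
    {p | Nontrivial (LQ.B p.1 p.2) ∧ P (Spec.map (LQ.toBc p.1 p.2) ≫ a)}
  have h0 : ((⊥, ⊥) : Ideal A × Submonoid A) ∈ Good := by
    refine ⟨?_, ?_⟩
    · rw [LQ.nontrivial_iff]
      intro s hs hs'
      rw [Submonoid.mem_bot] at hs
      rw [Ideal.mem_bot, hs] at hs'
      exact one_ne_zero hs'
    · exact (P_of_ringEquiv h1 (botEquiv A) a).mpr ha
  have hchain : ∀ C ⊆ Good, IsChain (· ≤ ·) C → ∀ y ∈ C, ∃ ub ∈ Good, ∀ z ∈ C, z ≤ ub := by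
    intro C hCG hC y hy
    haveI : Nonempty C := ⟨⟨y, hy⟩⟩
    haveI : IsDirectedOrder C := LQ.isDirectedOrder hC
    refine ⟨(LQ.supI C, LQ.supS C), ⟨?_, ?_⟩,
      fun z hz => ⟨LQ.le_supI C ⟨z, hz⟩, LQ.le_supS C ⟨z, hz⟩⟩⟩
    · exact LQ.nontrivial_sup hC (fun c => (hCG c.2).1)
    · have := h2 (LQ.D C a) (LQ.cone C a) (LQ.isLimit a hC) ?_ ?_ ?_
      · exact this
      · intro i j m
        change IsAffineHom (Spec.map _)
        infer_instance
      · intro i
        change CompactSpace (Spec _) ∧ QuasiSeparatedSpace (Spec _)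
        exact ⟨inferInstance, inferInstance⟩
      · intro i
        exact (hCG i.unop.2).2
  obtain ⟨m, -, hm⟩ := zorn_le_nonempty₀ Good hchain (⊥, ⊥) h0
  obtain ⟨I, S⟩ := m
  have hg : (I, S) ∈ Good := hm.prop
  haveI : Nontrivial (LQ.B I S) := hg.1
  have key : ∀ x : A, x ∈ S ∨ x ∈ I := by
    intro x
    let pt : Spec (CommRingCat.of (LQ.B I S)) ⟶ T := Spec.map (LQ.toBc I S) ≫ a
    have hpt : P pt := hg.2
    let b : LQ.B I S := LQ.toB I S x
    let j : Spec (CommRingCat.of (Localization.Away b)) ⟶ Spec (CommRingCat.of (LQ.B I S)) :=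
      Spec.map (CommRingCat.ofHom (algebraMap (LQ.B I S) (Localization.Away b)))
    let i : Spec (CommRingCat.of (LQ.B I S ⧸ Ideal.span {b})) ⟶ Spec (CommRingCat.of (LQ.B I S)) :=
      Spec.map (CommRingCat.ofHom (Ideal.Quotient.mk (Ideal.span {b})))
    have hi : IsClosedImmersion i :=
      IsClosedImmersion.spec_of_surjective _ Ideal.Quotient.mk_surjective
    have hj : IsOpenImmersion j := inferInstance
    have hrange : Set.range j = (Set.range i)ᶜ := range_away_eq_compl b
    have hV : Nontrivial (Localization.Away b) → P (j ≫ pt) → x ∈ S := by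
      intro hn hp
      have hgood : (I, S ⊔ Submonoid.closure {x}) ∈ Good := by
        refine ⟨(LQ.awayEquiv I S x).injective.nontrivial, ?_⟩
        have e1 : LQ.toBc I (S ⊔ Submonoid.closure {x}) =
            LQ.toBc I S ≫ CommRingCat.ofHom (algebraMap (LQ.B I S) (Localization.Away b)) ≫
              CommRingCat.ofHom (LQ.awayEquiv I S x).toRingHom := by
          ext1
          exact (LQ.awayEquiv_comp I S x).symm
        change P (Spec.map (LQ.toBc I (S ⊔ Submonoid.closure {x})) ≫ a)
        rw [e1, Spec.map_comp, Spec.map_comp, Category.assoc, Category.assoc]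
        exact (P_of_ringEquiv h1 (LQ.awayEquiv I S x) (j ≫ pt)).mpr hp
      have hle := hm.le_of_ge hgood ⟨le_refl I, le_sup_left⟩
      exact hle.2 (LQ.mem_a_closure S x)
    have hZ : Nontrivial (LQ.B I S ⧸ Ideal.span {b}) → P (i ≫ pt) → x ∈ I := by
      intro hn hp
      have hgood : (I ⊔ Ideal.span {x}, S) ∈ Good := by
        refine ⟨(LQ.quotEquiv I S x).injective.nontrivial, ?_⟩
        have e1 : LQ.toBc (I ⊔ Ideal.span {x}) S =
            LQ.toBc I S ≫ CommRingCat.ofHom (Ideal.Quotient.mk (Ideal.span {b})) ≫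
              CommRingCat.ofHom (LQ.quotEquiv I S x).toRingHom := by
          ext1
          exact (LQ.quotEquiv_comp I S x).symm
        change P (Spec.map (LQ.toBc (I ⊔ Ideal.span {x}) S) ≫ a)
        rw [e1, Spec.map_comp, Spec.map_comp, Category.assoc, Category.assoc]
        exact (P_of_ringEquiv h1 (LQ.quotEquiv I S x) (i ≫ pt)).mpr hp
      have hle := hm.le_of_ge hgood ⟨le_sup_left, le_refl S⟩
      exact hle.1 (LQ.mem_a_span I x)
    by_cases hn1 : Nontrivial (Localization.Away b)
    · by_cases hn2 : Nontrivial (LQ.B I S ⧸ Ideal.span {b})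
      · rcases h3 pt i j hrange hpt with h | h
        · exact Or.inl (hV hn1 h)
        · exact Or.inr (hZ hn2 h)
      · rw [not_nontrivial_iff_subsingleton] at hn2
        have : IsEmpty (Spec (CommRingCat.of (LQ.B I S ⧸ Ideal.span {b}))) :=
          inferInstanceAs (IsEmpty (PrimeSpectrum (LQ.B I S ⧸ Ideal.span {b})))
        have hsj : Surjective j := by
          constructor
          rw [← Set.range_eq_univ, hrange, Set.range_eq_empty, Set.compl_empty]
        have : IsIso j := (isIso_iff_isOpenImmersion_and_surjective j).mpr ⟨hj, hsj⟩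
        exact Or.inl (hV hn1 ((h1 pt j).mpr hpt))
    · rw [not_nontrivial_iff_subsingleton] at hn1
      have : IsEmpty (Spec (CommRingCat.of (Localization.Away b))) :=
        inferInstanceAs (IsEmpty (PrimeSpectrum (Localization.Away b)))
      have hri : Set.range i = Set.univ := by
        rw [← compl_compl (Set.range i), ← hrange, Set.range_eq_empty, Set.compl_empty]
      have hsi : Surjective i := ⟨Set.range_eq_univ.mp hri⟩
      have hn2 : Nontrivial (LQ.B I S ⧸ Ideal.span {b}) := by
        by_contra hn2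
        rw [not_nontrivial_iff_subsingleton] at hn2
        have : IsEmpty (Spec (CommRingCat.of (LQ.B I S ⧸ Ideal.span {b}))) :=
          inferInstanceAs (IsEmpty (PrimeSpectrum (LQ.B I S ⧸ Ideal.span {b})))
        rw [Set.range_eq_empty] at hri
        have hne : Nonempty (Spec (CommRingCat.of (LQ.B I S))) := inferInstance
        exact Set.empty_ne_univ hri
      exact Or.inr (hZ hn2 ((h1 pt i).mpr hpt))
  have hF := LQ.isField_of_forall_mem key
  exact ⟨LQ.B I S, hF.toField, Spec.map (LQ.toBc I S) ≫ a, hg.2⟩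

theorem affine_scheme_case (h1 : H1 P) (h2 : H2 P) (h3 : H3 P) (X : Scheme.{u}) [IsAffine X]
    [Nonempty X] (a : X ⟶ T) (ha : P a) :
    ∃ (K : Type u) (_ : Field K) (t : Spec (CommRingCat.of K) ⟶ T), P t := by
  have hne : Nonempty (Spec (CommRingCat.of Γ(X, ⊤))) := by
    obtain ⟨x⟩ := ‹Nonempty X›
    exact ⟨X.isoSpec.hom x⟩
  have : Nontrivial Γ(X, ⊤) := PrimeSpectrum.nonempty_iff_nontrivial.mp hne
  have hP : P (X.isoSpec.inv ≫ a) := (h1 a X.isoSpec.inv).mpr ha
  exact affine_case h1 h2 h3 Γ(X, ⊤) (X.isoSpec.inv ≫ a) hP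

theorem general_case (h1 : H1 P) (h2 : H2 P) (h3 : H3 P) [CompactSpace T]
    [QuasiSeparatedSpace T] (S : T.Opens) (hS : IsCompact (S : Set T)) :
    ∀ (Z : Scheme.{u}) (i : Z ⟶ T) [IsClosedImmersion i] [Nonempty Z],
      Set.range i ⊆ (S : Set T) → P i →
      ∃ (K : Type u) (_ : Field K) (t : Spec (CommRingCat.of K) ⟶ T), P t := by
  refine compact_open_induction_on
    (P := fun S : T.Opens => ∀ (Z : Scheme.{u}) (i : Z ⟶ T) [IsClosedImmersion i] [Nonempty Z],
      Set.range i ⊆ (S : Set T) → P i →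
      ∃ (K : Type u) (_ : Field K) (t : Spec (CommRingCat.of K) ⟶ T), P t) S hS ?_ ?_
  · intro Z i _ hne hr _
    obtain ⟨z⟩ := hne
    exact (hr ⟨z, rfl⟩).elim
  · intro S hS U IH Z i _ _ hr hP
    have hcZ : CompactSpace Z := QuasiCompact.compactSpace_of_compactSpace i
    have hqZ : QuasiSeparatedSpace Z := quasiSeparatedSpace_of_quasiSeparated i
    let V : Z.Opens := i ⁻¹ᵁ U.1
    have hV : IsAffineOpen V := U.2.preimage i
    by_cases hVe : (V : Set Z) = ∅
    · refine IH Z i ?_ hP
      rintro _ ⟨z, rfl⟩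
      rcases hr ⟨z, rfl⟩ with h | h
      · exact h
      · exfalso
        have : z ∈ (V : Set Z) := h
        rw [hVe] at this
        exact this
    · let Zc : TopologicalSpace.Closeds Z := ⟨(V : Set Z)ᶜ, V.isOpen.isClosed_compl⟩
      let I := Scheme.IdealSheafData.vanishingIdeal Zc
      have hrange' : Set.range I.subschemeι = (V : Set Z)ᶜ := by
        rw [Scheme.IdealSheafData.range_subschemeι,
          Scheme.IdealSheafData.coe_support_vanishingIdeal]
        rfl
      by_cases hZ'e : IsEmpty I.subscheme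
      · have hVtop : V = ⊤ := by
          rw [Set.range_eq_empty, eq_comm, Set.compl_empty_iff] at hrange'
          exact TopologicalSpace.Opens.ext hrange'
        have hZaff : IsAffine Z := by
          rw [hVtop] at hV
          have : IsAffine ↑(⊤ : Z.Opens) := hV
          exact IsAffine.of_isIso (Scheme.topIso Z).inv
        exact affine_scheme_case h1 h2 h3 Z i hP
      · rw [not_isEmpty_iff] at hZ'e
        have hVaff : IsAffine ↑V := hV
        have hrange : Set.range V.ι = (Set.range I.subschemeι)ᶜ := by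
          rw [hrange', compl_compl, Scheme.Opens.range_ι]
        rcases h3 i I.subschemeι V.ι hrange hP with h | h
        · have : Nonempty ↑V := by
            obtain ⟨z, hz⟩ := Set.nonempty_iff_ne_empty.mpr hVe
            exact ⟨⟨z, hz⟩⟩
          exact affine_scheme_case h1 h2 h3 ↑V (V.ι ≫ i) h
        · refine IH I.subscheme (I.subschemeι ≫ i) ?_ h
          rintro _ ⟨z, rfl⟩
          have hz : I.subschemeι z ∈ (V : Set Z)ᶜ := hrange' ▸ ⟨z, rfl⟩
          rcases hr ⟨I.subschemeι z, rfl⟩ with h' | h'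
          · exact h'
          · exact (hz h').elim

end

/-- Let T be a nonempty quasi-compact quasi-separated scheme and P a property of schemes over T (applied
to quasi-compact quasi-separated ones). Assume: (1) for every thickening T'' → T' (a surjective
closed immersion) of quasi-compact quasi-separated schemes over T, P(T'') if and only if P(T'); (2)
if a scheme T' over T is a limit (in schemes over T) of a cofiltered system of quasi-compact
quasi-separated schemes over T with affine transition morphisms and P holds for every member, then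
P(T'); (3) if T' is quasi-compact quasi-separated over T with P(T') and Z ⊂ T' is a closed subscheme
whose open complement V is quasi-compact, then P(V) or P(Z). Then P(T) implies P(Spec K → T) for
some field K and some morphism Spec K → T. (The published statement does not require T nonempty; for
T empty and P identically true there is no morphism from the spectrum of a field to T, so
nonemptiness is assumed here.) -/
theorem result (T : Scheme.{u}) [CompactSpace T] [QuasiSeparatedSpace T]
    [Nonempty T] (P : ∀ ⦃T' : Scheme.{u}⦄, (T' ⟶ T) → Prop)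
    (h1 : ∀ ⦃T' T'' : Scheme.{u}⦄ (a : T' ⟶ T) (t : T'' ⟶ T') [IsClosedImmersion t] [Surjective t]
      [CompactSpace T'] [QuasiSeparatedSpace T'] [CompactSpace T''] [QuasiSeparatedSpace T''], P (t ≫ a) ↔ P a)
    (h2 : ∀ ⦃I : Type u⦄ [SmallCategory I] [IsCofiltered I] (D : I ⥤ Over T) (c : Limits.Cone D) (_ : Limits.IsLimit c),
      (∀ (i j : I) (m : i ⟶ j), IsAffineHom (D.map m).left) →
      (∀ i, CompactSpace (D.obj i).left ∧ QuasiSeparatedSpace (D.obj i).left) →
      (∀ i, P (D.obj i).hom) → P c.pt.hom)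
    (h3 : ∀ ⦃T' Z V : Scheme.{u}⦄ (a : T' ⟶ T) [CompactSpace T'] [QuasiSeparatedSpace T'] (i : Z ⟶ T') [IsClosedImmersion i]
      (j : V ⟶ T') [IsOpenImmersion j] [CompactSpace V], Set.range j = (Set.range i)ᶜ → P a → P (j ≫ a) ∨ P (i ≫ a))
    (hT : P (𝟙 T)) :
    ∃ (K : Type u) (_ : Field K) (t : Spec (CommRingCat.of K) ⟶ T), P t := by
  exact general_case (P := P) h1 h2 h3 ⊤ isCompact_univ T (𝟙 T) (Set.subset_univ _) hT

end Groth.Agent.S6666
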