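import Groth.Statements.S6687
import Groth.Agent.Lib.Helper16BigSmallCoh
import Groth.Agent.Lib.Helper16BigSmallBC
import Groth.Agent.S6184
-- import your own Groth.Agent.* helpers here

set_option autoImplicit false
set_option linter.style.haveILetI false
set_option linter.unusedSectionVars false
universe u
open CategoryTheory CategoryTheory.Limits AlgebraicGeometry Opposite
open BigSite

namespace Groth.Agent.S6687

open Groth.Agent.Lib.Helper16.BigSmallCoh Groth.Agent.Lib.Helper16.BigSmallBC

/-- `f_big⁻¹ π_S⁻¹ ≅ π_T⁻¹ f_small⁻¹`. -/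
noncomputable def pullIso {T S : Scheme.{u}} (f : T ⟶ S) :
    BigSite.piEtPull Scheme.etalePrecoverage S ⋙
        BigSite.pullBig Scheme.etalePrecoverage f AddCommGrpCat.{u + 1} ≅
      EtCoh.pull f ⋙ BigSite.piEtPull Scheme.etalePrecoverage T :=
  Adjunction.leftAdjointUniq
    ((BigSite.piEtAdj Scheme.etalePrecoverage S).comp
      (BigSite.bigAdj Scheme.etalePrecoverage f AddCommGrpCat.{u + 1}))
    (((EtCoh.pullPushAdj f).comp (BigSite.piEtAdj Scheme.etalePrecoverage T)).ofNatIsoRight
      (pushBigResEtIso Scheme.etalePrecoverage f).symm)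

/-- `i_f⁻¹ π_S⁻¹ F ≅ f_small⁻¹ F`. -/
noncomputable def resIso {T S : Scheme.{u}} (f : T ⟶ S) (F : EtCoh.Ab S) :
    (BigSite.resEt Scheme.etalePrecoverage T).obj
        ((BigSite.pullBig Scheme.etalePrecoverage f AddCommGrpCat.{u + 1}).obj
          ((BigSite.piEtPull Scheme.etalePrecoverage S).obj F)) ≅ (EtCoh.pull f).obj F :=
  haveI := (Groth.Agent.S6184.result T).2 ((EtCoh.pull f).obj F)
  (BigSite.resEt Scheme.etalePrecoverage T).mapIso ((pullIso f).app F) ≪≫
    (asIso ((BigSite.piEtAdj Scheme.etalePrecoverage T).unit.app ((EtCoh.pull f).obj F))).symm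


/-- Let f : T → S be a morphism of schemes, F an abelian sheaf on the small etale site of S and n ≥ 0.
Write π_S⁻¹ F for the pullback of F to the big etale site of S. Then the cohomology of π_S⁻¹ F over
the object (T → S) of the big site is isomorphic to H^n(T_et, f⁻¹ F). (Existence of an isomorphism
of abelian groups only; the published statement identifies the two through the restriction of π_S⁻¹
F to the small etale site of T, which is f⁻¹ F.) -/
theorem result {T S : Scheme.{u}} (f : T ⟶ S) (n : ℕ) (F : EtCoh.Ab S) :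
    Nonempty (BigSite.HU Scheme.etalePrecoverage ((BigSite.piEtPull Scheme.etalePrecoverage S).obj F) n (Over.mk f) ≃+
      EtCoh.H T ((EtCoh.pull f).obj F) n) := by
  obtain ⟨e⟩ := nonempty_H_resEt Scheme.etalePrecoverage T
    ((BigSite.pullBig Scheme.etalePrecoverage f AddCommGrpCat.{u + 1}).obj
      ((BigSite.piEtPull Scheme.etalePrecoverage S).obj F)) n
  exact ⟨e.symm.trans ((EtCoh.HF T n).mapIso (resIso f F)).addCommGroupIsoToAddEquiv⟩

end Groth.Agent.S6687
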