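import Groth.Statements.S6697
import Groth.Agent.Lib.Helper16BigSmall
import Groth.Agent.Lib.Helper16KInjAdj
-- import your own Groth.Agent.* helpers here

set_option autoImplicit false
set_option linter.style.haveILetI false
universe u
open CategoryTheory CategoryTheory.Limits AlgebraicGeometry Opposite
open BigSite

namespace Groth.Agent.S6697

open Groth.Agent.Lib.Helper16.KInjAdj Groth.Agent.Lib.Helper16.BigSmall

theorem kinj_of_adj {A B : Type*} [Category A] [Category B] [Abelian A] [Abelian B]
    {L : A ⥤ B} {R : B ⥤ A} (adj : L ⊣ R) [R.Additive] [PreservesFiniteLimits L]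
    (I : CochainComplex B ℤ) [I.IsKInjective] :
    CochainComplex.IsKInjective ((R.mapHomologicalComplex (ComplexShape.up ℤ)).obj I) := by
  haveI : L.Additive := adj.left_adjoint_additive
  haveI : PreservesFiniteColimits L := by
    haveI := adj.leftAdjoint_preservesColimits
    infer_instance
  haveI : L.PreservesHomology := inferInstance
  exact isKInjective_map adj I


/-- Let S be a scheme, I a K-injective complex of abelian sheaves on the big etale site of S (every
morphism from an acyclic complex to I is null-homotopic) and f : T → S a scheme over S. Then (b) the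
termwise restriction I|_{S_et} to the small etale site of S is K-injective, and (a) the termwise
restriction i_f⁻¹ I to the small etale site of T is K-injective. -/
theorem result (S : Scheme.{u})
    (I : CochainComplex (BigSite.Ab Scheme.etalePrecoverage S) ℤ) [I.IsKInjective] {T : Scheme.{u}} (f : T ⟶ S) :
    CochainComplex.IsKInjective (((BigSite.resEt Scheme.etalePrecoverage S).mapHomologicalComplex (ComplexShape.up ℤ)).obj I) ∧
      CochainComplex.IsKInjective (((BigSite.resEtAlong Scheme.etalePrecoverage f).mapHomologicalComplex (ComplexShape.up ℤ)).obj I) := by
  constructor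
  · haveI := piEtPull_preservesFiniteLimits Scheme.etalePrecoverage S
    exact kinj_of_adj (BigSite.piEtAdj Scheme.etalePrecoverage S) I
  · haveI := piEtPull_preservesFiniteLimits Scheme.etalePrecoverage T
    haveI := Groth.Agent.S6638.result f Scheme.etalePrecoverage (Or.inr (Or.inl rfl))
    haveI : PreservesFiniteLimits (BigSite.piEtPull Scheme.etalePrecoverage T ⋙
      BigSite.shriekAb Scheme.etalePrecoverage f) := comp_preservesFiniteLimits _ _
    exact kinj_of_adj ((BigSite.piEtAdj Scheme.etalePrecoverage T).comp
      (BigSite.shriekAbAdj Scheme.etalePrecoverage f)) I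

end Groth.Agent.S6697
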