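import Groth.Statements.S6703
import Mathlib
import Groth.Agent.Lib.Helper10Spanning
-- import your own Groth.Agent.* helpers here

set_option autoImplicit false
universe v v' u u'
open CategoryTheory
open DEquiv

namespace Groth.Agent.S6703

open CategoryTheory.Limits CategoryTheory.Pretriangulated in
/-- Let F : D ⥤ D' be an exact functor of triangulated categories admitting both a left and a right
adjoint, and let S be a set of objects of D such that an object K of D is zero as soon as Hom(E,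
K⟦i⟧) = 0 for all E ∈ S and i ∈ ℤ, and also as soon as Hom(K, E⟦i⟧) = 0 for all E ∈ S and i ∈ ℤ. If
for all E, E' ∈ S and i ∈ ℤ the map Hom(E, E'⟦i⟧) → Hom(F E, F (E'⟦i⟧)) given by F is bijective,
then F is full and faithful. -/
theorem result
    {D : Type u} [Category.{v} D] [Preadditive D] [HasZeroObject D] [HasShift D ℤ]
    [∀ n : ℤ, (shiftFunctor D n).Additive] [Pretriangulated D] [IsTriangulated D]
    {D' : Type u'} [Category.{v'} D'] [Preadditive D'] [HasZeroObject D'] [HasShift D' ℤ]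
    [∀ n : ℤ, (shiftFunctor D' n).Additive] [Pretriangulated D'] [IsTriangulated D']
    (F : D ⥤ D') [F.CommShift ℤ] [F.IsTriangulated] [F.IsLeftAdjoint] [F.IsRightAdjoint]
    (S : Set D)
    (h2 : ∀ K : D, (∀ E ∈ S, ∀ (i : ℤ) (f : E ⟶ (shiftFunctor D i).obj K), f = 0) → IsZero K)
    (h3 : ∀ K : D, (∀ E ∈ S, ∀ (i : ℤ) (f : K ⟶ (shiftFunctor D i).obj E), f = 0) → IsZero K)
    (h4 : ∀ E ∈ S, ∀ E' ∈ S, ∀ i : ℤ,
      Function.Bijective (fun f : E ⟶ (shiftFunctor D i).obj E' => F.map f)) :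
    F.Full ∧ F.Faithful := by
  classical
  let S' : Set D := {X | ∃ E ∈ S, ∃ i : ℤ, Nonempty (X ≅ (shiftFunctor D i).obj E)}
  have hshift : ∀ (j : ℤ), ∀ X ∈ S', (shiftFunctor D j).obj X ∈ S' := by
    rintro j X ⟨E, hE, i, ⟨e⟩⟩
    exact ⟨E, hE, i + j, ⟨(shiftFunctor D j).mapIso e ≪≫
      ((shiftFunctorAdd' D i j (i + j) rfl).app E).symm⟩⟩
  have hz2 : ∀ K : D, (∀ X ∈ S', ∀ f : X ⟶ K, f = 0) → IsZero K := by
    intro K hK
    apply h2 K
    intro E hE i f
    have adj1 : shiftFunctor D (-i) ⊣ shiftFunctor D i := (shiftEquiv D i).symm.toAdjunction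
    have h0 : (adj1.homEquiv E K).symm f = 0 :=
      hK _ (hshift (-i) E ⟨E, hE, 0, ⟨((shiftFunctorZero D ℤ).app E).symm⟩⟩) _
    have : f = adj1.homEquiv E K ((adj1.homEquiv E K).symm f) := by
      rw [Equiv.apply_symm_apply]
    rw [this, h0, Adjunction.homEquiv_unit, Functor.map_zero, comp_zero]
  have hz3 : ∀ K : D, (∀ Y ∈ S', ∀ f : K ⟶ Y, f = 0) → IsZero K := by
    intro K hK
    apply h3 K
    intro E hE i f
    exact hK _ ⟨E, hE, i, ⟨Iso.refl _⟩⟩ f
  have hPS : ∀ X ∈ S', ∀ Y ∈ S', Groth.Agent.Lib.Helper10.Spanning.P F X Y := by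
    rintro X ⟨E, hE, a, ⟨eX⟩⟩ Y ⟨E', hE', b, ⟨eY⟩⟩
    have h0 : Groth.Agent.Lib.Helper10.Spanning.P F E ((shiftFunctor D (b - a)).obj E') :=
      h4 E hE E' hE' (b - a)
    have h1 := Groth.Agent.Lib.Helper10.Spanning.P_shift F a h0
    exact Groth.Agent.Lib.Helper10.Spanning.P_iso F eX.symm
      (((shiftFunctorAdd' D (b - a) a b (by omega)).app E').symm ≪≫ eY.symm) h1
  have adjR := Adjunction.ofIsLeftAdjoint F
  have adjL := Adjunction.ofIsRightAdjoint F
  have hunit : ∀ B ∈ S', CategoryTheory.IsIso (adjR.unit.app B) := by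
    intro B hB
    exact Groth.Agent.Lib.Helper10.Spanning.isIso_unit_app F adjR S' (hshift (-1)) hz2 B
      (fun X hX => hPS X hX B hB)
  have hcounit : ∀ A : D, CategoryTheory.IsIso (adjL.counit.app A) := by
    intro A
    refine Groth.Agent.Lib.Helper10.Spanning.isIso_counit_app F adjL S' (hshift (-1)) hz3 A ?_
    intro Y hY
    haveI := hunit Y hY
    exact Groth.Agent.Lib.Helper10.Spanning.P_of_isIso_unit_app F adjR Y A
  haveI : CategoryTheory.IsIso adjL.counit := NatIso.isIso_of_isIso_app _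
  have ff := adjL.fullyFaithfulROfIsIsoCounit
  exact ⟨ff.full, ff.faithful⟩

end Groth.Agent.S6703
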