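import Groth.Statements.S6708

set_option autoImplicit false
universe v u
open CategoryTheory
open DEquiv

namespace Groth.Agent.S6708

open CategoryTheory.Limits CategoryTheory.Pretriangulated in
/-- Let D be a pretriangulated category, D' ⊆ D a full triangulated subcategory (given as a property of
objects that is triangulated in Mathlib's sense) and X an object of D. Then the category of arrows E
⟶ X with E in D' is filtered. -/
theorem result
    {D : Type u} [Category.{v} D] [Preadditive D] [HasZeroObject D] [HasShift D ℤ]
    [∀ n : ℤ, (shiftFunctor D n).Additive] [Pretriangulated D]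
    (P : ObjectProperty D) [P.IsTriangulated] (X : D) :
    IsFiltered (CostructuredArrow P.ι X) := by
  have hne : Nonempty (CostructuredArrow P.ι X) := by
    obtain ⟨Z, hZ, hP⟩ := P.exists_prop_of_containsZero
    exact ⟨CostructuredArrow.mk (Y := ⟨Z, hP⟩) (0 : P.ι.obj ⟨Z, hP⟩ ⟶ X)⟩
  refine { cocone_objs := ?_, cocone_maps := ?_, nonempty := hne }
  · intro A B
    obtain ⟨Z, hZ, ⟨e⟩⟩ := P.ext_of_isTriangulatedClosed₂' _
      (binaryBiproductTriangle_distinguished A.left.obj B.left.obj) A.left.property B.left.property

    let W : CostructuredArrow P.ι X :=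
      CostructuredArrow.mk (Y := ⟨Z, hZ⟩) (e.inv ≫ biprod.desc A.hom B.hom)
    refine ⟨W, CostructuredArrow.homMk (ObjectProperty.homMk (biprod.inl ≫ e.hom)) ?_,
      CostructuredArrow.homMk (ObjectProperty.homMk (biprod.inr ≫ e.hom)) ?_, trivial⟩
    · simp [W]
    · simp [W]
  · intro A B f g
    obtain ⟨Z, hZ, b, c, hT⟩ := P.distinguished_cocone_triangle (f.left.hom - g.left.hom)
      A.left.property B.left.property
    have h0 : (f.left.hom - g.left.hom) ≫ B.hom = 0 := by
      have hf := CostructuredArrow.w f
      have hg := CostructuredArrow.w g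
      simp only [ObjectProperty.ι_map] at hf hg
      rw [Preadditive.sub_comp, hf, hg, sub_self]
    obtain ⟨k, hk⟩ := Triangle.yoneda_exact₂ _ hT B.hom h0
    replace hk : B.hom = b ≫ k := hk
    let k' : P.ι.obj ⟨Z, hZ⟩ ⟶ X := k

    let W : CostructuredArrow P.ι X := CostructuredArrow.mk (Y := ⟨Z, hZ⟩) k'
    refine ⟨W, CostructuredArrow.homMk (ObjectProperty.homMk b) ?_, ?_⟩
    · simp [W, hk, k']
    · ext
      have : (f.left.hom - g.left.hom) ≫ b = 0 := comp_distTriang_mor_zero₁₂ _ hT
      rw [Preadditive.sub_comp, sub_eq_zero] at this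
      simpa using this

end Groth.Agent.S6708
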