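import Groth.Statements.S6710
import Mathlib
-- import your own Groth.Agent.* helpers here

set_option autoImplicit false
universe u v
open CategoryTheory
open FunMor

namespace Groth.Agent.S6710.Aux
set_option autoImplicit false
namespace HomSupp
open Matrix

variable {A : Type u} [CommRing A] {N : Type v} [AddCommGroup N] [Module A N]

/-- descending step of the McCoy argument, module version -/
theorem step {a b : ℕ} (M : Matrix (Fin a) (Fin b) A)
    (hinj : ∀ v : Fin b → N, (∀ i, ∑ j, M i j • v j = 0) → v = 0)
    (n : N) (t : ℕ) (ht : t < b)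
    (h : ∀ (f' : Fin (t + 1) → Fin a) (g' : Fin (t + 1) → Fin b),
      det (M.submatrix f' g') • n = 0) :
    ∀ (f : Fin t → Fin a) (g : Fin t → Fin b), det (M.submatrix f g) • n = 0 := by
  classical
  intro f g
  have hns : ¬ Function.Surjective g := by
    intro hs
    have := Fintype.card_le_of_surjective g hs
    simp at this
    omega
  simp only [Function.Surjective, not_forall, not_exists] at hns
  obtain ⟨c, hc⟩ := hns
  set g' : Fin (t + 1) → Fin b := Fin.cons c g with hg'
  set C : Fin (t + 1) → A := fun j => (-1) ^ (j : ℕ) * det (M.submatrix f (g' ∘ j.succAbove))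
    with hC
  set v : Fin b → N := ∑ j, Pi.single (g' j) (C j • n) with hv
  have hvk : ∀ k, v k = ∑ j, if k = g' j then C j • n else 0 := by
    intro k
    rw [hv, Finset.sum_apply]
    refine Finset.sum_congr rfl (fun j _ => ?_)
    rw [Pi.single_apply]
  have hMv : ∀ i, ∑ k, M i k • v k = 0 := by
    intro i
    have h1 : ∑ k, M i k • v k = ∑ j, M i (g' j) • (C j • n) := by
      simp_rw [hvk, Finset.smul_sum]
      rw [Finset.sum_comm]
      refine Finset.sum_congr rfl (fun j _ => ?_)
      simp
    have h2 := det_succ_row_zero (M.submatrix (Fin.cons i f : Fin (t + 1) → Fin a) g')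
    have h3 : ∑ j, M i (g' j) • (C j • n) =
        det (M.submatrix (Fin.cons i f : Fin (t + 1) → Fin a) g') • n := by
      rw [h2, Finset.sum_smul]
      refine Finset.sum_congr rfl (fun j _ => ?_)
      have e1 : (M.submatrix (Fin.cons i f : Fin (t + 1) → Fin a) g').submatrix Fin.succ
          j.succAbove = M.submatrix f (g' ∘ j.succAbove) := by
        ext x y
        simp [Matrix.submatrix_apply]
      rw [e1, hC, smul_smul]
      simp only [Matrix.submatrix_apply, Fin.cons_zero]
      congr 1
      ring
    rw [h1, h3, h]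
  have hv0 : v = 0 := hinj v hMv
  have hvc : v c = det (M.submatrix f g) • n := by
    rw [hvk, Finset.sum_eq_single (0 : Fin (t + 1))]
    · have e2 : g' ∘ (0 : Fin (t + 1)).succAbove = g := by
        funext x
        simp [hg']
      simp [hC, hg', e2]
    · intro j _ hj
      obtain ⟨j', rfl⟩ := Fin.exists_succ_eq.mpr hj
      have : c ≠ g' j'.succ := by
        simp only [hg', Fin.cons_succ]
        exact fun h => hc j' h.symm
      simp [this]
    · intro h0; exact absurd (Finset.mem_univ _) h0
  rw [← hvc, hv0]
  rfl

theorem mccoy {a b : ℕ} (M : Matrix (Fin a) (Fin b) A) (n : N) (hn : n ≠ 0)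
    (h : ∀ (f : Fin b → Fin a) (g : Fin b → Fin b), det (M.submatrix f g) • n = 0) :
    ∃ v : Fin b → N, v ≠ 0 ∧ ∀ i, ∑ j, M i j • v j = 0 := by
  by_contra hcon
  push Not at hcon
  have hinj : ∀ v : Fin b → N, (∀ i, ∑ j, M i j • v j = 0) → v = 0 := by
    intro v hv
    by_contra hv0
    obtain ⟨i, hi⟩ := hcon v hv0
    exact hi (hv i)
  have h0 : ∀ (f : Fin 0 → Fin a) (g : Fin 0 → Fin b), det (M.submatrix f g) • n = 0 :=
    Nat.decreasingInduction' (P := fun t => ∀ (f : Fin t → Fin a) (g : Fin t → Fin b),
      det (M.submatrix f g) • n = 0) (fun k hk _ ih => step M hinj n k hk ih) (Nat.zero_le b) h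
  have := h0 Fin.elim0 Fin.elim0
  simp at this
  exact hn this


theorem main (A : Type u) [CommRing A] (M : Type v) [AddCommGroup M] [Module A M]
    [Module.FinitePresentation A M] (N : Type v) [AddCommGroup N] [Module A N] [Nontrivial N]
    (h : Module.support A N ⊆ Module.support A M) : Nontrivial (M →ₗ[A] N) := by
  classical
  obtain ⟨b, K, e, hK⟩ := Module.FinitePresentation.exists_fin A M
  obtain ⟨a, c, hc⟩ := Submodule.fg_iff_exists_fin_generating_family.mp hK
  let Mat : Matrix (Fin a) (Fin b) A := Matrix.of c
  -- minors kill M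
  have hminor : ∀ (f : Fin b → Fin a), det (Mat.submatrix f id) ∈ Module.annihilator A M := by
    intro f
    rw [Module.mem_annihilator]
    intro m
    obtain ⟨w, hw⟩ := K.mkQ_surjective (e m)
    set T := Mat.submatrix f id with hT
    have hmem : det T • w ∈ K := by
      have h1 : det T • w = (w ᵥ* adjugate T) ᵥ* T := by
        rw [Matrix.vecMul_vecMul, Matrix.adjugate_mul, Matrix.vecMul_smul, Matrix.vecMul_one]
      rw [h1]
      have h2 : ∀ u : Fin b → A, u ᵥ* T = ∑ i, u i • c (f i) := by
        intro u
        funext j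
        simp [Matrix.vecMul, dotProduct, T, Mat, Finset.sum_apply]
      rw [h2]
      refine Submodule.sum_mem _ fun i _ => Submodule.smul_mem _ _ ?_
      rw [← hc]
      exact Submodule.subset_span ⟨f i, rfl⟩
    apply e.injective
    rw [map_smul, ← hw, map_zero, ← map_smul, Submodule.mkQ_apply, Submodule.Quotient.mk_eq_zero]
    exact hmem
  -- radical membership
  have hrad : ∀ (f : Fin b → Fin a) (n : N), ∃ k : ℕ, det (Mat.submatrix f id) ^ k • n = 0 := by
    intro f n
    have : det (Mat.submatrix f id) ∈ (Submodule.span A {n}).annihilator.radical := by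
      rw [Ideal.radical_eq_sInf, Ideal.mem_sInf]
      rintro J ⟨hJ, hJp⟩
      have h1 : (⟨J, hJp⟩ : PrimeSpectrum A) ∈ Module.support A N :=
        Module.mem_support_iff_exists_annihilator.mpr ⟨n, hJ⟩
      exact Module.annihilator_le_of_mem_support (h h1) (hminor f)
    obtain ⟨k, hk⟩ := this
    exact ⟨k, (Submodule.mem_annihilator_span_singleton _ _).mp hk⟩
  -- common nonzero element killed by all maximal minors
  have key : ∀ F : Finset (Fin b → Fin a), ∃ n : N, n ≠ 0 ∧
      ∀ f ∈ F, det (Mat.submatrix f id) • n = 0 := by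
    intro F
    induction F using Finset.induction_on with
    | empty =>
      obtain ⟨n, hn⟩ := exists_ne (0 : N)
      exact ⟨n, hn, by simp⟩
    | insert f₀ F _ ih =>
      obtain ⟨n, hn, hF⟩ := ih
      set δ := det (Mat.submatrix f₀ id) with hδ
      have hex := hrad f₀ n
      set k₀ := Nat.find hex with hk₀
      have hk₀spec : δ ^ k₀ • n = 0 := Nat.find_spec hex
      have hk₀pos : k₀ ≠ 0 := by
        intro h0
        rw [h0, pow_zero, one_smul] at hk₀spec
        exact hn hk₀spec
      refine ⟨δ ^ (k₀ - 1) • n, ?_, ?_⟩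
      · exact Nat.find_min hex (by omega : k₀ - 1 < k₀)
      · intro f hf
        rcases Finset.mem_insert.mp hf with rfl | hf
        · rw [smul_smul, ← pow_succ', Nat.sub_add_cancel (Nat.pos_of_ne_zero hk₀pos)]
          exact hk₀spec
        · rw [smul_comm, hF f hf, smul_zero]
  obtain ⟨n, hn, hnF⟩ := key Finset.univ
  have hall : ∀ (f : Fin b → Fin a) (g : Fin b → Fin b), det (Mat.submatrix f g) • n = 0 := by
    intro f g
    by_cases hg : Function.Injective g
    · have hbij : Function.Bijective g := Finite.injective_iff_bijective.mp hg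
      let σ : Equiv.Perm (Fin b) := Equiv.ofBijective g hbij
      have : Mat.submatrix f g = (Mat.submatrix f id).submatrix id σ := by
        ext i j; simp [σ]
      rw [this, Matrix.det_permute', mul_smul, hnF f (Finset.mem_univ _), smul_zero]
    · rw [Function.Injective] at hg
      push Not at hg
      obtain ⟨i, j, hij, hne⟩ := hg
      have : det (Mat.submatrix f g) = 0 :=
        Matrix.det_zero_of_column_eq hne (fun k => by simp [hij])
      rw [this, zero_smul]
  obtain ⟨v, hv0, hv⟩ := mccoy Mat n hn hall
  let ψ : (Fin b → A) →ₗ[A] N := Fintype.linearCombination A v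
  have hle : K ≤ LinearMap.ker ψ := by
    rw [← hc, Submodule.span_le]
    rintro _ ⟨i, rfl⟩
    rw [SetLike.mem_coe, LinearMap.mem_ker, Fintype.linearCombination_apply]
    exact hv i
  obtain ⟨j, hj⟩ : ∃ j, v j ≠ 0 := by
    by_contra hcon
    push Not at hcon
    exact hv0 (funext hcon)
  let φ : M →ₗ[A] N := (K.liftQ ψ hle) ∘ₗ e.toLinearMap
  have hφ : φ ≠ 0 := by
    intro h0
    have := LinearMap.congr_fun h0 (e.symm (K.mkQ (Pi.single j 1)))
    simp only [φ, LinearMap.comp_apply, LinearEquiv.coe_coe, LinearEquiv.apply_symm_apply,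
      Submodule.mkQ_apply, Submodule.liftQ_apply, LinearMap.zero_apply, ψ] at this
    rw [Fintype.linearCombination_apply_single, one_smul] at this
    exact hj this
  exact ⟨⟨φ, 0, hφ⟩⟩

end HomSupp

end Groth.Agent.S6710.Aux

namespace Groth.Agent.S6710

/-- The statement for an affine scheme written in terms of modules: let A be a commutative ring, M a
finitely presented A-module and N a nonzero A-module with Supp(N) ⊆ Supp(M). Then Hom_A(M, N) is
nonzero. -/
theorem result
    (A : Type u) [CommRing A] (M : Type v) [AddCommGroup M] [Module A M]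
    [Module.FinitePresentation A M] (N : Type v) [AddCommGroup N] [Module A N] [Nontrivial N]
    (h : Module.support A N ⊆ Module.support A M) : Nontrivial (M →ₗ[A] N) := by
  exact Aux.HomSupp.main A M N h

end Groth.Agent.S6710
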