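import Groth.Statements.S6713
import Mathlib

set_option autoImplicit false
universe w v u
open CategoryTheory
open DEquiv

namespace Groth.Agent.S6713

open CategoryTheory.Limits DerivedCategory

section Codes

variable {A : Type u} [Category.{v} A] [Abelian A] (e : ℕ → A)

/-- a cochain complex with terms among the `e n` -/
structure Code where
  n : ℤ → ℕ
  d : ∀ i, e (n i) ⟶ e (n (i + 1))
  sq : ∀ i, d i ≫ d (i + 1) = 0

variable {e}

/-- the complex of a code -/
noncomputable def Code.cx (c : Code e) : CochainComplex A ℤ :=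
  CochainComplex.of (fun i => e (c.n i)) c.d c.sq

/-- the code is concentrated in `[a, b]`: outside, the term is `e n0` -/
def Code.IsBdd (c : Code e) (n0 : ℕ) (a b : ℤ) : Prop :=
  ∀ i, ¬ (a ≤ i ∧ i ≤ b) → c.n i = n0

theorem Code.ext' {c c' : Code e} (hn : c.n = c'.n) (hd : ∀ i, HEq (c.d i) (c'.d i)) : c = c' := by
  obtain ⟨n, d, sq⟩ := c
  obtain ⟨n', d', sq'⟩ := c'
  dsimp at hn hd
  subst hn
  have : d = d' := funext fun i => eq_of_heq (hd i)
  subst this
  rfl

variable (e) in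
/-- arrows among the `e n` -/
abbrev Arr : Type v := Σ pq : ℕ × ℕ, (e pq.1 ⟶ e pq.2)

/-- the encoding of a code on `[a, b]` -/
def Code.enc (c : Code e) (a b : ℤ) : Set.Icc a b → Arr e :=
  fun i => ⟨(c.n i.1, c.n (i.1 + 1)), c.d i.1⟩

theorem Code.enc_injective (n0 : ℕ) (h0 : IsZero (e n0)) (a b : ℤ) :
    Function.Injective
      (fun c : {c : Code e // c.IsBdd n0 a b} => c.1.enc a b) := by
  rintro ⟨c, hc⟩ ⟨c', hc'⟩ h
  have h' : ∀ i : Set.Icc a b, c.enc a b i = c'.enc a b i := fun i => congrFun h i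
  have hn : c.n = c'.n := by
    funext i
    by_cases hi : a ≤ i ∧ i ≤ b
    · have := h' ⟨i, hi⟩
      simp only [Code.enc, Sigma.mk.injEq, Prod.mk.injEq] at this
      exact this.1.1
    · rw [hc i hi, hc' i hi]
  apply Subtype.ext
  obtain ⟨n, d, sq⟩ := c
  obtain ⟨n', d', sq'⟩ := c'
  dsimp at hn
  subst hn
  have : d = d' := by
    funext i
    by_cases hi : a ≤ i ∧ i ≤ b
    · have := h' ⟨i, hi⟩
      simp only [Code.enc, Sigma.mk.injEq, heq_eq_eq, true_and] at this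
      exact this
    · by_cases hi' : i < a
      · have hz : IsZero (e (n i)) := by
          have : n i = n0 := hc i hi
          rw [this]; exact h0
        exact hz.eq_of_src _ _
      · have hz : IsZero (e (n (i + 1))) := by
          have : n (i + 1) = n0 := hc (i + 1) (by omega)
          rw [this]; exact h0
        exact hz.eq_of_tgt _ _
  subst this
  rfl

end Codes


section More

variable {A : Type u} [Category.{v} A] [Abelian A] {e : ℕ → A}

theorem countable_bdd (hhom : ∀ X Y : A, Countable (X ⟶ Y)) (n0 : ℕ) (h0 : IsZero (e n0))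
    (a b : ℤ) : Countable {c : Code e // c.IsBdd n0 a b} := by
  haveI : Finite (Set.Icc a b) := (Set.finite_Icc a b).to_subtype
  haveI : ∀ pq : ℕ × ℕ, Countable (e pq.1 ⟶ e pq.2) := fun pq => hhom _ _
  exact (Code.enc_injective n0 h0 a b).countable

@[simp] theorem Code.cx_X (c : Code e) (i : ℤ) : c.cx.X i = e (c.n i) := rfl

theorem Code.cx_d (c : Code e) (i : ℤ) : c.cx.d i (i + 1) = c.d i := by
  simp [Code.cx, CochainComplex.of_d]

theorem Code.isStrictlyGE (c : Code e) (n0 : ℕ) (h0 : IsZero (e n0)) (a b : ℤ)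
    (hc : c.IsBdd n0 a b) : c.cx.IsStrictlyGE a := by
  rw [CochainComplex.isStrictlyGE_iff]
  intro i hi
  change IsZero (e (c.n i))
  rw [hc i (by omega)]
  exact h0

theorem Code.isStrictlyLE (c : Code e) (n0 : ℕ) (h0 : IsZero (e n0)) (a b : ℤ)
    (hc : c.IsBdd n0 a b) : c.cx.IsStrictlyLE b := by
  rw [CochainComplex.isStrictlyLE_iff]
  intro i hi
  change IsZero (e (c.n i))
  rw [hc i (by omega)]
  exact h0

theorem exists_code (hiso : ∀ X : A, ∃ n : ℕ, Nonempty (X ≅ e n)) (n0 : ℕ) (h0 : IsZero (e n0))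
    (K : CochainComplex A ℤ) (a b : ℤ) [K.IsStrictlyGE a] [K.IsStrictlyLE b] :
    ∃ c : Code e, c.IsBdd n0 a b ∧ Nonempty (K ≅ c.cx) := by
  have key : ∀ i : ℤ, ∃ m : ℕ, (¬ (a ≤ i ∧ i ≤ b) → m = n0) ∧ Nonempty (K.X i ≅ e m) := by
    intro i
    by_cases hi : a ≤ i ∧ i ≤ b
    · obtain ⟨m, hm⟩ := hiso (K.X i)
      exact ⟨m, fun h => absurd hi h, hm⟩
    · refine ⟨n0, fun _ => rfl, ⟨IsZero.iso ?_ h0⟩⟩
      by_cases hi' : i < a
      · exact K.isZero_of_isStrictlyGE a i hi'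
      · exact K.isZero_of_isStrictlyLE b i (by omega)
  choose n hn φ using key
  let φ' : ∀ i, K.X i ≅ e (n i) := fun i => (φ i).some
  let c : Code e :=
    { n := n
      d := fun i => (φ' i).inv ≫ K.d i (i + 1) ≫ (φ' (i + 1)).hom
      sq := fun i => by simp }
  refine ⟨c, fun i hi => hn i hi, ⟨HomologicalComplex.Hom.isoOfComponents (fun i => φ' i) ?_⟩⟩
  intro i j hij
  have hij' : i + 1 = j := hij
  subst hij'
  rw [Code.cx_d]
  simp [c]

end More


section Homs

variable {A : Type u} [Category.{v} A] [Abelian A] {e : ℕ → A}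

theorem countable_hom_cx (hhom : ∀ X Y : A, Countable (X ⟶ Y)) (n0 : ℕ) (h0 : IsZero (e n0))
    (c : Code e) (a b : ℤ) (hc : c.IsBdd n0 a b) (X : CochainComplex A ℤ) :
    Countable (c.cx ⟶ X) := by
  haveI : Finite (Set.Icc a b) := (Set.finite_Icc a b).to_subtype
  haveI : ∀ i : Set.Icc a b, Countable (c.cx.X i.1 ⟶ X.X i.1) := fun i => hhom _ _
  let F : (c.cx ⟶ X) → (∀ i : Set.Icc a b, (c.cx.X i.1 ⟶ X.X i.1)) := fun f i => f.f i.1
  have hF : Function.Injective F := by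
    intro f g h
    ext i
    by_cases hi : a ≤ i ∧ i ≤ b
    · exact congrFun h ⟨i, hi⟩
    · have hz : IsZero (c.cx.X i) := by
        change IsZero (e (c.n i))
        rw [hc i hi]; exact h0
      exact hz.eq_of_src _ _
  exact hF.countable

variable [HasDerivedCategory.{w} A]

theorem countable_hom_Q (hhom : ∀ X Y : A, Countable (X ⟶ Y))
    (hiso : ∀ X : A, ∃ n : ℕ, Nonempty (X ≅ e n)) (n0 : ℕ) (h0 : IsZero (e n0))
    (a b : ℤ) (X Y : CochainComplex A ℤ) [X.IsStrictlyGE a] [X.IsStrictlyLE b]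
    [Y.IsStrictlyGE a] :
    Countable (Q.obj X ⟶ Q.obj Y) := by
  classical
  haveI := countable_bdd (e := e) hhom n0 h0 a b
  haveI : ∀ c : {c : Code e // c.IsBdd n0 a b}, Countable ((c.1.cx ⟶ X) × (c.1.cx ⟶ Y)) := by
    intro c
    haveI := countable_hom_cx hhom n0 h0 c.1 a b c.2 X
    haveI := countable_hom_cx hhom n0 h0 c.1 a b c.2 Y
    infer_instance
  let F : (Σ c : {c : Code e // c.IsBdd n0 a b}, (c.1.cx ⟶ X) × (c.1.cx ⟶ Y)) →
      (Q.obj X ⟶ Q.obj Y) :=
    fun t => if h : IsIso (Q.map t.2.1) then inv (Q.map t.2.1) ≫ Q.map t.2.2 else 0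
  have hF : Function.Surjective F := by
    intro f
    obtain ⟨X', hGE, hLE, s, hs, g, rfl⟩ := right_fac_of_isStrictlyLE_of_isStrictlyGE a b f
    obtain ⟨c, hc, ⟨ψ⟩⟩ := exists_code hiso n0 h0 X' a b
    refine ⟨⟨⟨c, hc⟩, ψ.inv ≫ s, ψ.inv ≫ g⟩, ?_⟩
    have h1 : IsIso (Q.map (ψ.inv ≫ s)) := by
      rw [Q.map_comp]; infer_instance
    simp only [F]
    rw [dif_pos h1]
    simp only [Functor.map_comp, IsIso.inv_comp, Category.assoc, IsIso.inv_hom_id_assoc]
  exact hF.countable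

end Homs


/-- Let A be an abelian category which is countable: Hom(X, Y) is countable for all objects X, Y and
there are countably many isomorphism classes of objects. Then the bounded derived category D^b(A) is
countable in the same sense. -/
theorem result
    {A : Type u} [Category.{v} A] [Abelian A] [HasDerivedCategory.{w} A]
    (hhom : ∀ X Y : A, Countable (X ⟶ Y))
    (hiso : ∃ e : ℕ → A, ∀ X : A, ∃ n : ℕ, Nonempty (X ≅ e n)) :
    (∀ K L : DerivedCategory.Bounded A, Countable (K ⟶ L)) ∧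
      ∃ e : ℕ → DerivedCategory.Bounded A, ∀ K : DerivedCategory.Bounded A,
        ∃ n : ℕ, Nonempty (K ≅ e n) := by
  obtain ⟨e, he⟩ := hiso
  obtain ⟨Z, hZ⟩ := HasZeroObject.zero (C := A)
  obtain ⟨n0, ⟨i0⟩⟩ := he Z
  have h0 : IsZero (e n0) := hZ.of_iso i0.symm
  have key : ∀ K : DerivedCategory.Bounded A, ∃ (a b : ℤ) (c : Code e), c.IsBdd n0 a b ∧
      Nonempty (K.obj ≅ Q.obj c.cx) := by
    intro K
    obtain ⟨⟨a, ha⟩, ⟨b, hb⟩⟩ := K.property
    haveI : K.obj.IsGE a := ha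
    haveI : K.obj.IsLE b := hb
    obtain ⟨X, hX1, hX2, ⟨φ⟩⟩ := exists_iso_Q_obj_of_isGE_of_isLE K.obj a b
    obtain ⟨c, hc, ⟨ψ⟩⟩ := exists_code he n0 h0 X a b
    exact ⟨a, b, c, hc, ⟨φ ≪≫ Q.mapIso ψ⟩⟩
  have mono : ∀ (c : Code e) (a b a' b' : ℤ), a' ≤ a → b ≤ b' → c.IsBdd n0 a b →
      c.IsBdd n0 a' b' := by
    intro c a b a' b' h1 h2 hc i hi
    exact hc i (by omega)
  constructor
  · intro K L
    obtain ⟨a, b, c, hc, ⟨φ⟩⟩ := key K
    obtain ⟨a', b', c', hc', ⟨φ'⟩⟩ := key L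
    have hc1 := mono c a b (min a a') (max b b') (min_le_left _ _) (le_max_left _ _) hc
    have hc2 := mono c' a' b' (min a a') (max b b') (min_le_right _ _) (le_max_right _ _) hc'
    haveI := c.isStrictlyGE n0 h0 _ _ hc1
    haveI := c.isStrictlyLE n0 h0 _ _ hc1
    haveI := c'.isStrictlyGE n0 h0 _ _ hc2
    haveI := countable_hom_Q hhom he n0 h0 (min a a') (max b b') c.cx c'.cx
    exact (((ObjectProperty.fullyFaithfulι _).homEquiv (X := K) (Y := L)).trans
      (φ.homCongr φ')).injective.countable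
  · let T := Σ ab : ℤ × ℤ, {c : Code e // c.IsBdd n0 ab.1 ab.2}
    haveI : Countable T := by
      haveI : ∀ ab : ℤ × ℤ, Countable {c : Code e // c.IsBdd n0 ab.1 ab.2} :=
        fun ab => countable_bdd hhom n0 h0 ab.1 ab.2
      infer_instance
    let c0 : Code e := { n := fun _ => n0, d := fun _ => 0, sq := fun _ => by simp }
    haveI : Nonempty T := ⟨⟨(0, 0), ⟨c0, fun _ _ => rfl⟩⟩⟩
    obtain ⟨f, hf⟩ := exists_surjective_nat T
    let F : T → DerivedCategory.Bounded A := fun t =>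
      ⟨Q.obj t.2.1.cx, by
        haveI := t.2.1.isStrictlyGE n0 h0 _ _ t.2.2
        haveI := t.2.1.isStrictlyLE n0 h0 _ _ t.2.2
        exact ⟨⟨t.1.1, inferInstance⟩, ⟨t.1.2, inferInstance⟩⟩⟩
    refine ⟨F ∘ f, fun K => ?_⟩
    obtain ⟨a, b, c, hc, ⟨φ⟩⟩ := key K
    obtain ⟨m, hm⟩ := hf ⟨(a, b), ⟨c, hc⟩⟩
    refine ⟨m, ⟨ObjectProperty.isoMk _ ?_⟩⟩
    change K.obj ≅ Q.obj (f m).2.1.cx
    rw [hm]
    exact φ

end Groth.Agent.S6713
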