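import Groth.Statements.S6714
import Groth.Agent.Lib.Helper19IndExtC

set_option autoImplicit false
universe u v' u'
open CategoryTheory CategoryTheory.Limits
open FunMor

namespace Groth.Agent.S6714

/-- Let A be a commutative ring, B a category with filtered colimits and F a functor from the category
of finitely presented A-modules to B. Then F extends to a functor F' on all A-modules which commutes
with filtered colimits, and the extension is unique: two functors on A-modules commuting with
filtered colimits whose restrictions to finitely presented modules are isomorphic are themselves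
isomorphic. -/
theorem result
    (A : Type u) [CommRing A] {B : Type u'} [Category.{v'} B] [HasFilteredColimitsOfSize.{u, u} B]
    (F : (ObjectProperty.FullSubcategory (fun M : ModuleCat.{u} A => Module.FinitePresentation A M)) ⥤ B) :
    (∃ F' : ModuleCat.{u} A ⥤ B, PreservesFilteredColimitsOfSize.{u, u} F' ∧
      Nonempty (ObjectProperty.ι (fun M : ModuleCat.{u} A => Module.FinitePresentation A M) ⋙ F' ≅ F)) ∧
    ∀ F₁ F₂ : ModuleCat.{u} A ⥤ B, PreservesFilteredColimitsOfSize.{u, u} F₁ →
      PreservesFilteredColimitsOfSize.{u, u} F₂ →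
      Nonempty (ObjectProperty.ι (fun M : ModuleCat.{u} A => Module.FinitePresentation A M) ⋙ F₁ ≅ ObjectProperty.ι (fun M : ModuleCat.{u} A => Module.FinitePresentation A M) ⋙ F₂) →
      Nonempty (F₁ ≅ F₂) := by
  open Groth.Agent.Lib.Helper19.IndExt in
  refine ⟨?_, ?_⟩
  · haveI : (incl A).HasPointwiseLeftKanExtension F := fun M => by
      haveI := hasColimitsOfShape_of_essSmall.{_, _, u} (CostructuredArrow (incl A) M) B
      infer_instance
    let E := Functor.LeftExtension.mk _ ((incl A).pointwiseLeftKanExtensionUnit F)
    have hE : E.IsPointwiseLeftKanExtension :=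
      Functor.pointwiseLeftKanExtensionIsPointwiseLeftKanExtension _ _
    refine ⟨(incl A).pointwiseLeftKanExtension F,
      preservesFilteredColimits_of_isPointwise E hE, ?_⟩
    haveI : IsIso E.hom := hE.isIso_hom
    exact ⟨(asIso E.hom).symm⟩
  · intro F₁ F₂ h₁ h₂ ⟨e⟩
    have hE₁ := isPointwiseOfPreserves F₁ (𝟙 (incl A ⋙ F₁))
    have hE₂ := isPointwiseOfPreserves F₂ e.hom
    haveI i1 : F₁.IsLeftKanExtension (𝟙 (incl A ⋙ F₁)) := hE₁.isLeftKanExtension
    haveI i2 : F₂.IsLeftKanExtension e.hom := hE₂.isLeftKanExtension
    exact ⟨Functor.leftKanExtensionUnique F₁ (𝟙 (incl A ⋙ F₁)) F₂ e.hom⟩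

end Groth.Agent.S6714
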