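import Groth.Statements.S6716
import Groth.Agent.Lib.Helper19IndExtF

set_option autoImplicit false
universe u v' u'
open CategoryTheory CategoryTheory.Limits
open FunMor

namespace Groth.Agent.S6716

/-- Let A be a commutative ring and B an additive category with cokernels and filtered colimits. Let F'
be a functor from A-modules to B commuting with filtered colimits whose restriction to the full
subcategory of finitely presented A-modules is right exact (F' is then the extension of that
restriction). Then F' is additive and right exact, and it preserves all small direct sums. -/
theorem result
    (A : Type u) [CommRing A] {B : Type u'} [Category.{v'} B] [Preadditive B] [HasFiniteBiproducts B]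
    [HasCokernels B] [HasFilteredColimitsOfSize.{u, u} B]
    (F' : ModuleCat.{u} A ⥤ B) [PreservesFilteredColimitsOfSize.{u, u} F']
    [PreservesFiniteColimits (ObjectProperty.ι (fun M : ModuleCat.{u} A => Module.FinitePresentation A M) ⋙ F')] :
    F'.Additive ∧ PreservesFiniteColimits F' ∧
      ∀ J : Type u, PreservesColimitsOfShape (Discrete J) F' := by
  open Groth.Agent.Lib.Helper19.IndExt in
  haveI hres : (incl A ⋙ F').Additive := additive_of_preservesFiniteColimits (incl A ⋙ F')
  haveI hadd : F'.Additive := additive_of_restrict F'
  haveI hcok : ∀ {X Y : ModuleCat.{u} A} (f : X ⟶ Y), PreservesColimit (parallelPair f 0) F' :=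
    fun f => preservesCokernel F' f
  refine ⟨hadd, Functor.preservesFiniteColimits_of_preservesCokernels F', fun J => ?_⟩
  exact preservesColimitsOfShape_discrete_of_finite_filtered.{u} F' J

end Groth.Agent.S6716
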