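import Groth.Statements.S6725
import Mathlib
import Groth.Agent.Lib.Helper16FPMod
-- import your own Groth.Agent.* helpers here

set_option autoImplicit false
set_option linter.style.haveILetI false
set_option linter.unusedSectionVars false
universe u v' u'
open CategoryTheory CategoryTheory.Limits
open FunMor

namespace Groth.Agent.S6725
open Groth.Agent.Lib.Helper16.FPMod

variable {A : Type u} [CommRing A] {B : Type u'} [Category.{v'} B] [Preadditive B]
  [HasFiniteBiproducts B] [HasCokernels B] (K : B) (κ : A →+* End K)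

/-- descending an additive map along a surjection. -/
lemma descend {N P G : Type*} [AddCommGroup N] [AddCommGroup P] [AddCommGroup G]
    (g : N →+ P) (hg : Function.Surjective g) (w : N →+ G)
    (hw : ∀ y, g y = 0 → w y = 0) : ∃ w' : P →+ G, ∀ y, w' (g y) = w y := by
  have hker : ∀ y y', g y = g y' → w y = w y' := by
    intro y y' h
    have h1 : w (y - y') = 0 := hw _ (by rw [map_sub, h, sub_self])
    rw [map_sub] at h1
    exact sub_eq_zero.1 h1
  refine ⟨{ toFun := fun z => w (Function.surjInv hg z)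
            map_zero' := hw _ (Function.surjInv_eq hg 0)
            map_add' := fun z z' => ?_ }, fun y => ?_⟩
  · rw [← map_add]
    apply hker
    rw [map_add, Function.surjInv_eq hg, Function.surjInv_eq hg, Function.surjInv_eq hg]
  · exact hker _ _ (Function.surjInv_eq hg (g y))

lemma κ_comp (a b : A) : κ a ≫ κ b = κ (a * b) := by
  rw [mul_comm, map_mul]
  rfl

/-- `κ`-linearity of a family of maps `K ⟶ Y` indexed by a module. -/
def IsLin {M : Type u} [AddCommGroup M] [Module A M] {Y : B} (v : M →+ (K ⟶ Y)) : Prop :=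
  ∀ (a : A) (x : M), v (a • x) = κ a ≫ v x

/-- universal `κ`-linear family. -/
def IsUniv {M : Type u} [AddCommGroup M] [Module A M] {X : B} (u : M →+ (K ⟶ X)) : Prop :=
  IsLin K κ u ∧ ∀ (Y : B) (v : M →+ (K ⟶ Y)), IsLin K κ v → ∃! h : X ⟶ Y, ∀ x, u x ≫ h = v x

section Univ

variable {K κ}
variable {M : Type u} [AddCommGroup M] [Module A M]

/-- postcomposition of a family with a morphism. -/
noncomputable def post {X Y : B} (u : M →+ (K ⟶ X)) (h : X ⟶ Y) : M →+ (K ⟶ Y) :=
  (Preadditive.rightComp K h).comp u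

@[simp] lemma post_apply {X Y : B} (u : M →+ (K ⟶ X)) (h : X ⟶ Y) (x : M) :
    post u h x = u x ≫ h := rfl

lemma IsLin.post {X Y : B} {u : M →+ (K ⟶ X)} (hu : IsLin K κ u) (h : X ⟶ Y) :
    IsLin K κ (post u h) := by
  intro a x
  rw [post_apply, post_apply, hu, Category.assoc]

lemma IsLin.map_sum {X : B} {u : M →+ (K ⟶ X)} (hu : IsLin K κ u) {ι : Type*} (t : Finset ι)
    (c : ι → A) (y : ι → M) : u (∑ j ∈ t, c j • y j) = ∑ j ∈ t, κ (c j) ≫ u (y j) := by
  rw [_root_.map_sum]
  exact Finset.sum_congr rfl (fun j _ => hu _ _)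

lemma IsUniv.hom_ext {X Y : B} {u : M →+ (K ⟶ X)} (hu : IsUniv K κ u) {h₁ h₂ : X ⟶ Y}
    (h : ∀ x, u x ≫ h₁ = u x ≫ h₂) : h₁ = h₂ := by
  obtain ⟨h0, -, huniq⟩ := hu.2 Y (post u h₁) (hu.1.post h₁)
  rw [huniq h₁ (fun x => rfl), huniq h₂ (fun x => (h x).symm)]

/-- the induced morphism. -/
noncomputable def IsUniv.desc {X Y : B} {u : M →+ (K ⟶ X)} (hu : IsUniv K κ u)
    (v : M →+ (K ⟶ Y)) (hv : IsLin K κ v) : X ⟶ Y := (hu.2 Y v hv).choose

lemma IsUniv.fac {X Y : B} {u : M →+ (K ⟶ X)} (hu : IsUniv K κ u)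
    (v : M →+ (K ⟶ Y)) (hv : IsLin K κ v) (x : M) : u x ≫ hu.desc v hv = v x :=
  (hu.2 Y v hv).choose_spec.1 x

/-- two universal families are isomorphic. -/
lemma IsUniv.exists_iso {X X' : B} {u : M →+ (K ⟶ X)} (hu : IsUniv K κ u)
    {u' : M →+ (K ⟶ X')} (hu' : IsUniv K κ u') :
    ∃ e : X ≅ X', ∀ x, u x ≫ e.hom = u' x := by
  refine ⟨⟨hu.desc u' hu'.1, hu'.desc u hu.1, ?_, ?_⟩, fun x => hu.fac u' hu'.1 x⟩
  · apply hu.hom_ext
    intro x
    rw [← Category.assoc, hu.fac, hu'.fac, Category.comp_id]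
  · apply hu'.hom_ext
    intro x
    rw [← Category.assoc, hu'.fac, hu.fac, Category.comp_id]

lemma pi_eq_sum_single {n : ℕ} (c : Fin n → A) :
    c = ∑ j : Fin n, c j • (Pi.single j 1 : Fin n → A) := by
  conv_lhs => rw [← Finset.univ_sum_single c]
  refine Finset.sum_congr rfl (fun j _ => ?_)
  ext k
  by_cases h : k = j
  · subst h; simp
  · simp [Pi.single_eq_of_ne h]

variable (K κ) in
/-- the universal family of the free module `A^n`. -/
noncomputable def uFree (n : ℕ) : (Fin n → A) →+ (K ⟶ ⨁ fun _ : Fin n => K) where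
  toFun c := ∑ j : Fin n, κ (c j) ≫ biproduct.ι (fun _ : Fin n => K) j
  map_zero' := by simp
  map_add' c d := by
    rw [← Finset.sum_add_distrib]
    refine Finset.sum_congr rfl (fun j _ => ?_)
    rw [Pi.add_apply, map_add, Preadditive.add_comp]

lemma uFree_apply (n : ℕ) (c : Fin n → A) :
    uFree K κ n c = ∑ j : Fin n, κ (c j) ≫ biproduct.ι (fun _ : Fin n => K) j := rfl

lemma uFree_single (n : ℕ) (j : Fin n) :
    uFree K κ n (Pi.single j 1) = biproduct.ι (fun _ : Fin n => K) j := by
  rw [uFree_apply, Finset.sum_eq_single j]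
  · rw [Pi.single_eq_same, map_one]
    exact Category.id_comp _
  · intro k _ hk
    rw [Pi.single_eq_of_ne hk, map_zero, zero_comp]
  · intro h; exact absurd (Finset.mem_univ j) h

lemma isUniv_free (n : ℕ) : IsUniv K κ (uFree K κ n) := by
  have hlin : IsLin K κ (uFree K κ n) := by
    intro a c
    rw [uFree_apply, uFree_apply, Preadditive.comp_sum]
    refine Finset.sum_congr rfl (fun j _ => ?_)
    rw [Pi.smul_apply, smul_eq_mul, ← κ_comp, Category.assoc]
  refine ⟨hlin, fun Y v hv => ?_⟩
  refine ⟨biproduct.desc (fun j => v (Pi.single j 1)), fun c => ?_, fun h' hh' => ?_⟩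
  · rw [uFree_apply, Preadditive.sum_comp]
    conv_rhs => rw [pi_eq_sum_single c, hv.map_sum]
    refine Finset.sum_congr rfl (fun j _ => ?_)
    rw [Category.assoc, biproduct.ι_desc]
  · apply biproduct.hom_ext'
    intro j
    rw [biproduct.ι_desc, ← uFree_single (K := K) (κ := κ), hh']

lemma exists_univ_of_exact {P M : Type u} [AddCommGroup P] [Module A P] [AddCommGroup M]
    [Module A M] {m : ℕ} (R : (Fin m → A) →ₗ[A] P) (π : P →ₗ[A] M) (hπ : Function.Surjective π)
    (hex : Function.Exact R π) {X : B} (u : P →+ (K ⟶ X)) (hu : IsUniv K κ u) :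
    ∃ (X' : B) (u' : M →+ (K ⟶ X')), IsUniv K κ u' := by
  let ρ : (⨁ fun _ : Fin m => K) ⟶ X := biproduct.desc (fun k => u (R (Pi.single k 1)))
  let q := cokernel.π ρ
  have hker : ∀ c, π c = 0 → u c ≫ q = 0 := by
    intro c hc
    obtain ⟨d, rfl⟩ := (hex c).1 hc
    have h1 : R d = ∑ k, d k • R (Pi.single k 1) := by
      conv_lhs => rw [pi_eq_sum_single d, _root_.map_sum]
      exact Finset.sum_congr rfl (fun k _ => map_smul R _ _)
    rw [h1, hu.1.map_sum, Preadditive.sum_comp]
    refine Finset.sum_eq_zero (fun k _ => ?_)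
    have : u (R (Pi.single k 1)) = biproduct.ι _ k ≫ ρ :=
      (biproduct.ι_desc (fun k => u (R (Pi.single k 1))) k).symm
    rw [this, Category.assoc, Category.assoc, cokernel.condition, comp_zero, comp_zero]
  obtain ⟨u', hu'⟩ := descend π.toAddMonoidHom hπ (post u q) (fun c hc => hker c hc)
  have hu'' : ∀ c, u' (π c) = u c ≫ q := hu'
  refine ⟨cokernel ρ, u', ?_, ?_⟩
  · intro a z
    obtain ⟨c, rfl⟩ := hπ z
    rw [← map_smul, hu'', hu'', hu.1, Category.assoc]
  · intro Y v' hv'
    let v : P →+ (K ⟶ Y) := v'.comp π.toAddMonoidHom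
    have hv : IsLin K κ v := fun a c => by
      change v' (π (a • c)) = κ a ≫ v' (π c)
      rw [map_smul, hv']
    have hρ : ρ ≫ hu.desc v hv = 0 := by
      apply biproduct.hom_ext'
      intro k
      rw [← Category.assoc, biproduct.ι_desc, hu.fac, comp_zero]
      change v' (π (R _)) = 0
      rw [hex.apply_apply_eq_zero, map_zero]
    refine ⟨cokernel.desc ρ _ hρ, fun z => ?_, fun h' hh' => ?_⟩
    · obtain ⟨c, rfl⟩ := hπ z
      rw [hu'', Category.assoc, cokernel.π_desc, hu.fac]
      rfl
    · rw [← cancel_epi (cokernel.π ρ), cokernel.π_desc]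
      apply hu.hom_ext
      intro c
      rw [hu.fac, ← Category.assoc]
      have := hh' (π c)
      rw [hu''] at this
      exact this

end Univ

lemma exists_univ (M : FP A) : ∃ (X : B) (u : M.obj →+ (K ⟶ X)), IsUniv K κ u := by
  obtain ⟨n, m, R, π, hπ, hex⟩ := exists_pres M
  exact exists_univ_of_exact R.hom.hom π.hom.hom hπ hex (uFree K κ n) (isUniv_free n)

/-- the value of the functor on objects. -/
noncomputable def Fobj (M : FP A) : B := (exists_univ K κ M).choose

/-- the universal family. -/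
noncomputable def uu (M : FP A) : M.obj →+ (K ⟶ Fobj K κ M) :=
  (exists_univ K κ M).choose_spec.choose

lemma uu_univ (M : FP A) : IsUniv K κ (uu K κ M) :=
  (exists_univ K κ M).choose_spec.choose_spec

/-- precomposition of a family with a module map. -/
noncomputable def pre {M N : FP A} (g : M ⟶ N) {Y : B} (v : N.obj →+ (K ⟶ Y)) :
    M.obj →+ (K ⟶ Y) := v.comp g.hom.hom.toAddMonoidHom

lemma pre_apply {M N : FP A} (g : M ⟶ N) {Y : B} (v : N.obj →+ (K ⟶ Y)) (x : M.obj) :
    pre K g v x = v (g.hom x) := rfl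

lemma IsLin.pre {M N : FP A} (g : M ⟶ N) {Y : B} {v : N.obj →+ (K ⟶ Y)} (hv : IsLin K κ v) :
    IsLin K κ (pre K g v) := by
  intro a x
  rw [pre_apply, pre_apply, map_smul, hv]

/-- the value of the functor on morphisms. -/
noncomputable def Fmap {M N : FP A} (g : M ⟶ N) : Fobj K κ M ⟶ Fobj K κ N :=
  (uu_univ K κ M).desc (pre K g (uu K κ N)) ((uu_univ K κ N).1.pre K κ g)

lemma uu_Fmap {M N : FP A} (g : M ⟶ N) (x : M.obj) :
    uu K κ M x ≫ Fmap K κ g = uu K κ N (g.hom x) :=
  (uu_univ K κ M).fac _ _ x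

/-- the functor. -/
noncomputable def F : FP A ⥤ B where
  obj := Fobj K κ
  map g := Fmap K κ g
  map_id M := by
    apply (uu_univ K κ M).hom_ext
    intro x
    rw [uu_Fmap, Category.comp_id]
    rfl
  map_comp f g := by
    apply (uu_univ K κ _).hom_ext
    intro x
    rw [uu_Fmap, ← Category.assoc, uu_Fmap, uu_Fmap]
    rfl

/-- the universal family, typed with `F`. -/
noncomputable def uF (M : FP A) : M.obj →+ (K ⟶ (F K κ).obj M) := uu K κ M

lemma uF_univ (M : FP A) : IsUniv K κ (uF K κ M) := uu_univ K κ M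

lemma uF_map {M N : FP A} (g : M ⟶ N) (x : M.obj) :
    uF K κ M x ≫ (F K κ).map g = uF K κ N (g.hom x) := uu_Fmap K κ g x

/-- the universal family of `A` itself. -/
noncomputable def uOne : A →+ (K ⟶ K) where
  toFun a := κ a
  map_zero' := map_zero κ
  map_add' := map_add κ

lemma uOne_apply (a : A) : uOne K κ a = κ a := rfl

lemma isUniv_one : IsUniv K κ (uOne K κ) := by
  refine ⟨fun a x => ?_, fun Y v hv => ⟨v 1, fun x => ?_, fun h' hh' => ?_⟩⟩
  · rw [uOne_apply, uOne_apply, smul_eq_mul, κ_comp]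
  · rw [uOne_apply, ← hv, smul_eq_mul, mul_one]
  · rw [← hh' 1, uOne_apply, map_one]
    exact (Category.id_comp _).symm

lemma exists_e : ∃ e : (F K κ).obj (one A) ≅ K, ∀ x : A, uF K κ (one A) x ≫ e.hom = κ x :=
  (uF_univ K κ (one A)).exists_iso (isUniv_one K κ)

lemma compat (e : (F K κ).obj (one A) ≅ K) (he : ∀ x : A, uF K κ (one A) x ≫ e.hom = κ x)
    (a : A) : (F K κ).map (mulA a) ≫ e.hom = e.hom ≫ κ a := by
  apply (uF_univ K κ (one A)).hom_ext
  intro x
  rw [← Category.assoc, uF_map, he, ← Category.assoc, he, κ_comp, mulA_apply, mul_comm]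

instance : (F K κ).PreservesZeroMorphisms where
  map_zero M N := by
    apply (uF_univ K κ M).hom_ext
    intro x
    rw [uF_map, comp_zero]
    exact map_zero _

/-- explicit cokernels in `FP A`. -/
lemma exists_coker {M N : FP A} (f : M ⟶ N) : ∃ (Q : FP A) (q : N ⟶ Q),
    Function.Surjective q.hom ∧ Function.Exact f.hom q.hom := by
  haveI : Module.FinitePresentation A M.obj := M.property
  haveI : Module.FinitePresentation A N.obj := N.property
  let S : Submodule A N.obj := LinearMap.range f.hom.hom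
  have hfp : Module.FinitePresentation A (N.obj ⧸ S) := by
    refine Module.finitePresentation_of_surjective S.mkQ (Submodule.mkQ_surjective S) ?_
    rw [Submodule.ker_mkQ]
    exact Submodule.fg_range _
  exact ⟨⟨ModuleCat.of A (N.obj ⧸ S), hfp⟩, ObjectProperty.homMk (ModuleCat.ofHom S.mkQ),
    Submodule.mkQ_surjective S, LinearMap.exact_map_mkQ_range f.hom.hom⟩

instance : HasCokernels (FP A) where
  has_colimit f := by
    obtain ⟨Q, q, hq, hex⟩ := exists_coker f
    exact HasColimit.mk ⟨_, isColimitOfExact f q hq hex⟩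

/-- `F` sends right exact sequences to cokernel coforks. -/
noncomputable def isColimitMapOfExact {M N Q : FP A} (f : M ⟶ N) (q : N ⟶ Q)
    (hq : Function.Surjective q.hom) (hex : Function.Exact f.hom q.hom) :
    IsColimit (CokernelCofork.ofπ ((F K κ).map q)
      (by rw [← Functor.map_comp, comp_eq_zero_of_exact f q hex, Functor.map_zero] :
        (F K κ).map f ≫ (F K κ).map q = 0)) := by
  have key : ∀ {Z' : B} (g' : (F K κ).obj N ⟶ Z') (eq' : (F K κ).map f ≫ g' = 0),
      ∃ w' : Q.obj →+ (K ⟶ Z'), IsLin K κ w' ∧ ∀ y, w' (q.hom y) = uF K κ N y ≫ g' := by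
    intro Z' g' eq'
    obtain ⟨w', hw'⟩ := descend q.hom.hom.toAddMonoidHom hq (post (uF K κ N) g') (by
      intro y hy
      obtain ⟨x, rfl⟩ := (hex y).1 hy
      rw [post_apply, ← uF_map, Category.assoc, eq', comp_zero])
    have hw'' : ∀ y, w' (q.hom y) = uF K κ N y ≫ g' := hw'
    refine ⟨w', fun a z => ?_, hw''⟩
    obtain ⟨y, rfl⟩ := hq z
    rw [← map_smul, hw'', hw'', (uF_univ K κ N).1, Category.assoc]
  refine CokernelCofork.IsColimit.ofπ _ _
    (fun {Z'} g' eq' => (uF_univ K κ Q).desc (key g' eq').choose (key g' eq').choose_spec.1)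
    (fun {Z'} g' eq' => ?_) (fun {Z'} g' eq' m hm => ?_)
  · apply (uF_univ K κ N).hom_ext
    intro y
    rw [← Category.assoc, uF_map, (uF_univ K κ Q).fac, (key g' eq').choose_spec.2]
  · apply (uF_univ K κ Q).hom_ext
    intro z
    obtain ⟨y, rfl⟩ := hq z
    rw [(uF_univ K κ Q).fac, (key g' eq').choose_spec.2, ← hm, ← Category.assoc, uF_map]

instance {M N : FP A} (f : M ⟶ N) : PreservesColimit (parallelPair f 0) (F K κ) := by
  obtain ⟨Q, q, hq, hex⟩ := exists_coker f
  exact preservesColimit_of_preserves_colimit_cocone (isColimitOfExact f q hq hex)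
    ((CokernelCofork.isColimitMapCoconeEquiv _ (F K κ)).symm (isColimitMapOfExact K κ f q hq hex))

lemma pfc : PreservesFiniteColimits (F K κ) := by
  haveI : HasZeroObject B := hasZeroObject_of_hasFiniteBiproducts B
  haveI : HasCoequalizers (FP A) := Preadditive.hasCoequalizers_of_hasCokernels
  haveI : HasFiniteCoproducts (FP A) := hasFiniteCoproducts_of_has_binary_and_initial
  exact Functor.preservesFiniteColimits_of_preservesCokernels (F K κ)


/-- Essential surjectivity of the functor F ↦ (F(A), induced A-action): let A be a commutative ring and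
B an additive category with cokernels. For every object K of B and ring map κ : A → End(K) there
exist a right exact functor F from the category of finitely presented A-modules to B and an
isomorphism F(A) ≅ K carrying F(multiplication by a) to κ(a) for every a ∈ A. -/
theorem result
    (A : Type u) [CommRing A] {B : Type u'} [Category.{v'} B] [Preadditive B] [HasFiniteBiproducts B]
    [HasCokernels B] (K : B) (κ : A →+* End K) :
    ∃ (F : (ObjectProperty.FullSubcategory (fun M : ModuleCat.{u} A => Module.FinitePresentation A M)) ⥤ B) (_ : PreservesFiniteColimits F)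
      (e : F.obj (⟨ModuleCat.of A A, inferInstance⟩ : (ObjectProperty.FullSubcategory (fun M : ModuleCat.{u} A => Module.FinitePresentation A M))) ≅ K),
      ∀ a : A, F.map (ObjectProperty.homMk (ModuleCat.ofHom (LinearMap.lsmul A A a)) : (⟨ModuleCat.of A A, inferInstance⟩ : (ObjectProperty.FullSubcategory (fun M : ModuleCat.{u} A => Module.FinitePresentation A M))) ⟶ (⟨ModuleCat.of A A, inferInstance⟩ : (ObjectProperty.FullSubcategory (fun M : ModuleCat.{u} A => Module.FinitePresentation A M)))) ≫ e.hom = e.hom ≫ κ a := by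
  obtain ⟨e, he⟩ := exists_e K κ
  exact ⟨F K κ, pfc K κ, e, fun a => compat K κ e he a⟩

end Groth.Agent.S6725
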