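import Groth.Statements.S6726
import Mathlib
import Groth.Agent.Lib.Helper16FPMod
-- import your own Groth.Agent.* helpers here

set_option autoImplicit false
set_option linter.style.haveILetI false
set_option linter.unusedSectionVars false
universe u v' u'
open CategoryTheory CategoryTheory.Limits
open FunMor

namespace Groth.Agent.S6726
open Groth.Agent.Lib.Helper16.FPMod

variable {A : Type u} [CommRing A] {B : Type u'} [Category.{v'} B] [Preadditive B]
  [HasFiniteBiproducts B] [HasCokernels B]
  (F F' : FP A ⥤ B) [PreservesFiniteColimits F] [PreservesFiniteColimits F']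

/-- two natural transformations agreeing at `A` are equal. -/
lemma nat_ext (t t' : F ⟶ F') (h : t.app (one A) = t'.app (one A)) : t = t' := by
  ext M
  apply jointly_epi F M
  intro x
  rw [t.naturality, t'.naturality, h]

lemma elt_eq_mulA (a : A) : elt (M := one A) a = mulA a := by
  apply hom_ext'
  intro b
  change b • a = a * b
  rw [smul_eq_mul, mul_comm]

lemma elt_sum {M : FP A} {ι : Type*} (t : Finset ι) (y : ι → M.obj) :
    elt (∑ j ∈ t, y j) = ∑ j ∈ t, elt (y j) := by
  classical
  induction t using Finset.induction_on with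
  | empty => simp [elt_zero]
  | insert a t ha ih => rw [Finset.sum_insert ha, Finset.sum_insert ha, elt_add, ih]

lemma apply_eq_sum {M : FP A} {n : ℕ} (π : fr A n ⟶ M) (c : Fin n → A) :
    π.hom c = ∑ j : Fin n, c j • π.hom (Pi.single j 1) := by
  have h1 : c = ∑ j : Fin n, c j • (Pi.single j 1 : Fin n → A) := by
    conv_lhs => rw [← Finset.univ_sum_single c]
    refine Finset.sum_congr rfl (fun j _ => ?_)
    ext k
    by_cases h : k = j
    · subst h; simp
    · simp [Pi.single_eq_of_ne h]
  conv_lhs => rw [h1]
  rw [map_sum]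
  refine Finset.sum_congr rfl (fun j _ => ?_)
  exact map_smul π.hom.hom (c j) _

section Exists

variable (φ : F.obj (one A) ⟶ F'.obj (one A))
  (hφ : ∀ a : A, F.map (mulA a) ≫ φ = φ ≫ F'.map (mulA a))

include hφ in
lemma exists_good (M : FP A) : ∃ t : F.obj M ⟶ F'.obj M,
    ∀ x : M.obj, F.map (elt x) ≫ t = φ ≫ F'.map (elt x) := by
  haveI := additive_of_pfc F
  haveI := additive_of_pfc F'
  obtain ⟨n, m, R, π, hπ, hex⟩ := exists_pres M
  let s : F.obj (fr A n) ⟶ F'.obj M :=
    ∑ j : Fin n, F.map (proj j) ≫ φ ≫ F'.map (elt (π.hom (Pi.single j 1)))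
  have hs : ∀ c : Fin n → A, F.map (elt (M := fr A n) c) ≫ s = φ ≫ F'.map (elt (π.hom c)) := by
    intro c
    rw [Preadditive.comp_sum, apply_eq_sum π c, elt_sum, Functor.map_sum, Preadditive.comp_sum]
    refine Finset.sum_congr rfl (fun j _ => ?_)
    rw [← F.map_comp_assoc, elt_comp, proj_apply, elt_eq_mulA, ← Category.assoc, hφ,
      Category.assoc, ← F'.map_comp, mulA_comp_elt]
  have hR : R ≫ π = 0 := comp_eq_zero_of_exact R π hex
  have hRs : F.map R ≫ s = 0 := by
    apply jointly_epi F (fr A m)
    intro d
    rw [comp_zero, ← F.map_comp_assoc, elt_comp, hs]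
    have : π.hom (R.hom d) = 0 := hex.apply_apply_eq_zero d
    rw [this, elt_zero, F'.map_zero, comp_zero]
  have hc := isColimitOfExact R π hπ hex
  have hFc : IsColimit ((CokernelCofork.ofπ π hR).map F) := CokernelCofork.mapIsColimit _ hc F
  obtain ⟨t, ht'⟩ : ∃ t : F.obj M ⟶ F'.obj M, F.map π ≫ t = s :=
    ⟨(CokernelCofork.IsColimit.desc' hFc s hRs).1, (CokernelCofork.IsColimit.desc' hFc s hRs).2⟩
  refine ⟨t, fun x => ?_⟩
  obtain ⟨c, rfl⟩ := hπ x
  rw [← elt_comp, F.map_comp, Category.assoc, ht', hs, elt_comp]

include hφ in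
lemma exists_nat : ∃ t : F ⟶ F', t.app (one A) = φ := by
  choose t ht using exists_good F F' φ hφ
  refine ⟨{ app := t, naturality := fun M N g => ?_ }, ?_⟩
  · apply jointly_epi F M
    intro x
    rw [← F.map_comp_assoc, elt_comp, ht, ← Category.assoc, ht, Category.assoc, ← F'.map_comp,
      elt_comp]
  · have h := ht (one A) (1 : A)
    rw [elt_one, F.map_id, F'.map_id, Category.id_comp, Category.comp_id] at h
    exact h

end Exists


/-- Full faithfulness of the functor F ↦ (F(A), induced A-action): let A be a commutative ring, B an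
additive category with cokernels, and F, F' right exact functors from the category of finitely
presented A-modules to B. Then two natural transformations F ⟶ F' with the same component at A are
equal, and a morphism φ : F(A) ⟶ F'(A) is the component at A of a natural transformation as soon as
it commutes with F and F' applied to multiplication by every a ∈ A. -/
theorem result
    (A : Type u) [CommRing A] {B : Type u'} [Category.{v'} B] [Preadditive B] [HasFiniteBiproducts B]
    [HasCokernels B] (F F' : (ObjectProperty.FullSubcategory (fun M : ModuleCat.{u} A => Module.FinitePresentation A M)) ⥤ B)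
    [PreservesFiniteColimits F] [PreservesFiniteColimits F'] :
    (∀ t t' : F ⟶ F', t.app (⟨ModuleCat.of A A, inferInstance⟩ : (ObjectProperty.FullSubcategory (fun M : ModuleCat.{u} A => Module.FinitePresentation A M))) = t'.app (⟨ModuleCat.of A A, inferInstance⟩ : (ObjectProperty.FullSubcategory (fun M : ModuleCat.{u} A => Module.FinitePresentation A M))) → t = t') ∧
    ∀ φ : F.obj (⟨ModuleCat.of A A, inferInstance⟩ : (ObjectProperty.FullSubcategory (fun M : ModuleCat.{u} A => Module.FinitePresentation A M))) ⟶ F'.obj (⟨ModuleCat.of A A, inferInstance⟩ : (ObjectProperty.FullSubcategory (fun M : ModuleCat.{u} A => Module.FinitePresentation A M))),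
      (∀ a : A, F.map (ObjectProperty.homMk (ModuleCat.ofHom (LinearMap.lsmul A A a)) : (⟨ModuleCat.of A A, inferInstance⟩ : (ObjectProperty.FullSubcategory (fun M : ModuleCat.{u} A => Module.FinitePresentation A M))) ⟶ (⟨ModuleCat.of A A, inferInstance⟩ : (ObjectProperty.FullSubcategory (fun M : ModuleCat.{u} A => Module.FinitePresentation A M)))) ≫ φ = φ ≫ F'.map (ObjectProperty.homMk (ModuleCat.ofHom (LinearMap.lsmul A A a)) : (⟨ModuleCat.of A A, inferInstance⟩ : (ObjectProperty.FullSubcategory (fun M : ModuleCat.{u} A => Module.FinitePresentation A M))) ⟶ (⟨ModuleCat.of A A, inferInstance⟩ : (ObjectProperty.FullSubcategory (fun M : ModuleCat.{u} A => Module.FinitePresentation A M))))) →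
      ∃ t : F ⟶ F', t.app (⟨ModuleCat.of A A, inferInstance⟩ : (ObjectProperty.FullSubcategory (fun M : ModuleCat.{u} A => Module.FinitePresentation A M))) = φ := by
  refine ⟨fun t t' h => nat_ext F F' t t' h, fun φ hφ => ?_⟩
  exact exists_nat F F' φ hφ

end Groth.Agent.S6726
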