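import Groth.Statements.S6727
import Groth.Agent.Lib.Helper19IndExtJ

set_option autoImplicit false
universe u v' u'
open CategoryTheory CategoryTheory.Limits
open FunMor

namespace Groth.Agent.S6727

/-- Let A be a coherent commutative ring (every finitely generated ideal of A is a finitely presented
A-module) and B an additive category with kernels and filtered colimits in which filtered colimits
commute with kernels (equivalently with equalizers). Let F' be a functor from A-modules to B
commuting with filtered colimits whose restriction to the full subcategory of finitely presented
A-modules is left exact. Then F' is additive and left exact, and it preserves all small direct sums. -/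
theorem result
    (A : Type u) [CommRing A] (hcoh : ∀ I : Ideal A, I.FG → Module.FinitePresentation A I)
    {B : Type u'} [Category.{v'} B] [Preadditive B] [HasFiniteBiproducts B]
    [HasKernels B] [HasFilteredColimitsOfSize.{u, u} B]
    (hcomm : ∀ (J : Type u) [SmallCategory J] [IsFiltered J],
      PreservesLimitsOfShape WalkingParallelPair (colim : (J ⥤ B) ⥤ B))
    (F' : ModuleCat.{u} A ⥤ B) [PreservesFilteredColimitsOfSize.{u, u} F']
    [PreservesFiniteLimits (ObjectProperty.ι (fun M : ModuleCat.{u} A => Module.FinitePresentation A M) ⋙ F')] :
    F'.Additive ∧ PreservesFiniteLimits F' ∧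
      ∀ J : Type u, PreservesColimitsOfShape (Discrete J) F' := by
  open Groth.Agent.Lib.Helper19.IndExt in
  haveI hres : (incl A ⋙ F').Additive := additive_of_preservesFiniteLimits (incl A ⋙ F')
  haveI hadd : F'.Additive := additive_of_restrict F'
  haveI hker : ∀ {X Y : ModuleCat.{u} A} (f : X ⟶ Y), PreservesLimit (parallelPair f 0) F' :=
    fun f => preservesKernel_of_coherent hcoh F' hcomm f
  refine ⟨hadd, Functor.preservesFiniteLimits_of_preservesKernels F', fun J => ?_⟩
  exact preservesColimitsOfShape_discrete_of_finite_filtered.{u} F' J

end Groth.Agent.S6727
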