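import Groth.Statements.S6731
import Mathlib

set_option autoImplicit false
universe w v u
open CategoryTheory
open DEquiv

namespace Groth.Agent.S6731

open CategoryTheory.Limits CategoryTheory.Pretriangulated

section serre
variable {k : Type w} [Field k]
  {T : Type u} [Category.{v} T] [Preadditive T] [Linear k T]
  (F : T ⥤ T)
  (c : ∀ X Y : T, (X ⟶ Y) ≃ₗ[k] Module.Dual k (Y ⟶ F.obj X))

/-- the trace form -/
noncomputable def tr (X : T) : Module.Dual k (X ⟶ F.obj X) := c X X (𝟙 X)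

variable (hc₁ : ∀ (X Y Y' : T) (f : X ⟶ Y) (g : Y ⟶ Y'),
      c X Y' (f ≫ g) = (c X Y f) ∘ₗ Linear.leftComp k (F.obj X) g)
  (hc₂ : ∀ (X' X Y : T) (a : X' ⟶ X) (f : X ⟶ Y),
      c X' Y (a ≫ f) = (c X Y f) ∘ₗ Linear.rightComp k Y (F.map a))

include hc₁ in
lemma F1 {X Y : T} (f : X ⟶ Y) (h : Y ⟶ F.obj X) : c X Y f h = tr F c X (f ≫ h) := by
  have := LinearMap.congr_fun (hc₁ X X Y (𝟙 X) f) h
  rw [Category.id_comp] at this
  rw [this]
  rfl

include hc₁ hc₂ in
lemma F2 {X' X Y : T} (a : X' ⟶ X) (f : X ⟶ Y) (h : Y ⟶ F.obj X') :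
    tr F c X' (a ≫ f ≫ h) = tr F c X (f ≫ h ≫ F.map a) := by
  have := LinearMap.congr_fun (hc₂ X' X Y a f) h
  rw [F1 F c hc₁, Category.assoc] at this
  rw [this]
  change c X Y f (h ≫ F.map a) = _
  rw [F1 F c hc₁]

include hc₁ in
/-- nondegeneracy -/
lemma U [∀ X Y : T, Module.Finite k (X ⟶ Y)] {X Z : T} (ψ₁ ψ₂ : Z ⟶ F.obj X)
    (h : ∀ g : X ⟶ Z, tr F c X (g ≫ ψ₁) = tr F c X (g ≫ ψ₂)) : ψ₁ = ψ₂ := by
  rw [← sub_eq_zero, ← Module.forall_dual_apply_eq_zero_iff k]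
  intro ξ
  obtain ⟨g, rfl⟩ := (c X Z).surjective ξ
  rw [map_sub, F1 F c hc₁, F1 F c hc₁, h g, sub_self]

end serre

section compare
variable {k : Type w} [Field k]
  {T : Type u} [Category.{v} T] [Preadditive T] [Linear k T]
  [∀ X Y : T, Module.Finite k (X ⟶ Y)]
  (F : T ⥤ T)
  (c : ∀ X Y : T, (X ⟶ Y) ≃ₗ[k] Module.Dual k (Y ⟶ F.obj X))
  (F' : T ⥤ T)
  (c' : ∀ X Y : T, (X ⟶ Y) ≃ₗ[k] Module.Dual k (Y ⟶ F'.obj X))

/-- the comparison map -/
noncomputable def phi (X : T) : F.obj X ⟶ F'.obj X :=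
  (Module.evalEquiv k (F.obj X ⟶ F'.obj X)).symm
    ((tr F c X) ∘ₗ (c' X (F.obj X)).symm.toLinearMap)

variable (hc'₁ : ∀ (X Y Y' : T) (f : X ⟶ Y) (g : Y ⟶ Y'),
      c' X Y' (f ≫ g) = (c' X Y f) ∘ₗ Linear.leftComp k (F'.obj X) g)

include hc'₁ in
lemma phi_spec (X : T) (g : X ⟶ F.obj X) :
    tr F' c' X (g ≫ phi F c F' c' X) = tr F c X g := by
  rw [← F1 F' c' hc'₁]
  unfold phi
  rw [Module.apply_evalEquiv_symm_apply]
  simp

end compare


open CategoryTheory.Limits CategoryTheory.Pretriangulated in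
/-- Let k be a field and T a k-linear triangulated category with dim_k Hom(X, Y) < ∞ for all X, Y. Let
(S, c) and (S', c') be Serre functors: k-linear equivalences T ⥤ T with k-linear isomorphisms
c_{X,Y} : Hom(X, Y) ≅ Hom(Y, S X)^∨ natural in X and Y (likewise c'). Then there is a unique
isomorphism of functors φ : S ≅ S' compatible with c and c', i.e. c_{X,Y}(f) is c'_{X,Y}(f) composed
with postcomposition by φ_X. -/
theorem result
    {k : Type w} [Field k]
    {T : Type u} [Category.{v} T] [Preadditive T] [Linear k T] [HasZeroObject T] [HasShift T ℤ]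
    [∀ n : ℤ, (shiftFunctor T n).Additive] [∀ n : ℤ, (shiftFunctor T n).Linear k] [Pretriangulated T]
    [IsTriangulated T] [∀ X Y : T, Module.Finite k (X ⟶ Y)]
    (S : T ≌ T) [S.functor.Additive] [S.functor.Linear k]
    (c : ∀ X Y : T, (X ⟶ Y) ≃ₗ[k] Module.Dual k (Y ⟶ S.functor.obj X))
    (hc₁ : ∀ (X Y Y' : T) (f : X ⟶ Y) (g : Y ⟶ Y'),
      c X Y' (f ≫ g) = (c X Y f) ∘ₗ Linear.leftComp k (S.functor.obj X) g)
    (hc₂ : ∀ (X' X Y : T) (a : X' ⟶ X) (f : X ⟶ Y),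
      c X' Y (a ≫ f) = (c X Y f) ∘ₗ Linear.rightComp k Y (S.functor.map a))
    (S' : T ≌ T) [S'.functor.Additive] [S'.functor.Linear k]
    (c' : ∀ X Y : T, (X ⟶ Y) ≃ₗ[k] Module.Dual k (Y ⟶ S'.functor.obj X))
    (hc'₁ : ∀ (X Y Y' : T) (f : X ⟶ Y) (g : Y ⟶ Y'),
      c' X Y' (f ≫ g) = (c' X Y f) ∘ₗ Linear.leftComp k (S'.functor.obj X) g)
    (hc'₂ : ∀ (X' X Y : T) (a : X' ⟶ X) (f : X ⟶ Y),
      c' X' Y (a ≫ f) = (c' X Y f) ∘ₗ Linear.rightComp k Y (S'.functor.map a)) :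
    ∃! φ : S.functor ≅ S'.functor, ∀ (X Y : T) (f : X ⟶ Y),
      c X Y f = (c' X Y f) ∘ₗ Linear.rightComp k Y (φ.hom.app X) := by
  have P : ∀ (X : T) (g : X ⟶ S.functor.obj X), tr S'.functor c' X (g ≫ phi S.functor c S'.functor c' X) = tr S.functor c X g :=
    phi_spec S.functor c S'.functor c' hc'₁
  have P' : ∀ (X : T) (g : X ⟶ S'.functor.obj X), tr S.functor c X (g ≫ phi S'.functor c' S.functor c X) = tr S'.functor c' X g :=
    phi_spec S'.functor c' S.functor c hc₁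
  have hinv1 : ∀ X, phi S.functor c S'.functor c' X ≫ phi S'.functor c' S.functor c X = 𝟙 _ := by
    intro X
    apply U S.functor c hc₁
    intro g
    rw [← Category.assoc, P', P, Category.comp_id]
  have hinv2 : ∀ X, phi S'.functor c' S.functor c X ≫ phi S.functor c S'.functor c' X = 𝟙 _ := by
    intro X
    apply U S'.functor c' hc'₁
    intro g
    rw [← Category.assoc, P, P', Category.comp_id]
  have hnat : ∀ {X' X : T} (a : X' ⟶ X),
      S.functor.map a ≫ phi S.functor c S'.functor c' X = phi S.functor c S'.functor c' X' ≫ S'.functor.map a := by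
    intro X' X a
    apply U S'.functor c' hc'₁
    intro h
    rw [← Category.assoc, P, ← F2 S'.functor c' hc'₁ hc'₂, ← Category.assoc, P]
    have := F2 S.functor c hc₁ hc₂ a h (𝟙 _)
    rw [Category.comp_id, Category.id_comp] at this
    exact this.symm
  let φ : S.functor ≅ S'.functor := NatIso.ofComponents
    (fun X => ⟨phi S.functor c S'.functor c' X, phi S'.functor c' S.functor c X, hinv1 X, hinv2 X⟩)
    (fun a => hnat a)
  refine ⟨φ, ?_, ?_⟩
  · intro X Y f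
    ext h
    change c X Y f h = c' X Y f (h ≫ phi S.functor c S'.functor c' X)
    rw [F1 S.functor c hc₁, F1 S'.functor c' hc'₁, ← Category.assoc, P]
  · intro φ₂ hφ₂
    apply Iso.ext
    ext X
    change φ₂.hom.app X = phi S.functor c S'.functor c' X
    apply U S'.functor c' hc'₁
    intro h
    rw [P]
    have := LinearMap.congr_fun (hφ₂ X X (𝟙 X)) h
    change c X X (𝟙 X) h = c' X X (𝟙 X) (h ≫ φ₂.hom.app X) at this
    exact this.symm

end Groth.Agent.S6731
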