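import Groth.Statements.S6769
import Mathlib
import Groth.Agent.Lib.Helper16EW
-- import your own Groth.Agent.* helpers here

set_option autoImplicit false
set_option linter.style.haveILetI false
set_option linter.unusedSectionVars false
universe u
open CategoryTheory CategoryTheory.Limits TensorProduct
open scoped ModuleCat.Algebra
open FunMor

namespace Groth.Agent.S6769
open Groth.Agent.Lib.Helper16.EW

variable {A B : Type u} [CommRing A] [CommRing B]
  (F F' : ModuleCat.{u} A ⥤ ModuleCat.{u} B) [F.Additive] [F'.Additive]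

/-- a `B`-linear map `F(A) → F'(A)` commuting with the `A`-actions, as an `A`-linear map. -/
noncomputable def φA (φ : F.obj (ModuleCat.of A A) ⟶ F'.obj (ModuleCat.of A A))
    (hφ : ∀ a : A, F.map (a • 𝟙 (ModuleCat.of A A)) ≫ φ = φ ≫ F'.map (a • 𝟙 (ModuleCat.of A A))) :
    K F →ₗ[A] K F' where
  toFun y := φ.hom y
  map_add' y y' := map_add φ.hom y y'
  map_smul' a y := by
    change φ.hom ((F.map (a • 𝟙 (ModuleCat.of A A))).hom y) =
      (F'.map (a • 𝟙 (ModuleCat.of A A))).hom (φ.hom y)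
    exact ConcreteCategory.congr_hom (hφ a) y

/-- `φ ⊗ id` as a `B`-linear map. -/
noncomputable def φM (φ : F.obj (ModuleCat.of A A) ⟶ F'.obj (ModuleCat.of A A))
    (hφ : ∀ a : A, F.map (a • 𝟙 (ModuleCat.of A A)) ≫ φ = φ ≫ F'.map (a • 𝟙 (ModuleCat.of A A)))
    (M : ModuleCat.{u} A) : K F ⊗[A] M →ₗ[B] K F' ⊗[A] M where
  toFun := LinearMap.rTensor M (φA F F' φ hφ)
  map_add' := map_add _
  map_smul' b z := by
    induction z using TensorProduct.induction_on with
    | zero => simp
    | tmul y x =>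
      rw [TensorProduct.smul_tmul', LinearMap.rTensor_tmul, LinearMap.rTensor_tmul,
        RingHom.id_apply, TensorProduct.smul_tmul']
      congr 1
      exact map_smul φ.hom b y
    | add z z' hz hz' =>
      rw [smul_add, map_add, map_add, hz, hz', smul_add]

lemma φM_tmul (φ : F.obj (ModuleCat.of A A) ⟶ F'.obj (ModuleCat.of A A))
    (hφ : ∀ a : A, F.map (a • 𝟙 (ModuleCat.of A A)) ≫ φ = φ ≫ F'.map (a • 𝟙 (ModuleCat.of A A)))
    (M : ModuleCat.{u} A) (y : K F) (x : M) :
    φM F F' φ hφ M (y ⊗ₜ x) = (φA F F' φ hφ y) ⊗ₜ x := rfl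

lemma φM_lTensor (φ : F.obj (ModuleCat.of A A) ⟶ F'.obj (ModuleCat.of A A))
    (hφ : ∀ a : A, F.map (a • 𝟙 (ModuleCat.of A A)) ≫ φ = φ ≫ F'.map (a • 𝟙 (ModuleCat.of A A)))
    {M N : ModuleCat.{u} A} (f : M ⟶ N) (z : K F ⊗[A] M) :
    φM F F' φ hφ N (LinearMap.lTensor (K F) f.hom z) =
      LinearMap.lTensor (K F') f.hom (φM F F' φ hφ M z) := by
  induction z using TensorProduct.induction_on with
  | zero => simp
  | tmul y x => rfl
  | add z z' hz hz' => simp only [map_add, hz, hz']

lemma θ_one : θ (1 : (ModuleCat.of A A : ModuleCat.{u} A)) = 𝟙 (ModuleCat.of A A) := by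
  ext
  simp

lemma tLin_tmul_one (y : K F) : tLin F (ModuleCat.of A A) (y ⊗ₜ (1 : A)) = y := by
  rw [tLin_tmul]
  have := θ_one (A := A)
  rw [this, F.map_id]
  rfl

lemma ext_of_app_A (t t' : F ⟶ F') (h : t.app (ModuleCat.of A A) = t'.app (ModuleCat.of A A))
    (M : ModuleCat.{u} A) (z : K F ⊗[A] M) :
    (t.app M).hom (tLin F M z) = (t'.app M).hom (tLin F M z) := by
  induction z using TensorProduct.induction_on with
  | zero => simp
  | tmul y x =>
    rw [tLin_tmul]
    have n1 := ConcreteCategory.congr_hom (t.naturality (θ x)) y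
    have n2 := ConcreteCategory.congr_hom (t'.naturality (θ x)) y
    have e1 : (t.app M).hom ((F.map (θ x)).hom y) =
        (F'.map (θ x)).hom ((t.app (ModuleCat.of A A)).hom y) := n1
    have e2 : (t'.app M).hom ((F.map (θ x)).hom y) =
        (F'.map (θ x)).hom ((t'.app (ModuleCat.of A A)).hom y) := n2
    rw [e1, e2, h]
  | add z z' hz hz' => simp only [map_add, hz, hz']

section

variable [∀ J : Type u, PreservesColimitsOfShape (Discrete J) F] [PreservesFiniteColimits F]

/-- the component at `M` of the natural transformation induced by `φ`. -/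
noncomputable def tApp (φ : F.obj (ModuleCat.of A A) ⟶ F'.obj (ModuleCat.of A A))
    (hφ : ∀ a : A, F.map (a • 𝟙 (ModuleCat.of A A)) ≫ φ = φ ≫ F'.map (a • 𝟙 (ModuleCat.of A A)))
    (M : ModuleCat.{u} A) : F.obj M ⟶ F'.obj M :=
  ModuleCat.ofHom ((tLin F' M) ∘ₗ (φM F F' φ hφ M) ∘ₗ (η F M).symm.toLinearMap)

lemma tApp_η (φ : F.obj (ModuleCat.of A A) ⟶ F'.obj (ModuleCat.of A A))
    (hφ : ∀ a : A, F.map (a • 𝟙 (ModuleCat.of A A)) ≫ φ = φ ≫ F'.map (a • 𝟙 (ModuleCat.of A A)))
    (M : ModuleCat.{u} A) (z : K F ⊗[A] M) :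
    (tApp F F' φ hφ M).hom (tLin F M z) = tLin F' M (φM F F' φ hφ M z) := by
  change tLin F' M (φM F F' φ hφ M ((η F M).symm (η F M z))) = _
  rw [LinearEquiv.symm_apply_apply]

noncomputable def tNat (φ : F.obj (ModuleCat.of A A) ⟶ F'.obj (ModuleCat.of A A))
    (hφ : ∀ a : A, F.map (a • 𝟙 (ModuleCat.of A A)) ≫ φ = φ ≫ F'.map (a • 𝟙 (ModuleCat.of A A))) :
    F ⟶ F' where
  app M := tApp F F' φ hφ M
  naturality M N f := by
    refine ModuleCat.hom_ext (LinearMap.ext fun w => ?_)
    obtain ⟨z, rfl⟩ := tLin_surjective F M w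
    change (tApp F F' φ hφ N).hom ((F.map f).hom (tLin F M z)) =
      (F'.map f).hom ((tApp F F' φ hφ M).hom (tLin F M z))
    rw [tLin_nat, tApp_η, tApp_η, φM_lTensor, tLin_nat]

lemma tNat_app_A (φ : F.obj (ModuleCat.of A A) ⟶ F'.obj (ModuleCat.of A A))
    (hφ : ∀ a : A, F.map (a • 𝟙 (ModuleCat.of A A)) ≫ φ = φ ≫ F'.map (a • 𝟙 (ModuleCat.of A A))) :
    (tNat F F' φ hφ).app (ModuleCat.of A A) = φ := by
  refine ModuleCat.hom_ext (LinearMap.ext fun (y : K F) => ?_)
  change (tApp F F' φ hφ (ModuleCat.of A A)).hom y = φ.hom y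
  have hy : y = tLin F (ModuleCat.of A A) (y ⊗ₜ (1 : A)) := (tLin_tmul_one F y).symm
  rw [hy, tApp_η, φM_tmul, tLin_tmul_one, tLin_tmul_one]
  rfl

end


/-- Let R be a commutative ring and A, B commutative R-algebras; Mod_A and Mod_B are R-linear
categories. Suppose F, F' : Mod_A ⥤ Mod_B are R-linear functors, each of which preserves finite
colimits (so is right exact) and also preserves direct sums indexed by any set. Then: (i) there is
an A ⊗_R B-module K — a module over A and over B with commuting actions on which the two R-actions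
agree — and B-linear isomorphisms K ⊗_A M ≅ F(M) natural in the A-module M; (ii) a natural
transformation F ⟶ F' is determined by its component at A, and a B-linear map φ : F(A) ⟶ F'(A) is
the component at A of some natural transformation F ⟶ F' if and only if it commutes with the
A-actions, i.e. F(a · id_A) ≫ φ = φ ≫ F'(a · id_A) for all a ∈ A. (Together: K ↦ (- ⊗_A K) is an
equivalence from Mod_{A ⊗_R B} onto the category of such functors.) -/
theorem result
    (R : Type u) [CommRing R] (A B : Type u) [CommRing A] [CommRing B] [Algebra R A] [Algebra R B]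
    (F F' : ModuleCat.{u} A ⥤ ModuleCat.{u} B) [F.Additive] [F.Linear R] [F'.Additive] [F'.Linear R]
    [PreservesFiniteColimits F] [∀ J : Type u, PreservesColimitsOfShape (Discrete J) F]
    [PreservesFiniteColimits F'] [∀ J : Type u, PreservesColimitsOfShape (Discrete J) F'] :
    (∃ (K : Type u) (_ : AddCommGroup K) (_ : Module A K) (_ : Module B K) (_ : SMulCommClass A B K),
      (∀ (r : R) (x : K), algebraMap R A r • x = algebraMap R B r • x) ∧
      ∃ η : ∀ M : ModuleCat.{u} A, (K ⊗[A] M) ≃ₗ[B] F.obj M,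
        ∀ (M N : ModuleCat.{u} A) (f : M ⟶ N) (x : K ⊗[A] M),
          η N (LinearMap.lTensor K f.hom x) = F.map f (η M x)) ∧
    (∀ t t' : F ⟶ F', t.app (ModuleCat.of A A) = t'.app (ModuleCat.of A A) → t = t') ∧
    (∀ φ : F.obj (ModuleCat.of A A) ⟶ F'.obj (ModuleCat.of A A),
      (∃ t : F ⟶ F', t.app (ModuleCat.of A A) = φ) ↔
        ∀ a : A, F.map (a • 𝟙 (ModuleCat.of A A)) ≫ φ = φ ≫ F'.map (a • 𝟙 (ModuleCat.of A A))) := by
  refine ⟨?_, ?_, ?_⟩
  · refine ⟨Groth.Agent.Lib.Helper16.EW.K F, inferInstance, inferInstance, inferInstance,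
      inferInstance, ?_, fun M => η F M, fun M N f x => η_nat F f x⟩
    intro r x
    rw [Groth.Agent.Lib.Helper16.EW.smul_def]
    have h2 := F.map_smul r (𝟙 (ModuleCat.of A A))
    rw [F.map_id] at h2
    have h1 : F.map ((algebraMap R A r) • 𝟙 (ModuleCat.of A A)) =
        r • 𝟙 (F.obj (ModuleCat.of A A)) := by
      rw [← h2]
      congr 1
    have h3 := ConcreteCategory.congr_hom h1 x
    exact h3
  · intro t t' h
    ext M w
    obtain ⟨z, rfl⟩ := tLin_surjective F M w
    exact ext_of_app_A F F' t t' h M z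
  · intro φ
    constructor
    · rintro ⟨t, rfl⟩ a
      exact t.naturality (a • 𝟙 (ModuleCat.of A A))
    · intro hφ
      exact ⟨tNat F F' φ hφ, tNat_app_A F F' φ hφ⟩

end Groth.Agent.S6769
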