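import Groth.Statements.S6776
import Mathlib.CategoryTheory.Abelian.CommSq
-- import your own Groth.Agent.* helpers here

set_option autoImplicit false
open CategoryTheory CategoryTheory.Limits
universe v u
open CategoryTheory CategoryTheory.Abelian

namespace Groth.Agent.S6776

/-- In an abelian category a cocartesian square whose left arrow `g` is a monomorphism is also
cartesian, and the arrow `h` opposite to `g` is a monomorphism. -/
theorem result {A : Type u} [Category.{v} A] [Abelian A] {w x y z : A} (f : w ⟶ y) (g : w ⟶ x) (h : y ⟶ z) (k : x ⟶ z) (sq : IsPushout f g h k) [Mono g] : IsPullback f g h k ∧ Mono h := by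
  have hh : Mono h := Abelian.mono_inl_of_isColimit f g sq.isColimit
  refine ⟨?_, hh⟩
  have hex := sq.exact_shortComplex
  have hmono : Mono sq.shortComplex.f := by
    have : Mono (biprod.lift f (-g) ≫ biprod.snd) := by
      rw [biprod.lift_snd]; infer_instance
    exact mono_of_mono (biprod.lift f (-g)) biprod.snd
  have hz : ∀ s : PullbackCone h k, biprod.lift s.fst (-s.snd) ≫ sq.shortComplex.g = 0 := by
    intro s
    have := s.condition
    change biprod.lift s.fst (-s.snd) ≫ biprod.desc h k = 0
    rw [biprod.lift_desc, Preadditive.neg_comp, this, add_neg_cancel]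
  have key : ∀ s : PullbackCone h k, ∃ l : s.pt ⟶ w, l ≫ f = s.fst ∧ l ≫ g = s.snd := by
    intro s
    obtain ⟨l, hl⟩ := hex.lift' (biprod.lift s.fst (-s.snd)) (hz s)
    let l' : s.pt ⟶ w := l
    have h0 : l' ≫ biprod.lift f (-g) = biprod.lift s.fst (-s.snd) := hl
    have h1 := h0 =≫ biprod.fst
    have h2 := h0 =≫ biprod.snd
    rw [Category.assoc, biprod.lift_fst, biprod.lift_fst] at h1
    rw [Category.assoc, biprod.lift_snd, biprod.lift_snd, Preadditive.comp_neg, neg_inj] at h2
    exact ⟨l', h1, h2⟩
  choose l hl₁ hl₂ using key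
  refine ⟨sq.toCommSq, ⟨PullbackCone.IsLimit.mk _ l hl₁ hl₂ ?_⟩⟩
  intro s m hm₁ hm₂
  rw [← cancel_mono g, hm₂]
  exact (hl₂ s).symm

end Groth.Agent.S6776
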