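import Groth.Statements.S6786
import Groth.Agent.Lib.Helper10ML

set_option autoImplicit false
open CategoryTheory CategoryTheory.Limits
universe u
open HomAlg3

namespace Groth.Agent.S6786

/-- For a sequence `(A_i) ⟶ (B_i) ⟶ (C_i) ⟶ (D_i)` of inverse systems of abelian groups over `ℕ` that is
exact levelwise at the two middle places, if `(A_i)` is Mittag-Leffler then `lim B_i ⟶ lim C_i ⟶ lim
D_i` is exact. -/
theorem result {A B C D : ℕᵒᵖ ⥤ AddCommGrpCat.{u}} (a : A ⟶ B) (b : B ⟶ C) (c : C ⟶ D) (hB : ∀ i, (b.app i).hom.ker = (a.app i).hom.range) (hC : ∀ i, (c.app i).hom.ker = (b.app i).hom.range) (hA : (A ⋙ forget AddCommGrpCat).IsMittagLeffler) : (limMap c).hom.ker = (limMap b).hom.range := by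
  have hcof : ∃ s : Set ℕ, s.Countable ∧ ∀ i, ∃ j ∈ s, i ≤ j :=
    ⟨Set.univ, Set.countable_univ, fun i => ⟨i, trivial, le_rfl⟩⟩
  have hmemB : ∀ (i : ℕᵒᵖ) (x : B.obj i), (b.app i) x = 0 ↔ ∃ z : A.obj i, a.app i z = x := by
    intro i x
    have := hB i
    constructor
    · intro hx
      have hx' : x ∈ (b.app i).hom.ker := hx
      rw [this] at hx'
      exact hx'
    · rintro ⟨z, rfl⟩
      have hz : (a.app i) z ∈ (a.app i).hom.range := ⟨z, rfl⟩
      rw [← this] at hz
      exact hz
  have hmemC : ∀ (i : ℕᵒᵖ) (x : C.obj i), (c.app i) x = 0 ↔ ∃ z : B.obj i, b.app i z = x := by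
    intro i x
    have := hC i
    constructor
    · intro hx
      have hx' : x ∈ (c.app i).hom.ker := hx
      rw [this] at hx'
      exact hx'
    · rintro ⟨z, rfl⟩
      have hz : (b.app i) z ∈ (b.app i).hom.range := ⟨z, rfl⟩
      rw [← this] at hz
      exact hz
  ext x
  constructor
  · intro hx
    have hx0 : limMap c x = 0 := hx
    have hxj : ∀ j, c.app j (limit.π C j x) = 0 := by
      intro j
      rw [← Groth.Agent.Lib.Helper10.limMap_π_apply, hx0, map_zero]
    obtain ⟨s, hs⟩ := Groth.Agent.Lib.Helper10.exists_section_of_torsor hcof a hA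
      (fun i => {y : B.obj i | b.app i y = limit.π C i x})
      (by
        intro i j f y hy
        change b.app j (B.map f y) = limit.π C j x
        have h1 : b.app j (B.map f y) = C.map f (b.app i y) := NatTrans.naturality_apply b f y
        have hy' : b.app i y = limit.π C i x := hy
        rw [h1, hy', ← limit.w C f]
        rfl)
      (by
        intro i
        obtain ⟨y, hy⟩ := (hmemC i _).1 (hxj i)
        exact ⟨y, hy⟩)
      (by
        intro i y y' hy hy'
        have h1 : b.app i y = limit.π C i x := hy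
        have h2 : b.app i y' = limit.π C i x := hy'
        apply (hmemB i (y - y')).1
        rw [map_sub, h1, h2, sub_self])
      (by
        intro i y z hy
        have h1 : b.app i y = limit.π C i x := hy
        change b.app i (y + a.app i z) = limit.π C i x
        rw [map_add, h1, (hmemB i (a.app i z)).2 ⟨z, rfl⟩, add_zero])
    refine ⟨(Groth.Agent.Lib.Helper10.limitEquivSections B).symm s, ?_⟩
    apply Groth.Agent.Lib.Helper10.limit_ext'
    intro j
    change limit.π C j (limMap b _) = _
    rw [Groth.Agent.Lib.Helper10.limMap_π_apply,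
      Groth.Agent.Lib.Helper10.limitEquivSections_symm_apply]
    exact hs j
  · rintro ⟨y, rfl⟩
    change limMap c (limMap b y) = 0
    apply Groth.Agent.Lib.Helper10.limit_ext'
    intro j
    rw [Groth.Agent.Lib.Helper10.limMap_π_apply, Groth.Agent.Lib.Helper10.limMap_π_apply, map_zero]
    exact (hmemC j _).2 ⟨_, rfl⟩

end Groth.Agent.S6786
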