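import Groth.Statements.S6787
import Groth.Agent.Lib.Helper10ML

set_option autoImplicit false
open CategoryTheory CategoryTheory.Limits
universe u
open HomAlg3

namespace Groth.Agent.S6787

/-- Take inverse systems `(A_i)`, `(B_i)`, `(C_i)` of abelian groups over `ℕ`, with morphisms of systems
`(A_i) ⟶ (B_i) ⟶ (C_i)` that give a short exact sequence at every index, and suppose `(C_i)` is
essentially constant. Then `(A_i)` is Mittag-Leffler if and only if `(B_i)` is. -/
theorem result {A B C : ℕᵒᵖ ⥤ AddCommGrpCat.{u}} (a : A ⟶ B) (b : B ⟶ C) (ha : ∀ i, Function.Injective (a.app i).hom) (hb : ∀ i, Function.Surjective (b.app i).hom) (hex : ∀ i, (b.app i).hom.ker = (a.app i).hom.range) (hC : ∃ (C₀ : AddCommGrpCat.{u}) (c : (Functor.const ℕᵒᵖ).obj C₀ ⟶ C), DerCA.IsEssConstant C C₀ c) : (A ⋙ forget AddCommGrpCat).IsMittagLeffler ↔ (B ⋙ forget AddCommGrpCat).IsMittagLeffler := by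
  obtain ⟨C₀, c, i, s, hcs, hk⟩ := hC
  have hcs' : ∀ w : C₀, s (c.app (Opposite.op i) w) = w := fun w => congrArg (fun φ => φ w) hcs
  -- cone naturality, elementwise
  have hcone : ∀ {n m : ℕ} (h : n ≤ m) (w : C₀),
      C.map (homOfLE h).op (c.app (Opposite.op m) w) = c.app (Opposite.op n) w := by
    intro n m h w
    have := NatTrans.naturality_apply c (homOfLE h).op w
    exact this.symm
  have hk' : ∀ j : ℕ, ∃ (k : ℕ) (hi : i ≤ k) (hj : j ≤ k), ∀ x : C.obj (Opposite.op k),
      C.map (homOfLE hj).op x = c.app (Opposite.op j) (s (C.map (homOfLE hi).op x)) := by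
    intro j
    obtain ⟨k, hi, hj, h⟩ := hk j
    exact ⟨k, hi, hj, fun x => congrArg (fun φ => φ x) h⟩
  have hmem : ∀ (j : ℕᵒᵖ) (x : B.obj j), (b.app j) x = 0 → ∃ z : A.obj j, a.app j z = x := by
    intro j x hx
    have := hex j
    have hx' : x ∈ (b.app j).hom.ker := hx
    rw [this] at hx'
    exact hx'
  have hzero : ∀ (j : ℕᵒᵖ) (z : A.obj j), b.app j (a.app j z) = 0 := by
    intro j z
    have hz : (a.app j) z ∈ (a.app j).hom.range := ⟨z, rfl⟩
    rw [← hex j] at hz
    exact hz
  constructor
  · intro hA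
    -- `C` is Mittag-Leffler
    have hCML : (C ⋙ forget AddCommGrpCat).IsMittagLeffler := by
      rw [Groth.Agent.Lib.Helper10.isMittagLeffler_nat_iff]
      intro n
      obtain ⟨k, hi, hj, h⟩ := hk' n
      refine ⟨k, hj, fun l hl x => ?_⟩
      refine ⟨c.app (Opposite.op l) (s (C.map (homOfLE hi).op x)), ?_⟩
      rw [hcone, h]
    exact Groth.Agent.Lib.Helper10.isMittagLeffler_of_extension a b hb hex hA hCML
  · intro hB
    rw [Groth.Agent.Lib.Helper10.isMittagLeffler_nat_iff] at hB ⊢
    intro n
    obtain ⟨m, hjm, hm⟩ := hB (max n i)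
    have hnj : n ≤ max n i := le_max_left _ _
    have hij : i ≤ max n i := le_max_right _ _
    refine ⟨m, hnj.trans hjm, fun l hl x => ?_⟩
    obtain ⟨l', hil', hll', hl'⟩ := hk' l
    obtain ⟨z, hz⟩ := hm l' (hl.trans hll') (a.app _ x)
    -- restrict `z` to level `l`
    let bl : B.obj (Opposite.op l) := B.map (homOfLE hll').op z
    let w : C₀ := s (C.map (homOfLE hil').op (b.app _ z))
    have hbl : b.app _ bl = c.app (Opposite.op l) w := by
      have e1 : b.app (Opposite.op l) (B.map (homOfLE hll').op z) =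
          C.map (homOfLE hll').op (b.app _ z) := NatTrans.naturality_apply b _ z
      change b.app (Opposite.op l) (B.map (homOfLE hll').op z) = _
      rw [e1, hl']
    have hjl : max n i ≤ l := hjm.trans hl
    have hblj : B.map (homOfLE hjl).op bl = a.app _ (A.map (homOfLE hjm).op x) := by
      change B.map (homOfLE hjl).op (B.map (homOfLE hll').op z) = _
      rw [← Groth.Agent.Lib.Helper10.map_homOfLE_trans_apply B hjl hll' z, hz]
      exact (NatTrans.naturality_apply a (homOfLE hjm).op x).symm
    have hw0 : c.app (Opposite.op (max n i)) w = 0 := by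
      rw [← hcone hjl w, ← hbl]
      have e2 : C.map (homOfLE hjl).op (b.app _ bl) = b.app _ (B.map (homOfLE hjl).op bl) :=
        (NatTrans.naturality_apply b (homOfLE hjl).op bl).symm
      rw [e2, hblj, hzero]
    have hw : w = 0 := by
      have e3 := hcone hij w
      rw [hw0, map_zero] at e3
      have := hcs' w
      rw [← e3, map_zero] at this
      exact this.symm
    have hbl0 : b.app _ bl = 0 := by rw [hbl, hw, map_zero]
    obtain ⟨y, hy⟩ := hmem _ bl hbl0
    refine ⟨y, ?_⟩
    have e4 : a.app _ (A.map (homOfLE hjl).op y) = a.app _ (A.map (homOfLE hjm).op x) := by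
      have : a.app _ (A.map (homOfLE hjl).op y) = B.map (homOfLE hjl).op (a.app _ y) :=
        NatTrans.naturality_apply a (homOfLE hjl).op y
      rw [this, hy, hblj]
    have e5 : A.map (homOfLE hjl).op y = A.map (homOfLE hjm).op x := ha _ e4
    rw [Groth.Agent.Lib.Helper10.map_homOfLE_trans_apply A hnj hjl y,
      Groth.Agent.Lib.Helper10.map_homOfLE_trans_apply A hnj hjm x, e5]

end Groth.Agent.S6787
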