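import Groth.Statements.S6790
import Mathlib

set_option autoImplicit false
open CategoryTheory CategoryTheory.Limits MonoidalCategory
universe v u
open CategoryTheory CategoryTheory.Monoidal

namespace Groth.Agent.S6790
open ExactPairing

/-- Exact pairing on a retract. -/
@[instance_reducible]
noncomputable def exactPairingOfRetract {A : Type u} [Category.{v} A] [MonoidalCategory A]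
    {X X₁ Y₁ : A} [HasRightDual X]
    (i : X₁ ⟶ X) (p : X ⟶ X₁) (hip : i ≫ p = 𝟙 X₁)
    (j : Y₁ ⟶ Xᘁ) (q : Xᘁ ⟶ Y₁) (hjq : j ≫ q = 𝟙 Y₁) (hqj : q ≫ j = (p ≫ i)ᘁ) :
    ExactPairing X₁ Y₁ where
  coevaluation' := η_ X Xᘁ ≫ p ▷ Xᘁ ≫ X₁ ◁ q
  evaluation' := j ▷ X₁ ≫ Xᘁ ◁ i ≫ ε_ X Xᘁ
  evaluation_coevaluation' := by
    calc
      _ = η_ X Xᘁ ▷ X₁ ⊗≫ p ▷ Xᘁ ▷ X₁ ⊗≫ X₁ ◁ ((q ≫ j) ▷ X₁ ≫ Xᘁ ◁ i ≫ ε_ X Xᘁ) := by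
        monoidal
      _ = η_ X Xᘁ ▷ X₁ ⊗≫ p ▷ Xᘁ ▷ X₁ ⊗≫ X₁ ◁ (Xᘁ ◁ i ≫ ε_ X Xᘁ) := by
        rw [hqj, ← whisker_exchange_assoc, rightAdjointMate_comp_evaluation,
          ← whiskerLeft_comp_assoc, reassoc_of% hip]
      _ = η_ X Xᘁ ▷ X₁ ⊗≫ (p ▷ (Xᘁ ⊗ X₁) ≫ X₁ ◁ (Xᘁ ◁ i)) ⊗≫ X₁ ◁ ε_ X Xᘁ := by
        monoidal
      _ = 𝟙 _ ⊗≫ (η_ X Xᘁ ▷ X₁ ≫ (X ⊗ Xᘁ) ◁ i) ⊗≫ (p ▷ (Xᘁ ⊗ X) ≫ X₁ ◁ ε_ X Xᘁ) ⊗≫ 𝟙 _ := by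
        rw [← whisker_exchange]; monoidal
      _ = 𝟙 _ ⊗≫ i ⊗≫ (η_ X Xᘁ ▷ X ⊗≫ X ◁ ε_ X Xᘁ) ⊗≫ p ⊗≫ 𝟙 _ := by
        rw [← whisker_exchange, ← whisker_exchange]; monoidal
      _ = 𝟙 _ ⊗≫ (i ≫ p) ⊗≫ 𝟙 _ := by
        rw [evaluation_coevaluation'']; monoidal
      _ = (λ_ X₁).hom ≫ (ρ_ X₁).inv := by
        rw [hip]; monoidal
  coevaluation_evaluation' := by
    calc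
      _ = Y₁ ◁ η_ X Xᘁ ⊗≫ Y₁ ◁ (p ▷ Xᘁ) ⊗≫ Y₁ ◁ (X₁ ◁ q) ⊗≫ (j ▷ X₁ ≫ Xᘁ ◁ i) ▷ Y₁
            ⊗≫ ε_ X Xᘁ ▷ Y₁ := by
        monoidal
      _ = Y₁ ◁ η_ X Xᘁ ⊗≫ Y₁ ◁ (p ▷ Xᘁ) ⊗≫ Y₁ ◁ (X₁ ◁ q ≫ i ▷ Y₁) ⊗≫ j ▷ X ▷ Y₁
            ⊗≫ ε_ X Xᘁ ▷ Y₁ := by
        rw [← whisker_exchange]; monoidal
      _ = Y₁ ◁ η_ X Xᘁ ⊗≫ Y₁ ◁ ((p ≫ i) ▷ Xᘁ) ⊗≫ (Y₁ ◁ (X ◁ q) ≫ j ▷ (X ⊗ Y₁))
            ⊗≫ ε_ X Xᘁ ▷ Y₁ := by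
        rw [whisker_exchange]; monoidal
      _ = Y₁ ◁ η_ X Xᘁ ⊗≫ (Y₁ ◁ ((p ≫ i) ▷ Xᘁ) ≫ j ▷ (X ⊗ Xᘁ)) ⊗≫
            ((Xᘁ ⊗ X) ◁ q ≫ ε_ X Xᘁ ▷ Y₁) := by
        rw [whisker_exchange]; monoidal
      _ = (Y₁ ◁ η_ X Xᘁ ≫ j ▷ (X ⊗ Xᘁ)) ⊗≫ Xᘁ ◁ ((p ≫ i) ▷ Xᘁ) ⊗≫
            ε_ X Xᘁ ▷ Xᘁ ⊗≫ q ⊗≫ 𝟙 _ := by
        rw [whisker_exchange, whisker_exchange]; monoidal
      _ = 𝟙 _ ⊗≫ (j ≫ ((p ≫ i)ᘁ) ≫ q) ⊗≫ 𝟙 _ := by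
        rw [whisker_exchange]; dsimp only [rightAdjointMate]; monoidal
      _ = (ρ_ Y₁).hom ≫ (λ_ Y₁).inv := by
        rw [← hqj, Category.assoc, hjq, Category.comp_id, hjq]; monoidal


/-- In an idempotent-complete additive monoidal category, a direct summand of an object admitting a dual
(with coevaluation `𝟙_ A ⟶ X ⊗ Y` and evaluation `Y ⊗ X ⟶ 𝟙_ A`) again admits such a dual. -/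
theorem result {A : Type u} [Category.{v} A] [Preadditive A] [HasFiniteBiproducts A] [MonoidalCategory A] [MonoidalPreadditive A] [IsIdempotentComplete A] {X X₁ : A} (i : X₁ ⟶ X) (p : X ⟶ X₁) (hip : i ≫ p = 𝟙 X₁) [HasRightDual X] : Nonempty (HasRightDual X₁) := by
  have hidem : (p ≫ i)ᘁ ≫ (p ≫ i)ᘁ = (p ≫ i)ᘁ := by
    rw [← comp_rightAdjointMate]
    congr 1
    rw [Category.assoc, reassoc_of% hip]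
  obtain ⟨Y₁, j, q, hjq, hqj⟩ := IsIdempotentComplete.idempotents_split _ _ hidem
  exact ⟨{ rightDual := Y₁, exact := exactPairingOfRetract i p hip j q hjq hqj }⟩

end Groth.Agent.S6790
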