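import Groth.Statements.S6791
import Mathlib
-- import your own Groth.Agent.* helpers here

set_option autoImplicit false
open CategoryTheory CategoryTheory.Limits
universe v u v' u' v'' u''
open CategoryTheory CategoryTheory.SerreClass

namespace Groth.Agent.S6791

/-- For an exact functor `F : A ⥤ B` of abelian categories and a Serre class `P` of `A` killed by `F`,
with `L : A ⥤ Q` a model of the quotient `A/P` and `Fbar : Q ⥤ B` the induced functor, `P` is
exactly the kernel of `F` if and only if `Fbar` is faithful. -/
theorem result {A : Type u} [Category.{v} A] [Abelian A] {B : Type u'} [Category.{v'} B] [Abelian B] (F : A ⥤ B) [F.Additive] [PreservesFiniteLimits F] [PreservesFiniteColimits F] (P : ObjectProperty A) [P.IsSerreClass] (hP : ∀ X : A, P X → IsZero (F.obj X)) {Q : Type u''} [Category.{v''} Q] [Abelian Q] (L : A ⥤ Q) [L.IsLocalization P.isoModSerre] [L.Additive] [PreservesFiniteLimits L] [PreservesFiniteColimits L] (Fbar : Q ⥤ B) (e : L ⋙ Fbar ≅ F) : (∀ X : A, IsZero (F.obj X) → P X) ↔ Fbar.Faithful := by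
  constructor
  · intro hker
    haveI : (L ⋙ Fbar).Additive := Functor.additive_of_iso e.symm
    haveI : Fbar.Additive := (Localization.functor_additive_iff L P.isoModSerre Fbar).mpr inferInstance
    -- key: maps killed by Fbar between objects in the image of L vanish
    have key : ∀ (X Y : A) (χ : L.obj X ⟶ L.obj Y), Fbar.map χ = 0 → χ = 0 := by
      intro X Y χ hχ
      obtain ⟨φ, hφ⟩ := Localization.exists_leftFraction L P.isoModSerre χ
      have h1 : χ ≫ L.map φ.s = L.map φ.f := by
        rw [hφ]
        exact φ.map_comp_map_s L (Localization.inverts L P.isoModSerre)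
      have h2 : (L ⋙ Fbar).map φ.f = 0 := by
        change Fbar.map (L.map φ.f) = 0
        rw [← h1, Fbar.map_comp, hχ, zero_comp]
      have h3 : F.map φ.f = 0 := by
        have := e.hom.naturality φ.f
        rw [h2, zero_comp] at this
        have h4 : e.hom.app X ≫ F.map φ.f = 0 := this.symm
        rw [← cancel_epi (e.hom.app X), h4, comp_zero]
      have h5 : IsZero (F.obj (Abelian.image φ.f)) := by
        have hfac : Abelian.factorThruImage φ.f ≫ Abelian.image.ι φ.f = φ.f :=
          Abelian.image.fac φ.f
        have h6 : F.map (Abelian.factorThruImage φ.f) ≫ F.map (Abelian.image.ι φ.f) = 0 := by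
          rw [← F.map_comp, hfac, h3]
        have h7 : F.map (Abelian.image.ι φ.f) = 0 := by
          rw [← cancel_epi (F.map (Abelian.factorThruImage φ.f)), h6, comp_zero]
        exact IsZero.of_mono_eq_zero _ h7
      have h8 : L.map φ.f = 0 :=
        (ObjectProperty.SerreClassLocalization.map_eq_zero_iff L P φ.f).mpr (hker _ h5)
      haveI : IsIso (L.map φ.s) := Localization.inverts L P.isoModSerre φ.s φ.hs
      rw [← cancel_mono (L.map φ.s), h1, h8, zero_comp]
    haveI : L.EssSurj := Localization.essSurj L P.isoModSerre
    refine ⟨fun {x y} a b hab => ?_⟩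
    rw [← sub_eq_zero]
    have hab' : Fbar.map (a - b) = 0 := by rw [Functor.map_sub, hab, sub_self]
    have := key _ _ ((L.objObjPreimageIso x).hom ≫ (a - b) ≫ (L.objObjPreimageIso y).inv)
      (by rw [Fbar.map_comp, Fbar.map_comp, hab', zero_comp, comp_zero])
    rw [← cancel_epi (L.objObjPreimageIso x).hom, ← cancel_mono (L.objObjPreimageIso y).inv,
      Category.assoc, this, comp_zero, zero_comp]
  · intro hfaith X hX
    rw [← ObjectProperty.SerreClassLocalization.isZero_obj_iff L P X]
    have h1 : IsZero (Fbar.obj (L.obj X)) := hX.of_iso (e.app X)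
    rw [IsZero.iff_id_eq_zero]
    apply Fbar.map_injective
    exact h1.eq_of_src _ _

end Groth.Agent.S6791
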