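import Groth.Statements.S6794
import Mathlib
import Groth.Agent.Lib.Helper11FilCxElt
import Groth.Agent.Lib.Helper10SpSeq

set_option autoImplicit false
open CategoryTheory CategoryTheory.Limits
universe v u
open SpSeq SpSeq.FilCx

namespace Groth.Agent.S6794


/-- If the cohomology of the filtration steps of a filtered complex vanishes in each degree for large
filtration index and maps isomorphically to the cohomology of the whole complex for small filtration
index, then the spectral sequence is bounded from page `1` on, the induced filtrations on cohomology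
are finite, and the spectral sequence converges. (The published statement asserts boundedness
without naming a page, which read from page `0` fails for an acyclic complex with an infinite
filtration by acyclic subcomplexes; this row asserts boundedness from page `1`, which is what the
published proof shows.) -/
theorem result {A : Type u} [Category.{v} A] [Abelian A] (K : SpSeq.FilCx A) (h0 : ∀ n : ℤ, ∃ p₀ : ℤ, ∀ p : ℤ, p₀ ≤ p → IsZero ((K.fil p : CochainComplex A ℤ).homology n)) (h1 : ∀ n : ℤ, ∃ p₁ : ℤ, ∀ p : ℤ, p ≤ p₁ → IsIso (HomologicalComplex.homologyMap (K.fil p).arrow n)) : K.IsBounded 1 ∧ (∀ n : ℤ, (K.HFil n).IsFinite) ∧ K.Converges := by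
  -- finiteness of the induced filtrations
  have hfin : ∀ n : ℤ, (K.HFil n).IsFinite := by
    intro n
    obtain ⟨p₀, hp₀⟩ := h0 n
    obtain ⟨p₁, hp₁⟩ := h1 n
    refine ⟨⟨p₁, ?_⟩, ⟨p₀, ?_⟩⟩
    · change K.filH p₁ n = ⊤
      unfold SpSeq.FilCx.filH
      haveI := hp₁ p₁ le_rfl
      haveI : IsIso (imageSubobject (HomologicalComplex.homologyMap (K.fil p₁).arrow n)).arrow := by
        haveI : Epi (factorThruImageSubobject (HomologicalComplex.homologyMap (K.fil p₁).arrow n) ≫
            (imageSubobject (HomologicalComplex.homologyMap (K.fil p₁).arrow n)).arrow) := by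
          rw [imageSubobject_arrow_comp]; infer_instance
        haveI : Epi (imageSubobject (HomologicalComplex.homologyMap (K.fil p₁).arrow n)).arrow :=
          epi_of_epi (factorThruImageSubobject _) _
        exact isIso_of_mono_of_epi _
      exact Subobject.eq_top_of_isIso_arrow _
    · change K.filH p₀ n = ⊥
      unfold SpSeq.FilCx.filH
      have : HomologicalComplex.homologyMap (K.fil p₀).arrow n = 0 :=
        (hp₀ p₀ le_rfl).eq_of_src _ _
      exact le_bot_iff.mp (imageSubobject_le _ 0 (by rw [zero_comp, this]))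
  -- regularity
  have hZ : ∀ p n : ℤ, ∃ r₀ : ℕ, ∀ r, r₀ ≤ r → K.ZSub r p n = K.ZTop p n := by
    intro p n
    obtain ⟨p₀, hp₀⟩ := h0 (n + 1)
    refine ⟨max 1 (p₀ - p).toNat, fun r hr => ?_⟩
    have hr1 : 1 ≤ r := le_trans (le_max_left _ _) hr
    have hr2 : (p₀ - p).toNat ≤ r := le_trans (le_max_right _ _) hr
    have hr3 : p₀ ≤ p + r := by
      have := Int.self_le_toNat (p₀ - p)
      have : (((p₀ - p).toNat : ℕ) : ℤ) ≤ (r : ℤ) := by exact_mod_cast hr2
      omega
    exact le_antisymm
      (Groth.Agent.Lib.Helper11.FilCxElt.ZSub_le_ZTop K r p n hr1 (hp₀ _ hr3))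
      (Groth.Agent.Lib.Helper11.FilCxElt.ZTop_le_ZSub K r p n)
  have hB : ∀ p n : ℤ, ∃ r₀ : ℕ, ∀ r, r₀ ≤ r → K.BSub r p n = K.BBot p n := by
    intro p n
    obtain ⟨p₁, hp₁⟩ := h1 n
    refine ⟨max 1 (p + 1 - p₁).toNat, fun r hr => ?_⟩
    have hr1 : 1 ≤ r := le_trans (le_max_left _ _) hr
    have hr2 : (p + 1 - p₁).toNat ≤ r := le_trans (le_max_right _ _) hr
    have hr3 : p - r + 1 ≤ p₁ := by
      have := Int.self_le_toNat (p + 1 - p₁)
      have : (((p + 1 - p₁).toNat : ℕ) : ℤ) ≤ (r : ℤ) := by exact_mod_cast hr2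
      omega
    haveI := hp₁ _ hr3
    exact le_antisymm
      (Groth.Agent.Lib.Helper11.FilCxElt.BSub_le_BBot K r p n)
      (Groth.Agent.Lib.Helper11.FilCxElt.BBot_le_BSub K r p n hr1 inferInstance)
  refine ⟨?_, hfin, ?_, ⟨?_, fun n => ⟨?_, ?_⟩⟩, fun n => ?_⟩
  · -- bounded from page 1
    intro n
    obtain ⟨a0, ha0⟩ := h0 n
    obtain ⟨a1, ha1⟩ := h0 (n + 1)
    obtain ⟨b0, hb0⟩ := h1 n
    obtain ⟨b1, hb1⟩ := h1 (n + 1)
    refine Set.Finite.subset (Set.finite_Icc (min b0 b1 - 1) (max a0 a1)) ?_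
    intro p hp
    change ¬ IsZero (K.E 1 p n) at hp
    by_contra hcon
    apply hp
    unfold SpSeq.FilCx.E
    refine Groth.Agent.Lib.Helper10.SpSeqLib.isZero_subquot_of_eq _ _ _
      (le_antisymm (K.BSub_le_ZSub 1 p n) ?_)
    simp only [Set.mem_Icc, not_and_or, not_le] at hcon
    rcases hcon with hlt | hgt
    · -- p small
      have h1' : p + 1 ≤ b0 := by
        have := min_le_left b0 b1
        omega
      have h2' : p + 1 ≤ b1 := by
        have := min_le_right b0 b1
        omega
      haveI := hb0 (p + 1) h1'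
      haveI := hb1 (p + 1) h2'
      haveI := hb0 p (by omega)
      exact Groth.Agent.Lib.Helper11.FilCxElt.ZSub_one_le_BSub_one_of_iso K p n
        inferInstance inferInstance inferInstance
    · -- p large
      have h1' : a0 ≤ p := le_trans (le_max_left a0 a1) hgt.le
      have h2' : a1 ≤ p + 1 := by
        have := le_max_right a0 a1
        omega
      exact Groth.Agent.Lib.Helper11.FilCxElt.ZSub_one_le_BSub_one_of_isZero K p n
        (ha1 _ h2') (ha0 _ h1')
  · -- regular
    intro p n
    obtain ⟨r₀, hr₀⟩ := hZ p n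
    exact ⟨r₀, fun r hr => by rw [hr₀ r hr, hr₀ r₀ le_rfl]⟩
  · -- weakly converges
    intro p n
    constructor
    · obtain ⟨r₀, hr₀⟩ := hZ p n
      refine ⟨?_, fun S hS => ?_⟩
      · rintro _ ⟨r, rfl⟩
        exact Groth.Agent.Lib.Helper11.FilCxElt.ZTop_le_ZSub K r p n
      · rw [← hr₀ r₀ le_rfl]
        exact hS ⟨r₀, rfl⟩
    · obtain ⟨r₀, hr₀⟩ := hB p n
      refine ⟨?_, fun S hS => ?_⟩
      · rintro _ ⟨r, rfl⟩
        exact Groth.Agent.Lib.Helper11.FilCxElt.BSub_le_BBot K r p n
      · rw [← hr₀ r₀ le_rfl]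
        exact hS ⟨r₀, rfl⟩
  · exact Groth.Agent.Lib.Helper10.SpSeqLib.isSeparated_of_isFinite _ (hfin n)
  · exact Groth.Agent.Lib.Helper10.SpSeqLib.isExhaustive_of_isFinite _ (hfin n)
  · exact Groth.Agent.Lib.Helper10.SpSeqLib.isComplete_of_isDiscrete _ (hfin n).2

end Groth.Agent.S6794
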