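import Groth.Statements.S6801
import Groth.Agent.Lib.Helper10ImSub
-- import your own Groth.Agent.* helpers here

set_option autoImplicit false
open CategoryTheory
universe v u
open SpSeq SpSeq.FilObj

namespace Groth.Agent.S6801

/-- The composite of two strict morphisms of filtered objects is strict when the second one is a
monomorphism. (In general a composite of strict morphisms is not strict.) -/
theorem result {A : Type u} [Category.{v} A] [Abelian A] {K L M : SpSeq.FilObj A} (f : K ⟶ L) (g : L ⟶ M) (hf : SpSeq.FilObj.IsStrict f) (hg : SpSeq.FilObj.IsStrict g) [Mono g.hom] : SpSeq.FilObj.IsStrict (f ≫ g) := by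
  intro p
  have e1 : (f ≫ g).hom = f.hom ≫ g.hom := rfl
  have h1 : Limits.imageSubobject ((K.fil p).arrow ≫ f.hom ≫ g.hom) =
      (Subobject.map g.hom).obj (Limits.imageSubobject ((K.fil p).arrow ≫ f.hom)) := by
    rw [← Category.assoc]
    exact Groth.Agent.Lib.Helper10.ImSub.imageSubobject_comp_mono _ _
  have h2 : (Subobject.map g.hom).obj (L.fil p) = Limits.imageSubobject g.hom ⊓ M.fil p := by
    rw [← Groth.Agent.Lib.Helper10.ImSub.imageSubobject_arrow_comp_mono]
    exact hg p
  have h3 : (Subobject.map g.hom).obj (Limits.imageSubobject f.hom) = Limits.imageSubobject (f.hom ≫ g.hom) :=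
    (Groth.Agent.Lib.Helper10.ImSub.imageSubobject_comp_mono _ _).symm
  have h4 : Limits.imageSubobject (f.hom ≫ g.hom) ≤ Limits.imageSubobject g.hom := Limits.imageSubobject_comp_le _ _
  change Limits.imageSubobject ((K.fil p).arrow ≫ f.hom ≫ g.hom) =
    Limits.imageSubobject (f.hom ≫ g.hom) ⊓ M.fil p
  rw [h1, hf p, Subobject.inf_map, h2, h3, ← inf_assoc, inf_eq_left.mpr h4]

end Groth.Agent.S6801
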