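import Groth.Statements.S6805
import Mathlib
-- import your own Groth.Agent.* helpers here

set_option autoImplicit false
set_option linter.style.haveILetI false
set_option linter.unusedSectionVars false
open CategoryTheory
universe u
open SSet

namespace Groth.Agent.S6805
open Opposite CategoryTheory.Limits


/-- The simplicial set freely generated by an `m`-truncated simplicial set (its image under the left
adjoint of `m`-truncation) has only degenerate simplices above dimension `m`. -/
theorem result (m : ℕ) (U : SSet.Truncated.{u} m) : ((SSet.Truncated.sk m).obj U).HasDimensionLT (m + 1) := by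
  set L := (SimplexCategory.Truncated.inclusion m).op with hL
  have hpt : (Functor.LeftExtension.mk (L.leftKanExtension U) (L.leftKanExtensionUnit U)).IsPointwiseLeftKanExtension :=
    Functor.isPointwiseLeftKanExtensionOfIsLeftKanExtension _ _
  constructor
  intro n hn
  ext x
  simp only [Set.top_eq_univ, Set.mem_univ, iff_true]
  obtain ⟨j, y, hy⟩ := Types.jointly_surjective_of_isColimit (hpt (op (SimplexCategory.mk n))) x
  refine ⟨(unop j.left).obj.len, ?_, j.hom.unop, ?_⟩
  · have h3 : (unop j.left).obj.len ≤ m := (unop j.left).property
    omega
  · exact ⟨(L.leftKanExtensionUnit U).app j.left y, hy⟩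

end Groth.Agent.S6805
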