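import Groth.Statements.S6806
import Mathlib
-- import your own Groth.Agent.* helpers here

set_option autoImplicit false
set_option linter.style.haveILetI false
set_option linter.unusedSectionVars false
open CategoryTheory CategoryTheory.Limits
universe v u
open CategoryTheory CategoryTheory.Abelian

namespace Groth.Agent.S6806
open Opposite AlgebraicTopology AlgebraicTopology.DoldKan

/-- Objects of the costructured arrow category are finite. -/
instance finite_obj (m : ℕ) (Y : SimplexCategoryᵒᵖ) :
    Finite (CostructuredArrow (SimplexCategory.Truncated.inclusion m).op Y) := by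
  let g : (Σ k : Fin (m + 1), (Y.unop ⟶ SimplexCategory.mk k.1)) →
      CostructuredArrow (SimplexCategory.Truncated.inclusion m).op Y := fun p =>
    CostructuredArrow.mk (Y := op (⟨SimplexCategory.mk p.1.1, by
      simp; omega⟩ : SimplexCategory.Truncated m)) p.2.op
  apply Finite.of_surjective g
  intro a
  obtain ⟨⟨⟨k, hk⟩⟩, ⟨⟨⟩⟩, f⟩ := a
  refine ⟨⟨⟨k.len, ?_⟩, f.unop⟩, ?_⟩
  · have : k.len ≤ m := hk
    omega
  · rfl

instance finite_hom (m : ℕ) (Y : SimplexCategoryᵒᵖ)
    (a b : CostructuredArrow (SimplexCategory.Truncated.inclusion m).op Y) :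
    Finite (a ⟶ b) := by
  let g : (a ⟶ b) → (b.left.unop.obj ⟶ a.left.unop.obj) := fun φ => φ.left.unop.hom
  apply Finite.of_injective g
  intro φ ψ h
  ext
  apply Quiver.Hom.unop_inj
  ext : 1
  exact congrArg SimplexCategory.Hom.toOrderHom h

noncomputable instance finCat (m : ℕ) (Y : SimplexCategoryᵒᵖ) :
    FinCategory (CostructuredArrow (SimplexCategory.Truncated.inclusion m).op Y) where
  fintypeObj := Fintype.ofFinite _
  fintypeHom _ _ := Fintype.ofFinite _


/-- For an `m`-truncated simplicial object `U` of an abelian category, the normalized Moore complex of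
its free extension `i_{m!} U` (left adjoint of truncation) is zero in every degree `n > m`. Here the
normalized complex in degree `n` is the intersection of the kernels of the faces `d_1, …, d_n`; the
published statement intersects the kernels of `d_0, …, d_{n-1}` instead, and the two versions
correspond under reversal of the ordering of each `[n]`, so both vanish. -/
theorem result {A : Type u} [Category.{v} A] [Abelian A] (m : ℕ) [∀ F : (SimplexCategory.Truncated m)ᵒᵖ ⥤ A, (SimplexCategory.Truncated.inclusion m).op.HasLeftKanExtension F] (U : SimplicialObject.Truncated A m) (n : ℕ) (hn : m < n) : AlgebraicTopology.NormalizedMooreComplex.objX ((SimplicialObject.Truncated.sk m).obj U) n = ⊥ := by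
  set L := (SimplexCategory.Truncated.inclusion m).op with hL
  set X : SimplicialObject A := (SimplicialObject.Truncated.sk m).obj U with hX
  have : L.HasPointwiseLeftKanExtension U := fun Y => by
    dsimp [Functor.HasPointwiseLeftKanExtensionAt]
    infer_instance
  have hpt : (Functor.LeftExtension.mk (L.leftKanExtension U) (L.leftKanExtensionUnit U)).IsPointwiseLeftKanExtension :=
    Functor.isPointwiseLeftKanExtensionOfIsLeftKanExtension _ _
  let p : (L.leftKanExtension U).obj (op (SimplexCategory.mk n)) ⟶
      (L.leftKanExtension U).obj (op (SimplexCategory.mk n)) :=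
    (PInfty.f n : X.obj (op (SimplexCategory.mk n)) ⟶ _)
  have hP : p = 0 := by
    refine (hpt (op (SimplexCategory.mk n))).hom_ext' (f := p) (g := 0) ?_
    intro k φ
    have h1 : ¬ Mono φ.unop := by
      intro hmono
      have h2 := SimplexCategory.len_le_of_mono (f := φ.unop)
      have h3 : (unop k).obj.len ≤ m := (unop k).property
      simp at h2
      have h6 : (unop (L.obj k)).len = (unop k).obj.len := rfl
      omega
    have h4 := degeneracy_comp_PInfty X n φ.unop h1
    have h7 : (L.leftKanExtension U).map φ ≫ p = 0 := h4
    show (L.leftKanExtensionUnit U).app k ≫ (L.leftKanExtension U).map φ ≫ p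
      = (L.leftKanExtensionUnit U).app k ≫ (L.leftKanExtension U).map φ ≫ 0
    rw [h7, comp_zero, comp_zero, comp_zero]
  have h5 := congrArg (fun f => f.f n) (inclusionOfMooreComplexMap_comp_PInfty X)
  have h8 : (NormalizedMooreComplex.objX X n).arrow = 0 := by
    have h9 : (NormalizedMooreComplex.objX X n).arrow ≫ PInfty.f n
        = (NormalizedMooreComplex.objX X n).arrow := h5
    have hP' : (PInfty.f n : X.obj (op (SimplexCategory.mk n)) ⟶ _) = 0 := hP
    rw [← h9, hP', comp_zero]
  rw [← Subobject.mk_arrow (NormalizedMooreComplex.objX X n)]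
  exact Subobject.mk_eq_bot_iff_zero.mpr h8

end Groth.Agent.S6806
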