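import Groth.Statements.S6808
-- import your own Groth.Agent.* helpers here

set_option autoImplicit false
open CategoryTheory Opposite
universe u
open SSet

namespace Groth.Agent.S6808

/-- A map of simplicial sets preserving non-degeneracy of simplices and injective on non-degenerate
simplices is injective in every dimension. -/
theorem result {U V : SSet.{u}} (f : U ⟶ V) (ha : ∀ (n : ℕ) (x : U.obj (op (SimplexCategory.mk n))), x ∈ U.nonDegenerate n → f.app (op (SimplexCategory.mk n)) x ∈ V.nonDegenerate n) (hb : ∀ n : ℕ, Set.InjOn (f.app (op (SimplexCategory.mk n))) (U.nonDegenerate n)) (n : ℕ) : Function.Injective (f.app (op (SimplexCategory.mk n))) := by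
  intro x x' hxx'
  obtain ⟨m, σ, hσ, y, rfl⟩ := U.exists_nonDegenerate x
  obtain ⟨m', σ', hσ', y', rfl⟩ := U.exists_nonDegenerate x'
  have e1 : f.app _ (U.map σ.op y.1) = V.map σ.op (f.app _ y.1) :=
    NatTrans.naturality_apply f σ.op y.1
  have e2 : f.app _ (U.map σ'.op y'.1) = V.map σ'.op (f.app _ y'.1) :=
    NatTrans.naturality_apply f σ'.op y'.1
  rw [e1, e2] at hxx'
  let z : V.nonDegenerate m := ⟨f.app _ y.1, ha m y.1 y.2⟩
  let z' : V.nonDegenerate m' := ⟨f.app _ y'.1, ha m' y'.1 y'.2⟩
  have hm : m = m' := V.unique_nonDegenerate_dim (V.map σ.op z.1) σ z rfl σ' z' hxx'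
  subst hm
  have hz : z = z' := V.unique_nonDegenerate_simplex (V.map σ.op z.1) σ z rfl σ' z' hxx'
  have hσσ' : σ = σ' := V.unique_nonDegenerate_map (V.map σ.op z.1) σ z rfl σ' z' hxx'
  have hy : y.1 = y'.1 := hb m y.2 y'.2 (congrArg Subtype.val hz)
  rw [hσσ', hy]

end Groth.Agent.S6808
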