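import Groth.Statements.S6812
import Mathlib
-- import your own Groth.Agent.* helpers here

set_option autoImplicit false
set_option linter.style.haveILetI false
set_option linter.unusedSectionVars false
open CategoryTheory
universe u
open SSet

namespace Groth.Agent.S6812
open Opposite CategoryTheory.Limits Simplicial

variable (n : ℕ) (U : SSet.{u})

/-- the unit, evaluated, with a convenient type. -/
noncomputable def ηk (k : (SimplexCategory.Truncated n)ᵒᵖ) :
    U.obj ((SimplexCategory.Truncated.inclusion n).op.obj k) ⟶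
        ((SimplicialObject.sk (C := Type u) n).obj U).obj ((SimplexCategory.Truncated.inclusion n).op.obj k) :=
  ((SimplicialObject.skAdj (C := Type u) n).unit.app ((SimplicialObject.truncation (C := Type u) n).obj U)).app k

/-- the counit, evaluated, with a convenient type. -/
noncomputable def εc (X : SimplexCategoryᵒᵖ) :
    ((SimplicialObject.sk (C := Type u) n).obj U).obj X ⟶ U.obj X :=
  ((SimplicialObject.skAdj (C := Type u) n).counit.app U).app X

lemma ηk_εc (k : (SimplexCategory.Truncated n)ᵒᵖ) :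
    ηk n U k ≫ εc n U ((SimplexCategory.Truncated.inclusion n).op.obj k) = 𝟙 _ := by
  have h := congrArg (fun t => NatTrans.app t k) ((SimplicialObject.skAdj (C := Type u) n).right_triangle_components U)
  exact h

lemma εc_naturality {X X' : SimplexCategoryᵒᵖ} (φ : X ⟶ X') :
    ((SimplicialObject.sk (C := Type u) n).obj U).map φ ≫ εc n U X' = εc n U X ≫ U.map φ :=
  ((SimplicialObject.skAdj (C := Type u) n).counit.app U).naturality φ

lemma ηk_naturality {k k' : (SimplexCategory.Truncated n)ᵒᵖ} (f : k ⟶ k') :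
    U.map ((SimplexCategory.Truncated.inclusion n).op.map f) ≫ ηk n U k' =
      ηk n U k ≫ ((SimplicialObject.sk (C := Type u) n).obj U).map ((SimplexCategory.Truncated.inclusion n).op.map f) :=
  ((SimplicialObject.skAdj (C := Type u) n).unit.app ((SimplicialObject.truncation (C := Type u) n).obj U)).naturality f

/-- the pointwise left Kan extension structure of the skeleton. -/
noncomputable def hpt : (Functor.LeftExtension.mk ((SimplicialObject.sk (C := Type u) n).obj U)
    ((SimplicialObject.skAdj (C := Type u) n).unit.app ((SimplicialObject.truncation (C := Type u) n).obj U))).IsPointwiseLeftKanExtension :=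
  Functor.isPointwiseLeftKanExtensionOfIsLeftKanExtension _ _

/-- objects of the truncated category. -/
def kk (b : ℕ) (hb : b ≤ n) : (SimplexCategory.Truncated n)ᵒᵖ :=
  op ⟨SimplexCategory.mk b, by simp; omega⟩

/-- the skeleton -/
noncomputable abbrev Y : SSet.{u} := (SimplicialObject.sk (C := Type u) n).obj U

/-- unit as a function -/
noncomputable def ηb (b : ℕ) (hb : b ≤ n) (z : U _⦋b⦌) : (Y n U) _⦋b⦌ :=
  ηk n U (kk n b hb) z

/-- counit as a function -/
noncomputable def εY (m : ℕ) (a : (Y n U) _⦋m⦌) : U _⦋m⦌ :=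
  εc n U (op (SimplexCategory.mk m)) a

lemma εY_map {m b : ℕ} (p : SimplexCategory.mk m ⟶ SimplexCategory.mk b) (a : (Y n U) _⦋b⦌) :
    εY n U m ((Y n U).map p.op a) = U.map p.op (εY n U b a) :=
  ConcreteCategory.congr_hom (εc_naturality n U p.op) a

lemma εY_ηb (b : ℕ) (hb : b ≤ n) (z : U _⦋b⦌) : εY n U b (ηb n U b hb z) = z :=
  ConcreteCategory.congr_hom (ηk_εc n U (kk n b hb)) z

lemma ηb_map {a b : ℕ} (ha : a ≤ n) (hb : b ≤ n) (s : SimplexCategory.mk a ⟶ SimplexCategory.mk b)
    (z : U _⦋b⦌) : ηb n U a ha (U.map s.op z) = (Y n U).map s.op (ηb n U b hb z) :=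
  ConcreteCategory.congr_hom (ηk_naturality n U
    (k := kk n b hb) (k' := kk n a ha) (ObjectProperty.homMk s).op) z

/-- the canonical element associated to `(p, z)`. -/
noncomputable def can {m : ℕ} (b : ℕ) (hb : b ≤ n) (p : SimplexCategory.mk m ⟶ SimplexCategory.mk b)
    (z : U _⦋b⦌) : (Y n U) _⦋m⦌ :=
  (Y n U).map p.op (ηb n U b hb z)

lemma εY_can {m : ℕ} (b : ℕ) (hb : b ≤ n) (p : SimplexCategory.mk m ⟶ SimplexCategory.mk b)
    (z : U _⦋b⦌) : εY n U m (can n U b hb p z) = U.map p.op z := by
  unfold can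
  rw [εY_map, εY_ηb]

lemma exists_leg {m : ℕ} (a : (Y n U) _⦋m⦌) :
    ∃ (b : ℕ) (hb : b ≤ n) (p : SimplexCategory.mk m ⟶ SimplexCategory.mk b)
      (z : U _⦋b⦌), a = can n U b hb p z := by
  obtain ⟨j, y, hy⟩ := Types.jointly_surjective_of_isColimit (hpt n U (op (SimplexCategory.mk m))) a
  refine ⟨(unop j.left).obj.len, (unop j.left).property, j.hom.unop, y, ?_⟩
  exact hy.symm

lemma can_comp {m a b : ℕ} (ha : a ≤ n) (hb : b ≤ n) (q : SimplexCategory.mk m ⟶ SimplexCategory.mk a)
    (s : SimplexCategory.mk a ⟶ SimplexCategory.mk b) (z : U _⦋b⦌) :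
    can n U a ha q (U.map s.op z) = can n U b hb (q ≫ s) z := by
  unfold can
  rw [ηb_map n U ha hb, op_comp, Functor.map_comp_apply]

lemma exists_can {m : ℕ} (a : (Y n U) _⦋m⦌) :
    ∃ (b : ℕ) (hb : b ≤ n) (p : SimplexCategory.mk m ⟶ SimplexCategory.mk b) (_ : Epi p)
      (z : U.nonDegenerate b), a = can n U b hb p z.1 := by
  obtain ⟨b, hb, p, y, rfl⟩ := exists_leg n U a
  have ha' : (image p).len ≤ n := le_trans (SimplexCategory.len_le_of_mono (image.ι p)) hb
  let q : SimplexCategory.mk m ⟶ SimplexCategory.mk (image p).len := factorThruImage p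
  let i : SimplexCategory.mk (image p).len ⟶ SimplexCategory.mk b := image.ι p
  have hqi : q ≫ i = p := image.fac p
  obtain ⟨b', s, hs, z, hz⟩ := U.exists_nonDegenerate (U.map i.op y)
  have hb' : b' ≤ n := le_trans (SimplexCategory.len_le_of_epi s) ha'
  haveI : Epi q := inferInstanceAs (Epi (factorThruImage p))
  refine ⟨b', hb', q ≫ s, inferInstance, z, ?_⟩
  rw [← can_comp n U ha' hb', ← hz, can_comp n U ha' hb, hqi]

lemma can_unique {m b b' : ℕ} (hb : b ≤ n) (hb' : b' ≤ n)
    (p : SimplexCategory.mk m ⟶ SimplexCategory.mk b) [Epi p]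
    (p' : SimplexCategory.mk m ⟶ SimplexCategory.mk b') [Epi p']
    (z : U.nonDegenerate b) (z' : U.nonDegenerate b') (h : U.map p.op z.1 = U.map p'.op z'.1) :
    can n U b hb p z.1 = can n U b' hb' p' z'.1 := by
  have hbb : b = b' := U.unique_nonDegenerate_dim (U.map p.op z.1) p z rfl p' z' h
  subst hbb
  have hz : z = z' := U.unique_nonDegenerate_simplex (U.map p.op z.1) p z rfl p' z' h
  have hp : p = p' := U.unique_nonDegenerate_map (U.map p.op z.1) p z rfl p' z' h
  subst hz hp
  rfl

lemma εY_injective (m : ℕ) : Function.Injective (εY n U m) := by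
  intro a a' h
  obtain ⟨b, hb, p, hp, z, rfl⟩ := exists_can n U a
  obtain ⟨b', hb', p', hp', z', rfl⟩ := exists_can n U a'
  rw [εY_can, εY_can] at h
  exact can_unique n U hb hb' p p' z z' h


/-- For a simplicial set `U`, the counit `i_{n!} sk_n U ⟶ U` of the skeleton adjunction is a
monomorphism whose image is the subcomplex of `U` generated by its simplices of dimension `≤ n`. -/
theorem result (U : SSet.{u}) (n : ℕ) : Mono ((SSet.skAdj n).counit.app U) ∧ SSet.Subcomplex.range ((SSet.skAdj n).counit.app U) = U.skeleton (n + 1) := by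
  constructor
  · rw [NatTrans.mono_iff_mono_app]
    rintro ⟨⟨m⟩⟩
    rw [mono_iff_injective]
    exact εY_injective n U m
  · apply le_antisymm
    · rintro ⟨⟨m⟩⟩ x ⟨a, rfl⟩
      obtain ⟨b, hb, p, y, rfl⟩ := exists_leg n U a
      have h1 : εY n U m (can n U b hb p y) = U.map p.op y := εY_can n U b hb p y
      have h2 : y ∈ (U.skeleton (n + 1)).obj _ := U.mem_skeleton y (by omega)
      have h3 : U.map p.op y ∈ (U.skeleton (n + 1)).obj _ := (U.skeleton (n + 1)).map p.op h2
      rw [← h1] at h3
      exact h3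
    · have h4 : U.skeleton (n + 1) =
          ⨆ (i : Fin (n + 1)) (x : U.nonDegenerate i), SSet.Subcomplex.ofSimplex x.1 := rfl
      rw [h4]
      refine iSup_le fun i => iSup_le fun x => ?_
      rw [SSet.Subcomplex.ofSimplex_le_iff]
      exact ⟨ηb n U i (by omega) x.1, εY_ηb n U i (by omega) x.1⟩

end Groth.Agent.S6812
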