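import Groth.Statements.S6815
import Mathlib.CategoryTheory.Limits.Preserves.Shapes.Products
-- import your own Groth.Agent.* helpers here

set_option autoImplicit false
open CategoryTheory CategoryTheory.Limits
universe w v u
open CategoryTheory CategoryTheory.SimplicialObject

namespace Groth.Agent.S6815

/-- Homotopies between the factors of two product morphisms of simplicial objects assemble to a homotopy
between the products. -/
theorem result {C : Type u} [Category.{v} C] {T : Type w} [HasLimitsOfShape (Discrete T) C] {X Y : T → SimplicialObject C} (a b : ∀ t, X t ⟶ Y t) (h : ∀ t, Nonempty (SimplicialObject.Homotopy (a t) (b t))) : Nonempty (SimplicialObject.Homotopy (Limits.Pi.map a) (Limits.Pi.map b)) := by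
  classical
  let H : ∀ t, SimplicialObject.Homotopy (a t) (b t) := fun t => (h t).some
  -- projections in each degree
  let pX : ∀ (t : T) (n : ℕ), (∏ᶜ X).obj (Opposite.op (SimplexCategory.mk n)) ⟶
      (X t).obj (Opposite.op (SimplexCategory.mk n)) :=
    fun t n => (Pi.π X t).app (Opposite.op (SimplexCategory.mk n))
  let pY : ∀ (t : T) (n : ℕ), (∏ᶜ Y).obj (Opposite.op (SimplexCategory.mk n)) ⟶
      (Y t).obj (Opposite.op (SimplexCategory.mk n)) :=
    fun t n => (Pi.π Y t).app (Opposite.op (SimplexCategory.mk n))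
  have hY : ∀ n : ℕ, IsLimit (Fan.mk ((∏ᶜ Y).obj (Opposite.op (SimplexCategory.mk n)))
      (fun t => pY t n)) := fun n =>
    isLimitFanMkObjOfIsLimit ((evaluation _ _).obj (Opposite.op (SimplexCategory.mk n))) Y
      (Pi.π Y) (productIsProduct Y)
  have hext : ∀ (n : ℕ) {Z : C} (f g : Z ⟶ (∏ᶜ Y).obj (Opposite.op (SimplexCategory.mk n))),
      (∀ t, f ≫ pY t n = g ≫ pY t n) → f = g := fun n Z f g hfg =>
    Fan.IsLimit.hom_ext (hY n) f g hfg
  let hh : ∀ {n : ℕ} (i : Fin (n + 1)), (∏ᶜ X).obj (Opposite.op (SimplexCategory.mk n)) ⟶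
      (∏ᶜ Y).obj (Opposite.op (SimplexCategory.mk (n + 1))) := fun {n} i =>
    Fan.IsLimit.lift (hY (n + 1)) (fun t => pX t n ≫ (H t).h i)
  have hfac : ∀ {n : ℕ} (i : Fin (n + 1)) (t : T), hh i ≫ pY t (n + 1) = pX t n ≫ (H t).h i :=
    fun {n} i t => Fan.IsLimit.fac (hY (n + 1)) _ t
  have hδY : ∀ {n : ℕ} (i : Fin (n + 2)) (t : T),
      (∏ᶜ Y).δ i ≫ pY t n = pY t (n + 1) ≫ (Y t).δ i := fun i t =>
    SimplicialObject.δ_naturality (Pi.π Y t) i
  have hδX : ∀ {n : ℕ} (i : Fin (n + 2)) (t : T),
      (∏ᶜ X).δ i ≫ pX t n = pX t (n + 1) ≫ (X t).δ i := fun i t =>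
    SimplicialObject.δ_naturality (Pi.π X t) i
  have hσY : ∀ {n : ℕ} (i : Fin (n + 1)) (t : T),
      (∏ᶜ Y).σ i ≫ pY t (n + 1) = pY t n ≫ (Y t).σ i := fun i t =>
    SimplicialObject.σ_naturality (Pi.π Y t) i
  have hσX : ∀ {n : ℕ} (i : Fin (n + 1)) (t : T),
      (∏ᶜ X).σ i ≫ pX t (n + 1) = pX t n ≫ (X t).σ i := fun i t =>
    SimplicialObject.σ_naturality (Pi.π X t) i
  have hmapa : ∀ (n : ℕ) (t : T), (Limits.Pi.map a).app (Opposite.op (SimplexCategory.mk n)) ≫ pY t n =
      pX t n ≫ (a t).app _ := by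
    intro n t
    have := congrArg (fun φ => φ.app (Opposite.op (SimplexCategory.mk n))) (Limits.Pi.map_π a t)
    exact this
  have hmapb : ∀ (n : ℕ) (t : T), (Limits.Pi.map b).app (Opposite.op (SimplexCategory.mk n)) ≫ pY t n =
      pX t n ≫ (b t).app _ := by
    intro n t
    have := congrArg (fun φ => φ.app (Opposite.op (SimplexCategory.mk n))) (Limits.Pi.map_π b t)
    exact this
  refine ⟨{ h := hh, h_zero_comp_δ_zero := ?_, h_last_comp_δ_last := ?_,
            h_succ_comp_δ_castSucc_of_lt := ?_, h_succ_comp_δ_castSucc_succ := ?_,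
            h_castSucc_comp_δ_succ_of_lt := ?_, h_comp_σ_castSucc_of_le := ?_,
            h_comp_σ_succ_of_lt := ?_ }⟩
  · intro n
    apply hext
    intro t
    rw [Category.assoc, hδY, reassoc_of% (hfac (0 : Fin (n + 1)) t), (H t).h_zero_comp_δ_zero,
      hmapb]
  · intro n
    apply hext
    intro t
    rw [Category.assoc, hδY, reassoc_of% (hfac (Fin.last n) t), (H t).h_last_comp_δ_last,
      hmapa]
  · intro n i j hij
    apply hext
    intro t
    rw [Category.assoc, hδY, reassoc_of% (hfac j.succ t),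
      (H t).h_succ_comp_δ_castSucc_of_lt i j hij, Category.assoc, hfac, reassoc_of% (hδX i t)]
  · intro n j
    apply hext
    intro t
    rw [Category.assoc, hδY, reassoc_of% (hfac j.succ t), Category.assoc, hδY,
      reassoc_of% (hfac j.castSucc t), (H t).h_succ_comp_δ_castSucc_succ j]
  · intro n i j hji
    apply hext
    intro t
    rw [Category.assoc, hδY, reassoc_of% (hfac j.castSucc t),
      (H t).h_castSucc_comp_δ_succ_of_lt i j hji, Category.assoc, hfac, reassoc_of% (hδX i t)]
  · intro n i j hij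
    apply hext
    intro t
    rw [Category.assoc, hσY, reassoc_of% (hfac j t), (H t).h_comp_σ_castSucc_of_le i j hij,
      Category.assoc, hfac, reassoc_of% (hσX i t)]
  · intro n i j hji
    apply hext
    intro t
    rw [Category.assoc, hσY, reassoc_of% (hfac j t), (H t).h_comp_σ_succ_of_lt i j hji,
      Category.assoc, hfac, reassoc_of% (hσX i t)]

end Groth.Agent.S6815
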