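import Groth.Statements.S6819
import Mathlib
import Groth.Agent.S6806
-- import your own Groth.Agent.* helpers here

set_option autoImplicit false
set_option linter.style.haveILetI false
set_option linter.unusedSectionVars false
open CategoryTheory CategoryTheory.Limits Opposite
universe v u
open CategoryTheory CategoryTheory.Abelian

namespace Groth.Agent.S6819
open AlgebraicTopology AlgebraicTopology.DoldKan

section
variable {A : Type u} [Category.{v} A] [Abelian A]

instance hasPointwise (n : ℕ) (F : (SimplexCategory.Truncated n)ᵒᵖ ⥤ A) :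
    (SimplexCategory.Truncated.inclusion n).op.HasPointwiseLeftKanExtension F := fun Y => by
  dsimp [Functor.HasPointwiseLeftKanExtensionAt]
  infer_instance

/-- a simplicial object whose normalized Moore complex vanishes is zero. -/
lemma isZero_of_objX_eq_bot (Z : SimplicialObject A)
    (h : ∀ j, NormalizedMooreComplex.objX Z j = ⊥) : IsZero Z := by
  have h1 : IsZero ((Abelian.DoldKan.equivalence (A := A)).functor.obj Z) := by
    rw [IsZero.iff_id_eq_zero]
    ext j
    have h2 : (NormalizedMooreComplex.objX Z j).arrow = 0 := by
      rw [h j]; exact Subobject.bot_arrow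
    have h3 : ∀ f g : ((Abelian.DoldKan.equivalence (A := A)).functor.obj Z).X j ⟶
        (NormalizedMooreComplex.objX Z j : A), f = g := by
      intro f g
      rw [← cancel_mono (NormalizedMooreComplex.objX Z j).arrow, h2, comp_zero, comp_zero]
    exact h3 _ _
  have h4 : IsZero ((Abelian.DoldKan.equivalence (A := A)).inverse.obj
      ((Abelian.DoldKan.equivalence (A := A)).functor.obj Z)) :=
    Functor.map_isZero _ h1
  exact IsZero.of_iso h4 ((Abelian.DoldKan.equivalence (A := A)).unitIso.app Z)

end

end Groth.Agent.S6819

namespace Groth.Agent.S6819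
open AlgebraicTopology AlgebraicTopology.DoldKan
section
variable {A : Type u} [Category.{v} A] [Abelian A]

noncomputable instance : Abelian (SimplicialObject A) :=
  inferInstanceAs (Abelian (SimplexCategoryᵒᵖ ⥤ A))

variable (n : ℕ) [∀ F : (SimplexCategory.Truncated n)ᵒᵖ ⥤ A, (SimplexCategory.Truncated.inclusion n).op.HasLeftKanExtension F] (U : SimplicialObject A)

/-- the counit is an isomorphism in degrees `≤ n`. -/
lemma isIso_counit_app (m : ℕ) (hm : m ≤ n) :
    IsIso (((SimplicialObject.skAdj n).counit.app U).app (op (SimplexCategory.mk m))) := by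
  have h1 : IsIso ((SimplicialObject.truncation n).map ((SimplicialObject.skAdj n).counit.app U)) := by
    have tri := (SimplicialObject.skAdj n).right_triangle_components U
    have : IsIso ((SimplicialObject.skAdj n).unit.app ((SimplicialObject.truncation n).obj U)) :=
      inferInstance
    exact IsIso.of_isIso_fac_left tri
  let k : (SimplexCategory.Truncated n)ᵒᵖ := op ⟨SimplexCategory.mk m, by simp; omega⟩
  exact NatIso.isIso_app_of_isIso
    ((SimplicialObject.truncation n).map ((SimplicialObject.skAdj n).counit.app U)) k

/-- the kernel of the counit vanishes -/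
lemma isZero_kernel_counit : IsZero (kernel ((SimplicialObject.skAdj n).counit.app U)) := by
  set ε := (SimplicialObject.skAdj n).counit.app U with hε
  apply isZero_of_objX_eq_bot
  intro j
  have hι : ∀ m, Mono ((kernel.ι ε).app (op (SimplexCategory.mk m))) := fun m => inferInstance
  by_cases hj : j ≤ n
  · -- Z_j = 0
    have := isIso_counit_app n U j hj
    have h1 : (kernel.ι ε).app (op (SimplexCategory.mk j)) ≫ ε.app (op (SimplexCategory.mk j)) = 0 := by
      rw [← NatTrans.comp_app, kernel.condition]; rfl
    have h2 : (kernel.ι ε).app (op (SimplexCategory.mk j)) = 0 := by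
      rw [← cancel_mono (ε.app (op (SimplexCategory.mk j))), h1, zero_comp]
    have h3 : IsZero ((kernel ε).obj (op (SimplexCategory.mk j))) := by
      rw [IsZero.iff_id_eq_zero, ← cancel_mono ((kernel.ι ε).app (op (SimplexCategory.mk j))), h2,
        comp_zero, comp_zero]
    rw [← Subobject.mk_arrow (NormalizedMooreComplex.objX (kernel ε) j)]
    exact Subobject.mk_eq_bot_iff_zero.mpr (h3.eq_of_tgt _ _)
  · have hj' : n < j := by omega
    have hbot := Groth.Agent.S6806.result n ((SimplicialObject.truncation n).obj U) j hj'
    have h1 : (NormalizedMooreComplex.map (kernel.ι ε)).f j ≫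
        (NormalizedMooreComplex.objX ((SimplicialObject.Truncated.sk n).obj
          ((SimplicialObject.truncation n).obj U)) j).arrow =
        (NormalizedMooreComplex.objX (kernel ε) j).arrow ≫
          (kernel.ι ε).app (op (SimplexCategory.mk j)) := by
      simp only [NormalizedMooreComplex.map]
      apply Subobject.factorThru_arrow
    have h2 : (NormalizedMooreComplex.objX ((SimplicialObject.Truncated.sk n).obj
          ((SimplicialObject.truncation n).obj U)) j).arrow = 0 := by
      rw [hbot]; exact Subobject.bot_arrow
    have h3 : (NormalizedMooreComplex.objX (kernel ε) j).arrow = 0 := by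
      rw [← cancel_mono ((kernel.ι ε).app (op (SimplexCategory.mk j))), ← h1, h2, zero_comp]
      exact comp_zero
    rw [← Subobject.mk_arrow (NormalizedMooreComplex.objX (kernel ε) j)]
    exact Subobject.mk_eq_bot_iff_zero.mpr h3



/-- triangle identity, evaluated. -/
lemma unit_counit_app (k : (SimplexCategory.Truncated n)ᵒᵖ) :
    (show U.obj ((SimplexCategory.Truncated.inclusion n).op.obj k) ⟶
        ((SimplicialObject.sk n).obj U).obj ((SimplexCategory.Truncated.inclusion n).op.obj k) from
      ((SimplicialObject.skAdj n).unit.app ((SimplicialObject.truncation n).obj U)).app k) ≫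
      ((SimplicialObject.skAdj n).counit.app U).app ((SimplexCategory.Truncated.inclusion n).op.obj k)
      = 𝟙 _ := by
  have h := congrArg (fun t => NatTrans.app t k) ((SimplicialObject.skAdj n).right_triangle_components U)
  exact h


/-- the unit, evaluated, with a convenient type. -/
noncomputable def ηk (k : (SimplexCategory.Truncated n)ᵒᵖ) :
    U.obj ((SimplexCategory.Truncated.inclusion n).op.obj k) ⟶
        ((SimplicialObject.sk n).obj U).obj ((SimplexCategory.Truncated.inclusion n).op.obj k) :=
  ((SimplicialObject.skAdj n).unit.app ((SimplicialObject.truncation n).obj U)).app k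

/-- the counit, evaluated, with a convenient type. -/
noncomputable def εc (X : SimplexCategoryᵒᵖ) :
    ((SimplicialObject.sk n).obj U).obj X ⟶ U.obj X :=
  ((SimplicialObject.skAdj n).counit.app U).app X

lemma ηk_εc (k : (SimplexCategory.Truncated n)ᵒᵖ) :
    ηk n U k ≫ εc n U ((SimplexCategory.Truncated.inclusion n).op.obj k) = 𝟙 _ :=
  unit_counit_app n U k

lemma εc_naturality {X X' : SimplexCategoryᵒᵖ} (φ : X ⟶ X') :
    ((SimplicialObject.sk n).obj U).map φ ≫ εc n U X' = εc n U X ≫ U.map φ :=
  ((SimplicialObject.skAdj n).counit.app U).naturality φ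

lemma leg_comp (k : (SimplexCategory.Truncated n)ᵒᵖ) {X : SimplexCategoryᵒᵖ}
    (φ : (SimplexCategory.Truncated.inclusion n).op.obj k ⟶ X) :
    (ηk n U k ≫ ((SimplicialObject.sk n).obj U).map φ) ≫ εc n U X = U.map φ := by
  rw [Category.assoc, εc_naturality, ← Category.assoc, ηk_εc, Category.id_comp]

/-- the pointwise left Kan extension structure of the skeleton. -/
noncomputable def hpt : (Functor.LeftExtension.mk ((SimplicialObject.sk n).obj U)
    ((SimplicialObject.skAdj n).unit.app ((SimplicialObject.truncation n).obj U))).IsPointwiseLeftKanExtension :=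
  Functor.isPointwiseLeftKanExtensionOfIsLeftKanExtension _ _

lemma hom_ext_sk {X : SimplexCategoryᵒᵖ} {T : A} (f g : ((SimplicialObject.sk n).obj U).obj X ⟶ T)
    (h : ∀ (k : (SimplexCategory.Truncated n)ᵒᵖ) (φ : (SimplexCategory.Truncated.inclusion n).op.obj k ⟶ X),
      (ηk n U k ≫ ((SimplicialObject.sk n).obj U).map φ) ≫ f =
      (ηk n U k ≫ ((SimplicialObject.sk n).obj U).map φ) ≫ g) : f = g := by
  refine (hpt n U X).hom_ext' ?_
  intro k φ
  have := h k φ
  simp only [Category.assoc] at this
  exact this

end


/-- For a simplicial object `U` of an abelian category, the counit `i_{n!} sk_n U ⟶ U` of the skeleton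
adjunction is a monomorphism in each degree, with image the subobject generated by the images of the
maps `U_i ⟶ U_m` induced by `[m] ⟶ [i]`, `i ≤ n`. -/
theorem result {A : Type u} [Category.{v} A] [Abelian A] (U : SimplicialObject A) (n : ℕ) (U' : ∀ m : ℕ, Subobject (U.obj (op (SimplexCategory.mk m)))) (hU' : ∀ m : ℕ, IsLUB (Set.range (fun φ : Σ i : Fin (n + 1), (SimplexCategory.mk m ⟶ SimplexCategory.mk i) => imageSubobject (U.map φ.2.op))) (U' m)) [∀ F : (SimplexCategory.Truncated n)ᵒᵖ ⥤ A, (SimplexCategory.Truncated.inclusion n).op.HasLeftKanExtension F] (m : ℕ) : Mono (((SimplicialObject.skAdj n).counit.app U).app (op (SimplexCategory.mk m))) ∧ imageSubobject (((SimplicialObject.skAdj n).counit.app U).app (op (SimplexCategory.mk m))) = U' m := by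
  have hz := isZero_kernel_counit n U
  have hmono : Mono ((SimplicialObject.skAdj n).counit.app U) :=
    Abelian.mono_of_kernel_ι_eq_zero _ (hz.eq_of_src _ _)
  refine ⟨inferInstance, ?_⟩
  refine IsLUB.unique ?_ (hU' m)
  constructor
  · rintro _ ⟨⟨i, φ⟩, rfl⟩
    let k : (SimplexCategory.Truncated n)ᵒᵖ := op ⟨SimplexCategory.mk i, by simp; omega⟩
    have h1 := leg_comp n U k (X := op (SimplexCategory.mk m)) φ.op
    show imageSubobject (U.map φ.op) ≤ imageSubobject (εc n U (op (SimplexCategory.mk m)))
    rw [← h1]
    exact imageSubobject_comp_le _ _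
  · intro T hT
    have hq : εc n U (op (SimplexCategory.mk m)) ≫ cokernel.π T.arrow = 0 := by
      refine hom_ext_sk n U _ _ ?_
      intro k φ
      rw [← Category.assoc, leg_comp, comp_zero]
      have h2 : imageSubobject (U.map φ) ≤ T := by
        apply hT
        refine ⟨⟨⟨(unop k).obj.len, ?_⟩, φ.unop⟩, rfl⟩
        have h3 : (unop k).obj.len ≤ n := (unop k).property
        omega
      rw [← imageSubobject_arrow_comp (U.map φ), ← Subobject.ofLE_arrow h2, Category.assoc,
        Category.assoc, cokernel.condition, comp_zero, comp_zero]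
    exact imageSubobject_le _ (Abelian.monoLift T.arrow _ hq) (Abelian.monoLift_comp _ _ _)

end Groth.Agent.S6819
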