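import Groth.Statements.S6820
-- import your own Groth.Agent.* helpers here

set_option autoImplicit false
universe u
open Smoothing

namespace Groth.Agent.S6820

/-- Let A be a Noetherian ring, M a finite A-module, S a multiplicative subset of A and π an element of
A such that on the localised module S⁻¹M the kernels of multiplication by π and by π² agree. Then
there is an element s of S such that for every n > 0 the kernels of multiplication by sⁿπ and by
(sⁿπ)² on M agree. (Kernel equalities are written as implications, the reverse inclusions being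
automatic.) -/
theorem result {A : Type u} [CommRing A] [IsNoetherianRing A]
    (M : Type u) [AddCommGroup M] [Module A M] [Module.Finite A M] (S : Submonoid A) (π : A)
    (h : ∀ m : LocalizedModule S M, π ^ 2 • m = 0 → π • m = 0) :
    ∃ s ∈ S, ∀ n : ℕ, 0 < n → ∀ m : M, (s ^ n * π) ^ 2 • m = 0 → (s ^ n * π) • m = 0 := by
  classical
  haveI : IsNoetherian A M := isNoetherian_of_isNoetherianRing_of_finite A M
  let T : Submodule A M := LinearMap.ker (LocalizedModule.mkLinearMap S M)
  have hT : ∀ m : M, m ∈ T ↔ ∃ s' : S, s' • m = 0 := by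
    intro m
    rw [LinearMap.mem_ker]
    exact IsLocalizedModule.eq_zero_iff S (LocalizedModule.mkLinearMap S M)
  have hfg : T.FG := IsNoetherian.noetherian T
  obtain ⟨G, hG⟩ := hfg
  have hkill : ∃ s ∈ S, ∀ g ∈ G, s • g = 0 := by
    have hGT : ∀ g ∈ G, g ∈ T := fun g hg => hG ▸ Submodule.subset_span hg
    clear hG
    induction G using Finset.induction_on with
    | empty => exact ⟨1, S.one_mem, by simp⟩
    | insert a G' ha ih =>
      obtain ⟨s, hs, hs'⟩ := ih (fun g hg => hGT g (Finset.mem_insert_of_mem hg))
      obtain ⟨t, ht⟩ := (hT a).1 (hGT a (Finset.mem_insert_self a G'))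
      refine ⟨s * t, S.mul_mem hs t.2, ?_⟩
      intro g hg
      rcases Finset.mem_insert.1 hg with rfl | hg
      · rw [mul_smul]
        have : (t : A) • g = 0 := ht
        rw [this, smul_zero]
      · rw [mul_comm, mul_smul, hs' g hg, smul_zero]
  obtain ⟨s, hs, hsG⟩ := hkill
  have hsT : ∀ m ∈ T, s • m = 0 := by
    intro m hm
    rw [← hG] at hm
    induction hm using Submodule.span_induction with
    | mem x hx => exact hsG x hx
    | zero => simp
    | add x y _ _ hx hy => rw [smul_add, hx, hy, add_zero]
    | smul a x _ hx => rw [smul_comm, hx, smul_zero]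
  refine ⟨s, hs, ?_⟩
  intro n hn m hm
  have h1 : π ^ 2 • (LocalizedModule.mkLinearMap S M m) = 0 := by
    rw [← map_smul, ← LinearMap.mem_ker]
    change π ^ 2 • m ∈ T
    rw [hT]
    refine ⟨⟨(s ^ n) ^ 2, S.pow_mem (S.pow_mem hs n) 2⟩, ?_⟩
    change ((s ^ n) ^ 2 : A) • π ^ 2 • m = 0
    rw [← mul_smul, ← mul_pow]
    exact hm
  have h2 := h _ h1
  rw [← map_smul, ← LinearMap.mem_ker] at h2
  have h3 : s • (π • m) = 0 := hsT _ h2
  obtain ⟨k, rfl⟩ : ∃ k, n = k + 1 := ⟨n - 1, by omega⟩
  rw [pow_succ, mul_assoc, mul_smul, ← smul_eq_mul, smul_assoc, h3, smul_zero]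

end Groth.Agent.S6820
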