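import Groth.Statements.S6828
import Groth.Agent.Lib.Helper7Synt55
import Groth.Agent.Lib.Helper7Synt20
import Groth.Agent.Lib.Helper13KzDescB
import Groth.Agent.S9287

set_option autoImplicit false
set_option linter.style.haveILetI false
universe u
open Smoothing

namespace Groth.Agent.S6828

/-- Let R → A be a syntomic ring map. Then there are a smooth R-algebra map A → C with an R-algebra
retraction C → A, where C = R[x₁, …, x_n]/(f₁, …, f_c) is a relative global complete intersection
over R (all nonempty fibres of dimension n − c) and flat over R. -/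
theorem result {R A : Type u} [CommRing R] [CommRing A] [Algebra R A]
    (h : Synt.IsSyntomic R A) :
    ∃ (n c : ℕ) (F : Fin c → MvPolynomial (Fin n) R), Synt.IsRelGCI R n c F ∧
      Module.Flat R (Synt.RelGCIRing R n c F) ∧
      ∃ (_ : Algebra A (Synt.RelGCIRing R n c F)) (_ : IsScalarTower R A (Synt.RelGCIRing R n c F)),
        Algebra.Smooth A (Synt.RelGCIRing R n c F) ∧
        ∃ ρ : Synt.RelGCIRing R n c F →ₐ[R] A, ∀ a : A, ρ (algebraMap A (Synt.RelGCIRing R n c F) a) = a := by
  classical
  open Groth.Agent.Lib.Helper7.Synt in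
  obtain ⟨-, n, f, hf, hK⟩ := ((Groth.Agent.S9287.result R A).mp h).2
  have hfg := Groth.Agent.Helper13KzDesc.fg_of_isKoszulRegularIdeal hK
  obtain ⟨s, H, hH⟩ := Submodule.fg_iff_exists_fin_generating_family.mp hfg
  have hH' : Ideal.span (Set.range H) = RingHom.ker f.toRingHom := hH
  have hK' : LCI.IsKoszulRegularIdeal (Ideal.span (Set.range H)) := by rw [hH']; exact hK
  haveI : Module.Projective (MvPolynomial (Fin n) R ⧸ Ideal.span (Set.range H))
      (Ideal.span (Set.range H)).Cotangent :=
    Groth.Agent.Helper13KzDesc.projective_of_isKoszulRegularIdeal hK'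
  let eA : Synt.RelGCIRing R n s H ≃ₐ[R] A :=
    (Ideal.quotientEquivAlgOfEq R hH').trans (Ideal.quotientKerAlgEquivOfSurjective hf)
  have hsyn : Synt.IsSyntomic R (Synt.RelGCIRing R n s H) :=
    Groth.Agent.Lib.Helper7.Synt.isSyntomic_of_algEquiv eA.symm h
  obtain ⟨E, he, N, c, F, hGCI, ⟨eT⟩⟩ :=
    Groth.Agent.Lib.Helper7.Synt.exists_symRing_relGCI H hsyn
  refine ⟨N, c, F, hGCI, Groth.Agent.Lib.Helper7.Synt.flat_relGCIRing F hGCI, ?_⟩
  let T := Groth.Agent.Lib.Helper7.Synt.SymRing
    (E.map (Ideal.Quotient.mk (Ideal.span (Set.range H))))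
  let φ : A →+* Synt.RelGCIRing R N c F :=
    (eT.toRingEquiv.toRingHom.comp (algebraMap (Synt.RelGCIRing R n s H) T)).comp
      eA.symm.toRingEquiv.toRingHom
  letI alg : Algebra A (Synt.RelGCIRing R N c F) := φ.toAlgebra
  have hφ : ∀ a, algebraMap A (Synt.RelGCIRing R N c F) a =
      eT (algebraMap (Synt.RelGCIRing R n s H) T (eA.symm a)) := fun a => rfl
  have htower : IsScalarTower R A (Synt.RelGCIRing R N c F) := by
    refine IsScalarTower.of_algebraMap_eq fun r => ?_
    rw [hφ, eA.symm.commutes, ← IsScalarTower.algebraMap_apply, eT.commutes]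
  refine ⟨alg, htower, ?_, ?_⟩
  · show φ.Smooth
    have h1 : (algebraMap (Synt.RelGCIRing R n s H) T).Smooth :=
      RingHom.smooth_algebraMap.mpr (Groth.Agent.Lib.Helper7.Synt.smooth_symRing he)
    have h2 : (eT.toRingEquiv.toRingHom.comp (algebraMap (Synt.RelGCIRing R n s H) T)).Smooth :=
      RingHom.Smooth.respectsIso.1 _ eT.toRingEquiv h1
    exact RingHom.Smooth.respectsIso.2 _ eA.symm.toRingEquiv h2
  · let ρ : Synt.RelGCIRing R N c F →ₐ[R] A :=
      eA.toAlgHom.comp (((Groth.Agent.Lib.Helper7.Synt.symRetraction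
        (e := E.map (Ideal.Quotient.mk (Ideal.span (Set.range H))))).restrictScalars R).comp
          eT.symm.toAlgHom)
    refine ⟨ρ, fun a => ?_⟩
    rw [hφ]
    show eA (Groth.Agent.Lib.Helper7.Synt.symRetraction (eT.symm (eT _))) = a
    rw [eT.symm_apply_apply, AlgHom.commutes]
    exact eA.apply_symm_apply a


end Groth.Agent.S6828
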