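import Groth.Statements.S6832
import Groth.Agent.Lib.Helper21ModSp4

set_option autoImplicit false
universe u
open CategoryTheory CategoryTheory.Limits TopologicalSpace
open ModSite

namespace Groth.Agent.S6832

/-- On a ringed space (X, O), if θ : G → F is a surjective map of O-modules with G of finite type and F
of finite presentation, then Ker(θ) is of finite type. (Part (1) of the source is the case G = O^r.) -/
theorem result {X : TopCat.{u}} (O : TopCat.Sheaf CommRingCat.{u} X)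
    {G F : ModSite.Mod O} (θ : G ⟶ F) [Epi θ] [SheafOfModules.IsFiniteType (R := ModSite.ringSh O) G]
    [SheafOfModules.IsFinitePresentation (R := ModSite.ringSh O) F] : SheafOfModules.IsFiniteType (R := ModSite.ringSh O) (kernel θ) := by
  open Groth.Agent.Lib.Helper21.ModSp Groth.Agent.Lib.Helper21.LocFact Groth.Agent.Lib.Helper21 in
  rw [isFiniteType_iff_nhds]
  intro x
  obtain ⟨U₁, hx₁, h₁⟩ := (isFiniteType_iff_nhds O G).mp inferInstance x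
  obtain ⟨U₂, hx₂, h₂⟩ := (isFinitePresentation_iff_nhds O F).mp inferInstance x
  obtain ⟨K, hK, p, hp⟩ := h₁.restrict (homOfLE inf_le_left : U₁ ⊓ U₂ ⟶ U₁)
  obtain ⟨I₁, I₀, hI₁, hI₀, ψ, π, w, hπ, hex⟩ :=
    h₂.restrict (homOfLE inf_le_right : U₁ ⊓ U₂ ⟶ U₂)
  haveI : Epi ((ModSite.restr O (U₁ ⊓ U₂)).map θ) := inferInstance
  haveI : Epi (p ≫ (ModSite.restr O (U₁ ⊓ U₂)).map θ) := epi_comp _ _
  -- lift `π` through `q = p ≫ θ|U`
  obtain ⟨V₁, g₁, hxV₁, α₁, hα₁⟩ :=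
    exists_lift_resFr (p ≫ (ModSite.restr O (U₁ ⊓ U₂)).map θ) π x ⟨hx₁, hx₂⟩
  haveI : Epi (resFr g₁ π) := inferInstance
  -- lift `q` through `π`
  obtain ⟨V₂, g₂, hxV₂, β₂, hβ₂⟩ := exists_lift_resFr (resFr g₁ π)
    (resFr g₁ (p ≫ (ModSite.restr O (U₁ ⊓ U₂)).map θ)) x hxV₁
  obtain ⟨w₁, hex₁⟩ := exact_res g₁ ψ π w hex
  obtain ⟨w₂, hex₂⟩ := exact_res g₂ _ _ w₁ hex₁
  have hq₂ : resFr g₂ (resFr g₁ (p ≫ (ModSite.restr O (U₁ ⊓ U₂)).map θ)) =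
      resFr g₂ (resFr g₁ p) ≫ (ModSite.restr O V₂).map θ := by
    rw [resFr_comp_map, resFr_comp_map]
  have hα₂ : resFrFr g₂ α₁ ≫ (resFr g₂ (resFr g₁ p) ≫ (ModSite.restr O V₂).map θ) =
      resFr g₂ (resFr g₁ π) := by
    rw [← hq₂, resFrFr_resFr, hα₁]
  have hβ₂' : β₂ ≫ resFr g₂ (resFr g₁ π) =
      resFr g₂ (resFr g₁ p) ≫ (ModSite.restr O V₂).map θ := by rw [hβ₂, hq₂]
  obtain ⟨w', hex'⟩ := AbLemmas.exact_desc_of_lifts
    (resFr g₂ (resFr g₁ p) ≫ (ModSite.restr O V₂).map θ) (resFrFr g₂ (resFrFr g₁ ψ))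
    (resFr g₂ (resFr g₁ π)) w₂ hex₂ (resFrFr g₂ α₁) hα₂ β₂ hβ₂'
  refine ⟨V₂, hxV₂, ?_⟩
  rw [genOn_iff_FG]
  haveI : Epi (resFr g₂ (resFr g₁ p)) := inferInstance
  have e1 := hex'.epi_kernelLift
  dsimp at e1
  have e2 := AbLemmas.epi_kernel_map_of_epi (resFr g₂ (resFr g₁ p)) ((ModSite.restr O V₂).map θ)
  have h1 : FG (kernel (resFr g₂ (resFr g₁ p) ≫ (ModSite.restr O V₂).map θ)) :=
    @FG.of_epi _ _ _ _ _ _ _ _ _ e1 (FG.biprod (FG.free K) (FG.free I₁))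
  have h2 : FG (kernel ((ModSite.restr O V₂).map θ)) := @FG.of_epi _ _ _ _ _ _ _ _ _ e2 h1
  exact FG.of_epi (PreservesKernel.iso (ModSite.restr O V₂) θ).inv h2

end Groth.Agent.S6832
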