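import Groth.Statements.S6833
import Groth.Agent.Lib.Helper21ModSp3
import Groth.Agent.Lib.Helper21AbLemmas

set_option autoImplicit false
universe u
open CategoryTheory CategoryTheory.Limits TopologicalSpace
open ModSite

namespace Groth.Agent.S6833

/-- On a ringed space (X, O), if φ : G → F is a map of O-modules with G of finite type and F of finite
presentation, then Coker(φ) is of finite presentation. -/
theorem result {X : TopCat.{u}} (O : TopCat.Sheaf CommRingCat.{u} X)
    {G F : ModSite.Mod O} (φ : G ⟶ F) [SheafOfModules.IsFiniteType (R := ModSite.ringSh O) G] [SheafOfModules.IsFinitePresentation (R := ModSite.ringSh O) F] :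
    SheafOfModules.IsFinitePresentation (R := ModSite.ringSh O) (cokernel φ) := by
  open Groth.Agent.Lib.Helper21.ModSp Groth.Agent.Lib.Helper21.LocFact in
  rw [isFinitePresentation_iff_nhds]
  intro x
  obtain ⟨U₁, hx₁, h₁⟩ := (isFiniteType_iff_nhds O G).mp inferInstance x
  obtain ⟨U₂, hx₂, h₂⟩ := (isFinitePresentation_iff_nhds O F).mp inferInstance x
  obtain ⟨K, hK, p, hp⟩ := h₁.restrict (homOfLE inf_le_left : U₁ ⊓ U₂ ⟶ U₁)
  obtain ⟨I₁, I₀, hI₁, hI₀, ψ, π, w, hπ, hex⟩ :=
    h₂.restrict (homOfLE inf_le_right : U₁ ⊓ U₂ ⟶ U₂)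
  -- lift `p ≫ φ|U` through `π`
  obtain ⟨V, g, hxV, l, hl⟩ :=
    exists_lift_nhd π (p ≫ (ModSite.restr O (U₁ ⊓ U₂)).map φ) x ⟨hx₁, hx₂⟩
  let lam : FrI (O.over V) K ⟶ FrI (O.over V) I₀ := l ≫ (GgFrIso g I₀).inv
  have hlam : lam ≫ resFr g π = resFr g p ≫ (ModSite.restr O V).map φ := by
    dsimp only [lam]
    rw [← resFr_comp_map]
    unfold resFr
    rw [Category.assoc, Iso.inv_hom_id_assoc, reassoc_of% hl]
  have w' : resFrFr g ψ ≫ resFr g π = 0 := by
    rw [resFrFr_resFr, w]
    unfold resFr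
    rw [Functor.map_zero, zero_comp, comp_zero]
  have hex' : (ShortComplex.mk (resFrFr g ψ) (resFr g π) w').Exact := by
    have h1 : ((ShortComplex.mk ψ π w).map (Gg O g)).Exact := hex.map (Gg O g)
    refine ShortComplex.exact_of_iso ?_ h1
    refine ShortComplex.isoMk (GgFrIso g I₁).symm (GgFrIso g I₀).symm (GgRestrIso g F) ?_ ?_
    · change (GgFrIso g I₁).inv ≫ resFrFr g ψ = (Gg O g).map ψ ≫ (GgFrIso g I₀).inv
      unfold resFrFr
      rw [Iso.inv_hom_id_assoc]
    · change (GgFrIso g I₀).inv ≫ resFr g π = (Gg O g).map π ≫ (GgRestrIso g F).hom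
      unfold resFr
      rw [Iso.inv_hom_id_assoc]
  -- the cokernel sequence restricted to `V`
  have wc : (ModSite.restr O V).map φ ≫ (ModSite.restr O V).map (cokernel.π φ) = 0 := by
    rw [← Functor.map_comp, cokernel.condition, Functor.map_zero]
  have hc : (ShortComplex.mk ((ModSite.restr O V).map φ)
      ((ModSite.restr O V).map (cokernel.π φ)) wc).Exact :=
    ((ShortComplex.mk φ (cokernel.π φ) (cokernel.condition φ)).exact_of_g_is_cokernel
      (cokernelIsCokernel φ)).map (ModSite.restr O V)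
  haveI : Epi (resFr g p) := inferInstance
  obtain ⟨w'', hex''⟩ := Groth.Agent.Lib.Helper21.AbLemmas.exact_desc_of_presentation
    (resFrFr g ψ) (resFr g π) w' hex' (resFr g p) ((ModSite.restr O V).map φ)
    ((ModSite.restr O V).map (cokernel.π φ)) wc hc lam hlam
  haveI : Epi (resFr g π) := inferInstance
  haveI : Epi ((ModSite.restr O V).map (cokernel.π φ)) := inferInstance
  -- reindex `free I₁ ⊞ free K` as `free (I₁ ⊕ K)`
  let e : FrI (O.over V) (I₁ ⊕ K) ≅ FrI (O.over V) I₁ ⊞ FrI (O.over V) K :=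
    (SheafOfModules.freeSumIso (R := ModSite.ringSh (O.over V)) I₁ K).symm ≪≫
      (biprod.isoCoprod _ _).symm
  have w3 : (e.hom ≫ biprod.desc (resFrFr g ψ) lam) ≫
      (resFr g π ≫ (ModSite.restr O V).map (cokernel.π φ)) = 0 := by
    rw [Category.assoc, w'', comp_zero]
  refine ⟨V, hxV, I₁ ⊕ K, I₀, inferInstance, hI₀, e.hom ≫ biprod.desc (resFrFr g ψ) lam,
    resFr g π ≫ (ModSite.restr O V).map (cokernel.π φ), w3, inferInstance, ?_⟩
  refine ShortComplex.exact_of_iso ?_ hex''
  exact ShortComplex.isoMk e.symm (Iso.refl _) (Iso.refl _)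
    (by dsimp; rw [Category.comp_id, Iso.inv_hom_id_assoc]) (by dsimp; rw [Category.comp_id, Category.id_comp])

end Groth.Agent.S6833
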