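import Groth.Statements.S6834
import Groth.Agent.Lib.Helper21ModSp10

set_option autoImplicit false
universe u
open CategoryTheory CategoryTheory.Limits TopologicalSpace
open ModSite

namespace Groth.Agent.S6834

/-- Let (X, O) be a ringed space with X quasi-compact, I a directed preordered set (nonempty, with upper
bounds for pairs), (F_i) a system of O-modules over I and F = colim F_i. If F is of finite type then
F_i → F is surjective for some i; if moreover all transition maps are injective then F_i → F is an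
isomorphism for some i. -/
theorem result {X : TopCat.{u}} (O : TopCat.Sheaf CommRingCat.{u} X)
    [CompactSpace X] {I : Type u} [Preorder I] [Nonempty I] [IsDirected I (· ≤ ·)] (D : I ⥤ ModSite.Mod O)
    (c : Cocone D) (hc : IsColimit c) [SheafOfModules.IsFiniteType (R := ModSite.ringSh O) c.pt] :
    (∃ i : I, Epi (c.ι.app i)) ∧
      ((∀ (i j : I) (f : i ⟶ j), Mono (D.map f)) → ∃ i : I, IsIso (c.ι.app i)) := by
  open Groth.Agent.Lib.Helper21.ModSp Groth.Agent.Lib.Helper21.LocFact Groth.Agent.Lib.Helper21 in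
  classical
  choose k V hV hepi using exists_nhd_epi_of_isColimit D c hc
  obtain ⟨t, ht⟩ := isCompact_univ.elim_finite_subcover (fun x : X => ((V x : Opens X) : Set X))
    (fun x => (V x).isOpen) (fun x _ => Set.mem_iUnion.mpr ⟨x, hV x⟩)
  obtain ⟨k₀, hk₀⟩ := Finset.exists_le (t.image k)
  have hepi₀ : Epi (c.ι.app k₀) := by
    refine epi_of_epi_restr O (fun x : t => V x.1) ?_ _ ?_
    · rw [coversTop_iff]
      intro y
      obtain ⟨x, hx⟩ := Set.mem_iUnion.mp (ht (Set.mem_univ y))
      obtain ⟨hxt, hy⟩ := Set.mem_iUnion.mp hx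
      exact ⟨⟨x, hxt⟩, hy⟩
    · rintro ⟨x, hx⟩
      have hle : k x ≤ k₀ := hk₀ _ (Finset.mem_image_of_mem k hx)
      have hfac : (ModSite.restr O (V x)).map (D.map (homOfLE hle)) ≫
          (ModSite.restr O (V x)).map (c.ι.app k₀) = (ModSite.restr O (V x)).map (c.ι.app (k x)) := by
        rw [← Functor.map_comp, c.w]
      haveI := hepi x
      haveI : Epi ((ModSite.restr O (V x)).map (D.map (homOfLE hle)) ≫
          (ModSite.restr O (V x)).map (c.ι.app k₀)) := by rw [hfac]; infer_instance
      exact epi_of_epi ((ModSite.restr O (V x)).map (D.map (homOfLE hle))) _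
  refine ⟨⟨k₀, hepi₀⟩, fun hmono => ⟨k₀, ?_⟩⟩
  haveI : Mono (c.ι.app k₀) := by
    haveI : ∀ (j j' : I) (φ : j ⟶ j'), Mono (D.map φ) := hmono
    haveI := ModTensor5.hasExactColimitsOfShape_filtered O (Under k₀)
    exact hc.mono_ι_app_of_isFiltered k₀
  exact isIso_of_mono_of_epi _

end Groth.Agent.S6834
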