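import Groth.Statements.S6836
import Groth.Agent.Lib.Helper21ModSp7

set_option autoImplicit false
universe u
open CategoryTheory CategoryTheory.Limits TopologicalSpace
open ModSite

namespace Groth.Agent.S6836

/-- On a ringed space (X, O), let r ≥ 0 and let φ : F → G be a map of O-modules which are both finite
locally free of rank r (every point has an open neighbourhood U with F|_U ≅ O_U^r, the free
O_U-module on r generators, and likewise for G). Then φ is an isomorphism if and only if it is
surjective. -/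
theorem result {X : TopCat.{u}} (O : TopCat.Sheaf CommRingCat.{u} X) (r : ℕ)
    {F G : ModSite.Mod O}
    (hF : ∀ x : X, ∃ U : Opens X, x ∈ U ∧
      Nonempty ((ModSite.restr O U).obj F ≅ SheafOfModules.free (ULift.{u} (Fin r))))
    (hG : ∀ x : X, ∃ U : Opens X, x ∈ U ∧
      Nonempty ((ModSite.restr O U).obj G ≅ SheafOfModules.free (ULift.{u} (Fin r))))
    (φ : F ⟶ G) : IsIso φ ↔ Epi φ := by
  open Groth.Agent.Lib.Helper21.ModSp Groth.Agent.Lib.Helper21.LocFact Groth.Agent.Lib.Helper21 in
  constructor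
  · intro h
    infer_instance
  · intro hepi
    have key : ∀ x : X, ∃ V : Opens X, x ∈ V ∧ IsIso ((ModSite.restr O V).map φ) := by
      intro x
      obtain ⟨U₁, hx₁, ⟨e₁⟩⟩ := hF x
      obtain ⟨U₂, hx₂, ⟨e₂⟩⟩ := hG x
      let eF := trivRes (homOfLE inf_le_left : U₁ ⊓ U₂ ⟶ U₁) e₁
      let eG := trivRes (homOfLE inf_le_right : U₁ ⊓ U₂ ⟶ U₂) e₂
      haveI : Epi ((ModSite.restr O (U₁ ⊓ U₂)).map φ) := inferInstance
      haveI : Epi (eF.inv ≫ (ModSite.restr O (U₁ ⊓ U₂)).map φ ≫ eG.hom) := inferInstance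
      obtain ⟨V, g, hxV, hiso⟩ := exists_isIso_resFrFr
        (eF.inv ≫ (ModSite.restr O (U₁ ⊓ U₂)).map φ ≫ eG.hom) x ⟨hx₁, hx₂⟩
      refine ⟨V, hxV, ?_⟩
      rw [← trivRes_conj g eF eG φ] at hiso
      have h1 : (ModSite.restr O V).map φ = (trivRes g eF).hom ≫
          ((trivRes g eF).inv ≫ (ModSite.restr O V).map φ ≫ (trivRes g eG).hom) ≫
            (trivRes g eG).inv := by
        simp only [Category.assoc, Iso.hom_inv_id, Category.comp_id, Iso.hom_inv_id_assoc]
      rw [h1]
      infer_instance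
    choose V hV hiso using key
    exact ModLocalIso.isIso_of_isIso_restr O V ((coversTop_iff V).mpr fun x => ⟨x, hV x⟩) φ hiso

end Groth.Agent.S6836
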