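import Groth.Statements.S6839
import Groth.Agent.Lib.Helper21ModSp3
import Groth.Agent.Lib.Helper21AbLemmas

set_option autoImplicit false
universe u
open CategoryTheory CategoryTheory.Limits TopologicalSpace
open ModSite

namespace Groth.Agent.S6839

/-- On a ringed space (X, O), if 0 → F₁ → F₂ → F₃ → 0 is a short exact sequence of O-modules with F₁ and
F₃ of finite type, then F₂ is of finite type. (The first assertion of the source, that images of
finite type modules are of finite type, is not restated.) -/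
theorem result {X : TopCat.{u}} (O : TopCat.Sheaf CommRingCat.{u} X)
    (S : ShortComplex (ModSite.Mod O)) (hS : S.ShortExact) [SheafOfModules.IsFiniteType (R := ModSite.ringSh O) S.X₁]
    [SheafOfModules.IsFiniteType (R := ModSite.ringSh O) S.X₃] : SheafOfModules.IsFiniteType (R := ModSite.ringSh O) S.X₂ := by
  open Groth.Agent.Lib.Helper21.ModSp Groth.Agent.Lib.Helper21.LocFact in
  rw [isFiniteType_iff_nhds]
  intro x
  obtain ⟨U₁, hx₁, h₁⟩ := (isFiniteType_iff_nhds O S.X₁).mp inferInstance x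
  obtain ⟨U₃, hx₃, h₃⟩ := (isFiniteType_iff_nhds O S.X₃).mp inferInstance x
  obtain ⟨I₁, hI₁, π₁, hπ₁⟩ := h₁.restrict (homOfLE inf_le_left : U₁ ⊓ U₃ ⟶ U₁)
  obtain ⟨I₃, hI₃, π₃, hπ₃⟩ := h₃.restrict (homOfLE inf_le_right : U₁ ⊓ U₃ ⟶ U₃)
  haveI : Epi S.g := hS.epi_g
  haveI : Epi ((ModSite.restr O (U₁ ⊓ U₃)).map S.g) := inferInstance
  obtain ⟨V, g, hxV, l, hl⟩ :=
    exists_lift_nhd ((ModSite.restr O (U₁ ⊓ U₃)).map S.g) π₃ x ⟨hx₁, hx₃⟩
  have hex : (ShortComplex.mk ((ModSite.restr O V).map S.f) ((ModSite.restr O V).map S.g)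
      (by rw [← Functor.map_comp, S.zero, Functor.map_zero])).Exact :=
    hS.exact.map (ModSite.restr O V)
  let b : FrI (O.over V) I₃ ⟶ (ModSite.restr O V).obj S.X₂ := l ≫ (GgRestrIso g S.X₂).hom
  have hb : b ≫ (ModSite.restr O V).map S.g = resFr g π₃ := by
    dsimp only [b]
    rw [Category.assoc, ← GgRestrIso_nat, reassoc_of% hl]
    rfl
  haveI : Epi (b ≫ (ModSite.restr O V).map S.g) := by
    rw [hb]
    infer_instance
  haveI : Epi (resFr g π₁) := inferInstance
  have hepi := Groth.Agent.Lib.Helper21.AbLemmas.epi_desc_of_exact _ _ _ hex (resFr g π₁) b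
  refine ⟨V, hxV, I₁ ⊕ I₃, inferInstance,
    (SheafOfModules.freeSumIso (R := ModSite.ringSh (O.over V)) I₁ I₃).inv ≫
      (biprod.isoCoprod _ _).inv ≫
      biprod.desc (resFr g π₁ ≫ (ModSite.restr O V).map S.f) b, ?_⟩
  infer_instance

end Groth.Agent.S6839
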