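import Groth.Statements.S6842
import Groth.Agent.Lib.Helper21CoprodSec2

set_option autoImplicit false
universe u
open CategoryTheory CategoryTheory.Limits TopologicalSpace
open ModSite

namespace Groth.Agent.S6842

open Groth.Agent.Lib.Helper21.CoprodSec in
theorem hasFinSubcover_of_isCompact {X : TopCat.{u}} (U : Opens X) (hU : IsCompact (U : Set X)) :
    HasFinSubcover (Opens.grothendieckTopology X) U := by
  intro S hS
  choose V f hf hxV using fun (x : U) => hS x.1 x.2
  obtain ⟨t, ht⟩ := hU.elim_finite_subcover (fun x : U => (V x : Set X)) (fun x => (V x).isOpen)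
    (fun x hx => Set.mem_iUnion.2 ⟨⟨x, hx⟩, hxV ⟨x, hx⟩⟩)
  refine ⟨ULift.{u} t, inferInstance, fun k => V k.down.1, fun k => f k.down.1, fun k => hf _, ?_⟩
  intro x hx
  obtain ⟨y, hy, hxy⟩ := Set.mem_iUnion₂.1 (ht hx)
  exact ⟨V y, f y, ⟨_, 𝟙 _, f y, Presieve.ofArrows.mk (⟨⟨y, hy⟩⟩ : ULift.{u} t), Category.id_comp _⟩, hxy⟩

/-- Let (X, O) be a ringed space, (F_i)_{i ∈ I} a family of O-modules and U ⊆ X a quasi-compact open.
Then the canonical map ⊕_i F_i(U) → (⊕_i F_i)(U) is bijective: every section of the direct sum over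
U is a finite sum of images of sections of the F_i over U (surjectivity), and such a finite sum
vanishes only if each term's section is zero (injectivity). -/
theorem result {X : TopCat.{u}} (O : TopCat.Sheaf CommRingCat.{u} X)
    {I : Type u} (F : I → ModSite.Mod O) [HasCoproduct F] (U : Opens X) (hU : IsCompact (U : Set X)) :
    (∀ s : ModSite.sect (∐ F) U, ∃ (S : Finset I) (t : ∀ i, ModSite.sect (F i) U),
        s = ∑ i ∈ S, ((Sigma.ι F i).val.app (Opposite.op U)).hom (t i)) ∧
      ∀ (S : Finset I) (t : ∀ i, ModSite.sect (F i) U),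
        ∑ i ∈ S, ((Sigma.ι F i).val.app (Opposite.op U)).hom (t i) = 0 → ∀ i ∈ S, t i = 0 := by
  have hW := hasFinSubcover_of_isCompact U hU
  refine ⟨fun s => ?_, fun S t h => ?_⟩
  · obtain ⟨T, z, hz⟩ := Groth.Agent.Lib.Helper21.CoprodSec.exists_finite_sum F hW s
    exact ⟨T, z, hz⟩
  · exact Groth.Agent.Lib.Helper21.CoprodSec.eq_zero_of_sum_eq_zero F U S t h

end Groth.Agent.S6842
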