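import Groth.Statements.S6847
import Mathlib
import Groth.Agent.S0484
import Groth.Agent.Lib.Helper16ClosedEmb
import Groth.Agent.Lib.Helper16SheafifyKer
-- import your own Groth.Agent.* helpers here

set_option autoImplicit false
set_option linter.style.haveILetI false
set_option linter.unusedSectionVars false
universe u
open CategoryTheory CategoryTheory.Limits TopologicalSpace
open ModSite

namespace Groth.Agent.S6847
open Opposite Groth.Agent.Lib.Helper16.ClosedEmb

variable {Z X : TopCat.{u}} (i : Z ⟶ X)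
    (O_Z : TopCat.Sheaf CommRingCat.{u} Z) (O_X : TopCat.Sheaf CommRingCat.{u} X)
    (c : O_X ⟶ ((TopologicalSpace.Opens.map i).sheafPushforwardContinuous CommRingCat.{u}
      (Opens.grothendieckTopology X) (Opens.grothendieckTopology Z)).obj O_Z)
    (hi : Topology.IsClosedEmbedding i) (hc : Sheaf.IsLocallySurjective c)

/-- the morphism of ringed sites. -/
noncomputable abbrev ff : ModSite.RMor O_Z O_X := ModSite.RMor.ofFlat (TopologicalSpace.Opens.map i) c

instance toSheafR_preservesFiniteColimits {C : Type u} [SmallCategory C] {J : GrothendieckTopology C}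
    (R : Sheaf J RingCat.{u}) :
    PreservesFiniteColimits (SheafOfModules.toSheaf.{u} R) :=
  ⟨fun K _ _ => by
    haveI : PreservesColimitsOfShape (ULiftHom.{u} (ULift.{u} K)) (SheafOfModules.toSheaf.{u} R) :=
      Groth.Agent.S0484.preservesColimitsOfShape_toSheaf J R _
    exact preservesColimitsOfShape_of_equiv (ULiftHomULiftCategory.equiv.{u, u} K).symm _⟩

include hi in
lemma push_pfc : PreservesFiniteColimits (ff i O_Z O_X c).push := by
  haveI : (ff i O_Z O_X c).push.PreservesEpimorphisms := ⟨fun {A B} g hg => by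
    haveI := hg
    haveI : Epi ((SheafOfModules.toSheaf _).map g) := inferInstance
    haveI h2 : Epi ((CohTop.push i).map ((SheafOfModules.toSheaf _).map g)) := push_map_epi i hi _
    exact (SheafOfModules.toSheaf _).epi_of_epi_map
      (show Epi ((SheafOfModules.toSheaf _).map ((ff i O_Z O_X c).push.map g)) from h2)⟩
  haveI : PreservesLimitsOfSize.{0, 0} (ff i O_Z O_X c).push :=
    (ff i O_Z O_X c).adj.rightAdjoint_preservesLimits
  haveI : (ff i O_Z O_X c).push.Additive := ModSite.RMor.instAdditiveModPush _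
  haveI : (ff i O_Z O_X c).push.PreservesHomology :=
    Functor.preservesHomology_of_preservesEpis_and_kernels _
  exact Functor.preservesFiniteColimits_of_preservesHomology _

include hi in
lemma push_faithful' : (ff i O_Z O_X c).push.Faithful := ⟨fun {F F'} g g' h => by
  have h1 : (CohTop.push i).map ((SheafOfModules.toSheaf _).map g) =
      (CohTop.push i).map ((SheafOfModules.toSheaf _).map g') :=
    congrArg (fun t => (SheafOfModules.toSheaf _).map t) h
  haveI := push_faithful i hi
  exact (SheafOfModules.toSheaf _).map_injective ((CohTop.push i).map_injective h1)⟩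

/-- the ring map on underlying presheaves of rings -/
noncomputable abbrev αR : (ringSh O_X).obj ⟶ (Opens.map i).op ⋙ (ringSh O_Z).obj :=
  (ff i O_Z O_X c).sharpR.hom

include hc in
lemma αR_locSurj :
    Presheaf.IsLocallySurjective (Opens.grothendieckTopology X) (αR i O_Z O_X c) := by
  constructor
  intro U s
  have h := hc.imageSieve_mem s
  exact h

include hi hc in
lemma push_full' : (ff i O_Z O_X c).push.Full := ⟨fun {F F'} φ => by
  haveI := αR_locSurj i O_Z O_X c hc
  let M₁ := (PresheafOfModules.pushforward₀ (Opens.map i) (ringSh O_Z).obj).obj F.val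
  let M₂ := (PresheafOfModules.pushforward₀ (Opens.map i) (ringSh O_Z).obj).obj F'.val
  have hM₂ : Presheaf.IsSheaf (Opens.grothendieckTopology X) M₂.presheaf :=
    ((ff i O_Z O_X c).push.obj F').isSheaf
  let g : M₁ ⟶ M₂ :=
    (PresheafOfModules.restrictHomEquivOfIsLocallySurjective (αR i O_Z O_X c) hM₂).symm φ.val
  have hg : (PresheafOfModules.restrictScalars (αR i O_Z O_X c)).map g = φ.val :=
    (PresheafOfModules.restrictHomEquivOfIsLocallySurjective (αR i O_Z O_X c) hM₂).apply_symm_apply
      φ.val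
  let φ₀ : (CohTop.push i).obj (toAb F) ⟶ (CohTop.push i).obj (toAb F') :=
    (SheafOfModules.toSheaf _).map φ
  let ψ₀ := preimage i hi φ₀
  have hφg : ∀ (V : Opens X) (n : F.val.obj (op ((Opens.map i).obj V))),
      φ₀.hom.app (op V) n = (g.app (op V)).hom n := by
    intro V n
    have h0 : φ.val.app (op V) =
        ((PresheafOfModules.restrictScalars (αR i O_Z O_X c)).map g).app (op V) := by
      rw [hg]
    have h1 := congrArg (fun t => t.hom n) h0
    exact h1
  have lin : ∀ (W : (Opens Z)ᵒᵖ) (b : (ringSh O_Z).obj.obj W) (m : F.val.obj W),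
      (show F'.val.obj W from ψ₀.hom.app W (b • m)) =
        b • (show F'.val.obj W from ψ₀.hom.app W m) := by
    intro W b m
    have e := map_vObj i hi W.unop
    let e₁ : W ⟶ op ((Opens.map i).obj (vObj i hi W.unop)) := eqToHom (congrArg op e.symm)
    let e₂ : op ((Opens.map i).obj (vObj i hi W.unop)) ⟶ W := eqToHom (congrArg op e)
    change (show F'.val.obj W from F'.val.presheaf.map e₂ (φ₀.hom.app (op (vObj i hi W.unop))
        (F.val.presheaf.map e₁ (b • m)))) =
      b • (show F'.val.obj W from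
        F'.val.presheaf.map e₂ (φ₀.hom.app (op (vObj i hi W.unop)) (F.val.presheaf.map e₁ m)))
    have h1 : F.val.presheaf.map e₁ (b • m) =
        (show F.val.obj (op ((Opens.map i).obj (vObj i hi W.unop))) from
          ((ringSh O_Z).obj.map e₁ b) •
            (show F.val.obj (op ((Opens.map i).obj (vObj i hi W.unop))) from
              F.val.presheaf.map e₁ m)) := F.val.map_smul e₁ b m
    have h2 : ∀ (r : (ringSh O_Z).obj.obj (op ((Opens.map i).obj (vObj i hi W.unop))))
        (n : F.val.obj (op ((Opens.map i).obj (vObj i hi W.unop)))),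
        φ₀.hom.app (op (vObj i hi W.unop)) (r • n) =
          (show F'.val.obj (op ((Opens.map i).obj (vObj i hi W.unop))) from
            r • (show F'.val.obj (op ((Opens.map i).obj (vObj i hi W.unop))) from
              φ₀.hom.app (op (vObj i hi W.unop)) n)) := by
      intro r n
      rw [hφg, hφg]
      exact (g.app (op (vObj i hi W.unop))).hom.map_smul r n
    have h3 : ∀ (r : (ringSh O_Z).obj.obj (op ((Opens.map i).obj (vObj i hi W.unop))))
        (n : F'.val.obj (op ((Opens.map i).obj (vObj i hi W.unop)))),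
        F'.val.presheaf.map e₂ (r • n) =
          (show F'.val.obj W from ((ringSh O_Z).obj.map e₂ r) •
            (show F'.val.obj W from F'.val.presheaf.map e₂ n)) := fun r n => F'.val.map_smul e₂ r n
    have h4 : (ringSh O_Z).obj.map e₂ ((ringSh O_Z).obj.map e₁ b) = b := by
      rw [← RingCat.comp_apply, ← CategoryTheory.Functor.map_comp]
      have : e₁ ≫ e₂ = 𝟙 W := by simp [e₁, e₂]
      rw [this, CategoryTheory.Functor.map_id]
      rfl
    rw [h1]
    refine (congrArg (fun t => (show F'.val.obj W from F'.val.presheaf.map e₂ t)) (h2 _ _)).trans ?_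
    refine (h3 _ _).trans ?_
    rw [h4]
  let ψ : F ⟶ F' := ⟨PresheafOfModules.homMk ψ₀.hom lin⟩
  refine ⟨ψ, ?_⟩
  apply (SheafOfModules.toSheaf _).map_injective
  have h5 : (SheafOfModules.toSheaf _).map ψ = ψ₀ := rfl
  change (CohTop.push i).map ((SheafOfModules.toSheaf _).map ψ) = φ₀
  rw [h5]
  exact map_preimage i hi φ₀⟩

lemma essImage_kills (G : ModSite.Mod O_X) (h : (ff i O_Z O_X c).push.essImage G) (U : Opens X)
    (a : (ModSite.ringSh O_X).obj.obj (op U))
    (ha : ((ff i O_Z O_X c).sharpR.hom.app (op U)).hom a = 0) (s : ModSite.sect G U) :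
    a • s = 0 := by
  obtain ⟨F, ⟨e⟩⟩ := h
  have h1 : (e.inv.val.app (op U)).hom (a • s) = 0 := by
    rw [map_smul]
    have : ∀ x : ((ff i O_Z O_X c).push.obj F).val.obj (op U), a • x = 0 := by
      intro x
      let r : (ringSh O_Z).obj.obj (op ((Opens.map i).obj U)) :=
        ((ff i O_Z O_X c).sharpR.hom.app (op U)).hom a
      have hr : r = 0 := ha
      change r • (show F.val.obj (op ((Opens.map i).obj U)) from x) = 0
      rw [hr, zero_smul]
    exact this _
  have h2 : (e.hom.val.app (op U)).hom ((e.inv.val.app (op U)).hom (a • s)) = a • s := by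
    have := congrArg (fun t => (t.val.app (op U)).hom (a • s)) e.inv_hom_id
    exact this
  rw [← h2, h1, map_zero]

/-- the open complement of the image -/
def Uc : Opens X := ⟨(Set.range i)ᶜ, hi.isClosed_range.isOpen_compl⟩

lemma Uc_le_vObj (W : Opens Z) : Uc i hi ≤ vObj i hi W := by
  intro x hx
  rw [mem_vObj]
  intro z hz
  exact absurd ⟨z, hz⟩ hx

lemma vObj_iSup_le' {ι : Type u} (W : ι → Opens Z) :
    vObj i hi (iSup W) ≤ Uc i hi ⊔ ⨆ k, vObj i hi (W k) := by
  intro x hx
  by_cases hxU : x ∈ Set.range i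
  · right
    obtain ⟨z, rfl⟩ := hxU
    rw [mem_vObj] at hx
    have := hx z rfl
    obtain ⟨k, hk⟩ := Opens.mem_iSup.mp this
    refine Opens.mem_iSup.mpr ⟨k, ?_⟩
    rw [mem_vObj]
    intro z' hz'
    rw [hi.injective hz']; exact hk
  · exact Or.inl hxU

lemma vObj_inf' (W W' : Opens Z) : vObj i hi W ⊓ vObj i hi W' ≤ vObj i hi (W ⊓ W') := by
  intro x hx
  rw [mem_vObj]
  intro z hz
  exact ⟨(mem_vObj _ _).1 hx.1 z hz, (mem_vObj _ _).1 hx.2 z hz⟩

/-- `W ↦ vObj W` as a functor. -/
def vFunG : Opens Z ⥤ Opens X where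
  obj W := vObj i hi W
  map f := homOfLE (vObj_mono i hi f.le)

lemma toZP_isSheaf' (H : CohTop.Ab X) (hH : SZ (Uc i hi) H) :
    TopCat.Presheaf.IsSheaf ((vFunG i hi).op ⋙ H.obj) := by
  rw [TopCat.Presheaf.isSheaf_iff_isSheafUniqueGluing]
  intro ι W sf hsf
  have key := glueZ (Uc i hi) H hH (fun k => vObj i hi (W k)) (vObj i hi (iSup W))
    (Uc_le_vObj i hi _) (fun k => vObj_mono _ _ (le_iSup W k)) (vObj_iSup_le' i hi W) sf (fun k l => by
      have h1 : H.obj.map ((vFunG i hi).map (Opens.infLELeft (W k) (W l))).op (sf k) =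
          H.obj.map ((vFunG i hi).map (Opens.infLERight (W k) (W l))).op (sf l) := hsf k l
      have h2 := congrArg (H.obj.map (homOfLE (vObj_inf' i hi (W k) (W l))).op) h1
      exact (map_map_apply H ((vFunG i hi).map (Opens.infLELeft (W k) (W l)))
        (homOfLE (vObj_inf' i hi (W k) (W l))) (homOfLE inf_le_left) (sf k)).symm.trans
        (h2.trans (map_map_apply H ((vFunG i hi).map (Opens.infLERight (W k) (W l)))
        (homOfLE (vObj_inf' i hi (W k) (W l))) (homOfLE inf_le_right) (sf l))))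
  obtain ⟨s, hs, huniq⟩ := key
  refine ⟨s, fun k => hs k, fun s' hs' => huniq s' (fun k => hs' k)⟩

lemma θ_bijective' (H : CohTop.Ab X) (hH : SZ (Uc i hi) H) (V : Opens X) :
    Function.Bijective (H.obj.map (homOfLE (le_vObj_map i hi V)).op) := by
  have hcov : vObj i hi ((Opens.map i).obj V) ≤ Uc i hi ⊔ ⨆ _ : PUnit.{u+1}, V := by
    intro x hx
    by_cases hxU : x ∈ Set.range i
    · right
      obtain ⟨z, rfl⟩ := hxU
      rw [mem_vObj] at hx
      exact Opens.mem_iSup.mpr ⟨PUnit.unit, hx z rfl⟩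
    · exact Or.inl hxU
  constructor
  · intro s s' hss'
    obtain ⟨t, _, huniq⟩ := glueZ (Uc i hi) H hH (fun _ : PUnit.{u+1} => V)
      (vObj i hi ((Opens.map i).obj V)) (Uc_le_vObj i hi _)
      (fun _ => le_vObj_map i hi V) hcov
      (fun _ => H.obj.map (homOfLE (le_vObj_map i hi V)).op s) (fun _ _ => rfl)
    rw [huniq s (fun _ => rfl), huniq s' (fun _ => hss'.symm)]
  · intro t
    obtain ⟨s, hs, _⟩ := glueZ (Uc i hi) H hH (fun _ : PUnit.{u+1} => V)
      (vObj i hi ((Opens.map i).obj V)) (Uc_le_vObj i hi _)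
      (fun _ => le_vObj_map i hi V) hcov (fun _ => t) (fun _ _ => rfl)
    exact ⟨s, hs PUnit.unit⟩

section EssImage

/-- `i_* R_Z` as a sheaf of rings on `X`. -/
noncomputable abbrev RZX : Sheaf (Opens.grothendieckTopology X) RingCat.{u} :=
  ((Opens.map i).sheafPushforwardContinuous RingCat.{u} (Opens.grothendieckTopology X)
    (Opens.grothendieckTopology Z)).obj (ringSh O_Z)

/-- the ring map, typed for `sheafifyId`. -/
noncomputable abbrev αR' : (ringSh O_X).obj ⟶ (RZX i O_Z).obj := (ff i O_Z O_X c).sharpR.hom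

include hc in
lemma αR'_locSurj :
    Presheaf.IsLocallySurjective (Opens.grothendieckTopology X) (αR' i O_Z O_X c) := by
  constructor
  intro U s
  have h := hc.imageSieve_mem s
  exact h

variable (G : ModSite.Mod O_X)
  (hG : ∀ (U : Opens X) (a : (ModSite.ringSh O_X).obj.obj (op U)),
    ((ff i O_Z O_X c).sharpR.hom.app (op U)).hom a = 0 → ∀ s : ModSite.sect G U, a • s = 0)

include hG in
lemma hα : ∀ ⦃Y : (Opens X)ᵒᵖ⦄ (r₀ r₀' : (ringSh O_X).obj.obj Y) (m₀ : G.val.obj Y),
    (αR' i O_Z O_X c).app _ r₀ = (αR' i O_Z O_X c).app _ r₀' → r₀ • m₀ = r₀' • m₀ := by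
  intro Y r₀ r₀' m₀ h
  have h1 : ((ff i O_Z O_X c).sharpR.hom.app (op Y.unop)).hom (r₀ - r₀') = 0 := by
    rw [map_sub]; exact sub_eq_zero.2 h
  have h2 := hG Y.unop (r₀ - r₀') h1 m₀
  rw [sub_smul] at h2
  exact sub_eq_zero.1 h2

/-- `G` as a sheaf of modules over `i_* R_Z`. -/
noncomputable def G₁ : SheafOfModules.{u} (RZX i O_Z) :=
  haveI := αR'_locSurj i O_Z O_X c hc
  Groth.Agent.Lib.Helper16.SheafifyKer.sheafifyId (αR' i O_Z O_X c) G.val (hα i O_Z O_X c G hG)
    G.isSheaf

/-- the ring map `R_Z(W) ⟶ R_Z(i⁻¹ (vObj W))`. -/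
noncomputable def β : (ringSh O_Z).obj ⟶ (vFunG i hi).op ⋙ (RZX i O_Z).obj where
  app W := (ringSh O_Z).obj.map (homOfLE (map_vObj i hi W.unop).le).op
  naturality W W' f := by
    change (ringSh O_Z).obj.map f ≫ (ringSh O_Z).obj.map _ =
      (ringSh O_Z).obj.map _ ≫ (ringSh O_Z).obj.map _
    exact ((ringSh O_Z).obj.map_comp _ _).symm.trans
      ((congrArg (ringSh O_Z).obj.map (Subsingleton.elim _ _)).trans
        ((ringSh O_Z).obj.map_comp _ _))

/-- the presheaf of modules on `Z`. -/
noncomputable def FP : PresheafOfModules.{u} (ringSh O_Z).obj :=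
  (PresheafOfModules.pushforward (F := vFunG i hi) (R := (RZX i O_Z).obj) (β i O_Z hi)).obj
    (G₁ i O_Z O_X c hc G hG).val

include hG in
lemma hSZ : SZ (Uc i hi) (toAb G) := by
  intro V hV
  have hbot : (Opens.map i).obj V = ⊥ := by
    ext z
    simp only [Opens.coe_bot, Set.mem_empty_iff_false, iff_false]
    intro hz
    exact hV (show i z ∈ V from hz) ⟨z, rfl⟩
  haveI hsub : Subsingleton (O_Z.obj.obj (op ((Opens.map i).obj V))) :=
    CommRingCat.subsingleton_of_isTerminal (TopCat.Sheaf.isTerminalOfEqEmpty O_Z hbot)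
  refine subsingleton_of_forall_eq 0 (fun s => ?_)
  have h1 : ((ff i O_Z O_X c).sharpR.hom.app (op V)).hom (1 : (ModSite.ringSh O_X).obj.obj (op V)) = 0 :=
    hsub.elim _ _
  have h2 := hG V 1 h1 s
  exact (one_smul ((ModSite.ringSh O_X).obj.obj (op V)) (show G.val.obj (op V) from s)).symm.trans h2

include hG in
lemma FP_isSheaf : Presheaf.IsSheaf (Opens.grothendieckTopology Z)
    (FP i O_Z O_X c hi hc G hG).presheaf :=
  toZP_isSheaf' i hi (toAb G) (hSZ i O_Z O_X c hi G hG)

/-- the sheaf of modules on `Z`. -/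
noncomputable def Fmod : ModSite.Mod O_Z :=
  ⟨FP i O_Z O_X c hi hc G hG, FP_isSheaf i O_Z O_X c hi hc G hG⟩

/-- the comparison on abelian presheaves. -/
noncomputable def θ₀ : ((ff i O_Z O_X c).push.obj (Fmod i O_Z O_X c hi hc G hG)).val.presheaf ⟶
    G.val.presheaf where
  app V := G.val.presheaf.map (homOfLE (le_vObj_map i hi V.unop)).op
  naturality V V' f := by
    exact (G.val.presheaf.map_comp _ _).symm.trans
      ((congrArg G.val.presheaf.map (Subsingleton.elim _ _)).trans (G.val.presheaf.map_comp _ _))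

lemma θ₀_lin (V : (Opens X)ᵒᵖ) (a : (ringSh O_X).obj.obj V)
    (x : ((ff i O_Z O_X c).push.obj (Fmod i O_Z O_X c hi hc G hG)).val.obj V) :
    (show G.val.obj V from (θ₀ i O_Z O_X c hi hc G hG).app V (a • x)) =
      a • (show G.val.obj V from (θ₀ i O_Z O_X c hi hc G hG).app V x) := by
  haveI := αR'_locSurj i O_Z O_X c hc
  let W : Opens Z := (Opens.map i).obj V.unop
  let VV : Opens X := vObj i hi W
  let G1 := G₁ i O_Z O_X c hc G hG
  let x' : G1.val.obj (op VV) := x
  let r : (RZX i O_Z).obj.obj (op VV) := (β i O_Z hi).app (op W) ((αR' i O_Z O_X c).app V a)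
  let res : op VV ⟶ V := (homOfLE (le_vObj_map i hi V.unop)).op
  have step1 : a • x = (show G1.val.obj (op VV) from r • x') := rfl
  have step2 : G1.val.map res (r • x') = ((RZX i O_Z).obj.map res r) • G1.val.map res x' :=
    G1.val.map_smul res r x'
  have step3 : (RZX i O_Z).obj.map res r = (αR' i O_Z O_X c).app V a := by
    change ((ringSh O_Z).obj.map _ ≫ (ringSh O_Z).obj.map _) _ = _
    have : ∀ (A B : (Opens Z)ᵒᵖ) (p : A ⟶ B) (q : B ⟶ A), (ringSh O_Z).obj.map p ≫ (ringSh O_Z).obj.map q = 𝟙 _ := by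
      intro A B p q
      exact ((ringSh O_Z).obj.map_comp _ _).symm.trans
        ((congrArg (ringSh O_Z).obj.map (Subsingleton.elim _ _)).trans ((ringSh O_Z).obj.map_id _))
    rw [this]
    rfl
  have step4 : ∀ y : G.val.obj V, (HSMul.hSMul (α := (RZX i O_Z).obj.obj V) (β := G1.val.obj V)
      ((αR' i O_Z O_X c).app V a) y : G1.val.obj V) = (a • y : G.val.obj V) := fun y =>
    Groth.Agent.Lib.Helper16.SheafifyKer.sheafifyId_smul (αR' i O_Z O_X c) G.val
      (hα i O_Z O_X c G hG) G.isSheaf a y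
  change G1.val.map res (a • x) = _
  rw [step1]
  refine step2.trans ?_
  rw [step3]
  exact step4 _

/-- the comparison morphism. -/
noncomputable def θ : (ff i O_Z O_X c).push.obj (Fmod i O_Z O_X c hi hc G hG) ⟶ G :=
  ⟨PresheafOfModules.homMk (θ₀ i O_Z O_X c hi hc G hG) (θ₀_lin i O_Z O_X c hi hc G hG)⟩

lemma θ_isIso : IsIso (θ i O_Z O_X c hi hc G hG) := by
  have hb : ∀ V : (Opens X)ᵒᵖ, Function.Bijective ((θ₀ i O_Z O_X c hi hc G hG).app V) := fun V =>
    θ_bijective' i hi (toAb G) (hSZ i O_Z O_X c hi G hG) V.unop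
  haveI : ∀ V, IsIso ((θ₀ i O_Z O_X c hi hc G hG).app V) := fun V =>
    (ConcreteCategory.isIso_iff_bijective _).2 (hb V)
  haveI h1 : IsIso (θ₀ i O_Z O_X c hi hc G hG) := NatIso.isIso_of_isIso_app _
  haveI : IsIso ((SheafOfModules.toSheaf _).map (θ i O_Z O_X c hi hc G hG)) := by
    haveI : IsIso ((sheafToPresheaf _ _).map
        ((SheafOfModules.toSheaf _).map (θ i O_Z O_X c hi hc G hG))) := h1
    exact isIso_of_reflects_iso _ (sheafToPresheaf _ _)
  exact isIso_of_reflects_iso _ (SheafOfModules.toSheaf _)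

end EssImage


/-- Let i : (Z, O_Z) → (X, O_X) be a morphism of ringed spaces with i a homeomorphism onto a closed
subset of X and i♯ : O_X → i_*O_Z surjective, with kernel the ideal sheaf I. Then i_* : Mod(O_Z) →
Mod(O_X) is exact (right exactness is the content, i_* being a right adjoint), full and faithful,
and an O_X-module G lies in its essential image if and only if I·G = 0, i.e. every section of O_X
over an open U killed by i♯ annihilates G(U). -/
theorem result {Z X : TopCat.{u}} (i : Z ⟶ X)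
    (O_Z : TopCat.Sheaf CommRingCat.{u} Z) (O_X : TopCat.Sheaf CommRingCat.{u} X)
    (c : O_X ⟶ ((TopologicalSpace.Opens.map i).sheafPushforwardContinuous CommRingCat.{u}
      (Opens.grothendieckTopology X) (Opens.grothendieckTopology Z)).obj O_Z)
    (hi : Topology.IsClosedEmbedding i) (hc : Sheaf.IsLocallySurjective c) :
    PreservesFiniteColimits (ModSite.RMor.ofFlat (TopologicalSpace.Opens.map i) c).push ∧
      (ModSite.RMor.ofFlat (TopologicalSpace.Opens.map i) c).push.Full ∧
      (ModSite.RMor.ofFlat (TopologicalSpace.Opens.map i) c).push.Faithful ∧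
      ∀ G : ModSite.Mod O_X,
        (ModSite.RMor.ofFlat (TopologicalSpace.Opens.map i) c).push.essImage G ↔
          ∀ (U : Opens X) (a : (ModSite.ringSh O_X).obj.obj (Opposite.op U)),
            ((ModSite.RMor.ofFlat (TopologicalSpace.Opens.map i) c).sharpR.hom.app (Opposite.op U)).hom a = 0 →
              ∀ s : ModSite.sect G U, a • s = 0 := by
  refine ⟨push_pfc i O_Z O_X c hi, push_full' i O_Z O_X c hi hc, push_faithful' i O_Z O_X c hi, ?_⟩
  intro G
  constructor
  · intro h U a ha s
    exact essImage_kills i O_Z O_X c G h U a ha s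
  · intro hG
    haveI := θ_isIso i O_Z O_X c hi hc G hG
    exact ⟨Fmod i O_Z O_X c hi hc G hG, ⟨asIso (θ i O_Z O_X c hi hc G hG)⟩⟩

end Groth.Agent.S6847
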