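import Groth.Statements.S6848
import Groth.Agent.Lib.Helper21ModSp6

set_option autoImplicit false
universe u
open CategoryTheory CategoryTheory.Limits TopologicalSpace
open ModSite

namespace Groth.Agent.S6848

/-- On a ringed space (X, O), let F be an O-module of finite presentation and x a point with F_x ≅
O_{X,x}^r as O_{X,x}-modules (stalks are taken at the point of the site of opens of X given by x).
Then there is an open neighbourhood U of x with F|_U ≅ O_U^r, the free O_U-module on r generators. -/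
theorem result {X : TopCat.{u}} (O : TopCat.Sheaf CommRingCat.{u} X)
    (F : ModSite.Mod O) [SheafOfModules.IsFinitePresentation (R := ModSite.ringSh O) F] (x : X) (r : ℕ)
    (hx : Nonempty (ModSite.stalkMod (Opens.pointGrothendieckTopology x) F
      ≃ₗ[ModSite.stalkRing (Opens.pointGrothendieckTopology x) O]
        (Fin r → ModSite.stalkRing (Opens.pointGrothendieckTopology x) O))) :
    ∃ U : Opens X, x ∈ U ∧ Nonempty ((ModSite.restr O U).obj F ≅ SheafOfModules.free (ULift.{u} (Fin r))) := by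
  open Groth.Agent.Lib.Helper21.ModSp Groth.Agent.Lib.Helper21.LocFact Groth.Agent.Lib.Helper21
    Groth.Agent.Lib.Helper21.EqCrit Groth.Agent.Lib.Helper21.StalkFlat in
  obtain ⟨hx⟩ := hx
  let hx' : ModSite.stalkMod (Opens.pointGrothendieckTopology x) F
      ≃ₗ[ModSite.stalkRing (Opens.pointGrothendieckTopology x) O]
        (ULift.{u} (Fin r) → ModSite.stalkRing (Opens.pointGrothendieckTopology x) O) :=
    hx ≪≫ₗ (LinearEquiv.funCongrLeft _ _ Equiv.ulift)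
  -- a finite presentation near `x`
  obtain ⟨U, hxU, I₁, I₀, hI₁, hI₀, ψ₀, π, w, hπ, hex⟩ :=
    (isFinitePresentation_iff_nhds O F).mp inferInstance x
  -- sections representing the basis of the stalk
  obtain ⟨W, wW, g₀, hw, s, hs⟩ := exists_common_sections (Opens.pointGrothendieckTopology x) F U
    ⟨⟨hxU⟩⟩ (fun j : ULift.{u} (Fin r) => hx'.symm (Pi.single j 1))
  -- coefficients of the generators
  obtain ⟨Y, g₁, y, hy, a, ha⟩ := exists_coeffs (Opens.pointGrothendieckTopology x) hx' wW s hs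
    (fun i => res O F g₀ (secV π i))
  have hsY : ∀ j, ModSite.germ (Opens.pointGrothendieckTopology x) F Y y (res O F g₁ (s j)) =
      hx'.symm (Pi.single j 1) := by
    intro j
    rw [germ_res, hy, hs]
  obtain ⟨ψ, hψ⟩ : ∃ ψ : FrI (O.over Y) (ULift.{u} (Fin r)) ⟶ (ModSite.restr O Y).obj F,
      ∀ j, secV ψ j = res O F g₁ (s j) := ⟨homV _, fun j => secV_homV _ j⟩
  obtain ⟨α, hα⟩ : ∃ α : FrI (O.over Y) I₀ ⟶ FrI (O.over Y) (ULift.{u} (Fin r)),
      ∀ (f : FrI (O.over Y) (ULift.{u} (Fin r)) ⟶ (ModSite.restr O Y).obj F) (i : I₀),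
        secV (α ≫ f) i = ∑ j, (a i j : (ModSite.ringSh O).obj.obj (Opposite.op Y)) • secV f j :=
    ⟨matHom a, fun f i => secV_matHom_comp a f i⟩
  have hαψ : α ≫ ψ = resFr (g₁ ≫ g₀) π := by
    apply secV_ext
    intro i
    rw [hα, secV_resFr]
    simp only [hψ]
    exact ((res_comp O F g₀ g₁ _).trans (ha i)).symm
  haveI : Epi (resFr (g₁ ≫ g₀) π) := inferInstance
  haveI : Epi (α ≫ ψ) := by rw [hαψ]; infer_instance
  haveI : Epi ψ := epi_of_epi α ψ
  -- lift `ψ` through `π`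
  obtain ⟨V₃, g₃, hxV₃, β, hβ⟩ := exists_lift_resFr (resFr (g₁ ≫ g₀) π) ψ x y.down.down
  obtain ⟨w₁, hex₁⟩ := exact_res (g₁ ≫ g₀) ψ₀ π w hex
  obtain ⟨w₃, hex₃⟩ := exact_res g₃ _ _ w₁ hex₁
  have hα₃ : resFrFr g₃ α ≫ resFr g₃ ψ = resFr g₃ (resFr (g₁ ≫ g₀) π) := by
    rw [resFrFr_resFr, hαψ]
  obtain ⟨w', hex'⟩ := AbLemmas.exact_desc_of_lifts (resFr g₃ ψ)
    (resFrFr g₃ (resFrFr (g₁ ≫ g₀) ψ₀)) (resFr g₃ (resFr (g₁ ≫ g₀) π)) w₃ hex₃
    (resFrFr g₃ α) hα₃ β hβ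
  -- reindex the source as a free module
  obtain ⟨Λ, wΛ, hexΛ⟩ : ∃ (Λ : FrI (O.over V₃) (ULift.{u} (Fin r) ⊕ I₁) ⟶
      FrI (O.over V₃) (ULift.{u} (Fin r))) (wΛ : Λ ≫ resFr g₃ ψ = 0),
      (ShortComplex.mk Λ (resFr g₃ ψ) wΛ).Exact := by
    refine ⟨(frSumIso (ULift.{u} (Fin r)) I₁).hom ≫
      biprod.desc (𝟙 _ - β ≫ resFrFr g₃ α) (resFrFr g₃ (resFrFr (g₁ ≫ g₀) ψ₀) ≫ resFrFr g₃ α),
      ?_, ?_⟩
    · rw [Category.assoc, w', comp_zero]
    · refine ShortComplex.exact_of_iso ?_ hex'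
      exact ShortComplex.isoMk (frSumIso (ULift.{u} (Fin r)) I₁).symm (Iso.refl _) (Iso.refl _)
        (by dsimp; rw [Category.comp_id, Iso.inv_hom_id_assoc])
        (by dsimp; rw [Category.comp_id, Category.id_comp])
  -- the relations have vanishing coefficients near `x`
  have hq : ∀ j, secV (resFr g₃ ψ) j = res O F g₃ (res O F g₁ (s j)) := by
    intro j
    rw [secV_resFr, hψ]
    rfl
  have hrel : ∀ k, ∑ j, coord (O := O) (V := V₃) j
      (Λ.val.app (Opposite.op (Over.mk (𝟙 V₃))) (δ V₃ _ k)) • res O F g₃ (res O F g₁ (s j)) = 0 := by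
    intro k
    have h1 := secV_comp_of_eq_sum Λ (resFr g₃ ψ) k
      (fun j => coord (O := O) (V := V₃) j (Λ.val.app (Opposite.op (Over.mk (𝟙 V₃))) (δ V₃ _ k)))
      (eq_sum_coord _)
    rw [wΛ] at h1
    simp only [hq] at h1
    exact h1.symm
  have hs₃ : ∀ j, ModSite.germ (Opens.pointGrothendieckTopology x) F V₃ ⟨⟨hxV₃⟩⟩
      (res O F g₃ (res O F g₁ (s j))) = hx'.symm (Pi.single j 1) := by
    intro j
    rw [germ_res, ← hsY j]
    congr 1
  obtain ⟨Y₄, g₄, y₄, hy₄, hvan⟩ := coeffs_vanish (Opens.pointGrothendieckTopology x) hx'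
    (W := V₃) ⟨⟨hxV₃⟩⟩ (fun j => res O F g₃ (res O F g₁ (s j))) hs₃
    (fun k j => coord (O := O) (V := V₃) j
      (Λ.val.app (Opposite.op (Over.mk (𝟙 V₃))) (δ V₃ _ k))) hrel
  have hΛ0 : resFrFr g₄ Λ = 0 := resFrFr_eq_zero g₄ Λ hvan
  obtain ⟨w₄, hex₄⟩ := exact_res g₄ Λ _ wΛ hexΛ
  haveI : Mono (resFr g₄ (resFr g₃ ψ)) := hex₄.mono_g hΛ0
  haveI : Epi (resFr g₄ (resFr g₃ ψ)) := inferInstance
  haveI : IsIso (resFr g₄ (resFr g₃ ψ)) := isIso_of_mono_of_epi _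
  exact ⟨Y₄, y₄.down.down, ⟨(asIso (resFr g₄ (resFr g₃ ψ))).symm⟩⟩

end Groth.Agent.S6848
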