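import Groth.Statements.S6849
import Groth.Agent.Lib.Helper21ModSp8
import Groth.Agent.S6833
import Groth.Agent.S6848

set_option autoImplicit false
universe u
open CategoryTheory CategoryTheory.Limits TopologicalSpace
open ModSite

namespace Groth.Agent.S6849

/-- Let (X, O) be a ringed space all of whose stalks O_{X,x} are local rings, H a finite locally free
O-module (every point has an open neighbourhood U with H|_U ≅ O_U^n, the free O_U-module on n
generators, for some n) and F a direct summand of H (maps F → H → F composing to the identity). Then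
F is finite locally free. -/
theorem result {X : TopCat.{u}}
    (O : TopCat.Sheaf CommRingCat.{u} X) (hO : ∀ x : X, IsLocalRing (O.presheaf.stalk x)) {F H : ModSite.Mod O}
    (hH : ∀ x : X, ∃ (U : Opens X) (n : ℕ), x ∈ U ∧
      Nonempty ((ModSite.restr O U).obj H ≅ SheafOfModules.free (ULift.{u} (Fin n))))
    (i : F ⟶ H) (p : H ⟶ F) (hip : i ≫ p = 𝟙 F) (x : X) :
    ∃ (U : Opens X) (n : ℕ), x ∈ U ∧
      Nonempty ((ModSite.restr O U).obj F ≅ SheafOfModules.free (ULift.{u} (Fin n))) := by
  open Groth.Agent.Lib.Helper21.ModSp Groth.Agent.Lib.Helper21.LocFact Groth.Agent.Lib.Helper21 in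
  -- `H` is of finite presentation, hence so is its direct summand `F`
  have hP : ∀ y : X, ∃ U : Opens X, y ∈ U ∧ PresOn O H U := by
    intro y
    obtain ⟨U, n, hy, ⟨e⟩⟩ := hH y
    exact ⟨U, hy, presOn_of_triv e⟩
  haveI hHfp : SheafOfModules.IsFinitePresentation (R := ModSite.ringSh O) H :=
    (isFinitePresentation_iff_nhds O H).mpr hP
  haveI hHft : SheafOfModules.IsFiniteType (R := ModSite.ringSh O) H :=
    (isFiniteType_iff_nhds O H).mpr (fun y => by
      obtain ⟨U, hy, h⟩ := hP y
      exact ⟨U, hy, h.genOn⟩)
  haveI := Groth.Agent.S6833.result O (𝟙 H - p ≫ i)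
  haveI : SheafOfModules.IsFinitePresentation (R := ModSite.ringSh O) F :=
    isFinitePresentation_of_iso (cokernelOneSubIso i p hip)
  -- the stalk of `F` at `x` is a direct summand of a finite free module over a local ring
  obtain ⟨U, n, hxU, ⟨e⟩⟩ := hH x
  obtain ⟨eH⟩ := stalk_free_of_triv (Opens.pointGrothendieckTopology x) (U := U) ⟨⟨hxU⟩⟩ H e
  haveI := isLocalRing_stalkRing O x (hO x)
  have hρι : (ModSite.stalkMap (Opens.pointGrothendieckTopology x) p).hom ∘ₗ
      (ModSite.stalkMap (Opens.pointGrothendieckTopology x) i).hom = LinearMap.id := by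
    ext z
    rw [LinearMap.comp_apply, ← stalkMap_comp_apply, hip, stalkMap_id_apply]
    rfl
  haveI : Module.Finite (ModSite.stalkRing (Opens.pointGrothendieckTopology x) O)
      (ModSite.stalkMod (Opens.pointGrothendieckTopology x) H) := Module.Finite.equiv eH.symm
  haveI : Module.Finite (ModSite.stalkRing (Opens.pointGrothendieckTopology x) O)
      (ModSite.stalkMod (Opens.pointGrothendieckTopology x) F) :=
    Module.Finite.of_surjective (ModSite.stalkMap (Opens.pointGrothendieckTopology x) p).hom
      (fun z => ⟨(ModSite.stalkMap (Opens.pointGrothendieckTopology x) i).hom z,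
        congrArg (fun f => f z) hρι⟩)
  haveI : Module.Free (ModSite.stalkRing (Opens.pointGrothendieckTopology x) O)
      (ModSite.stalkMod (Opens.pointGrothendieckTopology x) H) := Module.Free.of_equiv eH.symm
  haveI : Module.Projective (ModSite.stalkRing (Opens.pointGrothendieckTopology x) O)
      (ModSite.stalkMod (Opens.pointGrothendieckTopology x) F) :=
    Module.Projective.of_split _ _ hρι
  haveI : Module.Free (ModSite.stalkRing (Opens.pointGrothendieckTopology x) O)
      (ModSite.stalkMod (Opens.pointGrothendieckTopology x) F) :=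
    Module.free_of_flat_of_isLocalRing
  obtain ⟨V, hxV, hV⟩ := Groth.Agent.S6848.result O F x
    (Module.finrank (ModSite.stalkRing (Opens.pointGrothendieckTopology x) O)
      (ModSite.stalkMod (Opens.pointGrothendieckTopology x) F))
    ⟨(Module.finBasis (ModSite.stalkRing (Opens.pointGrothendieckTopology x) O)
      (ModSite.stalkMod (Opens.pointGrothendieckTopology x) F)).equivFun⟩
  exact ⟨V, _, hxV, hV⟩

end Groth.Agent.S6849
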