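import Groth.Statements.S6850
import Groth.Agent.Lib.Helper21ModSp11

set_option autoImplicit false
universe u
open CategoryTheory CategoryTheory.Limits TopologicalSpace
open ModSite

namespace Groth.Agent.S6850

/-- On a ringed space (X, O), for O-modules F and G: if both are locally generated by sections then so
is F ⊗_O G; if both are of finite type then so is F ⊗_O G; if both are quasi-coherent then so is F
⊗_O G; if both are of finite presentation then so is F ⊗_O G; if both are locally free then so is F
⊗_O G. (Parts (5), (6) on coherent modules are not restated.) -/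
theorem result {X : TopCat.{u}} (O : TopCat.Sheaf CommRingCat.{u} X) (F G : ModSite.Mod O) :
    (Nonempty (SheafOfModules.LocalGeneratorsData.{u} (R := ModSite.ringSh O) F) →
        Nonempty (SheafOfModules.LocalGeneratorsData.{u} (R := ModSite.ringSh O) G) →
          Nonempty (SheafOfModules.LocalGeneratorsData.{u} (R := ModSite.ringSh O) (((ModSite.tensorBi O).obj F).obj G))) ∧
      (SheafOfModules.IsFiniteType (R := ModSite.ringSh O) F → SheafOfModules.IsFiniteType (R := ModSite.ringSh O) G →
        SheafOfModules.IsFiniteType (R := ModSite.ringSh O) (((ModSite.tensorBi O).obj F).obj G)) ∧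
      (SheafOfModules.IsQuasicoherent (R := ModSite.ringSh O) F →
        SheafOfModules.IsQuasicoherent (R := ModSite.ringSh O) G →
          SheafOfModules.IsQuasicoherent (R := ModSite.ringSh O) (((ModSite.tensorBi O).obj F).obj G)) ∧
      (SheafOfModules.IsFinitePresentation (R := ModSite.ringSh O) F →
        SheafOfModules.IsFinitePresentation (R := ModSite.ringSh O) G →
          SheafOfModules.IsFinitePresentation (R := ModSite.ringSh O) (((ModSite.tensorBi O).obj F).obj G)) ∧
      (SheafOfModules.IsLocallyFree (R := ModSite.ringSh O) F → SheafOfModules.IsLocallyFree (R := ModSite.ringSh O) G →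
        SheafOfModules.IsLocallyFree (R := ModSite.ringSh O) (((ModSite.tensorBi O).obj F).obj G)) := by
  open Groth.Agent.Lib.Helper21.ModSp Groth.Agent.Lib.Helper21.LocFact Groth.Agent.Lib.Helper21 in
  have hT : ∀ I K : Type u, True → True → True := fun _ _ _ _ => trivial
  have hFS : ∀ I K : Type u, Finite I → Finite K → Finite ((_ : I) × K) :=
    fun I K hI hK => inferInstance
  have hFP : ∀ I K : Type u, Finite I → Finite K → Finite (I ⊕ K) :=
    fun I K hI hK => inferInstance
  refine ⟨?_, ?_, ?_, ?_, ?_⟩
  · intro hF hG
    rw [nonempty_localGeneratorsData_iff] at hF hG ⊢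
    exact tensor_local (fun U A => GenP (fun _ => True) A) (fun U A B e h => h.of_iso e)
      (fun U V g A h => h.map_Gg g) (fun U A B hA hB => GenP.tensor hT hA hB) F G hF hG
  · intro hF hG
    rw [isFiniteType_iff'] at hF hG ⊢
    exact tensor_local (fun U A => GenP Finite A) (fun U A B e h => h.of_iso e)
      (fun U V g A h => h.map_Gg g) (fun U A B hA hB => GenP.tensor hFS hA hB) F G hF hG
  · intro hF hG
    rw [isQuasicoherent_iff] at hF hG ⊢
    exact tensor_local (fun U A => PresP (fun _ => True) A) (fun U A B e h => h.of_iso e)
      (fun U V g A h => h.map_Gg g) (fun U A B hA hB => PresP.tensor hT hT hA hB) F G hF hG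
  · intro hF hG
    rw [isFinitePresentation_iff'] at hF hG ⊢
    exact tensor_local (fun U A => PresP Finite A) (fun U A B e h => h.of_iso e)
      (fun U V g A h => h.map_Gg g) (fun U A B hA hB => PresP.tensor hFS hFP hA hB) F G hF hG
  · intro hF hG
    rw [isLocallyFree_iff] at hF hG ⊢
    exact tensor_local (fun U A => FreeP (fun _ => True) A) (fun U A B e h => h.of_iso e)
      (fun U V g A h => h.map_Gg g) (fun U A B hA hB => FreeP.tensor hT hA hB) F G hF hG

end Groth.Agent.S6850
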