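import Groth.Statements.S6853
import Groth.Agent.Lib.Helper21HomI5
import Groth.Agent.Lib.Helper21ModTensor7

set_option autoImplicit false
universe u
open CategoryTheory CategoryTheory.Limits TopologicalSpace
open ModSite

namespace Groth.Agent.S6853

open Groth.Agent.Lib.Helper21.ModTensor3 Groth.Agent.Lib.Helper21.ModTensor5
  Groth.Agent.Lib.Helper21.ModTensor6 Groth.Agent.Lib.Helper21.ModTensor7 in
/-- pullback of an invertible module along a morphism of ringed sites is invertible. -/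
theorem invertible_pull {C D : Type u} [SmallCategory C] [SmallCategory D]
    {J : GrothendieckTopology C} {K : GrothendieckTopology D} {O_C : Sheaf J CommRingCat.{u}}
    {O_D : Sheaf K CommRingCat.{u}} (g : ModSite.RMor O_C O_D) (L : ModSite.Mod O_D)
    (hL : ((ModSite.tensorBi O_D).obj L).IsEquivalence) :
    ((ModSite.tensorBi O_C).obj (g.pull.obj L)).IsEquivalence := by
  haveI : (tL O_D L).IsEquivalence := hL
  let L' : ModSite.Mod O_D := (tL O_D L).objPreimage (ModSite.unit O_D)
  let e0 : ((ModSite.tensorBi O_D).obj L).obj L' ≅ ModSite.unit O_D :=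
    (tL O_D L).objObjPreimageIso (ModSite.unit O_D)
  haveI : PreservesLimit (Functor.empty.{0} (Sheaf K (Type u)))
      (g.fn.sheafPullback (Type u) K J) := by
    haveI := g.exact
    infer_instance
  let e1 : ((ModSite.tensorBi O_C).obj (g.pull.obj L)).obj (g.pull.obj L') ≅ ModSite.unit O_C :=
    Groth.Agent.Lib.Helper21.HomI.pullTensorIso g L L' ≪≫ g.pull.mapIso e0 ≪≫
      Groth.Agent.Lib.Helper21.PullUnit.pullUnitIso g.sharpR
  let e2 : tL O_C (g.pull.obj L') ⋙ tL O_C (g.pull.obj L) ≅ 𝟭 (ModSite.Mod O_C) :=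
    (tLTensorIso O_C (g.pull.obj L) (g.pull.obj L')).symm ≪≫
      (ModSite.tensorBi O_C).mapIso e1 ≪≫ tLUnitIso O_C
  let e1' : ((ModSite.tensorBi O_C).obj (g.pull.obj L')).obj (g.pull.obj L) ≅ ModSite.unit O_C :=
    brdApp O_C (g.pull.obj L') (g.pull.obj L) ≪≫ e1
  let e3 : tL O_C (g.pull.obj L) ⋙ tL O_C (g.pull.obj L') ≅ 𝟭 (ModSite.Mod O_C) :=
    (tLTensorIso O_C (g.pull.obj L') (g.pull.obj L)).symm ≪≫
      (ModSite.tensorBi O_C).mapIso e1' ≪≫ tLUnitIso O_C
  exact (CategoryTheory.Equivalence.mk (tL O_C (g.pull.obj L)) (tL O_C (g.pull.obj L')) e3.symm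
    e2).isEquivalence_functor

/-- Let f : (X, O_X) → (Y, O_Y) be a morphism of ringed spaces and L an invertible O_Y-module, i.e. N ↦
L ⊗ N is an equivalence of Mod(O_Y). Then f^*L is an invertible O_X-module: M ↦ f^*L ⊗ M is an
equivalence of Mod(O_X). -/
theorem result {X Y : TopCat.{u}} (f : X ⟶ Y) (O_X : TopCat.Sheaf CommRingCat.{u} X)
    (O_Y : TopCat.Sheaf CommRingCat.{u} Y)
    (c : O_Y ⟶ ((TopologicalSpace.Opens.map f).sheafPushforwardContinuous CommRingCat.{u}
      (Opens.grothendieckTopology Y) (Opens.grothendieckTopology X)).obj O_X)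
    (L : ModSite.Mod O_Y) (hL : ((ModSite.tensorBi O_Y).obj L).IsEquivalence) :
    ((ModSite.tensorBi O_X).obj ((ModSite.RMor.ofFlat (TopologicalSpace.Opens.map f) c).pull.obj L)).IsEquivalence := by
  exact invertible_pull (ModSite.RMor.ofFlat (TopologicalSpace.Opens.map f) c) L hL

end Groth.Agent.S6853
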