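import Groth.Statements.S6854
import Mathlib
import Groth.Agent.Lib.Helper7Smoothing61

set_option autoImplicit false
set_option linter.style.haveILetI false
universe u
open Smoothing
open Function TensorProduct MvPolynomial KaehlerDifferential IsLocalRing
open Groth.Agent.Lib.Helper7.Smoothing

namespace Groth.Agent.S6854

/-- Let k be a field of characteristic p > 0 and Λ an Artinian local k-algebra with residue field K such
that H_1(L_{K/k}) is a finite-dimensional K-vector space. Then Λ is a filtered colimit (a directed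
union) of k-subalgebras A ⊆ Λ which are Artinian local and essentially of finite type over k, with A
→ Λ flat and m_A Λ = m_Λ; stated as: every finite subset of Λ is contained in such a subalgebra. -/
theorem result {k Λ : Type u} [Field k] (p : ℕ) [Fact p.Prime]
    [CharP k p] [CommRing Λ] [Algebra k Λ] [IsArtinianRing Λ] [IsLocalRing Λ]
    (hH : Module.Finite (IsLocalRing.ResidueField Λ) (Algebra.H1Cotangent k (IsLocalRing.ResidueField Λ)))
    (E : Finset Λ) :
    ∃ (A : Subalgebra k Λ) (_ : IsLocalRing A), (↑E : Set Λ) ⊆ A ∧ IsArtinianRing A ∧ Module.Flat A Λ ∧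
      Algebra.EssFiniteType k A ∧
      (IsLocalRing.maximalIdeal A).map (algebraMap A Λ) = IsLocalRing.maximalIdeal Λ := by
  classical
  haveI := hH
  -- characteristic `p` structures
  haveI : CharP (ResidueField Λ) p :=
    charP_of_injective_algebraMap (algebraMap k (ResidueField Λ)).injective p
  letI : Algebra (ZMod p) k := ZMod.algebra k p
  letI : Algebra (ZMod p) (ResidueField Λ) := ZMod.algebra (ResidueField Λ) p
  haveI : IsScalarTower (ZMod p) k (ResidueField Λ) :=
    IsScalarTower.of_algebraMap_eq' (Subsingleton.elim _ _)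
  letI : Algebra (ZMod p) Λ := ((algebraMap k Λ).comp (algebraMap (ZMod p) k)).toAlgebra
  haveI : IsScalarTower (ZMod p) k Λ := IsScalarTower.of_algebraMap_eq (fun _ => rfl)
  haveI : Algebra.FormallySmooth (ZMod p) (ResidueField Λ) :=
    Groth.Agent.Lib.Helper19.PBasis.formallySmooth_zmod p (ResidueField Λ)
  -- the differential basis
  obtain ⟨ι, y, hli, hspan⟩ := exists_differential_basis (ZMod p) k
  obtain ⟨s, hs⟩ := exists_finset_linearIndependent_compl (F := ZMod p) (k := k)
    (K := ResidueField Λ) y hli hspan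
  -- the section
  have hπsurj : Function.Surjective (residue Λ) := residue_surjective
  have hker₀ : RingHom.ker (residue Λ) = maximalIdeal Λ := ker_residue
  have hnil : IsNilpotent (RingHom.ker (residue Λ)) := by
    rw [hker₀, ← IsLocalRing.jacobson_eq_maximalIdeal ⊥ bot_ne_top]
    exact IsArtinianRing.isNilpotent_jacobson_bot
  have hπk : ∀ c : k, residue Λ (algebraMap k Λ c) = algebraMap k (ResidueField Λ) c :=
    fun _ => rfl
  obtain ⟨σ, hσπ, hσy⟩ := exists_section_extending (F := ZMod p) (residue Λ) hπsurj hnil hπk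
    (fun i : {i // i ∉ s} => y i) hs
  letI algKΛ : Algebra (ResidueField Λ) Λ := σ.toAlgebra
  let π : Λ →ₐ[ResidueField Λ] ResidueField Λ := { residue Λ with commutes' := hσπ }
  have hπ₀ : ∀ x, π x = residue Λ x := fun _ => rfl
  have hnil' : IsNilpotent (RingHom.ker (π : Λ →+* ResidueField Λ)) := hnil
  haveI : IsNoetherianRing Λ := inferInstance
  haveI : Module.Finite (ResidueField Λ) Λ := by
    refine Module.finite_of_surjective_of_ker_le_nilradical π hπsurj ?_
      (IsNoetherian.noetherian _)
    intro x hx
    have hx' : x ∈ RingHom.ker (residue Λ) := hx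
    obtain ⟨n, hn⟩ := hnil
    rw [mem_nilradical]
    refine ⟨n, ?_⟩
    have := Ideal.pow_mem_pow hx' n
    rw [hn, Ideal.zero_eq_bot, Ideal.mem_bot] at this
    exact this
  let b := Module.finBasis (ResidueField Λ) Λ
  obtain ⟨gs, hgs⟩ := (IsNoetherian.noetherian (maximalIdeal Λ) : (maximalIdeal Λ).FG)
  -- the finite sets
  let T : Finset Λ := {1} ∪ (Finset.univ ×ˢ Finset.univ).image (fun q => b q.1 * b q.2) ∪ E ∪ gs ∪
    s.image (fun j => algebraMap k Λ (y j))
  let S : Finset (ResidueField Λ) := Finset.univ.image (fun a => π (b a))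
  obtain ⟨s', hSs', hT⟩ := exists_intermediateField (k := k) b T S
  obtain ⟨F, hF⟩ : ∃ F : IntermediateField k (ResidueField Λ),
    F = IntermediateField.adjoin k (s' : Set (ResidueField Λ)) := ⟨_, rfl⟩
  rw [← hF] at hT
  haveI : Algebra.EssFiniteType k F := by
    rw [IntermediateField.essFiniteType_iff, hF]
    exact IntermediateField.fg_adjoin_finset s'
  have h1 : (1 : Λ) ∈ Submodule.span F (Set.range b) := hT 1 (by simp [T])
  have hmul : ∀ a a', b a * b a' ∈ Submodule.span F (Set.range b) := fun a a' => hT _ (by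
    simp only [T, Finset.mem_union, Finset.mem_image, Finset.mem_product, Finset.mem_univ,
      and_self, true_and, Prod.exists]
    exact Or.inl (Or.inl (Or.inl (Or.inr ⟨a, a', rfl⟩))))
  let R₀ := spanSubring b F h1 hmul
  have hbF : ∀ a, π (b a) ∈ F := fun a => by
    rw [hF]
    refine IntermediateField.subset_adjoin k _ (hSs' ?_)
    exact Finset.mem_image_of_mem _ (Finset.mem_univ a)
  have hFmem : ∀ c : ResidueField Λ, c ∈ F → algebraMap (ResidueField Λ) Λ c ∈ R₀ := by
    intro c hc
    change algebraMap (ResidueField Λ) Λ c ∈ Submodule.span F (Set.range b)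
    have : algebraMap (ResidueField Λ) Λ c = (⟨c, hc⟩ : F) • (1 : Λ) := by
      rw [Algebra.algebraMap_eq_smul_one]; rfl
    rw [this]
    exact Submodule.smul_mem _ _ h1
  have hkF : ∀ c : k, algebraMap k (ResidueField Λ) c ∈ F := fun c => F.algebraMap_mem c
  -- `k` lands in `R₀`
  have hkR₀ : ∀ c : k, algebraMap k Λ c ∈ R₀ := by
    refine algebraMap_mem_of_differential_basis p (residue Λ) hnil hπk y hli hspan R₀ ?_ ?_
    · intro i
      by_cases hi : i ∈ s
      · exact hT _ (by
          simp only [T, Finset.mem_union, Finset.mem_image]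
          exact Or.inr ⟨i, hi, rfl⟩)
      · rw [← hσy ⟨i, hi⟩]
        exact hFmem _ (hkF _)
    · intro c
      exact ⟨algebraMap (ResidueField Λ) Λ (algebraMap k (ResidueField Λ) c), hFmem _ (hkF c),
        hσπ _⟩
  let A : Subalgebra k Λ := { R₀.toSubsemiring with algebraMap_mem' := hkR₀ }
  have hA : ∀ x, x ∈ A ↔ x ∈ Submodule.span F (Set.range b) := fun x => Iff.rfl
  obtain ⟨hloc, hart, hflat, hess, hmax⟩ := subalgebra_props π hπk hnil' b F hbF A hA gs hgs.symm
    (fun x hx => hT x (by
      simp only [T, Finset.mem_union]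
      exact Or.inl (Or.inr hx)))
  refine ⟨A, hloc, ?_, hart, hflat, hess, hmax⟩
  intro x hx
  exact hT x (by
    simp only [T, Finset.mem_union]
    exact Or.inl (Or.inl (Or.inr hx)))


end Groth.Agent.S6854
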