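import Groth.Statements.S6858
import Groth.Agent.Lib.Helper21ModSp9

set_option autoImplicit false
universe u
open CategoryTheory CategoryTheory.Limits TopologicalSpace
open ModSite

namespace Groth.Agent.S6858

/-- Let (X, O) be a ringed space all of whose stalks O_{X,x} are nonzero rings and F a locally free
O-module. Then there is a locally constant function rank_F : X → ℕ ∪ {∞} such that for every point
x, every open neighbourhood U of x and every index set I with F|_U ≅ ⊕_{i ∈ I} O_U, the cardinality
of I (a natural number or ∞) is rank_F(x). -/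
theorem result {X : TopCat.{u}} (O : TopCat.Sheaf CommRingCat.{u} X)
    (hO : ∀ x : X, Nontrivial (O.presheaf.stalk x)) (F : ModSite.Mod O)
    [SheafOfModules.IsLocallyFree (R := ModSite.ringSh O) F] :
    ∃ rk : X → ℕ∞, IsLocallyConstant rk ∧
      ∀ (x : X) (U : Opens X) (I : Type u), x ∈ U →
        Nonempty ((ModSite.restr O U).obj F ≅ SheafOfModules.free I) → ENat.card I = rk x := by
  open Groth.Agent.Lib.Helper21.ModSp Groth.Agent.Lib.Helper21.LocFact Groth.Agent.Lib.Helper21 in
  classical
  obtain ⟨q, hq⟩ := (inferInstance :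
    SheafOfModules.IsLocallyFree (R := ModSite.ringSh O) F).exists_isLocallyFreeData
  have hcov : ∀ x : X, ∃ i, x ∈ q.X i := (coversTop_iff q.X).mp q.coversTop
  choose ix hix using hcov
  have hnt : ∀ (x : X) (V : Opens X), x ∈ V → Nontrivial (O.obj.obj (Opposite.op V)) := by
    intro x V hxV
    haveI hN : Nontrivial (ModSite.stalkRing (Opens.pointGrothendieckTopology x) O) :=
      nontrivial_stalkRing O x (hO x)
    let f : O.obj.obj (Opposite.op V) →+* ModSite.stalkRing (Opens.pointGrothendieckTopology x) O :=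
      ((Opens.pointGrothendieckTopology x).toPresheafFiber V ⟨⟨hxV⟩⟩ O.obj).hom
    exact f.domain_nontrivial
  have e₀ : ∀ i, Nonempty ((ModSite.restr O (q.X i)).obj F ≅
      FrI (O.over (q.X i)) (q.generators i).I) := fun i => by
    haveI := hq.isIso i
    exact ⟨(asIso (q.generators i).π).symm⟩
  have key : ∀ (x : X) (U : Opens X) (I : Type u), x ∈ U →
      Nonempty ((ModSite.restr O U).obj F ≅ SheafOfModules.free I) →
      ∀ i : q.I, x ∈ q.X i → ENat.card I = ENat.card (q.generators i).I := by
    intro x U I hxU h i hxi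
    obtain ⟨e⟩ := h
    obtain ⟨e'⟩ := e₀ i
    exact card_eq_of_free_iso (hnt x (U ⊓ q.X i) ⟨hxU, hxi⟩)
      ((trivRes (homOfLE inf_le_left : U ⊓ q.X i ⟶ U) e).symm ≪≫
        trivRes (homOfLE inf_le_right : U ⊓ q.X i ⟶ q.X i) e')
  refine ⟨fun x => ENat.card (q.generators (ix x)).I, ?_, ?_⟩
  · rw [IsLocallyConstant.iff_exists_open]
    intro x
    refine ⟨q.X (ix x), (q.X (ix x)).2, hix x, fun y hy => ?_⟩
    exact key y (q.X (ix y)) _ (hix y) (e₀ (ix y)) (ix x) hy
  · intro x U I hxU h
    exact key x U I hxU h (ix x) (hix x)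

end Groth.Agent.S6858
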