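import Groth.Statements.S6860
import Mathlib

set_option autoImplicit false
universe u
open Smoothing

namespace Groth.Agent.S6860

open MvPolynomial Algebra

variable {A : Type u} [CommRing A] {n : ℕ} (e : Fin n → A)

/-- the relations `X_j - C e_j` -/
noncomputable def vv : Fin n → MvPolynomial (Fin n) A := fun j => X j - C (e j)

theorem ker_aeval_eq : RingHom.ker (aeval e : MvPolynomial (Fin n) A →ₐ[A] A)
    = Ideal.span (Set.range (vv e)) := by
  apply le_antisymm
  · intro p hp
    have key : ∀ p : MvPolynomial (Fin n) A, p - C (aeval e p) ∈ Ideal.span (Set.range (vv e)) := by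
      intro p
      induction p using MvPolynomial.induction_on with
      | C a => simp
      | add p q hp hq =>
        have : p + q - C (aeval e (p + q)) = (p - C (aeval e p)) + (q - C (aeval e q)) := by
          rw [map_add, C_add]; ring
        rw [this]
        exact Ideal.add_mem _ hp hq
      | mul_X p j hp =>
        have : p * X j - C (aeval e (p * X j)) =
            (p - C (aeval e p)) * X j + C (aeval e p) * (X j - C (e j)) := by
          rw [map_mul, aeval_X, C_mul]; ring
        rw [this]
        refine Ideal.add_mem _ (Ideal.mul_mem_right _ _ hp) (Ideal.mul_mem_left _ _ ?_)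
        exact Ideal.subset_span ⟨j, rfl⟩
    have := key p
    rw [RingHom.mem_ker] at hp
    have hp' : (aeval e) p = 0 := hp
    rw [hp', C_0, sub_zero] at this
    exact this
  · rw [Ideal.span_le]
    rintro _ ⟨j, rfl⟩
    simp [vv, RingHom.mem_ker]

theorem aeval_surj : Function.Surjective (aeval e : MvPolynomial (Fin n) A →ₐ[A] A) :=
  fun a => ⟨C a, by simp⟩

noncomputable def quotEquiv : (MvPolynomial (Fin n) A ⧸ Ideal.span (Set.range (vv e))) ≃ₐ[A] A :=
  (Ideal.quotientEquivAlgOfEq A (ker_aeval_eq e).symm).trans
    (Ideal.quotientKerAlgEquivOfSurjective (aeval_surj e))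

theorem quotEquiv_mk (p : MvPolynomial (Fin n) A) :
    quotEquiv e (Ideal.Quotient.mk _ p) = aeval e p := by
  unfold quotEquiv
  rw [AlgEquiv.trans_apply, Ideal.quotientEquivAlgOfEq_mk, Ideal.quotientKerAlgEquivOfSurjective_mk]


/-- the pre-submersive presentation of the quotient -/
noncomputable def preQ :
    PreSubmersivePresentation A (MvPolynomial (Fin n) A ⧸ Ideal.span (Set.range (vv e))) (Fin n) (Fin n) :=
  PreSubmersivePresentation.naive (v := vv e) id Function.injective_id

theorem preQ_jacobian : (preQ e).jacobian = 1 := by
  classical
  rw [PreSubmersivePresentation.jacobian_eq_jacobiMatrix_det]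
  have : (preQ e).jacobiMatrix = 1 := by
    ext i j
    rw [preQ, PreSubmersivePresentation.jacobiMatrix_naive]
    simp only [vv, id_eq, map_sub, pderiv_X, pderiv_C, sub_zero, Matrix.one_apply]
    by_cases h : i = j
    · subst h; simp
    · simp [h, Ne.symm h, Pi.single_apply]
  rw [this, Matrix.det_one, map_one]

noncomputable def Qpres : SubmersivePresentation A A (Fin n) (Fin n) :=
  SubmersivePresentation.ofAlgEquiv
    { toPreSubmersivePresentation := preQ e
      jacobian_isUnit := by rw [preQ_jacobian]; exact isUnit_one } (quotEquiv e)

theorem Qpres_val (j : Fin n) : (Qpres e).val j = e j := by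
  simp only [Qpres, SubmersivePresentation.ofAlgEquiv_toPreSubmersivePresentation,
    PreSubmersivePresentation.ofAlgEquiv_toPresentation, Presentation.ofAlgEquiv_toGenerators,
    Generators.ofAlgEquiv_val, Function.comp_apply]
  have : (preQ e).val j = Ideal.Quotient.mk _ (X j) := rfl
  rw [this, quotEquiv_mk, aeval_X]

theorem Qpres_map (j : Fin n) : (Qpres e).map j = j := rfl

/-- Let R → A be standard smooth and E ⊆ A a finite subset. Then A admits a standard smooth presentation
A = R[x₁, …, x_N]/(f₁, …, f_c) (a submersive presentation: finitely many generators and relations,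
an injection from the relations to the variables picking the distinguished variables, and the
Jacobian of the relations with respect to the distinguished variables invertible in A) in which
every element of E is the class of a distinguished variable. (The published statement arranges E to
be exactly the classes of the first n = |E| variables, all of them distinguished, with c ≥ n; this
row states that E is contained in the set of classes of the distinguished variables, which is what
that arrangement gives.) -/
theorem result {R A : Type u} [CommRing R] [CommRing A] [Algebra R A]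
    [Algebra.IsStandardSmooth R A] (E : Finset A) :
    ∃ (ι σ : Type) (_ : Finite ι) (_ : Finite σ) (P : Algebra.SubmersivePresentation R A ι σ),
      (↑E : Set A) ⊆ Set.range (P.val ∘ P.map) := by
  obtain ⟨ι, σ, hσ, hι, ⟨P⟩⟩ := Algebra.IsStandardSmooth.out (R := R) (S := A)
  let ee : Fin E.card → A := fun j => (E.equivFin.symm j : A)
  refine ⟨Fin E.card ⊕ ι, Fin E.card ⊕ σ, inferInstance, inferInstance, (Qpres ee).comp P, ?_⟩
  intro x hx
  refine ⟨Sum.inl (E.equivFin ⟨x, hx⟩), ?_⟩
  simp only [Function.comp_apply]
  have h1 : ((Qpres ee).comp P).map (Sum.inl (E.equivFin ⟨x, hx⟩)) =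
      Sum.inl ((Qpres ee).map (E.equivFin ⟨x, hx⟩)) := rfl
  rw [h1, Qpres_map]
  have h2 : ((Qpres ee).comp P).val (Sum.inl (E.equivFin ⟨x, hx⟩)) =
      (Qpres ee).val (E.equivFin ⟨x, hx⟩) := rfl
  rw [h2, Qpres_val]
  simp [ee]

end Groth.Agent.S6860
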