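import Groth.Statements.S6861
import Groth.Agent.Lib.Helper13NeronBlow
-- import your own Groth.Agent.* helpers here

set_option autoImplicit false
universe u
open Smoothing

namespace Groth.Agent.S6861

set_option linter.style.haveILetI false
open IsLocalRing in

/-- Let R ⊆ Λ be an extension of discrete valuation rings of ramification index 1 (m_R Λ = m_Λ) whose
residue field extension is separable (geometrically reduced), π a uniformizer of R, A a flat
R-algebra of finite type with an R-algebra map A → Λ, and 𝔭 ⊆ A the inverse image of m_Λ. Assume R →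
A is smooth at 𝔭. Let A' = A[𝔭/π] ⊆ A_π be the affine blowup algebra (Néron's blowup) and A' → Λ the
induced map, i.e. the A-algebra map compatible with A_π → Λ_π (it exists and is unique; it is taken
as a datum here). Then R → A' is smooth at the inverse image 𝔭' of m_Λ in A'. (The source also gives
a short exact sequence relating the differentials of A and A' at 𝔭'; that part is not restated.) -/
theorem result {R Λ A : Type u} [CommRing R] [IsDomain R]
    [IsDiscreteValuationRing R] [CommRing Λ] [IsDomain Λ] [IsDiscreteValuationRing Λ] [Algebra R Λ]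
    [NoZeroSMulDivisors R Λ] [IsLocalHom (algebraMap R Λ)]
    (he : (IsLocalRing.maximalIdeal R).map (algebraMap R Λ) = IsLocalRing.maximalIdeal Λ)
    (hsep : Algebra.IsGeometricallyReduced (IsLocalRing.ResidueField R) (IsLocalRing.ResidueField Λ))
    [CommRing A] [Algebra R A] [Module.Flat R A] [Algebra.FiniteType R A] [Algebra A Λ] [IsScalarTower R A Λ]
    (π : R) (hπ : IsLocalRing.maximalIdeal R = Ideal.span {π})
    (hsm : Algebra.IsSmoothAt R ((IsLocalRing.maximalIdeal Λ).comap (algebraMap A Λ)))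
    (φ' : BlowUp.affineAlgebra A ((IsLocalRing.maximalIdeal Λ).comap (algebraMap A Λ)) (algebraMap R A π) →ₐ[A] Λ)
    (hφ' : ∀ a' : BlowUp.affineAlgebra A ((IsLocalRing.maximalIdeal Λ).comap (algebraMap A Λ)) (algebraMap R A π),
      algebraMap Λ (Localization.Away (algebraMap A Λ (algebraMap R A π))) (φ' a') =
        Localization.awayMap (algebraMap A Λ) (algebraMap R A π) a'.val) :
    Algebra.IsSmoothAt R ((IsLocalRing.maximalIdeal Λ).comap φ'.toRingHom) := by
  obtain ⟨𝔭, h𝔭⟩ : ∃ 𝔭 : Ideal A, 𝔭 = (maximalIdeal Λ).comap (algebraMap A Λ) := ⟨_, rfl⟩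
  haveI h𝔭prime : 𝔭.IsPrime := by
    rw [h𝔭]
    infer_instance
  -- the uniformizer of Λ
  obtain ⟨ϖ, hϖ⟩ : ∃ ϖ : Λ, ϖ = algebraMap R Λ π := ⟨_, rfl⟩
  have hmΛ : maximalIdeal Λ = Ideal.span {ϖ} := by
    rw [← he, hπ, Ideal.map_span, Set.image_singleton, hϖ]
  have hϖm : ϖ ∈ maximalIdeal Λ := by
    rw [hmΛ]
    exact Ideal.mem_span_singleton_self ϖ
  have hϖ0 : ϖ ≠ 0 := by
    intro h0
    apply IsDiscreteValuationRing.not_a_field Λ
    rw [hmΛ, h0, Ideal.span_singleton_eq_bot]
  have ha : algebraMap R A π ∈ 𝔭 := by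
    rw [h𝔭, Ideal.mem_comap, ← IsScalarTower.algebraMap_apply, ← hϖ]
    exact hϖm
  -- the local homomorphism `A_𝔭 → Λ`
  have hmem𝔭 : ∀ z : A, z ∈ 𝔭 ↔ algebraMap A Λ z ∈ maximalIdeal Λ := fun z => by
    rw [h𝔭, Ideal.mem_comap]
  have hunits : ∀ y : 𝔭.primeCompl, IsUnit (algebraMap A Λ y) := by
    intro y
    have hy : algebraMap A Λ (y : A) ∉ maximalIdeal Λ := fun hh => y.2 ((hmem𝔭 _).2 hh)
    exact IsLocalRing.notMem_maximalIdeal.1 hy
  obtain ⟨ψ, hψ⟩ : ∃ ψ : Localization.AtPrime 𝔭 →+* Λ,
      ∀ x, ψ (algebraMap A (Localization.AtPrime 𝔭) x) = algebraMap A Λ x :=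
    ⟨IsLocalization.lift hunits, fun x => IsLocalization.lift_eq hunits x⟩
  have hψR : ∀ r : R, ψ (algebraMap R (Localization.AtPrime 𝔭) r) = algebraMap R Λ r := by
    intro r
    rw [IsScalarTower.algebraMap_apply R A (Localization.AtPrime 𝔭), hψ,
      ← IsScalarTower.algebraMap_apply]
  have hψmax : (maximalIdeal (Localization.AtPrime 𝔭)).map ψ ≤ maximalIdeal Λ := by
    rw [← Localization.AtPrime.map_eq_maximalIdeal (I := 𝔭), Ideal.map_map,
      Ideal.map_le_iff_le_comap]
    intro x hx
    rw [Ideal.mem_comap, RingHom.comp_apply, hψ]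
    exact (hmem𝔭 x).1 hx
  haveI hψloc : IsLocalHom ψ := ((IsLocalRing.local_hom_TFAE ψ).out 0 2).2 hψmax
  haveI hRB : IsLocalHom (algebraMap R (Localization.AtPrime 𝔭)) := by
    constructor
    intro r hr
    have h1 : IsUnit (algebraMap R Λ r) := by
      rw [← hψR]
      exact hr.map ψ
    exact isUnit_of_map_unit (algebraMap R Λ) r h1
  -- separability
  have hsep' : Algebra.FormallySmooth (ResidueField R)
      (ResidueField (Localization.AtPrime 𝔭)) := by
    let f : ResidueField (Localization.AtPrime 𝔭) →ₐ[ResidueField R] ResidueField Λ :=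
      { toRingHom := ResidueField.map ψ
        commutes' := by
          intro x
          obtain ⟨r, rfl⟩ := IsLocalRing.residue_surjective x
          show ResidueField.map ψ (ResidueField.map (algebraMap R (Localization.AtPrime 𝔭))
            (residue R r)) = ResidueField.map (algebraMap R Λ) (residue R r)
          rw [ResidueField.map_residue, ResidueField.map_residue, ResidueField.map_residue, hψR] }
    haveI := hsep
    haveI : Algebra.IsGeometricallyReduced (ResidueField R)
        (ResidueField (Localization.AtPrime 𝔭)) :=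
      Algebra.IsGeometricallyReduced.of_injective f (RingHom.injective f.toRingHom)
    exact Groth.Agent.Lib.Helper19.PBasis.formallySmooth_field_iff.2 inferInstance
  -- `π ∉ m²`
  have hπ2 : algebraMap A (Localization.AtPrime 𝔭) (algebraMap R A π) ∉
      maximalIdeal (Localization.AtPrime 𝔭) ^ 2 := by
    intro hmem
    have h1 : ψ (algebraMap A (Localization.AtPrime 𝔭) (algebraMap R A π)) ∈
        (maximalIdeal (Localization.AtPrime 𝔭) ^ 2).map ψ := Ideal.mem_map_of_mem _ hmem
    rw [hψ, ← IsScalarTower.algebraMap_apply, ← hϖ, Ideal.map_pow] at h1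
    have h2 : ϖ ∈ maximalIdeal Λ ^ 2 := Ideal.pow_right_mono hψmax 2 h1
    rw [hmΛ, Ideal.span_singleton_pow, Ideal.mem_span_singleton] at h2
    obtain ⟨t, ht⟩ := h2
    have h3 : ϖ * (1 - ϖ * t) = 0 := by
      rw [mul_sub, mul_one, ← mul_assoc, ← pow_two, ← ht, sub_self]
    rcases mul_eq_zero.1 h3 with h4 | h4
    · exact hϖ0 h4
    · have h5 : IsUnit ϖ := IsUnit.of_mul_eq_one t (sub_eq_zero.1 h4).symm
      exact (IsLocalRing.mem_maximalIdeal ϖ).1 hϖm h5
  subst h𝔭
  refine Groth.Agent.Helper13NeronBlow.isSmoothAt_affineAlgebra π hπ (algebraMap R A π) rfl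
    ((maximalIdeal Λ).comap (algebraMap A Λ)) ha hsm hsep' hπ2 _ ?_
  ext x
  rw [Ideal.mem_comap, Ideal.mem_comap, Ideal.mem_comap]
  show φ' (algebraMap A _ x) ∈ maximalIdeal Λ ↔ _
  rw [φ'.commutes]

end Groth.Agent.S6861
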