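import Groth.Statements.S6862
import Mathlib.RingTheory.Finiteness.Prod
-- import your own Groth.Agent.* helpers here

set_option autoImplicit false
universe u
open CAlg

namespace Groth.Agent.S6862

section aux

variable {R : Type u} [CommRing R]

theorem isStablyFree_prod {A C : Type u} [AddCommGroup A] [Module R A] [AddCommGroup C] [Module R C]
    (hA : Module.IsStablyFree R A) (hC : Module.IsStablyFree R C) :
    Module.IsStablyFree R (A × C) := by
  obtain ⟨NA, _, _, _, _, _⟩ := Module.IsStablyFree.exist_free_prod R A
  obtain ⟨NC, _, _, _, _, _⟩ := Module.IsStablyFree.exist_free_prod R C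
  have : Module.Free R ((A × C) × (NA × NC)) :=
    Module.Free.of_equiv (LinearEquiv.prodProdProdComm R A NA C NC)
  exact Module.IsStablyFree.of_free_prod R (A × C) (NA × NC)

theorem isStablyFree_of_prod {A C : Type u} [AddCommGroup A] [Module R A] [Module.Finite R A]
    [AddCommGroup C] [Module R C]
    (hA : Module.IsStablyFree R A) (hAC : Module.IsStablyFree R (A × C)) :
    Module.IsStablyFree R C := by
  obtain ⟨NA, _, _, _, _, _⟩ := Module.IsStablyFree.exist_free_prod R A
  obtain ⟨N, _, _, _, _, _⟩ := Module.IsStablyFree.exist_free_prod R (A × C)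
  -- `C × ((A × NA) × N) ≃ ((A × C) × N) × NA`
  let e1 : (C × ((A × NA) × N)) ≃ₗ[R] (C × ((A × N) × NA)) :=
    LinearEquiv.prodCongr (LinearEquiv.refl R C)
      ((LinearEquiv.prodAssoc R A NA N).trans
        ((LinearEquiv.prodCongr (LinearEquiv.refl R A) (LinearEquiv.prodComm R NA N)).trans
          (LinearEquiv.prodAssoc R A N NA).symm))
  let e2 : (C × ((A × N) × NA)) ≃ₗ[R] ((C × (A × N)) × NA) :=
    (LinearEquiv.prodAssoc R C (A × N) NA).symm
  let e3 : ((C × (A × N)) × NA) ≃ₗ[R] (((A × C) × N) × NA) :=
    LinearEquiv.prodCongr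
      ((LinearEquiv.prodAssoc R C A N).symm.trans
        (LinearEquiv.prodCongr (LinearEquiv.prodComm R C A) (LinearEquiv.refl R N)))
      (LinearEquiv.refl R NA)
  have : Module.Free R (C × ((A × NA) × N)) :=
    Module.Free.of_equiv ((e1.trans (e2.trans e3)).symm)
  exact Module.IsStablyFree.of_free_prod R C ((A × NA) × N)

end aux

/-- Let `R` be a commutative ring and `P'`, `P`, `P''` finitely generated projective `R`-modules in an
exact sequence `0 → P' → P → P'' → 0`. Whenever two of the three are stably free, the remaining one
is stably free too (all three cases are stated). -/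
theorem result {R : Type u} [CommRing R] {P' P P'' : Type u}
    [AddCommGroup P'] [Module R P'] [Module.Finite R P'] [Module.Projective R P']
    [AddCommGroup P] [Module R P] [Module.Finite R P] [Module.Projective R P]
    [AddCommGroup P''] [Module R P''] [Module.Finite R P''] [Module.Projective R P'']
    (f : P' →ₗ[R] P) (g : P →ₗ[R] P'') (hf : Function.Injective f) (hg : Function.Surjective g)
    (hfg : Function.Exact f g) :
    (Module.IsStablyFree R P' → Module.IsStablyFree R P → Module.IsStablyFree R P'') ∧
    (Module.IsStablyFree R P' → Module.IsStablyFree R P'' → Module.IsStablyFree R P) ∧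
    (Module.IsStablyFree R P → Module.IsStablyFree R P'' → Module.IsStablyFree R P') := by
  obtain ⟨l, hl⟩ := Module.projective_lifting_property g LinearMap.id hg
  let e : P ≃ₗ[R] P' × P'' := (hfg.splitSurjectiveEquiv hf ⟨l, hl⟩).1
  refine ⟨fun h' h => ?_, fun h' h'' => ?_, fun h h'' => ?_⟩
  · exact isStablyFree_of_prod h' (Module.IsStablyFree.equiv e)
  · have := isStablyFree_prod h' h''
    exact Module.IsStablyFree.equiv e.symm
  · have : Module.IsStablyFree R (P'' × P') :=
      Module.IsStablyFree.equiv (e.trans (LinearEquiv.prodComm R P' P''))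
    exact isStablyFree_of_prod h'' this

end Groth.Agent.S6862
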