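import Groth.Statements.S6864
import Mathlib.RingTheory.Nakayama
import Mathlib.LinearAlgebra.TensorProduct.Quotient
import Mathlib.RingTheory.TensorProduct.Basic
-- import your own Groth.Agent.* helpers here

set_option autoImplicit false
universe u
open TensorProduct
open CAlg

namespace Groth.Agent.S6864

section aux

open TensorProduct

variable {R : Type u} [CommRing R] (I : Ideal R)

theorem one_tmul_eq_zero_iff {M : Type u} [AddCommGroup M] [Module R M] (x : M) :
    ((1 : R ⧸ I) ⊗ₜ[R] x = 0) ↔ x ∈ (I • ⊤ : Submodule R M) := by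
  rw [← (TensorProduct.quotTensorEquivQuotSMul M I).map_eq_zero_iff,
    TensorProduct.quotTensorEquivQuotSMul_mk_one_tmul, Submodule.Quotient.mk_eq_zero]

theorem surjective_of_baseChange_surjective (hI : I ≤ Ideal.jacobson (⊥ : Ideal R)) {P P' : Type u}
    [AddCommGroup P] [Module R P] [AddCommGroup P'] [Module R P'] [Module.Finite R P']
    (φ : P →ₗ[R] P') (h : Function.Surjective (φ.baseChange (R ⧸ I))) : Function.Surjective φ := by
  apply LinearMap.surjective_of_surjective_comp_mkQ φ I hI
  intro y'
  obtain ⟨y, rfl⟩ := Submodule.Quotient.mk_surjective _ y'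
  obtain ⟨t, ht⟩ := h ((1 : R ⧸ I) ⊗ₜ[R] y)
  obtain ⟨x, rfl⟩ := TensorProduct.mk_surjective R P (R ⧸ I) Ideal.Quotient.mk_surjective t
  refine ⟨x, ?_⟩
  have h1 : (1 : R ⧸ I) ⊗ₜ[R] (φ x - y) = 0 := by
    rw [TensorProduct.tmul_sub, sub_eq_zero, ← ht]
    simp
  rw [one_tmul_eq_zero_iff] at h1
  rw [LinearMap.comp_apply, Submodule.mkQ_apply, Submodule.Quotient.eq]
  exact h1

theorem injective_of_baseChange_injective_of_surjective (hI : I ≤ Ideal.jacobson (⊥ : Ideal R))
    {P P' : Type u} [AddCommGroup P] [Module R P] [Module.Finite R P]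
    [AddCommGroup P'] [Module R P'] [Module.Projective R P']
    (φ : P →ₗ[R] P') (hs : Function.Surjective φ)
    (h : Function.Injective (φ.baseChange (R ⧸ I))) : Function.Injective φ := by
  obtain ⟨s, hsec⟩ := Module.projective_lifting_property φ LinearMap.id hs
  have hsec' : ∀ y, φ (s y) = y := fun y => LinearMap.congr_fun hsec y
  let π : P →ₗ[R] P := LinearMap.id - s ∘ₗ φ
  have hπK : ∀ x, φ (π x) = 0 := by
    intro x
    simp [π, hsec']
  have hπid : ∀ x, φ x = 0 → π x = x := by
    intro x hx
    simp [π, hx]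
  have hK : LinearMap.ker φ = Submodule.map π ⊤ := by
    ext x
    constructor
    · intro hx
      exact ⟨x, trivial, hπid x hx⟩
    · rintro ⟨z, -, rfl⟩
      exact hπK z
  have hfg : (LinearMap.ker φ).FG := by
    rw [hK]
    exact (Module.finite_def.mp inferInstance).map π
  have hle : LinearMap.ker φ ≤ I • LinearMap.ker φ := by
    intro x hx
    have hx0 : φ x = 0 := hx
    have h1 : (1 : R ⧸ I) ⊗ₜ[R] x = 0 := by
      apply h
      rw [LinearMap.baseChange_tmul, hx0, TensorProduct.tmul_zero, map_zero]
    rw [one_tmul_eq_zero_iff] at h1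
    rw [hK, ← Submodule.map_smul'']
    exact ⟨x, h1, hπid x hx0⟩
  have hbot := Submodule.eq_bot_of_le_smul_of_le_jacobson_bot I _ hfg hle hI
  exact LinearMap.ker_eq_bot.mp hbot

end aux

/-- Let `I` be an ideal of a commutative ring `R` contained in the Jacobson radical and let `φ : P → P'`
be an `R`-linear map between finite projective `R`-modules. If the induced map `P/IP → P'/IP'` is
bijective, then `φ` is bijective. -/
theorem result {R : Type u} [CommRing R] (I : Ideal R)
    (hI : I ≤ Ideal.jacobson (⊥ : Ideal R)) {P P' : Type u}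
    [AddCommGroup P] [Module R P] [Module.Finite R P] [Module.Projective R P]
    [AddCommGroup P'] [Module R P'] [Module.Finite R P'] [Module.Projective R P'] (φ : P →ₗ[R] P')
    (h : Function.Bijective (φ.baseChange (R ⧸ I))) : Function.Bijective φ := by
  have hs := surjective_of_baseChange_surjective I hI φ h.2
  exact ⟨injective_of_baseChange_injective_of_surjective I hI φ hs h.1, hs⟩

end Groth.Agent.S6864
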