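import Groth.Statements.S6863
import Groth.Agent.S6864
import Mathlib.RingTheory.TensorProduct.Free
import Mathlib.RingTheory.Finiteness.Prod
import Mathlib.LinearAlgebra.FreeModule.Finite.Basic
-- import your own Groth.Agent.* helpers here

set_option autoImplicit false
universe u
open TensorProduct
open CAlg

namespace Groth.Agent.S6863

/-- Let `I` be an ideal of a commutative ring `R` contained in the Jacobson radical (equivalently, `1 +
i` is a unit for each `i ∈ I`). Then each finitely generated stably free module `E` over `R/I`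
lifts: there is a finite stably free `R`-module `M` with `M/IM ≅ E` (existence of an isomorphism
only; the published statement names no map). -/
theorem result {R : Type u} [CommRing R] (I : Ideal R)
    (hI : I ≤ Ideal.jacobson (⊥ : Ideal R)) (E : Type u) [AddCommGroup E] [Module (R ⧸ I) E]
    [Module.Finite (R ⧸ I) E] [Module.IsStablyFree (R ⧸ I) E] :
    ∃ (M : Type u) (_ : AddCommGroup M) (_ : Module R M), Module.Finite R M ∧ Module.IsStablyFree R M ∧
      Nonempty ((R ⧸ I) ⊗[R] M ≃ₗ[R ⧸ I] E) := by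
  classical
  obtain ⟨N, _, _, _, _, hfree⟩ := Module.IsStablyFree.exist_free_prod (R ⧸ I) E
  let ιF := Module.Free.ChooseBasisIndex (R ⧸ I) (E × N)
  let ιG := Module.Free.ChooseBasisIndex (R ⧸ I) N
  let b := Module.Free.chooseBasis (R ⧸ I) (E × N)
  let bN := Module.Free.chooseBasis (R ⧸ I) N
  let F := ιF → R
  let G := ιG → R
  let ψF : (R ⧸ I) ⊗[R] F ≃ₗ[R ⧸ I] (E × N) :=
    (Algebra.TensorProduct.basis (R ⧸ I) (Pi.basisFun R ιF)).equiv b (Equiv.refl _)
  let ψG : (R ⧸ I) ⊗[R] G ≃ₗ[R ⧸ I] N :=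
    (Algebra.TensorProduct.basis (R ⧸ I) (Pi.basisFun R ιG)).equiv bN (Equiv.refl _)
  let πbar : (R ⧸ I) ⊗[R] F →ₗ[R ⧸ I] (R ⧸ I) ⊗[R] G :=
    ψG.symm.toLinearMap ∘ₗ LinearMap.snd (R ⧸ I) E N ∘ₗ ψF.toLinearMap
  have hπbar : ∀ u, ψG (πbar u) = (ψF u).2 := by
    intro u
    simp [πbar]
  have hπbar_surj : Function.Surjective πbar :=
    ψG.symm.surjective.comp ((LinearMap.snd_surjective (R := R ⧸ I) (M := E) (M₂ := N)).comp ψF.surjective)
  have hmkG : Function.Surjective (TensorProduct.mk R (R ⧸ I) G 1) :=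
    TensorProduct.mk_surjective R G (R ⧸ I) Ideal.Quotient.mk_surjective
  have hmkF : Function.Surjective (TensorProduct.mk R (R ⧸ I) F 1) :=
    TensorProduct.mk_surjective R F (R ⧸ I) Ideal.Quotient.mk_surjective
  obtain ⟨π, hπ⟩ := Module.projective_lifting_property (TensorProduct.mk R (R ⧸ I) G 1)
    ((πbar.restrictScalars R) ∘ₗ (TensorProduct.mk R (R ⧸ I) F 1)) hmkG
  have hπ' : ∀ x : F, (1 : R ⧸ I) ⊗ₜ[R] π x = πbar ((1 : R ⧸ I) ⊗ₜ[R] x) := fun x =>
    LinearMap.congr_fun hπ x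
  have hbc : π.baseChange (R ⧸ I) = πbar := by
    apply TensorProduct.AlgebraTensorModule.ext
    intro a x
    have ha : a ⊗ₜ[R] x = a • ((1 : R ⧸ I) ⊗ₜ[R] x) := by
      rw [TensorProduct.smul_tmul', smul_eq_mul, mul_one]
    have ha' : a ⊗ₜ[R] π x = a • ((1 : R ⧸ I) ⊗ₜ[R] π x) := by
      rw [TensorProduct.smul_tmul', smul_eq_mul, mul_one]
    rw [LinearMap.baseChange_tmul, ha', hπ', ha, map_smul]
  have hπsurj : Function.Surjective π :=
    Groth.Agent.S6864.surjective_of_baseChange_surjective I hI π (hbc ▸ hπbar_surj)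
  obtain ⟨s, hs⟩ := Module.projective_lifting_property π LinearMap.id hπsurj
  have hs' : ∀ y, π (s y) = y := fun y => LinearMap.congr_fun hs y
  let M := LinearMap.ker π
  have hexact : Function.Exact M.subtype π := LinearMap.exact_subtype_ker_map π
  let eF : F ≃ₗ[R] M × G := (hexact.splitSurjectiveEquiv M.subtype_injective ⟨s, hs⟩).1
  have heF : M.subtype = eF.symm.toLinearMap ∘ₗ LinearMap.inl R M G :=
    (hexact.splitSurjectiveEquiv M.subtype_injective ⟨s, hs⟩).2.1
  refine ⟨M, inferInstance, inferInstance, ?_, ?_, ?_⟩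
  · exact Module.Finite.of_surjective (LinearMap.fst R M G ∘ₗ eF.toLinearMap)
      ((LinearMap.fst_surjective (R := R) (M := M) (M₂ := G)).comp eF.surjective)
  · have : Module.Free R (M × G) := Module.Free.of_equiv eF
    exact Module.IsStablyFree.of_free_prod R M G
  · let ι : (R ⧸ I) ⊗[R] M →ₗ[R ⧸ I] (R ⧸ I) ⊗[R] F := M.subtype.baseChange (R ⧸ I)
    let r : F →ₗ[R] M := LinearMap.fst R M G ∘ₗ eF.toLinearMap
    have hr : r ∘ₗ M.subtype = LinearMap.id := by
      rw [heF]
      ext m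
      simp [r]
    have hι_inj : Function.Injective ι := by
      have hli : Function.LeftInverse (r.baseChange (R ⧸ I)) ι := by
        intro t
        have : (r.baseChange (R ⧸ I)) (ι t) = ((r ∘ₗ M.subtype).baseChange (R ⧸ I)) t :=
          (LinearMap.congr_fun
            (LinearMap.baseChange_comp (A := R ⧸ I) (f := M.subtype) r) t).symm
        rw [this, hr, LinearMap.baseChange_id]
        rfl
      exact hli.injective
    have hπι : ∀ t, πbar (ι t) = 0 := by
      intro t
      have : πbar (ι t) = ((π ∘ₗ M.subtype).baseChange (R ⧸ I)) t := by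
        rw [← hbc]
        exact (LinearMap.congr_fun
            (LinearMap.baseChange_comp (A := R ⧸ I) (f := M.subtype) π) t).symm
      rw [this]
      have h0 : π ∘ₗ M.subtype = 0 :=
        LinearMap.ext fun m => LinearMap.mem_ker.mp m.2
      rw [h0, LinearMap.baseChange_zero]
      rfl
    let θ : (R ⧸ I) ⊗[R] M →ₗ[R ⧸ I] E :=
      LinearMap.fst (R ⧸ I) E N ∘ₗ ψF.toLinearMap ∘ₗ ι
    refine ⟨LinearEquiv.ofBijective θ ⟨?_, ?_⟩⟩
    · rw [← LinearMap.ker_eq_bot, Submodule.eq_bot_iff]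
      intro t ht
      have h1 : (ψF (ι t)).1 = 0 := ht
      have h2 : (ψF (ι t)).2 = 0 := by
        rw [← hπbar, hπι, map_zero]
      have h3 : ψF (ι t) = 0 := Prod.ext h1 h2
      have h4 : ι t = 0 := by
        rwa [LinearEquiv.map_eq_zero_iff] at h3
      exact hι_inj (h4.trans (map_zero ι).symm)
    · intro x
      obtain ⟨f, hf⟩ := hmkF (ψF.symm (x, 0))
      have hf' : (1 : R ⧸ I) ⊗ₜ[R] f = ψF.symm (x, 0) := hf
      have h1 : πbar ((1 : R ⧸ I) ⊗ₜ[R] f) = 0 := by
        apply ψG.injective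
        rw [hπbar, hf', LinearEquiv.apply_symm_apply, map_zero]
      have h2 : (1 : R ⧸ I) ⊗ₜ[R] π f = 0 := by rw [hπ', h1]
      have h3 : (1 : R ⧸ I) ⊗ₜ[R] s (π f) = 0 := by
        have : (s.baseChange (R ⧸ I)) ((1 : R ⧸ I) ⊗ₜ[R] π f) = (1 : R ⧸ I) ⊗ₜ[R] s (π f) :=
          LinearMap.baseChange_tmul _ _ _
        rw [← this, h2, map_zero]
      have hmem : f - s (π f) ∈ M := by
        change π (f - s (π f)) = 0
        rw [map_sub, hs', sub_self]
      refine ⟨(1 : R ⧸ I) ⊗ₜ[R] (⟨f - s (π f), hmem⟩ : M), ?_⟩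
      have h4 : ι ((1 : R ⧸ I) ⊗ₜ[R] (⟨f - s (π f), hmem⟩ : M)) = ψF.symm (x, 0) := by
        change (M.subtype.baseChange (R ⧸ I)) _ = _
        rw [LinearMap.baseChange_tmul]
        change (1 : R ⧸ I) ⊗ₜ[R] (f - s (π f)) = _
        rw [TensorProduct.tmul_sub, h3, sub_zero, hf']
      change (ψF (ι _)).1 = x
      rw [h4, LinearEquiv.apply_symm_apply]

end Groth.Agent.S6863
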