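import Groth.Statements.S6866
import Groth.Agent.Lib.Helper10TF
-- import your own Groth.Agent.* helpers here

set_option autoImplicit false
universe u
open TensorProduct
open CAlg

namespace Groth.Agent.S6866

/-- If `M` is a torsion free module over a domain `R` and `R → R'` is a flat ring map to another domain,
then `R' ⊗_R M` is torsion free over `R'`. -/
theorem result (R R' : Type u) [CommRing R] [IsDomain R] [CommRing R']
    [IsDomain R'] [Algebra R R'] [Module.Flat R R'] (M : Type u) [AddCommGroup M] [Module R M]
    [Module.IsTorsionFree R M] : Module.IsTorsionFree R' (R' ⊗[R] M) := by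
  classical
  rw [Module.isTorsionFree_iff_smul_eq_zero]
  intro r' t hrt
  by_cases hr' : r' = 0
  · exact Or.inl hr'
  right
  obtain ⟨N', hfin, hN'⟩ := TensorProduct.exists_finite_submodule_right_of_setFinite
    ({t} : Set (R' ⊗[R] M)) (Set.finite_singleton t)
  obtain ⟨t', ht'⟩ := hN' (Set.mem_singleton t)
  have : Module.IsTorsionFree R N' :=
    N'.injective_subtype.moduleIsTorsionFree N'.subtype (fun r m => map_smul _ r m)
  obtain ⟨n, f, hf⟩ := Groth.Agent.Lib.Helper10.exists_injective_of_isTorsionFree R N'
  have hinj1 : Function.Injective (N'.subtype.baseChange R') :=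
    Module.Flat.lTensor_preserves_injective_linearMap (M := R') N'.subtype N'.injective_subtype
  have hinj2 : Function.Injective (f.baseChange R') :=
    Module.Flat.lTensor_preserves_injective_linearMap (M := R') f hf
  have ht'' : (N'.subtype.baseChange R') t' = t := ht'
  have h1 : r' • t' = 0 := by
    apply hinj1
    rw [map_smul, ht'', hrt, map_zero]
  let Φ : R' ⊗[R] N' →ₗ[R'] (Fin n → R') :=
    (TensorProduct.piScalarRight R R' R' (Fin n)).toLinearMap ∘ₗ f.baseChange R'
  have hΦ : Function.Injective Φ :=
    (TensorProduct.piScalarRight R R' R' (Fin n)).injective.comp hinj2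
  have h2 : r' • Φ t' = 0 := by
    rw [← map_smul, h1, map_zero]
  have h3 : Φ t' = 0 := by
    rcases smul_eq_zero.mp h2 with h | h
    · exact absurd h hr'
    · exact h
  have h4 : t' = 0 := hΦ (h3.trans (map_zero Φ).symm)
  rw [← ht'', h4, map_zero]

end Groth.Agent.S6866
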