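import Groth.Statements.S6869
import Groth.Agent.Lib.Helper10TF
-- import your own Groth.Agent.* helpers here

set_option autoImplicit false
universe u
open CAlg

namespace Groth.Agent.S6869

/-- For a domain `R` and a finite `R`-module `M`, the evaluation map `M → M**` into the double dual is
injective exactly when `M` is torsion free. -/
theorem result (R : Type u) [CommRing R] [IsDomain R] (M : Type u)
    [AddCommGroup M] [Module R M] [Module.Finite R M] :
    Function.Injective (Module.Dual.eval R M) ↔ Module.IsTorsionFree R M := by
  constructor
  · intro h
    have : Module.IsTorsionFree R (Module.Dual R (Module.Dual R M)) := by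
      refine Function.Injective.moduleIsTorsionFree
        (fun (y : Module.Dual R (Module.Dual R M)) => (fun f => y f : Module.Dual R M → R))
        (fun y y' hyy' => LinearMap.ext fun f => congrFun hyy' f) (fun r y => ?_)
      funext f
      simp
    exact h.moduleIsTorsionFree (Module.Dual.eval R M) (fun r m => map_smul _ r m)
  · intro h
    obtain ⟨n, f, hf⟩ := Groth.Agent.Lib.Helper10.exists_injective_of_isTorsionFree R M
    rw [← LinearMap.ker_eq_bot, Submodule.eq_bot_iff]
    intro m hm
    apply hf
    rw [map_zero]
    funext i
    have h1 : Module.Dual.eval R M m ((LinearMap.proj i : (Fin n → R) →ₗ[R] R) ∘ₗ f) = 0 := by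
      have hm' : Module.Dual.eval R M m = 0 := hm
      rw [hm']
      rfl
    exact h1

end Groth.Agent.S6869
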