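import Groth.Statements.S6870
import Mathlib
-- import your own Groth.Agent.* helpers here

set_option autoImplicit false
universe u
open CAlg

namespace Groth.Agent.S6870

/-- Let `R` be a domain, `M` a finite `R`-module and `j : M → M**` the evaluation map into the double
dual. Then one nonzero `c ∈ R` kills the kernel of `j` and multiplies `M**` into the image of `j`.
(The published statement says only that the kernel and cokernel of `j` are torsion; this row gives
one such `c` for both.) -/
theorem result (R : Type u) [CommRing R] [IsDomain R] (M : Type u)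
    [AddCommGroup M] [Module R M] [Module.Finite R M] :
    ∃ c : R, c ≠ 0 ∧ (∀ x : M, Module.Dual.eval R M x = 0 → c • x = 0) ∧
      ∀ y : Module.Dual R (Module.Dual R M), c • y ∈ LinearMap.range (Module.Dual.eval R M) := by
  classical
  obtain ⟨k, g, hg⟩ := Module.Finite.exists_fin (R := R) (M := M)
  obtain ⟨s, hs, hmax⟩ := exists_maximal_linearIndepOn R g
  -- the free submodule
  let v : s → M := fun i => g i
  have hv : LinearIndependent R v := hs
  set F : Submodule R M := Submodule.span R (Set.range v) with hF
  have hFs : Submodule.span R (g '' s) = F := by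
    rw [hF]; congr 1; ext z; simp [v]
  -- the constant
  have hex : ∀ i : Fin k, ∃ a : R, a ≠ 0 ∧ a • g i ∈ F := by
    intro i
    by_cases hi : i ∈ s
    · exact ⟨1, one_ne_zero, by rw [one_smul]; exact Submodule.subset_span ⟨⟨i, hi⟩, rfl⟩⟩
    · obtain ⟨a, ha, h⟩ := hmax i hi
      exact ⟨a, ha, hFs ▸ h⟩
  choose a ha haF using hex
  let c : R := ∏ i, a i
  have hc0 : c ≠ 0 := Finset.prod_ne_zero_iff.mpr fun i _ => ha i
  have hcg : ∀ i, c • g i ∈ F := by
    intro i
    have : c = (∏ j ∈ Finset.univ.erase i, a j) * a i := by
      rw [Finset.prod_erase_mul _ _ (Finset.mem_univ i)]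
    rw [this, mul_smul]
    exact F.smul_mem _ (haF i)
  have hc : ∀ x : M, c • x ∈ F := by
    intro x
    have hx : x ∈ Submodule.span R (Set.range g) := by rw [hg]; trivial
    induction hx using Submodule.span_induction with
    | mem z hz => obtain ⟨i, rfl⟩ := hz; exact hcg i
    | zero => rw [smul_zero]; exact F.zero_mem
    | add z w _ _ hz hw => rw [smul_add]; exact F.add_mem hz hw
    | smul r z _ hz => rw [smul_comm]; exact F.smul_mem _ hz
  let b : Module.Basis s R F := Module.Basis.span hv
  have hb : ∀ i, (b i : M) = v i := fun i => congrArg Subtype.val (Module.Basis.span_apply hv i)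
  let mulc : M →ₗ[R] F := LinearMap.codRestrict F (c • LinearMap.id) (fun x => by simpa using hc x)
  have hmulc : ∀ x, (mulc x : M) = c • x := fun x => rfl
  let φ : s → Module.Dual R M := fun i => (b.coord i) ∘ₗ mulc
  have hφ : ∀ z : M, c • z = ∑ i, φ i z • v i := by
    intro z
    have := b.sum_repr (mulc z)
    have h2 := congrArg (Subtype.val : F → M) this
    rw [hmulc] at h2
    rw [← h2]
    simp only [Submodule.coe_sum, Submodule.coe_smul, hb]
    rfl
  refine ⟨c, hc0, ?_, ?_⟩
  · intro x hx
    rw [hφ x]
    refine Finset.sum_eq_zero fun i _ => ?_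
    have : φ i x = 0 := by
      have := LinearMap.congr_fun hx (φ i)
      simpa using this
    rw [this, zero_smul]
  · intro y
    refine ⟨∑ i, y (φ i) • v i, ?_⟩
    refine LinearMap.ext fun ψ => ?_
    have hψ : c • ψ = ∑ i, ψ (v i) • φ i := by
      refine LinearMap.ext fun z => ?_
      simp only [LinearMap.smul_apply, LinearMap.coe_sum, Finset.sum_apply, smul_eq_mul]
      rw [← smul_eq_mul, ← map_smul, hφ z, map_sum]
      refine Finset.sum_congr rfl fun i _ => ?_
      rw [map_smul, smul_eq_mul, mul_comm]
    rw [Module.Dual.eval_apply, LinearMap.smul_apply, ← map_smul, hψ, map_sum, map_sum]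
    refine Finset.sum_congr rfl fun i _ => ?_
    rw [map_smul, map_smul, smul_eq_mul, smul_eq_mul, mul_comm]

end Groth.Agent.S6870
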