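import Groth.Statements.S6871
import Groth.Agent.Lib.Helper10Reflexive
-- import your own Groth.Agent.* helpers here

set_option autoImplicit false
universe u
open CAlg

namespace Groth.Agent.S6871

/-- Let `R` be a Noetherian domain and `M` a finite `R`-module. Then `M` is reflexive if and only if
`M_𝔭` is a reflexive `R_𝔭`-module for every prime `𝔭`, if and only if `M_𝔪` is a reflexive
`R_𝔪`-module for every maximal ideal `𝔪`. -/
theorem result (R : Type u) [CommRing R] [IsDomain R] [IsNoetherianRing R] (M : Type u)
    [AddCommGroup M] [Module R M] [Module.Finite R M] :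
    (Module.IsReflexive R M ↔
      ∀ (p : Ideal R) [p.IsPrime], Module.IsReflexive (Localization.AtPrime p) (LocalizedModule p.primeCompl M)) ∧
    (Module.IsReflexive R M ↔
      ∀ (m : Ideal R) (_ : m.IsMaximal),
        Module.IsReflexive (Localization.AtPrime m) (LocalizedModule m.primeCompl M)) := by
  haveI hfpM : Module.FinitePresentation R M := Module.finitePresentation_of_finite R M
  haveI : Module.Finite R (Module.Dual R M) := inferInstance
  haveI : Module.FinitePresentation R (Module.Dual R M) := Module.finitePresentation_of_finite R _
  have h1 : Module.IsReflexive R M → ∀ (p : Ideal R) [p.IsPrime],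
      Module.IsReflexive (Localization.AtPrime p) (LocalizedModule p.primeCompl M) := by
    intro h p _
    exact Groth.Agent.Lib.Helper10.Reflexive.isReflexive_of_isReflexive p.primeCompl
      (Localization.AtPrime p) (LocalizedModule.mkLinearMap p.primeCompl M)
  have h2 : (∀ (m : Ideal R) (_ : m.IsMaximal),
      Module.IsReflexive (Localization.AtPrime m) (LocalizedModule m.primeCompl M)) →
      Module.IsReflexive R M := by
    intro h
    constructor
    refine bijective_of_isLocalized_maximal
      (fun P _ => LocalizedModule P.primeCompl M)
      (fun P _ => LocalizedModule.mkLinearMap P.primeCompl M)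
      (fun P _ => Module.Dual (Localization.AtPrime P)
        (Module.Dual (Localization.AtPrime P) (LocalizedModule P.primeCompl M)))
      (fun P _ => Groth.Agent.Lib.Helper10.Reflexive.DD P.primeCompl (Localization.AtPrime P)
        (LocalizedModule.mkLinearMap P.primeCompl M))
      (Module.Dual.eval R M) ?_
    intro P hP
    rw [Groth.Agent.Lib.Helper10.Reflexive.map_eval]
    exact (h P hP).bijective_dual_eval'
  exact ⟨⟨fun h p _ => h1 h p, fun h => h2 fun m hm => haveI := hm.isPrime; h m⟩,
    ⟨fun h m hm => haveI := hm.isPrime; h1 h m, h2⟩⟩

end Groth.Agent.S6871
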