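import Groth.Statements.S6872
import Groth.Agent.Lib.Helper10TF
import Groth.Agent.S6869
-- import your own Groth.Agent.* helpers here

set_option autoImplicit false
universe u
open CAlg

namespace Groth.Agent.S6872

/-- Let `R` be a Noetherian domain and `f : M → M'`, `g : M' → M''` linear maps between finite
`R`-modules with `f` injective and image of `f` equal to kernel of `g` (so `0 → M → M' → M''` is
exact). Then reflexivity of `M'` together with torsion-freeness of `M''` forces `M` to be reflexive. -/
theorem result (R : Type u) [CommRing R] [IsDomain R]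
    [IsNoetherianRing R] {M M' M'' : Type u} [AddCommGroup M] [Module R M] [Module.Finite R M]
    [AddCommGroup M'] [Module R M'] [Module.Finite R M'] [AddCommGroup M''] [Module R M''] [Module.Finite R M'']
    (f : M →ₗ[R] M') (g : M' →ₗ[R] M'') (hf : Function.Injective f) (hfg : Function.Exact f g)
    [Module.IsReflexive R M'] [Module.IsTorsionFree R M''] : Module.IsReflexive R M := by
  haveI : Module.IsTorsionFree R M' :=
    (Groth.Agent.S6869.result R M').mp (Module.bijective_dual_eval R M').injective
  haveI : Module.IsTorsionFree R M := hf.moduleIsTorsionFree f (fun r m => map_smul f r m)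
  have hinj : Function.Injective (Module.Dual.eval R M) :=
    (Groth.Agent.S6869.result R M).mpr inferInstance
  have hinj'' : Function.Injective (Module.Dual.eval R M'') :=
    (Groth.Agent.S6869.result R M'').mpr inferInstance
  refine ⟨⟨hinj, fun φ => ?_⟩⟩
  obtain ⟨m', hm'⟩ := (Module.bijective_dual_eval R M').surjective (φ ∘ₗ f.dualMap)
  have hgm' : g m' = 0 := by
    apply hinj''
    rw [map_zero]
    ext ν
    have h1 : Module.Dual.eval R M' m' (ν ∘ₗ g) = (φ ∘ₗ f.dualMap) (ν ∘ₗ g) := by rw [hm']
    have h2 : f.dualMap (ν ∘ₗ g) = 0 := by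
      ext m
      have : g (f m) = 0 := (hfg (f m)).mpr ⟨m, rfl⟩
      simp [this]
    simp only [LinearMap.coe_comp, Function.comp_apply, h2, map_zero] at h1
    simpa using h1
  obtain ⟨m, rfl⟩ := (hfg m').mp hgm'
  refine ⟨m, ?_⟩
  ext μ
  obtain ⟨c, hc, l, hl⟩ := Groth.Agent.Lib.Helper10.exists_smul_eq_comp R f hf μ
  have h1 : Module.Dual.eval R M' (f m) l = (φ ∘ₗ f.dualMap) l := by rw [hm']
  have h2 : f.dualMap l = c • μ := by
    ext x
    simp [hl x]
  simp only [LinearMap.coe_comp, Function.comp_apply, h2, map_smul, Module.Dual.eval_apply,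
    smul_eq_mul, hl m] at h1
  simpa using mul_left_cancel₀ hc h1

end Groth.Agent.S6872
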