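import Groth.Statements.S6873
import Groth.Agent.S6872
-- import your own Groth.Agent.* helpers here

set_option autoImplicit false
universe u
open CAlg

namespace Groth.Agent.S6873

/-- For a Noetherian domain `R`, a finite `R`-module `M` is reflexive if and only if `M` admits an
injective `R`-linear map into `Rⁿ`, for some `n`, whose cokernel is torsion free. -/
theorem result (R : Type u) [CommRing R] [IsDomain R]
    [IsNoetherianRing R] (M : Type u) [AddCommGroup M] [Module R M] [Module.Finite R M] :
    Module.IsReflexive R M ↔ ∃ (n : ℕ) (f : M →ₗ[R] (Fin n → R)), Function.Injective f ∧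
      Module.IsTorsionFree R ((Fin n → R) ⧸ LinearMap.range f) := by
  constructor
  · intro hM
    obtain ⟨n, p, hp⟩ := Module.Finite.exists_fin' R (Module.Dual R M)
    let e : (Fin n → R) ≃ₗ[R] Module.Dual R (Fin n → R) := (Pi.basisFun R (Fin n)).toDualEquiv
    let f : M →ₗ[R] (Fin n → R) :=
      e.symm.toLinearMap ∘ₗ p.dualMap ∘ₗ (Module.Dual.eval R M)
    have hpd : Function.Injective p.dualMap := LinearMap.dualMap_injective_of_surjective hp
    refine ⟨n, f, ?_, ?_⟩
    · exact e.symm.injective.comp (hpd.comp (Module.bijective_dual_eval R M).injective)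
    · refine ⟨fun c hc => ?_⟩
      have hc0 : c ≠ 0 := hc.ne_zero
      intro x y hxy
      obtain ⟨x, rfl⟩ := Submodule.Quotient.mk_surjective _ x
      obtain ⟨y, rfl⟩ := Submodule.Quotient.mk_surjective _ y
      dsimp only at hxy
      rw [← Submodule.Quotient.mk_smul, ← Submodule.Quotient.mk_smul, Submodule.Quotient.eq,
        ← smul_sub] at hxy
      rw [Submodule.Quotient.eq]
      obtain ⟨m, hm⟩ := hxy
      -- ψ := e (x - y) vanishes on ker p
      have hker : ∀ l, p l = 0 → e (x - y) l = 0 := by
        intro l hl
        have h1 : e (c • (x - y)) l = c * e (x - y) l := by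
          rw [map_smul]; rfl
        have h2 : e (c • (x - y)) = p.dualMap (Module.Dual.eval R M m) := by
          rw [← hm]
          simp [f]
        rw [h2] at h1
        have h3 : p.dualMap (Module.Dual.eval R M m) l = 0 := by
          simp [hl]
        rw [h3] at h1
        rcases mul_eq_zero.mp h1.symm with h | h
        · exact absurd h hc0
        · exact h
      -- factor through p
      have hfac : LinearMap.ker p ≤ LinearMap.ker (e (x - y)) := fun l hl => hker l hl
      let φ : Module.Dual R (Module.Dual R M) := (LinearMap.ker p).liftQ (e (x - y)) hfac ∘ₗ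
        (p.quotKerEquivOfSurjective hp).symm.toLinearMap
      have hφ : p.dualMap φ = e (x - y) := by
        refine LinearMap.ext fun l => ?_
        simp only [LinearMap.dualMap_apply, φ, LinearMap.coe_comp, LinearEquiv.coe_coe,
          Function.comp_apply]
        have : (p.quotKerEquivOfSurjective hp).symm (p l) = Submodule.Quotient.mk l := by
          rw [LinearEquiv.symm_apply_eq]
          rfl
        rw [this]
        rfl
      obtain ⟨m', hm'⟩ := (Module.bijective_dual_eval R M).surjective φ
      refine ⟨m', ?_⟩
      simp only [f, LinearMap.coe_comp, LinearEquiv.coe_coe, Function.comp_apply, hm', hφ,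
        LinearEquiv.symm_apply_apply]
  · rintro ⟨n, f, hf, htf⟩
    exact Groth.Agent.S6872.result R f (LinearMap.range f).mkQ hf (LinearMap.exact_map_mkQ_range f)

end Groth.Agent.S6873
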