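import Groth.Statements.S6875
import Groth.Agent.S6872
-- import your own Groth.Agent.* helpers here

set_option autoImplicit false
universe u
open CAlg

namespace Groth.Agent.S6875

/-- Let `R` be a Noetherian domain, `M` a finite `R`-module and `N` a finite reflexive `R`-module. Then
`Hom_R(M, N)` is reflexive. -/
theorem result (R : Type u) [CommRing R] [IsDomain R] [IsNoetherianRing R]
    (M N : Type u) [AddCommGroup M] [Module R M] [Module.Finite R M] [AddCommGroup N] [Module R N] [Module.Finite R N]
    [Module.IsReflexive R N] : Module.IsReflexive R (M →ₗ[R] N) := by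
  classical
  have hpi : ∀ n : ℕ, Module.IsReflexive R (Fin n → N) := by
    intro n
    induction n with
    | zero => infer_instance
    | succ n ih =>
      have := ih
      exact Module.equiv (Fin.consLinearEquiv R (fun _ : Fin (n + 1) => N))
  obtain ⟨b, π, hπ⟩ := Module.Finite.exists_fin' R M
  haveI : Module.IsReflexive R ((Fin b → R) →ₗ[R] N) := by
    have := hpi b
    exact Module.equiv (LinearEquiv.piRing R N (Fin b) R).symm
  let f : (M →ₗ[R] N) →ₗ[R] ((Fin b → R) →ₗ[R] N) := LinearMap.lcomp R N π
  let g : ((Fin b → R) →ₗ[R] N) →ₗ[R] ((LinearMap.ker π) →ₗ[R] N) :=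
    LinearMap.lcomp R N (LinearMap.ker π).subtype
  have hf : Function.Injective f := by
    intro h h' e
    refine LinearMap.ext fun m => ?_
    obtain ⟨x, rfl⟩ := hπ m
    exact LinearMap.congr_fun e x
  have hfg : Function.Exact f g := by
    intro h
    constructor
    · intro hg
      have hker : LinearMap.ker π ≤ LinearMap.ker h := fun x hx =>
        LinearMap.congr_fun hg ⟨x, hx⟩
      refine ⟨(LinearMap.ker π).liftQ h hker ∘ₗ
        (π.quotKerEquivOfSurjective hπ).symm.toLinearMap, ?_⟩
      refine LinearMap.ext fun x => ?_
      change ((LinearMap.ker π).liftQ h hker) ((π.quotKerEquivOfSurjective hπ).symm (π x)) = h x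
      have : (π.quotKerEquivOfSurjective hπ).symm (π x) = Submodule.Quotient.mk x := by
        rw [LinearEquiv.symm_apply_eq]
        rfl
      rw [this]
      rfl
    · rintro ⟨h', rfl⟩
      refine LinearMap.ext fun x => ?_
      change h' (π x.1) = 0
      rw [LinearMap.mem_ker.mp x.2, map_zero]
  exact Groth.Agent.S6872.result R f g hf hfg

end Groth.Agent.S6875
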