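import Groth.Statements.S6878
-- import your own Groth.Agent.* helpers here

set_option autoImplicit false
universe u
open CAlg

namespace Groth.Agent.S6878

/-- Let `R` be a Noetherian ring and `φ : M → N` a map of `R`-modules. Suppose that for every prime `𝔭`
of `R` either `M_𝔭 → N_𝔭` is injective or `𝔭` is not an associated prime of `M`. Then `φ` is
injective. -/
theorem result (R : Type u) [CommRing R]
    [IsNoetherianRing R] {M N : Type u} [AddCommGroup M] [Module R M] [AddCommGroup N] [Module R N] (φ : M →ₗ[R] N)
    (h : ∀ (p : Ideal R) [p.IsPrime],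
      Function.Injective (LocalizedModule.map p.primeCompl φ) ∨ p ∉ associatedPrimes R M) :
    Function.Injective φ := by
  rw [← LinearMap.ker_eq_bot, Submodule.eq_bot_iff]
  intro x hx
  by_contra hx0
  let K := LinearMap.ker φ
  let y : K := ⟨x, hx⟩
  have hy : y ≠ 0 := fun e => hx0 (congrArg Subtype.val e)
  obtain ⟨P, hP, -⟩ := exists_le_isAssociatedPrime_of_isNoetherianRing R y hy
  have hPM : IsAssociatedPrime P M := hP.map_of_injective K.subtype K.subtype_injective
  obtain ⟨hPprime, z, hz⟩ := (isAssociatedPrime_iff).mp hP
  haveI := hPprime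
  rcases h P with hinj | hnot
  · have h0 : LocalizedModule.map P.primeCompl φ (LocalizedModule.mk (z : M) 1) =
        LocalizedModule.map P.primeCompl φ 0 := by
      rw [LocalizedModule.map_mk, map_zero]
      have : φ (z : M) = 0 := z.2
      rw [this, LocalizedModule.zero_mk]
    have h1 := hinj h0
    rw [← LocalizedModule.zero_mk (1 : P.primeCompl), LocalizedModule.mk_eq] at h1
    obtain ⟨u, hu⟩ := h1
    have hu' : (u : R) • (z : M) = 0 := by
      have := hu
      simp only [one_smul, smul_zero] at this
      exact this
    have hmem : (u : R) ∈ (⊥ : Submodule R K).colon {z} := by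
      rw [Submodule.mem_colon_singleton, Submodule.mem_bot]
      exact Subtype.ext hu'
    have hmem' : (u : R) ∈ P := hz ▸ hmem
    exact u.2 hmem'
  · exact hnot hPM

end Groth.Agent.S6878
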