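import Groth.Statements.S6881
import Groth.Agent.S2054
import Groth.Agent.Lib.Helper5IntDim
import Groth.Agent.Lib.Helper28DepthBC
import Groth.Agent.Lib.Helper28DepthLoc
-- import your own Groth.Agent.* helpers here

set_option autoImplicit false
universe u
open CAlg

namespace Groth.Agent.S6881

open Groth.Agent.Lib.Helper28

theorem hasSk_two_of_finite_normal (A B : Type u) [CommRing A] [IsDomain A] [IsNoetherianRing A]
    [IsIntegrallyClosed A] [CommRing B] [IsDomain B] [IsIntegrallyClosed B] [Algebra A B]
    [FaithfulSMul A B] [Module.Finite A B] : LocCoh.HasSk 2 A B := by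
  have : IsNoetherianRing B := IsNoetherianRing.of_finite A B
  have : Algebra.IsIntegral A B := Algebra.IsIntegral.of_finite A B
  have hS2B : LocCoh.HasSk 2 B B := Groth.Agent.S2054.hasSk_two_self
  intro p _
  apply min_le_of_forall_nat
  intro j hj2 hjd
  have hjp : (j : WithBot ℕ∞) ≤ ((p.height : ℕ∞) : WithBot ℕ∞) := by
    refine hjd.trans ((Module.supportDim_le_ringKrullDim _ _).trans ?_)
    rw [IsLocalization.AtPrime.ringKrullDim_eq_height p (Localization.AtPrime p)]
  have hjp' : (j : ℕ∞) ≤ p.height := by exact_mod_cast hjp
  have h1 : (j : ℕ∞) ≤ LocCoh.idealDepth (p.map (algebraMap A B)) B := by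
    apply le_idealDepth_of_hasSk B (p.map (algebraMap A B)) j (hasSk_mono hj2 hS2B)
    intro Q hQ _
    have : Nontrivial (LocalizedModule Q.asIdeal.primeCompl B) := by
      have : Q ∈ Module.support B B := by
        rw [Module.support_eq_zeroLocus, Module.annihilator_eq_bot.mpr inferInstance]
        simp
      exact Module.mem_support_iff.mp this
    have hle : p ≤ Q.asIdeal.under A := by
      rw [Ideal.under_def]
      exact Ideal.map_le_iff_le_comap.mp hQ
    have : (Q.asIdeal.under A).IsPrime := Ideal.IsPrime.under A Q.asIdeal
    have : Q.asIdeal.LiesOver (Q.asIdeal.under A) := ⟨rfl⟩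
    have h2 : p.height ≤ Q.asIdeal.height :=
      (Ideal.height_mono hle).trans
        (Groth.Agent.Lib.Helper5.height_le_height_of_liesOver_of_hasGoingDown
          (Q.asIdeal.under A) Q.asIdeal)
    have hnz := Groth.Agent.S2054.noZeroSMulDivisors_localizedModule (M := B) Q.asIdeal
    rw [Groth.Agent.S2054.supportDim_eq_ringKrullDim_of_noZeroSMulDivisors,
      IsLocalization.AtPrime.ringKrullDim_eq_height Q.asIdeal (Localization.AtPrime Q.asIdeal)]
    exact_mod_cast hjp'.trans h2
  rw [← idealDepth_restrictScalars_eq_idealDepth_map p B] at h1
  exact h1.trans (idealDepth_le_depth_localization p B le_rfl)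

/-- For `A` a Noetherian integrally closed domain with fraction field `K` and `L/K` a finite field
extension, if the integral closure of `A` in `L` is a finitely generated `A`-module then it is a
reflexive `A`-module. -/
theorem result (A K L : Type u) [CommRing A] [IsDomain A] [IsNoetherianRing A]
    [IsIntegrallyClosed A] [Field K] [Algebra A K] [IsFractionRing A K] [Field L] [Algebra K L] [FiniteDimensional K L]
    [Algebra A L] [IsScalarTower A K L] [Module.Finite A ↥(integralClosure A L)] :
    Module.IsReflexive A ↥(integralClosure A L) := by
  have : IsIntegrallyClosed (integralClosure A L) :=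
    integralClosure.isIntegrallyClosedOfFiniteExtension K
  have : FaithfulSMul A L := by
    rw [faithfulSMul_iff_algebraMap_injective, IsScalarTower.algebraMap_eq A K L]
    exact (algebraMap K L).injective.comp (IsFractionRing.injective A K)
  have : FaithfulSMul A (integralClosure A L) := by
    rw [faithfulSMul_iff_algebraMap_injective]
    intro x y hxy
    apply (FaithfulSMul.algebraMap_injective A L)
    exact congrArg (algebraMap (integralClosure A L) L) hxy
  have hnz : NoZeroSMulDivisors A (integralClosure A L) := by
    refine ⟨fun {c x} h => ?_⟩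
    rw [Algebra.smul_def] at h
    rcases mul_eq_zero.mp h with h1 | h1
    · left
      exact (map_eq_zero_iff _ (FaithfulSMul.algebraMap_injective A (integralClosure A L))).mp h1
    · right
      exact h1
  rw [Groth.Agent.S2054.result]
  exact ⟨hnz, hasSk_two_of_finite_normal A (integralClosure A L)⟩

end Groth.Agent.S6881
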