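import Groth.Statements.S6882
import Mathlib.LinearAlgebra.FreeModule.PID
import Mathlib.LinearAlgebra.Dual.Lemmas
import Mathlib.Algebra.Module.Torsion.Basic
-- import your own Groth.Agent.* helpers here

set_option autoImplicit false
universe u
open CAlg

namespace Groth.Agent.S6882

/-- For a finite module `M` over a discrete valuation ring `R`, the evaluation map from `M` to its
double dual `M**` is surjective. -/
theorem result (R : Type u) [CommRing R] [IsDomain R]
    [IsDiscreteValuationRing R] (M : Type u) [AddCommGroup M] [Module R M] [Module.Finite R M] :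
    Function.Surjective (Module.Dual.eval R M) := by
  classical
  let T := Submodule.torsion R M
  let Q := M ⧸ T
  -- every functional on `M` kills torsion
  have hkill : ∀ f : Module.Dual R M, T ≤ LinearMap.ker f := by
    intro f x hx
    obtain ⟨a, ha⟩ := hx
    have h1 : (a : R) • f x = 0 := by
      rw [← map_smul]
      have : (a : R) • x = 0 := ha
      rw [this, map_zero]
    rcases smul_eq_zero.mp h1 with h | h
    · exact absurd h (nonZeroDivisors.coe_ne_zero a)
    · exact h
  intro y
  -- push `y` to the double dual of `Q`
  let y' : Module.Dual R (Module.Dual R Q) :=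
    y ∘ₗ (Module.Dual.transpose (R := R) T.mkQ)
  have : Module.Finite R Q := inferInstance
  have : Module.Free R Q := Module.free_of_finite_type_torsion_free'
  obtain ⟨q, hq⟩ := (Module.bijective_dual_eval R Q).2 y'
  obtain ⟨m, rfl⟩ := Submodule.Quotient.mk_surjective T q
  refine ⟨m, ?_⟩
  ext f
  let g : Module.Dual R Q := T.liftQ f (hkill f)
  have hfg : f = g ∘ₗ T.mkQ := LinearMap.ext fun x => rfl
  have h1 : y' g = g (Submodule.Quotient.mk m) := by
    rw [← hq]
    rfl
  have h2 : y' g = y f := by
    change y (Module.Dual.transpose (R := R) T.mkQ g) = y f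
    congr 1
  rw [Module.Dual.eval_apply, ← h2, h1]
  rfl

end Groth.Agent.S6882
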