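import Groth.Statements.S6886
import Mathlib
import Groth.Agent.Lib.Helper24SplitAlg

set_option autoImplicit false
universe u
open TensorProduct
open CAlg

namespace Groth.Agent.S6886

theorem aux6886 (R S Q : Type u) [CommRing R] [CommRing S] [Algebra R S] [CommRing Q] [Algebra R Q]
    (r n : ℕ) (u : Fin r → Q) (P : Polynomial R)
    (hQ : ∏ i : Fin r, (Polynomial.X + Polynomial.C (u i)) = P.map (algebraMap R Q))
    (s : Fin n → S) (hs : Submodule.span R (Set.range s) = ⊤)
    (hP0 : ∀ i, Polynomial.aeval (s i) P = 0) :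
    ∃ φ : MvPolynomial (Fin n) Q →ₐ[Q] Q ⊗[R] S, Function.Surjective φ ∧
      ∀ i, φ (∏ j : Fin r, (MvPolynomial.X i - MvPolynomial.C (- u j))) = 0 := by
  classical
  refine ⟨MvPolynomial.aeval (fun i => (1 : Q) ⊗ₜ[R] s i), ?_, ?_⟩
  · -- surjective
    have key : ∀ t ∈ Submodule.span R (Set.range s), ∀ q : Q,
        ∃ y : MvPolynomial (Fin n) Q,
        MvPolynomial.aeval (fun i => (1 : Q) ⊗ₜ[R] s i) y = q ⊗ₜ[R] t := by
      intro t ht
      induction ht using Submodule.span_induction with
      | mem x hx =>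
        obtain ⟨i, rfl⟩ := hx
        intro q
        refine ⟨MvPolynomial.C q * MvPolynomial.X i, ?_⟩
        rw [map_mul, MvPolynomial.aeval_C, MvPolynomial.aeval_X,
          Algebra.TensorProduct.algebraMap_apply, Algebra.TensorProduct.tmul_mul_tmul]
        simp
      | zero => intro q; exact ⟨0, by simp⟩
      | add x y _ _ hx hy =>
        intro q
        obtain ⟨a, ha⟩ := hx q
        obtain ⟨c, hc⟩ := hy q
        exact ⟨a + c, by rw [map_add, ha, hc, TensorProduct.tmul_add]⟩
      | smul a x _ hx =>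
        intro q
        obtain ⟨y, hy⟩ := hx (a • q)
        exact ⟨y, by rw [hy, TensorProduct.smul_tmul]⟩
    intro x
    induction x using TensorProduct.induction_on with
    | zero => exact ⟨0, map_zero _⟩
    | tmul q t => exact key t (by rw [hs]; trivial) q
    | add x y hx hy =>
      obtain ⟨a, ha⟩ := hx
      obtain ⟨c, hc⟩ := hy
      exact ⟨a + c, by rw [map_add, ha, hc]⟩
  · intro i
    have h3 := congrArg (Polynomial.aeval ((1 : Q) ⊗ₜ[R] s i)) hQ
    rw [Polynomial.aeval_map_algebraMap] at h3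
    have h4 : Polynomial.aeval ((1 : Q) ⊗ₜ[R] s i) P = 0 := by
      have := Polynomial.aeval_algHom_apply (Algebra.TensorProduct.includeRight :
        S →ₐ[R] Q ⊗[R] S) (s i) P
      rw [Algebra.TensorProduct.includeRight_apply] at this
      rw [this, hP0 i, map_zero]
    rw [h4, map_prod] at h3
    rw [map_prod, ← h3]
    refine Finset.prod_congr rfl fun j _ => ?_
    simp [sub_eq_add_neg, add_comm]

/-- Let `R → S` be a finite ring map. One can find an extension `R ⊆ R'` of rings, with `R'` finite and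
free as an `R`-module, for which the ring `S ⊗_R R'` arises as a quotient of `R'[T_1, …,
T_n]/(P_1(T_1), …, P_n(T_n))` with each `P_i(T) = ∏_j (T - α_{ij})` a product of linear factors over
`R'`. -/
theorem result (R S : Type u) [CommRing R] [CommRing S] [Algebra R S]
    [Module.Finite R S] :
    ∃ (R' : Type u) (_ : CommRing R') (_ : Algebra R R'), Module.Finite R R' ∧ Module.Free R R' ∧
      Function.Injective (algebraMap R R') ∧
      ∃ (n : ℕ) (d : Fin n → ℕ) (α : (i : Fin n) → Fin (d i) → R')
        (φ : MvPolynomial (Fin n) R' →ₐ[R'] R' ⊗[R] S), Function.Surjective φ ∧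
          ∀ i, φ (∏ j, (MvPolynomial.X i - MvPolynomial.C (α i j))) = 0 := by
  classical
  obtain ⟨n, s, hs⟩ := Module.Finite.exists_fin (R := R) (M := S)
  have hint : ∀ i, ∃ p : Polynomial R, p.Monic ∧ Polynomial.aeval (s i) p = 0 := fun i =>
    (Algebra.IsIntegral.isIntegral (R := R) (s i))
  choose p hpm hp0 using hint
  set P : Polynomial R := ∏ i, p i with hPdef
  have hPm : P.Monic := Polynomial.monic_prod_of_monic _ _ (fun i _ => hpm i)
  have hP0 : ∀ i, Polynomial.aeval (s i) P = 0 := by
    intro i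
    rw [hPdef, map_prod]
    exact Finset.prod_eq_zero (Finset.mem_univ i) (hp0 i)
  set r := P.natDegree with hr
  obtain ⟨b⟩ := Groth.Agent.Lib.Helper24SplitAlg.exists_basis r R P hPm rfl
  obtain ⟨φ, hφ1, hφ2⟩ := aux6886 R S (MvPolynomial (Fin r) R ⧸ Groth.Agent.Lib.Helper24SplitAlg.J R r P)
    r n (Groth.Agent.Lib.Helper24SplitAlg.u r P) P
    (Groth.Agent.Lib.Helper24SplitAlg.prod_Q r P hPm rfl) s hs hP0
  refine ⟨MvPolynomial (Fin r) R ⧸ Groth.Agent.Lib.Helper24SplitAlg.J R r P, inferInstance,
    inferInstance, Module.Finite.of_basis b, Module.Free.of_basis b, ?_, n, fun _ => r,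
    fun _ j => - Groth.Agent.Lib.Helper24SplitAlg.u r P j, φ, hφ1, hφ2⟩
  -- injective
  intro a a' h
  have i0 : Fin r.factorial := ⟨0, Nat.factorial_pos r⟩
  have h0 : (a - a') • b i0 = algebraMap R _ (a - a') * b i0 :=
    Algebra.smul_def (a - a') (b i0)
  have h1 : (a - a') • b i0 = 0 := by
    rw [h0, map_sub, h, sub_self, zero_mul]
  have h2 := congrArg (fun x => b.repr x i0) h1
  simp only [map_smul, Module.Basis.repr_self, Finsupp.smul_apply, Finsupp.single_eq_same,
    smul_eq_mul, mul_one, map_zero, Finsupp.zero_apply] at h2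
  exact sub_eq_zero.1 h2

end Groth.Agent.S6886
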