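import Groth.Statements.S6898
import Mathlib

set_option autoImplicit false
universe u
open TensorProduct
open CAlg

namespace Groth.Agent.S6898

open IsLocalRing in
/-- relative equational criterion -/
theorem rel_trivial {A : Type*} {M : Type*} [CommRing A] [AddCommGroup M] [Module A M] [Module.Flat A M]
    (J : Ideal A) {ι : Type*} (f : ι → A) (v : ι → M) (s : Finset ι)
    (h : ∑ i ∈ s, f i • v i ∈ J • (⊤ : Submodule A M)) :
    ∃ (l : ℕ) (a : ι → Fin l → A) (y : Fin l → M),
      (∀ i ∈ s, v i = ∑ p, a i p • y p) ∧ ∀ p, ∑ i ∈ s, f i * a i p ∈ J := by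
  classical
  have h' : ∑ i ∈ s, f i • v i ∈ J • Submodule.span A (Set.range (id : M → M)) := by
    simpa using h
  obtain ⟨c, hc, hsum⟩ := (Submodule.mem_ideal_smul_span_iff_exists_sum J id _).mp h'
  let F : (↥s ⊕ ↥c.support) → A := Sum.elim (fun i => f i) (fun t => - c t)
  let X : (↥s ⊕ ↥c.support) → M := Sum.elim (fun i => v i) (fun t => (t : M))
  have hrel : ∑ j, F j • X j = 0 := by
    rw [Fintype.sum_sum_type]
    simp only [F, X, Sum.elim_inl, Sum.elim_inr]
    rw [Finset.sum_coe_sort s (fun i => f i • v i), Finset.sum_coe_sort c.support (fun t => (- c t) • t)]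
    rw [← hsum, Finsupp.sum]
    simp
  obtain ⟨l, a, y, hay, hfa⟩ := Module.Flat.isTrivialRelation_of_sum_smul_eq_zero hrel
  refine ⟨l, fun i p => if hi : i ∈ s then a (Sum.inl ⟨i, hi⟩) p else 0, y, ?_, ?_⟩
  · intro i hi
    have := hay (Sum.inl ⟨i, hi⟩)
    simpa [X, dif_pos hi] using this
  · intro p
    have h1 := hfa p
    rw [Fintype.sum_sum_type] at h1
    simp only [F, Sum.elim_inl, Sum.elim_inr] at h1
    have h2 : ∑ i ∈ s, f i * (if hi : i ∈ s then a (Sum.inl ⟨i, hi⟩) p else 0)
        = ∑ i : ↥s, f i * a (Sum.inl i) p := by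
      rw [← Finset.sum_coe_sort s]
      refine Finset.sum_congr rfl fun i _ => ?_
      rw [dif_pos i.2]
    rw [h2, eq_neg_of_add_eq_zero_left h1]
    refine neg_mem (sum_mem fun t _ => ?_)
    rw [neg_mul]
    exact neg_mem (Ideal.mul_mem_right _ _ (hc _))

open IsLocalRing in
/-- relative independence -/
theorem rel_indep {A : Type u} [CommRing A] [IsLocalRing A] {N : Type u} [AddCommGroup N] [Module A N]
    [Module.Flat A N] (J : Ideal A) {ι : Type u} (f : ι → A) (s : Finset ι) :
    ∀ (v : ι → N),
      LinearIndependent (ResidueField A) (TensorProduct.mk A (ResidueField A) N 1 ∘ v) →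
      ∑ i ∈ s, f i • v i ∈ J • (⊤ : Submodule A N) → ∀ i ∈ s, f i ∈ J := by
  classical
  induction s using Finset.induction with
  | empty => intro v _ _ i hi; exact absurd hi (Finset.notMem_empty i)
  | insert n s hn ih =>
    intro v h hfv
    obtain ⟨l, a, y, hay, hfa⟩ := rel_trivial J f v (insert n s) hfv
    have hvn : v n ∉ maximalIdeal A • (⊤ : Submodule A N) := by
      simpa only [← LinearMap.ker_tensorProductMk] using! h.ne_zero n
    obtain ⟨p₀, hp₀⟩ : ∃ p, IsUnit (a n p) := by
      by_contra hcon
      push_neg at hcon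
      apply hvn
      rw [hay n (Finset.mem_insert_self _ _)]
      exact sum_mem fun p _ => Submodule.smul_mem_smul (hcon p) trivial
    obtain ⟨e, he⟩ := hp₀.exists_right_inv
    let d : ι → A := fun i => if i = n then 0 else a i p₀ * e
    have hg : f n + ∑ i ∈ s, f i * d i ∈ J := by
      have h1 := Ideal.mul_mem_right e J (hfa p₀)
      rw [Finset.sum_insert hn, add_mul, mul_assoc, he, mul_one, Finset.sum_mul] at h1
      have : ∑ i ∈ s, f i * d i = ∑ i ∈ s, f i * a i p₀ * e := by
        refine Finset.sum_congr rfl fun i hi => ?_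
        have : i ≠ n := ne_of_mem_of_not_mem hi hn
        simp only [d, if_neg this]
        ring
      rw [this]
      exact h1
    let c : ι → A := fun i => - d i
    have hcn : c n = 0 := by simp [c, d]
    have hind : LinearIndependent (ResidueField A)
        (TensorProduct.mk A (ResidueField A) N 1 ∘ (v + fun i => c i • v n)) := by
      have h2 := (linearIndependent_add_smul_iff (R := ResidueField A)
        (v := TensorProduct.mk A (ResidueField A) N 1 ∘ v)
        (c := residue A ∘ c) (i := n) (by simp [hcn])).mpr h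
      have heq : (TensorProduct.mk A (ResidueField A) N 1 ∘ (v + fun i => c i • v n))
          = (TensorProduct.mk A (ResidueField A) N 1 ∘ v) +
            (fun i => (residue A ∘ c) i • (TensorProduct.mk A (ResidueField A) N 1 ∘ v) n) := by
        funext i
        simp only [Function.comp_apply, Pi.add_apply, map_add, TensorProduct.mk_apply,
          map_smul]
        congr 1
      rw [heq]
      exact h2
    have hsum : ∑ i ∈ s, f i • (v + fun i => c i • v n) i ∈ J • (⊤ : Submodule A N) := by
      have : ∑ i ∈ s, f i • (v + fun i => c i • v n) i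
          = ∑ i ∈ insert n s, f i • v i - (f n + ∑ i ∈ s, f i * d i) • v n := by
        rw [Finset.sum_insert hn]
        simp only [Pi.add_apply, smul_add, Finset.sum_add_distrib, c, neg_smul, smul_neg,
          Finset.sum_neg_distrib, add_smul, Finset.sum_smul, mul_smul]
        abel
      rw [this]
      exact sub_mem hfv (Submodule.smul_mem_smul hg trivial)
    have hs := ih _ hind hsum
    intro i hi
    rcases Finset.mem_insert.mp hi with rfl | hi
    · have : f i = (f i + ∑ j ∈ s, f j * d j) - ∑ j ∈ s, f j * d j := by ring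
      rw [this]
      exact sub_mem hg (sum_mem fun j hj => Ideal.mul_mem_right _ _ (hs j hj))
    · exact hs i hi


open IsLocalRing in
/-- a representation with independent module parts -/
theorem exists_rep {A : Type u} [CommRing A] [IsLocalRing A] {M : Type u} [AddCommGroup M] [Module A M]
    (x : M) (I : Ideal A) (hx : IsLeast {J : Ideal A | x ∈ J • (⊤ : Submodule A M)} I) :
    ∃ (ι : Type u) (_ : Fintype ι) (a : ι → A) (m : ι → M), x = ∑ i, a i • m i ∧
      LinearIndependent (ResidueField A) (TensorProduct.mk A (ResidueField A) M 1 ∘ m) := by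
  classical
  let Rep : ℕ → Prop := fun n => ∃ (ι : Type u) (_ : Fintype ι) (a : ι → A) (m : ι → M),
    Fintype.card ι = n ∧ (∀ i, a i ∈ I) ∧ x = ∑ i, a i • m i
  have hex : ∃ n, Rep n := by
    have h' : x ∈ I • Submodule.span A (Set.range (id : M → M)) := by
      simpa using hx.1
    obtain ⟨c, hc, hsum⟩ := (Submodule.mem_ideal_smul_span_iff_exists_sum I id _).mp h'
    refine ⟨_, ↥c.support, inferInstance, fun t => c t, fun t => (t : M), rfl, fun t => hc _, ?_⟩
    rw [← hsum, Finsupp.sum, Finset.sum_coe_sort c.support (fun t => c t • t)]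
    simp
  obtain ⟨ι, hι, a, m, hcard, haI, hxa⟩ := Nat.find_spec hex
  refine ⟨ι, hι, a, m, hxa, ?_⟩
  by_contra hdep
  obtain ⟨g, hg0, i₀, hgi₀⟩ := Fintype.not_linearIndependent_iff.mp hdep
  -- lift normalized coefficients
  have hlift : ∀ i, ∃ ci : A, residue A ci = g i / g i₀ := fun i => residue_surjective _
  choose c' hc' using hlift
  let c : ι → A := fun i => if i = i₀ then 1 else c' i
  have hc : ∀ i, residue A (c i) = g i / g i₀ := by
    intro i
    by_cases hi : i = i₀
    · subst hi
      simp [c, div_self hgi₀]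
    · simp [c, if_neg hi, hc']
  let z : M := ∑ i, c i • m i
  have hz : z ∈ maximalIdeal A • (⊤ : Submodule A M) := by
    rw [← LinearMap.ker_tensorProductMk, LinearMap.mem_ker]
    change (TensorProduct.mk A (ResidueField A) M 1) z = 0
    have h1 : (TensorProduct.mk A (ResidueField A) M 1) z
        = (g i₀)⁻¹ • ∑ i, g i • (TensorProduct.mk A (ResidueField A) M 1 ∘ m) i := by
      simp only [z, map_sum, Finset.smul_sum, Function.comp_apply]
      refine Finset.sum_congr rfl fun i _ => ?_
      rw [map_smul, smul_smul, ← algebraMap_smul (ResidueField A) (c i), ResidueField.algebraMap_eq,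
        hc i, div_eq_inv_mul]
    rw [h1, hg0, smul_zero]
  -- decomposition
  have hz' : m i₀ = z - ∑ i : {i // i ≠ i₀}, c i • m i := by
    simp only [z]
    rw [Fintype.sum_eq_add_sum_subtype_ne _ i₀]
    simp [c]
  let a' : {i // i ≠ i₀} → A := fun i => a i - c i * a i₀
  have hx2 : x = a i₀ • z + ∑ i : {i // i ≠ i₀}, a' i • m i := by
    rw [hxa, Fintype.sum_eq_add_sum_subtype_ne _ i₀, hz']
    simp only [a', sub_smul, smul_sub, Finset.sum_sub_distrib, Finset.smul_sum, mul_smul]
    rw [Finset.sum_congr rfl (fun (i : {i // i ≠ i₀}) _ => smul_comm (c i) (a i₀) (m i))]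
    abel
  have hxmem : x ∈ (Ideal.span (Set.range a') ⊔ Ideal.span {a i₀} * maximalIdeal A) •
      (⊤ : Submodule A M) := by
    rw [hx2]
    refine add_mem ?_ (sum_mem fun i _ => ?_)
    · refine Submodule.smul_mono_left le_sup_right ?_
      rw [Submodule.mul_smul]
      exact Submodule.smul_mem_smul (Ideal.subset_span rfl) hz
    · exact Submodule.smul_mono_left le_sup_left
        (Submodule.smul_mem_smul (Ideal.subset_span (Set.mem_range_self i)) trivial)
  have hle := hx.2 hxmem
  obtain ⟨s, hs, t, ht, hst⟩ := Submodule.mem_sup.mp (hle (haI i₀))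
  obtain ⟨β, hβ, rfl⟩ := Ideal.mem_span_singleton_mul.mp ht
  have hunit : IsUnit (1 - β) := by
    have : (1 - β) ∉ maximalIdeal A := fun h => by
      have := add_mem h hβ
      rw [sub_add_cancel] at this
      exact (Ideal.ne_top_iff_one _).mp (maximalIdeal.isMaximal A).ne_top this
    simpa using this
  obtain ⟨w, hw⟩ := hunit.exists_right_inv
  have hai₀ : a i₀ ∈ Ideal.span (Set.range a') := by
    have : a i₀ = s * w := by
      have h1 : s = a i₀ * (1 - β) := by linear_combination hst
      rw [h1, mul_assoc, hw, mul_one]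
    rw [this]
    exact Ideal.mul_mem_right _ _ hs
  obtain ⟨r, hr⟩ := Ideal.mem_span_range_iff_exists_fun.mp hai₀
  -- shorter representation
  have hshort : Rep (Fintype.card ι - 1) := by
    refine ⟨{i // i ≠ i₀}, inferInstance, a', fun i => r i • z + m i, ?_, ?_, ?_⟩
    · exact Set.card_ne_eq i₀
    · intro i
      exact sub_mem (haI _) (Ideal.mul_mem_left _ _ (haI _))
    · rw [hx2]
      nth_rewrite 1 [← hr]
      simp only [smul_add, Finset.sum_add_distrib, Finset.sum_smul, smul_smul]
      congr 1
      refine Finset.sum_congr rfl fun i _ => ?_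
      rw [mul_comm]
  have hpos : 0 < Fintype.card ι := Fintype.card_pos_iff.mpr ⟨i₀⟩
  exact Nat.find_min hex (by omega) hshort

/-- Let `(A, 𝔪)` be a local ring and `u : M → N` a linear map between flat `A`-modules whose reduction
`M/𝔪M → N/𝔪N` is injective. If `I` is the content ideal of some `x ∈ M` (the least ideal `I` with `x
∈ IM`), then `I` is also the least ideal `J` with `u(x) ∈ J·N`. -/
theorem result {A : Type u} [CommRing A] [IsLocalRing A] {M N : Type u}
    [AddCommGroup M] [Module A M] [Module.Flat A M] [AddCommGroup N] [Module A N] [Module.Flat A N] (u : M →ₗ[A] N)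
    (hu : Function.Injective (u.baseChange (IsLocalRing.ResidueField A))) (x : M) (I : Ideal A)
    (hx : IsLeast {J : Ideal A | x ∈ J • (⊤ : Submodule A M)} I) :
    IsLeast {J : Ideal A | u x ∈ J • (⊤ : Submodule A N)} I := by
  classical
  have hmap : ∀ (J : Ideal A) (y : M), y ∈ J • (⊤ : Submodule A M) → u y ∈ J • (⊤ : Submodule A N) := by
    intro J y hy
    have : u y ∈ Submodule.map u (J • (⊤ : Submodule A M)) := Submodule.mem_map_of_mem hy
    rw [Submodule.map_smul''] at this
    exact Submodule.smul_mono le_rfl le_top this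
  refine ⟨hmap I x hx.1, ?_⟩
  intro J hJ
  obtain ⟨ι, hι, a, m, hxa, hind⟩ := exists_rep x I hx
  have hind' : LinearIndependent (IsLocalRing.ResidueField A)
      (TensorProduct.mk A (IsLocalRing.ResidueField A) N 1 ∘ (u ∘ m)) := by
    have h1 := hind.map' (u.baseChange (IsLocalRing.ResidueField A)) (LinearMap.ker_eq_bot.mpr hu)
    have heq : (TensorProduct.mk A (IsLocalRing.ResidueField A) N 1 ∘ (u ∘ m))
        = (u.baseChange (IsLocalRing.ResidueField A)) ∘
          (TensorProduct.mk A (IsLocalRing.ResidueField A) M 1 ∘ m) := by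
      funext i
      simp
    rw [heq]
    exact h1
  have hJ' : ∑ i ∈ Finset.univ, a i • (u ∘ m) i ∈ J • (⊤ : Submodule A N) := by
    have : u x = ∑ i ∈ Finset.univ, a i • (u ∘ m) i := by
      rw [hxa, map_sum]
      simp
    rw [← this]
    exact hJ
  have haJ := rel_indep J a Finset.univ (u ∘ m) hind' hJ'
  refine hx.2 ?_
  change x ∈ J • (⊤ : Submodule A M)
  rw [hxa]
  exact sum_mem fun i _ => Submodule.smul_mem_smul (haJ i (Finset.mem_univ i)) trivial

end Groth.Agent.S6898
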