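import Groth.Statements.S6899
import Groth.Agent.Lib.Helper10Tensor
-- import your own Groth.Agent.* helpers here

set_option autoImplicit false
universe u
open TensorProduct
open EtAlg

namespace Groth.Agent.S6899

/-- Let `B' = B ×_A A'` be a fibre square of rings with `A' → A` surjective, and let `(N₁, M₁', φ₁) →
(N₂, M₂', φ₂)` be a morphism of glueing data (a `B`-linear `u : N₁ → N₂` and an `A'`-linear `v : M₁'
→ M₂'` compatible with the `φ_i`) with `u` and `v` surjective. Then the induced map of glued modules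
`N₁ ×_{φ₁} M₁' → N₂ ×_{φ₂} M₂'` is surjective. -/
theorem result (B' B A' A : Type u) [CommRing B'] [CommRing B] [CommRing A'] [CommRing A]
    [Algebra B' B] [Algebra B' A'] [Algebra B A] [Algebra A' A] [Algebra B' A] [IsScalarTower B' B A] [IsScalarTower B' A' A]
    (hsq : EtMil.IsFibreSquare B' B A' A)
    {N₁ N₂ M₁' M₂' : Type u} [AddCommGroup N₁] [Module B N₁] [Module B' N₁] [IsScalarTower B' B N₁]
    [AddCommGroup N₂] [Module B N₂] [Module B' N₂] [IsScalarTower B' B N₂]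
    [AddCommGroup M₁'] [Module A' M₁'] [Module B' M₁'] [IsScalarTower B' A' M₁']
    [AddCommGroup M₂'] [Module A' M₂'] [Module B' M₂'] [IsScalarTower B' A' M₂']
    (φ₁ : A ⊗[B] N₁ ≃ₗ[A] A ⊗[A'] M₁') (φ₂ : A ⊗[B] N₂ ≃ₗ[A] A ⊗[A'] M₂') (u : N₁ →ₗ[B] N₂) (v : M₁' →ₗ[A'] M₂')
    (hc : (v.baseChange A).comp φ₁.toLinearMap = φ₂.toLinearMap.comp (u.baseChange A))
    (hu : Function.Surjective u) (hv : Function.Surjective v) :
    ∀ y : N₂ × M₂', y ∈ EtMil.glue B' φ₂ → ∃ x : N₁ × M₁', x ∈ EtMil.glue B' φ₁ ∧ u x.1 = y.1 ∧ v x.2 = y.2 := by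
  intro y hy
  have hsurj : Function.Surjective (algebraMap A' A) := hsq.1
  have hy' : φ₂ ((1 : A) ⊗ₜ[B] y.1) = (1 : A) ⊗ₜ[A'] y.2 := hy
  obtain ⟨n₁, hn₁⟩ := hu y.1
  obtain ⟨m, hm⟩ := Groth.Agent.Lib.Helper10.exists_one_tmul_eq_of_surjective hsurj
    (φ₁ ((1 : A) ⊗ₜ[B] n₁))
  -- compare `v m` and `y.2`
  have h1 : (1 : A) ⊗ₜ[A'] v m = (1 : A) ⊗ₜ[A'] y.2 := by
    have h2 : (v.baseChange A) (φ₁ ((1 : A) ⊗ₜ[B] n₁)) = φ₂ ((u.baseChange A) ((1 : A) ⊗ₜ[B] n₁)) :=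
      LinearMap.congr_fun hc ((1 : A) ⊗ₜ[B] n₁)
    rw [← hm, LinearMap.baseChange_tmul, LinearMap.baseChange_tmul, hn₁, hy'] at h2
    exact h2
  have h3 : (1 : A) ⊗ₜ[A'] (v m - y.2) = 0 := by
    rw [TensorProduct.tmul_sub, h1, sub_self]
  rw [Groth.Agent.Lib.Helper10.one_tmul_eq_zero_iff_of_surjective hsurj] at h3
  have h4 : (RingHom.ker (algebraMap A' A) • ⊤ : Submodule A' M₂') =
      Submodule.map v (RingHom.ker (algebraMap A' A) • ⊤ : Submodule A' M₁') := by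
    rw [Submodule.map_smul'', Submodule.map_top, LinearMap.range_eq_top.mpr hv]
  rw [h4] at h3
  obtain ⟨k, hk, hvk⟩ := h3
  have hk0 : (1 : A) ⊗ₜ[A'] k = 0 :=
    (Groth.Agent.Lib.Helper10.one_tmul_eq_zero_iff_of_surjective hsurj k).mpr hk
  refine ⟨(n₁, m - k), ?_, hn₁, ?_⟩
  · change φ₁ ((1 : A) ⊗ₜ[B] n₁) = (1 : A) ⊗ₜ[A'] (m - k)
    rw [TensorProduct.tmul_sub, hk0, sub_zero, hm]
  · change v (m - k) = y.2
    rw [map_sub, hvk]
    abel

end Groth.Agent.S6899
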