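import Groth.Statements.S6907
import Mathlib
import Groth.Agent.Lib.Helper1KF8
import Groth.Agent.Lib.Helper1KF10
-- import your own Groth.Agent.* helpers here

set_option autoImplicit false
universe u
open CategoryTheory CategoryTheory.Limits MonoidalCategory
open DRing

namespace Groth.Agent.S6907

open Groth.Agent.Lib.Helper1.KF in
/-- Let `K•` be a K-flat complex of `R`-modules. Then `L• ↦ Tot(L• ⊗_R K•)` sends quasi-isomorphisms to
quasi-isomorphisms; and if `α : P• → Q•` is a quasi-isomorphism between K-flat complexes, then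
`Tot(id_L ⊗ α)` is a quasi-isomorphism for every complex `L•`. -/
theorem result (R : Type u) [CommRing R] :
    (∀ (K : DRing.Cx R), (∀ L : DRing.Cx R, (∀ i : ℤ, IsZero (L.homology i)) → ∀ i : ℤ, IsZero ((L ⊗ K).homology i)) →
      ∀ (L₁ L₂ : DRing.Cx R) (f : L₁ ⟶ L₂), QuasiIso f → QuasiIso (f ▷ K)) ∧
    (∀ (P Q : DRing.Cx R) (α : P ⟶ Q), (∀ L : DRing.Cx R, (∀ i : ℤ, IsZero (L.homology i)) → ∀ i : ℤ, IsZero ((L ⊗ P).homology i)) →
      (∀ L : DRing.Cx R, (∀ i : ℤ, IsZero (L.homology i)) → ∀ i : ℤ, IsZero ((L ⊗ Q).homology i)) → QuasiIso α →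
        ∀ L : DRing.Cx R, QuasiIso (L ◁ α)) := by
  refine ⟨fun K hK L₁ L₂ f hf => quasiIso_whiskerRight_of_kflat f K hK, ?_⟩
  intro P Q α hP hQ hα L
  obtain ⟨L', π, hL', -, hπ, -⟩ := exists_kprojective_resolution L
  have hL'F : KFlatL L' := (kflat_of_isKProjective L').kflatL
  have h1 : QuasiIso (π ▷ P) := quasiIso_whiskerRight_of_kflat π P hP
  have h2 : QuasiIso (π ▷ Q) := quasiIso_whiskerRight_of_kflat π Q hQ
  have h3 : QuasiIso (L' ◁ α) := quasiIso_whiskerLeft_of_kflatL α L' hL'F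
  have h4 : (π ▷ P) ≫ (L ◁ α) = (L' ◁ α) ≫ (π ▷ Q) := (whisker_exchange π α).symm
  have h5 : QuasiIso ((π ▷ P) ≫ (L ◁ α)) := by rw [h4]; infer_instance
  exact quasiIso_of_comp_left (π ▷ P) (L ◁ α)

end Groth.Agent.S6907
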