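import Groth.Statements.S6909
import Mathlib

set_option autoImplicit false
universe u
open CAlg

namespace Groth.Agent.S6909

section Helpers

variable {A : Type u} [CommRing A] (I : Ideal A) {L M N : Type u} [AddCommGroup L] [Module A L]
  [AddCommGroup M] [Module A M] [AddCommGroup N] [Module A N]

/-- a map landing in `I^(c+1) M` raises the filtration degree by `c+1` -/
lemma delta_mem (d : L →ₗ[A] M) (c : ℕ) (hd : ∀ x : L, d x ∈ I ^ (c + 1) • (⊤ : Submodule A M))
    (k : ℕ) (x : L) (hx : x ∈ I ^ k • (⊤ : Submodule A L)) :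
    d x ∈ I ^ (k + c + 1) • (⊤ : Submodule A M) := by
  have h1 : Submodule.map d (I ^ k • (⊤ : Submodule A L)) ≤ I ^ (k + c + 1) • (⊤ : Submodule A M) := by
    rw [Submodule.map_smul'', add_assoc, pow_add, mul_smul]
    apply Submodule.smul_mono le_rfl
    rintro _ ⟨x, -, rfl⟩
    exact hd x
  exact h1 ⟨x, hx, rfl⟩

/-- the inductive step -/
lemma step (f f' : L →ₗ[A] M) (g g' : M →ₗ[A] N) (c : ℕ)
    (hf : (∀ n : ℕ, c ≤ n → LinearMap.range f ⊓ (I ^ n • (⊤ : Submodule A M)) ≤
      Submodule.map f (I ^ (n - c) • (⊤ : Submodule A L))))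
    (hg : (∀ n : ℕ, c ≤ n → LinearMap.range g ⊓ (I ^ n • (⊤ : Submodule A N)) ≤
      Submodule.map g (I ^ (n - c) • (⊤ : Submodule A M))))
    (hex : Function.Exact f g)
    (hff' : ∀ x : L, f x - f' x ∈ I ^ (c + 1) • (⊤ : Submodule A M))
    (hgg' : ∀ y : M, g y - g' y ∈ I ^ (c + 1) • (⊤ : Submodule A N))
    (k : ℕ) (x : M) (hx : x ∈ I ^ k • (⊤ : Submodule A M))
    (hgx : g' x ∈ I ^ (k + c + 1) • (⊤ : Submodule A N)) :
    ∃ l : L, x - f' l ∈ I ^ (k + 1) • (⊤ : Submodule A M) := by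
  have h1 : g x ∈ I ^ (k + c + 1) • (⊤ : Submodule A N) := by
    have := delta_mem I (g - g') c (fun y => hgg' y) k x hx
    have h2 : g x = g' x + (g - g') x := by simp
    rw [h2]
    exact Submodule.add_mem _ hgx this
  have h2 := hg (k + c + 1) (by omega) ⟨⟨x, rfl⟩, h1⟩
  have hk : k + c + 1 - c = k + 1 := by omega
  rw [hk] at h2
  obtain ⟨x₂, hx₂, hgx₂⟩ := h2
  have h3 : x - x₂ ∈ LinearMap.range f := by
    rw [← LinearMap.exact_iff.1 hex, LinearMap.mem_ker, map_sub, hgx₂, sub_self]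
  have hx₂' : x₂ ∈ I ^ k • (⊤ : Submodule A M) :=
    Submodule.smul_mono_left (Ideal.pow_le_pow_right (Nat.le_succ k)) hx₂
  have h4 : x - x₂ ∈ I ^ k • (⊤ : Submodule A M) := Submodule.sub_mem _ hx hx₂'
  by_cases hkc : c ≤ k
  · obtain ⟨l', hl', hfl'⟩ := hf k hkc ⟨h3, h4⟩
    refine ⟨l', ?_⟩
    have h5 := delta_mem I (f - f') c (fun y => hff' y) (k - c) l' hl'
    have hk2 : k - c + c + 1 = k + 1 := by omega
    rw [hk2] at h5
    have h6 : x - f' l' = x₂ + (f - f') l' := by
      rw [LinearMap.sub_apply, hfl']; abel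
    rw [h6]
    exact Submodule.add_mem _ hx₂ h5
  · obtain ⟨l₀, hl₀⟩ := h3
    refine ⟨l₀, ?_⟩
    have h5 : (f - f') l₀ ∈ I ^ (k + 1) • (⊤ : Submodule A M) :=
      Submodule.smul_mono_left (Ideal.pow_le_pow_right (by omega)) (hff' l₀)
    have h6 : x - f' l₀ = x₂ + (f - f') l₀ := by
      rw [LinearMap.sub_apply, hl₀]; abel
    rw [h6]
    exact Submodule.add_mem _ hx₂ h5

end Helpers

/-- Let `A` be a Noetherian ring, `I ⊆ A` an ideal inside the Jacobson radical, and `L → M → N` two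
complexes `(f, g)` and `(f', g')` of finite `A`-modules with `f' ≡ f` modulo `I^{c+1}M` and `g' ≡ g`
modulo `I^{c+1}N`. If `c` works in the Artin–Rees lemma for `f` and for `g` (that is `f(L) ∩ IⁿM ⊆
f(I^{n-c}L)` for `n ≥ c`, and likewise for `g`) and `(f, g)` is exact, then `c` works for `g'` and
`(f', g')` is exact. -/
theorem result {A : Type u} [CommRing A] [IsNoetherianRing A] (I : Ideal A)
    (hI : I ≤ Ideal.jacobson (⊥ : Ideal A)) {L M N : Type u} [AddCommGroup L] [Module A L] [Module.Finite A L]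
    [AddCommGroup M] [Module A M] [Module.Finite A M] [AddCommGroup N] [Module A N] [Module.Finite A N]
    (f f' : L →ₗ[A] M) (g g' : M →ₗ[A] N) (c : ℕ) (hgf : g.comp f = 0) (hgf' : g'.comp f' = 0)
    (hf : (∀ n : ℕ, c ≤ n → LinearMap.range f ⊓ (I ^ n • (⊤ : Submodule A M)) ≤ Submodule.map f (I ^ (n - c) • (⊤ : Submodule A L))))
    (hg : (∀ n : ℕ, c ≤ n → LinearMap.range g ⊓ (I ^ n • (⊤ : Submodule A N)) ≤ Submodule.map g (I ^ (n - c) • (⊤ : Submodule A M))))
    (hex : Function.Exact f g)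
    (hff' : ∀ x : L, f x - f' x ∈ I ^ (c + 1) • (⊤ : Submodule A M))
    (hgg' : ∀ y : M, g y - g' y ∈ I ^ (c + 1) • (⊤ : Submodule A N)) :
    (∀ n : ℕ, c ≤ n → LinearMap.range g' ⊓ (I ^ n • (⊤ : Submodule A N)) ≤ Submodule.map g' (I ^ (n - c) • (⊤ : Submodule A M))) ∧
    Function.Exact f' g' := by
  have hg'f' : ∀ l : L, g' (f' l) = 0 := fun l => LinearMap.congr_fun hgf' l
  constructor
  · rintro n hn y ⟨⟨x, rfl⟩, hy⟩
    have key : ∀ k : ℕ, k ≤ n - c → ∃ xk ∈ I ^ k • (⊤ : Submodule A M), g' xk = g' x := by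
      intro k
      induction k with
      | zero => intro _; exact ⟨x, by simp, rfl⟩
      | succ k ih =>
        intro hk
        obtain ⟨xk, hxk, hgxk⟩ := ih (by omega)
        have h1 : g' xk ∈ I ^ (k + c + 1) • (⊤ : Submodule A N) := by
          rw [hgxk]
          exact Submodule.smul_mono_left (Ideal.pow_le_pow_right (by omega)) hy
        obtain ⟨l, hl⟩ := step I f f' g g' c hf hg hex hff' hgg' k xk hxk h1
        exact ⟨xk - f' l, hl, by rw [map_sub, hg'f', sub_zero, hgxk]⟩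
    obtain ⟨xk, hxk, hgxk⟩ := key (n - c) le_rfl
    exact ⟨xk, hxk, hgxk⟩
  · intro x
    constructor
    · intro hx
      have key : ∀ k : ℕ, ∃ xk ∈ I ^ k • (⊤ : Submodule A M), g' xk = 0 ∧
          x - xk ∈ LinearMap.range f' := by
        intro k
        induction k with
        | zero => exact ⟨x, by simp, hx, by simp⟩
        | succ k ih =>
          obtain ⟨xk, hxk, hgxk, hxx⟩ := ih
          have h1 : g' xk ∈ I ^ (k + c + 1) • (⊤ : Submodule A N) := by
            rw [hgxk]; exact Submodule.zero_mem _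
          obtain ⟨l, hl⟩ := step I f f' g g' c hf hg hex hff' hgg' k xk hxk h1
          refine ⟨xk - f' l, hl, by rw [map_sub, hg'f', sub_zero, hgxk], ?_⟩
          have : x - (xk - f' l) = (x - xk) + f' l := by abel
          rw [this]
          exact Submodule.add_mem _ hxx ⟨l, rfl⟩
      have hq : (LinearMap.range f').mkQ x ∈
          (⨅ i : ℕ, I ^ i • ⊤ : Submodule A (M ⧸ LinearMap.range f')) := by
        rw [Submodule.mem_iInf]
        intro k
        obtain ⟨xk, hxk, -, hxx⟩ := key k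
        have h1 : (LinearMap.range f').mkQ x = (LinearMap.range f').mkQ xk := by
          rw [← sub_eq_zero, ← map_sub, Submodule.mkQ_apply, Submodule.Quotient.mk_eq_zero]
          exact hxx
        rw [h1]
        have h2 : Submodule.map (LinearMap.range f').mkQ (I ^ k • (⊤ : Submodule A M)) ≤
            I ^ k • (⊤ : Submodule A (M ⧸ LinearMap.range f')) := by
          rw [Submodule.map_smul'']
          exact Submodule.smul_mono le_rfl le_top
        exact h2 ⟨xk, hxk, rfl⟩
      rw [Ideal.iInf_pow_smul_eq_bot_of_le_jacobson I hI, Submodule.mem_bot, Submodule.mkQ_apply,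
        Submodule.Quotient.mk_eq_zero] at hq
      exact hq
    · rintro ⟨l, rfl⟩
      exact hg'f' l

end Groth.Agent.S6909
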