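import Groth.Statements.S6910
import Mathlib
import Groth.Agent.S6909
-- import your own Groth.Agent.* helpers here

set_option autoImplicit false
universe u
open CAlg

namespace Groth.Agent.S6910.Aux

set_option autoImplicit false

section
variable {A : Type u} [CommRing A] (I : Ideal A) {M N : Type u}
    [AddCommGroup M] [Module A M] [AddCommGroup N] [Module A N]

/-- a linear map whose values lie in `I^a N` sends `I^b M` into `I^(b+a) N` -/
lemma map_mem_pow_add (h : M →ₗ[A] N) (a b : ℕ) (hh : ∀ y, h y ∈ I ^ a • (⊤ : Submodule A N))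
    (x : M) (hx : x ∈ I ^ b • (⊤ : Submodule A M)) : h x ∈ I ^ (b + a) • (⊤ : Submodule A N) := by
  refine Submodule.smul_induction_on hx ?_ ?_
  · intro r hr m _
    rw [map_smul, pow_add, mul_smul]
    exact Submodule.smul_mem_smul hr (hh m)
  · intro x y hx hy
    rw [map_add]; exact Submodule.add_mem _ hx hy

/-- one inclusion -/
lemma one_side (g g' : M →ₗ[A] N) (c : ℕ)
    (hg : (∀ n : ℕ, c ≤ n → LinearMap.range g ⊓ (I ^ n • (⊤ : Submodule A N)) ≤ Submodule.map g (I ^ (n - c) • (⊤ : Submodule A M))))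
    (hgg' : ∀ y : M, g y - g' y ∈ I ^ (c + 1) • (⊤ : Submodule A N)) (n : ℕ) :
    LinearMap.range g ⊓ I ^ n • (⊤ : Submodule A N) ≤
      I ^ (n + 1) • (⊤ : Submodule A N) ⊔ (LinearMap.range g' ⊓ I ^ n • (⊤ : Submodule A N)) := by
  have hmono : ∀ {a b : ℕ}, a ≤ b → I ^ b • (⊤ : Submodule A N) ≤ I ^ a • (⊤ : Submodule A N) :=
    fun hab => Submodule.smul_mono_left (Ideal.pow_le_pow_right hab)
  intro y hy
  -- find x with g x = y and (g - g') x ∈ I^(n+1) N
  obtain ⟨x, hxy, hδ⟩ : ∃ x, g x = y ∧ g x - g' x ∈ I ^ (n + 1) • (⊤ : Submodule A N) := by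
    by_cases hcn : c ≤ n
    · obtain ⟨x, hx, hxy⟩ := hg n hcn hy
      refine ⟨x, hxy, ?_⟩
      have := map_mem_pow_add I (g - g') (c + 1) (n - c) (fun y => hgg' y) x hx
      have he : n - c + (c + 1) = n + 1 := by omega
      rw [he] at this
      exact this
    · obtain ⟨x, hxy⟩ := hy.1
      refine ⟨x, hxy, ?_⟩
      exact hmono (by omega) (hgg' x)
  have hg'x : g' x = y - (g x - g' x) := by rw [hxy]; abel
  have hyn : y ∈ I ^ n • (⊤ : Submodule A N) := hy.2
  have h1 : g' x ∈ LinearMap.range g' ⊓ I ^ n • (⊤ : Submodule A N) := by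
    refine ⟨⟨x, rfl⟩, ?_⟩
    rw [hg'x]
    exact Submodule.sub_mem _ hyn (hmono (Nat.le_succ n) hδ)
  have h2 : y = (g x - g' x) + g' x := by rw [hxy]; abel
  rw [h2]
  exact Submodule.add_mem_sup hδ h1

end

theorem main {A : Type u} [CommRing A] [IsNoetherianRing A] (I : Ideal A)
    (hI : I ≤ Ideal.jacobson (⊥ : Ideal A)) {L M N : Type u} [AddCommGroup L] [Module A L] [Module.Finite A L]
    [AddCommGroup M] [Module A M] [Module.Finite A M] [AddCommGroup N] [Module A N] [Module.Finite A N]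
    (f f' : L →ₗ[A] M) (g g' : M →ₗ[A] N) (c : ℕ) (hgf : g.comp f = 0) (hgf' : g'.comp f' = 0)
    (hf : (∀ n : ℕ, c ≤ n → LinearMap.range f ⊓ (I ^ n • (⊤ : Submodule A M)) ≤ Submodule.map f (I ^ (n - c) • (⊤ : Submodule A L))))
    (hg : (∀ n : ℕ, c ≤ n → LinearMap.range g ⊓ (I ^ n • (⊤ : Submodule A N)) ≤ Submodule.map g (I ^ (n - c) • (⊤ : Submodule A M))))
    (hex : Function.Exact f g)
    (hff' : ∀ x : L, f x - f' x ∈ I ^ (c + 1) • (⊤ : Submodule A M))
    (hgg' : ∀ y : M, g y - g' y ∈ I ^ (c + 1) • (⊤ : Submodule A N)) (n : ℕ) :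
    I ^ (n + 1) • (⊤ : Submodule A N) ⊔ (LinearMap.range g ⊓ I ^ n • (⊤ : Submodule A N)) =
      I ^ (n + 1) • (⊤ : Submodule A N) ⊔ (LinearMap.range g' ⊓ I ^ n • (⊤ : Submodule A N)) := by
  have hg' := (Groth.Agent.S6909.result I hI f f' g g' c hgf hgf' hf hg hex hff' hgg').1
  have hg'g : ∀ y : M, g' y - g y ∈ I ^ (c + 1) • (⊤ : Submodule A N) := by
    intro y
    have := Submodule.neg_mem _ (hgg' y)
    rwa [neg_sub] at this
  apply le_antisymm
  · exact sup_le le_sup_left (one_side I g g' c hg hgg' n)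
  · exact sup_le le_sup_left (one_side I g' g c hg' hg'g n)

end Groth.Agent.S6910.Aux

namespace Groth.Agent.S6910

/-- Let `A` be a Noetherian ring, `I ⊆ A` an ideal inside the Jacobson radical, and `L → M → N` two
complexes `(f, g)` and `(f', g')` of finite `A`-modules with `f' ≡ f` modulo `I^{c+1}M` and `g' ≡ g`
modulo `I^{c+1}N`, such that the Artin–Rees bound holds with constant `c` for both `f` and `g`, and
`(f, g)` is exact. Then for every `n` the submodules `I^{n+1}N + g(M) ∩ IⁿN` and `I^{n+1}N + g'(M) ∩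
IⁿN` of `N` are equal; consequently the associated graded modules of `Coker g` and `Coker g'` with
respect to `I` coincide degreewise as subquotients of `N`. -/
theorem result {A : Type u} [CommRing A] [IsNoetherianRing A] (I : Ideal A)
    (hI : I ≤ Ideal.jacobson (⊥ : Ideal A)) {L M N : Type u} [AddCommGroup L] [Module A L] [Module.Finite A L]
    [AddCommGroup M] [Module A M] [Module.Finite A M] [AddCommGroup N] [Module A N] [Module.Finite A N]
    (f f' : L →ₗ[A] M) (g g' : M →ₗ[A] N) (c : ℕ) (hgf : g.comp f = 0) (hgf' : g'.comp f' = 0)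
    (hf : (∀ n : ℕ, c ≤ n → LinearMap.range f ⊓ (I ^ n • (⊤ : Submodule A M)) ≤ Submodule.map f (I ^ (n - c) • (⊤ : Submodule A L))))
    (hg : (∀ n : ℕ, c ≤ n → LinearMap.range g ⊓ (I ^ n • (⊤ : Submodule A N)) ≤ Submodule.map g (I ^ (n - c) • (⊤ : Submodule A M))))
    (hex : Function.Exact f g)
    (hff' : ∀ x : L, f x - f' x ∈ I ^ (c + 1) • (⊤ : Submodule A M))
    (hgg' : ∀ y : M, g y - g' y ∈ I ^ (c + 1) • (⊤ : Submodule A N)) (n : ℕ) :
    I ^ (n + 1) • (⊤ : Submodule A N) ⊔ (LinearMap.range g ⊓ I ^ n • (⊤ : Submodule A N)) =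
      I ^ (n + 1) • (⊤ : Submodule A N) ⊔ (LinearMap.range g' ⊓ I ^ n • (⊤ : Submodule A N)) := by
  exact Aux.main I hI f f' g g' c hgf hgf' hf hg hex hff' hgg' n

end Groth.Agent.S6910
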