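import Groth.Statements.S6912
import Mathlib
-- import your own Groth.Agent.* helpers here

set_option autoImplicit false
universe u
open TensorProduct
open CAlg

namespace Groth.Agent.S6912

section aux

open nonZeroDivisors

variable (R : Type u) [CommRing R] [IsDomain R]

/-- rank over a domain equals the rank of the localized module over the fraction field -/
theorem rank_localizedModule_eq (M : Type u) [AddCommGroup M] [Module R M] :
    Module.rank (FractionRing R) (LocalizedModule R⁰ M) = Module.rank R M := by
  rw [IsLocalization.rank_eq (FractionRing R) R⁰ le_rfl,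
    IsLocalizedModule.rank_eq R⁰ le_rfl (LocalizedModule.mkLinearMap R⁰ M)]

end aux

/-- Let `R` be a domain and `M`, `N` two `R`-modules; rank means dimension over the fraction field after
base change. Then `rank (M ⊗_R N) = rank M · rank N`, and when `M` is finitely presented also `rank
Hom_R(M, N) = rank M · rank N`. -/
theorem result (R : Type u) [CommRing R] [IsDomain R] (M N : Type u)
    [AddCommGroup M] [Module R M] [AddCommGroup N] [Module R N] :
    Module.rank R (M ⊗[R] N) = Module.rank R M * Module.rank R N ∧
    (Module.FinitePresentation R M → Module.rank R (M →ₗ[R] N) = Module.rank R M * Module.rank R N) := by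
  let K := FractionRing R
  constructor
  · have h1 : Module.rank K (K ⊗[R] (M ⊗[R] N)) = Module.rank R (M ⊗[R] N) :=
      IsBaseChange.rank_eq (TensorProduct.isBaseChange R (M ⊗[R] N) K)
    have h2 : Module.rank K (K ⊗[R] M) = Module.rank R M :=
      IsBaseChange.rank_eq (TensorProduct.isBaseChange R M K)
    have h3 : Module.rank K (K ⊗[R] N) = Module.rank R N :=
      IsBaseChange.rank_eq (TensorProduct.isBaseChange R N K)
    rw [← h1, ← h2, ← h3,
      (TensorProduct.AlgebraTensorModule.distribBaseChange R K M N).rank_eq]
    exact rank_tensorProduct'
  · intro hfp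
    have h1 : Module.rank K (LocalizedModule (nonZeroDivisors R) M →ₗ[K]
        LocalizedModule (nonZeroDivisors R) N) = Module.rank R (M →ₗ[R] N) := by
      rw [IsLocalization.rank_eq K (nonZeroDivisors R) le_rfl,
        IsLocalizedModule.rank_eq (nonZeroDivisors R) le_rfl
          (LocalizedModule.map (nonZeroDivisors R) (M := M) (N := N))]
    rw [← h1, ← rank_localizedModule_eq R M, ← rank_localizedModule_eq R N,
      Module.rank_linearMap]
    simp only [Cardinal.lift_id]
    rfl

end Groth.Agent.S6912
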