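import Groth.Statements.S6913
import Mathlib
-- import your own Groth.Agent.* helpers here

set_option autoImplicit false
universe u
open CAlg

namespace Groth.Agent.S6913.Aux

namespace RankStr
variable (R : Type u) [CommRing R] [IsDomain R] (M : Type u) [AddCommGroup M]
  [Module R M] [Module.Finite R M]

theorem main :
    (∃ h : M →ₗ[R] (Fin (Module.finrank R M) → R),
      (∀ x : M, h x = 0 → ∃ c : R, c ≠ 0 ∧ c • x = 0) ∧
      (∀ y : Fin (Module.finrank R M) → R, ∃ c : R, c ≠ 0 ∧ c • y ∈ LinearMap.range h)) ∧
    (∃ f : R, f ≠ 0 ∧ Module.Free (Localization.Away f) (LocalizedModule (Submonoid.powers f) M) ∧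
      Module.finrank (Localization.Away f) (LocalizedModule (Submonoid.powers f) M) = Module.finrank R M) ∧
    (∃ g : (Fin (Module.finrank R M) → R) →ₗ[R] M, Function.Injective g ∧
      ∀ x : M, ∃ c : R, c ≠ 0 ∧ c • x ∈ LinearMap.range g) := by
  classical
  generalize hr : Module.finrank R M = r
  obtain ⟨v, hv⟩ : ∃ v : Fin r → M, LinearIndependent R v :=
    exists_linearIndependent_of_le_finrank (le_of_eq hr.symm)
  let g : (Fin r → R) →ₗ[R] M := Fintype.linearCombination R v
  have hg_apply : ∀ y : Fin r → R, g y = ∑ i, y i • v i := fun y =>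
    Fintype.linearCombination_apply R v y
  have hg_inj : Function.Injective g := by
    rw [injective_iff_map_eq_zero]
    intro y hy
    rw [hg_apply] at hy
    funext i
    exact Fintype.linearIndependent_iff.mp hv y hy i
  have hg_tors : ∀ x : M, ∃ c : R, c ≠ 0 ∧ c • x ∈ LinearMap.range g := by
    intro x
    have hnot : ¬ LinearIndependent R (Fin.cons x v : Fin (r + 1) → M) := by
      intro hli
      have := hli.fintype_card_le_finrank
      rw [hr, Fintype.card_fin] at this
      omega
    rw [Fintype.linearIndependent_iff] at hnot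
    push Not at hnot
    obtain ⟨a, ha, i0, hi0⟩ := hnot
    rw [Fin.sum_univ_succ] at ha
    simp only [Fin.cons_zero, Fin.cons_succ] at ha
    have ha0 : a 0 ≠ 0 := by
      intro h0
      rw [h0, zero_smul, zero_add] at ha
      have h1 := Fintype.linearIndependent_iff.mp hv (fun i => a i.succ) ha
      refine hi0 ?_
      refine Fin.cases h0 (fun i => h1 i) i0
    refine ⟨a 0, ha0, ⟨fun i => -a i.succ, ?_⟩⟩
    rw [hg_apply]
    simp only [neg_smul, Finset.sum_neg_distrib]
    exact (eq_neg_of_add_eq_zero_left ha).symm
  -- common denominator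
  obtain ⟨n, s, hs⟩ := Module.Finite.exists_fin (R := R) (M := M)
  choose cj hcj0 hcj using fun j => hg_tors (s j)
  set c : R := ∏ j, cj j with hc
  have hc0 : c ≠ 0 := Finset.prod_ne_zero_iff.mpr fun j _ => hcj0 j
  have hcM : ∀ x : M, c • x ∈ LinearMap.range g := by
    intro x
    have hx : x ∈ Submodule.span R (Set.range s) := hs ▸ Submodule.mem_top
    induction hx using Submodule.span_induction with
    | mem x hx =>
      obtain ⟨j, rfl⟩ := hx
      have : c = (∏ j' ∈ Finset.univ.erase j, cj j') * cj j :=
        (Finset.prod_erase_mul _ _ (Finset.mem_univ j)).symm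
      rw [this, mul_smul]
      exact Submodule.smul_mem _ _ (hcj j)
    | zero => rw [smul_zero]; exact Submodule.zero_mem _
    | add x y _ _ hx hy => rw [smul_add]; exact Submodule.add_mem _ hx hy
    | smul a x _ hx => rw [smul_comm]; exact Submodule.smul_mem _ _ hx
  choose y hy using hcM
  -- `hy x : g (y x) = c • x`
  let h : M →ₗ[R] (Fin r → R) :=
    { toFun := y
      map_add' := fun a b => hg_inj (by rw [map_add, hy, hy, hy, smul_add])
      map_smul' := fun a b => hg_inj (by
        rw [RingHom.id_apply, map_smul, hy, hy, smul_comm]) }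
  have hh : ∀ x, g (h x) = c • x := hy
  refine ⟨⟨h, ?_, ?_⟩, ⟨c, hc0, ?_⟩, ⟨g, hg_inj, hg_tors⟩⟩
  · intro x hx
    refine ⟨c, hc0, ?_⟩
    rw [← hh, hx, map_zero]
  · intro y0
    refine ⟨c, hc0, ⟨g y0, ?_⟩⟩
    apply hg_inj
    rw [hh, map_smul]
  · -- localisation
    set S := Submonoid.powers c with hS
    let mk := LocalizedModule.mkLinearMap S M
    have hli : LinearIndependent (Localization.Away c) (mk ∘ v) :=
      hv.of_isLocalizedModule (Localization.Away c) S mk
    have hspan : ⊤ ≤ Submodule.span (Localization.Away c) (Set.range (mk ∘ v)) := by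
      intro z _
      obtain ⟨⟨x, t⟩, hxt⟩ := IsLocalizedModule.surj S mk z
      simp only at hxt
      have hcS : c ∈ S := Submonoid.mem_powers c
      have h1 : (c * (t : R)) • z = mk (c • x) := by
        rw [mul_smul, map_smul]
        congr 1
      have h2 : mk (c • x) ∈ Submodule.span (Localization.Away c) (Set.range (mk ∘ v)) := by
        rw [← hh, hg_apply, map_sum]
        refine Submodule.sum_mem _ fun i _ => ?_
        rw [map_smul, ← algebraMap_smul (Localization.Away c)]
        exact Submodule.smul_mem _ _ (Submodule.subset_span ⟨i, rfl⟩)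
      have hu : IsUnit (algebraMap R (Localization.Away c) (c * (t : R))) :=
        IsLocalization.map_units (Localization.Away c) (⟨c * t, S.mul_mem hcS t.2⟩ : S)
      obtain ⟨u, hu'⟩ := hu
      have h3 : z = (↑u⁻¹ : Localization.Away c) • ((c * (t : R)) • z) := by
        rw [← algebraMap_smul (Localization.Away c) (c * (t : R)) z, ← hu', smul_smul,
          Units.inv_mul, one_smul]
      rw [h3, h1]
      exact Submodule.smul_mem _ _ h2
    have : IsDomain (Localization.Away c) :=
      IsLocalization.isDomain_localization (powers_le_nonZeroDivisors_of_noZeroDivisors hc0)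
    let b : Module.Basis (Fin r) (Localization.Away c) (LocalizedModule S M) :=
      Module.Basis.mk hli hspan
    refine ⟨Module.Free.of_basis b, ?_⟩
    rw [Module.finrank_eq_card_basis b, Fintype.card_fin]

end RankStr

end Groth.Agent.S6913.Aux

namespace Groth.Agent.S6913

/-- Let `R` be a domain and `M` a finite `R`-module, of (finite) rank `r`. Then: some linear map `M →
R^r` has torsion kernel and torsion cokernel; some nonzero `f ∈ R` makes `M_f` free of rank `r` over
`R_f`; and some injective linear map `R^r → M` has torsion cokernel. -/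
theorem result (R : Type u) [CommRing R] [IsDomain R] (M : Type u) [AddCommGroup M]
    [Module R M] [Module.Finite R M] :
    (∃ h : M →ₗ[R] (Fin (Module.finrank R M) → R),
      (∀ x : M, h x = 0 → ∃ c : R, c ≠ 0 ∧ c • x = 0) ∧
      (∀ y : Fin (Module.finrank R M) → R, ∃ c : R, c ≠ 0 ∧ c • y ∈ LinearMap.range h)) ∧
    (∃ f : R, f ≠ 0 ∧ Module.Free (Localization.Away f) (LocalizedModule (Submonoid.powers f) M) ∧
      Module.finrank (Localization.Away f) (LocalizedModule (Submonoid.powers f) M) = Module.finrank R M) ∧
    (∃ g : (Fin (Module.finrank R M) → R) →ₗ[R] M, Function.Injective g ∧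
      ∀ x : M, ∃ c : R, c ≠ 0 ∧ c • x ∈ LinearMap.range g) := by
  exact Aux.RankStr.main R M

end Groth.Agent.S6913
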