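import Groth.Statements.S6917
import Mathlib
import Groth.Agent.Lib.Helper22SpecPushoutTop

set_option autoImplicit false
universe u
open CategoryTheory
open EtAlg

namespace Groth.Agent.S6917

open CategoryTheory CategoryTheory.Limits Groth.Agent.Lib.Helper22.SpPO

theorem fs_of_isFibreSquare (B' B A' A : Type u) [CommRing B'] [CommRing B] [CommRing A'] [CommRing A]
    [Algebra B' B] [Algebra B' A'] [Algebra B A] [Algebra A' A] [Algebra B' A] [IsScalarTower B' B A] [IsScalarTower B' A' A]
    (hsq : EtMil.IsFibreSquare B' B A' A) :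
    FS (algebraMap A' A) (algebraMap B A) (algebraMap B' B) (algebraMap B' A') := by
  refine ⟨?_, ?_, ?_⟩
  · intro r
    rw [← IsScalarTower.algebraMap_apply, ← IsScalarTower.algebraMap_apply]
  · intro r h1 h2
    obtain ⟨z, _, hz⟩ := hsq.2 0 0 (by simp)
    rw [hz r ⟨h1, h2⟩, hz 0 ⟨map_zero _, map_zero _⟩]
  · intro b a hba
    obtain ⟨r, ⟨h1, h2⟩, -⟩ := hsq.2 b a hba
    exact ⟨r, h1, h2⟩

/-- Let `B' = B ×_A A'` be a fibre square of rings with `A' → A` surjective. Then `Spec(B') = Spec(B)
⨿_{Spec(A)} Spec(A')`: the square of prime spectra is a pushout of topological spaces. -/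
theorem result (B' B A' A : Type u) [CommRing B'] [CommRing B] [CommRing A'] [CommRing A]
    [Algebra B' B] [Algebra B' A'] [Algebra B A] [Algebra A' A] [Algebra B' A] [IsScalarTower B' B A] [IsScalarTower B' A' A]
    (hsq : EtMil.IsFibreSquare B' B A' A) :
    IsPushout (TopCat.ofHom (ContinuousMap.mk (PrimeSpectrum.comap (algebraMap B A)) (PrimeSpectrum.continuous_comap _))) (TopCat.ofHom (ContinuousMap.mk (PrimeSpectrum.comap (algebraMap A' A)) (PrimeSpectrum.continuous_comap _)))
      (TopCat.ofHom (ContinuousMap.mk (PrimeSpectrum.comap (algebraMap B' B)) (PrimeSpectrum.continuous_comap _)))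
      (TopCat.ofHom (ContinuousMap.mk (PrimeSpectrum.comap (algebraMap B' A')) (PrimeSpectrum.continuous_comap _))) := by
  exact isPushout_top (fs_of_isFibreSquare B' B A' A hsq) hsq.1

end Groth.Agent.S6917
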