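import Groth.Statements.S6920
import Mathlib
-- import your own Groth.Agent.* helpers here

set_option autoImplicit false
universe u
open CategoryTheory CategoryTheory.Limits MonoidalCategory
open DRing

namespace Groth.Agent.S6920

open TensorProduct in
lemma map_smul_of_epi {R S : Type u} [CommRing R] [CommRing S] (φ : R →+* S)
    (hφ : Epi (CommRingCat.ofHom φ)) (M N : ModuleCat.{u} S)
    (g : (ModuleCat.restrictScalars φ).obj M ⟶ (ModuleCat.restrictScalars φ).obj N)
    (s : S) (m : M) :
    g.hom (s • m : M) = (s • (show ↑N from g.hom m) : N) := by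
  letI : Algebra R S := φ.toAlgebra
  have hepi : Algebra.IsEpi R S := CommRingCat.epi_iff_epi.mp hφ
  have h1 := (Algebra.isEpi_iff_forall_one_tmul_eq R S).1 hepi s
  let N' := ↑((ModuleCat.restrictScalars φ).obj N)
  have hsm : ∀ (r : R) (n : N'), r • n = (φ r • (show ↑N from n) : N) := fun r n => rfl
  have hsmM : ∀ (r : R) (x : ↑((ModuleCat.restrictScalars φ).obj M)),
      r • x = (φ r • (show ↑M from x) : M) := fun r n => rfl
  let β : S →ₗ[R] S →ₗ[R] N' := LinearMap.mk₂ R
    (fun a b => (a • (show ↑N from g.hom (b • m : M)) : N))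
    (fun a a' b => add_smul _ _ _)
    (fun r a b => by
      change ((r • a) • (show ↑N from g.hom (b • m : M)) : N) = r • (show N' from _)
      rw [hsm, Algebra.smul_def, mul_smul]
      rfl)
    (fun a b b' => by
      change (a • (show ↑N from g.hom ((b + b') • m : M)) : N) = _
      rw [add_smul]
      erw [map_add]
      exact smul_add _ _ _)
    (fun r a b => by
      change (a • (show ↑N from g.hom ((r • b) • m : M)) : N) = r • (show N' from _)
      rw [hsm, Algebra.smul_def, mul_smul]
      have : g.hom (show ↑((ModuleCat.restrictScalars φ).obj M) from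
          (algebraMap R S r • (b • m : M) : M)) = r • g.hom (b • m : M) := by
        rw [← map_smul]
        rfl
      erw [this]
      rw [hsm]
      exact smul_comm _ _ _)
  have h2 := congrArg (TensorProduct.lift β) h1
  rw [TensorProduct.lift.tmul, TensorProduct.lift.tmul] at h2
  change (1 : S) • (show ↑N from g.hom (s • m : M)) = (s • (show ↑N from g.hom ((1 : S) • m : M)) : N) at h2
  rw [one_smul, one_smul] at h2
  exact h2

/-- For an epimorphism of rings `φ : R → S` and a complex `I•` of `S`-modules, if the underlying complex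
of `R`-modules of `I•` is K-injective, then `I•` itself is K-injective over `S`. -/
theorem result (R S : Type u) [CommRing R] [CommRing S] (φ : R →+* S)
    (hφ : Epi (CommRingCat.ofHom φ)) (I : DRing.Cx S)
    [CochainComplex.IsKInjective ((DRing.restrictCx φ).obj I)] : CochainComplex.IsKInjective I := by
  refine ⟨fun {N} f hN => ?_⟩
  have hN' : ((DRing.restrictCx φ).obj N).Acyclic :=
    fun i => ShortComplex.Exact.map (hN i) (ModuleCat.restrictScalars.{u} φ)
  obtain ⟨h⟩ := CochainComplex.IsKInjective.nonempty_homotopy_zero
    ((DRing.restrictCx φ).map f) hN'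
  let hom' : ∀ i j : ℤ, N.X i ⟶ I.X j := fun i j => ModuleCat.ofHom
    { toFun := fun m => (h.hom i j).hom m
      map_add' := fun a b => map_add (h.hom i j).hom a b
      map_smul' := fun s m => map_smul_of_epi φ hφ (N.X i) (I.X j) (h.hom i j) s m }
  have hhom : ∀ (i j : ℤ) (m : N.X i), (hom' i j).hom m = (h.hom i j).hom m := fun i j m => rfl
  refine ⟨{ hom := hom', zero := ?_, comm := ?_ }⟩
  · intro i j hij
    apply ModuleCat.hom_ext
    apply LinearMap.ext
    intro m
    rw [hhom, h.zero i j hij]
    rfl
  · intro i
    have hc := h.comm i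
    rw [dNext_eq _ (show (ComplexShape.up ℤ).Rel i (i + 1) from rfl),
      prevD_eq _ (show (ComplexShape.up ℤ).Rel (i - 1) i by simp)] at hc ⊢
    apply ModuleCat.hom_ext
    apply LinearMap.ext
    intro m
    have hc' := congrArg (fun g => g.hom m) hc
    exact hc'

end Groth.Agent.S6920
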