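import Groth.Statements.S6923
import Groth.Agent.Lib.Helper14NilProj
import Groth.Agent.Lib.Helper14ProjLimAsm

set_option autoImplicit false
universe u
open Hensel

namespace Groth.Agent.S6923

/-- Let `A = lim A_n` be the limit of an inverse system of rings `(A_n)_{n ≥ 0}` in which each map
`A_{n+1} → A_n` is onto and every element of its kernel is nilpotent. Let `M_n` be `A_n`-modules
with compatible maps `M_{n+1} → M_n` such that `M_0` is finite projective, every `M_n` is finite and
flat over `A_n`, and the maps induce isomorphisms `M_{n+1} ⊗_{A_{n+1}} A_n → M_n` (i.e. are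
surjective with kernel `Ker(A_{n+1} → A_n) M_{n+1}`). Then the inverse limit of the `M_n` is a
finitely generated projective `A`-module whose base change to each `A_n` maps onto `M_n`
isomorphically: there is a finite projective `A`-module `P` with compatible maps `P → M_n`, each
surjective with kernel `Ker(A → A_n) P`, through which `P` maps bijectively onto the compatible
sequences in `∏ M_n`. -/
theorem result (A : Type u) [CommRing A] (An : ℕ → Type u)
    [∀ n, CommRing (An n)] (t : ∀ n, An (n + 1) →+* An n) (π : ∀ n, A →+* An n)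
    (ht : ∀ n, Function.Surjective (t n)) (hnil : ∀ n (x : An (n + 1)), t n x = 0 → IsNilpotent x)
    (hA : FlatCA.IsRingLimit A An t π)
    (M : ℕ → Type u) [∀ n, AddCommGroup (M n)] [∀ n, Module (An n) (M n)] (u : ∀ n, M (n + 1) →ₛₗ[t n] M n)
    [Module.Projective (An 0) (M 0)] (hfin : ∀ n, Module.Finite (An n) (M n)) (hflat : ∀ n, Module.Flat (An n) (M n))
    (hu : ∀ n, Function.Surjective (u n) ∧ LinearMap.ker (u n) = RingHom.ker (t n) • (⊤ : Submodule (An (n + 1)) (M (n + 1)))) :
    ∃ (P : Type u) (_ : AddCommGroup P) (_ : Module A P) (p : ∀ n, P →ₛₗ[π n] M n),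
      Module.Finite A P ∧ Module.Projective A P ∧ (∀ n (x : P), u n (p (n + 1) x) = p n x) ∧
      (∀ n, Function.Surjective (p n) ∧ LinearMap.ker (p n) = RingHom.ker (π n) • (⊤ : Submodule A P)) ∧
      (∀ x : (∀ n, M n), (∀ n, u n (x (n + 1)) = x n) → ∃! q : P, ∀ n, p n q = x n) := by
  classical
  have hproj : ∀ n, Module.Projective (An n) (M n) := by
    intro n
    induction n with
    | zero => infer_instance
    | succ n ih =>
      haveI := ih
      haveI := hfin n
      haveI := hfin (n + 1)
      haveI := hflat (n + 1)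
      exact Groth.Agent.Lib.Helper14.NilProj.projective_of_flat_of_nil (t n) (ht n) (hnil n) (u n)
        (hu n).1 (hu n).2
  letI : ∀ n, Module A (M n) := fun n => Module.compHom (M n) (π n)
  haveI := hfin
  haveI := hproj
  obtain ⟨P, hP, hPfin, hPproj, hPn⟩ := Groth.Agent.Lib.Helper14.ProjLimAsm.assembly An t π ht hnil
    hA.1 hA.2.1 hA.2.2 M (fun n a x => rfl) u hu
  refine ⟨P, inferInstance, inferInstance, fun n =>
    { toFun := fun x => x.1 n
      map_add' := fun x y => rfl
      map_smul' := fun a x => rfl }, hPfin, hPproj, ?_, ?_, ?_⟩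
  · intro n x
    exact (hP x.1).mp x.2 n
  · intro n
    refine ⟨(hPn n).1, ?_⟩
    ext x
    rw [LinearMap.mem_ker]
    exact (hPn n).2 x
  · intro x hx
    refine ⟨⟨x, (hP x).mpr hx⟩, fun n => rfl, ?_⟩
    intro q hq
    exact Subtype.ext (funext hq)

end Groth.Agent.S6923
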