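import Groth.Statements.S6925
import Groth.Agent.Lib.Helper28Flattening

set_option autoImplicit false
universe u
open TensorProduct
open FlatMor

namespace Groth.Agent.S6925

/-- Let `(R, 𝔪)` be a complete Noetherian local ring, `R → S` a ring map with `S` Noetherian and `M` a
finite `S`-module. Then among ideals contained in `𝔪`, there is a smallest one `I` with the
following property: whenever `𝔮` is a prime of `S` lying over `𝔪`, the module `(M/IM)_𝔮` is
`R/I`-flat. Namely, `I ⊆ 𝔪` has this property, and every ideal `J` with the property contains `I`. -/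
theorem result (R S : Type u) [CommRing R] [IsLocalRing R]
    [IsNoetherianRing R] [IsAdicComplete (IsLocalRing.maximalIdeal R) R] [CommRing S] [Algebra R S] [IsNoetherianRing S]
    (M : Type u) [AddCommGroup M] [Module S M] [Module R M] [IsScalarTower R S M] [Module.Finite S M] :
    ∃ I : Ideal R, I ≤ IsLocalRing.maximalIdeal R ∧
      (∀ (q : Ideal S) [q.IsPrime], q.comap (algebraMap R S) = IsLocalRing.maximalIdeal R →
        Module.Flat (R ⧸ I) ((R ⧸ I) ⊗[R] LocalizedModule q.primeCompl M)) ∧
      ∀ J : Ideal R, (∀ (q : Ideal S) [q.IsPrime], q.comap (algebraMap R S) = IsLocalRing.maximalIdeal R →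
        Module.Flat (R ⧸ J) ((R ⧸ J) ⊗[R] LocalizedModule q.primeCompl M)) → I ≤ J := by
  classical
  let P : Ideal R → Prop := fun J =>
    ∀ (q : Ideal S) [q.IsPrime], q.comap (algebraMap R S) = IsLocalRing.maximalIdeal R →
      Module.Flat (R ⧸ J) ((R ⧸ J) ⊗[R] LocalizedModule q.primeCompl M)
  have hPm : P (IsLocalRing.maximalIdeal R) := by
    intro q _ _
    letI := Ideal.Quotient.field (IsLocalRing.maximalIdeal R)
    infer_instance
  have htop : P ⊤ := fun q _ hq =>
    Groth.Agent.Lib.Helper28.Flattening.F_mono _ le_top (hPm q hq)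
  have hinf : ∀ J₁ J₂, P J₁ → P J₂ → P (J₁ ⊓ J₂) := fun J₁ J₂ h₁ h₂ q _ hq =>
    Groth.Agent.Lib.Helper28.Flattening.F_inf _ (h₁ q hq) (h₂ q hq)
  have hlim : ∀ Js : ℕ → Ideal R, Antitone Js → (∀ k, P (Js k)) → P (⨅ k, Js k) := by
    intro Js hanti h q _ hq
    refine Groth.Agent.Lib.Helper28.Flattening.F_iInf_of_antitone (B := Localization.AtPrime q)
      (LocalizedModule q.primeCompl M) ?_ Js hanti (fun k => h k q hq)
    rw [IsLocalRing.jacobson_eq_maximalIdeal _ bot_ne_top, Ideal.map_le_iff_le_comap]
    intro r hr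
    rw [Ideal.mem_comap, IsScalarTower.algebraMap_apply R S (Localization.AtPrime q),
      IsLocalization.AtPrime.to_map_mem_maximal_iff (Localization.AtPrime q) q]
    rw [← hq] at hr
    exact hr
  obtain ⟨I, hI, hImin⟩ := Groth.Agent.Lib.Helper28.Flattening.exists_smallest P htop hinf hlim
  exact ⟨I, hImin _ hPm, hI, hImin⟩

end Groth.Agent.S6925
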