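import Groth.Statements.S6929
import Mathlib

set_option autoImplicit false
universe u
open EtAlg

namespace Groth.Agent.S6929

theorem finiteType_pi (R : Type*) [CommRing R] {ι : Type*} [Finite ι] (A : ι → Type*)
    [∀ i, CommRing (A i)] [∀ i, Algebra R (A i)] (h : ∀ i, Algebra.FiniteType R (A i)) :
    Algebra.FiniteType R (∀ i, A i) := by
  classical
  cases nonempty_fintype ι
  choose s hs using fun i => (h i).out
  refine ⟨(Subalgebra.fg_def).mpr ⟨⋃ i, Pi.single i '' (insert 1 (s i : Set (A i))), ?_, ?_⟩⟩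
  · exact Set.finite_iUnion fun i => ((s i).finite_toSet.insert 1).image _
  · rw [eq_top_iff]
    intro x _
    set S : Set (∀ i, A i) := ⋃ i, Pi.single i '' (insert 1 (s i : Set (A i))) with hS
    have key : ∀ i (y : A i), Pi.single i y ∈ Algebra.adjoin R S := by
      intro i y
      have hy : y ∈ Algebra.adjoin R (s i : Set (A i)) := by rw [hs i]; trivial
      induction hy using Algebra.adjoin_induction with
      | mem y hy =>
        exact Algebra.subset_adjoin (Set.mem_iUnion.mpr ⟨i, Set.mem_image_of_mem _ (Set.mem_insert_of_mem _ hy)⟩)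
      | algebraMap r =>
        have : (Pi.single i (algebraMap R (A i) r) : ∀ i, A i) = r • Pi.single i 1 := by
          rw [← Pi.single_smul, Algebra.algebraMap_eq_smul_one]
        rw [this]
        exact Subalgebra.smul_mem _ (Algebra.subset_adjoin (Set.mem_iUnion.mpr
          ⟨i, Set.mem_image_of_mem _ (Set.mem_insert _ _)⟩)) r
      | add y z _ _ hy hz =>
        rw [Pi.single_add]; exact add_mem hy hz
      | mul y z _ _ hy hz =>
        rw [Pi.single_mul]; exact mul_mem hy hz
    rw [← Finset.univ_sum_single x]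
    exact Subalgebra.sum_mem _ fun i _ => key i (x i)

/-- Let `R` be a Noetherian ring, `ι` a finite index type, and `φ_i : A_i → B_i`, `ψ_i : Q → B_i`
surjective `R`-algebra maps, where `Q` and all `A_i`, `B_i` are `R`-algebras of finite type. Then
the fibre product ring `P = Q ×_{∏ B_i} ∏ A_i` (pairs `(q, a)` with `ψ_i(q) = φ_i(a_i)` for all `i`)
is an `R`-algebra of finite type. -/
theorem result (R : Type u) [CommRing R] [IsNoetherianRing R] {ι : Type u} [Fintype ι]
    (Q : Type u) [CommRing Q] [Algebra R Q] [Algebra.FiniteType R Q] (A B : ι → Type u) [∀ i, CommRing (A i)]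
    [∀ i, CommRing (B i)] [∀ i, Algebra R (A i)] [∀ i, Algebra R (B i)] (hA : ∀ i, Algebra.FiniteType R (A i))
    (hB : ∀ i, Algebra.FiniteType R (B i)) (φ : ∀ i, A i →ₐ[R] B i) (ψ : ∀ i, Q →ₐ[R] B i)
    (hφ : ∀ i, Function.Surjective (φ i)) (hψ : ∀ i, Function.Surjective (ψ i)) :
    Algebra.FiniteType R ↥(AlgHom.equalizer ((AlgHom.pi ψ).comp (AlgHom.fst R Q (∀ i, A i)))
      ((AlgHom.pi fun i => (φ i).comp (Pi.evalAlgHom R A i)).comp (AlgHom.snd R Q (∀ i, A i)))) := by
  classical
  set P := (AlgHom.equalizer ((AlgHom.pi ψ).comp (AlgHom.fst R Q (∀ i, A i)))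
      ((AlgHom.pi fun i => (φ i).comp (Pi.evalAlgHom R A i)).comp (AlgHom.snd R Q (∀ i, A i)))) with hP
  have memP : ∀ x : Q × (∀ i, A i), x ∈ P ↔ ∀ i, ψ i x.1 = φ i (x.2 i) := by
    intro x
    rw [hP, AlgHom.mem_equalizer]
    constructor
    · intro h i
      exact congrFun h i
    · intro h
      funext i
      exact h i
  have hT : Algebra.FiniteType R (Q × (∀ i, A i)) :=
    haveI := finiteType_pi R A hA
    inferInstance
  -- lifting lemmas
  have lift1 : ∀ q : Q, ∃ a : ∀ i, A i, (q, a) ∈ P := by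
    intro q
    choose a ha using fun i => hφ i (ψ i q)
    exact ⟨a, (memP _).mpr fun i => (ha i).symm⟩
  have lift2 : ∀ (i : ι) (d : A i), ∃ p : Q × (∀ i, A i), p ∈ P ∧ p.2 i = d := by
    intro i d
    obtain ⟨q, hq⟩ := hψ i (φ i d)
    obtain ⟨a, ha⟩ := lift1 q
    refine ⟨(q, Function.update a i d), (memP _).mpr fun j => ?_, by simp⟩
    by_cases hj : j = i
    · subst hj
      simp [hq]
    · simp only [Function.update_of_ne hj]
      exact (memP _).mp ha j
  let e : ι → Q × (∀ i, A i) := fun i => (0, Pi.single i 1)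
  have hfin : (⊤ : Submodule P (Q × (∀ i, A i))).FG := by
    refine ⟨insert 1 (Finset.univ.image e), ?_⟩
    rw [eq_top_iff]
    intro x _
    obtain ⟨a', ha'⟩ := lift1 x.1
    have hx : x = (⟨(x.1, a'), ha'⟩ : P) • (1 : Q × (∀ i, A i)) + ∑ i, ((0 : Q), Pi.single i (x.2 i - a' i)) := by
      have h1 : (∑ i, ((0 : Q), (Pi.single i (x.2 i - a' i) : ∀ i, A i))) = (0, x.2 - a') := by
        refine Prod.ext ?_ ?_
        · rw [Prod.fst_sum]; simp
        · rw [Prod.snd_sum]
          simp only
          exact Finset.univ_sum_single (x.2 - a')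
      rw [h1]
      refine Prod.ext ?_ ?_
      · simp [Subalgebra.smul_def]
      · simp [Subalgebra.smul_def]
    rw [hx]
    refine add_mem (Submodule.smul_mem _ _ (Submodule.subset_span (by simp))) (Submodule.sum_mem _ fun i _ => ?_)
    obtain ⟨p, hp, hpi⟩ := lift2 i (x.2 i - a' i)
    have : ((0 : Q), (Pi.single i (x.2 i - a' i) : ∀ i, A i)) = (⟨p, hp⟩ : P) • e i := by
      refine Prod.ext ?_ ?_
      · simp [Subalgebra.smul_def, e]
      · simp only [Subalgebra.smul_def, e, smul_eq_mul, Prod.snd_mul]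
        rw [← Pi.single_mul_right, hpi, mul_one]
    rw [this]
    refine Submodule.smul_mem _ _ (Submodule.subset_span ?_)
    simp
  have hinj : Function.Injective (algebraMap P (Q × (∀ i, A i))) := Subtype.val_injective
  exact ⟨fg_of_fg_of_fg R P (Q × (∀ i, A i)) hT.out hfin hinj⟩

end Groth.Agent.S6929
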