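import Groth.Statements.S6932
import Groth.Agent.Lib.LeadFPLoc3
-- import your own Groth.Agent.* helpers here

set_option autoImplicit false
universe u
open CAlg

namespace Groth.Agent.S6932

/-- Let `R → S` be a ring map of finite type with `S` flat over `R`, such that `R → ∏_j R_{𝔭_j}` is
injective for some finite set of primes `𝔭_j` and each localization `S_𝔭` (at a prime `𝔭` of `R`) is
a finitely presented `R_𝔭`-algebra. Then `S` is a finitely presented `R`-algebra. -/
theorem result {R S : Type u} [CommRing R] [CommRing S]
    [Algebra R S] [Algebra.FiniteType R S] [Module.Flat R S] (s : Finset (PrimeSpectrum R))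
    (hs : Function.Injective fun r : R => fun p : s => algebraMap R (Localization.AtPrime p.1.asIdeal) r)
    (hloc : ∀ (p : Ideal R) [p.IsPrime],
      Algebra.FinitePresentation (Localization.AtPrime p) (Localization (Algebra.algebraMapSubmonoid S p.primeCompl))) :
    Algebra.FinitePresentation R S := by
  classical
  obtain ⟨n, f, hf⟩ := Algebra.FiniteType.iff_quotient_mvPolynomial''.mp ‹Algebra.FiniteType R S›
  letI : Algebra (MvPolynomial (Fin n) R) S := f.toRingHom.toAlgebra
  haveI : IsScalarTower R (MvPolynomial (Fin n) R) S :=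
    .of_algebraMap_eq' f.comp_algebraMap.symm
  let π : MvPolynomial (Fin n) R →ₗ[MvPolynomial (Fin n) R] S :=
    Algebra.linearMap (MvPolynomial (Fin n) R) S
  have hπ : Function.Surjective π := hf
  have hfg : (LinearMap.ker π).FG := by
    refine Groth.Agent.Lib.LeadFPLoc.fg_ker_of_locally (R := R) (S := MvPolynomial (Fin n) R)
      (M := S) (F := MvPolynomial (Fin n) R) s hs π hπ ?_
    intro p _
    haveI := hloc p
    obtain ⟨J₁, hfg, hle, hJ⟩ :=
      Groth.Agent.Lib.LeadFPLoc.exists_fg_le_ker_of_localized_fp_algebra f hf p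
    refine ⟨J₁, hfg, fun x hx => hle hx, ?_⟩
    intro k hk
    obtain ⟨t, ht, htk⟩ := hJ k hk
    refine ⟨t, ht, ?_⟩
    rw [MvPolynomial.smul_eq_C_mul]
    exact htk
  exact Algebra.FinitePresentation.of_surjective hf hfg

end Groth.Agent.S6932
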