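import Groth.Statements.S6933
import Mathlib.Algebra.Category.Grp.EpiMono
-- import your own Groth.Agent.* helpers here

set_option autoImplicit false
universe u
open CategoryTheory
open InjHull

namespace Groth.Agent.S6933

/-- An abelian group `J` that is injective as an object of the category of abelian groups is divisible:
`n J = J` for every nonzero integer `n`. (The published statement is an equivalence; this row states
the implication from injective to divisible.) -/
theorem result (J : Type u) [AddCommGroup J] (hJ : Injective (AddCommGrpCat.of J))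
    (n : ℤ) (hn : n ≠ 0) (x : J) : ∃ y : J, n • y = x := by
  let Z : AddCommGrpCat.{u} := AddCommGrpCat.of (ULift.{u} ℤ)
  let f : Z ⟶ Z := AddCommGrpCat.ofHom (n • AddMonoidHom.id (ULift.{u} ℤ))
  have hf : Mono f := by
    rw [AddCommGrpCat.mono_iff_injective]
    intro a b hab
    have h1 : n • a = n • b := hab
    have h2 : n • a.down = n • b.down := congrArg ULift.down h1
    have h3 : a.down = b.down := by
      rw [smul_eq_mul, smul_eq_mul] at h2
      exact mul_left_cancel₀ hn h2
    exact ULift.ext _ _ h3
  let g : Z ⟶ AddCommGrpCat.of J :=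
    AddCommGrpCat.ofHom ((zmultiplesHom J x).comp (AddEquiv.ulift (α := ℤ)).toAddMonoidHom)
  obtain ⟨h, hh⟩ := hJ.factors g f
  refine ⟨h.hom (ULift.up 1), ?_⟩
  have h1 : (f ≫ h).hom (ULift.up 1) = g.hom (ULift.up 1) := by rw [hh]
  have h2 : (f ≫ h).hom (ULift.up 1) = h.hom (n • ULift.up 1) := rfl
  have h3 : g.hom (ULift.up 1) = x := by
    change (1 : ℤ) • x = x
    rw [one_smul]
  rw [← map_zsmul, ← h2, h1, h3]

end Groth.Agent.S6933
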