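import Groth.Statements.S6934
import Mathlib.RingTheory.Localization.Away.Basic
import Mathlib.Tactic.LinearCombination
import Mathlib.Tactic.Ring
-- import your own Groth.Agent.* helpers here

set_option autoImplicit false
universe u
open EtAlg

namespace Groth.Agent.S6934

/-- Let `s : B → R`, `t : R' → R` be ring maps and `B' = B ×_R R'` the fibre product ring, i.e. a ring
`B'` with maps `p : B' → B`, `q : B' → R'`, `s ∘ p = t ∘ q`, such that `(p, q)` is injective with
image the pairs `(b, r')` with `s(b) = t(r')`. Let `h ∈ B'` with images `g = p(h)`, `f = q(h)`. Then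
the square of localizations `B'_h → B_g`, `B'_h → R'_f`, `B_g → R_{s(g)}`, `R'_f → R_{t(f)} =
R_{s(g)}` (the induced maps) is cartesian as well: `B'_h = B_g ×_{R_{s(g)}} R'_f`. -/
theorem result {B R R' B' : Type u} [CommRing B] [CommRing R] [CommRing R'] [CommRing B']
    (s : B →+* R) (t : R' →+* R) (p : B' →+* B) (q : B' →+* R') (hc : s.comp p = t.comp q)
    (hinj : ∀ x y : B', p x = p y → q x = q y → x = y) (hsurj : ∀ (b : B) (r' : R'), s b = t r' → ∃ x : B', p x = b ∧ q x = r')
    (h : B') (Bh Bg Rf Rsg : Type u) [CommRing Bh] [CommRing Bg] [CommRing Rf] [CommRing Rsg]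
    [Algebra B' Bh] [IsLocalization.Away h Bh] [Algebra B Bg] [IsLocalization.Away (p h) Bg]
    [Algebra R' Rf] [IsLocalization.Away (q h) Rf] [Algebra R Rsg] [IsLocalization.Away (s (p h)) Rsg]
    (pL : Bh →+* Bg) (qL : Bh →+* Rf) (sL : Bg →+* Rsg) (tL : Rf →+* Rsg)
    (hp : pL.comp (algebraMap B' Bh) = (algebraMap B Bg).comp p) (hq : qL.comp (algebraMap B' Bh) = (algebraMap R' Rf).comp q)
    (hs : sL.comp (algebraMap B Bg) = (algebraMap R Rsg).comp s) (ht : tL.comp (algebraMap R' Rf) = (algebraMap R Rsg).comp t) :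
    (∀ x y : Bh, pL x = pL y → qL x = qL y → x = y) ∧
    (∀ (b : Bg) (r : Rf), sL b = tL r → ∃ x : Bh, pL x = b ∧ qL x = r) := by
  have hst : s (p h) = t (q h) := RingHom.congr_fun hc h
  have hp' : ∀ a, pL (algebraMap B' Bh a) = algebraMap B Bg (p a) := fun a => RingHom.congr_fun hp a
  have hq' : ∀ a, qL (algebraMap B' Bh a) = algebraMap R' Rf (q a) := fun a => RingHom.congr_fun hq a
  have hs' : ∀ b, sL (algebraMap B Bg b) = algebraMap R Rsg (s b) := fun b => RingHom.congr_fun hs b
  have ht' : ∀ r, tL (algebraMap R' Rf r) = algebraMap R Rsg (t r) := fun r => RingHom.congr_fun ht r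
  have uh : ∀ n, IsUnit (algebraMap B' Bh h ^ n) := IsLocalization.Away.algebraMap_pow_isUnit h
  have ug : ∀ n, IsUnit (algebraMap B Bg (p h) ^ n) :=
    IsLocalization.Away.algebraMap_pow_isUnit (p h)
  have uf : ∀ n, IsUnit (algebraMap R' Rf (q h) ^ n) :=
    IsLocalization.Away.algebraMap_pow_isUnit (q h)
  constructor
  · intro x y hpxy hqxy
    obtain ⟨n, a, ha⟩ := IsLocalization.Away.surj h x
    obtain ⟨m, a', ha'⟩ := IsLocalization.Away.surj h y
    have hA : x * algebraMap B' Bh h ^ (n + m) = algebraMap B' Bh (a * h ^ m) := by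
      rw [pow_add, ← mul_assoc, ha, map_mul, map_pow]
    have hA' : y * algebraMap B' Bh h ^ (n + m) = algebraMap B' Bh (a' * h ^ n) := by
      rw [pow_add, mul_comm (_ ^ n), ← mul_assoc, ha', map_mul, map_pow]
    have h1 : algebraMap B Bg (p (a * h ^ m)) = algebraMap B Bg (p (a' * h ^ n)) := by
      rw [← hp', ← hp', ← hA, ← hA', map_mul, map_mul, hpxy]
    obtain ⟨k, hk⟩ := IsLocalization.Away.exists_of_eq (p h) h1
    have h2 : algebraMap R' Rf (q (a * h ^ m)) = algebraMap R' Rf (q (a' * h ^ n)) := by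
      rw [← hq', ← hq', ← hA, ← hA', map_mul, map_mul, hqxy]
    obtain ⟨l, hl⟩ := IsLocalization.Away.exists_of_eq (q h) h2
    have h3 : h ^ (k + l) * (a * h ^ m) = h ^ (k + l) * (a' * h ^ n) := by
      apply hinj
      · rw [map_mul p (h ^ (k + l)), map_mul p (h ^ (k + l)), map_pow, pow_add]
        linear_combination (p h ^ l) * hk
      · rw [map_mul q (h ^ (k + l)), map_mul q (h ^ (k + l)), map_pow, pow_add]
        linear_combination (q h ^ k) * hl
    have h4 : algebraMap B' Bh (a * h ^ m) = algebraMap B' Bh (a' * h ^ n) := by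
      apply (uh (k + l)).mul_left_cancel
      rw [← map_pow, ← map_mul, ← map_mul, h3]
    apply (uh (n + m)).mul_right_cancel
    rw [hA, hA', h4]
  · intro b r hbr
    obtain ⟨n, β, hβ⟩ := IsLocalization.Away.surj (p h) b
    obtain ⟨m, ρ, hρ⟩ := IsLocalization.Away.surj (q h) r
    have hB : b * algebraMap B Bg (p h) ^ (n + m) = algebraMap B Bg (β * p h ^ m) := by
      rw [pow_add, ← mul_assoc, hβ, map_mul, map_pow]
    have hR : r * algebraMap R' Rf (q h) ^ (n + m) = algebraMap R' Rf (ρ * q h ^ n) := by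
      rw [pow_add, mul_comm (_ ^ n), ← mul_assoc, hρ, map_mul, map_pow]
    have h1 : algebraMap R Rsg (s (β * p h ^ m)) = algebraMap R Rsg (t (ρ * q h ^ n)) := by
      rw [← hs', ← ht', ← hB, ← hR, map_mul, map_mul, map_pow, map_pow, hs', ht', hbr, hst]
    obtain ⟨k, hk⟩ := IsLocalization.Away.exists_of_eq (s (p h)) h1
    have h2 : s (p h ^ k * (β * p h ^ m)) = t (q h ^ k * (ρ * q h ^ n)) := by
      rw [map_mul s, map_mul t, map_pow s, map_pow t, ← hst]
      exact hk
    obtain ⟨x', hx'p, hx'q⟩ := hsurj _ _ h2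
    obtain ⟨v, hv⟩ := uh (n + m + k)
    have hpv : pL (↑v⁻¹) * algebraMap B Bg (p h) ^ (n + m + k) = 1 := by
      rw [← hp', ← map_pow, ← hv, ← map_mul, Units.inv_mul, map_one]
    have hqv : qL (↑v⁻¹) * algebraMap R' Rf (q h) ^ (n + m + k) = 1 := by
      rw [← hq', ← map_pow, ← hv, ← map_mul, Units.inv_mul, map_one]
    refine ⟨algebraMap B' Bh x' * ↑v⁻¹, ?_, ?_⟩
    · apply (ug (n + m + k)).mul_right_cancel
      have e1 : b * algebraMap B Bg (p h) ^ (n + m + k) =
          algebraMap B Bg (β * p h ^ m) * algebraMap B Bg (p h) ^ k := by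
        rw [pow_add _ (n + m) k, ← mul_assoc, hB]
      rw [e1, map_mul pL, mul_assoc, hpv, mul_one, hp', hx'p,
        map_mul (algebraMap B Bg) (p h ^ k), map_pow, mul_comm]
    · apply (uf (n + m + k)).mul_right_cancel
      have e1 : r * algebraMap R' Rf (q h) ^ (n + m + k) =
          algebraMap R' Rf (ρ * q h ^ n) * algebraMap R' Rf (q h) ^ k := by
        rw [pow_add _ (n + m) k, ← mul_assoc, hR]
      rw [e1, map_mul qL, mul_assoc, hqv, mul_one, hq', hx'q,
        map_mul (algebraMap R' Rf) (q h ^ k), map_pow, mul_comm]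

end Groth.Agent.S6934
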