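import Groth.Statements.S6937
import Mathlib
import Groth.Agent.Lib.Helper1PCBiprod
-- import your own Groth.Agent.* helpers here

set_option autoImplicit false
universe u
open CategoryTheory CategoryTheory.Limits
attribute [local instance] HasDerivedCategory.standard
open DRing

namespace Groth.Agent.S6937

open Groth.Agent.Lib.Helper1.PC Groth.Agent.Lib.Helper1.PCTower Groth.Agent.Lib.Helper1.PCBiprod

/-- Let R be a commutative ring, m an integer and K, L objects of D(R). If K ⊕ L is m-pseudo-coherent
then K and L are m-pseudo-coherent; if K ⊕ L is pseudo-coherent (isomorphic in D(R) to a bounded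
above complex of finite free modules) then so are K and L. -/
theorem result (R : Type u) [CommRing R] (m : ℤ) (K L : Dual.D R)
    [HasBinaryBiproduct K L] :
    (DRing.IsPseudoCoherent R m (K ⊞ L) → DRing.IsPseudoCoherent R m K ∧ DRing.IsPseudoCoherent R m L) ∧
      (DRing.IsPseudoCoherent' R (K ⊞ L) → DRing.IsPseudoCoherent' R K ∧ DRing.IsPseudoCoherent' R L) := by
  refine ⟨fun h => isPC_of_biprod m K L h, ?_⟩
  rintro ⟨E, b, hE, hff, ⟨e⟩⟩
  have hall : ∀ m' : ℤ, DRing.IsPseudoCoherent R m' (K ⊞ L) := fun m' =>
    isPC_of_iso e (isPC_of_bddAbove_finProj E b hE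
      (fun i => ⟨(hff i).1, have := (hff i).2; Module.Projective.of_free⟩) m')
  exact ⟨isPseudoCoherent'_of_forall K (fun m' => (isPC_of_biprod m' K L (hall m')).1),
    isPseudoCoherent'_of_forall L (fun m' => (isPC_of_biprod m' K L (hall m')).2)⟩

end Groth.Agent.S6937
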