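import Groth.Statements.S6943
import Mathlib
import Groth.Agent.Lib.Helper1PCBiprod
import Groth.Agent.S6938
import Groth.Agent.S6939
-- import your own Groth.Agent.* helpers here

set_option autoImplicit false
universe u
open CategoryTheory CategoryTheory.Limits
attribute [local instance] HasDerivedCategory.standard
open DRing

namespace Groth.Agent.S6943

open Groth.Agent.Lib.Helper1.PC Groth.Agent.Lib.Helper1.PCTower DerivedCategory
open Groth.Agent.S14388 Groth.Agent.S6938 Groth.Agent.S7017 Pretriangulated

section coherent

variable {R : Type u} [CommRing R] (hR : ∀ I : Ideal R, I.FG → Module.FinitePresentation R I)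

include hR in
/-- over a coherent ring, finitely generated submodules of `R^n` are finitely presented -/
lemma fp_of_fg_submodule_pi (n : ℕ) : ∀ N : Submodule R (Fin n → R), N.FG →
    Module.FinitePresentation R N := by
  induction n with
  | zero =>
    intro N _
    infer_instance
  | succ n ih =>
    intro N hN
    have : Module.Finite R N := Module.Finite.iff_fg.2 hN
    -- first coordinate
    let l : N →ₗ[R] R := (LinearMap.proj 0 : (Fin (n + 1) → R) →ₗ[R] R) ∘ₗ N.subtype
    let I : Ideal R := LinearMap.range l
    have hI : I.FG := by
      rw [show I = Submodule.map l ⊤ from (Submodule.map_top l).symm]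
      exact Module.Finite.fg_top.map l
    have : Module.FinitePresentation R I := hR I hI
    let l' : N →ₗ[R] I := l.rangeRestrict
    have hl' : Function.Surjective l' := l.surjective_rangeRestrict
    have hker : (LinearMap.ker l').FG := Module.FinitePresentation.fg_ker l' hl'
    have : Module.Finite R (LinearMap.ker l') := Module.Finite.iff_fg.2 hker
    -- the tail map
    let t : (Fin (n + 1) → R) →ₗ[R] (Fin n → R) :=
      LinearMap.pi (fun i => LinearMap.proj (Fin.succ i))
    let g : LinearMap.ker l' →ₗ[R] (Fin n → R) := (t ∘ₗ N.subtype) ∘ₗ (LinearMap.ker l').subtype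
    have hg : Function.Injective g := by
      rw [injective_iff_map_eq_zero]
      rintro ⟨⟨x, hxN⟩, hx⟩ hgx
      have h0 : x 0 = 0 := by
        have := congrArg Subtype.val (LinearMap.mem_ker.1 hx)
        exact this
      have hs : ∀ i : Fin n, x (Fin.succ i) = 0 := fun i => congrFun hgx i
      apply Subtype.ext
      apply Subtype.ext
      funext i
      refine Fin.cases h0 hs i
    have hrange : (LinearMap.range g).FG := by
      rw [show LinearMap.range g = Submodule.map g ⊤ from (Submodule.map_top g).symm]
      exact Module.Finite.fg_top.map g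
    have : Module.FinitePresentation R (LinearMap.range g) := ih _ hrange
    have eg := LinearEquiv.ofInjective g hg
    have : Module.FinitePresentation R (LinearMap.ker l') :=
      @Module.FinitePresentation.of_equiv R _ _ _ (Submodule.addCommGroup _) _
        (Submodule.addCommGroup _) _ eg.symm this
    exact Module.finitePresentation_of_ker l' hl'

include hR in
/-- over a coherent ring, finitely generated submodules of finite free modules are finitely
presented -/
lemma fp_of_fg_submodule (F : Type u) [AddCommGroup F] [Module R F] [Module.Finite R F]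
    [Module.Free R F] (N : Submodule R F) (hN : N.FG) : Module.FinitePresentation R N := by
  let e : F ≃ₗ[R] (Fin (Fintype.card (Module.Free.ChooseBasisIndex R F)) → R) :=
    ((Module.Free.chooseBasis R F).reindex (Fintype.equivFin _)).equivFun
  have h1 : (N.map e.toLinearMap).FG := hN.map _
  have := fp_of_fg_submodule_pi hR _ _ h1
  exact @Module.FinitePresentation.of_equiv R _ _ _ (Submodule.addCommGroup _) _
    (Submodule.addCommGroup _) _ (e.submoduleMap N).symm this

include hR in
/-- kernels of maps between finite free modules are finitely presented -/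
lemma fp_ker (F G : Type u) [AddCommGroup F] [Module R F] [Module.Finite R F] [Module.Free R F]
    [AddCommGroup G] [Module R G] [Module.Finite R G] [Module.Free R G] (d : F →ₗ[R] G) :
    Module.FinitePresentation R (LinearMap.ker d) := by
  have h1 : (LinearMap.range d).FG := by
    rw [show LinearMap.range d = Submodule.map d ⊤ from (Submodule.map_top d).symm]
    exact Module.Finite.fg_top.map d
  have := fp_of_fg_submodule hR G _ h1
  have h2 : (LinearMap.ker d.rangeRestrict).FG :=
    Module.FinitePresentation.fg_ker d.rangeRestrict d.surjective_rangeRestrict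
  rw [LinearMap.ker_rangeRestrict] at h2
  exact fp_of_fg_submodule hR F _ h2

include hR in
/-- a finitely presented module in degree `0` is `(-k)`-pseudo-coherent for all `k` -/
lemma isPC_single_of_fp_coh_aux (k : ℕ) : ∀ (N : ModuleCat.{u} R) [Module.FinitePresentation R N],
    DRing.IsPseudoCoherent R (-(k : ℤ)) ((singleFunctor (ModuleCat.{u} R) 0).obj N) := by
  induction k with
  | zero =>
    intro N _
    exact isPC_single_of_finite N 0
  | succ k ih =>
    intro N _
    obtain ⟨r, π, hπ⟩ := Module.Finite.exists_fin' R N
    have hF : FF (ModuleCat.of R (Fin r → R)) :=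
      ⟨inferInstanceAs (Module.Finite R (Fin r → R)), inferInstanceAs (Module.Free R (Fin r → R))⟩
    have hS := LinearMap.shortExact_shortComplexKer hπ
    have hT := hS.singleTriangle_distinguished
    have hker : (LinearMap.ker π).FG := Module.FinitePresentation.fg_ker π hπ
    have i1 : Module.FinitePresentation R (ModuleCat.of R (LinearMap.ker π)) :=
      fp_of_fg_submodule hR (Fin r → R) _ hker
    have hk := ih (ModuleCat.of R (LinearMap.ker π))
    have e : -((k + 1 : ℕ) : ℤ) + 1 = -(k : ℤ) := by push_cast; ring
    have h3 : DRing.IsPseudoCoherent R (-((k + 1 : ℕ) : ℤ))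
        ((singleFunctor (ModuleCat.{u} R) 0).obj (ModuleCat.of R (Fin r → R))) :=
      isPC_of_rep _ (rep_single _ hF 0)
    exact isPC_obj₃ _ hT (-((k + 1 : ℕ) : ℤ)) (by rw [e]; exact hk) h3

include hR in
lemma isPC_single_of_fp_coh (N : ModuleCat.{u} R) [Module.FinitePresentation R N] (n : ℤ) :
    DRing.IsPseudoCoherent R n ((singleFunctor (ModuleCat.{u} R) 0).obj N) :=
  isPC_mono (by lia) (isPC_single_of_fp_coh_aux hR (-n).toNat N)

include hR in
/-- the main equivalence -/
lemma isPC_iff_coh (K : Dual.D R) (b : ℤ)
    (hb : ∀ i : ℤ, b < i → IsZero ((homologyFunctor (ModuleCat.{u} R) i).obj K)) (m : ℤ) :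
    DRing.IsPseudoCoherent R m K ↔
      Module.Finite R (Dual.HD R K m) ∧ ∀ i : ℤ, m < i → Module.FinitePresentation R (Dual.HD R K i) := by
  constructor
  · rintro ⟨E, a, b', α, hE, hff, h1, h2⟩
    have hfpE : ∀ i : ℤ, Module.FinitePresentation R
        ((homologyFunctor (ModuleCat.{u} R) i).obj (Q.obj E)) := by
      intro i
      have := (hff i).1
      have := (hff i).2
      have := (hff (i + 1)).1
      have := (hff (i + 1)).2
      have k1 : Module.FinitePresentation R (LinearMap.ker (E.d i (i + 1)).hom) :=
        fp_ker hR (E.X i) (E.X (i + 1)) (E.d i (i + 1)).hom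
      have f1 : Module.FinitePresentation R ((HomologicalComplex.homologyFunctor (ModuleCat.{u} R)
          (ComplexShape.up ℤ) i).obj E) :=
        fp_homology_of_ker E i k1 (hff (i - 1)).1
      exact Module.FinitePresentation.of_equiv
        ((homologyFunctorFactors (ModuleCat.{u} R) i).app E).symm.toLinearEquiv
    refine ⟨?_, fun i hi => ?_⟩
    · have := hfpE m
      exact Module.Finite.of_surjective ((homologyFunctor _ m).map α).hom
        ((ModuleCat.epi_iff_surjective _).1 h2)
    · have := hfpE i
      have := h1 i hi
      exact Module.FinitePresentation.of_equiv (asIso ((homologyFunctor _ i).map α)).toLinearEquiv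
  · rintro ⟨hfin, hfp⟩
    refine Groth.Agent.S6939.isPC_of_homology m K b hb (fun i hi => ?_)
    rcases hi.eq_or_lt with rfl | hi
    · rw [sub_self]
      exact isPC_single_of_finite _ 0
    · have := hfp i hi
      exact isPC_single_of_fp_coh hR _ _

end coherent

/-- Let R be a coherent commutative ring, i.e. every finitely generated ideal of R is finitely presented
as an R-module. Let K be an object of D(R) whose cohomology vanishes in large degrees and m an
integer. Then K is m-pseudo-coherent if and only if H^m(K) is finitely generated and H^i(K) is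
finitely presented for every i > m. Consequently K is pseudo-coherent if and only if every H^i(K) is
finitely presented. -/
theorem result (R : Type u) [CommRing R]
    (hR : ∀ I : Ideal R, I.FG → Module.FinitePresentation R I) (K : Dual.D R)
    (hb : ∃ b : ℤ, ∀ i : ℤ, b < i → Subsingleton (Dual.HD R K i)) (m : ℤ) :
    (DRing.IsPseudoCoherent R m K ↔
      Module.Finite R (Dual.HD R K m) ∧ ∀ i : ℤ, m < i → Module.FinitePresentation R (Dual.HD R K i)) ∧
      (DRing.IsPseudoCoherent' R K ↔ ∀ i : ℤ, Module.FinitePresentation R (Dual.HD R K i)) := by
  obtain ⟨b, hb⟩ := hb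
  have hb' : ∀ i : ℤ, b < i → IsZero ((homologyFunctor (ModuleCat.{u} R) i).obj K) := fun i hi => by
    have := hb i hi
    exact ModuleCat.isZero_of_subsingleton _
  refine ⟨isPC_iff_coh hR K b hb' m, ⟨fun h i => ?_, fun h => ?_⟩⟩
  · exact ((isPC_iff_coh hR K b hb' (i - 1)).1 (isPC_of_pc' K h (i - 1))).2 i (by lia)
  · apply isPseudoCoherent'_of_forall
    intro m'
    exact (isPC_iff_coh hR K b hb' m').2 ⟨have := h m'; inferInstance, fun i _ => h i⟩

end Groth.Agent.S6943
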