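import Groth.Statements.S6945
import Mathlib
import Groth.Agent.Lib.Helper1LT
-- import your own Groth.Agent.* helpers here

set_option autoImplicit false
universe u
open CategoryTheory CategoryTheory.Limits
attribute [local instance] HasDerivedCategory.standard
open DRing

namespace Groth.Agent.S6945

open Groth.Agent.Lib.Helper1.LDer Groth.Agent.Lib.Helper1.PC Groth.Agent.Lib.Helper1.Tor
open Groth.Agent.Lib.Helper1.Cone Groth.Agent.Lib.Helper1.ProjRes DerivedCategory

/-- With the definition of tor amplitude: let R be a commutative ring, K an object of D(R) and a, b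
integers, and assume the derived tensor product - ⊗^L_R M exists on D(R) for every R-module M. Then
K is isomorphic in D(R) to a complex of flat R-modules vanishing outside [a, b] if and only if H^i(K
⊗^L_R M) = 0 for every R-module M and every integer i outside [a, b]. -/
theorem result (R : Type u) [CommRing R]
    [∀ M : ModuleCat.{u} R, DRing.HasLTensor R M] (K : Dual.D R) (a b : ℤ) :
    DRing.HasTorAmplitudeIn R a b K ↔
      ∀ (M : ModuleCat.{u} R) (i : ℤ), (i < a ∨ b < i) → Subsingleton (Dual.HD R ((DRing.LTensor R M).obj K) i) := by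
  constructor
  · rintro ⟨E, hE, hEf, ⟨e⟩⟩ M i hi
    have hEb : DRing.VanishesAbove E b := fun i hi => hE i (Or.inr hi)
    have hEle : E.IsStrictlyLE b := by
      rw [CochainComplex.isStrictlyLE_iff]
      exact hEb
    obtain ⟨P, p, hp, hPproj, hPle⟩ := exists_proj_res E b
    have hPK : P.IsKProjective := CochainComplex.isKProjective_of_projective P b
    have hpi : IsIso (Q.map p) := (DerivedCategory.isIso_Q_map_iff_quasiIso (φ := p)).2 hp
    have hPb : DRing.VanishesAbove P b := fun i hi => P.isZero_of_isStrictlyLE b i hi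
    have hPf : DRing.TermwiseFlat P := termwiseFlat_of_projective P hPproj
    have hbc : IsIso (Q.map ((tCx M).map p)) := isIso_Q_map_tCx M p b b hPb hEb hPf hEf hpi
    have e' : (DRing.LTensor R M).obj K ≅ Q.obj ((tCx M).obj E) :=
      (DRing.LTensor R M).mapIso (e.symm ≪≫ (asIso (Q.map p)).symm) ≪≫ ltIso M P ≪≫
        asIso (Q.map ((tCx M).map p))
    have hz : IsZero ((homologyFunctor (ModuleCat.{u} R) i).obj (Q.obj ((tCx M).obj E))) :=
      (exactAt_iff_isZero_H _ i).1
        (exactAt_of_isZero_X _ i ((MonoidalCategory.tensorRight M).map_isZero (hE i hi)))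
    exact ModuleCat.subsingleton_of_isZero
      (hz.of_iso ((homologyFunctor (ModuleCat.{u} R) i).mapIso e'))
  · intro h
    -- cohomology of `K` vanishes outside `[a, b]`
    obtain ⟨X, ⟨eX⟩⟩ : ∃ X : DRing.Cx R, Nonempty (Q.obj X ≅ K) := ⟨_, ⟨Q.objObjPreimageIso K⟩⟩
    have hKz : ∀ i : ℤ, (i < a ∨ b < i) →
        IsZero ((homologyFunctor (ModuleCat.{u} R) i).obj K) := by
      intro i hi
      have := h (ModuleCat.of R R) i hi
      have e1 : (DRing.LTensor R (ModuleCat.of R R)).obj K ≅ K :=
        (DRing.LTensor R (ModuleCat.of R R)).mapIso eX.symm ≪≫ ltUnitIso X ≪≫ eX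
      exact (ModuleCat.isZero_of_subsingleton _).of_iso
        ((homologyFunctor (ModuleCat.{u} R) i).mapIso e1.symm)
    have hKle : K.IsLE b := by
      rw [DerivedCategory.isLE_iff]
      exact fun i hi => hKz i (Or.inr hi)
    obtain ⟨P, hPle, hPproj, ⟨eP⟩⟩ := exists_iso_Q_proj K b
    have hPK : P.IsKProjective := CochainComplex.isKProjective_of_projective P b
    have hPb : DRing.VanishesAbove P b := fun i hi => P.isZero_of_isStrictlyLE b i hi
    have hPf : DRing.TermwiseFlat P := termwiseFlat_of_projective P hPproj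
    have htv : TorVan P a b := by
      intro M i hi
      rw [← exactAt_tCx_iff, exactAt_iff_isZero_H]
      have := h M i hi
      have e' : (DRing.LTensor R M).obj K ≅ Q.obj ((tCx M).obj P) :=
        (DRing.LTensor R M).mapIso eP.symm ≪≫ ltIso M P
      exact (ModuleCat.isZero_of_subsingleton _).of_iso
        ((homologyFunctor (ModuleCat.{u} R) i).mapIso e'.symm)
    exact hasTorAmp_of_iso eP (hasTorAmp_of_torVan P b hPb hPf a b htv)

end Groth.Agent.S6945
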