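import Groth.Statements.S6955
import Mathlib
import Groth.Agent.Lib.Helper1ResLen
import Groth.Agent.Lib.Helper1CompactPC
import Groth.Agent.Lib.Helper1LBC
import Groth.Agent.Lib.Helper1TorG
import Groth.Agent.Lib.Helper1TorDim
-- import your own Groth.Agent.* helpers here

set_option autoImplicit false
universe u
open CategoryTheory CategoryTheory.Limits
attribute [local instance] HasDerivedCategory.standard
open DRing

namespace Groth.Agent.S6955

open DerivedCategory HomologicalComplex Groth.Agent.Lib.Helper1.Compact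
  Groth.Agent.Lib.Helper1.ResLen

/-- the chain complex in nonnegative degrees attached to a cochain complex -/
noncomputable abbrev toChain {R : Type u} [CommRing R] (G : DRing.Cx R) :
    ChainComplex (ModuleCat.{u} R) ℕ :=
  G.restriction ComplexShape.embeddingDownNat

lemma toChain_exactAt {R : Type u} [CommRing R] (G : DRing.Cx R) (n : ℕ)
    (h : G.ExactAt (-((n + 1 : ℕ) : ℤ))) : (toChain G).ExactAt (n + 1) := by
  rw [(toChain G).exactAt_iff' (n + 2) (n + 1) n (by simp) (by simp)]
  rw [G.exactAt_iff' (-((n + 2 : ℕ) : ℤ)) (-((n + 1 : ℕ) : ℤ)) (-(n : ℤ))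
    (by simp; omega) (by simp)] at h
  exact h

theorem exists_finite_res (R : Type u) [CommRing R] (M : Type u)
    [AddCommGroup M] [Module R M] (E : DRing.Cx R) (a b : ℤ) (hE : DRing.VanishesOutside E a b)
    (hEf : DRing.TermwiseFiniteProjective E) (e : DRing.toD E ≅ Dual.inD R M) :
    ∃ (P : ProjectiveResolution (ModuleCat.of R M)) (d : ℕ),
        (∀ i : ℕ, d < i → IsZero (P.complex.X i)) ∧ ∀ i : ℕ, Module.Finite R (P.complex.X i) := by
  let e0 : Q.obj E ≅ Q.obj (Sg 0 (ModuleCat.of R M)) :=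
    e ≪≫ (singleFunctorIsoCompQ (ModuleCat.{u} R) 0).app _
  have hexE : ∀ j : ℤ, j ≠ 0 → E.ExactAt j := fun j hj =>
    Groth.Agent.Lib.Helper1.Tor.exactAt_of_Q_iso e0.symm j
      (HomologicalComplex.exactAt_single_obj _ _ _ _ hj)
  have hEb : DRing.VanishesAbove E b := fun i hi => hE i (Or.inr hi)
  set G := E.truncLE 0 with hG
  have hGproj : ∀ i : ℤ, Module.Projective R (G.X i) :=
    Groth.Agent.Lib.Helper1.Tor.projective_truncLE E b hEb (fun i => (hEf i).2) 0
      (fun j hj => hexE j (ne_of_gt hj))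
  have hGfin : ∀ i : ℤ, Module.Finite R (G.X i) :=
    Groth.Agent.Lib.Helper1.Tor.finite_truncLE E b hEb hEf 0 (fun j hj => hexE j (ne_of_gt hj))
  have hEle : E.IsLE 0 := by
    rw [CochainComplex.isLE_iff]
    exact fun j hj => hexE j (ne_of_gt hj)
  have hq : QuasiIso (E.ιTruncLE 0) := (E.quasiIso_ιTruncLE_iff 0).2 hEle
  have hiso : IsIso (Q.map (E.ιTruncLE 0)) :=
    (DerivedCategory.isIso_Q_map_iff_quasiIso (φ := E.ιTruncLE 0)).2 hq
  have hGb : DRing.VanishesAbove G 0 := fun i hi => G.isZero_of_isStrictlyLE 0 i hi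
  have hGK : G.IsKProjective :=
    Groth.Agent.Lib.Helper1.LDer.isKProjective_of_vanishesAbove G 0 hGb hGproj
  obtain ⟨g, hg, hgq⟩ := exists_cocycle G 0 (ModuleCat.of R M) (Q.map (E.ιTruncLE 0) ≫ e0.hom)
  set φ := toSingle G 0 g hg with hφ
  have hφiso : IsIso (Q.map φ) := by
    rw [← hgq]
    infer_instance
  have hφq : QuasiIso φ := (DerivedCategory.isIso_Q_map_iff_quasiIso (φ := φ)).1 hφiso
  have hexG : ∀ j : ℤ, j ≠ 0 → G.ExactAt j := fun j hj =>
    Groth.Agent.Lib.Helper1.Tor.exactAt_of_Q_iso (asIso (Q.map φ)).symm j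
      (HomologicalComplex.exactAt_single_obj _ _ _ _ hj)
  -- degree zero
  have hq0 : QuasiIsoAt φ 0 := inferInstance
  rw [quasiIsoAt_iff' φ (-1) 0 1 (by simp) (by simp)] at hq0
  have hg₁ : ((HomologicalComplex.shortComplexFunctor' (ModuleCat.{u} R)
      (ComplexShape.up ℤ) (-1) 0 1).obj G).g = 0 := by
    show G.d 0 1 = 0
    exact (hGb 1 (by omega)).eq_of_tgt _ _
  rw [ShortComplex.quasiIso_iff_of_zeros' _ hg₁ rfl rfl] at hq0
  obtain ⟨hex1, hepi1⟩ := hq0
  have hτ : φ.f 0 = g ≫ (singleObjXSelf (ComplexShape.up ℤ) 0 (ModuleCat.of R M)).inv :=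
    toSingle_f G 0 g hg
  have hepi2 : Epi (φ.f 0) := hepi1
  have hepig : Epi g := by
    have : g = φ.f 0 ≫ (singleObjXSelf (ComplexShape.up ℤ) 0 (ModuleCat.of R M)).hom := by
      rw [hτ, Category.assoc, Iso.inv_hom_id, Category.comp_id]
    rw [this]
    infer_instance
  have hg' : G.d (-1) 0 ≫ g = 0 := hg
  have hexg : (ShortComplex.mk (G.d (-1) 0) g hg').Exact := by
    refine ShortComplex.exact_of_iso ?_ hex1
    refine ShortComplex.isoMk (Iso.refl _) (Iso.refl _)
      (singleObjXSelf (ComplexShape.up ℤ) 0 (ModuleCat.of R M)) ?_ ?_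
    · show 𝟙 _ ≫ G.d (-1) 0 = G.d (-1) 0 ≫ 𝟙 _
      rw [Category.id_comp, Category.comp_id]
    · show 𝟙 _ ≫ g = φ.f 0 ≫ (singleObjXSelf (ComplexShape.up ℤ) 0 (ModuleCat.of R M)).hom
      rw [hτ, Category.assoc, Iso.inv_hom_id, Category.comp_id, Category.id_comp]
  -- the chain complex
  let C := toChain G
  have hCproj : ∀ n, Projective (C.X n) := fun n => by
    have h1 := hGproj (-(n : ℤ))
    have h2 : Projective (G.X (-(n : ℤ))) := ModuleCat.projective_of_categoryTheory_projective _
    exact h2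
  let ε : C.X 0 ⟶ ModuleCat.of R M := g
  have hε : C.d 1 0 ≫ ε = 0 := hg
  have hex0 : (ShortComplex.mk _ _ hε).Exact := hexg
  have hepi : Epi ε := hepig
  have hex : ∀ n, C.ExactAt (n + 1) := fun n =>
    toChain_exactAt G n (hexG _ (by simp; omega))
  refine ⟨mkRes C (ModuleCat.of R M) hCproj ε hε hex0 hepi hex, (-a).toNat, ?_, ?_⟩
  · intro i hi
    show IsZero (G.X (-(i : ℤ)))
    have hi0 : (-(i : ℤ)) < 0 := by omega
    exact (hE _ (Or.inl (by omega))).of_iso (E.truncLEXIso 0 _ hi0)
  · intro i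
    exact hGfin (-(i : ℤ))

/-- Let R be a commutative ring and M an R-module. Then M is perfect (M[0] is isomorphic in D(R) to a
bounded complex of finite projective modules) if and only if M admits a projective resolution of
finite length whose terms are finitely generated, i.e. a resolution 0 → F_d → ... → F_0 → M → 0 by
finite projective modules. -/
theorem result (R : Type u) [CommRing R] (M : Type u)
    [AddCommGroup M] [Module R M] :
    DRing.IsPerfectModule R M ↔
      ∃ (P : ProjectiveResolution (ModuleCat.of R M)) (d : ℕ),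
        (∀ i : ℕ, d < i → IsZero (P.complex.X i)) ∧ ∀ i : ℕ, Module.Finite R (P.complex.X i) := by
  constructor
  · rintro ⟨E, a, b, hE, hEf, ⟨e⟩⟩
    exact exists_finite_res R M E a b hE hEf e
  · rintro ⟨P, d, hzero, hfin⟩
    refine ⟨P.cochainComplex, -(d : ℤ), 0, ?_, ?_, ⟨Groth.Agent.Lib.Helper1.TorDim.resIso M P⟩⟩
    · rintro i (hi | hi)
      · obtain ⟨k, hk⟩ : ∃ k : ℕ, -(k : ℤ) = i := ⟨(-i).toNat, by omega⟩
        exact (hzero k (by omega)).of_iso (P.cochainComplexXIso i k hk)
      · exact P.cochainComplex.isZero_of_isStrictlyLE 0 i hi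
    · intro i
      by_cases hi : 0 < i
      · have := ModuleCat.subsingleton_of_isZero (P.cochainComplex.isZero_of_isStrictlyLE 0 i hi)
        exact ⟨inferInstance, inferInstance⟩
      · obtain ⟨k, hk⟩ : ∃ k : ℕ, -(k : ℤ) = i := ⟨(-i).toNat, by omega⟩
        have h1 := hfin k
        have h3 : Projective (P.complex.X k) := P.projective k
        have h2 : Module.Projective R (P.complex.X k) :=
          ModuleCat.projective_of_module_projective _
        exact ⟨Module.Finite.equiv (P.cochainComplexXIso i k hk).toLinearEquiv.symm,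
          Module.Projective.of_equiv (P.cochainComplexXIso i k hk).toLinearEquiv.symm⟩

end Groth.Agent.S6955
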