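import Groth.Statements.S7029
import Mathlib
import Groth.Agent.S7030
-- import your own Groth.Agent.* helpers here

set_option autoImplicit false
universe u
open CategoryTheory CategoryTheory.Limits
attribute [local instance] HasDerivedCategory.standard
open DRing

namespace Groth.Agent.S7029

open DerivedCategory Pretriangulated
open Groth.Agent.Lib.Helper1.Cone Groth.Agent.Lib.Helper1.Devissage Groth.Agent.S7030

/-- Let R be a commutative ring such that the derived tensor product - ⊗^L_R M exists on D(R) for every
R-module M, and let K be a bounded cochain complex of R-modules each term of which is a perfect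
R-module. Then K is a perfect object of D(R). -/
theorem result (R : Type u) [CommRing R] [∀ M : ModuleCat.{u} R, DRing.HasLTensor R M] (K : DRing.Cx R)
    (a b : ℤ) (hab : DRing.VanishesOutside K a b) (hK : ∀ i : ℤ, DRing.IsPerfectModule R (K.X i)) :
    DRing.IsPerfect R (DRing.toD K) := by
  apply induction_terms' (perf R) (fun K hK => isPerfect_of_isZero hK)
    (fun T hT h1 h3 => isPerfect_ext T hT h1 h3) ?_ K a b hab
  · intro j _ _
    exact isPerfect_single _ (hK j) j
  · rintro j X Y ⟨e⟩ h
    exact isPerfect_of_iso ((DerivedCategory.singleFunctor (ModuleCat.{u} R) j).mapIso e) h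

end Groth.Agent.S7029
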