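import Groth.Statements.S6956
import Mathlib
import Groth.Agent.Lib.Helper1Restrict
import Groth.Agent.S7019
import Groth.Agent.S7029
-- import your own Groth.Agent.* helpers here

set_option autoImplicit false
universe u
open CategoryTheory CategoryTheory.Limits
attribute [local instance] HasDerivedCategory.standard
open DRing

namespace Groth.Agent.S6956

open DerivedCategory Pretriangulated Groth.Agent.Lib.Helper1.PC Groth.Agent.Lib.Helper1.PCTower
open Groth.Agent.Lib.Helper1.Restrict Groth.Agent.Lib.Helper1.PCBiprod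
open Groth.Agent.Lib.Helper1.Cone Groth.Agent.Lib.Helper1.Devissage Groth.Agent.S7030

variable {A B : Type u} [CommRing A] [CommRing B] (φ : A →+* B)

lemma isPerfect_biprod (K L : Dual.D A) (hK : DRing.IsPerfect A K) (hL : DRing.IsPerfect A L) :
    DRing.IsPerfect A (K ⊞ L) :=
  isPerfect_ext _ (binaryBiproductTriangle_distinguished K L) hK hL

lemma isPerfect_of_biprod' (K L : Dual.D A) (h : DRing.IsPerfect A (K ⊞ L)) :
    DRing.IsPerfect A K ∧ DRing.IsPerfect A L := by
  have hpc := Groth.Agent.S7019.isPC'_of_isPerfect _ h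
  have hall : ∀ m : ℤ, DRing.IsPseudoCoherent A m (K ⊞ L) := fun m =>
    Groth.Agent.S6938.isPC_of_pc' _ hpc m
  have hK : DRing.IsPseudoCoherent' A K :=
    isPseudoCoherent'_of_forall K (fun m => (isPC_of_biprod m K L (hall m)).1)
  have hL : DRing.IsPseudoCoherent' A L :=
    isPseudoCoherent'_of_forall L (fun m => (isPC_of_biprod m K L (hall m)).2)
  exact ⟨Groth.Agent.S7019.isPerfect_of_retract (K ⊞ L) K biprod.inl biprod.fst biprod.inl_fst h hK,
    Groth.Agent.S7019.isPerfect_of_retract (K ⊞ L) L biprod.inr biprod.snd biprod.inr_snd h hL⟩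

/-- `B` is perfect as an `A`-module (via `φ`) -/
def BPerf : Prop := DRing.IsPerfect A ((G φ).obj (ModuleCat.of B B))

lemma isPerfect_G_pi (hB : BPerf φ) (n : ℕ) :
    DRing.IsPerfect A ((G φ).obj (ModuleCat.of B (Fin n → B))) := by
  induction n with
  | zero =>
    refine isPerfect_of_isZero ((G φ).map_isZero ?_)
    exact ModuleCat.isZero_of_subsingleton _
  | succ n ih =>
    let e : ModuleCat.of B (Fin (n + 1) → B) ≅ ModuleCat.of B B ⊞ ModuleCat.of B (Fin n → B) :=
      (Fin.consLinearEquiv B (fun _ : Fin (n + 1) => B)).symm.toModuleIso ≪≫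
        (ModuleCat.biprodIsoProd (ModuleCat.of B B) (ModuleCat.of B (Fin n → B))).symm
    have := preservesBinaryBiproducts_of_preservesBiproducts (G φ)
    exact isPerfect_of_iso ((G φ).mapIso e ≪≫ (G φ).mapBiprod _ _).symm (isPerfect_biprod _ _ hB ih)

lemma isPerfect_G_of_FP (hB : BPerf φ) (P : ModuleCat.{u} B) [Module.Finite B P]
    [Module.Projective B P] : DRing.IsPerfect A ((G φ).obj P) := by
  obtain ⟨n, f, g, hf, hg, hfg⟩ := Module.Finite.exists_comp_eq_id_of_projective B P
  let π : ModuleCat.of B (Fin n → B) ⟶ P := ModuleCat.ofHom f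
  let s : P ⟶ ModuleCat.of B (Fin n → B) := ModuleCat.ofHom g
  have hsπ : s ≫ π = 𝟙 P := by
    apply ModuleCat.hom_ext
    exact hfg
  have hπ : Epi π := (ModuleCat.epi_iff_surjective _).2 hf
  let S : ShortComplex (ModuleCat.{u} B) := ShortComplex.mk (kernel.ι π) π (kernel.condition π)
  have hS : S.Exact := ShortComplex.exact_of_f_is_kernel S (kernelIsKernel π)
  have hmono : Mono S.f := inferInstanceAs (Mono (kernel.ι π))
  let sp : S.Splitting := ShortComplex.Splitting.ofExactOfSection S hS s hsπ hmono
  let e : ModuleCat.of B (Fin n → B) ≅ kernel π ⊞ P := sp.isoBinaryBiproduct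
  have := preservesBinaryBiproducts_of_preservesBiproducts (G φ)
  have h1 : DRing.IsPerfect A ((G φ).obj (kernel π) ⊞ (G φ).obj P) :=
    isPerfect_of_iso ((G φ).mapIso e ≪≫ (G φ).mapBiprod _ _) (isPerfect_G_pi φ hB n)
  exact (isPerfect_of_biprod' _ _ h1).2

/-- bounded complexes with perfect terms are perfect (no tensor hypothesis) -/
lemma isPerfect_of_terms (K : DRing.Cx A) (a b : ℤ) (hab : DRing.VanishesOutside K a b)
    (hK : ∀ i : ℤ, DRing.IsPerfect A ((DerivedCategory.singleFunctor (ModuleCat.{u} A) 0).obj (K.X i))) :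
    DRing.IsPerfect A (Q.obj K) := by
  apply induction_terms' (perf A) (fun K hK => isPerfect_of_isZero hK)
    (fun T hT h1 h3 => isPerfect_ext T hT h1 h3) ?_ K a b hab
  · intro j _ _
    exact isPerfect_single _ (hK j) j
  · rintro j X Y ⟨e⟩ h
    exact isPerfect_of_iso ((DerivedCategory.singleFunctor (ModuleCat.{u} A) j).mapIso e) h

theorem isPerfect_restrictD (hB : BPerf φ) (K : Dual.D B) (hK : DRing.IsPerfect B K) :
    DRing.IsPerfect A ((DRing.restrictD φ).obj K) := by
  obtain ⟨E, a, b, hE, hP, ⟨e⟩⟩ := hK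
  refine isPerfect_of_iso ((restrictQIso φ E).symm ≪≫ (DRing.restrictD φ).mapIso e) ?_
  refine isPerfect_of_terms _ a b (fun i hi => ?_) (fun i => ?_)
  · exact (ModuleCat.restrictScalars.{u} φ).map_isZero (hE i hi)
  · have := (hP i).1
    have := (hP i).2
    exact isPerfect_G_of_FP φ hB (E.X i)

/-- Let A → B be a homomorphism of commutative rings such that B is perfect as an A-module, and let K be
a perfect object of D(B). Then K, with scalars restricted to A, is a perfect object of D(A). -/
theorem result {A B : Type u} [CommRing A] [CommRing B] [Algebra A B]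
    (hB : DRing.IsPerfectModule A B) (K : Dual.D B) (hK : DRing.IsPerfect B K) :
    DRing.IsPerfect A ((DRing.restrictD (algebraMap A B)).obj K) := by
  refine isPerfect_restrictD _ ?_ K hK
  exact isPerfect_of_iso ((DerivedCategory.singleFunctor (ModuleCat.{u} A) 0).mapIso
    (restrictScalarsAlgebraIso (A := A) (B := B) B)).symm hB

end Groth.Agent.S6956
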