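import Groth.Statements.S6966
import Mathlib

set_option autoImplicit false
universe u
open CategoryTheory CategoryTheory.Limits
attribute [local instance] HasDerivedCategory.standard
open CAlg

namespace Groth.Agent.S6966

/-- Let R be a commutative ring, I an ideal of R and M an R-module. Then the following two conditions
coincide: for each a ∈ I, the endomorphism of M given by multiplication by a can be written as a
composite M → P → M with P some projective R-module; and for every R-module N and every a ∈ I, a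
annihilates Ext^1_R(M, N) = Hom(M[0], N[1]) in D(R). -/
theorem result (R : Type u) [CommRing R] (I : Ideal R) (M : Type u)
    [AddCommGroup M] [Module R M] :
    (∀ a ∈ I, ∃ (P : Type u) (_ : AddCommGroup P) (_ : Module R P) (_ : Module.Projective R P)
        (f : M →ₗ[R] P) (g : P →ₗ[R] M), g ∘ₗ f = a • LinearMap.id) ↔
      ∀ (N : Type u) [AddCommGroup N] [Module R N], ∀ a ∈ I,
        ∀ x : DRing.ExtD R (Dual.inD R M) (Dual.inD R N) 1, a • x = 0 := by
  constructor
  · intro h N _ _ a ha x
    obtain ⟨P, _, _, hP, f, g, hgf⟩ := h a ha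
    let e : Abelian.Ext.{u} (ModuleCat.of R M) (ModuleCat.of R N) 1 := Abelian.Ext.homEquiv.symm x
    have hx : e.hom = x := Abelian.Ext.homEquiv.apply_symm_apply x
    have hproj : Projective (ModuleCat.of R P) := (IsProjective.iff_projective P).mp hP
    have h1 : a • e = 0 := by
      have h2 : a • e = (Abelian.Ext.mk₀ (a • 𝟙 (ModuleCat.of R M))).comp e (zero_add 1) := by
        rw [Abelian.Ext.mk₀_smul, Abelian.Ext.smul_comp, Abelian.Ext.mk₀_id_comp]
      have h3 : a • 𝟙 (ModuleCat.of R M) = ModuleCat.ofHom f ≫ ModuleCat.ofHom g := by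
        apply ModuleCat.hom_ext
        rw [ModuleCat.hom_comp, ModuleCat.hom_ofHom, ModuleCat.hom_ofHom, hgf]
        rfl
      rw [h2, h3, ← Abelian.Ext.mk₀_comp_mk₀, Abelian.Ext.comp_assoc_of_second_deg_zero,
        Abelian.Ext.eq_zero_of_projective ((Abelian.Ext.mk₀ (ModuleCat.ofHom g)).comp e _),
        Abelian.Ext.comp_zero]
    have h4 := Abelian.Ext.smul_hom e a
    rw [h1, Abelian.Ext.zero_hom, hx] at h4
    exact h4.symm
  · intro h a ha
    let p : (M →₀ R) →ₗ[R] M := Finsupp.linearCombination R id
    have hp : Function.Surjective p := Finsupp.linearCombination_id_surjective R M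
    have hS : p.shortComplexKer.ShortExact := LinearMap.shortExact_shortComplexKer hp
    have h1 : a • hS.extClass = 0 := by
      apply Abelian.Ext.ext
      rw [Abelian.Ext.smul_hom, Abelian.Ext.zero_hom]
      exact h (LinearMap.ker p) a ha hS.extClass.hom
    have h2 : (Abelian.Ext.mk₀ (a • 𝟙 (ModuleCat.of R M))).comp hS.extClass (zero_add 1) = 0 := by
      rw [Abelian.Ext.mk₀_smul, Abelian.Ext.smul_comp, Abelian.Ext.mk₀_id_comp]
      exact h1
    obtain ⟨x₂, hx₂⟩ := Abelian.Ext.covariant_sequence_exact₃ (ModuleCat.of R M) hS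
      (Abelian.Ext.mk₀ (a • 𝟙 (ModuleCat.of R M))) (zero_add 1) h2
    obtain ⟨f', rfl⟩ := (Abelian.Ext.mk₀_bijective _ _).2 x₂
    rw [Abelian.Ext.mk₀_comp_mk₀] at hx₂
    have h3 : f' ≫ p.shortComplexKer.g = a • 𝟙 (ModuleCat.of R M) :=
      (Abelian.Ext.mk₀_bijective _ _).1 hx₂
    refine ⟨M →₀ R, inferInstance, inferInstance, inferInstance, f'.hom, p, ?_⟩
    have h4 := congrArg ModuleCat.Hom.hom h3
    exact h4

end Groth.Agent.S6966
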