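import Groth.Statements.S6967
-- import your own Groth.Agent.* helpers here

set_option autoImplicit false
universe u
open CAlg

namespace Groth.Agent.S6967

/-- Let R be a commutative ring, I an ideal of R and 0 → K → P → M → 0 a short exact sequence of
R-modules with P projective. If multiplication by a on M factors through a projective R-module for
every a ∈ I, then multiplication by a on K factors through a projective R-module for every a ∈ I. -/
theorem result (R : Type u) [CommRing R] (I : Ideal R)
    {K P M : Type u} [AddCommGroup K] [Module R K] [AddCommGroup P] [Module R P] [Module.Projective R P]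
    [AddCommGroup M] [Module R M] (f : K →ₗ[R] P) (g : P →ₗ[R] M) (hf : Function.Injective f)
    (hg : Function.Surjective g) (hfg : LinearMap.range f = LinearMap.ker g)
    (hM : ∀ a ∈ I, ∃ (P : Type u) (_ : AddCommGroup P) (_ : Module R P) (_ : Module.Projective R P)
        (f : M →ₗ[R] P) (g : P →ₗ[R] M), g ∘ₗ f = a • LinearMap.id) :
    ∀ a ∈ I, ∃ (P : Type u) (_ : AddCommGroup P) (_ : Module R P) (_ : Module.Projective R P)
        (f : K →ₗ[R] P) (g : P →ₗ[R] K), g ∘ₗ f = a • LinearMap.id := by
  intro a ha
  obtain ⟨Q, _, _, _, α, β, hαβ⟩ := hM a ha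
  -- lift `β : Q → M` through `g : P → M`
  obtain ⟨β', hβ'⟩ := Module.projective_lifting_property g β hg
  let h : P →ₗ[R] P := a • LinearMap.id - β' ∘ₗ α ∘ₗ g
  have hgh : ∀ x, g (h x) = 0 := by
    intro x
    have h1 : g (β' (α (g x))) = β (α (g x)) := LinearMap.congr_fun hβ' (α (g x))
    have h2 : β (α (g x)) = a • g x := LinearMap.congr_fun hαβ (g x)
    simp only [h, LinearMap.sub_apply, LinearMap.smul_apply, LinearMap.id_apply,
      LinearMap.comp_apply, map_sub, map_smul, h1, h2, sub_self]
  have hrange : ∀ x, h x ∈ LinearMap.range f := by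
    intro x
    rw [hfg]
    exact hgh x
  -- `h' : P → K` with `f ∘ h' = h`
  let e : K ≃ₗ[R] LinearMap.range f := LinearEquiv.ofInjective f hf
  let h' : P →ₗ[R] K := e.symm.toLinearMap ∘ₗ LinearMap.codRestrict (LinearMap.range f) h hrange
  have hfh' : ∀ x, f (h' x) = h x := by
    intro x
    have := e.apply_symm_apply (LinearMap.codRestrict (LinearMap.range f) h hrange x)
    exact congrArg Subtype.val this
  refine ⟨P, inferInstance, inferInstance, inferInstance, f, h', ?_⟩
  ext k
  apply hf
  have hgf : g (f k) = 0 := by
    have : f k ∈ LinearMap.ker g := hfg ▸ LinearMap.mem_range_self f k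
    exact this
  rw [LinearMap.comp_apply, hfh']
  simp only [h, LinearMap.sub_apply, LinearMap.smul_apply, LinearMap.id_apply,
    LinearMap.comp_apply, hgf, map_zero, sub_zero, map_smul]

end Groth.Agent.S6967
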