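import Groth.Statements.S6969
import Mathlib.RingTheory.Finiteness.Finsupp
import Mathlib.LinearAlgebra.Finsupp.Supported
-- import your own Groth.Agent.* helpers here

set_option autoImplicit false
universe u
open CAlg

namespace Groth.Agent.S6969

/-- Let R be a commutative ring and φ : M → N an R-linear map which factors through a projective
R-module. If M is finitely generated, then φ factors through a finitely generated projective
R-module. -/
theorem result (R : Type u) [CommRing R] {M N : Type u} [AddCommGroup M]
    [Module R M] [Module.Finite R M] [AddCommGroup N] [Module R N] (φ : M →ₗ[R] N)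
    (h : ∃ (P : Type u) (_ : AddCommGroup P) (_ : Module R P) (_ : Module.Projective R P) (f : M →ₗ[R] P)
      (g : P →ₗ[R] N), g ∘ₗ f = φ) :
    ∃ (P : Type u) (_ : AddCommGroup P) (_ : Module R P) (_ : Module.Projective R P) (_ : Module.Finite R P)
      (f : M →ₗ[R] P) (g : P →ₗ[R] N), g ∘ₗ f = φ := by
  classical
  obtain ⟨P, _, _, hP, f, g, rfl⟩ := h
  obtain ⟨s, hs⟩ := Module.projective_def'.mp hP
  have hs' : ∀ x : P, Finsupp.linearCombination R id (s x) = x := fun x => LinearMap.congr_fun hs x
  obtain ⟨S, hS⟩ := (Module.finite_def.mp (inferInstance : Module.Finite R M))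
  let T : Finset P := S.biUnion (fun m => (s (f m)).support)
  have hmem : ∀ m : M, s (f m) ∈ Finsupp.supported R R (↑T : Set P) := by
    intro m
    have hm : m ∈ Submodule.span R (S : Set M) := by rw [hS]; trivial
    induction hm using Submodule.span_induction with
    | mem x hx =>
      rw [Finsupp.mem_supported]
      intro p hp
      exact Finset.mem_biUnion.mpr ⟨x, hx, hp⟩
    | zero => simp
    | add x y _ _ hx hy =>
      rw [map_add, map_add]
      exact Submodule.add_mem _ hx hy
    | smul a x _ hx =>
      rw [map_smul, map_smul]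
      exact Submodule.smul_mem _ a hx
  let e := Finsupp.supportedEquivFinsupp (M := R) (R := R) (↑T : Set P)
  let f' : M →ₗ[R] (↥(↑T : Set P) →₀ R) :=
    e.toLinearMap ∘ₗ LinearMap.codRestrict (Finsupp.supported R R (↑T : Set P)) (s ∘ₗ f) hmem
  let g' : (↥(↑T : Set P) →₀ R) →ₗ[R] N :=
    g ∘ₗ Finsupp.linearCombination R id ∘ₗ (Finsupp.supported R R (↑T : Set P)).subtype ∘ₗ
      e.symm.toLinearMap
  haveI : Fintype ↥(↑T : Set P) := Finset.fintypeCoeSort T
  refine ⟨(↥(↑T : Set P) →₀ R), inferInstance, inferInstance, inferInstance, inferInstance,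
    f', g', ?_⟩
  ext m
  simp only [f', g', LinearMap.comp_apply, LinearEquiv.coe_coe, LinearEquiv.symm_apply_apply,
    Submodule.subtype_apply, LinearMap.codRestrict_apply, hs']

end Groth.Agent.S6969
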