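import Groth.Statements.S6970
import Groth.Agent.S7013
import Groth.Agent.Lib.Helper5LiftF
import Groth.Agent.Lib.Helper1PCNil2
import Groth.Agent.Lib.Helper1ProjRes

set_option autoImplicit false
universe u
open CategoryTheory CategoryTheory.Limits
attribute [local instance] HasDerivedCategory.standard
open DRing

namespace Groth.Agent.S6970

/-- Let R be a commutative ring and I a nilpotent ideal of R such that the derived base change D(R) →
D(R/I) exists. Let K be an object of D(R) and E a bounded above cochain complex of projective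
R/I-modules which is isomorphic in D(R/I) to K ⊗^L_R R/I. Then there is a bounded above cochain
complex P of projective R-modules which is isomorphic to K in D(R) and whose termwise reduction P
⊗_R R/I is isomorphic to E as a complex of R/I-modules. -/
theorem result (R : Type u) [CommRing R] (I : Ideal R)
    (hI : IsNilpotent I) [DRing.HasLBaseChange (Ideal.Quotient.mk I)] (K : Dual.D R)
    (E : DRing.Cx (R ⧸ I)) (b : ℤ) (hEb : DRing.VanishesAbove E b)
    (hEp : ∀ i : ℤ, Module.Projective (R ⧸ I) (E.X i))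
    (hE : Nonempty (DRing.toD E ≅ (DRing.LBaseChange (Ideal.Quotient.mk I)).obj K)) :
    ∃ (P : DRing.Cx R) (b' : ℤ), DRing.VanishesAbove P b' ∧ (∀ i : ℤ, Module.Projective R (P.X i)) ∧
      Nonempty (DRing.toD P ≅ K) ∧ Nonempty ((((ModuleCat.extendScalars (Ideal.Quotient.mk I)).mapHomologicalComplex (ComplexShape.up ℤ)).obj P) ≅ E) := by
  classical
  obtain ⟨n, hn⟩ := hI
  rw [Ideal.zero_eq_bot] at hn
  obtain ⟨eE⟩ := hE
  let Pc : ObjectProperty (ModuleCat.{u} R) := fun X => Module.Projective R X
  haveI : Pc.IsClosedUnderIsomorphisms := ⟨fun {X Y} e hX => by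
    have hX' : Module.Projective R X := hX
    exact (Module.Projective.of_equiv e.toLinearEquiv : Module.Projective R Y)⟩
  have h1 : ∀ X : ModuleCat.{u} R, Pc X → Module.Projective R X := fun X hX => hX
  have h2 : ∀ X Y : ModuleCat.{u} R, Pc X → (Pc (ModuleCat.of R (X × Y)) ↔ Pc Y) := by
    intro X Y hX
    have hX' : Module.Projective R X := hX
    constructor
    · intro h
      have h' : Module.Projective R (X × Y) := h
      exact (Module.Projective.of_split (LinearMap.inr R X Y) (LinearMap.snd R X Y)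
        (LinearMap.ext fun y => rfl) : Module.Projective R Y)
    · intro hY
      have hY' : Module.Projective R Y := hY
      exact (inferInstance : Module.Projective R (X × Y))
  have h3 : ∀ (X Y : ModuleCat.{u} R) (f : X ⟶ Y), Pc X → Pc Y →
      LinearMap.range f.hom ⊔ I • (⊤ : Submodule R Y) = ⊤ → Function.Surjective f.hom :=
    fun X Y f _ _ h => LinearMap.range_eq_top.1
      (Groth.Agent.Lib.Helper1.PCNil.eq_top_of_sup_smul_eq_top_of_pow_eq_bot I n hn _ h)
  -- `K` is bounded above
  have hEle : (DRing.toD E).IsLE b := by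
    haveI : E.IsStrictlyLE b := (CochainComplex.isStrictlyLE_iff E b).2 hEb
    show (DerivedCategory.Q.obj E).IsLE b
    infer_instance
  have hLle : ((DRing.LBaseChange (Ideal.Quotient.mk I)).obj K).IsLE b :=
    DerivedCategory.TStructure.t.isLE_of_iso eE b
  haveI hKle : K.IsLE b := Groth.Agent.Lib.Helper1.PCNil.isLE_of_isLE_LBC (Ideal.Quotient.mk I)
    Ideal.Quotient.mk_surjective n (by rw [Ideal.mk_ker]; exact hn) K b hLle
  obtain ⟨Qc, hQs, hQp, ⟨eK⟩⟩ := Groth.Agent.Lib.Helper1.ProjRes.exists_iso_Q_proj K b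
  have hK : ∃ (Q : DRing.Cx R) (c : ℤ), DRing.VanishesAbove Q c ∧ (∀ i : ℤ, Pc (Q.X i)) ∧
      Nonempty (DRing.toD Q ≅ K) :=
    ⟨Qc, b, (CochainComplex.isStrictlyLE_iff Qc b).1 hQs, fun i => by
      haveI := hQp i
      exact (ModuleCat.projective_of_module_projective (Qc.X i) :
        Module.Projective R (Qc.X i)), ⟨eK⟩⟩
  have hEt : ∀ i : ℤ, ∃ X : ModuleCat.{u} R, Pc X ∧
      Nonempty (TensorProduct R (R ⧸ I) X ≃ₗ[R ⧸ I] E.X i) := by
    intro i
    haveI := hEp i
    obtain ⟨X, hX, hXe⟩ := Groth.Agent.Lib.Helper5.LiftF.exists_projective_lift I n hn (E.X i)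
    exact ⟨X, hX, hXe⟩
  exact Groth.Agent.S7013.result R I Pc h1 h2 h3 K hK E b hEb hEt ⟨eE⟩

end Groth.Agent.S6970
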