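import Groth.Statements.S6973
import Groth.Agent.S7013
import Groth.Agent.Lib.Helper5LiftHens
import Groth.Agent.Lib.Helper5LiftC

set_option autoImplicit false
universe u
open CategoryTheory CategoryTheory.Limits
attribute [local instance] HasDerivedCategory.standard
open DRing

namespace Groth.Agent.S6973

/-- Let (R, I) be a henselian pair such that the derived base change D(R) → D(R/I) exists, K a
pseudo-coherent object of D(R), and E a bounded above cochain complex of finite projective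
R/I-modules which is isomorphic in D(R/I) to K ⊗^L_R R/I. Then there is a bounded above cochain
complex P of finite projective R-modules, isomorphic to K in D(R), whose termwise reduction P ⊗_R
R/I is isomorphic to E as a complex, and such that P^i is free for every i for which E^i is free. -/
theorem result (R : Type u) [CommRing R]
    (I : Ideal R) [HenselianRing R I] [DRing.HasLBaseChange (Ideal.Quotient.mk I)] (K : Dual.D R)
    (hK : DRing.IsPseudoCoherent' R K) (E : DRing.Cx (R ⧸ I)) (b : ℤ) (hEb : DRing.VanishesAbove E b)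
    (hEp : DRing.TermwiseFiniteProjective E)
    (hE : Nonempty (DRing.toD E ≅ (DRing.LBaseChange (Ideal.Quotient.mk I)).obj K)) :
    ∃ (P : DRing.Cx R) (b' : ℤ), DRing.VanishesAbove P b' ∧ DRing.TermwiseFiniteProjective P ∧
      Nonempty (DRing.toD P ≅ K) ∧ Nonempty ((((ModuleCat.extendScalars (Ideal.Quotient.mk I)).mapHomologicalComplex (ComplexShape.up ℤ)).obj P) ≅ E) ∧
      ∀ i : ℤ, Module.Free (R ⧸ I) (E.X i) → Module.Free R (P.X i) := by
  classical
  have hI : I ≤ Ideal.jacobson (⊥ : Ideal R) := HenselianRing.jac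
  obtain ⟨Qc, c, hQb, hQff, ⟨eK⟩⟩ := hK
  have hK' : ∃ (Q : DRing.Cx R) (c : ℤ), DRing.VanishesAbove Q c ∧
      (∀ i : ℤ, Groth.Agent.Lib.Helper5.LiftHens.FP (Q.X i)) ∧ Nonempty (DRing.toD Q ≅ K) :=
    ⟨Qc, c, hQb, fun i => by
      obtain ⟨h1, h2⟩ := hQff i
      exact ⟨h1, inferInstance⟩, ⟨eK⟩⟩
  have hEt : ∀ i : ℤ, ∃ X : ModuleCat.{u} R, Groth.Agent.Lib.Helper5.LiftHens.FP X ∧
      Nonempty (TensorProduct R (R ⧸ I) X ≃ₗ[R ⧸ I] E.X i) := fun i => by
    obtain ⟨h1, h2⟩ := hEp i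
    exact Groth.Agent.Lib.Helper5.LiftHens.exists_fp_lift I (E.X i)
  obtain ⟨P, b', hPb, hP, hPK, ⟨eP⟩⟩ := Groth.Agent.S7013.result R I
    Groth.Agent.Lib.Helper5.LiftHens.FP (fun X h => h.2)
    (fun X Y hX => Groth.Agent.Lib.Helper5.LiftHens.fp_prod_iff X Y hX)
    (fun X Y f _ hY h => Groth.Agent.Lib.Helper5.LiftG.surjective_of_jac I hI X Y f hY.1 h)
    K hK' E b hEb hEt hE
  refine ⟨P, b', hPb, hP, hPK, ⟨eP⟩, fun i hfree => ?_⟩
  obtain ⟨hf, hs⟩ := hP i
  have e1 : (TensorProduct R (R ⧸ I) (P.X i)) ≃ₗ[R ⧸ I] E.X i :=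
    (Groth.Agent.Lib.Helper5.LiftC.frIso I (P.X i)).symm.toLinearEquiv ≪≫ₗ
      ((HomologicalComplex.eval _ _ i).mapIso eP).toLinearEquiv
  haveI : Module.Free (R ⧸ I) (TensorProduct R (R ⧸ I) (P.X i)) := Module.Free.of_equiv e1.symm
  exact Groth.Agent.Lib.Helper5.LiftG.free_of_free_baseChange I hI (P.X i)

end Groth.Agent.S6973
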