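import Groth.Statements.S6974
import Mathlib
import Groth.Agent.Lib.Helper1Fibres
-- import your own Groth.Agent.* helpers here

set_option autoImplicit false
universe u
open CategoryTheory CategoryTheory.Limits
attribute [local instance] HasDerivedCategory.standard
open DRing

namespace Groth.Agent.S6974

open Groth.Agent.Lib.Helper1.LDer Groth.Agent.Lib.Helper1.PC Groth.Agent.Lib.Helper1.Tor
open Groth.Agent.Lib.Helper1.Cone Groth.Agent.Lib.Helper1.ProjRes DerivedCategory
open Groth.Agent.Lib.Helper1.LocalCx Groth.Agent.Lib.Helper1.Extend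

/-- Let R be a commutative ring such that the derived base change D(R) → D(R/m) exists for every ideal
m, let K be a pseudo-coherent object of D(R) and a, b integers. If for every maximal ideal m of R
the cohomology H^i(K ⊗^L_R R/m) vanishes for all i outside [a, b], then K is perfect and has tor
amplitude in [a, b]. -/
theorem result (R : Type u) [CommRing R]
    [∀ m : Ideal R, DRing.HasLBaseChange (Ideal.Quotient.mk m)] (K : Dual.D R)
    (hK : DRing.IsPseudoCoherent' R K) (a b : ℤ)
    (h : ∀ (m : Ideal R), m.IsMaximal → ∀ i : ℤ, (i < a ∨ b < i) →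
      Subsingleton (Dual.HD (R ⧸ m) ((DRing.LBaseChange (Ideal.Quotient.mk m)).obj K) i)) :
    DRing.IsPerfect R K ∧ DRing.HasTorAmplitudeIn R a b K := by
  obtain ⟨F, bF, hFb, hFf, ⟨e⟩⟩ := hK
  have hFK : F.IsKProjective :=
    isKProjective_of_vanishesAbove F bF hFb (fun i =>
      have := (hFf i).2
      Module.Projective.of_free)
  have hex : ∀ (m : Ideal R) [m.IsMaximal] (i : ℤ), (i < a ∨ b < i) →
      ((bcCx (Ideal.Quotient.mk m)).obj F).ExactAt i := by
    intro m hm i hi
    have e' : (DRing.LBaseChange (Ideal.Quotient.mk m)).obj K ≅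
        Q.obj ((bcCx (Ideal.Quotient.mk m)).obj F) :=
      (DRing.LBaseChange (Ideal.Quotient.mk m)).mapIso e.symm ≪≫ lbcIso (Ideal.Quotient.mk m) F
    rw [exactAt_iff_isZero_H]
    have := h m hm i hi
    exact (ModuleCat.isZero_of_subsingleton _).of_iso
      ((homologyFunctor (ModuleCat.{u} (R ⧸ m)) i).mapIso e'.symm)
  have hta := hasTorAmp_of_fibres F bF hFb hFf a b hex
  obtain ⟨E, hE, hEfp, ⟨eE⟩⟩ := exists_finiteProjective_of_pc_of_torAmp (Q.obj F)
    ⟨F, bF, hFb, hFf, ⟨Iso.refl _⟩⟩ a b hta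
  exact ⟨⟨E, a, b, hE, hEfp, ⟨eE ≪≫ e⟩⟩, hasTorAmp_of_iso e hta⟩

end Groth.Agent.S6974
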