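import Groth.Statements.S6975
import Mathlib
import Groth.Agent.Lib.Helper1LocalCx
-- import your own Groth.Agent.* helpers here

set_option autoImplicit false
universe u
open CategoryTheory CategoryTheory.Limits
attribute [local instance] HasDerivedCategory.standard
open DRing

namespace Groth.Agent.S6975

open Groth.Agent.Lib.Helper1.LDer Groth.Agent.Lib.Helper1.PC Groth.Agent.Lib.Helper1.Tor
open Groth.Agent.Lib.Helper1.Cone Groth.Agent.Lib.Helper1.ProjRes DerivedCategory
open Groth.Agent.Lib.Helper1.LocalCx Groth.Agent.Lib.Helper1.Extend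

/-- Let R be a local commutative ring with residue field κ such that the derived base change D(R) → D(κ)
exists, and let K be a pseudo-coherent object of D(R). If there is an integer a with H^i(K ⊗^L_R κ)
= 0 for all i < a, then K is perfect. -/
theorem result (R : Type u) [CommRing R] [IsLocalRing R]
    [DRing.HasLBaseChange (IsLocalRing.residue R)] (K : Dual.D R) (hK : DRing.IsPseudoCoherent' R K) (a : ℤ)
    (h : ∀ i : ℤ, i < a → Subsingleton (Dual.HD (IsLocalRing.ResidueField R)
      ((DRing.LBaseChange (IsLocalRing.residue R)).obj K) i)) :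
    DRing.IsPerfect R K := by
  obtain ⟨F, bF, hFb, hFf, ⟨e⟩⟩ := hK
  have hFK : F.IsKProjective :=
    isKProjective_of_vanishesAbove F bF hFb (fun i =>
      have := (hFf i).2
      Module.Projective.of_free)
  let φ := IsLocalRing.residue R
  have e' : (DRing.LBaseChange φ).obj K ≅ Q.obj ((bcCx φ).obj F) :=
    (DRing.LBaseChange φ).mapIso e.symm ≪≫ lbcIso φ F
  have hex : ∀ i : ℤ, i < a → ((bcCx φ).obj F).ExactAt i := by
    intro i hi
    rw [exactAt_iff_isZero_H]
    have := h i hi
    exact (ModuleCat.isZero_of_subsingleton _).of_iso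
      ((homologyFunctor (ModuleCat.{u} (IsLocalRing.ResidueField R)) i).mapIso e'.symm)
  -- identify the `R`-module `κ`
  let eκ : (ModuleCat.restrictScalars.{u} φ).obj (ModuleCat.of (IsLocalRing.ResidueField R)
      (IsLocalRing.ResidueField R)) ≅ ModuleCat.of R (IsLocalRing.ResidueField R) :=
    (e₀ (A := R) (IsLocalRing.ResidueField R)).toModuleIso
  have hTC : ∀ i : ℤ, (i < a ∨ max a bF < i) →
      ((TC (ModuleCat.of R (IsLocalRing.ResidueField R))).obj F).ExactAt i := by
    intro i hi
    rcases hi with hi | hi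
    · exact (exactAt_TC_congr eκ F i).1 ((exactAt_bc_iff_TC φ F i).1 (hex i hi))
    · exact exactAt_of_isZero_X _ i ((T _).map_isZero
        (hFb i (lt_of_le_of_lt (le_max_right a bF) hi)))
  have hta := hasTorAmp_of_exactAt_TC_residueField F bF hFb hFf a (max a bF) hTC
  obtain ⟨E, hE, hEfp, ⟨eE⟩⟩ := exists_finiteProjective_of_pc_of_torAmp (Q.obj F)
    ⟨F, bF, hFb, hFf, ⟨Iso.refl _⟩⟩ a (max a bF) hta
  exact ⟨E, a, max a bF, hE, hEfp, ⟨eE ≪≫ e⟩⟩

end Groth.Agent.S6975
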