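import Groth.Statements.S6981
import Mathlib
import Groth.Agent.Lib.Helper1Restrict
-- import your own Groth.Agent.* helpers here

set_option autoImplicit false
universe u
open CategoryTheory CategoryTheory.Limits
attribute [local instance] HasDerivedCategory.standard
open DRing

namespace Groth.Agent.S6981

open DerivedCategory Groth.Agent.Lib.Helper1.PC Groth.Agent.Lib.Helper1.PCTower
open Groth.Agent.Lib.Helper1.Restrict Polynomial

variable (R : Type u) [CommRing R]

/-- `R` as an `R[x]`-module via `x ↦ 0` -/
noncomputable def R0 : ModuleCat.{u} (Polynomial R) :=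
  (ModuleCat.restrictScalars.{u} (Polynomial.evalRingHom (0 : R))).obj (ModuleCat.of R R)

noncomputable def toR0 (r : R) : R0 R := r
noncomputable def ofR0 (r : R0 R) : R := r

lemma smul_R0 (q : Polynomial R) (r : R0 R) : q • r = toR0 R (q.eval 0 * ofR0 R r) := rfl

noncomputable def evalLin : Polynomial R →ₗ[Polynomial R] (R0 R) where
  toFun p := toR0 R (p.eval 0)
  map_add' p q := by
    show toR0 R ((p + q).eval 0) = toR0 R (p.eval 0 + q.eval 0)
    rw [Polynomial.eval_add]
  map_smul' q p := by
    show toR0 R ((q * p).eval 0) = toR0 R (q.eval 0 * p.eval 0)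
    rw [Polynomial.eval_mul]

lemma evalLin_apply (p : Polynomial R) : evalLin R p = toR0 R (p.eval 0) := rfl

noncomputable def mulX : Polynomial R →ₗ[Polynomial R] Polynomial R :=
  LinearMap.mulLeft (Polynomial R) (X : Polynomial R)

lemma mulX_apply (p : Polynomial R) : mulX R p = X * p := rfl

lemma mulX_injective : Function.Injective (mulX R) := by
  intro p q h
  rw [mulX_apply, mulX_apply] at h
  exact (Polynomial.isRegular_X (R := R)).left h

lemma evalLin_surjective : Function.Surjective (evalLin R) := by
  intro r
  refine ⟨Polynomial.C (ofR0 R r), ?_⟩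
  rw [evalLin_apply, Polynomial.eval_C]
  rfl

lemma evalLin_mulX (p : Polynomial R) : evalLin R (mulX R p) = 0 := by
  rw [evalLin_apply, mulX_apply, Polynomial.eval_mul, Polynomial.eval_X, zero_mul]
  rfl

lemma exists_of_evalLin_eq_zero (p : Polynomial R) (hp : evalLin R p = 0) :
    ∃ q, mulX R q = p := by
  have hp' : p.eval 0 = 0 := hp
  rw [← Polynomial.coeff_zero_eq_eval_zero, ← Polynomial.X_dvd_iff] at hp'
  obtain ⟨q, rfl⟩ := hp'
  exact ⟨q, rfl⟩

noncomputable def SES : ShortComplex (ModuleCat.{u} (Polynomial R)) :=
  ShortComplex.mk (X₁ := ModuleCat.of (Polynomial R) (Polynomial R))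
    (X₂ := ModuleCat.of (Polynomial R) (Polynomial R)) (X₃ := R0 R)
    (ModuleCat.ofHom (mulX R))
    (ConcreteCategory.ofHom (C := ModuleCat.{u} (Polynomial R)) (evalLin R))
    (by
      apply ModuleCat.hom_ext
      apply LinearMap.ext
      intro p
      exact evalLin_mulX R p)

lemma SES_shortExact : (SES R).ShortExact := by
  have hmono : Mono (SES R).f := by
    rw [ModuleCat.mono_iff_injective]
    exact mulX_injective R
  have hepi : Epi (SES R).g := by
    rw [ModuleCat.epi_iff_surjective]
    exact evalLin_surjective R
  refine ShortComplex.ShortExact.mk ?_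
  rw [ShortComplex.moduleCat_exact_iff]
  intro p hp
  exact exists_of_evalLin_eq_zero R p hp

lemma bpc_eval : BPC (Polynomial.evalRingHom (0 : R)) := by
  intro j
  have hT := (SES_shortExact R).singleTriangle_distinguished
  have h1 : ∀ j : ℤ, DRing.IsPseudoCoherent (Polynomial R) j
      ((DerivedCategory.singleFunctor (ModuleCat.{u} (Polynomial R)) 0).obj
        (ModuleCat.of (Polynomial R) (Polynomial R))) := fun j =>
    isPC_single_of_finProj _ 0 j
  exact isPC_obj₃ _ hT j (h1 (j + 1)) (h1 j)

/-- Let R be a commutative ring, K an object of D(R), m an integer, and R[x] → R the R-algebra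
homomorphism sending x to 0. Then K is m-pseudo-coherent over R if and only if K, regarded as an
object of D(R[x]) by restriction of scalars along this map, is m-pseudo-coherent over R[x]. -/
theorem result (R : Type u) [CommRing R] (K : Dual.D R)
    (m : ℤ) :
    DRing.IsPseudoCoherent R m K ↔
      DRing.IsPseudoCoherent (Polynomial R) m ((DRing.restrictD (Polynomial.evalRingHom (0 : R))).obj K) := by
  exact isPC_restrictD_iff _ (bpc_eval R) K m

end Groth.Agent.S6981
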