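import Groth.Statements.S6985
import Mathlib
import Groth.Agent.Lib.Helper1RelPC2
-- import your own Groth.Agent.* helpers here

set_option autoImplicit false
universe u
open CategoryTheory CategoryTheory.Limits
attribute [local instance] HasDerivedCategory.standard
open DerCA

namespace Groth.Agent.S6985

open Groth.Agent.Lib.Helper1.RelPC Groth.Agent.Lib.Helper1.Restrict Groth.Agent.Lib.Helper1.PC
open DerivedCategory

/-- Let R be a commutative ring and A → B a homomorphism of finite type R-algebras such that A, as an
A-module, is pseudo-coherent relative to R. Let K be an object of D(B) and m an integer. Then K is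
m-pseudo-coherent relative to A if and only if K is m-pseudo-coherent relative to R; and K is
pseudo-coherent relative to A if and only if it is pseudo-coherent relative to R. -/
theorem result {R A B : Type u} [CommRing R] [CommRing A]
    [CommRing B] [Algebra R A] [Algebra A B] [Algebra R B] [IsScalarTower R A B] [Algebra.FiniteType R A]
    [Algebra.FiniteType R B] [Algebra.FiniteType A B] (hA : DerCA.IsRelPseudoCoherentModuleAll R A A)
    (K : Dual.D B) (m : ℤ) :
    (DerCA.IsRelPseudoCoherent A B m K ↔ DerCA.IsRelPseudoCoherent R B m K) ∧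
      (DerCA.IsRelPseudoCoherentAll A B K ↔ DerCA.IsRelPseudoCoherentAll R B K) := by
  obtain ⟨n, α, hα⟩ := exists_presentation R A
  obtain ⟨k, β, hβ⟩ := exists_presentation A B
  let α' : MvPolynomial (Fin n) R →+* A := α
  let β' : MvPolynomial (Fin k) A →+* B := β
  have hBα : BPC α' := by
    intro j
    have h1 := (rel_iff_via α hα _ j).1 (hA j)
    exact isPC_of_iso (restrictDSingleIso α' (ModuleCat.of A A) 0) h1
  have hmap := bpc_map α' hBα k
  let γ : MvPolynomial (Fin k) (MvPolynomial (Fin n) R) →+* B := β'.comp (MvPolynomial.map α')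
  have hγ : ∀ r : R, γ (MvPolynomial.C (MvPolynomial.C r)) = algebraMap R B r := by
    intro r
    simp only [γ, β', α', RingHom.comp_apply, MvPolynomial.map_C]
    have h1 : (α : MvPolynomial (Fin n) R →+* A) (MvPolynomial.C r) = algebraMap R A r :=
      α.commutes r
    rw [h1]
    have h2 : (β : MvPolynomial (Fin k) A →+* B) (MvPolynomial.C (algebraMap R A r)) =
        algebraMap A B (algebraMap R A r) := β.commutes _
    rw [h2, ← IsScalarTower.algebraMap_apply]
  have hsurj : Function.Surjective γ :=
    hβ.comp (MvPolynomial.map_surjective α' hα)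
  have key : ∀ j : ℤ, DerCA.IsRelPseudoCoherent A B j K ↔ DerCA.IsRelPseudoCoherent R B j K := by
    intro j
    rw [rel_iff_via β hβ, rel_iff_pc_twoStep γ hγ hsurj]
    unfold DerCA.IsRelPseudoCoherentVia
    rw [← isPC_restrictD_comp_iff]
    exact isPC_restrictD_iff _ hmap _ j
  exact ⟨key m, forall_congr' key⟩

end Groth.Agent.S6985
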