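import Groth.Statements.S6987
import Mathlib
import Groth.Agent.Lib.Helper1LocBC
-- import your own Groth.Agent.* helpers here

set_option autoImplicit false
universe u
open CategoryTheory CategoryTheory.Limits
attribute [local instance] HasDerivedCategory.standard
open DerCA

namespace Groth.Agent.S6987

open Groth.Agent.Lib.Helper1.RelPC Groth.Agent.Lib.Helper1.Restrict Groth.Agent.Lib.Helper1.PC
open Groth.Agent.Lib.Helper1.LocBC Groth.Agent.Lib.Helper1.Extend Groth.Agent.Lib.Helper1.Tor
open DerivedCategory Groth.Agent.Lib.Helper1.PCTower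

lemma isZero_D_of_subsingleton (B : Type u) [CommRing B] [Subsingleton B] (X : Dual.D B) :
    IsZero X := by
  refine IsZero.of_iso ?_ (Q.objObjPreimageIso X).symm
  refine isZero_Q_of_exactAt _ (fun j => exactAt_of_isZero_X _ j ?_)
  have : Subsingleton ((Q.objPreimage X).X j) := Module.subsingleton B _
  exact ModuleCat.isZero_of_subsingleton _

/-- Let R → A be a finite type homomorphism of commutative rings, K a cochain complex of A-modules, m an
integer and f_1, ..., f_r elements of A generating the unit ideal. Then relative m-pseudo-coherence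
of K over R holds exactly when, for every i, the termwise localization K ⊗_A A_(f_i) is
m-pseudo-coherent relative to R over the finite type R-algebra A_(f_i). -/
theorem result {R A : Type u} [CommRing R] [CommRing A] [Algebra R A]
    [Algebra.FiniteType R A] (K : DRing.Cx A) (m : ℤ) {r : ℕ} (f : Fin r → A)
    (hf : Ideal.span (Set.range f) = ⊤) :
    DerCA.IsRelPseudoCoherent R A m (DRing.toD K) ↔
      ∀ i, DerCA.IsRelPseudoCoherent R (Localization.Away (f i)) m
        (DRing.toD (((ModuleCat.extendScalars (algebraMap A (Localization.Away (f i)))).mapHomologicalComplex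
          (ComplexShape.up ℤ)).obj K)) := by
  obtain ⟨n, α, hα⟩ := exists_presentation R A
  let _ : Algebra (MvPolynomial (Fin n) R) A := α.toRingHom.toAlgebra
  choose gl hgl using fun i => hα (f i)
  have key := fun i => rel_away_iff α hα (gl i) (f i) (hgl i) K m
  rw [rel_iff_via α hα]
  unfold DerCA.IsRelPseudoCoherentVia
  constructor
  · intro h i
    exact (key i).2 (isPC_extD _ m h)
  · intro h
    have h1 : (1 : A) ∈ Ideal.span (Set.range f) := by rw [hf]; trivial
    obtain ⟨c, hc⟩ := (Ideal.mem_span_range_iff_exists_fun).1 h1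
    choose b hb using fun i => hα (c i)
    let h₀ : MvPolynomial (Fin n) R := ∑ i, b i * gl i
    have hh : α h₀ = 1 := by
      rw [map_sum, ← hc]
      exact Finset.sum_congr rfl (fun i _ => by rw [map_mul, hb, hgl])
    let G : Fin (r + 1) → MvPolynomial (Fin n) R := Fin.cons (1 - h₀) gl
    have hG : Ideal.span (Set.range G) = ⊤ := by
      rw [Ideal.eq_top_iff_one]
      have e1 : (1 : MvPolynomial (Fin n) R) = G 0 + ∑ i, b i * G i.succ := by
        simp [G, h₀]
      rw [e1]
      refine Ideal.add_mem _ (Ideal.subset_span ⟨0, rfl⟩) (Ideal.sum_mem _ (fun i _ => ?_))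
      exact Ideal.mul_mem_left _ _ (Ideal.subset_span ⟨i.succ, rfl⟩)
    have hD := descFam_away G hG
    refine hD.isPC _ m (fun j => ?_)
    refine Fin.cases ?_ (fun i => ?_) j
    · have hz : algebraMap (MvPolynomial (Fin n) R) A (1 - h₀) = 0 := by
        show α (1 - h₀) = 0
        rw [map_sub, map_one, hh, sub_self]
      have : Subsingleton (Localization.Away (algebraMap (MvPolynomial (Fin n) R) A (1 - h₀))) := by
        rw [hz]
        exact IsLocalization.subsingleton (M := Submonoid.powers (0 : A)) ⟨1, pow_one 0⟩
      refine isPC_of_iso (bcDIso (1 - h₀) K).symm (isPC_of_isZero m _ ?_)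
      exact (DRing.restrictD _).map_isZero (isZero_D_of_subsingleton _ _)
    · exact (key i).1 (h i)

end Groth.Agent.S6987
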