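import Groth.Statements.S6988
import Mathlib
import Groth.Agent.Lib.Helper1CompactPC
import Groth.Agent.Lib.Helper21DTrunc
-- import your own Groth.Agent.* helpers here

set_option autoImplicit false
universe u
open CategoryTheory CategoryTheory.Limits
attribute [local instance] HasDerivedCategory.standard
open DRing

namespace Groth.Agent.S6988

open DerivedCategory HomologicalComplex Groth.Agent.Lib.Helper1.Compact
open Groth.Agent.Lib.Helper21.DTrunc

variable {R : Type u} [CommRing R]

/-- the canonical chain map from a complex to its opcycles placed in degree `i` -/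
noncomputable def toOpcycles (P : DRing.Cx R) (i : ℤ) : P ⟶ Sg i (P.opcycles i) :=
  toSingle P i (P.pOpcycles i) (P.d_pOpcycles (i - 1) i)

lemma isIso_opcyclesMap_toOpcycles (P : DRing.Cx R) (i : ℤ) :
    IsIso (opcyclesMap (toOpcycles P i) i) := by
  have h0 : (Sg i (P.opcycles i)).d (i - 1) i = 0 := HomologicalComplex.single_obj_d _ _ _ _ _
  have hiso : IsIso ((Sg i (P.opcycles i)).pOpcycles i) :=
    (Sg i (P.opcycles i)).isIso_pOpcycles (i - 1) i (by simp) h0
  have h1 : P.pOpcycles i ≫ opcyclesMap (toOpcycles P i) i =
      P.pOpcycles i ≫ ((singleObjXSelf (ComplexShape.up ℤ) i (P.opcycles i)).inv ≫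
        (Sg i (P.opcycles i)).pOpcycles i) := by
    rw [p_opcyclesMap, toOpcycles, toSingle_f, Category.assoc]
  have h2 : opcyclesMap (toOpcycles P i) i =
      (singleObjXSelf (ComplexShape.up ℤ) i (P.opcycles i)).inv ≫
        (Sg i (P.opcycles i)).pOpcycles i := (cancel_epi _).1 h1
  rw [h2]
  infer_instance

lemma mono_homologyMap_toOpcycles (P : DRing.Cx R) (i : ℤ) :
    Mono (homologyMap (toOpcycles P i) i) := by
  have := isIso_opcyclesMap_toOpcycles P i
  have h : homologyMap (toOpcycles P i) i ≫ (Sg i (P.opcycles i)).homologyι i =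
      P.homologyι i ≫ opcyclesMap (toOpcycles P i) i := homologyι_naturality _ _
  have : Mono (homologyMap (toOpcycles P i) i ≫ (Sg i (P.opcycles i)).homologyι i) := by
    rw [h]
    infer_instance
  exact mono_of_mono _ ((Sg i (P.opcycles i)).homologyι i)

/-- Let R be a commutative ring, K a pseudo-coherent object of D(R) and i an integer. Then some finitely
presented R-module M admits a morphism K → M[-i] in D(R) that is injective on H^i (here H^i(M[-i]) =
M). -/
theorem result (R : Type u) [CommRing R] (K : Dual.D R)
    (hK : DRing.IsPseudoCoherent' R K) (i : ℤ) :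
    ∃ (M : Type u) (_ : AddCommGroup M) (_ : Module R M) (_ : Module.FinitePresentation R M)
      (f : K ⟶ (shiftFunctor (Dual.D R) (-i)).obj (Dual.inD R M)),
      Mono ((DerivedCategory.homologyFunctor (ModuleCat.{u} R) i).map f) := by
  obtain ⟨P, b, hPb, hff, ⟨e⟩⟩ := hK
  have hsurj : Function.Surjective (P.pOpcycles i).hom :=
    (ModuleCat.epi_iff_surjective _).1 inferInstance
  have hexd : Function.Exact (P.d (i - 1) i).hom (P.pOpcycles i).hom := by
    have hcok := P.opcyclesIsCokernel (i - 1) i (by simp)
    have hS : (ShortComplex.mk (P.d (i - 1) i) (P.pOpcycles i) (P.d_pOpcycles (i - 1) i)).Exact :=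
      ShortComplex.exact_of_g_is_cokernel _ hcok
    rw [ShortComplex.ShortExact.moduleCat_exact_iff_function_exact] at hS
    exact hS
  have := (hff i).1
  have := (hff i).2
  have := (hff (i - 1)).1
  have : Module.FinitePresentation R (P.X i) := Module.finitePresentation_of_projective R _
  have hfp : Module.FinitePresentation R (P.opcycles i) := by
    refine Module.finitePresentation_of_surjective (P.pOpcycles i).hom hsurj ?_
    rw [LinearMap.exact_iff.1 hexd, LinearMap.range_eq_map]
    exact Submodule.FG.map _ Module.Finite.fg_top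
  refine ⟨P.opcycles i, inferInstance, inferInstance, hfp,
    e.inv ≫ Q.map (toOpcycles P i) ≫ (shiftSingleIso (-i) i (by lia) (P.opcycles i)).inv, ?_⟩
  have hm : Mono ((homologyFunctor (ModuleCat.{u} R) i).map (Q.map (toOpcycles P i))) := by
    obtain ⟨φK, φL, h⟩ := homologyFunctor_map_Q_eq (toOpcycles P i) i
    have := mono_homologyMap_toOpcycles P i
    rw [h]
    infer_instance
  rw [Functor.map_comp, Functor.map_comp]
  infer_instance

end Groth.Agent.S6988
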