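import Groth.Statements.S6991
import Mathlib

set_option autoImplicit false
universe u
open CAlg

namespace Groth.Agent.S6991

section
variable {S P M : Type*} [CommRing S] [CommRing P] [AddCommGroup M] [Module S M] [Module P M]

theorem fp_down (π : S →+* P) (hπ : Function.Surjective π)
    (hc : ∀ (s : S) (m : M), s • m = π s • m)
    [Module.FinitePresentation S M] : Module.FinitePresentation P M := by
  classical
  obtain ⟨n, f, hf⟩ := Module.Finite.exists_fin' S M
  have hK : (LinearMap.ker f).FG := Module.FinitePresentation.fg_ker f hf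
  obtain ⟨m, hm⟩ : ∃ m : Fin n → M, m = fun i => f (Pi.single i 1) := ⟨_, rfl⟩
  have hfx : ∀ x : Fin n → S, f x = ∑ i, x i • m i := by
    intro x
    rw [LinearMap.pi_apply_eq_sum_univ f x, hm]
    refine Finset.sum_congr rfl fun i _ => ?_
    congr 2
    ext j
    simp [Pi.single_apply, eq_comm]
  obtain ⟨g, hg⟩ : ∃ g : (Fin n → P) →ₗ[P] M, g = Fintype.linearCombination P m := ⟨_, rfl⟩
  have hgf : ∀ x : Fin n → S, g (fun i => π (x i)) = f x := by
    intro x
    rw [hg, Fintype.linearCombination_apply, hfx]
    exact Finset.sum_congr rfl fun i _ => (hc _ _).symm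
  have hlift : ∀ y : Fin n → P, ∃ x : Fin n → S, (fun i => π (x i)) = y := by
    intro y
    choose x hx using fun i => hπ (y i)
    exact ⟨x, funext hx⟩
  have hgs : Function.Surjective g := by
    intro z
    obtain ⟨x, rfl⟩ := hf z
    exact ⟨_, hgf x⟩
  refine Module.finitePresentation_of_surjective g hgs ?_
  obtain ⟨T, hT⟩ := hK
  refine ⟨T.image (fun x => fun i => π (x i)), ?_⟩
  apply le_antisymm
  · rw [Submodule.span_le]
    intro y hy
    rw [Finset.coe_image] at hy
    obtain ⟨x, hx, rfl⟩ := hy
    have hx' : x ∈ LinearMap.ker f := hT ▸ Submodule.subset_span hx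
    rw [SetLike.mem_coe, LinearMap.mem_ker, hgf]
    exact hx'
  · intro y hy
    obtain ⟨x, rfl⟩ := hlift y
    rw [LinearMap.mem_ker, hgf] at hy
    have hx : x ∈ Submodule.span S (T : Set (Fin n → S)) := hT ▸ hy
    clear hy
    induction hx using Submodule.span_induction with
    | mem x hx =>
      apply Submodule.subset_span
      rw [Finset.coe_image]
      exact ⟨x, hx, rfl⟩
    | zero =>
      have : (fun i => π ((0 : Fin n → S) i)) = (0 : Fin n → P) := by
        ext i
        simp
      rw [this]
      exact zero_mem _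
    | add x x' _ _ ih ih' =>
      have : (fun i => π ((x + x') i)) = (fun i => π (x i)) + (fun i => π (x' i)) := by
        ext i
        simp
      rw [this]
      exact add_mem ih ih'
    | smul s x _ ih =>
      have : (fun i => π ((s • x) i)) = π s • (fun i => π (x i)) := by
        ext i
        simp
      rw [this]
      exact Submodule.smul_mem _ _ ih

theorem fp_up (π : S →+* P) (hπ : Function.Surjective π)
    (hc : ∀ (s : S) (m : M), s • m = π s • m) (hker : (RingHom.ker π).FG)
    [Module.FinitePresentation P M] : Module.FinitePresentation S M := by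
  let _ : Algebra S P := π.toAlgebra
  have hst : IsScalarTower S P M := by
    refine ⟨fun s p m => ?_⟩
    rw [hc, Algebra.smul_def, mul_smul]
    rfl
  have hP : Module.FinitePresentation S P := by
    refine Module.finitePresentation_of_surjective (Algebra.linearMap S P) hπ ?_
    have : LinearMap.ker (Algebra.linearMap S P) = RingHom.ker π := by
      ext s
      simp [RingHom.mem_ker]
      rfl
    rw [this]
    exact hker
  exact Module.FinitePresentation.trans S M P

end

section
variable {R A : Type u} [CommRing R] [CommRing A] [Algebra R A]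

theorem one_dir (M : Type u) [AddCommGroup M] [Module A M] {n k : ℕ}
    (α : MvPolynomial (Fin n) R →ₐ[R] A) (hα : Function.Surjective α)
    (β : MvPolynomial (Fin k) R →ₐ[R] A) (hβ : Function.Surjective β)
    (h : @Module.FinitePresentation (MvPolynomial (Fin n) R) M _ _
      (Module.compHom M α.toRingHom)) :
    @Module.FinitePresentation (MvPolynomial (Fin k) R) M _ _ (Module.compHom M β.toRingHom) := by
  classical
  choose p hp using fun j : Fin k => hα (β (MvPolynomial.X j))
  choose q hq using fun i : Fin n => hβ (α (MvPolynomial.X i))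
  obtain ⟨π₁, hπ₁⟩ : ∃ π₁ : MvPolynomial (Fin n ⊕ Fin k) R →ₐ[R] MvPolynomial (Fin n) R,
      π₁ = MvPolynomial.aeval (Sum.elim MvPolynomial.X p) := ⟨_, rfl⟩
  obtain ⟨π₂, hπ₂⟩ : ∃ π₂ : MvPolynomial (Fin n ⊕ Fin k) R →ₐ[R] MvPolynomial (Fin k) R,
      π₂ = MvPolynomial.aeval (Sum.elim q MvPolynomial.X) := ⟨_, rfl⟩
  have hcomm : α.comp π₁ = β.comp π₂ := by
    apply MvPolynomial.algHom_ext
    rintro (i | j)
    · simp [hπ₁, hπ₂, hq]
    · simp [hπ₁, hπ₂, hp]
  have hs₁ : Function.Surjective π₁ := by
    intro f
    refine ⟨MvPolynomial.rename Sum.inl f, ?_⟩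
    rw [hπ₁, MvPolynomial.aeval_rename]
    have : (Sum.elim MvPolynomial.X p ∘ Sum.inl : Fin n → MvPolynomial (Fin n) R)
        = MvPolynomial.X := rfl
    rw [this, MvPolynomial.aeval_X_left_apply]
  have hs₂ : Function.Surjective π₂ := by
    intro f
    refine ⟨MvPolynomial.rename Sum.inr f, ?_⟩
    rw [hπ₂, MvPolynomial.aeval_rename]
    have : (Sum.elim q MvPolynomial.X ∘ Sum.inr : Fin k → MvPolynomial (Fin k) R)
        = MvPolynomial.X := rfl
    rw [this, MvPolynomial.aeval_X_left_apply]
  have hk₁ : (RingHom.ker π₁.toRingHom).FG :=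
    Algebra.FinitePresentation.ker_fG_of_surjective π₁ hs₁
  have h1 : @Module.FinitePresentation (MvPolynomial (Fin n ⊕ Fin k) R) M _ _
      (Module.compHom M (α.comp π₁).toRingHom) :=
    @fp_up (MvPolynomial (Fin n ⊕ Fin k) R) (MvPolynomial (Fin n) R) M _ _ _
      (Module.compHom M (α.comp π₁).toRingHom) (Module.compHom M α.toRingHom) π₁.toRingHom hs₁
      (fun s m => rfl) hk₁ h
  exact @fp_down (MvPolynomial (Fin n ⊕ Fin k) R) (MvPolynomial (Fin k) R) M _ _ _
      (Module.compHom M (α.comp π₁).toRingHom) (Module.compHom M β.toRingHom) π₂.toRingHom hs₂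
      (fun s m => by
        change (α.comp π₁) s • m = (β.comp π₂) s • m
        rw [hcomm]) h1

end


/-- Let R → A be a finite type homomorphism of commutative rings, M an A-module, and α : R[x_1, ...,
x_n] → A, β : R[y_1, ..., y_k] → A surjective R-algebra homomorphisms. Then M is finitely presented
as an R[x_1, ..., x_n]-module through α if and only if M is finitely presented as an R[y_1, ...,
y_k]-module through β. If this holds, M is a finitely presented A-module. -/
theorem result {R A : Type u} [CommRing R] [CommRing A] [Algebra R A]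
    [Algebra.FiniteType R A] (M : Type u) [AddCommGroup M] [Module A M] {n k : ℕ}
    (α : MvPolynomial (Fin n) R →ₐ[R] A) (hα : Function.Surjective α)
    (β : MvPolynomial (Fin k) R →ₐ[R] A) (hβ : Function.Surjective β) :
    (@Module.FinitePresentation (MvPolynomial (Fin n) R) M _ _ (Module.compHom M α.toRingHom) ↔
      @Module.FinitePresentation (MvPolynomial (Fin k) R) M _ _ (Module.compHom M β.toRingHom)) ∧
      (@Module.FinitePresentation (MvPolynomial (Fin n) R) M _ _ (Module.compHom M α.toRingHom) →
        Module.FinitePresentation A M) := by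
  refine ⟨⟨one_dir M α hα β hβ, one_dir M β hβ α hα⟩, fun h => ?_⟩
  exact @fp_down (MvPolynomial (Fin n) R) A M _ _ _
      (Module.compHom M α.toRingHom) _ α.toRingHom hα (fun s m => rfl) h

end Groth.Agent.S6991
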