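import Groth.Statements.S6994
import Mathlib
import Groth.Agent.S6990
import Groth.Agent.Lib.Helper1GlDim
import Groth.Agent.Lib.Helper1Devissage
-- import your own Groth.Agent.* helpers here

set_option autoImplicit false
universe u
open CategoryTheory CategoryTheory.Limits
attribute [local instance] HasDerivedCategory.standard
open DRing

namespace Groth.Agent.S6994

open DerivedCategory Pretriangulated Groth.Agent.S14388
open Groth.Agent.Lib.Helper1.GlDim Groth.Agent.Lib.Helper1.Devissage

variable {R : Type u} [CommRing R]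

/-- the objects with no nonzero map to `L` -/
def noHom (L : Dual.D R) : ObjectProperty (Dual.D R) := fun X => ∀ f : X ⟶ L, f = 0

instance (L : Dual.D R) : (noHom L).IsClosedUnderIsomorphisms :=
  ⟨fun e h f => by
    have := h (e.hom ≫ f)
    rw [← cancel_epi e.hom, this, comp_zero]⟩

lemma noHom_ext (L : Dual.D R) (T : Triangle (Dual.D R)) (hT : T ∈ distTriang (Dual.D R))
    (h1 : noHom L T.obj₁) (h3 : noHom L T.obj₃) : noHom L T.obj₂ := by
  intro f
  obtain ⟨g, hg⟩ := Triangle.yoneda_exact₂ T hT f (h1 _)
  rw [hg, h3 g, comp_zero]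

/-- global dimension `≤ d`: no maps from `D^{[k+1, b]}` to `D^{≤ k - d}` -/
lemma hom_eq_zero_of_gldim (d : ℕ)
    (hgl : ∀ (M : Type u) [AddCommGroup M] [Module R M], HasProjectiveDimensionLT (ModuleCat.of R M) (d + 1))
    (K L : Dual.D R) (k bK : ℤ)
    (hK : ∀ i : ℤ, (i < k + 1 ∨ bK < i) → IsZero ((homologyFunctor (ModuleCat.{u} R) i).obj K))
    [L.IsLE (k - d)] (f : K ⟶ L) : f = 0 := by
  have hPK : noHom L K := by
    apply induction_homology' (noHom L) (fun X hX f => hX.eq_of_src _ _)
      (fun T hT h1 h3 => noHom_ext L T hT h1 h3) K (k + 1) bK hK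
    intro j hj1 hj2 φ
    obtain ⟨P', hP', hproj, ⟨e⟩⟩ := projAmp_single ((homologyFunctor (ModuleCat.{u} R) j).obj K) d
      (hgl _) j
    have : ∀ i : ℤ, Projective (P'.X i) := fun i =>
      have := hproj i
      ModuleCat.projective_of_categoryTheory_projective _
    have hLle' : L.IsLE (j - d - 1) := tt.isLE_of_le L (k - d) (j - d - 1) (by omega)
    have h := Groth.Agent.S6990.hom_eq_zero P' (j - d) j hP' L (e.hom ≫ φ)
    rw [← cancel_epi e.hom, h, comp_zero]
  exact hPK f

/-- Let R be a Noetherian regular commutative ring (its localization at every prime is a regular local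
ring) of finite Krull dimension d. Let K and L be objects of D(R) whose cohomology vanishes in large
degrees, and suppose there is an integer k with H^i(K) = 0 for all i ≤ k and H^i(L) = 0 for all i ≥
k - d + 1. Then every morphism K → L in D(R) is zero. -/
theorem result (R : Type u) [CommRing R] [IsNoetherianRing R]
    (hreg : ∀ p : PrimeSpectrum R, IsRegularLocalRing (Localization.AtPrime p.asIdeal)) (d : ℕ)
    (hd : ringKrullDim R = d) (K L : Dual.D R) (hKb : ∃ b : ℤ, ∀ i : ℤ, b < i → Subsingleton (Dual.HD R K i))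
    (hLb : ∃ b : ℤ, ∀ i : ℤ, b < i → Subsingleton (Dual.HD R L i)) (k : ℤ)
    (hK : ∀ i : ℤ, i ≤ k → Subsingleton (Dual.HD R K i)) (hL : ∀ i : ℤ, k - d + 1 ≤ i → Subsingleton (Dual.HD R L i)) :
    Subsingleton (K ⟶ L) := by
  obtain ⟨bK, hbK⟩ := hKb
  have hLle : L.IsLE (k - d) := (DerivedCategory.isLE_iff L (k - d)).2 (fun i hi => by
    have := hL i (by omega)
    exact ModuleCat.isZero_of_subsingleton _)
  have hz : ∀ f : K ⟶ L, f = 0 := fun f =>
    hom_eq_zero_of_gldim d (fun M _ _ => gldim_of_regular hreg d hd M) K L k bK (fun i hi => by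
      rcases hi with hi | hi
      · have := hK i (by omega)
        exact ModuleCat.isZero_of_subsingleton _
      · have := hbK i hi
        exact ModuleCat.isZero_of_subsingleton _) f
  exact ⟨fun f g => by rw [hz f, hz g]⟩

end Groth.Agent.S6994
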