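import Groth.Statements.S6995
import Mathlib
import Groth.Agent.S6994
import Groth.Agent.S6962
-- import your own Groth.Agent.* helpers here

set_option autoImplicit false
universe u
open CategoryTheory CategoryTheory.Limits
attribute [local instance] HasDerivedCategory.standard
open DRing

namespace Groth.Agent.S6995

open DerivedCategory Pretriangulated Groth.Agent.S14388
open Groth.Agent.Lib.Helper1.GlDim Groth.Agent.Lib.Helper1.Devissage Groth.Agent.S6994

variable {R : Type u} [CommRing R]

/-- splitting across a cohomological gap, given the vanishing of the connecting map -/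
lemma exists_splitting_of_gap (K : Dual.D R) (m n : ℤ) (hmn : m ≤ n)
    (hgap : ∀ i : ℤ, m ≤ i → i < n → IsZero ((homologyFunctor (ModuleCat.{u} R) i).obj K))
    (hzero : ∀ f : (tt.truncGE n).obj K ⟶ (shiftFunctor (Dual.D R) (1 : ℤ)).obj ((tt.truncLT m).obj K),
      f = 0)
    [HasBinaryBiproduct ((tt.truncLT m).obj K) ((tt.truncGE n).obj K)] :
    ∃ e : K ≅ (tt.truncLT m).obj K ⊞ (tt.truncGE n).obj K,
      (tt.truncLTι m).app K ≫ e.hom = biprod.inl ∧ e.hom ≫ biprod.snd = (tt.truncGEπ n).app K := by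
  obtain ⟨C, hC⟩ : ∃ C : Dual.D R, C = (tt.truncGE m).obj K := ⟨_, rfl⟩
  obtain ⟨p, hp⟩ : ∃ p : K ⟶ (tt.truncGE m).obj K, p = (tt.truncGEπ m).app K := ⟨_, rfl⟩
  have hCge : ((tt.truncGE m).obj K).IsGE n := by
    rw [DerivedCategory.isGE_iff]
    intro i hi
    by_cases him : i < m
    · exact isZero_of_isGE _ m i him
    · have j1 := isIso_homology_truncGEπ m i (by omega) K
      exact (hgap i (by omega) hi).of_iso (asIso ((homologyFunctor (ModuleCat.{u} R) i).map
        ((tt.truncGEπ m).app K))).symm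
  have hi1 : IsIso ((tt.truncGEπ n).app ((tt.truncGE m).obj K)) := inferInstance
  have hi2 : IsIso ((tt.truncGE n).map ((tt.truncGEπ m).app K)) :=
    tt.isIso_truncGE_map_truncGEπ_app n m hmn K
  have hnat : (tt.truncGEπ m).app K ≫ (tt.truncGEπ n).app ((tt.truncGE m).obj K) =
      (tt.truncGEπ n).app K ≫ (tt.truncGE n).map ((tt.truncGEπ m).app K) :=
    (tt.truncGEπ_naturality n ((tt.truncGEπ m).app K)).symm
  obtain ⟨φ, hφ⟩ : ∃ φ : (tt.truncGE m).obj K ≅ (tt.truncGE n).obj K,
      (tt.truncGEπ m).app K ≫ φ.hom = (tt.truncGEπ n).app K :=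
    ⟨asIso ((tt.truncGEπ n).app ((tt.truncGE m).obj K)) ≪≫
      (asIso ((tt.truncGE n).map ((tt.truncGEπ m).app K))).symm, by
      rw [Iso.trans_hom, asIso_hom, Iso.symm_hom, asIso_inv, ← Category.assoc, hnat,
        Category.assoc, IsIso.hom_inv_id, Category.comp_id]⟩
  have hT := tt.triangleLTGE_distinguished m K
  obtain ⟨T', hT'⟩ : ∃ T' : Triangle (Dual.D R), T' = Triangle.mk ((tt.truncLTι m).app K)
      ((tt.truncGEπ n).app K) (φ.inv ≫ (tt.truncGEδLT m).app K) := ⟨_, rfl⟩
  have hT'dist : T' ∈ distTriang (Dual.D R) := by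
    refine isomorphic_distinguished _ hT _ ?_
    rw [hT']
    refine Triangle.isoMk _ _ (Iso.refl ((tt.truncLT m).obj K)) (Iso.refl K) φ.symm ?_ ?_ ?_
    · show (tt.truncLTι m).app K ≫ 𝟙 K = 𝟙 ((tt.truncLT m).obj K) ≫ (tt.truncLTι m).app K
      exact (Category.comp_id _).trans (Category.id_comp _).symm
    · show (tt.truncGEπ n).app K ≫ φ.inv = 𝟙 K ≫ (tt.truncGEπ m).app K
      exact ((Iso.comp_inv_eq φ).2 hφ.symm).trans (Category.id_comp _).symm
    · show (φ.inv ≫ (tt.truncGEδLT m).app K) ≫
        (shiftFunctor (Dual.D R) (1 : ℤ)).map (𝟙 ((tt.truncLT m).obj K)) =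
        φ.inv ≫ (tt.truncGEδLT m).app K
      rw [CategoryTheory.Functor.map_id]
      exact Category.comp_id _
  have hz : T'.mor₃ = 0 := by
    rw [hT']
    exact hzero _
  subst hT'
  obtain ⟨e', h1, h2⟩ := exists_iso_binaryBiproduct_of_distTriang _ hT'dist hz
  exact ⟨e', h1, h2.symm⟩

/-- Let R be a Noetherian regular commutative ring of finite Krull dimension d ≥ 1, K a perfect object
of D(R) and k an integer such that H^i(K) = 0 for every i with k - d + 2 ≤ i ≤ k. Then K splits in
D(R) as the direct sum of its canonical truncations: there is an isomorphism K ≅ τ_(≤ k-d+1) K ⊕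
τ_(≥ k+1) K under which the truncation map τ_(≤ k-d+1) K → K becomes the first inclusion and K →
τ_(≥ k+1) K the second projection. -/
theorem result (R : Type u) [CommRing R] [IsNoetherianRing R]
    (hreg : ∀ p : PrimeSpectrum R, IsRegularLocalRing (Localization.AtPrime p.asIdeal)) (d : ℕ) (hd1 : 1 ≤ d)
    (hd : ringKrullDim R = d) (K : Dual.D R) (hK : DRing.IsPerfect R K) (k : ℤ)
    (hgap : ∀ i : ℤ, k - d + 2 ≤ i → i ≤ k → Subsingleton (Dual.HD R K i))
    [HasBinaryBiproduct
      (((DerivedCategory.TStructure.t : Triangulated.TStructure (Dual.D R)).truncLT (k - d + 2)).obj K)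
      (((DerivedCategory.TStructure.t : Triangulated.TStructure (Dual.D R)).truncGE (k + 1)).obj K)] :
    ∃ e : K ≅
      ((DerivedCategory.TStructure.t : Triangulated.TStructure (Dual.D R)).truncLT (k - d + 2)).obj K ⊞
        ((DerivedCategory.TStructure.t : Triangulated.TStructure (Dual.D R)).truncGE (k + 1)).obj K,
      ((DerivedCategory.TStructure.t : Triangulated.TStructure (Dual.D R)).truncLTι (k - d + 2)).app K ≫ e.hom =
          biprod.inl ∧
        e.hom ≫ biprod.snd =
          ((DerivedCategory.TStructure.t : Triangulated.TStructure (Dual.D R)).truncGEπ (k + 1)).app K := by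
  obtain ⟨⟨a, b, hab⟩, -⟩ := Groth.Agent.S6962.finite_homology_of_isPerfect K hK
  apply exists_splitting_of_gap K (k - d + 2) (k + 1) (by omega)
  · intro i hi1 hi2
    have := hgap i hi1 (by omega)
    exact ModuleCat.isZero_of_subsingleton _
  · intro f
    have h1 : ((tt.truncLT (k - d + 2)).obj K).IsLE (k - d + 1) :=
      tt.isLE_truncLT_obj K (k - d + 2) (k - d + 1) (by omega)
    have h2 : ((shiftFunctor (Dual.D R) (1 : ℤ)).obj ((tt.truncLT (k - d + 2)).obj K)).IsLE (k - d) :=
      tt.isLE_shift _ (k - d + 1) 1 (k - d) (by omega)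
    refine hom_eq_zero_of_gldim d (fun M _ _ => gldim_of_regular hreg d hd M) _ _ k b
      (fun i hi => ?_) f
    rcases hi with hi | hi
    · exact isZero_of_isGE _ (k + 1) i hi
    · by_cases hik : i < k + 1
      · exact isZero_of_isGE _ (k + 1) i hik
      · have j1 := isIso_homology_truncGEπ (k + 1) i (by omega) K
        have := hab i (Or.inr hi)
        have hz : IsZero ((homologyFunctor (ModuleCat.{u} R) i).obj K) :=
          ModuleCat.isZero_of_subsingleton _
        exact hz.of_iso
          (asIso ((homologyFunctor (ModuleCat.{u} R) i).map ((tt.truncGEπ (k + 1)).app K))).symm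

end Groth.Agent.S6995
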