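import Groth.Statements.S6999
import Mathlib
import Groth.Agent.Lib.Helper1CompactPC
-- import your own Groth.Agent.* helpers here

set_option autoImplicit false
universe u
open CategoryTheory CategoryTheory.Limits
attribute [local instance] HasDerivedCategory.standard
open DRing

namespace Groth.Agent.S6999

open DerivedCategory Pretriangulated HomologicalComplex Groth.Agent.Lib.Helper1.Cone Groth.Agent.S7017
open Groth.Agent.S14388 Groth.Agent.Lib.Helper1.PC Groth.Agent.Lib.Helper1.PCTower
open Groth.Agent.Lib.Helper1.Compact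

variable {R : Type u} [CommRing R]

lemma isGE_shift_single (N : ModuleCat.{u} R) (n : ℤ) :
    ((shiftFunctor (DerivedCategory (ModuleCat.{u} R)) n).obj
      ((DerivedCategory.singleFunctor (ModuleCat.{u} R) 0).obj N)).IsGE (-n) :=
  tt.isGE_shift _ 0 n (-n) (by lia)

/-- restriction along `α` is injective on `Hom(-, N[n])` for `n ≤ -m` -/
lemma restr_inj {X K C : DerivedCategory (ModuleCat.{u} R)} (α : X ⟶ K) (β : K ⟶ C)
    (γ : C ⟶ X⟦(1 : ℤ)⟧) (hT : Triangle.mk α β γ ∈ distTriang _) (m : ℤ)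
    (hC : C.IsLE (m - 1)) (N : ModuleCat.{u} R) (n : ℤ) (hn : n ≤ -m)
    (y : K ⟶ (shiftFunctor (DerivedCategory (ModuleCat.{u} R)) n).obj
      ((DerivedCategory.singleFunctor (ModuleCat.{u} R) 0).obj N)) (h : α ≫ y = 0) : y = 0 := by
  obtain ⟨z, hz⟩ : ∃ z : C ⟶ (shiftFunctor (DerivedCategory (ModuleCat.{u} R)) n).obj
      ((DerivedCategory.singleFunctor (ModuleCat.{u} R) 0).obj N), y = β ≫ z :=
    Triangle.yoneda_exact₂ _ hT y h
  rw [hz, tt.zero_of_isLE_of_isGE z (m - 1) (-n) (by lia) hC (isGE_shift_single N n), comp_zero]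

/-- restriction along `α` is surjective on `Hom(-, N[n])` for `n < -m` -/
lemma restr_surj {X K C : DerivedCategory (ModuleCat.{u} R)} (α : X ⟶ K) (β : K ⟶ C)
    (γ : C ⟶ X⟦(1 : ℤ)⟧) (hT : Triangle.mk α β γ ∈ distTriang _) (m : ℤ)
    (hC : C.IsLE (m - 1)) (N : ModuleCat.{u} R) (n : ℤ) (hn : n < -m)
    (y' : X ⟶ (shiftFunctor (DerivedCategory (ModuleCat.{u} R)) n).obj
      ((DerivedCategory.singleFunctor (ModuleCat.{u} R) 0).obj N)) :
    ∃ y : K ⟶ (shiftFunctor (DerivedCategory (ModuleCat.{u} R)) n).obj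
      ((DerivedCategory.singleFunctor (ModuleCat.{u} R) 0).obj N), α ≫ y = y' := by
  have hT' := inv_rot_of_distTriang _ hT
  have h1 : (C⟦(-1 : ℤ)⟧).IsLE m := tt.isLE_shift C (m - 1) (-1) m (by lia)
  have hz : (Triangle.mk α β γ).invRotate.mor₁ ≫ y' = 0 :=
    tt.zero_of_isLE_of_isGE _ m (-n) (by lia) h1 (isGE_shift_single N n)
  obtain ⟨y, hy⟩ := Triangle.yoneda_exact₂ _ hT' y' hz
  exact ⟨y, hy.symm⟩

/-- Let R be a commutative ring, m an integer, K an m-pseudo-coherent object of D(R), and (M_j) a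
diagram of R-modules over a small filtered category with colimit cocone M. Then the canonical map
colim_j Hom(K, M_j[n]) → Hom(K, M[n]) in D(R) is bijective for n < -m and injective for n = -m.
Unfolded: for n < -m every morphism K → M[n] factors through M_j[n] → M[n] for some j; and for n ≤
-m, a morphism K → M_j[n] whose composite with M_j[n] → M[n] is zero already has zero composite with
M_j[n] → M_(j')[n] for some j → j'. -/
theorem result (R : Type u) [CommRing R] (m : ℤ) (K : Dual.D R)
    (hK : DRing.IsPseudoCoherent R m K) {J : Type u} [SmallCategory J] [IsFiltered J]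
    (F : J ⥤ ModuleCat.{u} R) (c : Cocone F) (hc : IsColimit c) :
    (∀ n : ℤ, n < -m → ∀ x : K ⟶ (shiftFunctor (Dual.D R) n).obj (Dual.inD R c.pt),
      ∃ (j : J) (y : K ⟶ (shiftFunctor (Dual.D R) n).obj (Dual.inD R (F.obj j))),
        y ≫ (shiftFunctor (Dual.D R) n).map
          ((DerivedCategory.singleFunctor (ModuleCat.{u} R) 0).map (c.ι.app j)) = x) ∧
    (∀ n : ℤ, n ≤ -m → ∀ (j : J) (y : K ⟶ (shiftFunctor (Dual.D R) n).obj (Dual.inD R (F.obj j))),
      y ≫ (shiftFunctor (Dual.D R) n).map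
          ((DerivedCategory.singleFunctor (ModuleCat.{u} R) 0).map (c.ι.app j)) = 0 →
      ∃ (j' : J) (f : j ⟶ j'), y ≫ (shiftFunctor (Dual.D R) n).map
          ((DerivedCategory.singleFunctor (ModuleCat.{u} R) 0).map (F.map f)) = 0) := by
  obtain ⟨E, a, b, α, hE, hff, h1, h2⟩ := hK
  have hα : Conn m α := ⟨h1, h2⟩
  have hproj : ∀ i : ℤ, Projective (E.X i) := fun i =>
    have := (hff i).2
    have : Module.Projective R (E.X i) := Module.Projective.of_free
    ModuleCat.projective_of_categoryTheory_projective _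
  have hEle : E.IsStrictlyLE b := by
    rw [CochainComplex.isStrictlyLE_iff]
    exact fun i hi => hE i (Or.inr hi)
  have hKP : E.IsKProjective := CochainComplex.isKProjective_of_projective E b
  obtain ⟨C, β, γ, hT⟩ := distinguished_cocone_triangle α
  have hC : C.IsLE (m - 1) := (conn_iff_of_distTriang _ hT m).1 hα
  constructor
  · intro n hn x
    have hnn : n + -n = 0 := by lia
    obtain ⟨k, y', hy'⟩ := cpt_surj F c hc E hff (-n) (α ≫ x ≫ (shiftSingleIso n (-n) hnn c.pt).hom)
    obtain ⟨y, hy⟩ := restr_surj α β γ hT m hC (F.obj k) n hn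
      (y' ≫ (shiftSingleIso n (-n) hnn (F.obj k)).inv)
    refine ⟨k, y, ?_⟩
    have hy2 : α ≫ y ≫ (shiftSingleIso n (-n) hnn (F.obj k)).hom = y' := by
      rw [← Category.assoc, hy, Category.assoc, Iso.inv_hom_id, Category.comp_id]
    let t : K ⟶ (shiftFunctor (Dual.D R) n).obj (Dual.inD R c.pt) :=
      y ≫ (shiftFunctor (Dual.D R) n).map
        ((DerivedCategory.singleFunctor (ModuleCat.{u} R) 0).map (c.ι.app k))
    have ht : α ≫ t ≫ (shiftSingleIso n (-n) hnn c.pt).hom =
        α ≫ x ≫ (shiftSingleIso n (-n) hnn c.pt).hom := by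
      have h3 := shiftSingleIso_naturality n (-n) hnn (c.ι.app k)
      have h4 : t ≫ (shiftSingleIso n (-n) hnn c.pt).hom =
          y ≫ (shiftSingleIso n (-n) hnn (F.obj k)).hom ≫
            Q.map ((HomologicalComplex.single (ModuleCat.{u} R) (ComplexShape.up ℤ) (-n)).map (c.ι.app k)) := by
        show (y ≫ _) ≫ _ = _
        rw [Category.assoc]
        exact congrArg (fun z => y ≫ z) h3
      have h5 : α ≫ y ≫ (shiftSingleIso n (-n) hnn (F.obj k)).hom ≫
          Q.map ((HomologicalComplex.single (ModuleCat.{u} R) (ComplexShape.up ℤ) (-n)).map (c.ι.app k)) =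
          (α ≫ y ≫ (shiftSingleIso n (-n) hnn (F.obj k)).hom) ≫
          Q.map ((HomologicalComplex.single (ModuleCat.{u} R) (ComplexShape.up ℤ) (-n)).map (c.ι.app k)) := by
        simp only [Category.assoc]
      rw [h4, h5, hy2, hy']
    have hsub : α ≫ (t - x) = 0 := by
      rw [← cancel_mono (shiftSingleIso n (-n) hnn c.pt).hom, zero_comp, Category.assoc,
        Preadditive.sub_comp, Preadditive.comp_sub, ht, sub_self]
    exact sub_eq_zero.1 (restr_inj α β γ hT m hC c.pt n hn.le (t - x) hsub)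
  · intro n hn k y hy
    have hnn : n + -n = 0 := by lia
    have h3 := shiftSingleIso_naturality n (-n) hnn (c.ι.app k)
    have h0 : (α ≫ y ≫ (shiftSingleIso n (-n) hnn (F.obj k)).hom) ≫
        Q.map ((HomologicalComplex.single (ModuleCat.{u} R)
        (ComplexShape.up ℤ) (-n)).map (c.ι.app k)) = 0 := by
      have h4 : (y ≫ (shiftFunctor (Dual.D R) n).map
          ((DerivedCategory.singleFunctor (ModuleCat.{u} R) 0).map (c.ι.app k))) ≫
          (shiftSingleIso n (-n) hnn c.pt).hom = 0 := by rw [hy, zero_comp]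
      rw [Category.assoc] at h4
      rw [Category.assoc, Category.assoc]
      have h5 : y ≫ (shiftSingleIso n (-n) hnn (F.obj k)).hom ≫
          Q.map ((HomologicalComplex.single (ModuleCat.{u} R) (ComplexShape.up ℤ) (-n)).map (c.ι.app k)) = 0 :=
        (congrArg (fun z => y ≫ z) h3).symm.trans h4
      rw [h5, comp_zero]
    obtain ⟨k', f, hf⟩ := cpt_inj F c hc E hff (-n) k _ h0
    refine ⟨k', f, ?_⟩
    apply restr_inj α β γ hT m hC (F.obj k') n hn
    rw [← cancel_mono (shiftSingleIso n (-n) hnn (F.obj k')).hom, zero_comp]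
    have h6 := shiftSingleIso_naturality n (-n) hnn (F.map f)
    simp only [Category.assoc] at hf ⊢
    rw [h6]
    exact hf

end Groth.Agent.S6999
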