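import Groth.Statements.S7003
import Mathlib
import Groth.Agent.Lib.Helper1SplitTrunc
import Groth.Agent.Lib.Helper1ProjRes
-- import your own Groth.Agent.* helpers here

set_option autoImplicit false
universe u
open CategoryTheory CategoryTheory.Limits
attribute [local instance] HasDerivedCategory.standard
open DRing

namespace Groth.Agent.S7003

open HomologicalComplex DerivedCategory Groth.Agent.S14388
open Groth.Agent.Lib.Helper1.SplitTrunc Groth.Agent.Lib.Helper1.ProjRes
open Groth.Agent.Lib.Helper21.DTrunc

section gen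
universe w v' u'
variable {A : Type u'} [Category.{v'} A] [Abelian A] [HasDerivedCategory.{w} A]

/-- the chain map `P ⟶ P^{a+1}[-a]` given by the differential is null-homotopic -/
lemma Q_map_d_eq_zero (P : CochainComplex A ℤ) (a : ℤ) :
    Q.map (mkHomToSingle (P.d a (a + 1)) (fun i _ => P.d_comp_d i a (a + 1)) :
      P ⟶ (single A (ComplexShape.up ℤ) a).obj (P.X (a + 1))) = 0 := by
  have ho : Homotopy (mkHomToSingle (P.d a (a + 1)) (fun i _ => P.d_comp_d i a (a + 1)) :
      P ⟶ (single A (ComplexShape.up ℤ) a).obj (P.X (a + 1))) 0 := by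
    refine (CochainComplex.HomComplex.Cochain.equivHomotopy _ _).symm
      ⟨CochainComplex.HomComplex.Cochain.single
        ((singleObjXSelf (ComplexShape.up ℤ) a (P.X (a + 1))).inv) (-1), ?_⟩
    rw [CochainComplex.HomComplex.Cochain.δ_single _ (-1) 0 (by simp) a (a + 1) (by simp) (by simp),
      HomologicalComplex.single_obj_d, comp_zero, CochainComplex.HomComplex.Cochain.single_zero, zero_add,
      Int.negOnePow_zero, one_smul, CochainComplex.HomComplex.Cochain.ofHom_zero, add_zero]
    refine CochainComplex.HomComplex.Cochain.ext₀ _ _ (fun p => ?_)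
    by_cases hp : p = a
    · subst hp
      rw [CochainComplex.HomComplex.Cochain.single_v, CochainComplex.HomComplex.Cochain.ofHom_v, mkHomToSingle_f]
    · rw [CochainComplex.HomComplex.Cochain.single_v_eq_zero _ _ _ _ _ hp]
      exact (isZero_single_obj_X (ComplexShape.up ℤ) a (P.X (a + 1)) p hp).eq_of_tgt _ _
  rw [DerivedCategory.Q_map_eq_of_homotopy _ ho, Functor.map_zero]

omit [HasDerivedCategory.{w} A] in
lemma toImage_comp (P : CochainComplex A ℤ) (a : ℤ) :
    toImage P a ≫ (single A (ComplexShape.up ℤ) a).map (Abelian.image.ι (P.d a (a + 1))) =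
      mkHomToSingle (P.d a (a + 1)) (fun i _ => P.d_comp_d i a (a + 1)) := by
  apply HomologicalComplex.to_single_hom_ext
  rw [HomologicalComplex.comp_f, toImage_f, mkHomToSingle_f, single_map_f_self, Category.assoc,
    Iso.inv_hom_id_assoc, ← Category.assoc, Abelian.image.fac]

end gen

/-- Let R be a commutative ring, a an integer and K an object of D(R) whose cohomology vanishes in large
degrees. Assume that for every injective R-linear map M → M' the induced map Hom(K, M[-a]) → Hom(K,
M'[-a]) in D(R) is injective. Then K ≅ τ_(≤ a) K ⊕ τ_(≥ a+1) K by an isomorphism carrying τ_(≤ a) K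
→ K to the first inclusion and K → τ_(≥ a+1) K to the second projection, and τ_(≥ a+1) K is
isomorphic in D(R) to a complex of projective modules vanishing outside [a+1, b] for some integer b.
(The published statement also asserts that the decomposition is unique; that part is not restated.) -/
theorem result (R : Type u) [CommRing R] (a : ℤ) (K : Dual.D R)
    (hKb : ∃ b : ℤ, ∀ i : ℤ, b < i → Subsingleton (Dual.HD R K i))
    (h : ∀ (M M' : Type u) [AddCommGroup M] [Module R M] [AddCommGroup M'] [Module R M'] (g : M →ₗ[R] M'),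
      Function.Injective g → Function.Injective (fun x : K ⟶ (shiftFunctor (Dual.D R) (-a)).obj (Dual.inD R M) =>
        x ≫ (shiftFunctor (Dual.D R) (-a)).map
          ((DerivedCategory.singleFunctor (ModuleCat.{u} R) 0).map (ModuleCat.ofHom g))))
    [HasBinaryBiproduct (((DerivedCategory.TStructure.t : Triangulated.TStructure (Dual.D R)).truncLT (a + 1)).obj K) (((DerivedCategory.TStructure.t : Triangulated.TStructure (Dual.D R)).truncGE (a + 1)).obj K)] :
    (∃ e : K ≅ ((DerivedCategory.TStructure.t : Triangulated.TStructure (Dual.D R)).truncLT (a + 1)).obj K ⊞ ((DerivedCategory.TStructure.t : Triangulated.TStructure (Dual.D R)).truncGE (a + 1)).obj K,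
      ((DerivedCategory.TStructure.t : Triangulated.TStructure (Dual.D R)).truncLTι (a + 1)).app K ≫ e.hom = biprod.inl ∧
        e.hom ≫ biprod.snd = ((DerivedCategory.TStructure.t : Triangulated.TStructure (Dual.D R)).truncGEπ (a + 1)).app K) ∧
      ∃ (P : DRing.Cx R) (b : ℤ), DRing.VanishesOutside P (a + 1) b ∧ (∀ i : ℤ, Module.Projective R (P.X i)) ∧
        Nonempty (DRing.toD P ≅ ((DerivedCategory.TStructure.t : Triangulated.TStructure (Dual.D R)).truncGE (a + 1)).obj K) := by
  obtain ⟨b, hb⟩ := hKb
  have hKle : K.IsLE b := (DerivedCategory.isLE_iff K b).2 (fun i hi => by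
    have := hb i hi
    exact ModuleCat.isZero_of_subsingleton _)
  obtain ⟨P, hPb, hPproj, ⟨e⟩⟩ := exists_iso_Q_proj K b
  -- the key vanishing
  have hkey : Q.map (toImage P a) = 0 := by
    obtain ⟨B, hB⟩ : ∃ B : ModuleCat.{u} R, B = Abelian.image (P.d a (a + 1)) := ⟨_, rfl⟩
    obtain ⟨j, hj⟩ : ∃ j : Abelian.image (P.d a (a + 1)) ⟶ P.X (a + 1),
        j = Abelian.image.ι (P.d a (a + 1)) := ⟨_, rfl⟩
    have hjinj : Function.Injective j.hom := by
      rw [← ModuleCat.mono_iff_injective, hj]
      infer_instance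
    obtain ⟨β, hβ⟩ : ∃ β : (DerivedCategory.singleFunctor (ModuleCat.{u} R) 0 ⋙
        shiftFunctor (DerivedCategory (ModuleCat.{u} R)) (-a)) ≅
        DerivedCategory.singleFunctor (ModuleCat.{u} R) a,
        β = (DerivedCategory.singleFunctors (ModuleCat.{u} R)).shiftIso (-a) a 0 (by lia) :=
      ⟨_, rfl⟩
    obtain ⟨φ, hφ⟩ : ∃ φ : Q.obj P ⟶ (DerivedCategory.singleFunctor (ModuleCat.{u} R) a).obj
        (Abelian.image (P.d a (a + 1))), φ = Q.map (toImage P a) := ⟨_, rfl⟩
    have hcomp0 : Q.map (toImage P a) ≫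
        Q.map ((single (ModuleCat.{u} R) (ComplexShape.up ℤ) a).map j) = 0 := by
      rw [← Q.map_comp, hj, toImage_comp, Q_map_d_eq_zero]
    have hcomp : φ ≫ (DerivedCategory.singleFunctor (ModuleCat.{u} R) a).map j = 0 := by
      rw [hφ]
      exact hcomp0
    have hx := h _ _ j.hom hjinj
      (a₁ := e.inv ≫ φ ≫ β.inv.app _) (a₂ := 0) (by
        dsimp only
        rw [zero_comp, Category.assoc, Category.assoc]
        have hnat := β.inv.naturality j
        dsimp only [Functor.comp_map] at hnat
        rw [ModuleCat.ofHom_hom]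
        erw [← hnat]
        rw [← Category.assoc φ, hcomp, zero_comp, comp_zero])
    have h0 : φ = 0 := by
      have h1 : e.hom ≫ (e.inv ≫ φ ≫ β.inv.app _) ≫ β.hom.app _ = 0 := by
        rw [hx, zero_comp, comp_zero]
      simpa using h1
    exact hφ.symm.trans h0
  have : ∀ i : ℤ, Projective ((P.truncGE (a + 1)).X i) := fun i =>
    projective_truncGE_X P b a hkey i
  obtain ⟨ψ, -⟩ := exists_iso_truncGE P (a + 1)
  have e₂ : Q.obj (P.truncGE (a + 1)) ≅ (tt.truncGE (a + 1)).obj K :=
    ψ.symm ≪≫ (tt.truncGE (a + 1)).mapIso e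
  refine ⟨exists_splitting K (a + 1) (P.truncGE (a + 1)) (max b (a + 1))
    (fun i hi => isZero_truncGE_X P b a i hi) e₂, P.truncGE (a + 1), max b (a + 1),
    fun i hi => isZero_truncGE_X P b a i hi, fun i => ?_, ⟨e₂⟩⟩
  exact ModuleCat.projective_of_module_projective _

end Groth.Agent.S7003
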