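import Groth.Statements.S7008
import Mathlib
import Groth.Agent.Lib.Helper1LocBC
import Groth.Agent.S6985
-- import your own Groth.Agent.* helpers here

set_option autoImplicit false
universe u
open CategoryTheory CategoryTheory.Limits
attribute [local instance] HasDerivedCategory.standard
open DerCA

namespace Groth.Agent.S7008

open Groth.Agent.Lib.Helper1.RelPC Groth.Agent.Lib.Helper1.Restrict Groth.Agent.Lib.Helper1.PC
open Groth.Agent.Lib.Helper1.LocBC Groth.Agent.Lib.Helper1.Extend Groth.Agent.Lib.Helper1.Tor
open DerivedCategory Groth.Agent.Lib.Helper1.PCTower

/-- relative pseudo-coherence passes to principal localizations -/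
lemma rel_away_of_rel {R A : Type u} [CommRing R] [CommRing A] [Algebra R A]
    [Algebra.FiniteType R A] (K : DRing.Cx A) (m : ℤ) (a : A)
    (h : DerCA.IsRelPseudoCoherent R A m (DRing.toD K)) :
    DerCA.IsRelPseudoCoherent R (Localization.Away a) m
      (DRing.toD ((extCx A (Localization.Away a)).obj K)) := by
  obtain ⟨n, α, hα⟩ := exists_presentation R A
  let _ : Algebra (MvPolynomial (Fin n) R) A := α.toRingHom.toAlgebra
  obtain ⟨gl, hgl⟩ := hα a
  rw [rel_iff_via α hα] at h
  exact (rel_away_iff α hα gl a hgl K m).2 (isPC_extD _ m h)

/-- `R_f` is pseudo-coherent relative to `R` -/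
lemma relAll_away_self {R : Type u} [CommRing R] (f : R) :
    DerCA.IsRelPseudoCoherentModuleAll R (Localization.Away f) (Localization.Away f) := by
  intro j
  let φ : MvPolynomial (Fin 1) R →ₐ[R] Localization.Away f :=
    { awayPres f with commutes' := fun r => awayPres_C f r }
  refine ⟨1, φ, awayPres_surjective f, ?_⟩
  unfold DerCA.IsRelPseudoCoherentVia
  exact isPC_of_iso (restrictDSingleIso _ _ 0).symm (bpc_awayPres f j)

/-- Let R be a commutative ring, f an element of R, A a finite type R_f-algebra, g an element of A, K a
cochain complex of A-modules and m an integer; write K_g for the termwise localization K ⊗_A A_g, a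
complex over the finite type R-algebra A_g. Suppose K is m-pseudo-coherent relative to R_f; then K_g
is m-pseudo-coherent relative to R. Suppose K is pseudo-coherent relative to R_f in every degree;
then so is K_g relative to R. -/
theorem result {R A : Type u} [CommRing R] [CommRing A] (f : R) [Algebra R A]
    [Algebra (Localization.Away f) A] [IsScalarTower R (Localization.Away f) A]
    [Algebra.FiniteType (Localization.Away f) A] (g : A) (K : DRing.Cx A) (m : ℤ) :
    (DerCA.IsRelPseudoCoherent (Localization.Away f) A m (DRing.toD K) →
      DerCA.IsRelPseudoCoherent R (Localization.Away g) m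
        (DRing.toD (((ModuleCat.extendScalars (algebraMap A (Localization.Away g))).mapHomologicalComplex
          (ComplexShape.up ℤ)).obj K))) ∧
      (DerCA.IsRelPseudoCoherentAll (Localization.Away f) A (DRing.toD K) →
        DerCA.IsRelPseudoCoherentAll R (Localization.Away g)
          (DRing.toD (((ModuleCat.extendScalars (algebraMap A (Localization.Away g))).mapHomologicalComplex
            (ComplexShape.up ℤ)).obj K))) := by
  have hRf : Algebra.FiniteType R (Localization.Away f) := inferInstance
  have hfA : Algebra.FiniteType (Localization.Away f) A := inferInstance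
  have : Algebra.FiniteType R A := Algebra.FiniteType.trans hRf hfA
  have : IsScalarTower R (Localization.Away f) (Localization.Away g) := inferInstance
  have key : ∀ j : ℤ, DerCA.IsRelPseudoCoherent (Localization.Away f) A j (DRing.toD K) →
      DerCA.IsRelPseudoCoherent R (Localization.Away g) j
        (DRing.toD ((extCx A (Localization.Away g)).obj K)) := by
    intro j h
    have h1 := rel_away_of_rel K j g h
    exact ((Groth.Agent.S6985.result (R := R) (A := Localization.Away f)
      (B := Localization.Away g) (relAll_away_self f) _ j).1).1 h1
  exact ⟨key m, fun h j => key j (h j)⟩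

end Groth.Agent.S7008
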