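import Groth.Statements.S7014
import Mathlib
import Groth.Agent.Lib.Helper1NatCompact
import Groth.Agent.Lib.Helper21DCoprod
import Groth.Agent.S0985
-- import your own Groth.Agent.* helpers here

set_option autoImplicit false
universe u
open CategoryTheory CategoryTheory.Limits
attribute [local instance] HasDerivedCategory.standard
open DRing

namespace Groth.Agent.S7014

open DerivedCategory Pretriangulated Groth.Agent.Lib.Helper1.NatCompact

lemma trans_eq {R : Type u} [CommRing R] (L : ℕ ⥤ DRing.Cx R) (n d : ℕ) :
    transIter (K := fun n => Q.obj (L.obj n)) (fun n => Q.map (L.map (homOfLE (Nat.le_succ n)))) n d =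
      Q.map (L.map (homOfLE (Nat.le_add_right n d))) := by
  induction d with
  | zero =>
    rw [transIter]
    have : homOfLE (Nat.le_add_right n 0) = 𝟙 n := rfl
    rw [this, L.map_id, Q.map_id]
  | succ d ih =>
    rw [transIter, ih, ← Q.map_comp, ← L.map_comp]
    rfl

/-- Let R be a commutative ring and K an object of D(R) such that for every sequence (E_n) of objects of
D(R) the canonical map from the direct sum of the Hom(K, E_n) to Hom(K, ⊕_n E_n) is bijective. Let
L_0 → L_1 → L_2 → ... be a sequence of cochain complexes of R-modules with colimit L (computed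
termwise). Then every morphism K → L in D(R) factors through L_n → L for some n, and a morphism K →
L_n in D(R) whose composite with L_n → L vanishes already has vanishing composite with L_n → L_m for
some m ≥ n. -/
theorem result (R : Type u) [CommRing R] (K : Dual.D R)
    (hK : ∀ (E : ℕ → Dual.D R) [HasCoproduct fun i : ULift.{u + 1} ℕ => E i.down],
      Function.Bijective (CohDer.homSumToHomCoprod K (fun i : ULift.{u + 1} ℕ => E i.down)))
    (L : ℕ ⥤ DRing.Cx R) (c : Cocone L) (hc : IsColimit c) :
    (∀ x : K ⟶ DRing.toD c.pt, ∃ (n : ℕ) (y : K ⟶ DRing.toD (L.obj n)),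
        y ≫ DerivedCategory.Q.map (c.ι.app n) = x) ∧
      (∀ (n : ℕ) (y : K ⟶ DRing.toD (L.obj n)), y ≫ DerivedCategory.Q.map (c.ι.app n) = 0 →
        ∃ (m : ℕ) (h : n ≤ m), y ≫ DerivedCategory.Q.map (L.map (homOfLE h)) = 0) := by
  have hKc : IsNatCompact K := natCompact_of_surjective K (fun E _ => (hK E).2)
  haveI : HasFilteredColimitsOfSize.{0, 0} (ModuleCat.{u} R) :=
    hasFilteredColimitsOfSize_of_univLE.{0, 0, u, u}
  haveI : AB5OfSize.{0, 0} (ModuleCat.{u} R) := AB5OfSize_of_univLE.{0, 0, u, u} (ModuleCat.{u} R)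
  haveI : HasExactColimitsOfShape ℕ (ModuleCat.{u} R) := inferInstance
  haveI : HasExactColimitsOfShape (Discrete ℕ) (ModuleCat.{u} R) := inferInstance
  -- `Q` preserves the coproduct of the `L n`
  haveI : PreservesColimit (Discrete.functor L.obj) (DerivedCategory.Q (C := ModuleCat.{u} R)) := by
    apply preservesColimit_of_preserves_colimit_cocone (coproductIsCoproduct L.obj)
    exact (isColimitMapCoconeCofanMkEquiv _ _ _).symm
      (Groth.Agent.Lib.Helper21.DCoprod.isColimitQMapCofan (fun n => Sigma.ι L.obj n)
        (coproductIsCoproduct L.obj))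
  haveI : HasCoproduct (fun n => DerivedCategory.Q.obj (L.obj n)) :=
    Groth.Agent.Lib.Helper1.hasCoproduct_of_preserves Q L.obj
  obtain ⟨c', hT⟩ := Groth.Agent.S0985.result L
  let e : c.pt ≅ colimit L := IsColimit.coconePointUniqueUpToIso hc (colimit.isColimit L)
  have he : ∀ n, c.ι.app n ≫ e.hom = colimit.ι L n := fun n =>
    IsColimit.comp_coconePointUniqueUpToIso_hom hc (colimit.isColimit L) n
  have he' : ∀ n, colimit.ι L n ≫ e.inv = c.ι.app n := fun n => by
    rw [← he n, Category.assoc, e.hom_inv_id]
    exact Category.comp_id _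
  constructor
  · intro x
    obtain ⟨n, tn, htn⟩ := exists_lift_of_isNatCompact hT hKc (x ≫ Q.map e.hom)
    refine ⟨n, tn, ?_⟩
    have h1 : tn ≫ Q.map (colimit.ι L n) = x ≫ Q.map e.hom := by
      rw [htn]
      simp
    rw [← he' n, Q.map_comp, ← Category.assoc, h1, Category.assoc, ← Q.map_comp, e.hom_inv_id,
      Q.map_id, Category.comp_id]
  · intro n y hy
    have hy' : y ≫ Sigma.ι (fun n => Q.obj (L.obj n)) n ≫
        Sigma.desc (fun n => Q.map (colimit.ι L n)) = 0 := by
      rw [Sigma.ι_desc, ← he n, Q.map_comp, ← Category.assoc, hy, zero_comp]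
    obtain ⟨d, hd⟩ := exists_vanish_of_isNatCompact hT hKc n y hy'
    refine ⟨n + d, Nat.le_add_right n d, ?_⟩
    rw [← trans_eq]
    exact hd

end Groth.Agent.S7014
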