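import Groth.Statements.S7015
import Mathlib
-- import your own Groth.Agent.* helpers here

set_option autoImplicit false
universe u
open CategoryTheory MonoidalCategory
open DRing

namespace Groth.Agent.S7015

section aux

open TensorProduct

variable {R : Type u} [CommRing R] {M N : Type u} [AddCommGroup M] [Module R M]
  [AddCommGroup N] [Module R N]

/-- endomorphisms factoring through a finite free module -/
def FactorsFF (φ : M →ₗ[R] M) : Prop :=
  ∃ (F : Type u) (_ : AddCommGroup F) (_ : Module R F) (_ : Module.Finite R F) (_ : Module.Free R F)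
    (f : M →ₗ[R] F) (g : F →ₗ[R] M), g ∘ₗ f = φ

theorem FactorsFF.zero : FactorsFF (0 : M →ₗ[R] M) :=
  ⟨PUnit, inferInstance, inferInstance, inferInstance, inferInstance, 0, 0, by simp⟩

theorem FactorsFF.add {φ ψ : M →ₗ[R] M} (hφ : FactorsFF φ) (hψ : FactorsFF ψ) :
    FactorsFF (φ + ψ) := by
  obtain ⟨F₁, _, _, _, _, f₁, g₁, h₁⟩ := hφ
  obtain ⟨F₂, _, _, _, _, f₂, g₂, h₂⟩ := hψ
  refine ⟨F₁ × F₂, inferInstance, inferInstance, inferInstance, inferInstance,
    f₁.prod f₂, g₁.coprod g₂, ?_⟩
  rw [← h₁, ← h₂]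
  ext m
  simp

theorem finite_projective_of_factorsFF_id (h : FactorsFF (LinearMap.id : M →ₗ[R] M)) :
    Module.Finite R M ∧ Module.Projective R M := by
  obtain ⟨F, _, _, _, _, f, g, hfg⟩ := h
  have hsurj : Function.Surjective g := fun m => ⟨f m, LinearMap.congr_fun hfg m⟩
  exact ⟨Module.Finite.of_surjective g hsurj, Module.Projective.of_split f g hfg⟩

/-- the endomorphism of `M` attached to `T ∈ M ⊗ N` and `ε : N ⊗ M → R` -/
noncomputable def phiL (ε : N ⊗[R] M →ₗ[R] R) (T : M ⊗[R] N) : M →ₗ[R] M :=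
  (TensorProduct.rid R M).toLinearMap ∘ₗ (ε.lTensor M) ∘ₗ
    (TensorProduct.assoc R M N M).toLinearMap ∘ₗ (TensorProduct.mk R (M ⊗[R] N) M T)

theorem phiL_factorsFF (ε : N ⊗[R] M →ₗ[R] R) (T : M ⊗[R] N) : FactorsFF (phiL ε T) := by
  induction T using TensorProduct.induction_on with
  | zero =>
    have : phiL ε (0 : M ⊗[R] N) = 0 := by
      ext m
      simp [phiL]
    rw [this]
    exact FactorsFF.zero
  | tmul m' n' =>
    refine ⟨R, inferInstance, inferInstance, inferInstance, inferInstance,
      ε ∘ₗ (TensorProduct.mk R N M n'), LinearMap.toSpanSingleton R M m', ?_⟩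
    ext m
    simp [phiL]
  | add T₁ T₂ h₁ h₂ =>
    have : phiL ε (T₁ + T₂) = phiL ε T₁ + phiL ε T₂ := by
      ext m
      simp [phiL]
    rw [this]
    exact h₁.add h₂

/-- the endomorphism of `N` attached to `T ∈ M ⊗ N` and `ε : N ⊗ M → R` -/
noncomputable def phiR (ε : N ⊗[R] M →ₗ[R] R) (T : M ⊗[R] N) : N →ₗ[R] N :=
  (TensorProduct.lid R N).toLinearMap ∘ₗ (ε.rTensor N) ∘ₗ
    (TensorProduct.assoc R N M N).symm.toLinearMap ∘ₗ ((TensorProduct.mk R N (M ⊗[R] N)).flip T)

theorem phiR_factorsFF (ε : N ⊗[R] M →ₗ[R] R) (T : M ⊗[R] N) : FactorsFF (phiR ε T) := by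
  induction T using TensorProduct.induction_on with
  | zero =>
    have : phiR ε (0 : M ⊗[R] N) = 0 := by
      ext n
      simp [phiR]
    rw [this]
    exact FactorsFF.zero
  | tmul m' n' =>
    refine ⟨R, inferInstance, inferInstance, inferInstance, inferInstance,
      ε ∘ₗ ((TensorProduct.mk R N M).flip m'), LinearMap.toSpanSingleton R N n', ?_⟩
    ext n
    simp [phiR]
  | add T₁ T₂ h₁ h₂ =>
    have : phiR ε (T₁ + T₂) = phiR ε T₁ + phiR ε T₂ := by
      ext n
      simp [phiR]
    rw [this]
    exact h₁.add h₂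

end aux

/-- Let R be a commutative ring and M, N R-modules such that N is a left dual of M for the tensor
product of R-modules, i.e. there are a coevaluation R → M ⊗ N and an evaluation N ⊗ M → R satisfying
the triangle identities (an exact pairing). Then M and N are finitely generated projective
R-modules. -/
theorem result (R : Type u) [CommRing R] (M N : Type u) [AddCommGroup M]
    [Module R M] [AddCommGroup N] [Module R N] [ExactPairing (ModuleCat.of R M) (ModuleCat.of R N)] :
    Module.Finite R M ∧ Module.Projective R M ∧ Module.Finite R N ∧ Module.Projective R N := by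
  let X : ModuleCat.{u} R := ModuleCat.of R M
  let Y : ModuleCat.{u} R := ModuleCat.of R N
  let T : TensorProduct R M N := (η_ X Y).hom (1 : R)
  let ε : TensorProduct R N M →ₗ[R] R := (ε_ X Y).hom
  have hL : phiL ε T = LinearMap.id := by
    ext m
    have h := ExactPairing.evaluation_coevaluation X Y
    have h' : (ε.lTensor M) ((TensorProduct.assoc R M N M) (T ⊗ₜ[R] m)) =
        (TensorProduct.rid R M).symm ((1 : R) • m) :=
      congrArg (fun φ => (ModuleCat.Hom.hom φ) ((1 : R) ⊗ₜ[R] m)) h
    change (TensorProduct.rid R M) ((ε.lTensor M) ((TensorProduct.assoc R M N M) (T ⊗ₜ[R] m))) = m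
    rw [h', LinearEquiv.apply_symm_apply, one_smul]
  have hR : phiR ε T = LinearMap.id := by
    ext n
    have h := ExactPairing.coevaluation_evaluation X Y
    have h' : (ε.rTensor N) ((TensorProduct.assoc R N M N).symm (n ⊗ₜ[R] T)) =
        (TensorProduct.lid R N).symm ((1 : R) • n) :=
      congrArg (fun φ => (ModuleCat.Hom.hom φ) (n ⊗ₜ[R] (1 : R))) h
    change (TensorProduct.lid R N) ((ε.rTensor N) ((TensorProduct.assoc R N M N).symm (n ⊗ₜ[R] T))) = n
    rw [h', LinearEquiv.apply_symm_apply, one_smul]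
  have h1 := finite_projective_of_factorsFF_id (hL ▸ phiL_factorsFF ε T)
  have h2 := finite_projective_of_factorsFF_id (hR ▸ phiR_factorsFF ε T)
  exact ⟨h1.1, h1.2, h2.1, h2.2⟩

end Groth.Agent.S7015
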