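import Groth.Statements.S7018
import Mathlib
import Groth.Agent.Lib.Helper1TorF
-- import your own Groth.Agent.* helpers here

set_option autoImplicit false
universe u
open CategoryTheory CategoryTheory.Limits
attribute [local instance] HasDerivedCategory.standard
open DRing

namespace Groth.Agent.S7018

open Groth.Agent.Lib.Helper1.Tor

/-- Let R be a commutative ring such that the derived tensor product - ⊗^L_R M exists on D(R) for every
R-module M, let a, b be integers and K, L objects of D(R). Tor amplitude in [a, b] of the direct sum
K ⊕ L implies tor amplitude in [a, b] of each summand K and L. -/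
theorem result (R : Type u) [CommRing R] [∀ M : ModuleCat.{u} R, DRing.HasLTensor R M]
    (a b : ℤ) (K L : Dual.D R) [HasBinaryBiproduct K L] (h : DRing.HasTorAmplitudeIn R a b (K ⊞ L)) :
    DRing.HasTorAmplitudeIn R a b K ∧ DRing.HasTorAmplitudeIn R a b L := by
  exact ⟨hasTorAmp_of_retract (K ⊞ L) K biprod.inl biprod.fst biprod.inl_fst a b h,
    hasTorAmp_of_retract (K ⊞ L) L biprod.inr biprod.snd biprod.inr_snd a b h⟩

end Groth.Agent.S7018
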