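import Groth.Statements.S7020
import Mathlib
import Groth.Agent.Lib.Helper1RelPC
-- import your own Groth.Agent.* helpers here

set_option autoImplicit false
universe u
open CategoryTheory CategoryTheory.Limits
attribute [local instance] HasDerivedCategory.standard
open DerCA

namespace Groth.Agent.S7020

open Groth.Agent.Lib.Helper1.RelPC Groth.Agent.Lib.Helper1.Restrict Groth.Agent.Lib.Helper1.PC

open CategoryTheory.Pretriangulated in
/-- Let R → A be a finite type homomorphism of commutative rings, m an integer and K → L → M → K[1] a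
distinguished triangle in D(A); all pseudo-coherence below is relative to R. (1) M is
m-pseudo-coherent when K is (m+1)-pseudo-coherent and L is m-pseudo-coherent. (2) L is
m-pseudo-coherent when K and M are. (3) K is (m+1)-pseudo-coherent when L is (m+1)-pseudo-coherent
and M is m-pseudo-coherent. (4) Pseudo-coherence in every degree of any two of K, L, M implies that
of the third. -/
theorem result {R A : Type u} [CommRing R] [CommRing A] [Algebra R A] [Algebra.FiniteType R A] (m : ℤ) (T : Triangle (Dual.D A))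
    (hT : T ∈ distinguishedTriangles) :
    (DerCA.IsRelPseudoCoherent R A (m + 1) T.obj₁ → DerCA.IsRelPseudoCoherent R A m T.obj₂ →
        DerCA.IsRelPseudoCoherent R A m T.obj₃) ∧
      (DerCA.IsRelPseudoCoherent R A m T.obj₁ → DerCA.IsRelPseudoCoherent R A m T.obj₃ →
        DerCA.IsRelPseudoCoherent R A m T.obj₂) ∧
      (DerCA.IsRelPseudoCoherent R A (m + 1) T.obj₂ → DerCA.IsRelPseudoCoherent R A m T.obj₃ →
        DerCA.IsRelPseudoCoherent R A (m + 1) T.obj₁) ∧
      ((DerCA.IsRelPseudoCoherentAll R A T.obj₁ → DerCA.IsRelPseudoCoherentAll R A T.obj₂ →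
          DerCA.IsRelPseudoCoherentAll R A T.obj₃) ∧
        (DerCA.IsRelPseudoCoherentAll R A T.obj₁ → DerCA.IsRelPseudoCoherentAll R A T.obj₃ →
          DerCA.IsRelPseudoCoherentAll R A T.obj₂) ∧
        (DerCA.IsRelPseudoCoherentAll R A T.obj₂ → DerCA.IsRelPseudoCoherentAll R A T.obj₃ →
          DerCA.IsRelPseudoCoherentAll R A T.obj₁)) := by
  obtain ⟨n, α, hα⟩ := exists_presentation R A
  have hT' := (DRing.restrictD (α : MvPolynomial (Fin n) R →+* A)).map_distinguished _ hT
  have e := fun (K : Dual.D A) (j : ℤ) => rel_iff_via α hα K j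
  have k3 : ∀ j : ℤ, DerCA.IsRelPseudoCoherent R A (j + 1) T.obj₁ →
      DerCA.IsRelPseudoCoherent R A j T.obj₂ → DerCA.IsRelPseudoCoherent R A j T.obj₃ := by
    intro j h1 h2
    rw [e] at h1 h2 ⊢
    exact isPC_obj₃ _ hT' j h1 h2
  have k2 : ∀ j : ℤ, DerCA.IsRelPseudoCoherent R A j T.obj₁ →
      DerCA.IsRelPseudoCoherent R A j T.obj₃ → DerCA.IsRelPseudoCoherent R A j T.obj₂ := by
    intro j h1 h3
    rw [e] at h1 h3 ⊢
    exact isPC_obj₂ _ hT' j h1 h3
  have k1 : ∀ j : ℤ, DerCA.IsRelPseudoCoherent R A (j + 1) T.obj₂ →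
      DerCA.IsRelPseudoCoherent R A j T.obj₃ → DerCA.IsRelPseudoCoherent R A (j + 1) T.obj₁ := by
    intro j h2 h3
    rw [e] at h2 h3 ⊢
    exact isPC_obj₁ _ hT' j h2 h3
  refine ⟨k3 m, k2 m, k1 m, fun h1 h2 j => k3 j (h1 _) (h2 _), fun h1 h3 j => k2 j (h1 _) (h3 _),
    fun h2 h3 j => ?_⟩
  have := k1 (j - 1) (by rw [sub_add_cancel]; exact h2 j) (h3 _)
  rwa [sub_add_cancel] at this

end Groth.Agent.S7020
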