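import Groth.Statements.S7024
import Mathlib
import Groth.Agent.Lib.Helper1RelPC
import Groth.Agent.S6939
-- import your own Groth.Agent.* helpers here

set_option autoImplicit false
universe u
open CategoryTheory CategoryTheory.Limits
attribute [local instance] HasDerivedCategory.standard
open DerCA

namespace Groth.Agent.S7024

open Groth.Agent.Lib.Helper1.RelPC Groth.Agent.Lib.Helper1.Restrict Groth.Agent.Lib.Helper1.PC
open DerivedCategory

/-- homology commutes with restriction of scalars (derived level, general object) -/
noncomputable def homologyRestrictDIso' {A B : Type u} [CommRing A] [CommRing B] (φ : A →+* B)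
    (X : Dual.D B) (n : ℤ) :
    (homologyFunctor (ModuleCat.{u} A) n).obj ((DRing.restrictD φ).obj X) ≅
      (ModuleCat.restrictScalars.{u} φ).obj ((homologyFunctor (ModuleCat.{u} B) n).obj X) :=
  (homologyFunctor (ModuleCat.{u} A) n).mapIso
      ((DRing.restrictD φ).mapIso (Q.objObjPreimageIso X).symm) ≪≫
    homologyRestrictDIso φ (Q.objPreimage X) n ≪≫
    (ModuleCat.restrictScalars.{u} φ).mapIso
      ((homologyFunctor (ModuleCat.{u} B) n).mapIso (Q.objObjPreimageIso X))

/-- Let R → A be a finite type homomorphism of commutative rings, m an integer and K an object of D(A)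
whose cohomology vanishes in large degrees. If the module H^i(K) is (m - i)-pseudo-coherent relative
to R for every i, then K is m-pseudo-coherent relative to R. Moreover, K is relatively
pseudo-coherent over R as soon as each cohomology module H^i(K) has this property over R. -/
theorem result {R A : Type u} [CommRing R] [CommRing A] [Algebra R A] [Algebra.FiniteType R A] (m : ℤ) (K : Dual.D A)
    (hb : ∃ b : ℤ, ∀ i : ℤ, b < i → Subsingleton (Dual.HD A K i)) :
    ((∀ i : ℤ, DerCA.IsRelPseudoCoherentModule R A (m - i) (Dual.HD A K i)) → DerCA.IsRelPseudoCoherent R A m K) ∧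
      ((∀ i : ℤ, DerCA.IsRelPseudoCoherentModuleAll R A (Dual.HD A K i)) → DerCA.IsRelPseudoCoherentAll R A K) := by
  obtain ⟨n, α, hα⟩ := exists_presentation R A
  have e := fun (K : Dual.D A) (j : ℤ) => rel_iff_via α hα K j
  let α' : MvPolynomial (Fin n) R →+* A := α
  have hb' : ∃ b : ℤ, ∀ i : ℤ, b < i →
      Subsingleton (Dual.HD (MvPolynomial (Fin n) R) ((DRing.restrictD α').obj K) i) := by
    obtain ⟨b, hb⟩ := hb
    refine ⟨b, fun i hi => ?_⟩
    have h0 : Subsingleton ((ModuleCat.restrictScalars.{u} α').obj
        ((homologyFunctor (ModuleCat.{u} A) i).obj K)) := hb i hi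
    exact (homologyRestrictDIso' α' K i).toLinearEquiv.toEquiv.subsingleton
  have key : ∀ j : ℤ, (∀ i : ℤ, DerCA.IsRelPseudoCoherentModule R A (j - i) (Dual.HD A K i)) →
      DerCA.IsRelPseudoCoherent R A j K := by
    intro j h
    rw [e]
    refine (Groth.Agent.S6939.result (MvPolynomial (Fin n) R) j ((DRing.restrictD α').obj K) hb').1
      (fun i => ?_)
    have h1 := (e _ _).1 (h i)
    have h2 := isPC_of_iso (restrictDSingleIso α'
      ((homologyFunctor (ModuleCat.{u} A) i).obj K) 0) h1
    exact isPC_of_iso ((DerivedCategory.singleFunctor (ModuleCat.{u} (MvPolynomial (Fin n) R)) 0).mapIso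
      (homologyRestrictDIso' α' K i).symm) h2
  exact ⟨key m, fun h j => key j (fun i => h i (j - i))⟩

end Groth.Agent.S7024
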