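import Groth.Statements.S7026
import Mathlib
import Groth.Agent.Lib.Helper1RelPC
import Groth.Agent.S6942
import Groth.Agent.S7024
-- import your own Groth.Agent.* helpers here

set_option autoImplicit false
universe u
open CategoryTheory CategoryTheory.Limits
attribute [local instance] HasDerivedCategory.standard
open DerCA

namespace Groth.Agent.S7026

open Groth.Agent.Lib.Helper1.RelPC Groth.Agent.Lib.Helper1.Restrict Groth.Agent.Lib.Helper1.PC
open Groth.Agent.Lib.Helper1.PCTower
open DerivedCategory Groth.Agent.S7024 ZeroObject

lemma finite_restrictScalars_of_surjective {A B : Type u} [CommRing A] [CommRing B] (φ : A →+* B)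
    (hφ : Function.Surjective φ) (M : ModuleCat.{u} B) [Module.Finite B M] :
    Module.Finite A ((ModuleCat.restrictScalars.{u} φ).obj M) := by
  let : Algebra A B := φ.toAlgebra
  let : Module A M := Module.compHom M φ
  have : IsScalarTower A B M := ⟨fun a b x => by
    show (φ a * b) • x = φ a • (b • x)
    rw [mul_smul]⟩
  have : Module.Finite A B := Module.Finite.of_surjective (Algebra.linearMap A B) hφ
  have h' : Module.Finite A M := Module.Finite.trans B M
  exact h'

lemma finite_restrictScalars_iff {A B : Type u} [CommRing A] [CommRing B] (φ : A →+* B)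
    (hφ : Function.Surjective φ) (M : ModuleCat.{u} B) :
    Module.Finite A ((ModuleCat.restrictScalars.{u} φ).obj M) ↔ Module.Finite B M :=
  ⟨fun h => finite_of_restrictScalars φ M h, fun _ => finite_restrictScalars_of_surjective φ hφ M⟩

lemma finite_homology_restrictD_iff {A B : Type u} [CommRing A] [CommRing B] (φ : A →+* B)
    (hφ : Function.Surjective φ) (X : Dual.D B) (i : ℤ) :
    Module.Finite A (Dual.HD A ((DRing.restrictD φ).obj X) i) ↔ Module.Finite B (Dual.HD B X i) := by
  rw [← finite_restrictScalars_iff φ hφ]
  exact ⟨fun h => Module.Finite.equiv (homologyRestrictDIso' φ X i).toLinearEquiv,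
    fun h => Module.Finite.equiv (homologyRestrictDIso' φ X i).symm.toLinearEquiv⟩

lemma subsingleton_homology_restrictD_iff {A B : Type u} [CommRing A] [CommRing B] (φ : A →+* B)
    (X : Dual.D B) (i : ℤ) :
    Subsingleton (Dual.HD A ((DRing.restrictD φ).obj X) i) ↔ Subsingleton (Dual.HD B X i) := by
  constructor
  · intro h
    have h0 : Subsingleton ((ModuleCat.restrictScalars.{u} φ).obj
        ((homologyFunctor (ModuleCat.{u} B) i).obj X)) :=
      (homologyRestrictDIso' φ X i).symm.toLinearEquiv.toEquiv.subsingleton
    exact h0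
  · intro h
    have h0 : Subsingleton ((ModuleCat.restrictScalars.{u} φ).obj
        ((homologyFunctor (ModuleCat.{u} B) i).obj X)) := h
    exact (homologyRestrictDIso' φ X i).toLinearEquiv.toEquiv.subsingleton

/-- Let R be a Noetherian commutative ring, R → A a finite type ring homomorphism, m an integer, K an
object of D(A) and M an A-module. Then: m-pseudo-coherence of K relative to R is equivalent to
H^i(K) vanishing for all large i together with H^i(K) being a finitely generated A-module for each i
≥ m; pseudo-coherence of K relative to R (every degree) is equivalent to the same with H^i(K)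
finitely generated for every i; and the A-module M is pseudo-coherent relative to R exactly when M
is finitely generated. -/
theorem result {R A : Type u} [CommRing R]
    [IsNoetherianRing R] [CommRing A] [Algebra R A] [Algebra.FiniteType R A] (m : ℤ) (K : Dual.D A)
    (M : Type u) [AddCommGroup M] [Module A M] :
    (DerCA.IsRelPseudoCoherent R A m K ↔
      (∃ b : ℤ, ∀ i : ℤ, b < i → Subsingleton (Dual.HD A K i)) ∧ ∀ i : ℤ, m ≤ i → Module.Finite A (Dual.HD A K i)) ∧
    (DerCA.IsRelPseudoCoherentAll R A K ↔
      (∃ b : ℤ, ∀ i : ℤ, b < i → Subsingleton (Dual.HD A K i)) ∧ ∀ i : ℤ, Module.Finite A (Dual.HD A K i)) ∧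
    (DerCA.IsRelPseudoCoherentModuleAll R A M ↔ Module.Finite A M) := by
  obtain ⟨n, α, hα⟩ := exists_presentation R A
  have e := fun (K : Dual.D A) (j : ℤ) => rel_iff_via α hα K j
  let α' : MvPolynomial (Fin n) R →+* A := α
  have hα' : Function.Surjective α' := hα
  have key : ∀ (j : ℤ) (K : Dual.D A), DerCA.IsRelPseudoCoherent R A j K ↔
      (∃ b : ℤ, ∀ i : ℤ, b < i → Subsingleton (Dual.HD A K i)) ∧
        ∀ i : ℤ, j ≤ i → Module.Finite A (Dual.HD A K i) := by
    intro j K
    rw [e]
    refine ((Groth.Agent.S6942.result (MvPolynomial (Fin n) R) j ((DRing.restrictD α').obj K)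
      PUnit).1).trans ?_
    simp only [subsingleton_homology_restrictD_iff, finite_homology_restrictD_iff α' hα']
  refine ⟨key m K, ?_, ?_⟩
  · constructor
    · intro h
      refine ⟨((key 0 K).1 (h 0)).1, fun i => ((key i K).1 (h i)).2 i le_rfl⟩
    · rintro ⟨h1, h2⟩ j
      exact (key j K).2 ⟨h1, fun i _ => h2 i⟩
  · constructor
    · intro h
      have h1 : ∀ j : ℤ, DRing.IsPseudoCoherent (MvPolynomial (Fin n) R) j
          ((DerivedCategory.singleFunctor (ModuleCat.{u} (MvPolynomial (Fin n) R)) 0).obj
            ((ModuleCat.restrictScalars.{u} α').obj (ModuleCat.of A M))) := fun j =>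
        isPC_of_iso (restrictDSingleIso α' (ModuleCat.of A M) 0) ((e _ _).1 (h j))
      have h2 := isPseudoCoherent'_of_forall _ h1
      have h3 := ((Groth.Agent.S6942.result (MvPolynomial (Fin n) R) 0 0
        ((ModuleCat.restrictScalars.{u} α').obj (ModuleCat.of A M))).2).1 h2
      exact (finite_restrictScalars_iff α' hα' (ModuleCat.of A M)).1 h3
    · intro h j
      have h3 : Module.Finite (MvPolynomial (Fin n) R)
          ((ModuleCat.restrictScalars.{u} α').obj (ModuleCat.of A M)) :=
        (finite_restrictScalars_iff α' hα' (ModuleCat.of A M)).2 h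
      have h2 := ((Groth.Agent.S6942.result (MvPolynomial (Fin n) R) 0 0
        ((ModuleCat.restrictScalars.{u} α').obj (ModuleCat.of A M))).2).2 h3
      have h1 := Groth.Agent.S6938.isPC_of_pc' _ h2 j
      exact (e _ _).2 (isPC_of_iso (restrictDSingleIso α' (ModuleCat.of A M) 0).symm h1)

end Groth.Agent.S7026
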