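import Groth.Statements.S7021
import Mathlib
import Groth.Agent.Lib.Helper1RelPC
import Groth.Agent.S6935
import Groth.Agent.S7026
-- import your own Groth.Agent.* helpers here

set_option autoImplicit false
universe u
open CategoryTheory CategoryTheory.Limits
attribute [local instance] HasDerivedCategory.standard
open DerCA

namespace Groth.Agent.S7021

open Groth.Agent.Lib.Helper1.RelPC Groth.Agent.Lib.Helper1.Restrict Groth.Agent.Lib.Helper1.PC
open Groth.Agent.Lib.Helper1.PCTower
open DerivedCategory Groth.Agent.S7026

/-- Let R → A be a finite type homomorphism of commutative rings, α : R[x_1, ..., x_n] → A a surjective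
R-algebra homomorphism and M an A-module. Then relative 0-pseudo-coherence of M over R amounts to M
being a finitely generated A-module, and relative (-1)-pseudo-coherence of M over R amounts to M
being finitely presented as an R[x_1, ..., x_n]-module through α. -/
theorem result {R A : Type u} [CommRing R] [CommRing A]
    [Algebra R A] [Algebra.FiniteType R A] {n : ℕ} (α : MvPolynomial (Fin n) R →ₐ[R] A)
    (hα : Function.Surjective α) (M : Type u) [AddCommGroup M] [Module A M] :
    (DerCA.IsRelPseudoCoherentModule R A 0 M ↔ Module.Finite A M) ∧
      (DerCA.IsRelPseudoCoherentModule R A (-1) M ↔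
        @Module.FinitePresentation (MvPolynomial (Fin n) R) M _ _ (Module.compHom M α.toRingHom)) := by
  have e := fun (K : Dual.D A) (j : ℤ) => rel_iff_via α hα K j
  let α' : MvPolynomial (Fin n) R →+* A := α
  have hα' : Function.Surjective α' := hα
  have key : ∀ j : ℤ, DerCA.IsRelPseudoCoherentModule R A j M ↔
      DRing.IsPseudoCoherentModule (MvPolynomial (Fin n) R) j
        ((ModuleCat.restrictScalars.{u} α').obj (ModuleCat.of A M)) := by
    intro j
    unfold DerCA.IsRelPseudoCoherentModule
    rw [e]
    exact ⟨fun h => isPC_of_iso (restrictDSingleIso α' (ModuleCat.of A M) 0) h,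
      fun h => isPC_of_iso (restrictDSingleIso α' (ModuleCat.of A M) 0).symm h⟩
  have h35 := Groth.Agent.S6935.result (MvPolynomial (Fin n) R)
    ((ModuleCat.restrictScalars.{u} α').obj (ModuleCat.of A M))
  refine ⟨(key 0).trans (h35.1.trans (finite_restrictScalars_iff α' hα' (ModuleCat.of A M))),
    (key (-1)).trans (h35.2.trans ?_)⟩
  exact Iff.rfl

end Groth.Agent.S7021
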