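import Groth.Statements.S7022
import Mathlib
import Groth.Agent.Lib.Helper1RelPC
import Groth.Agent.S6937
-- import your own Groth.Agent.* helpers here

set_option autoImplicit false
universe u
open CategoryTheory CategoryTheory.Limits
attribute [local instance] HasDerivedCategory.standard
open DerCA

namespace Groth.Agent.S7022

open Groth.Agent.Lib.Helper1.RelPC Groth.Agent.Lib.Helper1.Restrict Groth.Agent.Lib.Helper1.PC

/-- Let R → A be a finite type homomorphism of commutative rings, m an integer and K, L objects of the
derived category D(A). Whenever the direct sum K ⊕ L is pseudo-coherent relative to R in degree m,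
both summands K and L are too; likewise, relative pseudo-coherence of K ⊕ L (in every degree) passes
to K and to L. -/
theorem result {R A : Type u} [CommRing R] [CommRing A] [Algebra R A] [Algebra.FiniteType R A] (m : ℤ) (K L : Dual.D A) [HasBinaryBiproduct K L] :
    (DerCA.IsRelPseudoCoherent R A m (K ⊞ L) → DerCA.IsRelPseudoCoherent R A m K ∧ DerCA.IsRelPseudoCoherent R A m L) ∧
      (DerCA.IsRelPseudoCoherentAll R A (K ⊞ L) →
        DerCA.IsRelPseudoCoherentAll R A K ∧ DerCA.IsRelPseudoCoherentAll R A L) := by
  obtain ⟨n, α, hα⟩ := exists_presentation R A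
  have e := fun (K : Dual.D A) (j : ℤ) => rel_iff_via α hα K j
  have key : ∀ j : ℤ, DerCA.IsRelPseudoCoherent R A j (K ⊞ L) →
      DerCA.IsRelPseudoCoherent R A j K ∧ DerCA.IsRelPseudoCoherent R A j L := by
    intro j h
    rw [e] at h
    rw [e, e]
    have := preservesBinaryBiproducts_of_preservesBiproducts
      (DRing.restrictD (α : MvPolynomial (Fin n) R →+* A))
    have h' := isPC_of_iso ((DRing.restrictD (α : MvPolynomial (Fin n) R →+* A)).mapBiprod K L) h
    exact (Groth.Agent.S6937.result _ j _ _).1 h'
  exact ⟨key m, fun h => ⟨fun j => (key j (h j)).1, fun j => (key j (h j)).2⟩⟩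

end Groth.Agent.S7022
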