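import Groth.Statements.S7023
import Mathlib
import Groth.Agent.Lib.Helper1RelPC
-- import your own Groth.Agent.* helpers here

set_option autoImplicit false
universe u
open CategoryTheory CategoryTheory.Limits
attribute [local instance] HasDerivedCategory.standard
open DerCA

namespace Groth.Agent.S7023

open Groth.Agent.Lib.Helper1.RelPC Groth.Agent.Lib.Helper1.Restrict Groth.Agent.Lib.Helper1.PC
open DerivedCategory

/-- Let R → A be a finite type homomorphism of commutative rings, m an integer and K a bounded above
cochain complex of A-modules such that the module K^i is (m - i)-pseudo-coherent relative to R for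
every i. Then K is m-pseudo-coherent relative to R. Moreover, K is pseudo-coherent over R as soon as
each of its terms K^i is so. -/
theorem result {R A : Type u} [CommRing R] [CommRing A] [Algebra R A] [Algebra.FiniteType R A] (m : ℤ) (K : DRing.Cx A) (b : ℤ)
    (hb : DRing.VanishesAbove K b) :
    ((∀ i : ℤ, DerCA.IsRelPseudoCoherentModule R A (m - i) (K.X i)) → DerCA.IsRelPseudoCoherent R A m (DRing.toD K)) ∧
      ((∀ i : ℤ, DerCA.IsRelPseudoCoherentModuleAll R A (K.X i)) →
        DerCA.IsRelPseudoCoherentAll R A (DRing.toD K)) := by
  obtain ⟨n, α, hα⟩ := exists_presentation R A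
  have e := fun (K : Dual.D A) (j : ℤ) => rel_iff_via α hα K j
  have key : ∀ j : ℤ, (∀ i : ℤ, DerCA.IsRelPseudoCoherentModule R A (j - i) (K.X i)) →
      DerCA.IsRelPseudoCoherent R A j (DRing.toD K) := by
    intro j h
    rw [e]
    refine isPC_of_iso (restrictQIso (α : MvPolynomial (Fin n) R →+* A) K).symm ?_
    refine Groth.Agent.S6938.isPC_of_termwise j _ b (fun i hi => ?_) (fun i => ?_)
    · exact (ModuleCat.restrictScalars.{u} (α : MvPolynomial (Fin n) R →+* A)).map_isZero (hb i hi)
    · have h1 := (e _ _).1 (h i)
      exact isPC_of_iso (restrictDSingleIso (α : MvPolynomial (Fin n) R →+* A) (K.X i) 0) h1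
  exact ⟨key m, fun h j => key j (fun i => h i (j - i))⟩

end Groth.Agent.S7023
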