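import Groth.Statements.S7031
import Mathlib
import Groth.Agent.S6962
-- import your own Groth.Agent.* helpers here

set_option autoImplicit false
universe u
open CategoryTheory CategoryTheory.Limits
attribute [local instance] HasDerivedCategory.standard
open DRing

namespace Groth.Agent.S7031

open DerivedCategory Pretriangulated HomologicalComplex
open Groth.Agent.Lib.Helper1.Cone Groth.Agent.Lib.Helper1.Devissage Groth.Agent.S7030

/-- Let R be a regular commutative ring (Noetherian, with regular local rings at all primes) such that
the derived tensor product - ⊗^L_R M exists on D(R) for every R-module M, and let K be an object of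
D(R). Then K is perfect if and only if H^i(K) = 0 outside a bounded range of degrees and every
H^i(K) is a finitely generated R-module. -/
theorem result (R : Type u) [CommRing R] [IsNoetherianRing R]
    (hreg : ∀ p : PrimeSpectrum R, IsRegularLocalRing (Localization.AtPrime p.asIdeal)) [∀ M : ModuleCat.{u} R, DRing.HasLTensor R M] (K : Dual.D R) :
    DRing.IsPerfect R K ↔
      (∃ a b : ℤ, ∀ i : ℤ, (i < a ∨ b < i) → Subsingleton (Dual.HD R K i)) ∧ ∀ i : ℤ, Module.Finite R (Dual.HD R K i) := by
  constructor
  · intro h
    exact Groth.Agent.S6962.finite_homology_of_isPerfect K h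
  · rintro ⟨⟨a, b, hab⟩, hfin⟩
    apply induction_homology' (perf R) (fun K hK => isPerfect_of_isZero hK)
      (fun T hT h1 h3 => isPerfect_ext T hT h1 h3) K a b
    · intro i hi
      have := hab i hi
      exact ModuleCat.isZero_of_subsingleton _
    · intro j _ _
      have := hfin j
      exact isPerfect_single _ ((Groth.Agent.S6962.result R hreg (Dual.HD R K j)).2 this) j

end Groth.Agent.S7031
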