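import Groth.Statements.S7034
import Mathlib
import Groth.Agent.S6994
-- import your own Groth.Agent.* helpers here

set_option autoImplicit false
universe u
open CategoryTheory CategoryTheory.Limits
attribute [local instance] HasDerivedCategory.standard
open DRing

namespace Groth.Agent.S7034

open DerivedCategory Pretriangulated Groth.Agent.S14388
open Groth.Agent.Lib.Helper1.GlDim Groth.Agent.Lib.Helper1.Devissage Groth.Agent.S6994

variable {R : Type u} [CommRing R]

/-- global dimension `≤ d`: an object with cohomology in `[a, b]` has projective amplitude in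
`[a - d, b]` -/
lemma projAmp_of_gldim (d : ℕ)
    (hgl : ∀ (M : Type u) [AddCommGroup M] [Module R M], HasProjectiveDimensionLT (ModuleCat.of R M) (d + 1))
    (K : Dual.D R) (a b : ℤ)
    (hK : ∀ i : ℤ, (i < a ∨ b < i) → IsZero ((homologyFunctor (ModuleCat.{u} R) i).obj K)) :
    ∃ P : DRing.Cx R, DRing.VanishesOutside P (a - d) b ∧ (∀ i : ℤ, Module.Projective R (P.X i)) ∧
      Nonempty (DRing.toD P ≅ K) := by
  have t := (Groth.Agent.S6964.result R K (a - d) b).out 0 1
  rw [t]
  intro N _ _ i hi
  have hPK : noHom ((shiftFunctor (Dual.D R) i).obj (Dual.inD R N)) K := by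
    apply induction_homology' (noHom _) (fun X hX f => hX.eq_of_src _ _)
      (fun T hT h1 h3 => noHom_ext _ T hT h1 h3) K a b hK
    intro j hj1 hj2 φ
    obtain ⟨P', hP', hproj, ⟨e⟩⟩ := projAmp_single ((homologyFunctor (ModuleCat.{u} R) j).obj K) d
      (hgl _) j
    have := Groth.Agent.S6964.subsingleton_of_rep _ (j - d) j P' hP' hproj e N i (by omega)
    exact this.elim _ _
  exact ⟨fun f g => by rw [hPK f, hPK g]⟩

/-- Let R be a commutative ring of global dimension at most d, i.e. every R-module has projective
dimension at most d, such that the derived tensor product - ⊗^L_R M exists on D(R) for every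
R-module M. Then: (1) for every R-module M, M[0] is isomorphic in D(R) to a complex of flat modules
vanishing outside [-d, 0]; (2) every object K of D(R) with H^i(K) = 0 for all i outside [a, b] is
isomorphic in D(R) to a complex of flat modules vanishing outside [a - d, b]. -/
theorem result (R : Type u) [CommRing R] (d : ℕ)
    (hgl : ∀ (M : Type u) [AddCommGroup M] [Module R M], HasProjectiveDimensionLT (ModuleCat.of R M) (d + 1))
    [∀ M : ModuleCat.{u} R, DRing.HasLTensor R M] :
    (∀ (M : Type u) [AddCommGroup M] [Module R M], DRing.HasTorAmplitudeIn R (-(d : ℤ)) 0 (Dual.inD R M)) ∧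
      (∀ (K : Dual.D R) (a b : ℤ), (∀ i : ℤ, (i < a ∨ b < i) → Subsingleton (Dual.HD R K i)) →
        DRing.HasTorAmplitudeIn R (a - d) b K) := by
  constructor
  · intro M _ _
    obtain ⟨P, hP, hproj, he⟩ := projAmp_single_zero (ModuleCat.of R M) d (hgl M)
    exact ⟨P, hP, fun i => have := hproj i; inferInstance, he⟩
  · intro K a b hK
    obtain ⟨P, hP, hproj, he⟩ := projAmp_of_gldim d hgl K a b (fun i hi => by
      have := hK i hi
      exact ModuleCat.isZero_of_subsingleton _)
    exact ⟨P, hP, fun i => have := hproj i; inferInstance, he⟩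

end Groth.Agent.S7034
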