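import Groth.Statements.S7039
import Groth.Agent.Lib.Helper10PowTors
-- import your own Groth.Agent.* helpers here

set_option autoImplicit false
universe u
open LocCoh

namespace Groth.Agent.S7039

/-- For a finitely generated ideal I of a commutative ring R and any R-module M, the quotient of M by
its submodule of I-power torsion elements has no nonzero element annihilated by I. -/
theorem result {R : Type u} [CommRing R] (I : Ideal R) (hI : I.FG)
    (M : Type u) [AddCommGroup M] [Module R M] :
    LocCoh.torsionBy I (M ⧸ DRing.torsionSub I M) = ⊥ := by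
  rw [Submodule.eq_bot_iff]
  intro xbar hx
  obtain ⟨x, rfl⟩ := Submodule.Quotient.mk_surjective _ xbar
  have hx' : ∀ a ∈ I, a • (Submodule.Quotient.mk x : M ⧸ DRing.torsionSub I M) = 0 := by
    intro a ha
    have := (Submodule.mem_torsionBySet_iff (R := R) (M := M ⧸ DRing.torsionSub I M) (I : Set R) _).mp hx
    exact this ⟨a, ha⟩
  have h1 : ∀ a ∈ I, ∃ k : ℕ, ∀ b ∈ I ^ k, (b * a) • x = 0 := by
    intro a ha
    have h2 := hx' a ha
    rw [← Submodule.Quotient.mk_smul, Submodule.Quotient.mk_eq_zero] at h2
    obtain ⟨k, hk⟩ := h2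
    exact ⟨k, fun b hb => by rw [mul_smul]; exact hk b hb⟩
  obtain ⟨k, hk⟩ := Groth.Agent.Lib.Helper10.exists_pow_mul_smul_eq_zero I I hI x h1
  rw [Submodule.Quotient.mk_eq_zero]
  exact ⟨k + 1, fun a ha => hk a (by rwa [pow_succ] at ha)⟩

end Groth.Agent.S7039
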