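import Groth.Statements.S7040
import Groth.Agent.Lib.Helper10PowTors
-- import your own Groth.Agent.* helpers here

set_option autoImplicit false
universe u
open CategoryTheory
open LocCoh

namespace Groth.Agent.S7040

/-- For a finitely generated ideal I of a commutative ring R, the property of being an I-power torsion
module (every element killed by a power of I) is a Serre class in the category of R-modules: it
holds for 0 and is closed under subobjects, quotients and extensions. -/
theorem result {R : Type u} [CommRing R] (I : Ideal R) (hI : I.FG) :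
    ObjectProperty.IsSerreClass (C := ModuleCat.{u} R) (fun M => LocCoh.IsPowerTorsion I M) := by
  refine { exists_zero := ?_, prop_of_mono := ?_, prop_of_epi := ?_, prop_X₂_of_shortExact := ?_ }
  · refine ⟨ModuleCat.of R PUnit, ModuleCat.isZero_of_subsingleton _, fun m => ⟨0, fun a _ => ?_⟩⟩
    exact Subsingleton.elim _ _
  · intro X Y f hf hY x
    obtain ⟨n, hn⟩ := hY (f.hom x)
    refine ⟨n, fun a ha => ?_⟩
    have hinj : Function.Injective f.hom := (ModuleCat.mono_iff_injective f).mp hf
    apply hinj
    rw [map_smul, hn a ha, map_zero]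
  · intro X Y f hf hX y
    have hsurj : Function.Surjective f.hom := (ModuleCat.epi_iff_surjective f).mp hf
    obtain ⟨x, rfl⟩ := hsurj y
    obtain ⟨n, hn⟩ := hX x
    refine ⟨n, fun a ha => ?_⟩
    rw [← map_smul, hn a ha, map_zero]
  · intro S hS h₁ h₃ m
    have hex : Function.Exact S.f.hom S.g.hom :=
      (ShortComplex.ShortExact.moduleCat_exact_iff_function_exact S).mp hS.exact
    obtain ⟨n, hn⟩ := h₃ (S.g.hom m)
    have h1 : ∀ a ∈ I ^ n, ∃ k : ℕ, ∀ b ∈ I ^ k, (b * a) • m = 0 := by
      intro a ha
      have h2 : S.g.hom (a • m) = 0 := by rw [map_smul, hn a ha]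
      obtain ⟨m', hm'⟩ := (hex (a • m)).mp h2
      obtain ⟨k, hk⟩ := h₁ m'
      refine ⟨k, fun b hb => ?_⟩
      rw [mul_smul, ← hm', ← map_smul, hk b hb, map_zero]
    obtain ⟨k, hk⟩ := Groth.Agent.Lib.Helper10.exists_pow_mul_smul_eq_zero I (I ^ n)
      (Ideal.FG.pow hI) m h1
    exact ⟨k + n, fun a ha => hk a (by rwa [pow_add] at ha)⟩

end Groth.Agent.S7040
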