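import Groth.Statements.S7041
import Mathlib
-- import your own Groth.Agent.* helpers here

set_option autoImplicit false
universe u
open TensorProduct
open LocCoh

namespace Groth.Agent.S7041

/-- Let R → R' be a homomorphism of commutative rings and I an ideal of R such that the induced map
R/I^n → R'/I^n R' is bijective for every n > 0. Then for every R-module M in which every element is
killed by a power of I, the map M → R' ⊗_R M sending m to 1 ⊗ m is bijective. -/
theorem result {R R' : Type u} [CommRing R] [CommRing R'] [Algebra R R']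
    (I : Ideal R)
    (hq : ∀ n : ℕ, 0 < n → Function.Bijective
      (Ideal.quotientMap (Ideal.map (algebraMap R R') (I ^ n)) (algebraMap R R') Ideal.le_comap_map))
    (M : Type u) [AddCommGroup M] [Module R M] (hM : LocCoh.IsPowerTorsion I M) :
    Function.Bijective (fun m : M => (1 : R') ⊗ₜ[R] m) := by
  classical
  -- lifts modulo `I^(n+1) R'`
  have lift_exists : ∀ (n : ℕ) (r' : R'), ∃ r : R,
      algebraMap R R' r - r' ∈ Ideal.map (algebraMap R R') (I ^ (n + 1)) := by
    intro n r'
    obtain ⟨x, hx⟩ := (hq (n + 1) (Nat.succ_pos n)).2 (Ideal.Quotient.mk _ r')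
    obtain ⟨r, rfl⟩ := Ideal.Quotient.mk_surjective x
    refine ⟨r, ?_⟩
    rw [Ideal.quotientMap_mk] at hx
    exact Ideal.Quotient.eq.mp hx
  have lift_unique : ∀ (n : ℕ) (r : R),
      algebraMap R R' r ∈ Ideal.map (algebraMap R R') (I ^ (n + 1)) → r ∈ I ^ (n + 1) := by
    intro n r hr
    have h0 : Ideal.quotientMap (Ideal.map (algebraMap R R') (I ^ (n + 1))) (algebraMap R R')
        Ideal.le_comap_map (Ideal.Quotient.mk _ r) = 0 := by
      rw [Ideal.quotientMap_mk]
      exact Ideal.Quotient.eq_zero_iff_mem.mpr hr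
    have h1 := (hq (n + 1) (Nat.succ_pos n)).1 (h0.trans (map_zero _).symm)
    exact Ideal.Quotient.eq_zero_iff_mem.mp h1
  choose ρ hρ using lift_exists
  have hM' : ∀ m : M, ∃ n : ℕ, ∀ a ∈ I ^ (n + 1), a • m = 0 := by
    intro m
    obtain ⟨n, hn⟩ := hM m
    exact ⟨n, fun a ha => hn a (Ideal.pow_le_pow_right (Nat.le_succ n) ha)⟩
  choose nn hnn using hM'
  have map_mono : ∀ {j k : ℕ}, j ≤ k →
      Ideal.map (algebraMap R R') (I ^ (k + 1)) ≤ Ideal.map (algebraMap R R') (I ^ (j + 1)) :=
    fun h => Ideal.map_mono (Ideal.pow_le_pow_right (Nat.succ_le_succ h))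
  -- the key property
  have P : ∀ (m : M) (r' : R') (k : ℕ) (r : R), (∀ a ∈ I ^ (k + 1), a • m = 0) →
      algebraMap R R' r - r' ∈ Ideal.map (algebraMap R R') (I ^ (k + 1)) →
      ρ (nn m) r' • m = r • m := by
    intro m r' k r hk hr
    have h1 : algebraMap R R' (ρ (nn m) r' - r) ∈
        Ideal.map (algebraMap R R') (I ^ (min (nn m) k + 1)) := by
      have e : algebraMap R R' (ρ (nn m) r' - r) =
          (algebraMap R R' (ρ (nn m) r') - r') - (algebraMap R R' r - r') := by
        rw [map_sub]; ring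
      rw [e]
      exact Ideal.sub_mem _ (map_mono (min_le_left _ _) (hρ (nn m) r'))
        (map_mono (min_le_right _ _) hr)
    have h2 := lift_unique _ _ h1
    have h3 : (ρ (nn m) r' - r) • m = 0 := by
      rcases le_total (nn m) k with h | h
      · rw [min_eq_left h] at h2
        exact hnn m _ h2
      · rw [min_eq_right h] at h2
        exact hk _ h2
    rw [sub_smul, sub_eq_zero] at h3
    exact h3
  have kills_mono : ∀ (m : M) {j k : ℕ}, j ≤ k → (∀ a ∈ I ^ (j + 1), a • m = 0) →
      ∀ a ∈ I ^ (k + 1), a • m = 0 :=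
    fun m j k h hj a ha => hj a (Ideal.pow_le_pow_right (Nat.succ_le_succ h) ha)
  let θ : R' ⊗[R] M →ₗ[R] M := TensorProduct.lift (LinearMap.mk₂ R (fun r' m => ρ (nn m) r' • m)
    (by
      intro r' s' m
      have := P m (r' + s') (nn m) (ρ (nn m) r' + ρ (nn m) s') (hnn m) (by
        have e : algebraMap R R' (ρ (nn m) r' + ρ (nn m) s') - (r' + s') =
            (algebraMap R R' (ρ (nn m) r') - r') + (algebraMap R R' (ρ (nn m) s') - s') := by
          rw [map_add]; ring
        rw [e]
        exact Ideal.add_mem _ (hρ _ _) (hρ _ _))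
      rw [this, add_smul])
    (by
      intro c r' m
      have := P m (c • r') (nn m) (c * ρ (nn m) r') (hnn m) (by
        have e : algebraMap R R' (c * ρ (nn m) r') - c • r' =
            algebraMap R R' c * (algebraMap R R' (ρ (nn m) r') - r') := by
          rw [map_mul, Algebra.smul_def]; ring
        rw [e]
        exact Ideal.mul_mem_left _ _ (hρ _ _))
      rw [this, mul_smul])
    (by
      intro r' m₁ m₂
      let k := max (max (nn m₁) (nn m₂)) (nn (m₁ + m₂))
      have hk1 : ∀ a ∈ I ^ (k + 1), a • m₁ = 0 :=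
        kills_mono m₁ ((le_max_left _ _).trans (le_max_left _ _)) (hnn m₁)
      have hk2 : ∀ a ∈ I ^ (k + 1), a • m₂ = 0 :=
        kills_mono m₂ ((le_max_right _ _).trans (le_max_left _ _)) (hnn m₂)
      have hk12 : ∀ a ∈ I ^ (k + 1), a • (m₁ + m₂) = 0 :=
        kills_mono (m₁ + m₂) (le_max_right _ _) (hnn (m₁ + m₂))
      rw [P m₁ r' k (ρ k r') hk1 (hρ k r'), P m₂ r' k (ρ k r') hk2 (hρ k r'),
        P (m₁ + m₂) r' k (ρ k r') hk12 (hρ k r'), smul_add])
    (by
      intro c r' m
      have hk : ∀ a ∈ I ^ (nn m + 1), a • (c • m) = 0 := by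
        intro a ha
        rw [smul_comm, hnn m a ha, smul_zero]
      rw [P (c • m) r' (nn m) (ρ (nn m) r') hk (hρ _ _), smul_comm]))
  have hθ : ∀ m : M, θ ((1 : R') ⊗ₜ[R] m) = m := by
    intro m
    have h1 : θ ((1 : R') ⊗ₜ[R] m) = ρ (nn m) 1 • m := by
      simp only [θ, TensorProduct.lift.tmul, LinearMap.mk₂_apply]
    rw [h1, P m 1 (nn m) 1 (hnn m) (by rw [map_one, sub_self]; exact Ideal.zero_mem _), one_smul]
  constructor
  · intro m₁ m₂ h
    have h' : (1 : R') ⊗ₜ[R] m₁ = (1 : R') ⊗ₜ[R] m₂ := h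
    rw [← hθ m₁, ← hθ m₂, h']
  · intro t
    induction t using TensorProduct.induction_on with
    | zero => exact ⟨0, by simp⟩
    | tmul r' m =>
      refine ⟨ρ (nn m) r' • m, ?_⟩
      change (1 : R') ⊗ₜ[R] (ρ (nn m) r' • m) = r' ⊗ₜ[R] m
      have hkill : ∀ d ∈ Ideal.map (algebraMap R R') (I ^ (nn m + 1)), d ⊗ₜ[R] m = (0 : R' ⊗[R] M) := by
        intro d hd
        induction hd using Submodule.span_induction with
        | mem d hd =>
          obtain ⟨a, ha, rfl⟩ := hd
          rw [Algebra.algebraMap_eq_smul_one, TensorProduct.smul_tmul, hnn m a ha,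
            TensorProduct.tmul_zero]
        | zero => rw [TensorProduct.zero_tmul]
        | add x y _ _ hx hy => rw [TensorProduct.add_tmul, hx, hy, add_zero]
        | smul c x _ hx => rw [← TensorProduct.smul_tmul', hx, smul_zero]
      have h1 := hkill _ (hρ (nn m) r')
      rw [TensorProduct.sub_tmul, sub_eq_zero] at h1
      rw [← h1, Algebra.algebraMap_eq_smul_one, TensorProduct.smul_tmul]
    | add t₁ t₂ h₁ h₂ =>
      obtain ⟨m₁, hm₁⟩ := h₁
      obtain ⟨m₂, hm₂⟩ := h₂
      refine ⟨m₁ + m₂, ?_⟩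
      change (1 : R') ⊗ₜ[R] (m₁ + m₂) = t₁ + t₂
      rw [TensorProduct.tmul_add]
      exact congrArg₂ (· + ·) hm₁ hm₂

end Groth.Agent.S7041
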