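import Groth.Statements.S7049
import Groth.Agent.Lib.Helper10DerComplete2
import Groth.Agent.S7048
-- import your own Groth.Agent.* helpers here

set_option autoImplicit false
universe u
attribute [local instance] HasDerivedCategory.standard
open DRing

namespace Groth.Agent.S7049

/-- For a commutative ring A, a finitely generated ideal I and an A-module M such that M[0] is derived
complete with respect to I, the canonical map from M to its I-adic completion lim M/I^n M is
surjective. -/
theorem result {A : Type u} [CommRing A] (I : Ideal A) (hI : I.FG)
    (M : Type u) [AddCommGroup M] [Module A M] (hc : DRing.IsDerivedComplete I (Dual.inD A M)) :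
    Function.Surjective (AdicCompletion.of I M) := by
  classical
  obtain ⟨s, hs⟩ := hI
  have hIfg : I.FG := ⟨s, hs⟩
  haveI : IsAdicComplete I (AdicCompletion I M) := AdicCompletion.isAdicComplete hIfg
  have hc' := Groth.Agent.S7048.result I (AdicCompletion I M)
  rw [Groth.Agent.Lib.Helper10.DerComplete.isDerivedComplete_iff_crit] at hc hc'
  let u : M →ₗ[A] AdicCompletion I M := AdicCompletion.of I M
  have hC : Subsingleton (AdicCompletion I M ⧸ LinearMap.range u) := by
    apply Groth.Agent.Lib.Helper10.DerComplete.subsingleton_of_crit_of_smul_top_eq_top s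
    · intro f hf
      have hfI : f ∈ I := hs ▸ Ideal.subset_span hf
      exact Groth.Agent.Lib.Helper10.DerComplete.Crit.coker u (hc f hfI) (hc' f hfI)
    · rw [hs, eq_top_iff]
      rintro x' -
      obtain ⟨x, rfl⟩ := Submodule.mkQ_surjective _ x'
      obtain ⟨m, hm⟩ := Submodule.mkQ_surjective _ (AdicCompletion.eval I M 1 x)
      have h1 : x - u m ∈ LinearMap.ker (AdicCompletion.eval I M 1) := by
        rw [LinearMap.mem_ker, map_sub, AdicCompletion.eval_of, hm, sub_self]
      rw [← AdicCompletion.pow_smul_top_eq_ker_eval hIfg, pow_one] at h1
      have h2 : (LinearMap.range u).mkQ x = (LinearMap.range u).mkQ (x - u m) := by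
        have h3 : (LinearMap.range u).mkQ (u m) = 0 := by
          rw [Submodule.mkQ_apply, Submodule.Quotient.mk_eq_zero]
          exact ⟨m, rfl⟩
        rw [map_sub, h3, sub_zero]
      rw [h2]
      have := Submodule.mem_map_of_mem (f := (LinearMap.range u).mkQ) h1
      rw [Submodule.map_smul''] at this
      exact Submodule.smul_mono le_rfl le_top this
  intro x
  have : (LinearMap.range u).mkQ x = 0 := Subsingleton.elim _ _
  rw [Submodule.mkQ_apply, Submodule.Quotient.mk_eq_zero] at this
  exact this

end Groth.Agent.S7049
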