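import Groth.Statements.S7042
import Groth.Agent.Lib.Helper10DerComplete3
import Groth.Agent.Lib.Helper10Hump
import Groth.Agent.S7049
-- import your own Groth.Agent.* helpers here

set_option autoImplicit false
universe u
attribute [local instance] HasDerivedCategory.standard
open DRing

namespace Groth.Agent.S7042

/-- Let I be a finitely generated ideal of a commutative ring A and let M be an A-module which, placed
in degree 0, is derived complete with respect to I, and in which every element is killed by a power
of I. Then a single power of I kills M. -/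
theorem result {A : Type u} [CommRing A]
    (I : Ideal A) (hI : I.FG) (M : Type u) [AddCommGroup M] [Module A M]
    (hc : DRing.IsDerivedComplete I (Dual.inD A M)) (ht : LocCoh.IsPowerTorsion I M) :
    ∃ n : ℕ, I ^ n • (⊤ : Submodule A M) = ⊥ := by
  classical
  rw [Groth.Agent.Lib.Helper10.DerComplete.isDerivedComplete_iff_crit] at hc
  obtain ⟨s, rfl⟩ := hI
  -- principal case
  have hprin : ∀ f ∈ Ideal.span (s : Set A), ∃ c : ℕ, ∀ x : M, f ^ c • x = 0 := by
    intro f hf
    have hcf := hc f hf
    have htorsM : ∀ x : M, ∃ n : ℕ, f ^ n • x = 0 := fun x => by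
      obtain ⟨n, hn⟩ := ht x
      exact ⟨n, hn _ (Ideal.pow_mem_pow hf n)⟩
    set I₀ : Ideal A := Ideal.span {f} with hI₀
    have hI₀fg : I₀.FG := ⟨{f}, by simp [hI₀]⟩
    have hI₀I : I₀ ≤ Ideal.span (s : Set A) := (Ideal.span_singleton_le_iff_mem _).mpr hf
    have hc₀ : DRing.IsDerivedComplete I₀ (Dual.inD A M) :=
      (Groth.Agent.Lib.Helper10.DerComplete.isDerivedComplete_iff_crit I₀ M).mpr
        fun g hg => hc g (hI₀I hg)
    have hsurj := Groth.Agent.S7049.result I₀ hI₀fg M hc₀
    haveI : IsAdicComplete I₀ (AdicCompletion I₀ M) := AdicCompletion.isAdicComplete hI₀fg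
    obtain ⟨c, hcN⟩ := Groth.Agent.Lib.Helper10.Hump.exists_pow_smul_eq_zero f
      (N := AdicCompletion I₀ M) (by
        intro y
        obtain ⟨x, rfl⟩ := hsurj y
        obtain ⟨n, hn⟩ := htorsM x
        exact ⟨n, by rw [← map_smul, hn, map_zero]⟩)
    have hdiv : ∀ x : M, ∀ n : ℕ, ∃ w : M, f ^ n • w = f ^ c • x := by
      intro x n
      have h1 : AdicCompletion.of I₀ M (f ^ c • x) = 0 := by rw [map_smul]; exact hcN _
      have h2 := congrArg (fun z => AdicCompletion.eval I₀ M n z) h1
      simp only [AdicCompletion.eval_of, map_zero] at h2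
      rw [Submodule.mkQ_apply, Submodule.Quotient.mk_eq_zero,
        ← Groth.Agent.Lib.Helper10.Hump.D_iff_mem] at h2
      exact h2
    refine ⟨c, fun x => ?_⟩
    choose g hg using fun w : M => hdiv w (c + 1)
    have := hcf.1 (fun n => f ^ c • (g^[n] x)) (fun n => by
      rw [Function.iterate_succ_apply', smul_smul, ← pow_succ', hg]) 0
    simpa using this
  -- combine
  have hcomb : ∀ t : Finset A, (∀ f ∈ t, ∃ c : ℕ, ∀ x : M, f ^ c • x = 0) →
      ∃ n : ℕ, Ideal.span (t : Set A) ^ n • (⊤ : Submodule A M) = ⊥ := by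
    intro t
    induction t using Finset.induction_on with
    | empty =>
      intro _
      exact ⟨1, by rw [Finset.coe_empty, Ideal.span_empty, pow_one, Submodule.bot_smul]⟩
    | insert a t ha ih =>
      intro h
      obtain ⟨c, hc'⟩ := h a (Finset.mem_insert_self a t)
      obtain ⟨n, hn⟩ := ih fun f hf => h f (Finset.mem_insert_of_mem hf)
      refine ⟨c + n, ?_⟩
      rw [eq_bot_iff, Finset.coe_insert, Ideal.span_insert]
      refine (Submodule.smul_mono_left Ideal.sup_pow_add_le_pow_sup_pow).trans ?_
      rw [Submodule.sup_smul, hn, sup_bot_eq, Ideal.span_singleton_pow,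
        Submodule.ideal_span_singleton_smul]
      rintro x hx
      rw [Submodule.mem_smul_pointwise_iff_exists] at hx
      obtain ⟨w, -, rfl⟩ := hx
      rw [hc' w]
      exact Submodule.zero_mem _
  exact hcomb s fun f hf => hprin f (Ideal.subset_span hf)

end Groth.Agent.S7042
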