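import Groth.Statements.S7043
import Groth.Agent.Lib.Helper10DerComplete2
-- import your own Groth.Agent.* helpers here

set_option autoImplicit false
universe u
attribute [local instance] HasDerivedCategory.standard
open DRing

namespace Groth.Agent.S7043

/-- Let f be an element of a commutative ring A and let M be an A-module which, placed in degree 0, is
derived complete with respect to the ideal (f). Then the ideal J = ⋂ f^n A annihilates the submodule
⋂ f^n M, which is the kernel of M → lim M/f^n M. (The case M = A says that J has square zero when A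
itself is derived complete.) -/
theorem result {A : Type u} [CommRing A] (f : A)
    (M : Type u) [AddCommGroup M] [Module A M]
    (hc : DRing.IsDerivedComplete (Ideal.span {f}) (Dual.inD A M)) :
    (⨅ n : ℕ, Ideal.span {f ^ n}) • (⨅ n : ℕ, (Ideal.span {f ^ n}) • (⊤ : Submodule A M)) = (⊥ : Submodule A M) := by
  rw [Groth.Agent.Lib.Helper10.DerComplete.isDerivedComplete_iff_crit] at hc
  obtain ⟨hU, -⟩ := hc f (Ideal.subset_span rfl)
  rw [eq_bot_iff, Submodule.smul_le]
  intro a ha x hx
  rw [Submodule.mem_bot]
  rw [Ideal.mem_iInf] at ha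
  rw [Submodule.mem_iInf] at hx
  have ha' : ∀ n, ∃ b : A, a = f ^ n * b := fun n => Ideal.mem_span_singleton.mp (ha n)
  have hx' : ∀ n, ∃ y : M, f ^ n • y = x := by
    intro n
    have := hx n
    rw [Submodule.ideal_span_singleton_smul, Submodule.mem_smul_pointwise_iff_exists] at this
    obtain ⟨y, -, hy⟩ := this
    exact ⟨y, hy⟩
  choose b hb using ha'
  choose y hy using hx'
  have key : ∀ n, b n • x = f • (b (n + 1) • x) := by
    intro n
    rw [← sub_eq_zero, smul_smul, ← sub_smul]
    have h1 : f ^ n * (b n - f * b (n + 1)) = 0 := by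
      rw [mul_sub, ← hb n, ← mul_assoc, ← pow_succ, ← hb (n + 1), sub_self]
    rw [← hy n, smul_smul, mul_comm, h1, zero_smul]
  have h0 := hU (fun n => b n • x) key 0
  have : a = b 0 := by rw [hb 0, pow_zero, one_mul]
  rw [this]
  exact h0

end Groth.Agent.S7043
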