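import Groth.Statements.S7044
import Groth.Agent.Lib.Helper10DerComplete3
import Groth.Agent.S7049
-- import your own Groth.Agent.* helpers here

set_option autoImplicit false
universe u
attribute [local instance] HasDerivedCategory.standard
open DRing

namespace Groth.Agent.S7044

/-- Let A be a commutative ring and I an ideal of A; if A, regarded as an object of D(A) sitting in
degree 0, is I-adically derived complete, then the pair (A, I) is henselian: I lies in the Jacobson
radical and simple roots modulo I of monic polynomials lift to roots in A. -/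
theorem result {A : Type u} [CommRing A] (I : Ideal A)
    (hc : DRing.IsDerivedComplete I (Dual.inD A A)) : HenselianRing A I := by
  classical
  rw [Groth.Agent.Lib.Helper10.DerComplete.isDerivedComplete_iff_crit] at hc
  have hjac : I ≤ Ideal.jacobson ⊥ := by
    intro x hx
    rw [Ideal.mem_jacobson_bot]
    intro y
    have hg : -(x * y) ∈ I := I.neg_mem (I.mul_mem_right y hx)
    obtain ⟨hU, hE⟩ := hc (-(x * y)) hg
    obtain ⟨m, hm⟩ := hE (fun _ => 1)
    have hshift : ∀ n, m (n + 1) - m n = 0 := by
      apply hU (fun n => m (n + 1) - m n)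
      intro n
      have h1 := hm n
      have h2 := hm (n + 1)
      simp only [smul_eq_mul] at h1 h2 ⊢
      linear_combination h2 - h1
    have h0 := hm 0
    have h1 := hshift 0
    simp only [smul_eq_mul] at h0
    refine IsUnit.of_mul_eq_one (m 0) ?_
    have : m 1 = m 0 := sub_eq_zero.mp h1
    rw [zero_add, this] at h0
    linear_combination h0
  refine ⟨hjac, ?_⟩
  intro P hP a₀ h₁ h₂
  haveI := isLocalHom_of_le_jacobson_bot I hjac
  set h := P.eval a₀ with hh
  set I₀ : Ideal A := Ideal.span {h} with hI₀
  have hI₀I : I₀ ≤ I := (Ideal.span_singleton_le_iff_mem I).mpr h₁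
  have hI₀fg : I₀.FG := ⟨{h}, by simp [hI₀]⟩
  have hc₀ : DRing.IsDerivedComplete I₀ (Dual.inD A A) :=
    (Groth.Agent.Lib.Helper10.DerComplete.isDerivedComplete_iff_crit I₀ A).mpr
      fun g hg => hc g (hI₀I hg)
  have hsurj := Groth.Agent.S7049.result I₀ hI₀fg A hc₀
  let Ah := AdicCompletion I₀ A
  haveI : IsAdicComplete I₀ Ah := AdicCompletion.isAdicComplete hI₀fg
  haveI : IsAdicComplete (I₀.map (algebraMap A Ah)) Ah :=
    (IsAdicComplete.map_algebraMap_iff (R := A) (S := Ah) (M := Ah) (I := I₀)).mpr inferInstance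
  haveI : HenselianRing Ah (I₀.map (algebraMap A Ah)) := inferInstance
  have hu : IsUnit (P.derivative.eval a₀) := isUnit_of_map_unit (Ideal.Quotient.mk I) _ h₂
  -- the root in the completion
  obtain ⟨ah, hroot, hah⟩ := HenselianRing.is_henselian (I := I₀.map (algebraMap A Ah))
    (P.map (algebraMap A Ah)) (hP.map _) (algebraMap A Ah a₀)
    (by
      rw [Polynomial.eval_map_apply]
      exact Ideal.mem_map_of_mem _ (Ideal.mem_span_singleton_self h))
    (by
      rw [Polynomial.derivative_map, Polynomial.eval_map_apply]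
      exact (hu.map (algebraMap A Ah)).map (Ideal.Quotient.mk _))
  obtain ⟨a', ha'⟩ := hsurj ah
  have hof : ∀ x : A, algebraMap A Ah x = AdicCompletion.of I₀ A x := fun x => rfl
  -- `P(a')` is infinitely `h`-divisible
  have hk : ∀ n : ℕ, h ^ n ∣ P.eval a' := by
    intro n
    have h1 : algebraMap A Ah (P.eval a') = 0 := by
      rw [← Polynomial.eval_map_apply, hof, ha']
      exact hroot
    have h2 := congrArg (fun z => AdicCompletion.evalₐ I₀ n z) h1
    simp only [hof, AdicCompletion.evalₐ_of, map_zero] at h2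
    rw [Ideal.Quotient.eq_zero_iff_mem, hI₀, Ideal.span_singleton_pow,
      Ideal.mem_span_singleton] at h2
    exact h2
  -- `a' - a₀ ∈ I₀`
  have hdiff : a' - a₀ ∈ I₀ := by
    have h1 : AdicCompletion.evalₐ I₀ 1 (ah - algebraMap A Ah a₀) = 0 := by
      have hle : I₀.map (algebraMap A Ah) ≤ RingHom.ker (AdicCompletion.evalₐ I₀ 1).toRingHom := by
        rw [Ideal.map_le_iff_le_comap]
        intro g hg
        rw [Ideal.mem_comap, RingHom.mem_ker]
        change AdicCompletion.evalₐ I₀ 1 (algebraMap A Ah g) = 0
        rw [hof, AdicCompletion.evalₐ_of, Ideal.Quotient.eq_zero_iff_mem, pow_one]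
        exact hg
      exact hle hah
    rw [← ha', hof, ← map_sub, AdicCompletion.evalₐ_of, Ideal.Quotient.eq_zero_iff_mem,
      pow_one] at h1
    exact h1
  have hu' : IsUnit (P.derivative.eval a') := by
    apply isUnit_of_map_unit (Ideal.Quotient.mk I)
    have : Ideal.Quotient.mk I (P.derivative.eval a') = Ideal.Quotient.mk I (P.derivative.eval a₀) := by
      rw [Ideal.Quotient.eq]
      obtain ⟨c, hc'⟩ := Polynomial.sub_dvd_eval_sub a' a₀ P.derivative
      rw [hc']
      exact I.mul_mem_right _ (hI₀I hdiff)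
    rw [this]
    exact h₂
  obtain ⟨v, hv⟩ := hu'.exists_right_inv
  set k := P.eval a' with hkdef
  have hkk : k * k = 0 := by
    have hcr := hc h h₁
    have := hcr.smul_eq_zero_of_divisible (a := k) (x := k) hk (fun n => by
      obtain ⟨y, hy⟩ := hk n
      exact ⟨y, by rw [smul_eq_mul, hy]⟩)
    simpa using this
  refine ⟨a' + (-(k * v)), ?_, ?_⟩
  · rw [Polynomial.IsRoot.def, Polynomial.eval_add_of_sq_eq_zero _ _ _ (by
      rw [neg_sq, mul_pow, pow_two k, hkk, zero_mul])]
    rw [← hkdef]
    linear_combination (-k) * hv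
  · have hkI : k ∈ I := by
      obtain ⟨y, hy⟩ := hk 1
      rw [hy, pow_one]
      exact I.mul_mem_right _ h₁
    have : a' + -(k * v) - a₀ = (a' - a₀) - k * v := by ring
    rw [this]
    exact I.sub_mem (hI₀I hdiff) (I.mul_mem_right _ hkI)

end Groth.Agent.S7044
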