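import Groth.Statements.S7047
import Groth.Agent.Lib.Helper10DerComplete4
import Groth.Agent.Lib.Helper10DerComplete5
-- import your own Groth.Agent.* helpers here

set_option autoImplicit false
universe u
attribute [local instance] HasDerivedCategory.standard
open DRing

namespace Groth.Agent.S7047

/-- For a commutative ring A and an object K of D(A), the set of elements f of A such that every
morphism from A_f (placed in degree 0) to any shift K[n] vanishes is a radical ideal of A. -/
theorem result {A : Type u} [CommRing A] (K : Dual.D A) :
    ∃ J : Ideal A, J.IsRadical ∧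
      (J : Set A) = {f : A | ∀ n : ℤ, Subsingleton (Dual.inD A (Localization.Away f) ⟶ K⟦n⟧)} := by
  open Groth.Agent.Lib.Helper10.DerComplete in
  refine ⟨⨅ i : ℤ, critIdeal A (Dual.HD A K i), ?_, ?_⟩
  · rintro f ⟨n, hn⟩
    rw [Ideal.mem_iInf] at hn ⊢
    intro i
    exact critIdeal_isRadical ⟨n, hn i⟩
  · ext f
    rw [SetLike.mem_coe, Ideal.mem_iInf]
    simp only [mem_critIdeal, Set.mem_setOf_eq]
    rw [← V_shift_iff_crit]
    simp only [V_iff_subsingleton]

end Groth.Agent.S7047
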