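import Groth.Statements.S7051
import Groth.Agent.Lib.Helper10DerComplete
-- import your own Groth.Agent.* helpers here

set_option autoImplicit false
universe u
attribute [local instance] HasDerivedCategory.standard
open DRing

namespace Groth.Agent.S7051

/-- For a commutative ring A, an ideal I and a linear map u between A-modules M and N which are derived
complete with respect to I (placed in degree 0), the kernel of u and the cokernel N/u(M) are again
derived complete with respect to I. -/
theorem result {A : Type u} [CommRing A] (I : Ideal A)
    (M N : Type u) [AddCommGroup M] [Module A M] [AddCommGroup N] [Module A N] (u : M →ₗ[A] N)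
    (hM : DRing.IsDerivedComplete I (Dual.inD A M)) (hN : DRing.IsDerivedComplete I (Dual.inD A N)) :
    DRing.IsDerivedComplete I (Dual.inD A (LinearMap.ker u)) ∧
      DRing.IsDerivedComplete I (Dual.inD A (N ⧸ LinearMap.range u)) := by
  rw [Groth.Agent.Lib.Helper10.DerComplete.isDerivedComplete_iff] at hM hN
  rw [Groth.Agent.Lib.Helper10.DerComplete.isDerivedComplete_iff,
    Groth.Agent.Lib.Helper10.DerComplete.isDerivedComplete_iff]
  constructor
  · intro f hf
    obtain ⟨hMU, hME⟩ := hM f hf
    obtain ⟨hNU, hNE⟩ := hN f hf
    constructor
    · intro m hm n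
      have := hMU (fun n => (m n : M)) (fun n => by
        have := congrArg (Subtype.val) (hm n)
        simpa using this) n
      exact Subtype.ext this
    · intro y
      obtain ⟨m, hm⟩ := hME (fun n => (y n : M))
      have h0 : ∀ n, u (m n) = 0 := by
        apply hNU (fun n => u (m n))
        intro n
        have := congrArg u (hm n)
        rw [map_sub, map_smul, (y n).2, sub_eq_zero] at this
        exact this
      refine ⟨fun n => ⟨m n, h0 n⟩, fun n => Subtype.ext ?_⟩
      simpa using hm n
  · intro f hf
    obtain ⟨hMU, hME⟩ := hM f hf
    obtain ⟨hNU, hNE⟩ := hN f hf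
    constructor
    · intro c hc n
      have hsurj := Submodule.mkQ_surjective (LinearMap.range u)
      choose nt hnt using fun n => hsurj (c n)
      have hz : ∀ n, nt n - f • nt (n + 1) ∈ LinearMap.range u := by
        intro n
        rw [← Submodule.Quotient.mk_eq_zero, Submodule.Quotient.mk_sub, Submodule.Quotient.mk_smul]
        change (LinearMap.range u).mkQ (nt n) - f • (LinearMap.range u).mkQ (nt (n + 1)) = 0
        rw [hnt, hnt, sub_eq_zero]
        exact hc n
      choose w hw using hz
      obtain ⟨m', hm'⟩ := hME w
      have h0 : ∀ n, nt n - u (m' n) = 0 := by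
        apply hNU (fun n => nt n - u (m' n))
        intro n
        have h1 := congrArg u (hm' n)
        rw [hw n, map_sub, map_smul] at h1
        rw [smul_sub]
        have h2 : nt n - f • nt (n + 1) = u (m' n) - f • u (m' (n + 1)) := h1.symm
        rw [sub_eq_sub_iff_add_eq_add] at h2 ⊢
        rw [h2, add_comm]
      rw [← hnt n, sub_eq_zero.mp (h0 n)]
      exact (Submodule.Quotient.mk_eq_zero _).mpr ⟨m' n, rfl⟩
    · intro y
      have hsurj := Submodule.mkQ_surjective (LinearMap.range u)
      choose yt hyt using fun n => hsurj (y n)
      obtain ⟨m, hm⟩ := hNE yt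
      refine ⟨fun n => (LinearMap.range u).mkQ (m n), fun n => ?_⟩
      rw [← map_smul, ← map_sub, hm n, hyt n]

end Groth.Agent.S7051
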