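import Groth.Statements.S7052
import Mathlib.Algebra.Homology.DerivedCategory.SingleTriangle
import Mathlib.Algebra.Homology.ShortComplex.ModuleCat
-- import your own Groth.Agent.* helpers here

set_option autoImplicit false
universe u
attribute [local instance] HasDerivedCategory.standard
open DRing

namespace Groth.Agent.S7052

open CategoryTheory CategoryTheory.Limits

/-- For a commutative ring A, an ideal I, an A-module M and a submodule M₁ such that both M₁ and M/M₁
(placed in degree 0) are derived complete with respect to I, the module M is derived complete with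
respect to I. -/
theorem result {A : Type u} [CommRing A] (I : Ideal A)
    (M : Type u) [AddCommGroup M] [Module A M] (M₁ : Submodule A M)
    (h1 : DRing.IsDerivedComplete I (Dual.inD A M₁)) (h3 : DRing.IsDerivedComplete I (Dual.inD A (M ⧸ M₁))) :
    DRing.IsDerivedComplete I (Dual.inD A M) := by
  let S : ShortComplex (ModuleCat.{u} A) :=
    ModuleCat.shortComplexOfCompEqZero M₁.subtype M₁.mkQ (by ext x; simp)
  have hS : S.ShortExact := ModuleCat.shortComplex_shortExact S
    (LinearMap.exact_subtype_mkQ M₁) M₁.injective_subtype M₁.mkQ_surjective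
  intro f hf n
  have hT := Pretriangulated.Triangle.shift_distinguished _ hS.singleTriangle_distinguished n
  refine subsingleton_of_forall_eq 0 (fun φ => ?_)
  have h3' : Subsingleton (Dual.inD A (Localization.Away f) ⟶ (Dual.inD A (M ⧸ M₁))⟦n⟧) := h3 f hf n
  have h1' : Subsingleton (Dual.inD A (Localization.Away f) ⟶ (Dual.inD A M₁)⟦n⟧) := h1 f hf n
  obtain ⟨g, hg⟩ := Pretriangulated.Triangle.coyoneda_exact₂ _ hT φ (h3'.elim _ _)
  rw [hg, h1'.elim g 0]
  exact zero_comp

end Groth.Agent.S7052
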