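import Groth.Statements.S7054
import Groth.Agent.Lib.Helper10DerComplete6
-- import your own Groth.Agent.* helpers here

set_option autoImplicit false
universe u
attribute [local instance] HasDerivedCategory.standard
open DRing

namespace Groth.Agent.S7054

/-- For a commutative ring A and an ideal I such that A, placed in degree 0, is derived complete with
respect to I, every object of D(A) isomorphic to a bounded above complex of finite free A-modules is
derived complete with respect to I. -/
theorem result {A : Type u} [CommRing A] (I : Ideal A)
    (hA : DRing.IsDerivedComplete I (Dual.inD A A)) (K : Dual.D A) (hK : DRing.IsPseudoCoherent' A K) :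
    DRing.IsDerivedComplete I K := by
  open Groth.Agent.Lib.Helper10.DerComplete in
  obtain ⟨E, b, -, hE, ⟨e⟩⟩ := hK
  rw [isDerivedComplete_iff_forall_crit]
  intro f hf i
  have hA' : Crit f A := (isDerivedComplete_iff_crit I A).mp hA f hf
  refine Crit.HD_of_iso e i (Crit.HD_Q E (fun j => ?_) i)
  haveI := (hE j).1
  haveI := (hE j).2
  exact Crit.of_finite_free hA'

end Groth.Agent.S7054
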