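import Groth.Statements.S7058
import Groth.Agent.Lib.Helper17DRingAdj4
-- import your own Groth.Agent.* helpers here

set_option autoImplicit false
universe u
attribute [local instance] HasDerivedCategory.standard
open CategoryTheory
open DRing

namespace Groth.Agent.S7058

/-- Let A be a commutative ring, I a finitely generated ideal, and assume the derived completion functor
(left adjoint to the inclusion of derived complete objects of D(A)) exists. If K is a cochain
complex of A-modules and some f in I acts bijectively on every term of K, then the derived
completion of K is zero. -/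
theorem result {A : Type u} [CommRing A] (I : Ideal A) (hI : I.FG)
    [DRing.HasDerivedCompletion I] (K : DRing.Cx A) (f : A) (hf : f ∈ I)
    (hK : ∀ i : ℤ, Function.Bijective (fun x : K.X i => f • x)) :
    Limits.IsZero ((DRing.derivedCompletion I).obj (DRing.toD K)).obj := by
  classical
  let S : Submonoid A := Submonoid.powers f
  have hS : ∀ (i : ℤ) (s : S), Function.Bijective (fun x : K.X i => (s : A) • x) := by
    rintro i ⟨_, n, rfl⟩
    induction n with
    | zero =>
      have : (fun x : K.X i => (f ^ 0 : A) • x) = id := by
        funext x; simp
      change Function.Bijective (fun x : K.X i => (f ^ 0 : A) • x)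
      rw [this]; exact Function.bijective_id
    | succ n ih =>
      have : (fun x : K.X i => (f ^ (n + 1) : A) • x) =
          (fun x : K.X i => f • x) ∘ (fun x : K.X i => (f ^ n : A) • x) := by
        funext x
        simp only [Function.comp_apply, pow_succ', mul_smul]
      change Function.Bijective (fun x : K.X i => (f ^ (n + 1) : A) • x)
      rw [this]
      exact (hK i).comp ih
  let L := (DRing.derivedCompletion I).obj (DRing.toD K)
  have hL : ∀ n : ℤ, Subsingleton (Dual.inD A (Localization.Away f) ⟶ L.obj⟦n⟧) :=
    L.property f hf
  have h1 := (Groth.Agent.Lib.Helper17.DRingAdj.forall_subsingleton_iff A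
    (Localization.Away f) L.obj).1 hL
    ((DerivedCategory.Q : _ ⥤ Dual.D (Localization.Away f)).obj
      (Groth.Agent.Lib.Helper17.DRingAdj.locCx S K))
  have h2 : Subsingleton (DRing.toD K ⟶ L.obj) :=
    ((Groth.Agent.Lib.Helper17.DRingAdj.isoRestrictDLocCx S K hS).symm.homFromEquiv
      (Z := L.obj)).symm.subsingleton
  have h3 : Subsingleton (L ⟶ L) := by
    haveI : Subsingleton (DRing.toD K ⟶ (ObjectProperty.ι (DRing.IsDerivedComplete I)).obj L) := h2
    exact ((DRing.derivedCompletionAdj I).homEquiv (DRing.toD K) L).subsingleton
  have h4 : Subsingleton (L.obj ⟶ L.obj) :=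
    ((ObjectProperty.fullyFaithfulι (DRing.IsDerivedComplete I)).homEquiv
      (X := L) (Y := L)).symm.subsingleton
  rw [Limits.IsZero.iff_id_eq_zero]
  exact Subsingleton.elim _ _

end Groth.Agent.S7058
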