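import Groth.Statements.S7062
import Mathlib
import Groth.Agent.Lib.Helper13Glue
-- import your own Groth.Agent.* helpers here

set_option autoImplicit false
universe u
open EtGlue

namespace Groth.Agent.S7062

/-- For a glueing pair (R → R', f), i.e. R/f^nR → R'/f^nR' is bijective for all n > 0 and the sequence 0
→ R → R' ⊕ R_f → R'_f → 0 is exact, the group Tor_1^R(R', f^n R) vanishes for every n > 0 (Tor
computed by resolving the second argument, the ideal f^n R). -/
theorem result {R R' : Type u} [CommRing R] [CommRing R'] [Algebra R R']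
    (f : R) (h : EtGlue.IsGlueingPair R R' f) (n : ℕ) (hn : 0 < n) :
    Subsingleton (DRing.Tor R 1 R' ↥(Ideal.span ({f ^ n} : Set R))) := by
  have h3 : CategoryTheory.Limits.IsZero
      (((CategoryTheory.Tor (ModuleCat.{u} R) 2).obj (ModuleCat.of R R')).obj
        (ModuleCat.of R (R ⧸ (Ideal.span ({f ^ n} : Set R))))) := by
    apply Groth.Agent.Helper13Glue.isZero_tor_of_torsion f h _ _ 2 (by omega)
    intro y
    refine ⟨n, ?_⟩
    obtain ⟨r, rfl⟩ := Submodule.Quotient.mk_surjective _ y
    rw [← Submodule.Quotient.mk_smul, Submodule.Quotient.mk_eq_zero, smul_eq_mul]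
    exact Ideal.mul_mem_right _ _ (Ideal.mem_span_singleton_self _)
  have h2 : CategoryTheory.Limits.IsZero
      (((CategoryTheory.Tor (ModuleCat.{u} R) 1).obj (ModuleCat.of R R')).obj
        (ModuleCat.of R R)) :=
    Groth.Agent.Helper13Tor.isZero_tor_of_flat_right (ModuleCat.of R R') (ModuleCat.of R R) 1
      Nat.one_pos
  exact ModuleCat.subsingleton_of_isZero
    (Groth.Agent.Helper13Tor.isZero_tor₂_X₁ (ModuleCat.of R R')
      (Groth.Agent.Helper13Glue.sesSub (Ideal.span ({f ^ n} : Set R)))
      (Groth.Agent.Helper13Glue.sesSub_shortExact _) 1 h3 h2)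

end Groth.Agent.S7062
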