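import Groth.Statements.S7063
import Mathlib
import Groth.Agent.Lib.Helper13Glue
-- import your own Groth.Agent.* helpers here

set_option autoImplicit false
universe u
open EtGlue

namespace Groth.Agent.S7063

theorem torsionSub_eq_ker {R : Type u} [CommRing R] (f : R) :
    DRing.torsionSub (Ideal.span ({f} : Set R)) R =
      LinearMap.ker (LocalizedModule.mkLinearMap (Submonoid.powers f) R) := by
  ext r
  rw [LinearMap.mem_ker, IsLocalizedModule.eq_zero_iff (Submonoid.powers f)]
  constructor
  · rintro ⟨n, hn⟩
    refine ⟨⟨f ^ n, n, rfl⟩, ?_⟩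
    exact hn (f ^ n) (Ideal.pow_mem_pow (Ideal.mem_span_singleton_self f) n)
  · rintro ⟨⟨s, n, rfl⟩, hs⟩
    refine ⟨n, ?_⟩
    intro a ha
    rw [Ideal.span_singleton_pow, Ideal.mem_span_singleton'] at ha
    obtain ⟨c, rfl⟩ := ha
    have hs' : f ^ n * r = 0 := hs
    rw [smul_eq_mul, mul_assoc, hs', mul_zero]

/-- For a glueing pair (R → R', f), the group Tor_1^R(R', R/R[f^∞]) vanishes, where R[f^∞] is the
submodule of elements of R killed by a power of f (Tor computed by resolving the second argument). -/
theorem result {R R' : Type u} [CommRing R] [CommRing R']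
    [Algebra R R'] (f : R) (h : EtGlue.IsGlueingPair R R' f) :
    Subsingleton (DRing.Tor R 1 R' (R ⧸ DRing.torsionSub (Ideal.span ({f} : Set R)) R)) := by
  have h3 : CategoryTheory.Limits.IsZero
      (((CategoryTheory.Tor (ModuleCat.{u} R) 2).obj (ModuleCat.of R R')).obj
        (ModuleCat.of R (LocalizedModule (Submonoid.powers f) R ⧸
          LinearMap.range (LocalizedModule.mkLinearMap (Submonoid.powers f) R)))) :=
    Groth.Agent.Helper13Glue.isZero_tor_of_torsion f h _
      (Groth.Agent.Helper13Glue.torsion_coker_mk f R) 2 (by omega)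
  have h2 : CategoryTheory.Limits.IsZero
      (((CategoryTheory.Tor (ModuleCat.{u} R) 1).obj (ModuleCat.of R R')).obj
        (ModuleCat.of R (LocalizedModule (Submonoid.powers f) R))) :=
    Groth.Agent.Helper13Tor.isZero_tor_of_flat_right (ModuleCat.of R R')
      (ModuleCat.of R (LocalizedModule (Submonoid.powers f) R)) 1 Nat.one_pos
  have h1 := Groth.Agent.Helper13Tor.isZero_tor₂_X₁ (ModuleCat.of R R')
      (Groth.Agent.Helper13Glue.sesSub
        (LinearMap.range (LocalizedModule.mkLinearMap (Submonoid.powers f) R)))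
      (Groth.Agent.Helper13Glue.sesSub_shortExact _) 1 h3 h2
  let e : (R ⧸ DRing.torsionSub (Ideal.span ({f} : Set R)) R) ≃ₗ[R]
      LinearMap.range (LocalizedModule.mkLinearMap (Submonoid.powers f) R) :=
    (Submodule.quotEquivOfEq _ _ (torsionSub_eq_ker f)).trans
      (LocalizedModule.mkLinearMap (Submonoid.powers f) R).quotKerEquivRange
  exact ModuleCat.subsingleton_of_isZero (h1.of_iso
    (((CategoryTheory.Tor (ModuleCat.{u} R) 1).obj (ModuleCat.of R R')).mapIso e.toModuleIso))

end Groth.Agent.S7063
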