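import Groth.Statements.S7065
import Mathlib.RingTheory.Spectrum.Prime.Topology

set_option autoImplicit false
universe u
open EtGlue

namespace Groth.Agent.S7065

/-- Let R → R' be a homomorphism of commutative rings and f an element of R such that the induced map
R/fR → R'/fR' is bijective. Then Spec(R') ⊔ Spec(R_f) → Spec(R) is surjective: every prime of R is
the contraction of a prime of R' or of a prime of R_f. -/
theorem result {R R' : Type u} [CommRing R] [CommRing R']
    [Algebra R R'] (f : R)
    (hq : Function.Bijective
      (Ideal.quotientMap (Ideal.map (algebraMap R R') (Ideal.span {f})) (algebraMap R R') Ideal.le_comap_map))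
    (p : PrimeSpectrum R) :
    (∃ q : PrimeSpectrum R', PrimeSpectrum.comap (algebraMap R R') q = p) ∨
      ∃ q : PrimeSpectrum (Localization.Away f), PrimeSpectrum.comap (algebraMap R (Localization.Away f)) q = p := by
  by_cases hf : f ∈ p.asIdeal
  · left
    set I := Ideal.span ({f} : Set R)
    set I' := Ideal.map (algebraMap R R') I
    set qm := Ideal.quotientMap I' (algebraMap R R') Ideal.le_comap_map
    have hp : p ∈ Set.range (PrimeSpectrum.comap (Ideal.Quotient.mk I)) := by
      rw [range_comap_of_surjective _ _ Ideal.Quotient.mk_surjective,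
        Ideal.mk_ker, PrimeSpectrum.mem_zeroLocus]
      intro x hx
      obtain ⟨a, rfl⟩ := Ideal.mem_span_singleton'.mp hx
      exact Ideal.mul_mem_left _ _ hf
    obtain ⟨pbar, hpbar⟩ := hp
    let e := RingEquiv.ofBijective qm hq
    let qbar := PrimeSpectrum.comap e.symm.toRingHom pbar
    have h1 : PrimeSpectrum.comap qm qbar = pbar := by
      change PrimeSpectrum.comap qm (PrimeSpectrum.comap e.symm.toRingHom pbar) = pbar
      rw [← PrimeSpectrum.comap_comp_apply]
      have : e.symm.toRingHom.comp qm = RingHom.id _ := by
        ext x
        exact e.symm_apply_apply x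
      rw [this, PrimeSpectrum.comap_id]
    refine ⟨PrimeSpectrum.comap (Ideal.Quotient.mk I') qbar, ?_⟩
    have hcomp : (Ideal.Quotient.mk I').comp (algebraMap R R') = qm.comp (Ideal.Quotient.mk I) :=
      (Ideal.quotientMap_comp_mk Ideal.le_comap_map).symm
    calc PrimeSpectrum.comap (algebraMap R R') (PrimeSpectrum.comap (Ideal.Quotient.mk I') qbar)
        = PrimeSpectrum.comap ((Ideal.Quotient.mk I').comp (algebraMap R R')) qbar :=
          (PrimeSpectrum.comap_comp_apply _ _ _).symm
      _ = PrimeSpectrum.comap (qm.comp (Ideal.Quotient.mk I)) qbar := by rw [hcomp]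
      _ = PrimeSpectrum.comap (Ideal.Quotient.mk I) (PrimeSpectrum.comap qm qbar) :=
          PrimeSpectrum.comap_comp_apply _ _ _
      _ = PrimeSpectrum.comap (Ideal.Quotient.mk I) pbar := by rw [h1]
      _ = p := hpbar
  · right
    have : p ∈ Set.range (PrimeSpectrum.comap (algebraMap R (Localization.Away f))) := by
      rw [PrimeSpectrum.localization_away_comap_range (Localization.Away f) f]
      exact hf
    exact this

end Groth.Agent.S7065
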