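import Groth.Statements.S7073
import Mathlib
import Groth.Agent.S6954
import Groth.Agent.Lib.Helper1Restrict
-- import your own Groth.Agent.* helpers here

set_option autoImplicit false
universe u
attribute [local instance] HasDerivedCategory.standard
open Dual2

namespace Groth.Agent.S7073

open CategoryTheory CategoryTheory.Limits Groth.Agent.Lib.Helper1.Restrict

/-- restriction of scalars of a flat module along a flat algebra map is flat -/
theorem flat_restrictScalars (R A : Type u) [CommRing R] [CommRing A] [Algebra R A]
    [Module.Flat R A] (M : ModuleCat.{u} A) [Module.Flat A M] :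
    Module.Flat R ((ModuleCat.restrictScalars.{u} (algebraMap R A)).obj M) := by
  letI : Module R M := Module.compHom M (algebraMap R A)
  haveI : IsScalarTower R A M := IsScalarTower.of_algebraMap_smul (fun r m => rfl)
  have h : Module.Flat R M := Module.Flat.trans R A M
  exact h

/-- For a flat homomorphism of finite presentation R → A of commutative rings, every perfect object of
D(A) is R-perfect, i.e. pseudo-coherent over A and of finite tor dimension as a complex of
R-modules. -/
theorem result (R A : Type u) [CommRing R] [CommRing A] [Algebra R A]
    [Module.Flat R A] [Algebra.FinitePresentation R A] (K : Dual.D A) (hK : DRing.IsPerfect A K) :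
    Dual2.IsRelPerfect R A K := by
  refine ⟨((Groth.Agent.S6954.result A K).1 hK).1, ?_⟩
  obtain ⟨E, a, b, hE, hEp, ⟨e⟩⟩ := hK
  refine ⟨a, b, (DRing.restrictCx (algebraMap R A)).obj E, ?_, ?_,
    ⟨(restrictQIso _ E).symm ≪≫ (DRing.restrictD (algebraMap R A)).mapIso e⟩⟩
  · intro i hi
    exact (ModuleCat.restrictScalars.{u} (algebraMap R A)).map_isZero (hE i hi)
  · intro i
    have := (hEp i).2
    have : Module.Flat A (E.X i) := inferInstance
    exact flat_restrictScalars R A (E.X i)

end Groth.Agent.S7073
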