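import Groth.Statements.S7074
import Mathlib
import Groth.Agent.Lib.Helper10FlatPC3
import Groth.Agent.Lib.Helper1TorG
import Groth.Agent.Lib.Helper1Restrict
import Groth.Agent.S6938
-- import your own Groth.Agent.* helpers here

set_option autoImplicit false
universe u
attribute [local instance] HasDerivedCategory.standard
open CategoryTheory
open Dual2

namespace Groth.Agent.S7074

/-- For a flat homomorphism of finite presentation R → A of commutative rings and an object K of D(A), K
is R-perfect (pseudo-coherent over A and of finite tor dimension over R) if and only if K is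
isomorphic in D(A) to a bounded complex whose terms are finitely presented A-modules that are flat
as R-modules. -/
theorem result (R A : Type u) [CommRing R] [CommRing A] [Algebra R A]
    [Module.Flat R A] [Algebra.FinitePresentation R A] (K : Dual.D A) :
    Dual2.IsRelPerfect R A K ↔
      ∃ (E : DRing.Cx A) (a b : ℤ), DRing.VanishesOutside E a b ∧
        (∀ i : ℤ, Module.FinitePresentation A (E.X i) ∧
          Module.Flat R ((ModuleCat.restrictScalars (algebraMap R A)).obj (E.X i))) ∧
        Nonempty (DRing.toD E ≅ K) := by
  classical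
  let φ : R →+* A := algebraMap R A
  -- restriction of scalars of a flat `A`-module is `R`-flat
  have hflatRes : ∀ (X : ModuleCat.{u} A), Module.Flat A X →
      Module.Flat R ((ModuleCat.restrictScalars φ).obj X) := by
    intro X hX
    letI : Module R X := Module.compHom X φ
    haveI : IsScalarTower R A X := IsScalarTower.of_algebraMap_smul (fun r m => rfl)
    exact (Module.Flat.trans R A X : Module.Flat R X)
  have hflatIso : ∀ {X Y : ModuleCat.{u} A} (e : X ≅ Y),
      Module.Flat R ((ModuleCat.restrictScalars φ).obj Y) →
      Module.Flat R ((ModuleCat.restrictScalars φ).obj X) := by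
    intro X Y e h
    exact Module.Flat.of_linearEquiv ((ModuleCat.restrictScalars φ).mapIso e).toLinearEquiv
  constructor
  · rintro ⟨⟨F, bF, hFb, hFf, ⟨eF⟩⟩, a, b, E, hE, hEf, ⟨eE⟩⟩
    set G : DRing.Cx R := (DRing.restrictCx φ).obj F with hG
    have hGb : DRing.VanishesAbove G bF := fun i hi =>
      (ModuleCat.restrictScalars φ).map_isZero (hFb i hi)
    have hFflat : ∀ i, Module.Flat A (F.X i) := fun i =>
      have := (hFf i).2
      inferInstance
    have hGflat : DRing.TermwiseFlat G := fun i => hflatRes (F.X i) (hFflat i)
    have eG : DerivedCategory.Q.obj E ≅ DerivedCategory.Q.obj G :=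
      eE ≪≫ (DRing.restrictD φ).mapIso eF.symm ≪≫
        Groth.Agent.Lib.Helper1.Restrict.restrictQIso φ F
    have htv : Groth.Agent.Lib.Helper1.Tor.TorVan G a b :=
      Groth.Agent.Lib.Helper1.Tor.torVan_of_iso G E bF hGb hGflat a b hE hEf eG
    have hFge : CochainComplex.IsGE F a := by
      rw [CochainComplex.isGE_iff]
      exact fun i hi => (Groth.Agent.Lib.Helper1.Restrict.exactAt_restrict_iff φ F i).1
        (htv.exactAt i (Or.inl hi))
    have hq : QuasiIso (F.πTruncGE a) := (F.quasiIso_πTruncGE_iff a).2 hFge
    have hiso : IsIso (DerivedCategory.Q.map (F.πTruncGE a)) :=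
      (DerivedCategory.isIso_Q_map_iff_quasiIso (φ := F.πTruncGE a)).2 hq
    have hsurj : Function.Surjective (F.pOpcycles a).hom :=
      (ModuleCat.epi_iff_surjective _).1 inferInstance
    have hexd := Groth.Agent.Lib.Helper1.Tor.fexact_d_pOpcycles F a
    have hopflat : Module.Flat R ((ModuleCat.restrictScalars φ).obj (F.opcycles a)) :=
      Groth.Agent.Lib.Helper1.Tor.flat_of_torVan G hGflat a b htv
        ((ModuleCat.restrictScalars φ).map (F.pOpcycles a)).hom hsurj hexd
    refine ⟨F.truncGE a, a, max bF a, ?_, ?_, ⟨(asIso (DerivedCategory.Q.map (F.πTruncGE a))).symm ≪≫ eF⟩⟩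
    · rintro i (hi | hi)
      · exact (F.truncGE a).isZero_of_isStrictlyGE a i hi
      · have hi1 : a < i := lt_of_le_of_lt (le_max_right _ _) hi
        have hi2 : bF < i := lt_of_le_of_lt (le_max_left _ _) hi
        exact (hFb i hi2).of_iso (F.truncGEXIso a i hi1)
    · intro i
      obtain hi | rfl | hi := lt_trichotomy i a
      · have hz : Limits.IsZero ((F.truncGE a).X i) := (F.truncGE a).isZero_of_isStrictlyGE a i hi
        haveI := ModuleCat.subsingleton_of_isZero hz
        haveI : Subsingleton ((ModuleCat.restrictScalars φ).obj ((F.truncGE a).X i)) :=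
          ModuleCat.subsingleton_of_isZero ((ModuleCat.restrictScalars φ).map_isZero hz)
        exact ⟨inferInstance, inferInstance⟩
      · have := (hFf i).1
        have := (hFf i).2
        have := (hFf (i - 1)).1
        have : Module.FinitePresentation A (F.X i) := Module.finitePresentation_of_projective A _
        have hfp : Module.FinitePresentation A (F.opcycles i) := by
          refine Module.finitePresentation_of_surjective (F.pOpcycles i).hom hsurj ?_
          rw [LinearMap.exact_iff.1 hexd, LinearMap.range_eq_map]
          exact Submodule.FG.map _ Module.Finite.fg_top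
        exact ⟨Module.FinitePresentation.of_equiv (F.truncGEXIsoOpcycles i).toLinearEquiv.symm,
          hflatIso (F.truncGEXIsoOpcycles i) hopflat⟩
      · have := (hFf i).1
        have := (hFf i).2
        have : Module.FinitePresentation A (F.X i) := Module.finitePresentation_of_projective A _
        exact ⟨Module.FinitePresentation.of_equiv (F.truncGEXIso a i hi).toLinearEquiv.symm,
          hflatIso (F.truncGEXIso a i hi) (hflatRes (F.X i) (hFflat i))⟩
  · rintro ⟨E, a, b, hE, hterm, ⟨e⟩⟩
    constructor
    · have hpcE : DRing.IsPseudoCoherent' A (DRing.toD E) := by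
        refine (Groth.Agent.S6938.result A 0 E b (fun i hi => hE i (Or.inr hi))).2 (fun i => ?_)
        haveI := (hterm i).1
        letI : Module R (E.X i) := Module.compHom (E.X i) φ
        haveI : IsScalarTower R A (E.X i) := IsScalarTower.of_algebraMap_smul (fun r m => rfl)
        haveI : Module.Flat R (E.X i) := (hterm i).2
        exact Groth.Agent.Lib.Helper10.FlatPC.isPC'_of_fp_of_flat R A (E.X i)
      obtain ⟨F, bF, h1, h2, ⟨e'⟩⟩ := hpcE
      exact ⟨F, bF, h1, h2, ⟨e' ≪≫ e⟩⟩
    · refine ⟨a, b, (DRing.restrictCx φ).obj E, ?_, ?_, ⟨?_⟩⟩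
      · intro i hi
        exact (ModuleCat.restrictScalars φ).map_isZero (hE i hi)
      · intro i
        exact (hterm i).2
      · exact (Groth.Agent.Lib.Helper1.Restrict.restrictQIso φ E).symm ≪≫
          (DRing.restrictD φ).mapIso e

end Groth.Agent.S7074
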