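import Groth.Statements.S7075
import Mathlib
import Groth.Agent.Lib.Helper1RelBC
import Groth.Agent.S7073
-- import your own Groth.Agent.* helpers here

set_option autoImplicit false
universe u
attribute [local instance] HasDerivedCategory.standard
open TensorProduct
open Dual2

namespace Groth.Agent.S7075

open CategoryTheory CategoryTheory.Limits DerivedCategory Groth.Agent.Lib.Helper1.Tor
  Groth.Agent.Lib.Helper1.Restrict Groth.Agent.Lib.Helper1.LDer Groth.Agent.Lib.Helper1.RelBC

/-- Let R → A be a flat homomorphism of finite presentation of commutative rings, R → R' any ring map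
and A' = R' ⊗_R A. If K in D(A) is R-perfect then its derived base change K ⊗^L_A A' (the total left
derived functor of extension of scalars, assumed to exist) is R'-perfect in D(A'). -/
theorem result (R A R' : Type u) [CommRing R] [CommRing A] [Algebra R A] [CommRing R'] [Algebra R R']
    [Module.Flat R A] [Algebra.FinitePresentation R A]
    [DRing.HasLBaseChange (Algebra.TensorProduct.includeRight.toRingHom : A →+* R' ⊗[R] A)]
    (K : Dual.D A) (hK : Dual2.IsRelPerfect R A K) :
    Dual2.IsRelPerfect R' (R' ⊗[R] A)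
      ((DRing.LBaseChange (Algebra.TensorProduct.includeRight.toRingHom : A →+* R' ⊗[R] A)).obj K) := by
  obtain ⟨⟨P, bP, hPb, hPf, ⟨e⟩⟩, a, b, E₀, hE₀, hE₀f, ⟨e₀⟩⟩ := hK
  have hKP : P.IsKProjective := isKProjective_of_vanishesAbove P bP hPb (fun i => by
    have := (hPf i).2
    infer_instance)
  have e' : (DRing.LBaseChange (inr R R' A)).obj K ≅ DRing.toD ((bcCx (inr R R' A)).obj P) :=
    (DRing.LBaseChange (inr R R' A)).mapIso e.symm ≪≫ lbcIso (inr R R' A) P
  refine ⟨⟨(bcCx (inr R R' A)).obj P, bP, vanishesAbove_bc _ P bP hPb,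
    termwiseFiniteFree_bc _ P hPf, ⟨e'.symm⟩⟩, a, b, ?_⟩
  -- finite tor dimension
  set G := (DRing.restrictCx (algebraMap R A)).obj P with hG
  have hGb : DRing.VanishesAbove G bP := fun i hi =>
    (ModuleCat.restrictScalars.{u} (algebraMap R A)).map_isZero (hPb i hi)
  have hGf : DRing.TermwiseFlat G := fun i => by
    have := (hPf i).2
    have : Module.Flat A (P.X i) := inferInstance
    exact Groth.Agent.S7073.flat_restrictScalars R A (P.X i)
  have eG : Q.obj G ≅ (DRing.restrictD (algebraMap R A)).obj K :=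
    (restrictQIso _ P).symm ≪≫ (DRing.restrictD (algebraMap R A)).mapIso e
  have htv : TorVan G a b := torVan_of_iso G E₀ bP hGb hGf a b hE₀ hE₀f (e₀ ≪≫ eG.symm)
  have htv' := torVan_res_bc (R' := R') P a b htv
  set G' := (DRing.restrictCx (algebraMap R' (R' ⊗[R] A))).obj ((bcCx (inr R R' A)).obj P) with hG'
  have hG'b : DRing.VanishesAbove G' bP := fun i hi =>
    (ModuleCat.restrictScalars.{u} (algebraMap R' (R' ⊗[R] A))).map_isZero
      (vanishesAbove_bc _ P bP hPb i hi)
  have hG'f : DRing.TermwiseFlat G' := fun i => by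
    have := (hPf i).2
    have : Module.Free (R' ⊗[R] A) (((bcCx (inr R R' A)).obj P).X i) := free_bc _ (P.X i)
    have : Module.Flat (R' ⊗[R] A) (((bcCx (inr R R' A)).obj P).X i) := inferInstance
    exact Groth.Agent.S7073.flat_restrictScalars R' (R' ⊗[R] A) (((bcCx (inr R R' A)).obj P).X i)
  have h1 := hasTorAmp_of_torVan G' bP hG'b hG'f a b htv'
  refine hasTorAmp_of_iso ?_ h1
  exact (restrictQIso _ ((bcCx (inr R R' A)).obj P)).symm ≪≫
    (DRing.restrictD (algebraMap R' (R' ⊗[R] A))).mapIso e'.symm

end Groth.Agent.S7075
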