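import Groth.Statements.S7078
import Mathlib
import Groth.Agent.Lib.Helper1TwoTerm
-- import your own Groth.Agent.* helpers here

set_option autoImplicit false
universe u
attribute [local instance] HasDerivedCategory.standard
open CategoryTheory
open DRing

namespace Groth.Agent.S7078

open DerivedCategory Pretriangulated Limits
open Groth.Agent.S14388 Groth.Agent.Lib.Helper1.TwoTerm

/-- For a commutative ring R and an object K of D(R) whose cohomology modules vanish outside degrees -1
and 0, K is represented by a two-term complex K^{-1} → K^0 with K^0 a free R-module. -/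
theorem result {R : Type u} [CommRing R] (K : Dual.D R)
    (hK : ∀ i : ℤ, i ≠ -1 → i ≠ 0 → Subsingleton (Dual.HD R K i)) :
    ∃ E : DRing.Cx R, DRing.VanishesOutside E (-1) 0 ∧ Module.Free R (E.X 0) ∧ Nonempty (DRing.toD E ≅ K) := by
  have hKLE : K.IsLE 0 := (isLE_iff _ _).2 (fun i hi =>
    have := hK i (by omega) (by omega); ModuleCat.isZero_of_subsingleton _)
  have hKGE : K.IsGE (-1) := (isGE_iff _ _).2 (fun i hi =>
    have := hK i (by omega) (by omega); ModuleCat.isZero_of_subsingleton _)
  let F : ModuleCat.{u} R := ModuleCat.of R (Dual.HD R K 0 →₀ R)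
  have hFproj : Projective F := ModuleCat.projective_of_categoryTheory_projective _
  let p : F ⟶ (homologyFunctor (ModuleCat.{u} R) 0).obj K :=
    ModuleCat.ofHom (Finsupp.linearCombination R id)
  have hp : Epi p := (ModuleCat.epi_iff_surjective _).2 (Finsupp.linearCombination_id_surjective R _)
  obtain ⟨E, hE, ⟨x₁⟩, ⟨e⟩⟩ := exists_twoTerm_rep K F p
  have hfree : Module.Free R (E.X 0) := Module.Free.of_equiv x₁.symm.toLinearEquiv
  exact ⟨E, fun i hi => hE i (by omega) (by omega), hfree, ⟨e⟩⟩

end Groth.Agent.S7078
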