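import Groth.Statements.S7079
import Mathlib
import Groth.Agent.Lib.Helper1TwoTerm
-- import your own Groth.Agent.* helpers here

set_option autoImplicit false
universe u
attribute [local instance] HasDerivedCategory.standard
open CategoryTheory
open DRing

namespace Groth.Agent.S7079

open DerivedCategory Pretriangulated Limits
open Groth.Agent.S14388 Groth.Agent.Lib.Helper1.TwoTerm

/-- for a two-term complex `E` representing `K`, the kernel of the differential is `H⁻¹(K)` -/
lemma nonempty_iso_ker {R : Type u} [CommRing R] (K : DerivedCategory (ModuleCat.{u} R))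
    (E : CochainComplex (ModuleCat.{u} R) ℤ)
    (hE : ∀ i : ℤ, i ≠ -1 → i ≠ 0 → IsZero (E.X i)) (e : Q.obj E ≅ K) :
    Nonempty ((homologyFunctor (ModuleCat.{u} R) (-1)).obj K ≅
      ModuleCat.of R (LinearMap.ker (E.d (-1) 0).hom)) := by
  have hd0 : E.d (-2) (-1) = 0 := (hE (-2) (by decide) (by decide)).eq_of_src _ _
  obtain ⟨θ, -⟩ : ∃ θ : E.cycles (-1) ≅ E.homology (-1), True :=
    ⟨HomologicalComplex.isoHomologyπ E (-2) (-1) (by simp) hd0, trivial⟩
  exact ⟨(homologyFunctor (ModuleCat.{u} R) (-1)).mapIso e.symm ≪≫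
    (homologyFunctorFactors (ModuleCat.{u} R) (-1)).app E ≪≫ θ.symm ≪≫
    IsLimit.conePointUniqueUpToIso (E.cyclesIsKernel (-1) 0 (by simp))
      (ModuleCat.kernelIsLimit (E.d (-1) 0))⟩

/-- For a Noetherian commutative ring R and an object K of D(R) whose cohomology modules vanish outside
degrees -1 and 0 and are finite modules in those two degrees, K is represented by a two-term complex
K^{-1} → K^0 with K^0 finite free and K^{-1} finite. -/
theorem result {R : Type u} [CommRing R] [IsNoetherianRing R] (K : Dual.D R)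
    (hK : ∀ i : ℤ, i ≠ -1 → i ≠ 0 → Subsingleton (Dual.HD R K i))
    (h1 : Module.Finite R (Dual.HD R K (-1))) (h0 : Module.Finite R (Dual.HD R K 0)) :
    ∃ E : DRing.Cx R, DRing.VanishesOutside E (-1) 0 ∧ Module.Free R (E.X 0) ∧ Module.Finite R (E.X 0) ∧
      Module.Finite R (E.X (-1)) ∧ Nonempty (DRing.toD E ≅ K) := by
  have hKLE : K.IsLE 0 := (isLE_iff _ _).2 (fun i hi =>
    have := hK i (by omega) (by omega); ModuleCat.isZero_of_subsingleton _)
  have hKGE : K.IsGE (-1) := (isGE_iff _ _).2 (fun i hi =>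
    have := hK i (by omega) (by omega); ModuleCat.isZero_of_subsingleton _)
  obtain ⟨n, f, hf⟩ := Module.Finite.exists_fin' R (Dual.HD R K 0)
  let F : ModuleCat.{u} R := ModuleCat.of R (Fin n → R)
  have hFproj : Projective F := ModuleCat.projective_of_categoryTheory_projective _
  let p : F ⟶ (homologyFunctor (ModuleCat.{u} R) 0).obj K := ModuleCat.ofHom f
  have hp : Epi p := (ModuleCat.epi_iff_surjective _).2 hf
  obtain ⟨E, hE, ⟨x₁⟩, ⟨e⟩⟩ := exists_twoTerm_rep K F p
  have hfree : Module.Free R (E.X 0) := Module.Free.of_equiv x₁.symm.toLinearEquiv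
  have hfin0 : Module.Finite R (E.X 0) := Module.Finite.equiv x₁.symm.toLinearEquiv
  refine ⟨E, fun i hi => hE i (by omega) (by omega), hfree, hfin0, ?_, ⟨e⟩⟩
  obtain ⟨κ⟩ := nonempty_iso_ker K E hE e
  have hker : Module.Finite R (LinearMap.ker (E.d (-1) 0).hom) :=
    Module.Finite.equiv κ.toLinearEquiv
  have hnoeth : IsNoetherian R (E.X 0) := isNoetherian_of_isNoetherianRing_of_finite R _
  have hrange : Module.Finite R (LinearMap.range (E.d (-1) 0).hom) :=
    Module.IsNoetherian.finite R _
  have hquot : Module.Finite R (E.X (-1) ⧸ LinearMap.ker (E.d (-1) 0).hom) :=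
    Module.Finite.equiv (LinearMap.quotKerEquivRange (E.d (-1) 0).hom).symm
  exact Module.Finite.of_submodule_quotient (LinearMap.ker (E.d (-1) 0).hom)

end Groth.Agent.S7079
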