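import Groth.Statements.S7081
import Mathlib
import Groth.Agent.S14388
import Groth.Agent.S14100
-- import your own Groth.Agent.* helpers here

set_option autoImplicit false
universe u
attribute [local instance] HasDerivedCategory.standard
open CategoryTheory
open DRing

namespace Groth.Agent.S7081

open DerivedCategory Pretriangulated Limits
open Groth.Agent.S14388

/-- Let R be a commutative ring and φ : K₁ → K₂, ψ : K₂ → K₃ morphisms in D(R) between objects whose
cohomology vanishes outside degrees -1 and 0. If φ induces the zero map on H^0 and ψ induces the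
zero map on H^{-1}, then the composite K₁ → K₃ is zero. -/
theorem result {R : Type u} [CommRing R] {K₁ K₂ K₃ : Dual.D R}
    (φ : K₁ ⟶ K₂) (ψ : K₂ ⟶ K₃)
    (h₁ : ∀ i : ℤ, i ≠ -1 → i ≠ 0 → Subsingleton (Dual.HD R K₁ i))
    (h₂ : ∀ i : ℤ, i ≠ -1 → i ≠ 0 → Subsingleton (Dual.HD R K₂ i))
    (h₃ : ∀ i : ℤ, i ≠ -1 → i ≠ 0 → Subsingleton (Dual.HD R K₃ i))
    (hφ : (DerivedCategory.homologyFunctor (ModuleCat.{u} R) 0).map φ = 0)
    (hψ : (DerivedCategory.homologyFunctor (ModuleCat.{u} R) (-1)).map ψ = 0) :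
    φ ≫ ψ = 0 := by
  have hK₁LE : K₁.IsLE 0 := (isLE_iff _ _).2 (fun i hi =>
    have := h₁ i (by omega) (by omega); ModuleCat.isZero_of_subsingleton _)
  have hK₂LE : K₂.IsLE 0 := (isLE_iff _ _).2 (fun i hi =>
    have := h₂ i (by omega) (by omega); ModuleCat.isZero_of_subsingleton _)
  have hK₂GE : K₂.IsGE (-1) := (isGE_iff _ _).2 (fun i hi =>
    have := h₂ i (by omega) (by omega); ModuleCat.isZero_of_subsingleton _)
  have hK₃GE : K₃.IsGE (-1) := (isGE_iff _ _).2 (fun i hi =>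
    have := h₃ i (by omega) (by omega); ModuleCat.isZero_of_subsingleton _)
  have e1 : φ ≫ (tt.truncGEπ 0).app K₂ = 0 := by
    have hnat := (tt.truncGEπ 0).naturality φ
    dsimp at hnat
    rw [hnat]
    have : (tt.truncGE 0).map φ = 0 :=
      Groth.Agent.S14100.eq_zero_of_amp_zero 0 _ (homology_truncGE_map_eq_zero' 0 0 φ hφ)
    rw [this, comp_zero]
  obtain ⟨g, hg⟩ : ∃ g : K₁ ⟶ (tt.truncLT 0).obj K₂, φ = g ≫ (tt.truncLTι 0).app K₂ :=
    Triangle.coyoneda_exact₂ _ (tt.triangleLTGE_distinguished 0 K₂) φ e1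
  have e2 : (tt.truncLTι 0).app K₂ ≫ ψ = 0 := by
    have hnat := (tt.truncLTι 0).naturality ψ
    dsimp at hnat
    rw [← hnat]
    have i1 : ((tt.truncLT 0).obj K₂).IsLE (-1) :=
      (inferInstance : ((tt.truncLT 0).obj K₂).IsLE (0 - 1))
    have i2 : ((tt.truncLT 0).obj K₃).IsLE (-1) :=
      (inferInstance : ((tt.truncLT 0).obj K₃).IsLE (0 - 1))
    have : (tt.truncLT 0).map ψ = 0 :=
      Groth.Agent.S14100.eq_zero_of_amp_zero (-1) _ (homology_truncLT_map_eq_zero' 0 (-1) ψ hψ)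
    rw [this, zero_comp]
  rw [hg, Category.assoc, e2, comp_zero]

end Groth.Agent.S7081
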