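import Groth.Statements.S7084
import Mathlib
import Groth.Agent.Lib.Helper1TorN
import Groth.Agent.Lib.Helper1TorD
-- import your own Groth.Agent.* helpers here

set_option autoImplicit false
universe u
attribute [local instance] HasDerivedCategory.standard
open CategoryTheory
open LocCoh

namespace Groth.Agent.S7084

open DerivedCategory Groth.Agent.Lib.Helper1.KF Groth.Agent.Lib.Helper1.Tor
  Groth.Agent.Lib.Helper1.DT Groth.Agent.Lib.Helper1.LDer Groth.Agent.Lib.Helper1.TorM
  Groth.Agent.Lib.Helper1.TorN CategoryTheory.Limits

/-- Parts (1)–(2) in the case of a module killed by a power of the ideal: let R be a commutative ring, I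
an ideal and K an object of D(R) such that K ⊗^L_R R/I has no cohomology in positive degrees. Then
for every R-module N annihilated by some power of I, K ⊗^L_R N has no cohomology in positive
degrees. (The published statement allows any I-power torsion module N; this row takes N annihilated
by a single power of I, the case the published argument carries out in full, which contains the case
N = R/I^n.) The derived tensor products with modules are total left derived functors, assumed to
exist. -/
theorem result {R : Type u} [CommRing R] (I : Ideal R)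
    [DRing.HasLTensor R (ModuleCat.of R (R ⧸ I))] (K : Dual.D R)
    (hK : ∀ i : ℤ, 0 < i → Subsingleton (Dual.HD R ((DRing.LTensor R (ModuleCat.of R (R ⧸ I))).obj K) i))
    (N : Type u) [AddCommGroup N] [Module R N] (n : ℕ) (hN : I ^ n • (⊤ : Submodule R N) = ⊥)
    [DRing.HasLTensor R (ModuleCat.of R N)] (i : ℤ) (hi : 0 < i) :
    Subsingleton (Dual.HD R ((DRing.LTensor R (ModuleCat.of R N)).obj K) i) := by
  obtain ⟨F, hF, hproj, ⟨e⟩⟩ := exists_kproj_iso K
  have hFf : DRing.TermwiseFlat F := fun i =>
    have := hproj i
    have : Module.Projective R (F.X i) := ModuleCat.projective_of_module_projective _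
    inferInstance
  have h0 : ∀ j : ℤ, 0 < j → ((TC (ModuleCat.of R (R ⧸ I))).obj F).ExactAt j := by
    intro j hj
    have hs := hK j hj
    have hz : IsZero ((homologyFunctor (ModuleCat.{u} R) j).obj
        ((DRing.LTensor R (ModuleCat.of R (R ⧸ I))).obj K)) :=
      @ModuleCat.isZero_of_subsingleton _ _ _ hs
    have hz' : IsZero ((homologyFunctor (ModuleCat.{u} R) j).obj
        (Q.obj ((tCx (ModuleCat.of R (R ⧸ I))).obj F))) :=
      hz.of_iso ((homologyFunctor _ j).mapIso
        ((ltIso (ModuleCat.of R (R ⧸ I)) F).symm ≪≫
          (DRing.LTensor R (ModuleCat.of R (R ⧸ I))).mapIso e))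
    rw [← exactAt_iff_isZero_H, exactAt_tCx_iff] at hz'
    exact hz'
  have hN' : ∀ r ∈ I ^ n, ∀ x : N, r • x = 0 := by
    intro r hr x
    have : r • x ∈ I ^ n • (⊤ : Submodule R N) := Submodule.smul_mem_smul hr Submodule.mem_top
    rw [hN] at this
    exact (Submodule.mem_bot R).1 this
  have h1 : ((TC (ModuleCat.of R N)).obj F).ExactAt i :=
    exactAt_TC_of_pow_smul_eq_zero I F hFf 0 h0 i hi n N hN'
  rw [← exactAt_tCx_iff, exactAt_iff_isZero_H] at h1
  exact ModuleCat.subsingleton_of_isZero (h1.of_iso ((homologyFunctor _ i).mapIso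
    ((DRing.LTensor R (ModuleCat.of R N)).mapIso e.symm ≪≫ ltIso (ModuleCat.of R N) F)))

end Groth.Agent.S7084
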