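import Groth.Statements.S7085
import Mathlib
-- import your own Groth.Agent.* helpers here

set_option autoImplicit false
universe u
open LocCoh

namespace Groth.Agent.S7085

/-- Let R be a commutative ring, I an ideal generated by finitely many elements f_1, …, f_t, and M an
R-module. Then: M has no nonzero element killed by I if and only if it has no nonzero element killed
by I^n for every n ≥ 1; and M has no nonzero element killed by I if and only if an element of M
vanishing in every localization M_{f_i} is zero. -/
theorem result {R : Type u} [CommRing R] {t : ℕ} (f : Fin t → R)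
    (I : Ideal R) (hI : Ideal.span (Set.range f) = I) (M : Type u) [AddCommGroup M] [Module R M] :
    (LocCoh.torsionBy I M = ⊥ ↔ ∀ n : ℕ, 1 ≤ n → LocCoh.torsionBy (I ^ n) M = ⊥) ∧
    (LocCoh.torsionBy I M = ⊥ ↔
      ∀ m : M, (∀ i : Fin t, LocalizedModule.mkLinearMap (Submonoid.powers (f i)) M m = 0) → m = 0) := by
  classical
  have h1 : LocCoh.torsionBy I M = ⊥ → ∀ n : ℕ, 1 ≤ n → LocCoh.torsionBy (I ^ n) M = ⊥ := by
    intro h n hn
    induction n, hn using Nat.le_induction with
    | base => rwa [pow_one]
    | succ n hn ih =>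
      rw [eq_bot_iff]
      intro m hm
      rw [Submodule.mem_bot]
      have hmI : m ∈ LocCoh.torsionBy I M := by
        rw [Submodule.mem_torsionBySet_iff]
        rintro ⟨a, ha⟩
        have : a • m ∈ LocCoh.torsionBy (I ^ n) M := by
          rw [Submodule.mem_torsionBySet_iff]
          rintro ⟨b, hb⟩
          change b • a • m = 0
          rw [← mul_smul]
          rw [Submodule.mem_torsionBySet_iff] at hm
          exact hm ⟨b * a, by rw [pow_succ]; exact Ideal.mul_mem_mul hb ha⟩
        rw [ih] at this
        exact this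
      rw [h] at hmI
      exact hmI
  refine ⟨⟨h1, fun h => by simpa using h 1 le_rfl⟩, ⟨fun h m hm => ?_, fun h => ?_⟩⟩
  · have hex : ∀ i : Fin t, ∃ n : ℕ, f i ^ n • m = 0 := by
      intro i
      obtain ⟨⟨c, n, rfl⟩, hc⟩ := (IsLocalizedModule.eq_zero_iff (Submonoid.powers (f i))
        (LocalizedModule.mkLinearMap (Submonoid.powers (f i)) M)).1 (hm i)
      exact ⟨n, hc⟩
    choose n hn using hex
    set N := Finset.univ.sup n with hN
    have hN' : ∀ i, f i ^ N • m = 0 := by
      intro i
      have : n i ≤ N := Finset.le_sup (Finset.mem_univ i)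
      obtain ⟨d, hd⟩ := Nat.exists_eq_add_of_le this
      rw [hd, pow_add, mul_comm, mul_smul, hn i, smul_zero]
    set J : Ideal R := Ideal.span (Set.range fun i => f i ^ N) with hJ
    have hJm : ∀ a ∈ J, a • m = 0 := by
      intro a ha
      obtain ⟨c, rfl⟩ := (Ideal.mem_span_range_iff_exists_fun (R := R)).1 ha
      rw [Finset.sum_smul]
      refine Finset.sum_eq_zero fun i _ => ?_
      rw [mul_smul, hN' i, smul_zero]
    have hIJ : I ≤ J.radical := by
      rw [← hI, Ideal.span_le]
      rintro _ ⟨i, rfl⟩
      exact ⟨N, Ideal.subset_span ⟨i, rfl⟩⟩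
    have hIfg : I.FG := by
      rw [← hI]
      exact ⟨Finset.univ.image f, by simp⟩
    obtain ⟨k, hk⟩ := Ideal.exists_pow_le_of_le_radical_of_fg hIJ hIfg
    rcases Nat.eq_zero_or_pos k with rfl | hk0
    · have : (1 : R) ∈ J := hk (by simp)
      simpa using hJm 1 this
    · have hmem : m ∈ LocCoh.torsionBy (I ^ k) M := by
        rw [Submodule.mem_torsionBySet_iff]
        rintro ⟨a, ha⟩
        exact hJm a (hk ha)
      rw [h1 h k hk0] at hmem
      exact hmem
  · rw [eq_bot_iff]
    intro m hm
    rw [Submodule.mem_bot]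
    refine h m fun i => ?_
    rw [IsLocalizedModule.eq_zero_iff (Submonoid.powers (f i))]
    refine ⟨⟨f i, Submonoid.mem_powers _⟩, ?_⟩
    rw [Submodule.mem_torsionBySet_iff] at hm
    exact hm ⟨f i, hI ▸ Ideal.subset_span ⟨i, rfl⟩⟩

end Groth.Agent.S7085
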