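import Groth.Statements.S7088
import Groth.Agent.Lib.Helper10HomKFlat
-- import your own Groth.Agent.* helpers here

set_option autoImplicit false
universe u
attribute [local instance] HasDerivedCategory.standard
open CategoryTheory MonoidalCategory
open DRing

namespace Groth.Agent.S7088

/-- Let R be a commutative ring, P a bounded above cochain complex of projective R-modules whose image
in D(R) is perfect, and K a K-flat complex of R-modules (tensoring with K carries acyclic complexes
to acyclic complexes). Then the Hom complex Hom•(P, K) is again K-flat. -/
theorem result {R : Type u} [CommRing R] (P K : DRing.Cx R) (b : ℤ)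
    (hPb : DRing.VanishesAbove P b) (hPp : ∀ i : ℤ, Module.Projective R (P.X i))
    (hperf : DRing.IsPerfect R (DRing.toD P))
    (hK : ∀ L : DRing.Cx R, (∀ i : ℤ, Limits.IsZero (L.homology i)) →
      ∀ i : ℤ, Limits.IsZero (((tensorRight K).obj L).homology i)) :
    ∀ L : DRing.Cx R, (∀ i : ℤ, Limits.IsZero (L.homology i)) →
      ∀ i : ℤ, Limits.IsZero (((tensorRight (DRing.homCx P K)).obj L).homology i) := by
  haveI : P.IsKProjective := by
    haveI : P.IsStrictlyLE b := by
      rw [CochainComplex.isStrictlyLE_iff]
      exact hPb
    haveI : ∀ n, Projective (P.X n) := fun n =>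
      (IsProjective.iff_projective (R := R) (P := P.X n)).1 (hPp n)
    exact CochainComplex.isKProjective_of_projective P b
  exact Groth.Agent.Lib.Helper10.HomKFlat.HK_of_perfect P hperf K hK

end Groth.Agent.S7088
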