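import Groth.Statements.S7089
import Groth.Agent.Lib.Helper8CovRes

set_option autoImplicit false
universe u
open CategoryTheory
open LocCoh

namespace Groth.Agent.S7089

open CategoryTheory.Limits Groth.Agent.Lib.Helper8.CovRes

section Helpers

variable {R : Type u} [CommRing R] (I : Ideal R)

open Classical in
/-- an exponent killing `x`, if there is one. -/
noncomputable def expo (X : ModuleCat.{u} R) (x : X) : ℕ :=
  if h : ∃ n : ℕ, ∀ a ∈ I ^ n, a • x = 0 then h.choose else 0

open Classical in
/-- the ideal used for the summand indexed by `x`. -/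
noncomputable def JJ (X : ModuleCat.{u} R) (x : X) : Ideal R :=
  if ∃ n : ℕ, ∀ a ∈ I ^ n, a • x = 0 then I ^ (expo I X x) else ⊥

theorem JJ_smul (X : ModuleCat.{u} R) (x : X) : ∀ a ∈ JJ I X x, a • x = 0 := by
  classical
  intro a ha
  unfold JJ at ha
  split_ifs at ha with h
  · unfold expo at ha
    rw [dif_pos h] at ha
    exact h.choose_spec a ha
  · rw [Ideal.mem_bot] at ha
    rw [ha, zero_smul]

/-- the covering module. -/
noncomputable def cov (X : ModuleCat.{u} R) : ModuleCat.{u} R :=
  ModuleCat.of R (DirectSum X (fun x => R ⧸ JJ I X x))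

open Classical in
/-- the covering map. -/
noncomputable def π (X : ModuleCat.{u} R) : cov I X ⟶ X :=
  ModuleCat.ofHom (DirectSum.toModule R X X (fun x =>
    (JJ I X x).liftQ (LinearMap.toSpanSingleton R X x) (fun a ha => by
      rw [LinearMap.mem_ker]
      exact JJ_smul I X x a ha)))

instance epi_π (X : ModuleCat.{u} R) : Epi (π I X) := by
  classical
  rw [ModuleCat.epi_iff_surjective]
  intro x
  refine ⟨DirectSum.lof R X (fun x => R ⧸ JJ I X x) x (Submodule.Quotient.mk 1), ?_⟩
  show (DirectSum.toModule R X X _) (DirectSum.lof R X _ x _) = x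
  rw [DirectSum.toModule_lof]
  show (1 : R) • x = x
  rw [one_smul]

/-- power torsion modules. -/
def TT : ObjectProperty (ModuleCat.{u} R) := fun X => LocCoh.IsPowerTorsion I X

/-- sums of `R ⧸ I ^ n`. -/
def PP : ObjectProperty (ModuleCat.{u} R) := fun X =>
  ∃ (ι : Type u) (n : ι → ℕ), Nonempty (X ≅ ModuleCat.of R (DirectSum ι fun j => R ⧸ I ^ n j))

instance : (PP I).IsClosedUnderIsomorphisms where
  of_iso := by
    rintro X Y e ⟨ι, n, ⟨f⟩⟩
    exact ⟨ι, n, ⟨e.symm ≪≫ f⟩⟩

theorem TT_of_iso {X Y : ModuleCat.{u} R} (e : X ≅ Y) (h : TT I X) : TT I Y := by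
  intro y
  obtain ⟨n, hn⟩ := h (e.inv y)
  refine ⟨n, fun a ha => ?_⟩
  have h1 := hn a ha
  have h2 : e.hom (a • e.inv y) = 0 := by rw [h1, map_zero]
  rw [map_smul] at h2
  have h3 : e.hom (e.inv y) = y := by
    rw [← ModuleCat.comp_apply, e.inv_hom_id]
    rfl
  rwa [h3] at h2

instance : (TT I).IsClosedUnderIsomorphisms where
  of_iso := fun e h => TT_of_iso I e h

theorem TT_directSum (ι : Type u) (n : ι → ℕ) :
    TT I (ModuleCat.of R (DirectSum ι fun j => R ⧸ I ^ n j)) := by
  classical
  intro z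
  refine ⟨(DFinsupp.support z).sup n, fun a ha => ?_⟩
  apply DFinsupp.ext
  intro j
  show a • z j = 0
  by_cases hj : j ∈ DFinsupp.support z
  · obtain ⟨r, hr⟩ := Ideal.Quotient.mk_surjective (z j)
    rw [← hr]
    show Ideal.Quotient.mk _ (a • r) = 0
    rw [Ideal.Quotient.eq_zero_iff_mem]
    have hle : I ^ ((DFinsupp.support z).sup n) ≤ I ^ n j :=
      Ideal.pow_le_pow_right (Finset.le_sup hj)
    exact Ideal.mul_mem_right _ _ (hle ha)
  · rw [DFinsupp.notMem_support_iff] at hj
    rw [hj, smul_zero]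

theorem TT_of_PP {X : ModuleCat.{u} R} (h : PP I X) : TT I X := by
  obtain ⟨ι, n, ⟨e⟩⟩ := h
  exact TT_of_iso I e.symm (TT_directSum I ι n)

theorem PP_cov (X : ModuleCat.{u} R) (h : TT I X) : PP I (cov I X) := by
  classical
  refine ⟨X, fun x => expo I X x, ⟨LinearEquiv.toModuleIso ?_⟩⟩
  refine DFinsupp.mapRange.linearEquiv (fun x => Submodule.quotEquivOfEq _ _ ?_)
  unfold JJ
  rw [if_pos (h x)]

theorem TT_kernel {X Y : ModuleCat.{u} R} (f : X ⟶ Y) (h : TT I X) : TT I (kernel f) := by
  intro z
  obtain ⟨n, hn⟩ := h (kernel.ι f z)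
  refine ⟨n, fun a ha => ?_⟩
  have hinj : Function.Injective (kernel.ι f) := (ModuleCat.mono_iff_injective _).mp inferInstance
  apply hinj
  rw [map_smul, hn a ha, map_zero]

end Helpers

/-- Let R be a commutative ring, I an ideal and M an R-module in which every element is killed by a
power of I. Then M has a left resolution by modules each of which is a direct sum of copies of R/I^n
for varying n: there are a chain complex K of R-modules, a quasi-isomorphism from K to M placed in
degree 0, and for each i an isomorphism of K_i with such a direct sum. -/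
theorem result {R : Type u} [CommRing R] (I : Ideal R)
    (M : Type u) [AddCommGroup M] [Module R M] (hM : LocCoh.IsPowerTorsion I M) :
    ∃ (K : ChainComplex (ModuleCat.{u} R) ℕ) (π : K ⟶ (ChainComplex.single₀ (ModuleCat.{u} R)).obj (ModuleCat.of R M)),
      QuasiIso π ∧ ∀ i : ℕ, ∃ (ι : Type u) (n : ι → ℕ),
        Nonempty (K.X i ≅ ModuleCat.of R (DirectSum ι fun j => R ⧸ I ^ n j)) := by
  have hM : TT I (ModuleCat.of R M) := hM
  refine ⟨ofComplex (cov I) (π I) (ModuleCat.of R M), toSingle (cov I) (π I) (ModuleCat.of R M),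
    quasiIso_toSingle (cov I) (π I) _, fun i => ?_⟩
  exact (prop_ofComplex_X (cov I) (π I) (PP I) (TT I)
    (fun X hX => ⟨PP_cov I X hX, TT_of_PP I (PP_cov I X hX)⟩)
    (fun f hX => TT_kernel I f hX) (ModuleCat.of R M) hM i).1

end Groth.Agent.S7089
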