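import Groth.Statements.S7090
import Mathlib
import Groth.Agent.Lib.Helper13FlatGlue
-- import your own Groth.Agent.* helpers here

set_option autoImplicit false
universe u
open TensorProduct
open EtAlg

namespace Groth.Agent.S7090

open Groth.Agent.Helper13FlatGlue in
theorem pow_smul_eq_zero_of_le {A : Type u} [CommRing A] {Y : Type u} [AddCommGroup Y] [Module A Y]
    (a : A) (y : Y) {e E : ℕ} (h : e ≤ E) (h0 : a ^ e • y = 0) : a ^ E • y = 0 := by
  obtain ⟨d, rfl⟩ := Nat.exists_eq_add_of_le h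
  rw [pow_add, mul_comm, mul_smul, h0, smul_zero]


/-- Let R → S be a flat homomorphism of commutative rings and I = (f_1, …, f_t) a finitely generated
ideal such that R/I → S/IS is bijective. Then for every R-module M the glueing complex 0 → M → (S
⊗_R M) × ∏ M_{f_i} → ∏ (S ⊗_R M)_{f_i} × ∏ M_{f_i f_j} is exact. Concretely: an element of M with
zero image in S ⊗_R M and in every M_{f_i} is zero; and given x in S ⊗_R M and elements m_1, …, m_t
of M and N ≥ 0 such that x and m_i / f_i^N have the same image in (S ⊗_R M)_{f_i} for each i, and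
m_i / f_i^N, m_j / f_j^N have the same image in M_{f_i f_j} for all i, j, there is m in M with 1 ⊗ m
= x and m / 1 = m_i / f_i^N in M_{f_i} for every i. -/
theorem result {R S : Type u} [CommRing R] [CommRing S] [Algebra R S] [Module.Flat R S]
    {t : ℕ} (f : Fin t → R) (I : Ideal R) (hI : Ideal.span (Set.range f) = I)
    (hq : Function.Bijective
      (Ideal.quotientMap (Ideal.map (algebraMap R S) I) (algebraMap R S) Ideal.le_comap_map))
    (M : Type u) [AddCommGroup M] [Module R M] :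
    (∀ m : M, (1 : S) ⊗ₜ[R] m = 0 →
        (∀ i : Fin t, LocalizedModule.mkLinearMap (Submonoid.powers (f i)) M m = 0) → m = 0) ∧
    ∀ (x : S ⊗[R] M) (N : ℕ) (m : Fin t → M),
      (∀ i : Fin t, EtGlue.locOfTensor R S (f i) M x =
          EtGlue.tensorOfLoc R S (f i) M (LocalizedModule.mk (m i) ⟨f i ^ N, Submonoid.pow_mem _ (Submonoid.mem_powers (f i)) N⟩)) →
      (∀ i j : Fin t, ∃ e : ℕ, (f i * f j) ^ e • (f j ^ N • m i - f i ^ N • m j) = 0) →
        ∃ μ : M, (1 : S) ⊗ₜ[R] μ = x ∧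
          ∀ i : Fin t, LocalizedModule.mkLinearMap (Submonoid.powers (f i)) M μ =
            LocalizedModule.mk (m i) ⟨f i ^ N, Submonoid.pow_mem _ (Submonoid.mem_powers (f i)) N⟩ := by
  subst hI
  constructor
  · intro m h1 h2
    have h2' : ∀ i, ∃ e : ℕ, f i ^ e • m = 0 := by
      intro i
      obtain ⟨⟨_, ⟨e, rfl⟩⟩, hs⟩ := (IsLocalizedModule.eq_zero_iff (Submonoid.powers (f i))
        (LocalizedModule.mkLinearMap (Submonoid.powers (f i)) M)).mp (h2 i)
      exact ⟨e, hs⟩
    choose e he using h2'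
    exact Groth.Agent.Helper13FlatGlue.eq_zero_of_tmul_eq_zero f hq (∑ i, e i) m
      (fun i => pow_smul_eq_zero_of_le (f i) m
        (Finset.single_le_sum (fun _ _ => Nat.zero_le _) (Finset.mem_univ i)) (he i)) h1
  · intro x N m ha hb
    -- unpack (a)
    have ha' : ∀ i, ∃ e : ℕ, f i ^ e • (f i ^ N • x - (1 : S) ⊗ₜ[R] m i) = 0 := by
      intro i
      have h := ha i
      unfold EtGlue.locOfTensor EtGlue.tensorOfLoc at h
      rw [IsLocalizedModule.mk_eq_mk', IsLocalizedModule.map_mk', ← IsLocalizedModule.mk_eq_mk',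
        LocalizedModule.mkLinearMap_apply, LocalizedModule.mk_eq] at h
      obtain ⟨⟨_, ⟨e, rfl⟩⟩, hu⟩ := h
      refine ⟨e, ?_⟩
      rw [smul_sub, sub_eq_zero]
      simpa [Submonoid.smul_def] using hu
    choose ea hea using ha'
    choose eb heb using hb
    obtain ⟨E, hEdef⟩ : ∃ E : ℕ, E = (∑ i, ea i) + ∑ i, ∑ j, eb i j := ⟨_, rfl⟩
    have hEa : ∀ i, ea i ≤ E := fun i => by
      rw [hEdef]
      exact le_trans (Finset.single_le_sum (fun _ _ => Nat.zero_le _) (Finset.mem_univ i))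
        (Nat.le_add_right _ _)
    have hEb : ∀ i j, eb i j ≤ E := fun i j => by
      rw [hEdef]
      refine le_trans ?_ (Nat.le_add_left _ _)
      refine le_trans ?_ (Finset.single_le_sum (f := fun i => ∑ j, eb i j)
        (fun _ _ => Nat.zero_le _) (Finset.mem_univ i))
      exact Finset.single_le_sum (f := fun j => eb i j) (fun _ _ => Nat.zero_le _)
        (Finset.mem_univ j)
    obtain ⟨μ₀, hμ₀⟩ := Groth.Agent.Helper13FlatGlue.stepA f hq N E x m
      (fun i => pow_smul_eq_zero_of_le (f i) (f i ^ N • x - (1 : S) ⊗ₜ[R] m i) (hEa i) (hea i))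
      (fun i j => pow_smul_eq_zero_of_le (f i * f j) (f j ^ N • m i - f i ^ N • m j) (hEb i j) (heb i j))
    choose ec hec using hμ₀
    obtain ⟨E₂, hE₂def⟩ : ∃ E₂ : ℕ, E₂ = N + E + ∑ i, ec i := ⟨_, rfl⟩
    have hEc : ∀ i, ec i ≤ E₂ := fun i => by
      rw [hE₂def]
      exact le_trans (Finset.single_le_sum (fun _ _ => Nat.zero_le _) (Finset.mem_univ i))
        (Nat.le_add_left _ _)
    have hx' : ∀ i, f i ^ (N + E₂) • (x - (1 : S) ⊗ₜ[R] μ₀) = 0 := by
      intro i
      have h1 : f i ^ E₂ • (f i ^ N • x - (1 : S) ⊗ₜ[R] m i) = 0 :=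
        pow_smul_eq_zero_of_le (f i) (f i ^ N • x - (1 : S) ⊗ₜ[R] m i)
          (le_trans (hEa i) (by rw [hE₂def]; omega)) (hea i)
      have h2 : f i ^ E₂ • (f i ^ N • μ₀ - m i) = 0 :=
        pow_smul_eq_zero_of_le (f i) (f i ^ N • μ₀ - m i) (hEc i) (hec i)
      have h3 : f i ^ (N + E₂) • (x - (1 : S) ⊗ₜ[R] μ₀) =
          f i ^ E₂ • (f i ^ N • x - (1 : S) ⊗ₜ[R] m i) -
            (1 : S) ⊗ₜ[R] (f i ^ E₂ • (f i ^ N • μ₀ - m i)) := by
        rw [TensorProduct.tmul_smul, TensorProduct.tmul_sub, TensorProduct.tmul_smul, pow_add,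
          mul_comm, mul_smul]
        simp only [smul_sub]
        abel
      rw [h3, h1, h2, TensorProduct.tmul_zero, sub_zero]
    obtain ⟨ν, hν, hνx⟩ := Groth.Agent.Helper13FlatGlue.exists_eq_tmul f hq (N + E₂) _ hx'
    refine ⟨μ₀ + ν, ?_, ?_⟩
    · rw [TensorProduct.tmul_add, hνx]
      abel
    · intro i
      rw [LocalizedModule.mkLinearMap_apply, LocalizedModule.mk_eq]
      refine ⟨⟨f i ^ (N + E₂), ⟨N + E₂, rfl⟩⟩, ?_⟩
      simp only [Submonoid.smul_def, one_smul]
      have h2 : f i ^ (N + E₂) • (f i ^ N • μ₀ - m i) = 0 :=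
        pow_smul_eq_zero_of_le (f i) (f i ^ N • μ₀ - m i)
          (le_trans (hEc i) (Nat.le_add_left _ _)) (hec i)
      rw [smul_sub, sub_eq_zero] at h2
      rw [smul_add, smul_add, h2, smul_comm (f i ^ (N + E₂)) (f i ^ N) ν, hν i, smul_zero,
        add_zero]

end Groth.Agent.S7090
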