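import Groth.Statements.S7093
import Mathlib
import Groth.Agent.S6937
import Groth.Agent.S7017
import Groth.Agent.Lib.Helper1TorH
import Groth.Agent.Lib.Helper1TorF
import Groth.Agent.Lib.Helper1Restrict
-- import your own Groth.Agent.* helpers here

set_option autoImplicit false
universe u
attribute [local instance] HasDerivedCategory.standard
open CategoryTheory CategoryTheory.Limits
open Dual2

namespace Groth.Agent.S7093

open CategoryTheory CategoryTheory.Limits Pretriangulated Groth.Agent.Lib.Helper1.Tor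
  Groth.Agent.Lib.Helper1.Restrict DerivedCategory ZeroObject

section
variable (R A : Type u) [CommRing R] [CommRing A] [Algebra R A]

/-- finite tor dimension over `R` after restriction of scalars -/
def FTD : ObjectProperty (Dual.D A) :=
  fun K => DRing.HasFiniteTorDimCx R ((DRing.restrictD (algebraMap R A)).obj K)

lemma ftd_of_iso {K K' : Dual.D A} (e : K ≅ K') (h : FTD R A K) : FTD R A K' := by
  obtain ⟨a, b, h⟩ := h
  exact ⟨a, b, hasTorAmp_of_iso ((DRing.restrictD (algebraMap R A)).mapIso e) h⟩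

lemma ftd_zero (K : Dual.D A) (hK : IsZero K) : FTD R A K :=
  ⟨0, 0, hasTorAmp_of_isZero _ ((DRing.restrictD (algebraMap R A)).map_isZero hK) 0 0⟩

lemma ftd_shift (K : Dual.D A) (n : ℤ) (h : FTD R A K) : FTD R A (K⟦n⟧) := by
  obtain ⟨a, b, h⟩ := h
  refine ⟨a - n, b - n, ?_⟩
  exact hasTorAmp_of_iso (((DRing.restrictD (algebraMap R A)).commShiftIso n).app K).symm
    (hasTorAmp_shift h n (a - n) (b - n) (by omega) (by omega))

lemma ftd_ext₂ (T : Triangle (Dual.D A)) (hT : T ∈ distTriang (Dual.D A))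
    (h₁ : FTD R A T.obj₁) (h₃ : FTD R A T.obj₃) : FTD R A T.obj₂ := by
  obtain ⟨a₁, b₁, h₁⟩ := h₁
  obtain ⟨a₃, b₃, h₃⟩ := h₃
  refine ⟨min a₁ a₃, max b₁ b₃, ?_⟩
  have hT' := (DRing.restrictD (algebraMap R A)).map_distinguished T hT
  exact (hasTorAmp_two_out_of_three (min a₁ a₃) (max b₁ b₃) _ hT').2.1
    (hasTorAmp_mono (min_le_left _ _) (le_max_left _ _) h₁)
    (hasTorAmp_mono (min_le_right _ _) (le_max_right _ _) h₃)

lemma ftd_retract (X K : Dual.D A) (ι : K ⟶ X) (π : X ⟶ K) (hιπ : ι ≫ π = 𝟙 K)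
    (h : FTD R A X) : FTD R A K := by
  obtain ⟨a, b, h⟩ := h
  refine ⟨a, b, hasTorAmp_of_retract _ _ ((DRing.restrictD (algebraMap R A)).map ι)
    ((DRing.restrictD (algebraMap R A)).map π) ?_ a b h⟩
  rw [← Functor.map_comp, hιπ, CategoryTheory.Functor.map_id]

end

section
variable (A : Type u) [CommRing A]

lemma pc'_zero (K : Dual.D A) (hK : IsZero K) : DRing.IsPseudoCoherent' A K := by
  refine ⟨0, 0, fun i _ => ?_, fun i => ?_, ⟨(Q.map_isZero (isZero_zero _)).iso hK⟩⟩
  · exact (HomologicalComplex.eval _ _ i).map_isZero (isZero_zero _)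
  · have hz : IsZero ((0 : DRing.Cx A).X i) :=
      (HomologicalComplex.eval _ _ i).map_isZero (isZero_zero _)
    have := ModuleCat.subsingleton_of_isZero hz
    exact ⟨inferInstance, inferInstance⟩

lemma pc'_of_iso {K K' : Dual.D A} (e : K ≅ K') (h : DRing.IsPseudoCoherent' A K) :
    DRing.IsPseudoCoherent' A K' := by
  obtain ⟨E, b, h1, h2, ⟨e'⟩⟩ := h
  exact ⟨E, b, h1, h2, ⟨e' ≪≫ e⟩⟩

lemma pc'_shift (K : Dual.D A) (n : ℤ) (h : DRing.IsPseudoCoherent' A K) :
    DRing.IsPseudoCoherent' A (K⟦n⟧) := by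
  obtain ⟨E, b, h1, h2, ⟨e⟩⟩ := h
  exact ⟨E⟦n⟧, b - n, fun i hi => h1 (i + n) (by omega), fun i => h2 (i + n),
    ⟨(Q.commShiftIso n).app E ≪≫ (shiftFunctor _ n).mapIso e⟩⟩

end

/-- For a flat homomorphism of finite presentation R → A of commutative rings, the R-perfect objects of
D(A) (pseudo-coherent over A, finite tor dimension over R) form a strictly full, saturated
triangulated subcategory: the property is a triangulated object property (contains zero, stable
under shifts and under extensions in distinguished triangles), is closed under isomorphisms, and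
passes to direct summands. -/
theorem result (R A : Type u) [CommRing R] [CommRing A] [Algebra R A]
    [Module.Flat R A] [Algebra.FinitePresentation R A] :
    ObjectProperty.IsTriangulated (C := Dual.D A) (fun K => Dual2.IsRelPerfect R A K) ∧
      ObjectProperty.IsClosedUnderIsomorphisms (C := Dual.D A) (fun K => Dual2.IsRelPerfect R A K) ∧
      ∀ X Y : Dual.D A, Dual2.IsRelPerfect R A (X ⊞ Y) → Dual2.IsRelPerfect R A X ∧ Dual2.IsRelPerfect R A Y := by
  have hiso : ObjectProperty.IsClosedUnderIsomorphisms (C := Dual.D A)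
      (fun K => Dual2.IsRelPerfect R A K) :=
    ⟨fun e h => ⟨pc'_of_iso A e h.1, ftd_of_iso R A e h.2⟩⟩
  refine ⟨?_, hiso, ?_⟩
  · exact
      { toContainsZero := ⟨⟨0, isZero_zero _, pc'_zero A _ (isZero_zero _), ftd_zero R A _ (isZero_zero _)⟩⟩
        toIsStableUnderShift :=
          { isStableUnderShiftBy := fun n =>
              ⟨fun K h => ⟨pc'_shift A K n h.1, ftd_shift R A K n h.2⟩⟩ }
        toIsTriangulatedClosed₂ :=
          ObjectProperty.IsTriangulatedClosed₂.mk' (fun T hT h₁ h₃ =>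
            ⟨(Groth.Agent.S7017.result A T hT).2.1 h₁.1 h₃.1, ftd_ext₂ R A T hT h₁.2 h₃.2⟩) }
  · intro X Y h
    have hpc := (Groth.Agent.S6937.result A 0 X Y).2 h.1
    exact ⟨⟨hpc.1, ftd_retract R A _ _ biprod.inl biprod.fst (by simp) h.2⟩,
      ⟨hpc.2, ftd_retract R A _ _ biprod.inr biprod.snd (by simp) h.2⟩⟩

end Groth.Agent.S7093
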