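import Groth.Statements.S7101
import Mathlib
import Groth.Agent.Lib.Helper10DCMain2
-- import your own Groth.Agent.* helpers here

set_option autoImplicit false
universe u
attribute [local instance] HasDerivedCategory.standard
open CategoryTheory
open DRing

namespace Groth.Agent.S7101

/-- Let A be a commutative ring and I a finitely generated ideal; assume the derived completion functor
exists and, for a cochain complex K of A-modules, that RHom_A(K, −) exists as the total right
derived functor of Hom•(K, −). Then for every L in D(A), with L^ the derived completion of L, the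
object RHom_A(K, L^) is the derived completion of RHom_A(K, L) through the map RHom_A(K, L) →
RHom_A(K, L^) induced by the canonical morphism L → L^: RHom_A(K, L^) is derived complete with
respect to I, and every morphism from RHom_A(K, L) to a derived complete object of D(A) factors
uniquely through that map. -/
theorem result {A : Type u} [CommRing A] (I : Ideal A) (hI : I.FG) [DRing.HasDerivedCompletion I]
    (K : DRing.Cx A) [DRing.HasRHomCx K] (L : Dual.D A) :
    DRing.IsDerivedComplete I ((DRing.RHomCx K).obj ((DRing.derivedCompletion I).obj L).obj) ∧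
      ∀ E : Dual.D A, DRing.IsDerivedComplete I E →
        Function.Bijective (fun φ : (DRing.RHomCx K).obj ((DRing.derivedCompletion I).obj L).obj ⟶ E =>
          (DRing.RHomCx K).map (DRing.toDerivedCompletion I L) ≫ φ) := by
  obtain ⟨P', π', hP', -, hπ', -⟩ := Groth.Agent.Lib.Helper1.KF.exists_kprojective_resolution K
  obtain ⟨h1, h2⟩ := Groth.Agent.Lib.Helper10.DCMain.derivedCompletion_RP I hI P' L
  obtain ⟨θ, hθ⟩ : ∃ θ : DRing.RHomCx K ≅ Groth.Agent.Lib.Helper10.TensHomD.RP P',
    θ = Groth.Agent.Lib.Helper10.RHomCx.RHomCxIso π' := ⟨_, rfl⟩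
  refine ⟨Groth.Agent.Lib.Helper10.DCMain.isDerivedComplete_of_iso I (θ.app _).symm h1, ?_⟩
  intro E hE
  have hb := h2 E hE
  have hnat : (DRing.RHomCx K).map (DRing.toDerivedCompletion I L) =
      θ.hom.app L ≫ (Groth.Agent.Lib.Helper10.TensHomD.RP P').map (DRing.toDerivedCompletion I L) ≫
        θ.inv.app _ := by
    rw [← Category.assoc, ← θ.hom.naturality, Category.assoc, Iso.hom_inv_id_app, Category.comp_id]
  have hcomp : (fun φ : (DRing.RHomCx K).obj ((DRing.derivedCompletion I).obj L).obj ⟶ E =>
      (DRing.RHomCx K).map (DRing.toDerivedCompletion I L) ≫ φ) =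
      (fun φ => θ.hom.app L ≫ φ) ∘
        (fun φ => (Groth.Agent.Lib.Helper10.TensHomD.RP P').map (DRing.toDerivedCompletion I L) ≫ φ) ∘
          (fun φ => θ.inv.app _ ≫ φ) := by
    funext φ
    simp only [Function.comp_apply, hnat, Category.assoc]
  rw [hcomp]
  exact (Groth.Agent.Lib.Helper10.DCMain.bijective_precomp_of_isIso _ E).comp
    (hb.comp (Groth.Agent.Lib.Helper10.DCMain.bijective_precomp_of_isIso _ E))

end Groth.Agent.S7101
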