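import Groth.Statements.S7105
import Mathlib
-- import your own Groth.Agent.* helpers here

set_option autoImplicit false
universe u
attribute [local instance] HasDerivedCategory.standard
open CategoryTheory
open DRing

namespace Groth.Agent.S7105

open CategoryTheory.Limits CochainComplex HomComplex Pretriangulated

section key
universe v' u'
variable {A : Type u'} [Category.{v'} A] [Abelian A]

/-- A map from a complex concentrated in degrees `≤ 0` with projective top term to an acyclic
complex concentrated in degrees `≥ -2` is null-homotopic. -/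
theorem key_homotopy (M C : CochainComplex A ℤ)
    (hM : ∀ i : ℤ, 0 < i → IsZero (M.X i)) [Projective (M.X 0)]
    (hC : ∀ i : ℤ, i ≤ -3 → IsZero (C.X i)) (hCex : ∀ n : ℤ, C.ExactAt n)
    (g : M ⟶ C) : Nonempty (Homotopy g 0) := by
  have ex0 : (C.sc' (-1) 0 1).Exact :=
    (C.exactAt_iff' (-1) 0 1 (by simp) (by simp)).1 (hCex 0)
  have ex1 : (C.sc' (-2) (-1) 0).Exact :=
    (C.exactAt_iff' (-2) (-1) 0 (by simp) (by simp)).1 (hCex (-1))
  have ex2 : (C.sc' (-3) (-2) (-1)).Exact :=
    (C.exactAt_iff' (-3) (-2) (-1) (by simp) (by simp)).1 (hCex (-2))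
  have hmono : Mono (C.d (-2) (-1)) :=
    (ShortComplex.exact_iff_mono _ ((hC (-3) (by lia)).eq_of_src _ _)).1 ex2
  have hg0 : g.f 0 ≫ C.d 0 1 = 0 := by
    rw [g.comm 0 1, (hM 1 (by lia)).eq_of_tgt (M.d 0 1) 0, zero_comp]
  obtain ⟨k0, hk0⟩ : ∃ k0 : M.X 0 ⟶ C.X (-1), k0 ≫ C.d (-1) 0 = g.f 0 :=
    ⟨ex0.liftFromProjective (g.f 0) hg0, ex0.liftFromProjective_comp (g.f 0) hg0⟩
  have h1 : (g.f (-1) - M.d (-1) 0 ≫ k0) ≫ C.d (-1) 0 = 0 := by
    rw [Preadditive.sub_comp, Category.assoc, hk0, g.comm (-1) 0, sub_self]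
  have : Mono (C.sc' (-2) (-1) 0).f := hmono
  obtain ⟨k1, hk1⟩ : ∃ k1 : M.X (-1) ⟶ C.X (-2),
      k1 ≫ C.d (-2) (-1) = g.f (-1) - M.d (-1) 0 ≫ k0 :=
    ⟨ex1.lift (g.f (-1) - M.d (-1) 0 ≫ k0) h1, ex1.lift_f _ _⟩
  have h2 : M.d (-2) (-1) ≫ k1 = g.f (-2) := by
    rw [← cancel_mono (C.d (-2) (-1)), Category.assoc, hk1, Preadditive.comp_sub,
      HomologicalComplex.d_comp_d_assoc, zero_comp, sub_zero, g.comm (-2) (-1)]
  refine ⟨(Cochain.equivHomotopy g 0).symm
    ⟨Cochain.single k0 (-1) + Cochain.single k1 (-1), ?_⟩⟩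
  rw [δ_add, Cochain.δ_single k0 (-1) 0 (by simp) (-1) 0 (by simp) (by simp),
    Cochain.δ_single k1 (-1) 0 (by simp) (-2) (-1) (by simp) (by simp), hk0, hk1, h2,
    Int.negOnePow_zero, one_smul, one_smul, Cochain.ofHom_zero, add_zero]
  ext p
  simp only [Cochain.add_v, Cochain.ofHom_v]
  by_cases hp0 : p = 0
  · subst hp0
    rw [Cochain.single_v, Cochain.single_v_eq_zero _ _ _ _ _ (by lia),
      Cochain.single_v_eq_zero _ _ _ _ _ (by lia), Cochain.single_v_eq_zero _ _ _ _ _ (by lia)]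
    simp
  by_cases hp1 : p = -1
  · subst hp1
    rw [Cochain.single_v, Cochain.single_v, Cochain.single_v_eq_zero _ _ _ _ _ (by lia),
      Cochain.single_v_eq_zero _ _ _ _ _ (by lia)]
    simp
  by_cases hp2 : p = -2
  · subst hp2
    rw [Cochain.single_v, Cochain.single_v_eq_zero _ _ _ _ _ (by lia),
      Cochain.single_v_eq_zero _ _ _ _ _ (by lia), Cochain.single_v_eq_zero _ _ _ _ _ (by lia)]
    simp
  · rw [Cochain.single_v_eq_zero _ _ _ _ _ hp0, Cochain.single_v_eq_zero _ _ _ _ _ hp1,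
      Cochain.single_v_eq_zero _ _ _ _ _ hp1, Cochain.single_v_eq_zero _ _ _ _ _ hp2]
    simp only [add_zero]
    by_cases hp : 0 < p
    · exact (hM p hp).eq_of_src _ _
    · exact (hC p (by lia)).eq_of_tgt _ _

end key

section plumbing
universe w v' u'
variable {A : Type u'} [Category.{v'} A] [Abelian A]

lemma hom_eq_zero (M C : CochainComplex A ℤ)
    (hM : ∀ i : ℤ, 0 < i → IsZero (M.X i)) [Projective (M.X 0)]
    (hC : ∀ i : ℤ, i ≤ -3 → IsZero (C.X i)) (hCex : ∀ n : ℤ, C.ExactAt n)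
    (Y : HomotopyCategory A (ComplexShape.up ℤ))
    (e : Y ≅ (HomotopyCategory.quotient A (ComplexShape.up ℤ)).obj C)
    (φ : (HomotopyCategory.quotient A (ComplexShape.up ℤ)).obj M ⟶ Y) : φ = 0 := by
  have h0 : φ ≫ e.hom = 0 := by
    obtain ⟨g, hg⟩ :=
      (HomotopyCategory.quotient A (ComplexShape.up ℤ)).map_surjective (φ ≫ e.hom)
    obtain ⟨h⟩ := key_homotopy M C hM hC hCex g
    rw [← hg, HomotopyCategory.eq_of_homotopy g 0 h, Functor.map_zero]
  rw [← cancel_mono e.hom, h0, zero_comp]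

lemma cone_acyclic {K L : CochainComplex A ℤ} (t : K ⟶ L) [QuasiIso t] :
    HomotopyCategory.subcategoryAcyclic A
      ((HomotopyCategory.quotient A (ComplexShape.up ℤ)).obj (mappingCone t)) := by
  have h : HomotopyCategory.quasiIso A (ComplexShape.up ℤ)
      ((HomotopyCategory.quotient A (ComplexShape.up ℤ)).map t) := by
    rw [HomotopyCategory.quotient_map_mem_quasiIso_iff, HomologicalComplex.mem_quasiIso_iff]
    infer_instance
  rw [HomotopyCategory.quasiIso_eq_trW_subcategoryAcyclic] at h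
  exact ((HomotopyCategory.subcategoryAcyclic A).trW_iff_of_distinguished _
    (HomotopyCategory.mappingCone_triangleh_distinguished t)).1 h

lemma comp_bijective (M K L : CochainComplex A ℤ)
    (hM : ∀ i : ℤ, 0 < i → IsZero (M.X i)) [Projective (M.X 0)]
    (hK : ∀ i : ℤ, i ≤ -2 → IsZero (K.X i)) (hL : ∀ i : ℤ, i ≤ -2 → IsZero (L.X i))
    (t : K ⟶ L) [QuasiIso t] :
    Function.Bijective (fun φ : (HomotopyCategory.quotient A (ComplexShape.up ℤ)).obj M ⟶
      (HomotopyCategory.quotient A (ComplexShape.up ℤ)).obj K =>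
        φ ≫ (HomotopyCategory.quotient A (ComplexShape.up ℤ)).map t) := by
  have hT := HomotopyCategory.mappingCone_triangleh_distinguished t
  have hac := cone_acyclic t
  have hCz : ∀ i : ℤ, i ≤ -3 → IsZero ((mappingCone t).X i) := fun i hi => by
    rw [mappingCone.isZero_X_iff]
    exact ⟨hK _ (by lia), hL _ (by lia)⟩
  constructor
  · intro φ₁ φ₂ h
    dsimp only at h
    have h0 : (φ₁ - φ₂) ≫ (mappingCone.triangleh t).invRotate.mor₂ = 0 := by
      show (φ₁ - φ₂) ≫ (HomotopyCategory.quotient A (ComplexShape.up ℤ)).map t = 0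
      rw [Preadditive.sub_comp, h, sub_self]
    obtain ⟨g, hg⟩ := Triangle.coyoneda_exact₂ _ (inv_rot_of_distTriang _ hT) (φ₁ - φ₂) h0
    have hg0 : g = 0 := by
      refine hom_eq_zero M ((mappingCone t)⟦(-1 : ℤ)⟧) hM ?_ ?_ _
        (((HomotopyCategory.quotient A (ComplexShape.up ℤ)).commShiftIso (-1 : ℤ)).app
          (mappingCone t)).symm g
      · intro i hi
        exact hCz (i + -1) (by lia)
      · rw [← HomotopyCategory.quotient_obj_mem_subcategoryAcyclic_iff_exactAt]
        exact (HomotopyCategory.subcategoryAcyclic A).prop_of_iso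
          (((HomotopyCategory.quotient A (ComplexShape.up ℤ)).commShiftIso (-1 : ℤ)).app
            (mappingCone t)).symm ((HomotopyCategory.subcategoryAcyclic A).le_shift (-1 : ℤ) _ hac)
    rw [hg0, zero_comp] at hg
    exact sub_eq_zero.1 hg
  · intro ψ
    have h0 : ψ ≫ (mappingCone.triangleh t).mor₂ = 0 :=
      hom_eq_zero M (mappingCone t) hM hCz
        ((HomotopyCategory.quotient_obj_mem_subcategoryAcyclic_iff_exactAt _).1 hac) _
        (Iso.refl _) _
    obtain ⟨φ, hφ⟩ := Triangle.coyoneda_exact₂ _ hT ψ h0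
    exact ⟨φ, hφ.symm⟩

theorem bijective_Qh_map [HasDerivedCategory.{w} A] (M K : CochainComplex A ℤ)
    (hM : ∀ i : ℤ, 0 < i → IsZero (M.X i)) [Projective (M.X 0)]
    (hK : ∀ i : ℤ, i ≤ -2 → IsZero (K.X i)) :
    Function.Bijective (fun φ : (HomotopyCategory.quotient A (ComplexShape.up ℤ)).obj M ⟶
      (HomotopyCategory.quotient A (ComplexShape.up ℤ)).obj K => DerivedCategory.Qh.map φ) := by
  have hKs : K.IsStrictlyGE (-1) := by
    rw [isStrictlyGE_iff]
    intro i hi
    exact hK i (by lia)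
  constructor
  · intro φ₁ φ₂ h
    dsimp only at h
    obtain ⟨Z, s, hs, hcomp⟩ := (MorphismProperty.map_eq_iff_postcomp DerivedCategory.Qh
      (HomotopyCategory.quasiIso A (ComplexShape.up ℤ)) φ₁ φ₂).1 h
    obtain ⟨L, rfl⟩ := HomotopyCategory.quotient_obj_surjective Z
    obtain ⟨t, rfl⟩ := (HomotopyCategory.quotient A (ComplexShape.up ℤ)).map_surjective s
    rw [HomotopyCategory.quotient_map_mem_quasiIso_iff, HomologicalComplex.mem_quasiIso_iff] at hs
    have hLge : CochainComplex.IsGE L (-1) := by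
      rw [isGE_iff]
      intro i hi
      exact (_root_.quasiIsoAt_iff_exactAt t i (K.exactAt_of_isGE (-1) i hi)).1
        inferInstance
    have hπ : QuasiIso (CochainComplex.πTruncGE L (-1)) :=
      (CochainComplex.quasiIso_πTruncGE_iff L (-1)).2 hLge
    have hq : QuasiIso (t ≫ CochainComplex.πTruncGE L (-1)) := inferInstance
    refine (comp_bijective M K (CochainComplex.truncGE L (-1)) hM hK
      (fun i hi => (CochainComplex.truncGE L (-1)).isZero_of_isStrictlyGE (-1) i (by lia))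
      (t ≫ CochainComplex.πTruncGE L (-1))).1 ?_
    dsimp only
    rw [Functor.map_comp, ← Category.assoc, ← Category.assoc, hcomp]
  · intro ψ
    obtain ⟨L', hL', g, s, hs, hψ⟩ :=
      DerivedCategory.left_fac_of_isStrictlyGE (X := M) (Y := K) ψ (-1)
    have hqs : QuasiIso s := (DerivedCategory.isIso_Q_map_iff_quasiIso (φ := s)).1 hs
    obtain ⟨φ, hφ⟩ := (comp_bijective M K L' hM hK
      (fun i hi => L'.isZero_of_isStrictlyGE (-1) i (by lia)) s).2
      ((HomotopyCategory.quotient A (ComplexShape.up ℤ)).map g)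
    dsimp only at hφ
    have key : (DerivedCategory.Qh.map φ : DerivedCategory.Q.obj M ⟶ DerivedCategory.Q.obj K) ≫
        DerivedCategory.Q.map s = DerivedCategory.Q.map g :=
      (DerivedCategory.Qh.map_comp φ _).symm.trans (congrArg DerivedCategory.Qh.map hφ)
    refine ⟨φ, ?_⟩
    show (DerivedCategory.Qh.map φ : DerivedCategory.Q.obj M ⟶ DerivedCategory.Q.obj K) = ψ
    rw [hψ]
    exact (IsIso.eq_comp_inv (DerivedCategory.Q.map s)).2 key

end plumbing

/-- Let R be a commutative ring, M a cochain complex of R-modules with M^i = 0 for i > 0 and M^0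
projective, and K a cochain complex with K^i = 0 for all i ≤ -2. Then the canonical map
Hom_{K(R)}(M, K) → Hom_{D(R)}(M, K), from homotopy classes of chain maps to morphisms in the derived
category, is bijective. -/
theorem result {R : Type u} [CommRing R] (M K : DRing.Cx R)
    (hM : ∀ i : ℤ, 0 < i → Limits.IsZero (M.X i)) (hM0 : Module.Projective R (M.X 0))
    (hK : ∀ i : ℤ, i ≤ -2 → Limits.IsZero (K.X i)) :
    Function.Bijective (fun φ : (HomotopyCategory.quotient (ModuleCat.{u} R) (ComplexShape.up ℤ)).obj M ⟶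
        (HomotopyCategory.quotient (ModuleCat.{u} R) (ComplexShape.up ℤ)).obj K => DerivedCategory.Qh.map φ) := by
  have : Projective (M.X 0) := ModuleCat.projective_of_categoryTheory_projective _
  exact bijective_Qh_map M K hM hK

end Groth.Agent.S7105
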