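import Groth.Statements.S7106
import Mathlib
import Groth.Agent.S7105
import Groth.Agent.Lib.Helper1TwoTerm
-- import your own Groth.Agent.* helpers here

set_option autoImplicit false
universe u
attribute [local instance] HasDerivedCategory.standard
open CategoryTheory
open DRing

namespace Groth.Agent.S7106

open CategoryTheory.Limits CochainComplex HomologicalComplex DerivedCategory Pretriangulated
open Groth.Agent.Lib.Helper1.TwoTerm

section tri
universe w v' u'
variable {A : Type u'} [Category.{v'} A] [Abelian A] [HasDerivedCategory.{w} A]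
variable (E : CochainComplex A ℤ) (hE : ∀ i : ℤ, i ≠ -1 → i ≠ 0 → IsZero (E.X i))

/-- the triangle of a two-term complex, with both maps exposed -/
theorem exists_triangle' :
    ∃ (i : (DerivedCategory.singleFunctor A 0).obj (E.X 0) ⟶ Q.obj E)
      (p : Q.obj E ⟶ ((DerivedCategory.singleFunctor A 0).obj (E.X (-1)))⟦(1 : ℤ)⟧),
      Triangle.mk i p (((DerivedCategory.singleFunctor A 0).map (E.d (-1) 0))⟦(1 : ℤ)⟧') ∈
        distTriang (DerivedCategory A) ∧ i = Q.map (ι E hE) ∧
      p = Q.map (π E hE) ≫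
        ((DerivedCategory.singleFunctors A).shiftIso 1 (-1) 0 (by simp)).inv.app (E.X (-1)) := by
  obtain ⟨βM, hβM⟩ : ∃ βM : ((DerivedCategory.singleFunctor A 0).obj (E.X (-1)))⟦(1 : ℤ)⟧ ≅
      (DerivedCategory.singleFunctor A (-1)).obj (E.X (-1)),
      βM = ((DerivedCategory.singleFunctors A).shiftIso 1 (-1) 0 (by simp)).app (E.X (-1)) :=
    ⟨_, rfl⟩
  obtain ⟨βP, hβP⟩ : ∃ βP : ((DerivedCategory.singleFunctor A 0).obj (E.X 0))⟦(1 : ℤ)⟧ ≅
      (DerivedCategory.singleFunctor A (-1)).obj (E.X 0),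
      βP = ((DerivedCategory.singleFunctors A).shiftIso 1 (-1) 0 (by simp)).app (E.X 0) :=
    ⟨_, rfl⟩
  obtain ⟨i, hi⟩ : ∃ i : (DerivedCategory.singleFunctor A 0).obj (E.X 0) ⟶ Q.obj E,
      i = Q.map (ι E hE) := ⟨_, rfl⟩
  obtain ⟨p₀, hp₀⟩ : ∃ p₀ : Q.obj E ⟶ (DerivedCategory.singleFunctor A (-1)).obj (E.X (-1)),
      p₀ = Q.map (π E hE) := ⟨_, rfl⟩
  obtain ⟨δ₀, hδ₀⟩ : ∃ δ₀ : (DerivedCategory.singleFunctor A (-1)).obj (E.X (-1)) ⟶
      ((DerivedCategory.singleFunctor A 0).obj (E.X 0))⟦(1 : ℤ)⟧,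
      δ₀ = Q.map (homOfDegreewiseSplit (S E hE) (σ E hE)) ≫
        (Q.commShiftIso (1 : ℤ)).hom.app ((single A (ComplexShape.up ℤ) 0).obj (E.X 0)) :=
    ⟨_, rfl⟩
  have hT : Triangle.mk i p₀ δ₀ ∈ distTriang (DerivedCategory A) := by
    rw [hi, hp₀, hδ₀]
    exact degreewiseSplit_distinguished (S E hE) (σ E hE)
  have hkey : δ₀ ≫ βP.hom = (DerivedCategory.singleFunctor A (-1)).map (E.d (-1) 0) := by
    rw [hδ₀, hβP]
    exact key_eq E hE
  have hnat : ((DerivedCategory.singleFunctor A 0).map (E.d (-1) 0))⟦(1 : ℤ)⟧' ≫ βP.hom =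
      βM.hom ≫ (DerivedCategory.singleFunctor A (-1)).map (E.d (-1) 0) := by
    rw [hβP, hβM]
    exact ((DerivedCategory.singleFunctors A).shiftIso 1 (-1) 0 (by simp)).hom.naturality
      (E.d (-1) 0)
  refine ⟨i, p₀ ≫ βM.inv, ?_, hi, ?_⟩
  · refine isomorphic_distinguished _ hT _ ?_
    have c1 : i ≫ 𝟙 (Q.obj E) = 𝟙 ((DerivedCategory.singleFunctor A 0).obj (E.X 0)) ≫ i := by
      rw [Category.comp_id, Category.id_comp]
    have c2 : (p₀ ≫ βM.inv) ≫ βM.hom = 𝟙 (Q.obj E) ≫ p₀ := by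
      rw [Category.assoc, Iso.inv_hom_id, Category.comp_id, Category.id_comp]
    have c3 : ((DerivedCategory.singleFunctor A 0).map (E.d (-1) 0))⟦(1 : ℤ)⟧' ≫
        (𝟙 ((DerivedCategory.singleFunctor A 0).obj (E.X 0)))⟦(1 : ℤ)⟧' = βM.hom ≫ δ₀ := by
      rw [CategoryTheory.Functor.map_id, Category.comp_id, ← cancel_mono βP.hom, hnat,
        Category.assoc, hkey]
    exact Triangle.isoMk _ _ (Iso.refl _) (Iso.refl _) βM c1 c2 c3
  · rw [hp₀, hβM]
    rfl

end tri

/-- Let R be a commutative ring, M a cochain complex of R-modules with M^i = 0 for i > 0 and M^0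
projective, K a cochain complex with K^i = 0 for i outside [-1, 0] and K^0 projective, and a : M → K
a chain map. Then precomposition with a is the zero map Ext^1_R(K, N) → Ext^1_R(M, N) (morphisms
into N[1] in D(R)) for every R-module N if and only if there is a map h : M^0 → K^{-1} with a^{-1} +
h ∘ d_M^{-1} = 0. (The published statement composes h^0 with the differential K^{-1} → K^0 of K,
which is not defined; this row composes it with the differential M^{-1} → M^0 of M, as the homotopy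
in the published proof does.) -/
theorem result {R : Type u} [CommRing R] (M K : DRing.Cx R)
    (hM : ∀ i : ℤ, 0 < i → Limits.IsZero (M.X i)) (hM0 : Module.Projective R (M.X 0))
    (hK : ∀ i : ℤ, i ≠ -1 → i ≠ 0 → Limits.IsZero (K.X i)) (hK0 : Module.Projective R (K.X 0))
    (a : M ⟶ K) :
    (∀ (N : Type u) [AddCommGroup N] [Module R N] (ξ : DRing.toD K ⟶ (Dual.inD R N)⟦(1 : ℤ)⟧),
        DerivedCategory.Q.map a ≫ ξ = 0) ↔
      ∃ h : M.X 0 ⟶ K.X (-1), a.f (-1) + M.d (-1) 0 ≫ h = 0 := by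
  have hPM : Projective (M.X 0) := ModuleCat.projective_of_categoryTheory_projective _
  have hPK : Projective (K.X 0) := ModuleCat.projective_of_categoryTheory_projective _
  obtain ⟨Y, hY⟩ : ∃ Y : CochainComplex (ModuleCat.{u} R) ℤ,
      Y = (single (ModuleCat.{u} R) (ComplexShape.up ℤ) (-1)).obj (K.X (-1)) := ⟨_, rfl⟩
  obtain ⟨e, he⟩ : ∃ e : ((single (ModuleCat.{u} R) (ComplexShape.up ℤ) (-1)).obj (K.X (-1))).X (-1) ≅
      K.X (-1), e = singleObjXSelf (ComplexShape.up ℤ) (-1) (K.X (-1)) := ⟨_, rfl⟩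
  have hπf : (π K hK).f (-1) = e.inv := by
    rw [π, mkHomToSingle_f, Category.id_comp, he]
  have hYz : ∀ i : ℤ, i ≤ -2 →
      IsZero (((single (ModuleCat.{u} R) (ComplexShape.up ℤ) (-1)).obj (K.X (-1))).X i) :=
    fun i hi => isZero_single_obj_X (ComplexShape.up ℤ) (-1) (K.X (-1)) i (by lia)
  constructor
  · intro H
    obtain ⟨β, hβ⟩ : ∃ β : ((DerivedCategory.singleFunctor (ModuleCat.{u} R) 0).obj
        (K.X (-1)))⟦(1 : ℤ)⟧ ≅ (DerivedCategory.singleFunctor (ModuleCat.{u} R) (-1)).obj (K.X (-1)),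
        β = ((DerivedCategory.singleFunctors (ModuleCat.{u} R)).shiftIso 1 (-1) 0
          (by simp)).app (K.X (-1)) := ⟨_, rfl⟩
    obtain ⟨p₀, hp₀⟩ : ∃ p₀ : Q.obj K ⟶
        (DerivedCategory.singleFunctor (ModuleCat.{u} R) (-1)).obj (K.X (-1)),
        p₀ = Q.map (π K hK) := ⟨_, rfl⟩
    have h0 := H (K.X (-1)) (p₀ ≫ β.inv)
    have h0' : Q.map a ≫ p₀ = 0 := by
      rw [← cancel_mono β.inv, Category.assoc, zero_comp]
      exact h0
    have h1 : Q.map (a ≫ π K hK) = 0 := by
      rw [Q.map_comp]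
      rw [hp₀] at h0'
      exact h0'
    have h2 : (HomotopyCategory.quotient (ModuleCat.{u} R) (ComplexShape.up ℤ)).map (a ≫ π K hK) =
        (HomotopyCategory.quotient (ModuleCat.{u} R) (ComplexShape.up ℤ)).map 0 := by
      apply (Groth.Agent.S7105.bijective_Qh_map M _ hM hYz).1
      dsimp only
      rw [Functor.map_zero, Functor.map_zero]
      exact h1
    have ho : Homotopy (a ≫ π K hK) 0 := HomotopyCategory.homotopyOfEq _ _ h2
    have hc := ho.comm (-1)
    rw [dNext_eq ho.hom (show (ComplexShape.up ℤ).Rel (-1) 0 by simp),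
      prevD_eq ho.hom (show (ComplexShape.up ℤ).Rel (-2) (-1) by simp),
      HomologicalComplex.single_obj_d, comp_zero, add_zero, HomologicalComplex.zero_f, add_zero,
      HomologicalComplex.comp_f, hπf] at hc
    refine ⟨-(ho.hom 0 (-1) ≫ e.hom), ?_⟩
    rw [Preadditive.comp_neg, ← Category.assoc, ← hc, Category.assoc, Iso.inv_hom_id,
      Category.comp_id, add_neg_cancel]
  · rintro ⟨h, hh⟩ N _ _ ξ
    obtain ⟨i, p, hT, hi, hp⟩ := exists_triangle' K hK
    have i3 : ((Dual.inD R N)⟦(1 : ℤ)⟧).IsLE (-1) :=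
      Groth.Agent.S14388.tt.isLE_shift _ 0 1 (-1) (by lia)
    have hz : i ≫ ξ = 0 := Groth.Agent.S7077.hom_single_proj_eq_zero (K.X 0) 0 (-1) (by lia) _ _
    obtain ⟨η, hη⟩ := Triangle.yoneda_exact₂ _ hT ξ hz
    have hnull : Q.map (a ≫ π K hK) = 0 := by
      have ho : Homotopy (a ≫ π K hK) 0 := by
        refine (HomComplex.Cochain.equivHomotopy _ _).symm
          ⟨HomComplex.Cochain.single (-(h ≫ e.inv)) (-1), ?_⟩
        rw [HomComplex.Cochain.δ_single _ (-1) 0 (by simp) (-1) 0 (by simp) (by simp),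
          HomologicalComplex.single_obj_d, comp_zero, HomComplex.Cochain.single_zero, zero_add,
          Int.negOnePow_zero, one_smul, HomComplex.Cochain.ofHom_zero, add_zero]
        refine HomComplex.Cochain.ext₀ _ _ (fun p => ?_)
        by_cases hp1 : p = -1
        · subst hp1
          rw [HomComplex.Cochain.single_v, HomComplex.Cochain.ofHom_v, HomologicalComplex.comp_f,
            hπf, Preadditive.comp_neg, ← Category.assoc, ← Preadditive.neg_comp]
          congr 1
          exact eq_neg_of_add_eq_zero_left hh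
        · rw [HomComplex.Cochain.single_v_eq_zero _ _ _ _ _ hp1]
          exact (isZero_single_obj_X (ComplexShape.up ℤ) (-1) (K.X (-1)) p hp1).eq_of_tgt _ _
      rw [DerivedCategory.Q_map_eq_of_homotopy _ ho, Functor.map_zero]
    show Q.map a ≫ ξ = 0
    rw [hη]
    show Q.map a ≫ p ≫ η = 0
    rw [hp, Category.assoc, ← Category.assoc, ← Q.map_comp, hnull, zero_comp]

end Groth.Agent.S7106
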