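import Groth.Statements.S7109
import Mathlib

set_option autoImplicit false
universe u
open CAlg

namespace Groth.Agent.S7109

/-- Let P be a projective module over a ring R and s an element of P. Then there are a finite free
module R^n and a direct summand K of R^n ⊕ P which is finite free and contains (0, s). -/
theorem result (R : Type u) [CommRing R] (P : Type u) [AddCommGroup P]
    [Module R P] [Module.Projective R P] (s : P) :
    ∃ (n : ℕ) (K K' : Submodule R ((Fin n → R) × P)), IsCompl K K' ∧ Module.Free R K ∧ Module.Finite R K ∧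
      ((0, s) : (Fin n → R) × P) ∈ K := by
  classical
  obtain ⟨i, hi⟩ := (Module.projective_def' (R := R) (P := P)).mp inferInstance
  let π : (P →₀ R) →ₗ[R] P := Finsupp.linearCombination R id
  have hπi : ∀ z : P, π (i z) = z := fun z => LinearMap.congr_fun hi z
  set σ : Finset P := (i s).support with hσ
  let m := σ.card
  let b : Fin m ≃ σ := σ.equivFin.symm
  let incl : (Fin m → R) →ₗ[R] (P →₀ R) :=
    ∑ j : Fin m, (Finsupp.lsingle (b j : P)).comp (LinearMap.proj j)
  let p0 : (P →₀ R) →ₗ[R] (Fin m → R) :=
    LinearMap.pi fun j => Finsupp.lapply (b j : P)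
  have hincl : ∀ v : Fin m → R, incl v = ∑ j : Fin m, Finsupp.single (b j : P) (v j) := by
    intro v
    simp [incl, LinearMap.sum_apply]
  have hp0 : ∀ (f : P →₀ R) (j : Fin m), p0 f j = f (b j : P) := fun f j => rfl
  have hinclp0 : incl (p0 (i s)) = i s := by
    rw [hincl]
    ext z
    rw [Finsupp.finset_sum_apply]
    by_cases hz : z ∈ σ
    · rw [Finset.sum_eq_single (b.symm ⟨z, hz⟩)]
      · rw [hp0, Equiv.apply_symm_apply, Finsupp.single_eq_same]
      · intro j _ hj
        rw [Finsupp.single_apply, if_neg]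
        intro h
        apply hj
        apply b.injective
        rw [Equiv.apply_symm_apply]
        exact Subtype.ext h
      · intro h
        exact absurd (Finset.mem_univ _) h
    · rw [Finset.sum_eq_zero]
      · exact (Finsupp.notMem_support_iff.mp hz).symm
      · intro j _
        rw [Finsupp.single_apply, if_neg]
        intro h
        apply hz
        rw [← h]
        exact (b j).2
  let ψ : (Fin m → R) →ₗ[R] (Fin m → R) × P :=
    LinearMap.prod (LinearMap.id - p0.comp (i.comp (π.comp incl))) (π.comp incl)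
  let ρ : (Fin m → R) × P →ₗ[R] (Fin m → R) :=
    LinearMap.coprod LinearMap.id (p0.comp i)
  have hρψ : ∀ x, ρ (ψ x) = x := by
    intro x
    simp [ρ, ψ]
  have hψinj : Function.Injective ψ := Function.LeftInverse.injective hρψ
  have hψs : ψ (p0 (i s)) = (0, s) := by
    show ((p0 (i s)) - p0 (i (π (incl (p0 (i s))))), π (incl (p0 (i s)))) = (0, s)
    rw [hinclp0, hπi, sub_self]
  refine ⟨m, LinearMap.range ψ, LinearMap.ker ρ, ⟨?_, ?_⟩, ?_, ?_, ⟨_, hψs⟩⟩
  · rw [Submodule.disjoint_def]
    rintro v ⟨x, rfl⟩ hv
    rw [LinearMap.mem_ker, hρψ] at hv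
    rw [hv, map_zero]
  · rw [Submodule.codisjoint_iff_exists_add_eq]
    intro v
    refine ⟨ψ (ρ v), v - ψ (ρ v), ⟨_, rfl⟩, ?_, by abel⟩
    rw [LinearMap.mem_ker, map_sub, hρψ, sub_self]
  · exact Module.Free.of_equiv (LinearEquiv.ofInjective ψ hψinj)
  · exact Module.Finite.equiv (LinearEquiv.ofInjective ψ hψinj)

end Groth.Agent.S7109
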