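import Groth.Statements.S7114
import Mathlib

set_option autoImplicit false
universe u
open CAlg

namespace Groth.Agent.S7114

section Aux7114
variable {R : Type*} [CommRing R]

/-- multiplication by `x^n` from `R/(x)` to `R/(x^(n+1))` -/
noncomputable def mulPow (x : R) (n : ℕ) : (R ⧸ Ideal.span {x}) →ₗ[R] (R ⧸ Ideal.span {x ^ (n + 1)}) :=
  Submodule.liftQ (Ideal.span {x})
    ((Ideal.span {x ^ (n + 1)}).mkQ.comp (LinearMap.mulLeft R (x ^ n))) (by
      rw [Ideal.span_le]
      intro y hy
      rw [Set.mem_singleton_iff] at hy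
      subst hy
      show (Ideal.span {y ^ (n + 1)}).mkQ (y ^ n * y) = 0
      rw [Submodule.mkQ_apply, Submodule.Quotient.mk_eq_zero, ← pow_succ]
      exact Ideal.subset_span rfl)

theorem mulPow_mk (x : R) (n : ℕ) (y : R) :
    mulPow x n (Submodule.Quotient.mk y) = Submodule.Quotient.mk (x ^ n * y) := rfl

/-- the projection `R/(x^(n+1)) → R/(x^n)` -/
noncomputable def proj (x : R) (n : ℕ) : (R ⧸ Ideal.span {x ^ (n + 1)}) →ₗ[R] (R ⧸ Ideal.span {x ^ n}) :=
  Submodule.liftQ (Ideal.span {x ^ (n + 1)}) (Ideal.span {x ^ n}).mkQ (by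
    rw [Ideal.span_le]
    intro y hy
    rw [Set.mem_singleton_iff] at hy
    subst hy
    show (Ideal.span {x ^ n}).mkQ (x ^ (n + 1)) = 0
    rw [Submodule.mkQ_apply, Submodule.Quotient.mk_eq_zero, pow_succ]
    exact Ideal.mul_mem_right _ _ (Ideal.subset_span rfl))

theorem proj_mk (x : R) (n : ℕ) (y : R) :
    proj x n (Submodule.Quotient.mk y) = Submodule.Quotient.mk y := rfl

theorem proj_surjective (x : R) (n : ℕ) : Function.Surjective (proj x n) := by
  intro z
  obtain ⟨y, rfl⟩ := Submodule.Quotient.mk_surjective _ z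
  exact ⟨Submodule.Quotient.mk y, rfl⟩

theorem exact (x : R) (n : ℕ) : Function.Exact (mulPow x n) (proj x n) := by
  intro z
  obtain ⟨y, rfl⟩ := Submodule.Quotient.mk_surjective _ z
  rw [proj_mk, Submodule.Quotient.mk_eq_zero, Ideal.mem_span_singleton']
  constructor
  · rintro ⟨a, ha⟩
    refine ⟨Submodule.Quotient.mk a, ?_⟩
    rw [mulPow_mk, ← ha, mul_comm]
  · rintro ⟨w, hw⟩
    obtain ⟨a, rfl⟩ := Submodule.Quotient.mk_surjective _ w
    rw [mulPow_mk] at hw
    have := (Submodule.Quotient.eq _).mp hw
    obtain ⟨c, hc⟩ := Ideal.mem_span_singleton'.mp this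
    refine ⟨a - c * x, ?_⟩
    rw [pow_succ] at hc
    linear_combination -hc

theorem mulPow_injective (x : R) (hx : x ∈ nonZeroDivisors R) (n : ℕ) :
    Function.Injective (mulPow x n) := by
  rw [injective_iff_map_eq_zero]
  intro w hw
  obtain ⟨a, rfl⟩ := Submodule.Quotient.mk_surjective _ w
  rw [mulPow_mk, Submodule.Quotient.mk_eq_zero] at hw
  obtain ⟨c, hc⟩ := Ideal.mem_span_singleton'.mp hw
  rw [Submodule.Quotient.mk_eq_zero, Ideal.mem_span_singleton']
  refine ⟨c, ?_⟩
  have hxn : x ^ n ∈ nonZeroDivisors R := pow_mem hx n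
  apply (mul_cancel_left_mem_nonZeroDivisors hxn).mp
  rw [← hc, pow_succ]
  ring

theorem length_le (x : R) (n : ℕ) :
    Module.length R (R ⧸ Ideal.span {x ^ n}) ≤ (n : ℕ∞) * Module.length R (R ⧸ Ideal.span {x}) := by
  induction n with
  | zero =>
    have : Subsingleton (R ⧸ Ideal.span {x ^ 0}) := by
      rw [pow_zero, Ideal.span_singleton_one]
      exact Submodule.Quotient.subsingleton_iff.mpr (by simp)
    rw [Module.length_eq_zero]
    exact zero_le
  | succ n ih =>
    have h1 := Module.length_eq_add_of_exact (LinearMap.range (mulPow x n)).subtype (proj x n)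
      (Submodule.subtype_injective _) (proj_surjective x n) (by
        intro z
        rw [exact x n z]
        simp)
    have h2 : Module.length R (LinearMap.range (mulPow x n)) ≤ Module.length R (R ⧸ Ideal.span {x}) :=
      Module.length_le_of_surjective (mulPow x n).rangeRestrict (LinearMap.surjective_rangeRestrict _)
    rw [h1]
    push_cast
    rw [add_mul, one_mul, add_comm]
    exact add_le_add ih h2

theorem length_eq (x : R) (hx : x ∈ nonZeroDivisors R) (n : ℕ) :
    Module.length R (R ⧸ Ideal.span {x ^ n}) = (n : ℕ∞) * Module.length R (R ⧸ Ideal.span {x}) := by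
  induction n with
  | zero =>
    have : Subsingleton (R ⧸ Ideal.span {x ^ 0}) := by
      rw [pow_zero, Ideal.span_singleton_one]
      exact Submodule.Quotient.subsingleton_iff.mpr (by simp)
    rw [Module.length_eq_zero]
    simp
  | succ n ih =>
    have h1 := Module.length_eq_add_of_exact (mulPow x n) (proj x n)
      (mulPow_injective x hx n) (proj_surjective x n) (exact x n)
    rw [h1, ih]
    push_cast
    rw [add_mul, one_mul, add_comm]

end Aux7114

/-- Let R be a Noetherian local ring of Krull dimension one and x an element of the maximal ideal lying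
in no minimal prime of R. Then for every n the length of R/xⁿR is at most n times the length of
R/xR, and equality holds when x is a nonzerodivisor. -/
theorem result (R : Type u) [CommRing R] [IsNoetherianRing R] [IsLocalRing R]
    (hdim : ringKrullDim R = 1) (x : R) (hx : x ∈ IsLocalRing.maximalIdeal R)
    (hmin : ∀ p ∈ minimalPrimes R, x ∉ p) (n : ℕ) :
    Module.length R (R ⧸ Ideal.span {x ^ n}) ≤ (n : ℕ∞) * Module.length R (R ⧸ Ideal.span {x}) ∧
      (x ∈ nonZeroDivisors R →
        Module.length R (R ⧸ Ideal.span {x ^ n}) = (n : ℕ∞) * Module.length R (R ⧸ Ideal.span {x})) := by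
  exact ⟨length_le x n, fun hxn => length_eq x hxn n⟩

end Groth.Agent.S7114
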