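import Groth.Statements.S7118
import Groth.Agent.Lib.Helper28RedQuot2
-- import your own Groth.Agent.* helpers here

set_option autoImplicit false
universe u
open CAlg

namespace Groth.Agent.S7118

/-- Let A be a Noetherian normal local domain of Krull dimension 2 and a a nonzero element of the
maximal ideal. Then there is a nonzero element c of A such that A/cA is reduced and a divides some
power cⁿ. (The published statement does not require c to be nonzero and is then satisfied by c = 0;
this row requires c ≠ 0.) -/
theorem result (A : Type u) [CommRing A] [IsDomain A] [IsNoetherianRing A]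
    [IsLocalRing A] [IsIntegrallyClosed A] (hdim : ringKrullDim A = 2) (a : A)
    (ha : a ∈ IsLocalRing.maximalIdeal A) (ha0 : a ≠ 0) :
    ∃ c : A, c ≠ 0 ∧ IsReduced (A ⧸ Ideal.span {c}) ∧ ∃ n : ℕ, a ∣ c ^ n := by
  have hd : ringKrullDim A = ((2 : ℕ) : WithBot ℕ∞) := by rw [hdim]; rfl
  have hJ0 : (Ideal.span {a}).radical ≠ ⊥ := by
    intro h0
    have : a ∈ (Ideal.span {a}).radical := Ideal.le_radical (Ideal.mem_span_singleton_self a)
    rw [h0, Ideal.mem_bot] at this
    exact ha0 this
  have hJtop : (Ideal.span {a}).radical ≠ ⊤ := by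
    rw [Ne, Ideal.radical_eq_top, Ideal.span_singleton_eq_top]
    exact (IsLocalRing.mem_maximalIdeal a).mp ha
  obtain ⟨c, hcJ, hc0, hred⟩ := Groth.Agent.Lib.Helper28.RedQuot.exists_reduced_quotient 2
    (Groth.Agent.Lib.Helper28.RedQuot.ringKrullDim_quotient_of_height_one_of_dim_two hd)
    hd le_rfl (Ideal.span {a}).radical (Ideal.radical_isRadical _) hJ0 hJtop
  obtain ⟨n, hn⟩ := hcJ
  exact ⟨c, hc0, hred, n, Ideal.mem_span_singleton.mp hn⟩

end Groth.Agent.S7118
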