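import Groth.Statements.S7119
import Groth.Agent.Lib.Helper28RedQuot2
-- import your own Groth.Agent.* helpers here

set_option autoImplicit false
universe u
open CAlg

namespace Groth.Agent.S7119

/-- Let R be a Noetherian normal local domain of Krull dimension 2 and let p_1, ..., p_r be finitely
many prime ideals of height one. Then there is a nonzero element f lying in all the p_i such that
R/fR is reduced. -/
theorem result (R : Type u) [CommRing R] [IsDomain R]
    [IsNoetherianRing R] [IsLocalRing R] [IsIntegrallyClosed R] (hdim : ringKrullDim R = 2)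
    (s : Finset (Ideal R)) (hs : ∀ p ∈ s, p.IsPrime ∧ p.height = 1) :
    ∃ f : R, f ≠ 0 ∧ (∀ p ∈ s, f ∈ p) ∧ IsReduced (R ⧸ Ideal.span {f}) := by
  classical
  have hd : ringKrullDim R = ((2 : ℕ) : WithBot ℕ∞) := by rw [hdim]; rfl
  by_cases hse : s = ∅
  · refine ⟨1, one_ne_zero, by rw [hse]; intro p hp; exact absurd hp (Finset.notMem_empty p), ?_⟩
    have htop : Ideal.span {(1 : R)} = ⊤ := Ideal.span_singleton_one
    have hsub : Subsingleton (R ⧸ Ideal.span {(1 : R)}) :=
      Ideal.Quotient.subsingleton_iff.mpr htop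
    exact ⟨fun x _ => Subsingleton.elim x 0⟩
  · obtain ⟨p₀, hp₀⟩ := Finset.nonempty_iff_ne_empty.mpr hse
    have hrad : (s.inf id).IsRadical := by
      refine Finset.inf_induction (p := fun I : Ideal R => I.IsRadical) (fun x _ => Submodule.mem_top)
        (fun I₁ h₁ I₂ h₂ => h₁.inf h₂) (fun p hp => ?_)
      exact (hs p hp).1.isRadical
    have hJ0 : s.inf id ≠ ⊥ := by
      refine Finset.inf_induction (p := fun I : Ideal R => I ≠ ⊥) top_ne_bot
        (fun I₁ h₁ I₂ h₂ => ?_) (fun p hp => ?_)
      · intro h0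
        have h1 : I₁ * I₂ ≤ I₁ ⊓ I₂ := Ideal.mul_le_inf
        rw [h0, le_bot_iff, Ideal.mul_eq_bot] at h1
        rcases h1 with h1 | h1
        · exact h₁ h1
        · exact h₂ h1
      · intro h0
        have := (hs p hp).2
        rw [show (id p : Ideal R) = p from rfl] at h0
        rw [h0, Ideal.height_bot] at this
        exact zero_ne_one this
    have hJtop : s.inf id ≠ ⊤ := by
      intro h
      have h1 : s.inf id ≤ p₀ := Finset.inf_le (f := id) hp₀
      rw [h, top_le_iff] at h1
      exact (hs p₀ hp₀).1.ne_top h1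
    obtain ⟨f, hfJ, hf0, hred⟩ := Groth.Agent.Lib.Helper28.RedQuot.exists_reduced_quotient 2
      (Groth.Agent.Lib.Helper28.RedQuot.ringKrullDim_quotient_of_height_one_of_dim_two hd)
      hd le_rfl (s.inf id) hrad hJ0 hJtop
    exact ⟨f, hf0, fun p hp => (Finset.inf_le (f := id) hp) hfJ, hred⟩

end Groth.Agent.S7119
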