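import Groth.Statements.S7122
import Mathlib

set_option autoImplicit false
universe u
open CAlg

namespace Groth.Agent.S7122


lemma key (R : Type u) [CommRing R] [IsDomain R] [IsBezout R] : ∀ (n : ℕ) (f : Fin (n + 1) → R),
    ∃ A : Matrix (Fin (n + 1)) (Fin (n + 1)) R, A 0 = f ∧
      Ideal.span {A.det} = Ideal.span (Set.range f) := by
  intro n
  induction n with
  | zero =>
    intro f
    refine ⟨Matrix.of fun _ _ => f 0, ?_, ?_⟩
    · funext j
      have : j = 0 := Fin.ext (by have := j.2; omega)
      subst this; rfl
    · rw [Matrix.det_fin_one]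
      congr 1
      ext x
      simp only [Set.mem_singleton_iff, Set.mem_range, Matrix.of_apply]
      constructor
      · rintro rfl; exact ⟨0, rfl⟩
      · rintro ⟨j, rfl⟩
        have : j = 0 := Fin.ext (by have := j.2; omega)
        subst this; rfl
  | succ n ih =>
    intro f
    obtain ⟨A', hA'0, hA'det⟩ := ih (Fin.tail f)
    have hrange : Set.range f = insert (f 0) (Set.range (Fin.tail f)) := by
      conv_lhs => rw [← Fin.cons_self_tail f]
      exact Fin.range_cons _ _
    by_cases hg : A'.det = 0
    · -- the tail vanishes
      have hbot : Ideal.span (Set.range (Fin.tail f)) = ⊥ := by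
        rw [← hA'det, hg]; simp
      have hf' : ∀ j, Fin.tail f j = 0 := fun j => by
        have : Fin.tail f j ∈ Ideal.span (Set.range (Fin.tail f)) := Ideal.subset_span ⟨j, rfl⟩
        rw [hbot] at this
        exact this
      refine ⟨Matrix.diagonal (Fin.cons (f 0) (fun _ => 1)), ?_, ?_⟩
      · funext j
        refine Fin.cases ?_ (fun j => ?_) j
        · simp [Matrix.diagonal]
        · have := hf' j
          simp only [Fin.tail] at this
          rw [this]
          simp [Matrix.diagonal]
          intro h0; exact absurd h0.symm (Fin.succ_ne_zero j)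
      · rw [Matrix.det_diagonal, Fin.prod_univ_succ]
        simp only [Fin.cons_zero, Fin.cons_succ, Finset.prod_const_one, mul_one]
        rw [hrange, Ideal.span_insert, hbot, sup_bot_eq]
    · -- main case
      have hdiv : ∀ j, ∃ c, Fin.tail f j = A'.det * c := fun j => by
        have : Fin.tail f j ∈ Ideal.span {A'.det} := by
          rw [hA'det]; exact Ideal.subset_span ⟨j, rfl⟩
        obtain ⟨c, hc⟩ := Ideal.mem_span_singleton'.mp this
        exact ⟨c, by rw [← hc, mul_comm]⟩
      choose h hh using hdiv
      have hD : (Matrix.updateRow A' 0 h).det = 1 := by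
        have h1 : A'.det * (Matrix.updateRow A' 0 h).det = A'.det * 1 := by
          rw [← Matrix.det_updateRow_smul, mul_one]
          congr 1
          have : A'.det • h = A' 0 := by
            rw [hA'0]; funext j; rw [Pi.smul_apply, smul_eq_mul, ← hh]
          rw [this, Matrix.updateRow_eq_self]
        exact mul_left_cancel₀ hg h1
      obtain ⟨a, b, hab⟩ := IsBezout.gcd_eq_sum (f 0) A'.det
      let B : Matrix (Fin (n + 2)) (Fin (n + 2)) R :=
        Matrix.of (Fin.cons f (Fin.cons (Fin.cons (-b) (a • h))
          (fun i : Fin n => Fin.cons 0 (A' i.succ))))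
      have hB0 : B 0 = f := rfl
      have hm0 : B.submatrix (Fin.succAbove 0) Fin.succ = Matrix.updateRow A' 0 (a • h) := by
        ext i j
        refine Fin.cases ?_ (fun i => ?_) i
        · simp [B, Matrix.submatrix]
        · simp [B, Matrix.submatrix, Matrix.updateRow_apply, Fin.succ_ne_zero]
      have hm1 : B.submatrix (Fin.succAbove (Fin.succ 0)) Fin.succ = A' := by
        ext i j
        refine Fin.cases ?_ (fun i => ?_) i
        · simp [B, Matrix.submatrix]
          rw [hA'0]; rfl
        · simp [B, Matrix.submatrix]
      have hdet : B.det = IsBezout.gcd (f 0) A'.det := by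
        rw [Matrix.det_succ_column_zero, Fin.sum_univ_succ, Fin.sum_univ_succ]
        rw [hm0, hm1, Matrix.det_updateRow_smul, hD]
        have hrest : ∀ i : Fin n, B i.succ.succ 0 = 0 := fun i => by simp [B]
        simp only [hrest, mul_zero, zero_mul, Finset.sum_const_zero, add_zero]
        have e0 : B 0 0 = f 0 := rfl
        have e1 : B (Fin.succ 0) 0 = -b := by simp [B]
        rw [e0, e1, ← hab]
        simp
        ring
      refine ⟨B, hB0, ?_⟩
      rw [hdet, IsBezout.span_gcd, hrange, Ideal.span_insert, Ideal.span_insert, hA'det]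

/-- Let R be a Bézout domain, n ≥ 1, and f_1, ..., f_n elements generating the unit ideal. Then some
invertible n × n matrix over R has (f_1, ..., f_n) as its first row. -/
theorem result (R : Type u) [CommRing R] [IsDomain R] [IsBezout R]
    (n : ℕ) (f : Fin (n + 1) → R) (hf : Ideal.span (Set.range f) = ⊤) :
    ∃ A : Matrix (Fin (n + 1)) (Fin (n + 1)) R, IsUnit A.det ∧ A 0 = f := by
  obtain ⟨A, hA0, hAdet⟩ := key R n f
  refine ⟨A, ?_, hA0⟩
  rw [hf, Ideal.span_singleton_eq_top] at hAdet
  exact hAdet

end Groth.Agent.S7122
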