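import Groth.Statements.S7120
import Mathlib
import Groth.Agent.S7122

set_option autoImplicit false
universe u
open CAlg

namespace Groth.Agent.S7120


lemma free_span (R : Type u) [CommRing R] [IsDomain R] [IsBezout R] (F : Type u) [AddCommGroup F]
    [Module R F] (htf : ∀ (d : R) (v : F), d ≠ 0 → d • v = 0 → v = 0) :
    ∀ (k : ℕ) (x : Fin k → F), Module.Free R (Submodule.span R (Set.range x)) := by
  intro k
  induction k with
  | zero =>
    intro x
    have : Submodule.span R (Set.range x) = ⊥ := by
      rw [Set.range_eq_empty x, Submodule.span_empty]
    rw [this]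
    infer_instance
  | succ n ih =>
    intro x
    by_cases hli : LinearIndependent R x
    · exact Module.Free.of_basis (Module.Basis.span hli)
    · rw [Fintype.linearIndependent_iff] at hli
      push Not at hli
      obtain ⟨c, hc, i₀, hi₀⟩ := hli
      have hfg : (Ideal.span (Set.range c)).FG := Submodule.fg_span (Set.finite_range c)
      obtain ⟨d, hd⟩ := (IsBezout.isPrincipal_of_FG _ hfg).principal
      have hd' : Ideal.span (Set.range c) = Ideal.span {d} := hd
      have hd0 : d ≠ 0 := by
        rintro rfl
        have : c i₀ ∈ Ideal.span (Set.range c) := Ideal.subset_span ⟨i₀, rfl⟩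
        rw [hd'] at this
        simp at this
        exact hi₀ this
      have hdiv : ∀ i, ∃ e, c i = d * e := fun i => by
        have : c i ∈ Ideal.span {d} := by rw [← hd']; exact Ideal.subset_span ⟨i, rfl⟩
        obtain ⟨e, he⟩ := Ideal.mem_span_singleton'.mp this
        exact ⟨e, by rw [← he, mul_comm]⟩
      choose c' hc' using hdiv
      have hunim : Ideal.span (Set.range c') = ⊤ := by
        have hdmem : d ∈ Ideal.span (Set.range c) := by
          rw [hd']; exact Ideal.subset_span rfl
        rw [Ideal.eq_top_iff_one]
        obtain ⟨t, ht⟩ := (Ideal.mem_span_range_iff_exists_fun).mp hdmem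
        have h1 : d * ∑ i, t i * c' i = d * 1 := by
          rw [mul_one, Finset.mul_sum]
          conv_rhs => rw [← ht]
          refine Finset.sum_congr rfl fun i _ => ?_
          rw [hc' i]; ring
        have h2 := mul_left_cancel₀ hd0 h1
        rw [← h2]
        exact Ideal.sum_mem _ fun i _ => Ideal.mul_mem_left _ _ (Ideal.subset_span ⟨i, rfl⟩)
      have hrel : ∑ i, c' i • x i = 0 := by
        have : d • ∑ i, c' i • x i = 0 := by
          rw [Finset.smul_sum, ← hc]
          refine Finset.sum_congr rfl fun i _ => ?_
          rw [smul_smul, ← hc' i]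
        exact htf d _ hd0 this
      obtain ⟨A, hA0, hAdet⟩ := Groth.Agent.S7122.key R n c'
      have hunit : IsUnit A.det := by
        rw [hunim, Ideal.span_singleton_eq_top] at hAdet
        exact hAdet
      let y : Fin (n + 1) → F := fun i => ∑ j, A i j • x j
      have hy0 : y 0 = 0 := by
        show ∑ j, A 0 j • x j = 0
        rw [hA0]; exact hrel
      have hspan : Submodule.span R (Set.range y) = Submodule.span R (Set.range x) := by
        apply le_antisymm
        · rw [Submodule.span_le]
          rintro _ ⟨i, rfl⟩
          exact Submodule.sum_mem _ fun j _ =>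
            Submodule.smul_mem _ _ (Submodule.subset_span ⟨j, rfl⟩)
        · rw [Submodule.span_le]
          rintro _ ⟨j, rfl⟩
          have hx : x j = ∑ i, (A⁻¹) j i • y i := by
            simp only [y, Finset.smul_sum, smul_smul]
            rw [Finset.sum_comm]
            simp only [← Finset.sum_smul]
            have : ∀ l, ∑ i, A⁻¹ j i * A i l = (1 : Matrix (Fin (n+1)) (Fin (n+1)) R) j l := fun l => by
              rw [← Matrix.mul_apply, Matrix.nonsing_inv_mul A hunit]
            simp only [this, Matrix.one_apply, ite_smul, one_smul, zero_smul]
            simp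
          rw [hx]
          exact Submodule.sum_mem _ fun i _ =>
            Submodule.smul_mem _ _ (Submodule.subset_span ⟨i, rfl⟩)
      have htail : Submodule.span R (Set.range y) = Submodule.span R (Set.range (Fin.tail y)) := by
        have hr : Set.range y = insert (y 0) (Set.range (Fin.tail y)) := by
          conv_lhs => rw [← Fin.cons_self_tail y]
          exact Fin.range_cons _ _
        rw [hr, hy0, Submodule.span_insert_zero]
      rw [← hspan, htail]
      exact ih (Fin.tail y)

/-- Over a Bézout domain, a finitely generated submodule of a free module is itself free of finite rank. -/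
theorem result (R : Type u) [CommRing R] [IsDomain R] [IsBezout R]
    (F : Type u) [AddCommGroup F] [Module R F] [Module.Free R F] (N : Submodule R F) (hN : N.FG) :
    Module.Free R N ∧ Module.Finite R N := by
  refine ⟨?_, Module.Finite.iff_fg.mpr hN⟩
  obtain ⟨k, x, rfl⟩ := Submodule.fg_iff_exists_fin_generating_family.mp hN
  refine free_span R F ?_ k x
  intro d v hd hv
  let b := Module.Free.chooseBasis R F
  have h1 : b.repr (d • v) = 0 := by rw [hv, map_zero]
  rw [map_smul] at h1
  have h2 : b.repr v = 0 := by
    ext i
    have := DFunLike.congr_fun h1 i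
    simp only [Finsupp.smul_apply, smul_eq_mul, Finsupp.zero_apply] at this
    exact (mul_eq_zero.mp this).resolve_left hd
  exact (LinearEquiv.map_eq_zero_iff _).mp h2

end Groth.Agent.S7120
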