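import Groth.Statements.S7123
import Mathlib

set_option autoImplicit false
universe u
open CAlg

namespace Groth.Agent.S7123

open DirectSum

section
variable {R : Type u} [CommRing R]

lemma smul_mk_one (r : R) : r • (Ideal.Quotient.mk (Ideal.span {r}) 1) = 0 := by
  have : r • (Ideal.Quotient.mk (Ideal.span {r}) 1) = Ideal.Quotient.mk (Ideal.span {r}) r := by
    rw [Algebra.smul_def]; simp
  rw [this]
  exact Ideal.Quotient.eq_zero_iff_mem.mpr (Ideal.mem_span_singleton_self _)

/-- the map `R ⧸ (r) → B` sending `1` to an element killed by `r`. -/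
noncomputable def cyc {B : Type u} [AddCommGroup B] [Module R B] (r : R) (b : B) (hb : r • b = 0) :
    (R ⧸ Ideal.span {r}) →ₗ[R] B :=
  Submodule.liftQ (Ideal.span {r}) (LinearMap.toSpanSingleton R B b) (by
    intro t ht
    obtain ⟨s, rfl⟩ := Ideal.mem_span_singleton'.mp ht
    rw [LinearMap.mem_ker, LinearMap.toSpanSingleton_apply, mul_smul, hb, smul_zero])

lemma cyc_mk_one {B : Type u} [AddCommGroup B] [Module R B] (r : R) (b : B) (hb : r • b = 0) :
    cyc r b hb (Ideal.Quotient.mk _ 1) = b := by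
  show (LinearMap.toSpanSingleton R B b) 1 = b
  rw [LinearMap.toSpanSingleton_apply, one_smul]

lemma quot_ext {C : Type u} [AddCommGroup C] [Module R C] (r : R)
    (g g' : (R ⧸ Ideal.span {r}) →ₗ[R] C)
    (h : g (Ideal.Quotient.mk _ 1) = g' (Ideal.Quotient.mk _ 1)) : g = g' := by
  apply LinearMap.ext
  intro x
  obtain ⟨t, rfl⟩ := Ideal.Quotient.mk_surjective x
  have : Ideal.Quotient.mk (Ideal.span {r}) t = t • Ideal.Quotient.mk (Ideal.span {r}) 1 := by
    rw [Algebra.smul_def]; simp
  rw [this, map_smul, map_smul, h]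
end

open DirectSum in
/-- For a module P over a ring R these two conditions are equivalent: (1) P is a retract (direct
summand) of a direct sum of cyclic modules R/fR, f ranging over R; (2) for every surjection of
R-modules π : B → C whose kernel A satisfies fA = A ∩ fB for every f in R, each linear map P → C
lifts through π. -/
theorem result (R : Type u) [CommRing R] (P : Type u)
    [AddCommGroup P] [Module R P] :
    (∃ (ι : Type u) (f : ι → R) (i : P →ₗ[R] (⨁ j, R ⧸ Ideal.span {f j}))
        (p : (⨁ j, R ⧸ Ideal.span {f j}) →ₗ[R] P), p ∘ₗ i = LinearMap.id) ↔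
      ∀ (B C : Type u) [AddCommGroup B] [Module R B] [AddCommGroup C] [Module R C] (π : B →ₗ[R] C),
        Function.Surjective π →
        (∀ (f : R) (b : B), π (f • b) = 0 → ∃ a : B, π a = 0 ∧ f • a = f • b) →
        ∀ ψ : P →ₗ[R] C, ∃ φ : P →ₗ[R] B, π ∘ₗ φ = ψ := by
  classical
  constructor
  · rintro ⟨ι, f, i, p, hpi⟩ B C _ _ _ _ π hπ hrd ψ
    have hex : ∀ j : ι, ∃ b : B, π b = ψ (p (DirectSum.lof R ι (fun j => R ⧸ Ideal.span {f j}) j
        (Ideal.Quotient.mk _ 1))) ∧ f j • b = 0 := by
      intro j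
      set c := ψ (p (DirectSum.lof R ι (fun j => R ⧸ Ideal.span {f j}) j (Ideal.Quotient.mk _ 1)))
        with hc
      obtain ⟨b, hb⟩ := hπ c
      have hfc : f j • c = 0 := by
        rw [hc, ← map_smul, ← map_smul, ← map_smul, smul_mk_one, map_zero, map_zero, map_zero]
      obtain ⟨a, ha, hfa⟩ := hrd (f j) b (by rw [map_smul, hb, hfc])
      exact ⟨b - a, by rw [map_sub, ha, sub_zero, hb], by rw [smul_sub, hfa, sub_self]⟩
    choose b' hb' hfb' using hex
    let G : (⨁ j, R ⧸ Ideal.span {f j}) →ₗ[R] B :=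
      DirectSum.toModule R ι B (fun j => cyc (f j) (b' j) (hfb' j))
    have hG : π ∘ₗ G = ψ ∘ₗ p := by
      apply DirectSum.linearMap_ext
      intro j
      apply quot_ext
      simp only [LinearMap.comp_apply, G, DirectSum.toModule_lof]
      rw [cyc_mk_one, hb']
    refine ⟨G ∘ₗ i, ?_⟩
    rw [← LinearMap.comp_assoc, hG, LinearMap.comp_assoc, hpi, LinearMap.comp_id]
  · intro h
    let ι : Type u := {q : R × P // q.1 • q.2 = 0}
    let f : ι → R := fun q => q.1.1
    let π : (⨁ q : ι, R ⧸ Ideal.span {f q}) →ₗ[R] P :=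
      DirectSum.toModule R ι P (fun q => cyc (f q) q.1.2 q.2)
    have hπlof : ∀ q : ι, π (DirectSum.lof R ι (fun q => R ⧸ Ideal.span {f q}) q
        (Ideal.Quotient.mk _ 1)) = q.1.2 := by
      intro q
      simp only [π, DirectSum.toModule_lof]
      exact cyc_mk_one _ _ _
    have hsurj : Function.Surjective π := by
      intro x
      exact ⟨_, hπlof ⟨(0, x), zero_smul R x⟩⟩
    have hrd : ∀ (r : R) (b : ⨁ q : ι, R ⧸ Ideal.span {f q}), π (r • b) = 0 →
        ∃ a, π a = 0 ∧ r • a = r • b := by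
      intro r b hb
      rw [map_smul] at hb
      let q : ι := ⟨(r, π b), hb⟩
      let e := DirectSum.lof R ι (fun q => R ⧸ Ideal.span {f q}) q (Ideal.Quotient.mk _ 1)
      have he : π e = π b := hπlof q
      have hre : r • e = 0 := by
        show r • DirectSum.lof R ι (fun q => R ⧸ Ideal.span {f q}) q (Ideal.Quotient.mk _ 1) = 0
        rw [← map_smul]
        have : r • (Ideal.Quotient.mk (Ideal.span {f q}) 1) = 0 := smul_mk_one r
        rw [this, map_zero]
      exact ⟨b - e, by rw [map_sub, he, sub_self], by rw [smul_sub, hre, sub_zero]⟩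
    obtain ⟨φ, hφ⟩ := h _ P π hsurj hrd LinearMap.id
    exact ⟨ι, f, φ, π, hφ⟩

end Groth.Agent.S7123
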