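import Groth.Statements.S7124
import Mathlib
import Groth.Agent.Lib.Helper10ValEF
-- import your own Groth.Agent.* helpers here

set_option autoImplicit false
universe u
open CAlg

namespace Groth.Agent.S7124

/-- Let A ⊆ B be an extension of valuation rings (both valuation domains, the inclusion injective and
local) with fraction fields K ⊆ L such that L/K is finite. Then the residue field of B is finite
over that of A, the value group of A has finite index in the value group of B, and (index of value
groups) · (residue degree) ≤ [L : K]. Here the value group of B is written as Lˣ modulo the units of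
B, and that of A as the image of Kˣ in it. -/
theorem result (A B K L : Type u) [CommRing A] [IsDomain A]
    [ValuationRing A] [CommRing B] [IsDomain B] [ValuationRing B] [Field K] [Field L]
    [Algebra A K] [IsFractionRing A K] [Algebra B L] [IsFractionRing B L] [Algebra A B] [Algebra K L]
    [Algebra A L] [IsScalarTower A K L] [IsScalarTower A B L] (hinj : Function.Injective (algebraMap A B))
    [IsLocalHom (algebraMap A B)] [FiniteDimensional K L] :
    let UB : Subgroup Lˣ := (Units.map (algebraMap B L).toMonoidHom).range
    let ΓA : Subgroup (Lˣ ⧸ UB) := ((QuotientGroup.mk' UB).comp (Units.map (algebraMap K L).toMonoidHom)).range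
    Module.Finite (IsLocalRing.ResidueField A) (IsLocalRing.ResidueField B) ∧ ΓA.index ≠ 0 ∧
      ΓA.index * Module.finrank (IsLocalRing.ResidueField A) (IsLocalRing.ResidueField B) ≤
        Module.finrank K L := by
  intro UB ΓA
  classical
  have bound : ∀ (σ τ : Type u) [Fintype σ] [Fintype τ] (ι : σ → (Lˣ ⧸ UB) ⧸ ΓA)
      (_ : Function.Injective ι) (b' : τ → IsLocalRing.ResidueField B)
      (_ : LinearIndependent (IsLocalRing.ResidueField A) b'),
      Fintype.card σ * Fintype.card τ ≤ Module.finrank K L := by
    intro σ τ _ _ ι hι b' hb'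
    have hsurj1 : ∀ q : (Lˣ ⧸ UB) ⧸ ΓA, ∃ x : Lˣ,
        (QuotientGroup.mk (QuotientGroup.mk' UB x) : (Lˣ ⧸ UB) ⧸ ΓA) = q := by
      intro q
      obtain ⟨y, rfl⟩ := QuotientGroup.mk_surjective q
      obtain ⟨x, rfl⟩ := QuotientGroup.mk'_surjective UB y
      exact ⟨x, rfl⟩
    choose g hg using fun i => hsurj1 (ι i)
    choose b hb using fun j => IsLocalRing.residue_surjective (b' j)
    have hb2 : LinearIndependent (IsLocalRing.ResidueField A)
        (fun j => IsLocalRing.residue B (b j)) := by
      have : (fun j => IsLocalRing.residue B (b j)) = b' := funext hb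
      rw [this]; exact hb'
    have hLI := Groth.Agent.Lib.Helper10.ValEF.linearIndependent_mul A B K L g b ?_ hb2
    · have := hLI.fintype_card_le_finrank
      rwa [Fintype.card_prod] at this
    · intro i i' hne c u heq
      apply hne
      apply hι
      rw [← hg i, ← hg i']
      have hunits : g i = g i' * Units.map (algebraMap K L).toMonoidHom c *
          Units.map (algebraMap B L).toMonoidHom u := by
        ext
        simpa using heq
      have hkey : (g i)⁻¹ * g i' = (Units.map (algebraMap B L).toMonoidHom u)⁻¹ *
          (Units.map (algebraMap K L).toMonoidHom c)⁻¹ := by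
        rw [hunits, mul_inv_rev, mul_inv_rev, mul_assoc, inv_mul_cancel_right]
      rw [QuotientGroup.eq]
      refine ⟨c⁻¹, ?_⟩
      change QuotientGroup.mk' UB (Units.map (algebraMap K L).toMonoidHom c⁻¹) =
        (QuotientGroup.mk' UB (g i))⁻¹ * QuotientGroup.mk' UB (g i')
      rw [← map_inv, ← map_mul, hkey, QuotientGroup.mk'_apply, QuotientGroup.mk'_apply,
        QuotientGroup.eq]
      refine ⟨u⁻¹, ?_⟩
      rw [map_inv, map_inv, inv_inv, mul_left_comm, mul_inv_cancel, mul_one]
  have hfin : Module.Finite (IsLocalRing.ResidueField A) (IsLocalRing.ResidueField B) := by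
    have hrank : Module.rank (IsLocalRing.ResidueField A) (IsLocalRing.ResidueField B) ≤
        (Module.finrank K L : ℕ) := by
      apply rank_le
      intro s hs
      have := bound PUnit s (fun _ => QuotientGroup.mk 1) (Function.injective_of_subsingleton _)
        (fun i : s => (i : IsLocalRing.ResidueField B)) hs
      simpa using this
    exact Module.rank_lt_aleph0_iff.mp (lt_of_le_of_lt hrank (Cardinal.nat_lt_aleph0 _))
  have hQ : Finite ((Lˣ ⧸ UB) ⧸ ΓA) := by
    by_contra hinf
    rw [not_finite_iff_infinite] at hinf
    obtain ⟨s, hs⟩ := Infinite.exists_subset_card_eq ((Lˣ ⧸ UB) ⧸ ΓA) (Module.finrank K L + 1)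
    have h1 : LinearIndependent (IsLocalRing.ResidueField A)
        (fun _ : PUnit.{u+1} => (1 : IsLocalRing.ResidueField B)) :=
      LinearIndependent.of_subsingleton PUnit.unit one_ne_zero
    have := bound s PUnit (fun i => (i : (Lˣ ⧸ UB) ⧸ ΓA)) Subtype.val_injective _ h1
    simp [hs] at this
  refine ⟨hfin, ?_, ?_⟩
  · exact Subgroup.index_ne_zero_of_finite
  · haveI := Fintype.ofFinite ((Lˣ ⧸ UB) ⧸ ΓA)
    have hbasis := Module.finBasis (IsLocalRing.ResidueField A) (IsLocalRing.ResidueField B)
    have := bound ((Lˣ ⧸ UB) ⧸ ΓA)
      (ULift.{u} (Fin (Module.finrank (IsLocalRing.ResidueField A) (IsLocalRing.ResidueField B))))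
      id Function.injective_id (fun j => hbasis j.down)
      (hbasis.linearIndependent.comp _ ULift.down_injective)
    rw [Subgroup.index, Nat.card_eq_fintype_card]
    simpa using this

end Groth.Agent.S7124
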