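import Groth.Statements.S7125
import Groth.Agent.Lib.Helper28UnitPow
import Groth.Agent.Lib.Helper22AssHeightOne
-- import your own Groth.Agent.* helpers here

set_option autoImplicit false
universe u
open CAlg

namespace Groth.Agent.S7125

open TensorProduct Groth.Agent.Lib.Helper28 Groth.Agent.Lib.Helper28.UnitPow
theorem smul_tmul_one_eq_zero_iff {A B : Type u} [CommRing A] [CommRing B] [Algebra A B]
    (J : Ideal A) (y : B) (a : A) :
    a • (y ⊗ₜ[A] (1 : A ⧸ J)) = 0 ↔ algebraMap A B a * y ∈ J.map (algebraMap A B) := by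
  have hk := Groth.Agent.Lib.Helper28.ker_tmulOne (B := B) B J
  have h1 : a • (y ⊗ₜ[A] (1 : A ⧸ J)) = Groth.Agent.Lib.Helper28.tmulOne (B := B) B J (a • y) := by
    rw [TensorProduct.smul_tmul']
    rfl
  rw [h1, ← LinearMap.mem_ker, hk, smul_eq_mul, Ideal.mul_top, Algebra.smul_def]

/-- Let A and B be Noetherian local normal domains and A → B a flat homomorphism that is local, and let
f in A, h in B, n > 1 and a unit w of B satisfy f = w·hⁿ in B. Assume that for every height-one
prime p of A there is a height-one prime q of B lying over p such that A_p ⊆ B_q is weakly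
unramified, i.e. p generates the maximal ideal of B_q. Then f = u·gⁿ for some g in A and some unit u
of A. -/
theorem result (A B : Type u) [CommRing A] [IsDomain A]
    [IsNoetherianRing A] [IsLocalRing A] [IsIntegrallyClosed A] [CommRing B] [IsDomain B] [IsNoetherianRing B]
    [IsLocalRing B] [IsIntegrallyClosed B] [Algebra A B] [IsLocalHom (algebraMap A B)] [Module.Flat A B]
    (f : A) (h : B) (n : ℕ) (hn : 1 < n) (w : Bˣ) (hf : algebraMap A B f = (w : B) * h ^ n)
    (hram : ∀ (p : Ideal A) [p.IsPrime], p.height = 1 →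
      ∃ (q : Ideal B) (_ : q.IsPrime), q.height = 1 ∧ q.comap (algebraMap A B) = p ∧
        Ideal.map (algebraMap B (Localization.AtPrime q)) (Ideal.map (algebraMap A B) p) =
          IsLocalRing.maximalIdeal (Localization.AtPrime q)) :
    ∃ (g : A) (u : Aˣ), f = (u : A) * g ^ n := by
  classical
  by_cases hf0 : f = 0
  · exact ⟨0, 1, by rw [hf0, zero_pow (by omega), mul_zero]⟩
  have hn0 : n ≠ 0 := by omega
  have hff : Module.FaithfullyFlat A B := Module.FaithfullyFlat.of_flat_of_isLocalHom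
  have hcm : ∀ J : Ideal A, (J.map (algebraMap A B)).comap (algebraMap A B) = J :=
    fun J => Ideal.comap_map_eq_self_of_faithfullyFlat J
  have hinj : Function.Injective (algebraMap A B) := by
    rw [injective_iff_map_eq_zero]
    intro x hx
    have : x ∈ ((⊥ : Ideal A).map (algebraMap A B)).comap (algebraMap A B) := by
      rw [Ideal.mem_comap, hx]; exact Ideal.zero_mem _
    rwa [hcm, Ideal.mem_bot] at this
  have hh0 : h ≠ 0 := by
    rintro rfl
    rw [zero_pow hn0, mul_zero] at hf
    exact hf0 (hinj (hf.trans (map_zero _).symm))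
  set I : Ideal A := (Ideal.span {h}).comap (algebraMap A B) with hIdef
  have hI : ∀ x, x ∈ I ↔ h ∣ algebraMap A B x := by
    intro x
    rw [hIdef, Ideal.mem_comap, Ideal.mem_span_singleton]
  -- associated primes of `A/I` have height one
  have hF2 : ∀ p : Ideal A, IsAssociatedPrime p (A ⧸ I) → p.height = 1 := by
    intro p hp
    obtain ⟨hprime, xbar, hx⟩ := (isAssociatedPrime_iff).mp hp
    obtain ⟨x, rfl⟩ := Ideal.Quotient.mk_surjective xbar
    have hpx : ∀ a : A, a ∈ p ↔ h ∣ algebraMap A B (a * x) := by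
      intro a
      rw [hx, Submodule.mem_colon_singleton, Submodule.mem_bot, ← hI,
        ← Ideal.Quotient.eq_zero_iff_mem, map_mul]
      rfl
    have hass : IsAssociatedPrime p (B ⊗[A] (A ⧸ Ideal.span {f})) := by
      rw [isAssociatedPrime_iff]
      refine ⟨hprime, (algebraMap A B x * h ^ (n - 1) * w) ⊗ₜ[A] 1, ?_⟩
      ext a
      rw [Submodule.mem_colon_singleton, Submodule.mem_bot, smul_tmul_one_eq_zero_iff, hpx,
        Ideal.map_span, Set.image_singleton, Ideal.mem_span_singleton, hf]
      have hpow : h ^ n = h ^ (n - 1) * h := by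
        rw [← pow_succ]; congr 1; omega
      rw [hpow, map_mul]
      constructor
      · rintro ⟨c, hc⟩
        refine ⟨c, ?_⟩
        have : algebraMap A B a * (algebraMap A B x * h ^ (n - 1) * ↑w) =
            (algebraMap A B a * algebraMap A B x) * (h ^ (n - 1) * ↑w) := by ring
        rw [this, hc]; ring
      · rintro ⟨c, hc⟩
        refine ⟨c, ?_⟩
        have hne : (w : B) * h ^ (n - 1) ≠ 0 := mul_ne_zero w.ne_zero (pow_ne_zero _ hh0)
        apply mul_left_cancel₀ hne
        rw [← sub_eq_zero] at hc ⊢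
        rw [← hc]
        ring
    have h1 := isAssociatedPrime_of_tensor_flat B (A ⧸ Ideal.span {f}) p hass
    exact Groth.Agent.Lib.Helper22.AssHeightOne.height_eq_one_of_mem_associatedPrimes f hf0 p h1
  -- local computation at height-one primes
  have hLC : ∀ p : Ideal A, p.IsPrime → p.height = 1 →
      ∃ s : A, s ∉ p ∧ algebraMap A B s * h ∈ I.map (algebraMap A B) := by
    intro p hpp hp1
    obtain ⟨τ, a, σ, α, hτp, hσ, hα, hfa, hgen⟩ := exists_local_uniformizer p hp1 f hf0
    obtain ⟨q, hqp, hq1, hqcomap, hqmax⟩ := hram p hp1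
    have hq0 : q ≠ ⊥ := by
      rintro rfl
      rw [Ideal.height_bot] at hq1
      exact zero_ne_one hq1
    obtain ⟨b, rfl⟩ := exists_eq_mul_of_weaklyUnramified p q hq0 hqcomap hqmax τ hτp hgen f a σ α
      hσ hα hfa h n w hf hh0
    have hB : algebraMap A B σ * (w * h ^ n) = algebraMap A B α * (algebraMap A B τ ^ b) ^ n := by
      rw [← hf, ← map_mul, hfa, map_mul, map_pow, ← pow_mul, mul_comm b n]
    have hps : ∀ t : B, t ^ n = t ^ (n - 1) * t := by
      intro t
      rw [← pow_succ]; congr 1; omega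
    have h1 : h ∣ algebraMap A B (α * τ ^ b) := by
      rw [← IsIntegrallyClosed.pow_dvd_pow_iff hn0]
      refine ⟨algebraMap A B α ^ (n - 1) * algebraMap A B σ * w, ?_⟩
      rw [map_mul, map_pow, mul_pow, hps (algebraMap A B α), mul_assoc, ← hB]
      ring
    have h2 : algebraMap A B τ ^ b ∣ algebraMap A B σ * h := by
      rw [← IsIntegrallyClosed.pow_dvd_pow_iff hn0]
      refine ⟨algebraMap A B σ ^ (n - 1) * ↑w⁻¹ * algebraMap A B α, ?_⟩
      have hw : (↑w⁻¹ : B) * w = 1 := Units.inv_mul w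
      rw [mul_pow, hps (algebraMap A B σ)]
      linear_combination (algebraMap A B σ ^ (n - 1) * ↑w⁻¹) * hB -
        (algebraMap A B σ ^ (n - 1) * algebraMap A B σ * h ^ n) * hw
    obtain ⟨y₂, hy₂⟩ := h2
    refine ⟨α * σ, fun hmem => (hpp.mem_or_mem hmem).elim hα hσ, ?_⟩
    have : algebraMap A B (α * σ) * h = algebraMap A B (α * τ ^ b) * y₂ := by
      rw [map_mul, mul_assoc, hy₂, map_mul, map_pow]; ring
    rw [this]
    exact Ideal.mul_mem_right _ _ (Ideal.mem_map_of_mem _ ((hI _).mpr h1))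
  -- `h ∈ I B`
  have key : h ∈ I.map (algebraMap A B) := by
    have hz : (h ⊗ₜ[A] (1 : A ⧸ I) : B ⊗[A] (A ⧸ I)) = 0 := by
      by_contra hz
      obtain ⟨p, hpass, hle⟩ := exists_le_isAssociatedPrime_of_isNoetherianRing A _ hz
      have hp' := isAssociatedPrime_of_tensor_flat B (A ⧸ I) p hpass
      have hpp := hp'.isPrime
      obtain ⟨s, hsp, hs⟩ := hLC p hpp (hF2 p hp')
      apply hsp
      apply hle
      rw [Submodule.mem_colon_singleton, Submodule.mem_bot, smul_tmul_one_eq_zero_iff]
      exact hs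
    have := (smul_tmul_one_eq_zero_iff I h 1).mp (by rw [one_smul]; exact hz)
    rwa [map_one, one_mul] at this
  -- `I` contains an associate of `h`
  obtain ⟨g, hgI, c, hc, hgc⟩ : ∃ g ∈ I, ∃ c : B, IsUnit c ∧ algebraMap A B g = h * c := by
    by_contra hcon
    push Not at hcon
    have hle : I.map (algebraMap A B) ≤ Ideal.span {h} * IsLocalRing.maximalIdeal B := by
      rw [Ideal.map_le_iff_le_comap]
      intro x hx
      obtain ⟨c, hc⟩ := (hI x).mp hx
      rw [Ideal.mem_comap, hc]
      exact Ideal.mul_mem_mul (Ideal.mem_span_singleton_self h)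
        ((IsLocalRing.mem_maximalIdeal c).mpr (fun hu => hcon x hx c hu hc))
    have h1 := hle key
    rw [Ideal.mem_span_singleton_mul] at h1
    obtain ⟨c, hc, hcc⟩ := h1
    have : c = 1 := mul_left_cancel₀ hh0 (by rw [hcc, mul_one])
    rw [this] at hc
    exact (IsLocalRing.mem_maximalIdeal _).mp hc isUnit_one
  obtain ⟨cu, rfl⟩ := hc
  have hfg : f ∈ Ideal.span {g ^ n} := by
    rw [← hcm (Ideal.span {g ^ n}), Ideal.mem_comap, Ideal.map_span, Set.image_singleton,
      Ideal.mem_span_singleton, map_pow, hgc, hf]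
    refine ⟨w * (↑cu⁻¹ : B) ^ n, ?_⟩
    have hcu : (cu : B) ^ n * (↑cu⁻¹ : B) ^ n = 1 := by
      rw [← mul_pow, Units.mul_inv, one_pow]
    rw [mul_pow]
    linear_combination (-(w : B) * h ^ n) * hcu
  have hgf : g ^ n ∈ Ideal.span {f} := by
    rw [← hcm (Ideal.span {f}), Ideal.mem_comap, Ideal.map_span, Set.image_singleton,
      Ideal.mem_span_singleton, map_pow, hgc, hf]
    refine ⟨(↑w⁻¹ : B) * (cu : B) ^ n, ?_⟩
    have hw : (w : B) * ↑w⁻¹ = 1 := Units.mul_inv w
    rw [mul_pow]
    linear_combination (-(h ^ n * (cu : B) ^ n)) * hw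
  obtain ⟨u₀, hu₀⟩ := Ideal.mem_span_singleton.mp hfg
  obtain ⟨u₁, hu₁⟩ := Ideal.mem_span_singleton.mp hgf
  have hu : u₁ * u₀ = 1 := by
    have : f * (u₁ * u₀) = f * 1 := by rw [← mul_assoc, ← hu₁, ← hu₀, mul_one]
    exact mul_left_cancel₀ hf0 this
  refine ⟨g, ⟨u₀, u₁, by rw [mul_comm]; exact hu, hu⟩, ?_⟩
  change f = u₀ * g ^ n
  rw [hu₀, mul_comm]

end Groth.Agent.S7125
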