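import Groth.Statements.S7128
import Mathlib
import Groth.Agent.Lib.Helper10WEtale
import Groth.Agent.Lib.Helper10AbsFlat
-- import your own Groth.Agent.* helpers here

set_option autoImplicit false
universe u
open EtAlg

namespace Groth.Agent.S7128

/-- A weakly étale algebra over a reduced ring is itself reduced. -/
theorem result (A B : Type u) [CommRing A] [CommRing B] [Algebra A B] [IsReduced A]
    [Algebra.WeaklyEtale A B] : IsReduced B := by
  classical
  let K' := ∀ p : PrimeSpectrum A, p.asIdeal.ResidueField
  have hinj : Function.Injective (algebraMap A K') := by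
    rw [injective_iff_map_eq_zero]
    intro a ha
    have hmem : a ∈ nilradical A := by
      rw [nilradical_eq_sInf, Ideal.mem_sInf]
      intro p hp
      have hp' : p.IsPrime := hp
      have h1 := congrFun ha ⟨p, hp'⟩
      exact Ideal.algebraMap_residueField_eq_zero.mp h1
    rw [nilradical_eq_zero] at hmem
    exact hmem
  have hW : Algebra.WeaklyEtale K' (TensorProduct A K' B) := inferInstance
  have hvnr : Groth.Agent.Lib.Helper10.IsVNR (TensorProduct A K' B) := by
    apply Groth.Agent.Lib.Helper10.isVNR_of_flat
    intro a
    haveI : Module.Flat K' (TensorProduct A K' B ⧸ Ideal.span {a}) :=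
      Groth.Agent.Lib.Helper10.IsVNR.flat (Groth.Agent.Lib.Helper10.isVNR_pi_field _ _) _
    exact Groth.Agent.Lib.Helper10.WEtale.flat_of_flat_lmul' K' (TensorProduct A K' B)
      (Algebra.WeaklyEtale.flat_lmul' K' (TensorProduct A K' B)) _
  have hred : IsReduced (TensorProduct A K' B) := hvnr.isReduced
  have hinj' : Function.Injective
      (Algebra.TensorProduct.includeRight : B →ₐ[A] TensorProduct A K' B) :=
    Algebra.TensorProduct.includeRight_injective hinj
  exact isReduced_of_injective _ hinj'

end Groth.Agent.S7128
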