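import Groth.Statements.S7135
import Groth.Agent.Lib.Helper14HomAR
import Groth.Agent.Lib.Helper6AdicBij

set_option autoImplicit false
universe u
open CAlg

namespace Groth.Agent.S7135

section Aux

variable {A : Type u} [CommRing A] [IsNoetherianRing A] (I : Ideal A)

/-- every element of the completion is congruent modulo `I` to an element of the module -/
theorem exists_of_sub_mem (N : Type u) [AddCommGroup N] [Module A N] (y : AdicCompletion I N) :
    ∃ n : N, y - AdicCompletion.of I N n ∈ (I • ⊤ : Submodule A (AdicCompletion I N)) := by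
  have hfg : I.FG := IsNoetherian.noetherian I
  obtain ⟨n, hn⟩ := Submodule.mkQ_surjective _ (AdicCompletion.eval I N 1 y)
  refine ⟨n, ?_⟩
  have h1 : y - AdicCompletion.of I N n ∈ LinearMap.ker (AdicCompletion.eval I N 1) := by
    rw [LinearMap.mem_ker, map_sub, AdicCompletion.eval_of, hn, sub_self]
  rw [← AdicCompletion.pow_smul_top_eq_ker_eval hfg, pow_one] at h1
  exact h1

/-- a map which is surjective modulo `I` induces a surjection on completions -/
theorem map_surjective_of_surjective_mod {M N : Type u} [AddCommGroup M] [Module A M]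
    [AddCommGroup N] [Module A N] (φ : M →ₗ[A] N)
    (hφ : ∀ n : N, ∃ m : M, n - φ m ∈ (I • ⊤ : Submodule A N)) :
    Function.Surjective (AdicCompletion.map I φ) := by
  have hfg : I.FG := IsNoetherian.noetherian I
  haveI := AdicCompletion.isAdicComplete (I := I) (M := M) hfg
  haveI := AdicCompletion.isAdicComplete (I := I) (M := N) hfg
  have key : Function.Surjective ((AdicCompletion.map I φ).restrictScalars A) := by
    apply Groth.Agent.Lib.Helper6.surjective_of_surjective_mod I
    intro y
    obtain ⟨n, hn⟩ := exists_of_sub_mem I N y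
    obtain ⟨m, hm⟩ := hφ n
    refine ⟨AdicCompletion.of I M m, ?_⟩
    have h1 : AdicCompletion.of I N (n - φ m) ∈ (I • ⊤ : Submodule A (AdicCompletion I N)) :=
      Groth.Agent.Lib.Helper14.HomAR.map_mem_smul_top I (AdicCompletion.of I N) hm
    have h2 : y - ((AdicCompletion.map I φ).restrictScalars A) (AdicCompletion.of I M m) =
        (y - AdicCompletion.of I N n) + AdicCompletion.of I N (n - φ m) := by
      rw [LinearMap.restrictScalars_apply, AdicCompletion.map_of, map_sub]
      abel
    rw [h2]
    exact Submodule.add_mem _ hn h1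
  exact key

theorem finite_adicCompletion (M : Type u) [AddCommGroup M] [Module A M] [Module.Finite A M] :
    Module.Finite (AdicCompletion I A) (AdicCompletion I M) :=
  Module.Finite.of_surjective (AdicCompletion.ofTensorProduct I M)
    (AdicCompletion.ofTensorProduct_bijective_of_finite_of_isNoetherian I M).surjective

theorem exists_map_surjective (M N : Type u) [AddCommGroup M] [Module A M] [Module.Finite A M]
    [AddCommGroup N] [Module A N] [Module.Finite A N]
    (h : ∀ n : ℕ, Nonempty ((M ⧸ (I ^ n • ⊤ : Submodule A M)) ≃ₗ[A] (N ⧸ (I ^ n • ⊤ : Submodule A N)))) :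
    ∃ φ : M →ₗ[A] N, Function.Surjective (AdicCompletion.map I φ) := by
  haveI : Module.FinitePresentation A M := Module.finitePresentation_of_finite A M
  obtain ⟨r, s, p, T, hp, hex⟩ := Module.FinitePresentation.exists_fin' A M
  obtain ⟨c, -, hl2⟩ := Groth.Agent.Lib.Helper14.HomAR.exists_lift I (N := N) p T hp hex
  obtain ⟨θ⟩ := h (1 + c)
  have hle : (I ^ (1 + c) • ⊤ : Submodule A N) ≤ I ^ 1 • ⊤ :=
    Submodule.smul_mono_left (Ideal.pow_le_pow_right (Nat.le_add_right _ _))
  obtain ⟨φ, hφ⟩ := hl2 1 (θ.toLinearMap ∘ₗ (I ^ (1 + c) • ⊤ : Submodule A M).mkQ) hle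
  refine ⟨φ, map_surjective_of_surjective_mod I φ ?_⟩
  intro n
  obtain ⟨m', hm'⟩ := θ.surjective ((I ^ (1 + c) • ⊤ : Submodule A N).mkQ n)
  obtain ⟨m, rfl⟩ := Submodule.mkQ_surjective _ m'
  refine ⟨m, ?_⟩
  have h1 := LinearMap.congr_fun hφ m
  simp only [LinearMap.comp_apply, LinearEquiv.coe_coe] at h1
  rw [hm', Submodule.mkQ_apply, Submodule.mkQ_apply, Submodule.mapQ_apply, LinearMap.id_apply,
    eq_comm, Submodule.Quotient.eq, pow_one] at h1
  exact h1

end Aux

/-- Let A be a Noetherian ring, I an ideal and M, N finite A-modules. If M/IⁿM and N/IⁿN are isomorphic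
for every n, then the I-adic completions of M and N are isomorphic as modules over the I-adic
completion of A. -/
theorem result (A : Type u) [CommRing A] [IsNoetherianRing A] (I : Ideal A)
    (M N : Type u) [AddCommGroup M] [Module A M] [Module.Finite A M] [AddCommGroup N] [Module A N]
    [Module.Finite A N]
    (h : ∀ n : ℕ, Nonempty ((M ⧸ (I ^ n • ⊤ : Submodule A M)) ≃ₗ[A] (N ⧸ (I ^ n • ⊤ : Submodule A N)))) :
    Nonempty (AdicCompletion I M ≃ₗ[AdicCompletion I A] AdicCompletion I N) := by
  obtain ⟨φ, hφ⟩ := exists_map_surjective I M N h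
  obtain ⟨ψ, hψ⟩ := exists_map_surjective I N M (fun n => ⟨(h n).some.symm⟩)
  haveI := finite_adicCompletion I M
  have hinj : Function.Injective (AdicCompletion.map I ψ ∘ₗ AdicCompletion.map I φ) :=
    OrzechProperty.injective_of_surjective_endomorphism _ (hψ.comp hφ)
  have hφinj : Function.Injective (AdicCompletion.map I φ) := by
    rw [LinearMap.coe_comp] at hinj
    exact Function.Injective.of_comp hinj
  exact ⟨LinearEquiv.ofBijective (AdicCompletion.map I φ) ⟨hφinj, hφ⟩⟩

end Groth.Agent.S7135
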