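import Groth.Statements.S7140
import Mathlib

set_option autoImplicit false
universe u
open EtAlg

namespace Groth.Agent.S7140

open Polynomial

/-- the "unit" `u` with `p = w^(p-1) u`. -/
noncomputable def uu {R : Type*} [CommRing R] (ζ : R) (p : ℕ) : R :=
  ∏ k ∈ Finset.range (p - 1), ∑ j ∈ Finset.range (k + 1), ζ ^ j

theorem map_uu {R R' : Type*} [CommRing R] [CommRing R'] (f : R →+* R') (ζ : R) (p : ℕ) :
    f (uu ζ p) = uu (f ζ) p := by
  simp [uu, map_prod, map_sum, map_pow]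

/-- In a domain with a primitive `p`-th root of unity. -/
theorem p_eq_of_primitive {R : Type*} [CommRing R] [IsDomain R] (p : ℕ) (hp : p.Prime) (ζ : R)
    (h : IsPrimitiveRoot ζ p) : (p : R) = (1 - ζ) ^ (p - 1) * uu ζ p := by
  obtain ⟨n, rfl⟩ : ∃ n, p = n + 1 := ⟨p - 1, by have := hp.two_le; omega⟩
  have h1 := h.prod_one_sub_pow_eq_order
  simp only [Nat.add_sub_cancel]
  rw [uu, Nat.cast_add, Nat.cast_one, ← h1]
  simp only [Nat.add_sub_cancel]
  have h2 : ∀ k ∈ Finset.range n,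
      (1 - ζ ^ (k + 1)) = (1 - ζ) * ∑ j ∈ Finset.range (k + 1), ζ ^ j := by
    intro k _
    rw [mul_neg_geom_sum]
  rw [Finset.prod_congr rfl h2, Finset.prod_mul_distrib, Finset.prod_const, Finset.card_range]

theorem universal (p : ℕ) (hp : p.Prime) :
    ∃ (_ : IsDomain (AdjoinRoot (cyclotomic p ℤ))),
      ((p : ℕ) : AdjoinRoot (cyclotomic p ℤ)) ≠ 0 ∧
      ((p : ℕ) : AdjoinRoot (cyclotomic p ℤ))
        = (1 - AdjoinRoot.root (cyclotomic p ℤ)) ^ (p - 1)
            * uu (AdjoinRoot.root (cyclotomic p ℤ)) p := by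
  have hprime : Prime (cyclotomic p ℤ) :=
    UniqueFactorizationMonoid.irreducible_iff_prime.mp (cyclotomic.irreducible hp.pos)
  have hdom : IsDomain (AdjoinRoot (cyclotomic p ℤ)) := AdjoinRoot.isDomain_of_prime hprime
  have hdeg : (cyclotomic p ℤ).degree ≠ 0 := by
    rw [degree_cyclotomic, Nat.totient_prime hp]
    have := hp.two_le
    intro h0
    have : ((p - 1 : ℕ) : WithBot ℕ) = ((0 : ℕ) : WithBot ℕ) := h0
    rw [Nat.cast_inj] at this
    omega
  have hinj := AdjoinRoot.of.injective_of_degree_ne_zero hdeg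
  have hp0 : ((p : ℕ) : AdjoinRoot (cyclotomic p ℤ)) ≠ 0 := by
    have : ((p : ℕ) : AdjoinRoot (cyclotomic p ℤ)) = AdjoinRoot.of (cyclotomic p ℤ) (p : ℤ) := by
      simp
    rw [this]
    intro h0
    have := hinj (h0.trans (map_zero _).symm)
    exact hp.ne_zero (by exact_mod_cast this)
  refine ⟨hdom, hp0, ?_⟩
  have hne : NeZero ((p : ℕ) : AdjoinRoot (cyclotomic p ℤ)) := ⟨hp0⟩
  refine p_eq_of_primitive p hp _ ?_
  rw [← isRoot_cyclotomic_iff]
  have e : cyclotomic p (AdjoinRoot (cyclotomic p ℤ))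
      = map (AdjoinRoot.of (cyclotomic p ℤ)) (cyclotomic p ℤ) := by
    rw [← map_cyclotomic_int p (AdjoinRoot (cyclotomic p ℤ))]
    congr 1
  rw [e]
  exact AdjoinRoot.isRoot_root (cyclotomic p ℤ)

theorem p_eq (p : ℕ) (hp : p.Prime) (A : Type u) [CommRing A] (ζ : A)
    (hζ : aeval ζ (cyclotomic p ℤ) = 0) : ((p : ℕ) : A) = (1 - ζ) ^ (p - 1) * uu ζ p := by
  obtain ⟨_, -, h⟩ := universal p hp
  have hζ' : eval₂ (Int.castRingHom A) ζ (cyclotomic p ℤ) = 0 := by
    rw [← hζ, aeval_def]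
    rfl
  have := congrArg (AdjoinRoot.lift (Int.castRingHom A) ζ hζ') h
  simpa [map_uu, AdjoinRoot.lift_root] using this

/-- the polynomial `((1 + w z)^p - 1)/w^p`. -/
noncomputable def PP {R : Type*} [CommRing R] (w v : R) (p : ℕ) : R[X] :=
  X ^ p + ∑ i ∈ Finset.Ioo 0 p, C (((p.choose i / p : ℕ) : R) * v * w ^ (i - 1)) * X ^ i

theorem map_PP {R R' : Type*} [CommRing R] [CommRing R'] (f : R →+* R') (w v : R) (p : ℕ) :
    (PP w v p).map f = PP (f w) (f v) p := by
  simp [PP, Polynomial.map_sum]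

theorem PP_spec {R : Type*} [CommRing R] (w v : R) (p : ℕ) (hp : p.Prime)
    (h : (p : R) = w ^ (p - 1) * v) :
    C (w ^ p) * PP w v p = (1 + C w * X) ^ p - 1 := by
  have hp2 := hp.two_le
  rw [add_comm (1 : R[X]), add_pow]
  have hrange : Finset.range (p + 1) = insert 0 (insert p (Finset.Ioo 0 p)) := by
    ext i
    simp only [Finset.mem_range, Finset.mem_insert, Finset.mem_Ioo]
    omega
  rw [hrange, Finset.sum_insert (by simp only [Finset.mem_insert, Finset.mem_Ioo]; omega),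
    Finset.sum_insert (by simp)]
  simp only [pow_zero, one_pow, mul_one, Nat.choose_zero_right, Nat.cast_one, Nat.choose_self,
    Nat.sub_self, Nat.sub_zero]
  rw [PP, mul_add, Finset.mul_sum, mul_pow, ← C_pow]
  have : ∀ i ∈ Finset.Ioo 0 p,
      C (w ^ p) * (C (((p.choose i / p : ℕ) : R) * v * w ^ (i - 1)) * X ^ i)
        = (C w * X) ^ i * ((p.choose i : ℕ) : R[X]) := by
    intro i hi
    rw [Finset.mem_Ioo] at hi
    have hdvd : p ∣ p.choose i := hp.dvd_choose_self hi.1.ne' hi.2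
    obtain ⟨m, hm⟩ := hdvd
    have hm' : p.choose i / p = m := by
      rw [hm, Nat.mul_div_cancel_left _ hp.pos]
    rw [hm', hm]
    have hcast : (((p * m : ℕ)) : R[X]) = C ((w ^ (p - 1) * v) * (m : R)) := by
      rw [← h, ← Nat.cast_mul, C_eq_natCast]
    have hw : w ^ p * w ^ (i - 1) = w ^ (p - 1) * w ^ i := by
      rw [← pow_add, ← pow_add]
      congr 1
      omega
    have hR : w ^ p * ((m : R) * v * w ^ (i - 1)) = w ^ i * (w ^ (p - 1) * v * m) := by
      calc w ^ p * ((m : R) * v * w ^ (i - 1)) = (w ^ p * w ^ (i - 1)) * (m * v) := by ring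
        _ = w ^ i * (w ^ (p - 1) * v * m) := by rw [hw]; ring
    rw [hcast, mul_pow, ← C_pow, ← mul_assoc, ← C_mul, hR, C_mul]
    ring
  rw [Finset.sum_congr rfl this]
  ring

theorem func_eq {R T : Type*} [CommRing R] [CommRing T] [IsDomain T] (g : R →+* T) (w v : R)
    (p : ℕ) (hp : p.Prime) (h : (p : R) = w ^ (p - 1) * v) (hw : g w ≠ 0) (z₁ z₂ : T) :
    eval₂ g (z₁ + z₂ + g w * z₁ * z₂) (PP w v p)
      = eval₂ g z₁ (PP w v p) + eval₂ g z₂ (PP w v p)
        + g (w ^ p) * eval₂ g z₁ (PP w v p) * eval₂ g z₂ (PP w v p) := by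
  have key : ∀ z : T, g (w ^ p) * eval₂ g z (PP w v p) = (1 + g w * z) ^ p - 1 := by
    intro z
    have := congrArg (eval₂ g z) (PP_spec w v p hp h)
    simpa [eval₂_mul, eval₂_sub, eval₂_pow, eval₂_add] using this
  have ha : g (w ^ p) ≠ 0 := by
    rw [map_pow]
    exact pow_ne_zero _ hw
  apply mul_left_cancel₀ ha
  have h1 := key z₁
  have h2 := key z₂
  have h3 := key (z₁ + z₂ + g w * z₁ * z₂)
  have e : (1 + g w * (z₁ + z₂ + g w * z₁ * z₂)) = (1 + g w * z₁) * (1 + g w * z₂) := by ring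
  rw [h3, e, mul_pow]
  have e1 : (1 + g w * z₁) ^ p = g (w ^ p) * eval₂ g z₁ (PP w v p) + 1 := by rw [h1]; ring
  have e2 : (1 + g w * z₂) ^ p = g (w ^ p) * eval₂ g z₂ (PP w v p) + 1 := by rw [h2]; ring
  rw [e1, e2]
  ring

theorem cong {A : Type*} [CommRing A] (ζ : A) (p : ℕ) (hp : p.Prime)
    (hpe : ((p : ℕ) : A) = (1 - ζ) ^ (p - 1) * uu ζ p) :
    uu ζ p + 1 ∈ Ideal.span {1 - ζ} := by
  have hp2 := hp.two_le
  rw [← Ideal.Quotient.eq_zero_iff_mem]
  obtain ⟨π, hπ⟩ : ∃ π, π = Ideal.Quotient.mk (Ideal.span {1 - ζ}) := ⟨_, rfl⟩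
  rw [← hπ]
  have hw : π (1 - ζ) = 0 := by
    rw [hπ, Ideal.Quotient.eq_zero_iff_mem]
    exact Ideal.subset_span rfl
  have hζ1 : π ζ = 1 := by
    rw [map_sub, map_one, sub_eq_zero] at hw
    exact hw.symm
  have hpz : ((p : ℕ) : A ⧸ Ideal.span {1 - ζ}) = 0 := by
    have := congrArg π hpe
    rw [map_natCast, map_mul, map_pow, hw, zero_pow (by omega), zero_mul] at this
    exact this
  have hu : π (uu ζ p) = (((p - 1).factorial : ℕ) : A ⧸ Ideal.span {1 - ζ}) := by
    rw [map_uu, hζ1, uu, ← Finset.prod_range_add_one_eq_factorial]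
    push_cast
    refine Finset.prod_congr rfl fun k _ => ?_
    simp
  have hwil : p ∣ (p - 1).factorial + 1 := by
    have : Fact p.Prime := ⟨hp⟩
    rw [← ZMod.natCast_eq_zero_iff]
    push_cast
    rw [ZMod.wilsons_lemma]
    ring
  obtain ⟨m, hm⟩ := hwil
  rw [map_add, map_one, hu]
  have : (((p - 1).factorial : ℕ) : A ⧸ Ideal.span {1 - ζ}) + 1
      = (((p - 1).factorial + 1 : ℕ) : A ⧸ Ideal.span {1 - ζ}) := by push_cast; ring
  rw [this, hm, Nat.cast_mul, hpz, zero_mul]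


open Polynomial in
/-- Let p be a prime and A a ring with an element ζ satisfying 1 + ζ + ... + ζ^(p-1) = 0 (so that A is
an algebra over the ring of integers of the p-th cyclotomic field); set w = 1 - ζ. Then the
polynomial ((1 + wz)^p - 1)/w^p makes sense in A[z]: there is P in A[z] with w^p·P = (1 + wz)^p - 1,
of the form z^p - z + Σ_{0<i<p} a_i z^i with all a_i in the ideal (w), and P(z₁ + z₂ + w z₁ z₂) =
P(z₁) + P(z₂) + w^p P(z₁)P(z₂) for all z₁, z₂ in any A-algebra. (The published statement asks only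
for a primitive p-th root of unity; this row asks that ζ be a root of the p-th cyclotomic
polynomial, the case its proof treats. With ζ only of multiplicative order p the published statement
fails, for example for ζ = (1, e^{2πi/p}) in ℂ × ℂ.) -/
theorem result (p : ℕ) (hp : p.Prime) (A : Type u) [CommRing A] (ζ : A)
    (hζ : aeval ζ (cyclotomic p ℤ) = 0) :
    ∃ P : A[X], C ((1 - ζ) ^ p) * P = (1 + C (1 - ζ) * X) ^ p - 1 ∧
      (∃ a : ℕ → A, (∀ i, a i ∈ Ideal.span {1 - ζ}) ∧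
        P = X ^ p - X + (Finset.Ioo 0 p).sum (fun i => C (a i) * X ^ i)) ∧
      ∀ (S : Type u) [CommRing S] [Algebra A S] (z₁ z₂ : S),
        aeval (z₁ + z₂ + algebraMap A S (1 - ζ) * z₁ * z₂) P =
          aeval z₁ P + aeval z₂ P + algebraMap A S ((1 - ζ) ^ p) * aeval z₁ P * aeval z₂ P := by
  have hp2 := hp.two_le
  have hpe := p_eq p hp A ζ hζ
  refine ⟨PP (1 - ζ) (uu ζ p) p, PP_spec _ _ p hp hpe, ?_, ?_⟩
  · refine ⟨fun i => ((p.choose i / p : ℕ) : A) * uu ζ p * (1 - ζ) ^ (i - 1)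
      + (if i = 1 then 1 else 0), ?_, ?_⟩
    · intro i
      beta_reduce
      by_cases hi1 : i = 1
      · subst hi1
        have : p.choose 1 / p = 1 := by
          rw [Nat.choose_one_right, Nat.div_self hp.pos]
        simp only [this, Nat.cast_one, one_mul, Nat.sub_self, pow_zero, mul_one, if_true]
        exact cong ζ p hp hpe
      · rw [if_neg hi1, add_zero]
        by_cases hi0 : i = 0
        · subst hi0
          have : p.choose 0 / p = 0 := by
            rw [Nat.choose_zero_right]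
            exact Nat.div_eq_of_lt (by omega)
          rw [this]
          simp
        · obtain ⟨j, rfl⟩ : ∃ j, i = j + 2 := ⟨i - 2, by omega⟩
          have : (1 - ζ) ^ (j + 2 - 1) = (1 - ζ) ^ j * (1 - ζ) := by
            rw [← pow_succ]
            congr 1
          rw [this, ← mul_assoc]
          exact Ideal.mul_mem_left _ _ (Ideal.subset_span rfl)
    · rw [PP]
      have h1 : ∑ i ∈ Finset.Ioo 0 p, C (if i = 1 then (1 : A) else 0) * X ^ i = X := by
        rw [Finset.sum_eq_single 1]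
        · simp
        · intro i _ hi
          simp [hi]
        · intro h
          exact absurd (Finset.mem_Ioo.mpr ⟨by omega, by omega⟩) h
      simp only [C_add, add_mul, Finset.sum_add_distrib]
      rw [h1]
      ring
  · intro S _ _ z₁ z₂
    obtain ⟨hdom, hp0, hO⟩ := universal p hp
    have hζ' : eval₂ (Int.castRingHom A) ζ (cyclotomic p ℤ) = 0 := by
      rw [← hζ, aeval_def]
      rfl
    obtain ⟨φ, hφ⟩ : ∃ φ : AdjoinRoot (cyclotomic p ℤ) →+* A,
        φ = AdjoinRoot.lift (Int.castRingHom A) ζ hζ' := ⟨_, rfl⟩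
    obtain ⟨ζ₀, hζ₀⟩ : ∃ ζ₀ : AdjoinRoot (cyclotomic p ℤ), ζ₀ = AdjoinRoot.root _ := ⟨_, rfl⟩
    rw [← hζ₀] at hO
    have hφζ : φ ζ₀ = ζ := by rw [hφ, hζ₀, AdjoinRoot.lift_root]
    have hw0 : (1 - ζ₀) ≠ 0 := by
      intro h0
      rw [h0, zero_pow (by omega), zero_mul] at hO
      exact hp0 hO
    have hPP : PP (1 - ζ) (uu ζ p) p = (PP (1 - ζ₀) (uu ζ₀ p) p).map φ := by
      rw [map_PP, map_uu, map_sub, map_one, hφζ]
    obtain ⟨ψ, hψ⟩ : ∃ ψ : MvPolynomial (Fin 2) (AdjoinRoot (cyclotomic p ℤ)) →+* S,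
        ψ = MvPolynomial.eval₂Hom ((algebraMap A S).comp φ) ![z₁, z₂] := ⟨_, rfl⟩
    have hψC : ψ.comp MvPolynomial.C = (algebraMap A S).comp φ := by
      rw [hψ]
      exact RingHom.ext fun x => by simp
    have hψ0 : ψ (MvPolynomial.X 0) = z₁ := by rw [hψ]; simp
    have hψ1 : ψ (MvPolynomial.X 1) = z₂ := by rw [hψ]; simp
    have key := func_eq (MvPolynomial.C : AdjoinRoot (cyclotomic p ℤ) →+* MvPolynomial (Fin 2) _)
      (1 - ζ₀) (uu ζ₀ p) p hp hO
      (by
        intro h0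
        exact hw0 (MvPolynomial.C_injective _ _ (h0.trans (map_zero _).symm)))
      (MvPolynomial.X 0) (MvPolynomial.X 1)
    have key2 := congrArg ψ key
    simp only [map_add, map_mul, Polynomial.hom_eval₂, hψC, hψ0, hψ1] at key2
    have hC : ∀ x, ψ (MvPolynomial.C x) = algebraMap A S (φ x) := fun x => by
      rw [← RingHom.comp_apply, hψC]
      rfl
    simp only [hC, map_sub, map_one, hφζ, map_pow] at key2
    simp only [aeval_def, hPP, eval₂_map, map_sub, map_one, map_pow]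
    exact key2

end Groth.Agent.S7140
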