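import Groth.Statements.S7142
import Groth.Agent.Lib.Helper17K0Perf6
-- import your own Groth.Agent.* helpers here

set_option autoImplicit false
universe u
open CategoryTheory CategoryTheory.Limits
attribute [local instance] HasDerivedCategory.standard
open KZero

namespace Groth.Agent.S7142

/-- Let R be a ring. There is an isomorphism K₀(R) ≅ K₀(D_perf(R)) between the Grothendieck group of
finite projective R-modules and that of the triangulated category of perfect objects of D(R),
sending the class of a finite projective module M to the class of M placed in degree 0; under its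
inverse the class of a bounded complex M^• of finite projective modules (vanishing outside [a, b])
goes to Σ_i (-1)^i [M^i]. -/
theorem result (R : Type u) [CommRing R] :
    ∃ φ : KZero.K0sub (fun M : ModuleCat.{u} R => Module.Finite R M ∧ Module.Projective R M) ≃+
        KZero.K0tr (fun K : Dual.D R => DRing.IsPerfect R K),
      (∀ (M : Type u) [AddCommGroup M] [Module R M], Module.Finite R M → Module.Projective R M →
        φ (KZero.clSub (fun M : ModuleCat.{u} R => Module.Finite R M ∧ Module.Projective R M) (ModuleCat.of R M)) =
          KZero.clTr (fun K : Dual.D R => DRing.IsPerfect R K) (Dual.inD R M)) ∧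
      ∀ (E : DRing.Cx R) (a b : ℤ), DRing.VanishesOutside E a b → DRing.TermwiseFiniteProjective E →
        φ.symm (KZero.clTr (fun K : Dual.D R => DRing.IsPerfect R K) (DRing.toD E)) =
          (Finset.Icc a b).sum (fun i => (i.negOnePow : ℤ) •
            KZero.clSub (fun M : ModuleCat.{u} R => Module.Finite R M ∧ Module.Projective R M) (E.X i)) := by
  refine ⟨Groth.Agent.Lib.Helper17.K0Perf.equiv, ?_, ?_⟩
  · intro M _ _ hf hp
    exact Groth.Agent.Lib.Helper17.K0Perf.phi_clSub (ModuleCat.of R M) ⟨hf, hp⟩
  · intro E a b hE hP
    have hK : Groth.Agent.Lib.Helper17.K0Perf.Perf R (DRing.toD E) := ⟨E, a, b, hE, hP, ⟨Iso.refl _⟩⟩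
    change Groth.Agent.Lib.Helper17.K0Perf.psi _ = _
    rw [Groth.Agent.Lib.Helper17.K0Perf.psi_clTr _ hK,
      Groth.Agent.Lib.Helper17.K0Perf.psi0_eq _ hK E a b hE hP (Iso.refl _),
      Groth.Agent.Lib.Helper17.K0Perf.chiF_eq_sum E a b hE]

end Groth.Agent.S7142
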