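import Groth.Statements.S7144
import Mathlib
-- import your own Groth.Agent.* helpers here

set_option autoImplicit false
universe u
open CAlg

namespace Groth.Agent.S7144

/-- (1) ⇔ (2): let R be a nonzero ring. Then for all a, b in R one of a, b divides the other if and only
if R is local and every finitely generated ideal of R is principal. (The further equivalence with
the total ordering of the set of ideals by inclusion is standard and not restated here.) -/
theorem result (R : Type u) [CommRing R] [Nontrivial R] :
    PreValuationRing R ↔ IsLocalRing R ∧ IsBezout R := by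
  constructor
  · intro h
    refine ⟨inferInstance, ?_⟩
    classical
    rw [IsBezout.iff_span_pair_isPrincipal]
    intro x y
    rw [Ideal.span_insert]
    rcases le_total (Ideal.span {x} : Ideal R) (Ideal.span {y}) with h | h
    · rw [sup_eq_right.mpr h]; exact ⟨⟨_, rfl⟩⟩
    · rw [sup_eq_left.mpr h]; exact ⟨⟨_, rfl⟩⟩
  · rintro ⟨hl, hb⟩
    refine PreValuationRing.iff_dvd_total.mpr ⟨fun a b => ?_⟩
    obtain ⟨g, e : _ = Ideal.span _⟩ := IsBezout.span_pair_isPrincipal a b
    obtain ⟨a, rfl⟩ := Ideal.mem_span_singleton'.mp
        (show a ∈ Ideal.span {g} by rw [← e]; exact Ideal.subset_span (by simp))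
    obtain ⟨b, rfl⟩ := Ideal.mem_span_singleton'.mp
        (show b ∈ Ideal.span {g} by rw [← e]; exact Ideal.subset_span (by simp))
    obtain ⟨x, y, e'⟩ := Ideal.mem_span_pair.mp
        (show g ∈ Ideal.span {a * g, b * g} by rw [e]; exact Ideal.subset_span (by simp))
    have hg : (1 - (x * a + y * b)) * g = 0 := by
      linear_combination (-1 : R) * e'
    rcases IsLocalRing.isUnit_or_isUnit_one_sub_self (x * a + y * b) with hu | hu
    · obtain ⟨u, hu⟩ := hu
      have h1 : x * a * ↑u⁻¹ + y * b * ↑u⁻¹ = 1 := by
        rw [← add_mul, ← hu, Units.mul_inv]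
      rcases IsLocalRing.isUnit_or_isUnit_of_add_one h1 with h' | h' <;> [left; right]
      · have ha : IsUnit a := by
          have : IsUnit (x * a) := isUnit_of_mul_isUnit_left h'
          exact isUnit_of_mul_isUnit_right this
        exact mul_dvd_mul_right (isUnit_iff_forall_dvd.mp ha _) _
      · have hb' : IsUnit b := by
          have : IsUnit (y * b) := isUnit_of_mul_isUnit_left h'
          exact isUnit_of_mul_isUnit_right this
        exact mul_dvd_mul_right (isUnit_iff_forall_dvd.mp hb' _) _
    · have : g = 0 := by
        obtain ⟨u, hu⟩ := hu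
        rw [← hu] at hg
        exact (Units.mul_right_eq_zero u).1 hg
      left
      simp [this]

end Groth.Agent.S7144
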