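import Groth.Statements.S7160
import Mathlib
-- import your own Groth.Agent.* helpers here

set_option autoImplicit false
universe u
open CategoryTheory CategoryTheory.Pretriangulated
attribute [local instance] HasDerivedCategory.standard
open CAlg

namespace Groth.Agent.S7160

theorem homologyFunctor_map_smul_id (R : Type u) [CommRing R] (f : R) (M : Dual.D R) (i : ℤ) :
    (DerivedCategory.homologyFunctor (ModuleCat.{u} R) i).map (f • 𝟙 M) =
      f • 𝟙 ((DerivedCategory.homologyFunctor (ModuleCat.{u} R) i).obj M) := by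
  let K := (DerivedCategory.Q (C := ModuleCat.{u} R)).objPreimage M
  let e : DerivedCategory.Q.obj K ≅ M := (DerivedCategory.Q (C := ModuleCat.{u} R)).objObjPreimageIso M
  have h1 : f • 𝟙 M = e.inv ≫ DerivedCategory.Q.map (f • 𝟙 K) ≫ e.hom := by
    rw [Functor.map_smul, CategoryTheory.Functor.map_id, Linear.smul_comp, Linear.comp_smul,
      Category.id_comp, e.inv_hom_id]
  have h2 : (DerivedCategory.homologyFunctor (ModuleCat.{u} R) i).map
      (DerivedCategory.Q.map (f • 𝟙 K)) = f • 𝟙 _ := by
    have nat := (DerivedCategory.homologyFunctorFactors (ModuleCat.{u} R) i).hom.naturality (f • 𝟙 K)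
    have h3 : (HomologicalComplex.homologyFunctor (ModuleCat.{u} R) (ComplexShape.up ℤ) i).map (f • 𝟙 K)
        = f • 𝟙 _ := by
      change HomologicalComplex.homologyMap (f • 𝟙 K) i = _
      have h4 : (HomologicalComplex.shortComplexFunctor (ModuleCat.{u} R) (ComplexShape.up ℤ) i).map
          (f • 𝟙 K) = f • 𝟙 _ := by
        ext <;> rfl
      unfold HomologicalComplex.homologyMap
      rw [h4, ShortComplex.homologyMap_smul, ShortComplex.homologyMap_id]
      rfl
    rw [h3] at nat
    dsimp at nat
    have : (DerivedCategory.homologyFunctor (ModuleCat.{u} R) i).map (DerivedCategory.Q.map (f • 𝟙 K)) =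
        ((DerivedCategory.homologyFunctorFactors (ModuleCat.{u} R) i).hom.app K ≫ (f • 𝟙 _)) ≫
          (DerivedCategory.homologyFunctorFactors (ModuleCat.{u} R) i).inv.app K := by
      rw [← nat, Category.assoc, Iso.hom_inv_id_app]
      erw [Category.comp_id]
    rw [this, Linear.comp_smul, Linear.smul_comp, Category.comp_id, Iso.hom_inv_id_app]
    rfl
  rw [h1, Functor.map_comp, Functor.map_comp, h2, Linear.smul_comp, Linear.comp_smul,
    Category.id_comp, ← Functor.map_comp, e.inv_hom_id, CategoryTheory.Functor.map_id]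

/-- Let R be a ring, f an element of R, M an object of D(R) and C the cone of f : M → M. Suppose that
H^i(M)_f = 0 whenever i < 0 (every element of H^i(M) is killed by a power of f) and that H^i(C) = 0
whenever i < -1. Then H^i(M) vanishes for every i < 0. -/
theorem result (R : Type u) [CommRing R] (f : R) (M C : Dual.D R)
    (g : M ⟶ C) (h : C ⟶ M⟦(1 : ℤ)⟧) (hT : Triangle.mk (f • 𝟙 M) g h ∈ distinguishedTriangles)
    (hloc : ∀ i : ℤ, i < 0 → ∀ x : Dual.HD R M i, ∃ n : ℕ, f ^ n • x = 0)
    (hC : ∀ i : ℤ, i < -1 → Subsingleton (Dual.HD R C i)) :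
    ∀ i : ℤ, i < 0 → Subsingleton (Dual.HD R M i) := by
  intro i hi
  have hmono : Mono ((DerivedCategory.homologyFunctor (ModuleCat.{u} R) i).map (f • 𝟙 M)) := by
    have := (DerivedCategory.HomologySequence.mono_homologyMap_mor₁_iff _ hT (i - 1) i
      (by omega)).2
    apply this
    have hz : Limits.IsZero ((DerivedCategory.homologyFunctor (ModuleCat.{u} R) (i - 1)).obj C) := by
      have := hC (i - 1) (by omega)
      exact ModuleCat.isZero_of_subsingleton _
    exact hz.eq_of_src _ _
  rw [homologyFunctor_map_smul_id] at hmono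
  have hinj := (ModuleCat.mono_iff_injective _).1 hmono
  have hinj' : ∀ x : Dual.HD R M i, f • x = 0 → x = 0 := by
    intro x hx
    apply hinj
    rw [map_zero]
    exact hx
  refine ⟨fun x y => ?_⟩
  suffices h0 : ∀ z : Dual.HD R M i, z = 0 by rw [h0 x, h0 y]
  intro z
  obtain ⟨n, hn⟩ := hloc i hi z
  induction n with
  | zero => simpa using hn
  | succ n ih =>
    apply ih
    apply hinj'
    rw [← mul_smul, ← pow_succ']
    exact hn

end Groth.Agent.S7160
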