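import Groth.Statements.S7177
import Mathlib
import Groth.Agent.Lib.Helper10FlatDiag
-- import your own Groth.Agent.* helpers here

set_option autoImplicit false
universe u
open FlatMor

namespace Groth.Agent.S7177

open AlgebraicGeometry CategoryTheory Limits in
/-- Let f : X → Y have flat diagonal and let F be an O_X-module flat over Y. Then F is flat as an
O_X-module. -/
theorem result {X Y : Scheme.{u}} (f : X ⟶ Y) [Flat (pullback.diagonal f)] (F : X.Modules)
    (hF : FlatMod.IsFlatOver f F) : FlatMod.IsFlat F := by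
  intro x
  obtain ⟨V, hV, hxV, -⟩ := exists_isAffineOpen_mem_and_subset (X := Y) (x := f.base x)
    (U := ⊤) trivial
  obtain ⟨U, hU, hxU, hUV⟩ := exists_isAffineOpen_mem_and_subset (X := X) (x := x)
    (U := f ⁻¹ᵁ V) hxV
  refine Groth.Agent.Lib.Helper10.FlatDiag.flat_of_local (f.appLE V U hUV).hom
    (Y.presheaf.germ V (f.base x) hxV).hom (X.presheaf.germ U x hxU).hom (f.stalkMap x).hom
    ?_ ?_ (hU.primeIdealOf ⟨x, hxU⟩).asIdeal.primeCompl (hU.isLocalization_stalk ⟨x, hxU⟩)
    (Groth.Agent.Lib.Helper10.FlatDiag.flat_lmul'_of_flat_diagonal f U V hU hV hUV) (hF x)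
  · ext a
    simp only [RingHom.comp_apply]
    rw [Scheme.Hom.germ_stalkMap_apply, Scheme.Hom.appLE, CommRingCat.comp_apply,
      TopCat.Presheaf.germ_res_apply]
  · letI := Y.presheaf.algebra_section_stalk ⟨f.base x, hxV⟩
    haveI := hV.isLocalization_stalk ⟨f.base x, hxV⟩
    exact IsLocalization.flat (Y.presheaf.stalk (f.base x))
      (hV.primeIdealOf ⟨f.base x, hxV⟩).asIdeal.primeCompl

end Groth.Agent.S7177
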