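import Groth.Statements.S7184
import Mathlib
import Groth.Agent.S1499
import Groth.Agent.Lib.Helper23Restr2
-- import your own Groth.Agent.* helpers here

set_option autoImplicit false
universe u
open FlatMor

namespace Groth.Agent.S7184
open CategoryTheory CategoryTheory.Limits AlgebraicGeometry TopologicalSpace

open Groth.Agent.Lib.Helper23.AmpleIso Groth.Agent.Lib.Helper23.SecTw
open Groth.Agent.Lib.Helper23.TensorUnit
open TopologicalSpace

open AlgebraicGeometry CategoryTheory Limits in
/-- If f : X → Y is affine or quasi-affine and Y has an ample family of invertible modules, then X has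
an ample family of invertible modules. -/
theorem result {X Y : Scheme.{u}} (f : X ⟶ Y) (hf : IsAffineHom f ∨ Mor2.IsQuasiAffine f)
    (hY : MoreMor.HasAmpleFamily Y) : MoreMor.HasAmpleFamily X := by
  refine Groth.Agent.S1499.result f hY (Coh.structureModule X) ?_
  have hqa : QuasiCompact f ∧ ∀ V : Y.Opens, IsAffineOpen V → Scheme.IsQuasiAffine (f ⁻¹ᵁ V : Scheme.{u}) := by
    rcases hf with hf | hf
    · haveI := hf
      refine ⟨inferInstance, fun V hV => ?_⟩
      have : IsAffineOpen (f ⁻¹ᵁ V) := hV.preimage f
      haveI : IsAffine (f ⁻¹ᵁ V : Scheme.{u}) := this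
      infer_instance
    · exact hf
  refine ⟨hqa.1, fun V => ?_⟩
  haveI := hqa.2 V.1 V.2
  exact isAmple_of_isQuasiAffine _ (isInvertible_restrict _ (isInvertible_structureModule X) _)

end Groth.Agent.S7184
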