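import Groth.Statements.S7188
import Groth.Agent.Lib.Helper2DescLocA

set_option autoImplicit false
universe u
open FlatMor

namespace Groth.Agent.S7188

open AlgebraicGeometry CategoryTheory Limits in
/-- Let f : X → S be flat, proper and of finite presentation with O_T → (f_T)_* O_{X_T} an isomorphism
for every base change, let E be an invertible O_X-module, and let j : Z → S be the immersion of
finite presentation representing the locus of those T → S over which the pullback of E comes from a
finite locally free O_T-module. If every geometric fibre of f is an integral scheme, j is a closed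
immersion (the locus is a closed subscheme of S). -/
theorem result {X S Z : Scheme.{u}} (f : X ⟶ S) [Flat f] [IsProper f] [LocallyOfFinitePresentation f]
    (hO : ∀ (T : Scheme.{u}) (g : T ⟶ S) (U : T.Opens), IsIso ((pullback.snd f g).app U))
    (E : X.Modules) (hE : PicF.IsInvertible E)
    (j : Z ⟶ S) [IsImmersion j] [LocallyOfFinitePresentation j]
    (hZ : ∀ (T : Scheme.{u}) (g : T ⟶ S), (∃ g' : T ⟶ Z, g' ≫ j = g) ↔
        ∃ N : T.Modules, FlatMod.IsFinLocFree N ∧
          Nonempty ((Scheme.Modules.pullback (pullback.snd f g)).obj N ≅ (Scheme.Modules.pullback (pullback.fst f g)).obj E))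
    (hgeo : ∀ (K : Type u) [Field K] (x : Spec (CommRingCat.of K) ⟶ S), IsIntegral (pullback f x)) :
    IsClosedImmersion j := by
  have hint : ∀ y : S, IsIntegral (f.fiber y) := fun y =>
    hgeo (S.residueField y) (S.fromSpecResidueField y)
  have hclosed := Groth.Agent.Lib.Helper2.BoxPicA.isClosed_trivial_locus f hint E hE
  have hOinv : ∀ Y : Scheme.{u}, FlatMod.IsFinLocFree (Coh.structureModule Y) := fun Y =>
    Groth.Agent.Helper18PBUnit.isFinLocFree_of_isInvertible
      (Groth.Agent.Lib.Helper23.TensorUnit.isInvertible_structureModule Y)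
  have hrange : Set.range j = {y : S | Nonempty ((Scheme.Modules.pullback (f.fiberι y)).obj E ≅
      Coh.structureModule (f.fiber y))} := by
    ext y
    constructor
    · rintro ⟨z, rfl⟩
      obtain ⟨g', hg'⟩ := Groth.Agent.Lib.Helper2.DescLocA.exists_lift_fromSpecResidueField j z
      obtain ⟨N, hN, ⟨e⟩⟩ := (hZ _ (S.fromSpecResidueField (j z))).1 ⟨g', hg'⟩
      obtain ⟨n, ⟨e'⟩⟩ := Groth.Agent.Lib.Helper2.DescLocA.exists_iso_freeMod_of_field
        (S.residueField (j z)) (pullback.snd f (S.fromSpecResidueField (j z))) N hN
      haveI : IsIntegral (f.fiber (j z)) := hint _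
      haveI : Nonempty (f.fiber (j z)) := inferInstance
      exact Groth.Agent.Lib.Helper2.DescLocA.nonempty_iso_structure_of_iso_freeMod _
        (Groth.Agent.Lib.Helper23.PB.isInvertible_pullback (f.fiberι (j z)) E hE) n (e.symm ≪≫ e')
    · rintro ⟨τ⟩
      obtain ⟨g', hg'⟩ := (hZ _ (S.fromSpecResidueField y)).2
        ⟨Coh.structureModule _, hOinv _,
          ⟨Groth.Agent.Lib.Helper23.PB.pullbackUnitIso (pullback.snd f (S.fromSpecResidueField y)) ≪≫
            τ.symm⟩⟩
      refine ⟨g' (IsLocalRing.closedPoint (S.residueField y)), ?_⟩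
      have h1 : (g' ≫ j) (IsLocalRing.closedPoint (S.residueField y)) =
          S.fromSpecResidueField y (IsLocalRing.closedPoint (S.residueField y)) := by rw [hg']
      rw [Scheme.fromSpecResidueField_apply] at h1
      exact h1
  rw [← hrange] at hclosed
  exact IsClosedImmersion.of_isPreimmersion j hclosed

end Groth.Agent.S7188
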