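import Groth.Statements.S7191
-- import your own Groth.Agent.* helpers here
import Mathlib
import Groth.Agent.S1440
import Groth.Agent.Lib.Helper26LimStrat

set_option autoImplicit false
universe u
open CategoryTheory AlgebraicGeometry
open FlatMor

namespace Groth.Agent.S7191

set_option linter.style.haveILetI false

open Limits
open Groth.Agent.Lib.Helper22.LimBC Groth.Agent.Lib.Helper26.LimStrat

/-- Let S = lim S_i be a cofiltered limit of schemes with affine transition morphisms, f₀ : X₀ → Y₀ a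
morphism over some S_{i₀} with Y₀ quasi-compact and quasi-separated and f₀ locally of finite
presentation, and f : X → Y its base change to S. If f is completely decomposed (every point of Y is
the image of a point of X with the same residue field), then some base change f_i : X_i → Y_i of f₀
to an S_i, i → i₀, is completely decomposed. -/
theorem result {I : Type u} [SmallCategory I] [IsCofiltered I]
    (D : I ⥤ Scheme.{u}) (c : Limits.Cone D) (hc : Limits.IsLimit c)
    [∀ (i j : I) (a : i ⟶ j), IsAffineHom (D.map a)]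
    (i0 : I) {X0 Y0 X Y : Scheme.{u}} (f0 : X0 ⟶ Y0) (q0 : Y0 ⟶ D.obj i0) [CompactSpace ↥Y0] [QuasiSeparatedSpace ↥Y0]
    [LocallyOfFinitePresentation f0]
    (f : X ⟶ Y) (q : Y ⟶ c.pt) (pY : Y ⟶ Y0) (pX : X ⟶ X0)
    (hY : IsPullback pY q q0 (c.π.app i0)) (hX : IsPullback pX f f0 pY)
    (hcd : ∀ y : Y, ∃ x : X, f x = y ∧ Function.Bijective (f.residueFieldMap x)) :
    ∃ (i : I) (a : i ⟶ i0) (Xi Yi : Scheme.{u}) (fi : Xi ⟶ Yi) (qi : Yi ⟶ D.obj i) (pYi : Yi ⟶ Y0) (pXi : Xi ⟶ X0),
      IsPullback pYi qi q0 (D.map a) ∧ IsPullback pXi fi f0 pYi ∧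
      ∀ y : Yi, ∃ x : Xi, fi x = y ∧ Function.Bijective (fi.residueFieldMap x) := by
  have inst : ∀ {i j : I} (f : i ⟶ j), IsAffineHom (D.map f) := fun f => inferInstance
  haveI : LocallyOfFinitePresentation f :=
    MorphismProperty.of_isPullback hX (inferInstance : LocallyOfFinitePresentation f0)
  have hcY : IsLimit (bcCone i0 hY) := isLimitBcCone i0 hY hc
  haveI haff := isAffineHom_π_app (bcDiagram D i0 q0) (bcCone i0 hY) hcY (Over.mk (𝟙 i0))
  haveI : CompactSpace Y :=
    (QuasiCompact.compactSpace_of_compactSpace ((bcCone i0 hY).π.app (Over.mk (𝟙 i0))) :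
      CompactSpace (bcCone i0 hY).pt)
  haveI : QuasiSeparatedSpace Y :=
    (quasiSeparatedSpace_of_quasiSeparated ((bcCone i0 hY).π.app (Over.mk (𝟙 i0))) :
      QuasiSeparatedSpace (bcCone i0 hY).pt)
  obtain ⟨n, Z, z, hcov, hz⟩ := Groth.Agent.S1440.result f hcd
  have hsec : ∀ k, ∃ s : Z k ⟶ pullback f (z k), s ≫ pullback.snd f (z k) = 𝟙 _ :=
    fun k => (hz k).2.2.2.2
  choose s hs using hsec
  let r : bcDiagram D i0 q0 ⟶ (Functor.const (Over i0)).obj Y0 :=
    { app := fun j => dFst D i0 q0 j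
      naturality := fun j k φ => by
        show (bcDiagram D i0 q0).map φ ≫ dFst D i0 q0 k = dFst D i0 q0 j ≫ 𝟙 _
        rw [Category.comp_id, map_dFst] }
  have hρ : ∀ k (j : Over i0), (s k ≫ pullback.fst f (z k) ≫ pX) ≫ f0 =
      z k ≫ (bcCone i0 hY).π.app j ≫ r.app j := by
    intro k j
    have h1 : (bcCone i0 hY).π.app j ≫ r.app j = pY := bcπ_fst i0 hY j
    have h2 : (s k ≫ pullback.fst f (z k) ≫ pX) ≫ f0 = z k ≫ pY := by
      rw [Category.assoc, Category.assoc, hX.w, pullback.condition_assoc, reassoc_of% (hs k)]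
    rw [h2]
    exact congrArg (fun t => z k ≫ t) h1.symm
  obtain ⟨j, V, v, g, hv, hvcov, hg⟩ := exists_strat_stage (E := bcDiagram D i0 q0)
    (cE := bcCone i0 hY) f0 r hcY Z z
    (fun k => ⟨(hz k).1, (hz k).2.1, (hz k).2.2.1, (hz k).2.2.2.1⟩) hcov
    (fun k => s k ≫ pullback.fst f (z k) ≫ pX) hρ
  refine ⟨j.left, j.hom, pullback f0 (dFst D i0 q0 j), (bcDiagram D i0 q0).obj j,
    pullback.snd f0 (dFst D i0 q0 j), dSnd D i0 q0 j, dFst D i0 q0 j,
    pullback.fst f0 (dFst D i0 q0 j), isPullback_d D i0 q0 j,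
    IsPullback.of_hasPullback f0 (dFst D i0 q0 j), ?_⟩
  intro y
  obtain ⟨k, w, rfl⟩ := hvcov y
  have hgk : g k ≫ f0 = v k ≫ dFst D i0 q0 j := hg k
  let σ : V k ⟶ pullback f0 (dFst D i0 q0 j) := pullback.lift (g k) (v k) hgk
  have hσ : σ ≫ pullback.snd f0 (dFst D i0 q0 j) = v k := pullback.lift_snd _ _ _
  refine ⟨σ w, ?_, ?_⟩
  · rw [← Scheme.Hom.comp_apply, hσ]
  · haveI himm : IsImmersion (σ ≫ pullback.snd f0 (dFst D i0 q0 j)) := by
      rw [hσ]; exact hv k
    have hb := bijective_residueFieldMap_of_isImmersion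
      (σ ≫ pullback.snd f0 (dFst D i0 q0 j)) w
    rw [Scheme.residueFieldMap_comp] at hb
    refine ⟨((pullback.snd f0 (dFst D i0 q0 j)).residueFieldMap (σ w)).hom.injective, ?_⟩
    have hsurj : Function.Surjective
        ((σ.residueFieldMap w).hom ∘
          ((pullback.snd f0 (dFst D i0 q0 j)).residueFieldMap (σ w)).hom) := hb.2
    exact Function.Surjective.of_comp_left hsurj (σ.residueFieldMap w).hom.injective

end Groth.Agent.S7191
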