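import Groth.Statements.S7198
import Mathlib
import Groth.Agent.S1379
import Groth.Agent.S1390

set_option autoImplicit false
universe w u
open FlatMor

namespace Groth.Agent.S7198

open CategoryTheory AlgebraicGeometry
open Limits

/-- global variant of S1379 at a point of the source -/
theorem exists_etale_finLocFree_through {S₁ S : Scheme.{u}} (g : S₁ ⟶ S) [Flat g]
    [LocallyOfFinitePresentation g] (x : S₁) :
    ∃ (S' V : Scheme.{u}) (e : S' ⟶ S) (π : V ⟶ S') (r : V ⟶ S₁) (s' : S'), Etale e ∧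
      e s' = g x ∧ Surjective π ∧ IsFinite π ∧ Flat π ∧ LocallyOfFinitePresentation π ∧
      r ≫ g = π ≫ e := by
  obtain ⟨X, f, r, y, hrf, hfy, hsep, hfl, hfp, hqf⟩ := Groth.Agent.S1379.exists_qf_refinement g x
  obtain ⟨S₀, e₀, hE, hs, V₀, W₀, v, hVW, hfin, hv⟩ :=
    exists_etale_isCompl_of_quasiFiniteAt f hfy (f.quasiFiniteAt y)
  let π₀ : V₀.toScheme ⟶ S₀ := V₀.ι ≫ pullback.snd f e₀
  have hπfl : Flat π₀ := inferInstance
  have hπfp : LocallyOfFinitePresentation π₀ := inferInstance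
  have hopen : IsOpenMap π₀ := π₀.isOpenMap
  let S'o : S₀.Opens := ⟨Set.range π₀, hopen.isOpen_range⟩
  have hcond : π₀ ≫ e₀ = V₀.ι ≫ pullback.fst f e₀ ≫ f := by
    simp only [π₀, Category.assoc, pullback.condition]
  refine ⟨S'o, π₀ ⁻¹ᵁ S'o, S'o.ι ≫ e₀, π₀ ∣_ S'o, (π₀ ⁻¹ᵁ S'o).ι ≫ V₀.ι ≫
      pullback.fst f e₀ ≫ r, ⟨π₀ v, ⟨v, rfl⟩⟩, inferInstance, ?_, ?_, ?_, ?_, ?_, ?_⟩
  · have h1 : (S'o.ι ≫ e₀) ⟨π₀ v, ⟨v, rfl⟩⟩ = e₀ (π₀ v) := Scheme.Hom.comp_apply _ _ _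
    have h2 : e₀ (π₀ v) = (π₀ ≫ e₀) v := (Scheme.Hom.comp_apply _ _ _).symm
    have h3 : (V₀.ι ≫ pullback.fst f e₀ ≫ f) v = f (pullback.fst f e₀ v.1) := by
      first
        | rfl
        | (simp; done)
        | (simp; rfl)
    rw [h1, h2, hcond, h3, hv, hfy]
  · refine ⟨fun z => ?_⟩
    obtain ⟨w, hw⟩ := z.2
    refine ⟨⟨w, ?_⟩, ?_⟩
    · show π₀ w ∈ S'o
      exact ⟨w, rfl⟩
    · apply Subtype.ext
      exact (morphismRestrict_base_coe π₀ S'o _).trans hw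
  · infer_instance
  · infer_instance
  · infer_instance
  · simp only [Category.assoc, hrf]
    rw [morphismRestrict_ι_assoc, hcond]

/-- shrinking the base in S1390 so that every point of the finite locally free cover has a
neighbourhood mapping to the étale neighbourhood -/
theorem exists_shrink {S' S : Scheme.{u}} (e : S' ⟶ S) [Etale e] (s' : S') :
    ∃ (U : S.Opens) (W : Scheme.{u}) (π : W ⟶ U.toScheme), e s' ∈ U ∧ IsFinite π ∧ Flat π ∧
      LocallyOfFinitePresentation π ∧ Surjective π ∧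
      ∀ w : W, ∃ (W' : W.Opens) (h : W'.toScheme ⟶ S'), w ∈ W' ∧ h ≫ e = W'.ι ≫ π ≫ U.ι := by
  obtain ⟨V₀, T₀, π₀, hs, haff, hsurj, hfin, hfl, hfp, H⟩ :=
    Groth.Agent.S1390.result e s' (e s') rfl
  let Oset : Set T₀ := {t | ∃ (W : T₀.Opens) (h : W.toScheme ⟶ S'), t ∈ W ∧
    h ≫ e = W.ι ≫ π₀ ≫ V₀.ι}
  have hOopen : IsOpen Oset := by
    rw [isOpen_iff_forall_mem_open]
    rintro t ⟨W, h, htW, hh⟩
    exact ⟨W, fun t' ht' => ⟨W, h, ht', hh⟩, W.2, htW⟩
  have hO : ∀ t : T₀, V₀.ι (π₀ t) = e s' → t ∈ Oset := by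
    intro t ht
    obtain ⟨W, h, htW, hh, -⟩ := H t ht
    exact ⟨W, h, htW, hh⟩
  have hclosed : IsClosed (π₀ '' Osetᶜ) := π₀.isClosedMap _ hOopen.isClosed_compl
  let U' : V₀.toScheme.Opens := ⟨(π₀ '' Osetᶜ)ᶜ, hclosed.isOpen_compl⟩
  let U : S.Opens := V₀.ι ''ᵁ U'
  have hU_le : U ≤ V₀ := by
    rintro _ ⟨z, -, rfl⟩
    exact z.2
  have hkey : ∀ t : T₀, V₀.ι (π₀ t) ∈ U → t ∈ Oset := by
    rintro t ⟨z, hz, hzt⟩
    have hz' : z = π₀ t := V₀.ι.isOpenEmbedding.injective hzt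
    by_contra hcon
    exact hz ⟨t, hcon, hz'.symm⟩
  let j : U.toScheme ⟶ V₀.toScheme := S.homOfLE hU_le
  refine ⟨U, pullback π₀ j, pullback.snd π₀ j, ?_, ?_, ?_, ?_, ?_, ?_⟩
  · refine ⟨⟨e s', hs⟩, ?_, rfl⟩
    rintro ⟨t, ht, htz⟩
    apply ht
    apply hO
    rw [htz]
    rfl
  · infer_instance
  · infer_instance
  · infer_instance
  · infer_instance
  · intro w
    have h1 : V₀.ι (π₀ (pullback.fst π₀ j w)) ∈ U := by
      have : (pullback.fst π₀ j ≫ π₀ ≫ V₀.ι) w = (pullback.snd π₀ j ≫ U.ι) w := by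
        rw [pullback.condition_assoc, Scheme.homOfLE_ι]
      have h2 : (pullback.fst π₀ j ≫ π₀ ≫ V₀.ι) w = V₀.ι (π₀ (pullback.fst π₀ j w)) := by
        simp only [Scheme.Hom.comp_apply]
      rw [← h2, this]
      exact (pullback.snd π₀ j w).2
    obtain ⟨Wt, ht, htW, hh⟩ := hkey _ h1
    refine ⟨pullback.fst π₀ j ⁻¹ᵁ Wt, (pullback.fst π₀ j ∣_ Wt) ≫ ht, htW, ?_⟩
    rw [Category.assoc, hh, morphismRestrict_ι_assoc, pullback.condition_assoc,
      Scheme.homOfLE_ι]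

open AlgebraicGeometry CategoryTheory Limits in
/-- Any fppf covering {S_i → S} is refined by a family built in four steps — cover S by Zariski opens
U_j; over each U_j take a surjective finite locally free W_j → U_j; cover each W_j by Zariski opens
W_{j,k}; over each of those take a surjective finite locally free T_{j,k} → W_{j,k} — where every
composite T_{j,k} → S factors through some S_i. Stated pointwise: around every point of S, and then
around every point of the finite locally free cover, such data exist. -/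
theorem result {S : Scheme.{u}} (E : PreZeroHypercover.{w} S)
    (hflat : ∀ i, Flat (E.f i)) (hfp : ∀ i, LocallyOfFinitePresentation (E.f i))
    (hsurj : ∀ s : S, ∃ (i : E.I₀) (x : E.X i), E.f i x = s) (s : S) :
    ∃ (U : S.Opens) (W : Scheme.{u}) (π : W ⟶ U.toScheme), s ∈ U ∧ Mor2.IsFinLocFree π ∧ Surjective π ∧
      ∀ w : W, ∃ (W' : W.Opens) (T : Scheme.{u}) (ρ : T ⟶ W'.toScheme) (i : E.I₀) (r : T ⟶ E.X i),
        w ∈ W' ∧ Mor2.IsFinLocFree ρ ∧ Surjective ρ ∧ r ≫ E.f i = ρ ≫ W'.ι ≫ π ≫ U.ι := by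
  obtain ⟨i, x, hx⟩ := hsurj s
  have := hflat i
  have := hfp i
  obtain ⟨S', V, e, πV, r, s', hE, hes', hsurjV, hfinV, hflV, hfpV, hr⟩ :=
    exists_etale_finLocFree_through (E.f i) x
  obtain ⟨U, W, π, hsU, hfin, hfl, hfpπ, hsurjπ, H⟩ := exists_shrink e s'
  refine ⟨U, W, π, ?_, ⟨hfin, hfl, hfpπ⟩, hsurjπ, ?_⟩
  · rw [← hx, ← hes']
    exact hsU
  · intro w
    obtain ⟨W', h, hwW', hh⟩ := H w
    refine ⟨W', pullback h πV, pullback.fst h πV, i, pullback.snd h πV ≫ r, hwW',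
      ⟨inferInstance, inferInstance, inferInstance⟩, inferInstance, ?_⟩
    rw [Category.assoc, hr, ← pullback.condition_assoc, hh]

end Groth.Agent.S7198
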