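import Groth.Statements.S7199
import Groth.Agent.Lib.Helper10AlgIndep
-- import your own Groth.Agent.* helpers here

set_option autoImplicit false
universe u
open FlatMor

namespace Groth.Agent.S7199

/-- Take a field k, an integral domain A that is a finitely generated k-algebra, n ≥ 2 and g_1, …, g_n ∈
A, and suppose some irreducible component of the common zero locus of g_1 and g_2 in Spec A has
dimension dim A − 2. Then for suitable c_1, …, c_n ∈ k the n + 2 elements x_1, …, x_n, Σ g_i x_i, Σ
c_i g_i of the rational function field Frac(A)(x_1, …, x_n) form an algebraically independent family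
over k. -/
theorem result {k A : Type u} [Field k] [CommRing A] [IsDomain A] [Algebra k A]
    [Algebra.FiniteType k A] (m : ℕ) (g : Fin (m + 2) → A)
    (p : Ideal A) (hp : p ∈ (Ideal.span {g 0, g 1}).minimalPrimes) (hdim : ringKrullDim (A ⧸ p) + 2 = ringKrullDim A) :
    ∃ c : Fin (m + 2) → k,
      AlgebraicIndependent k
        (Sum.elim
          (fun i : Fin (m + 2) => algebraMap (MvPolynomial (Fin (m + 2)) (FractionRing A)) (FractionRing (MvPolynomial (Fin (m + 2)) (FractionRing A))) (MvPolynomial.X i))
          ![∑ i, algebraMap A (FractionRing (MvPolynomial (Fin (m + 2)) (FractionRing A))) (g i) *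
              algebraMap (MvPolynomial (Fin (m + 2)) (FractionRing A)) (FractionRing (MvPolynomial (Fin (m + 2)) (FractionRing A))) (MvPolynomial.X i),
            algebraMap A (FractionRing (MvPolynomial (Fin (m + 2)) (FractionRing A))) (∑ i, c i • g i)]) := by
  classical
  have hNA : IsNoetherianRing A := Algebra.FiniteType.isNoetherianRing k A
  have hpp : p.IsPrime := hp.1.1
  -- Step 1: g 0, g 1 algebraically independent
  have hind : AlgebraicIndependent k (fun o : Option Unit => o.elim (g 0) (fun _ => g 1)) := by
    by_contra hdep
    have hht := Groth.Agent.Lib.Helper10.AlgIndep.height_le_one_of_not_algebraicIndependent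
      (k := k) (g 0) (g 1) p hp hdep
    obtain ⟨a, b, c, ha, hb, hc, habc⟩ := Groth.Agent.Lib.Helper10.AlgIndep.dim_formula k p
    rw [hb, hc] at hdim
    rw [ha] at hht
    have h1 : a ≤ 1 := by exact_mod_cast hht
    have h2 : b + 2 = c := by exact_mod_cast hdim
    omega
  refine ⟨Pi.single 1 1, ?_⟩
  -- notation
  have hindF : AlgebraicIndependent k
      (fun o : Option Unit => algebraMap A (FractionRing A) (o.elim (g 0) (fun _ => g 1))) :=
    hind.map' (f := IsScalarTower.toAlgHom k A (FractionRing A)) (IsFractionRing.injective A _)
  have hX : AlgebraicIndependent (FractionRing A)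
      (MvPolynomial.X : Fin (m + 1) → MvPolynomial (Fin (m + 1)) (FractionRing A)) :=
    MvPolynomial.algebraicIndependent_X _ _
  have h4 := hindF.sumElim_comp hX
  -- reindex to Option form
  let r0 : Option (Fin (m + 1) ⊕ Unit) → Fin (m + 1) ⊕ Option Unit := fun o =>
    o.elim (Sum.inr none) (Sum.elim Sum.inl (fun u => Sum.inr (some u)))
  have hr0 : Function.Injective r0 := by
    rintro (_ | _ | _) (_ | _ | _) h <;> simp [r0] at h ⊢
    exact h
  have h4' := h4.comp r0 hr0
  let y : Fin (m + 1) ⊕ Unit → MvPolynomial (Fin (m + 1)) (FractionRing A) :=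
    Sum.elim MvPolynomial.X (fun _ => MvPolynomial.C (algebraMap A (FractionRing A) (g 1)))
  let a : MvPolynomial (Fin (m + 1)) (FractionRing A) :=
    MvPolynomial.C (algebraMap A (FractionRing A) (g 0))
  let c' : MvPolynomial (Fin (m + 1)) (FractionRing A) :=
    ∑ j : Fin (m + 1), MvPolynomial.C (algebraMap A (FractionRing A) (g j.succ)) * MvPolynomial.X j
  have h4'' : AlgebraicIndependent k (fun o : Option (Fin (m + 1) ⊕ Unit) => o.elim a y) := by
    convert h4' using 1
    funext o
    rcases o with (_ | _ | _) <;> simp [r0, y, a, MvPolynomial.algebraMap_eq]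
  have h5 := Groth.Agent.Lib.Helper10.AlgIndep.algebraicIndependent_linear y a c' h4''
  -- transport to L
  let ψ : Polynomial (MvPolynomial (Fin (m + 1)) (FractionRing A)) →ₐ[k]
      FractionRing (MvPolynomial (Fin (m + 2)) (FractionRing A)) :=
    (IsScalarTower.toAlgHom k (MvPolynomial (Fin (m + 2)) (FractionRing A))
      (FractionRing (MvPolynomial (Fin (m + 2)) (FractionRing A)))).comp
      ((MvPolynomial.finSuccEquiv (FractionRing A) (m + 1)).symm.toAlgHom.restrictScalars k)
  have hψ : Function.Injective ψ := by
    intro x x' h
    have h' : algebraMap (MvPolynomial (Fin (m + 2)) (FractionRing A))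
        (FractionRing (MvPolynomial (Fin (m + 2)) (FractionRing A)))
        ((MvPolynomial.finSuccEquiv (FractionRing A) (m + 1)).symm x) =
        algebraMap (MvPolynomial (Fin (m + 2)) (FractionRing A))
        (FractionRing (MvPolynomial (Fin (m + 2)) (FractionRing A)))
        ((MvPolynomial.finSuccEquiv (FractionRing A) (m + 1)).symm x') := h
    exact (MvPolynomial.finSuccEquiv (FractionRing A) (m + 1)).symm.injective
      (IsFractionRing.injective (MvPolynomial (Fin (m + 2)) (FractionRing A))
        (FractionRing (MvPolynomial (Fin (m + 2)) (FractionRing A))) h')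
  have h6 := h5.map' hψ
  let r : Fin (m + 2) ⊕ Fin 2 → Option (Option (Fin (m + 1) ⊕ Unit)) :=
    Sum.elim (Fin.cases (some none) (fun j => some (some (Sum.inl j))))
      (Fin.cases none (fun _ => some (some (Sum.inr ()))))
  have hr : Function.Injective r := by
    rintro (i | i) (j | j) h
    · induction i using Fin.cases <;> induction j using Fin.cases <;> simp [r] at h ⊢
      exact h
    · induction i using Fin.cases <;> induction j using Fin.cases <;> simp [r] at h
    · induction i using Fin.cases <;> induction j using Fin.cases <;> simp [r] at h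
    · induction i using Fin.cases <;> induction j using Fin.cases <;> simp [r] at h ⊢
      all_goals first | exact h | (apply Subsingleton.elim)
  have h7 := h6.comp r hr
  have hs0 : (MvPolynomial.finSuccEquiv (FractionRing A) (m + 1)).symm Polynomial.X =
      MvPolynomial.X 0 :=
    (AlgEquiv.symm_apply_eq _).mpr (MvPolynomial.finSuccEquiv_X_zero).symm
  have hsS : ∀ j : Fin (m + 1), (MvPolynomial.finSuccEquiv (FractionRing A) (m + 1)).symm
      (Polynomial.C (MvPolynomial.X j)) = MvPolynomial.X j.succ := fun j =>
    (AlgEquiv.symm_apply_eq _).mpr (MvPolynomial.finSuccEquiv_X_succ).symm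
  have hsC : ∀ b : FractionRing A, (MvPolynomial.finSuccEquiv (FractionRing A) (m + 1)).symm
      (Polynomial.C (MvPolynomial.C b)) = MvPolynomial.C b := fun b => by
    rw [AlgEquiv.symm_apply_eq]
    have := (MvPolynomial.finSuccEquiv (FractionRing A) (m + 1)).commutes b
    rw [MvPolynomial.algebraMap_eq] at this
    rw [this]
    rfl
  have hψdef : ∀ z, ψ z = algebraMap (MvPolynomial (Fin (m + 2)) (FractionRing A))
      (FractionRing (MvPolynomial (Fin (m + 2)) (FractionRing A)))
      ((MvPolynomial.finSuccEquiv (FractionRing A) (m + 1)).symm z) := fun z => rfl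
  have hAL : ∀ x : A, algebraMap A (FractionRing (MvPolynomial (Fin (m + 2)) (FractionRing A))) x =
      algebraMap (MvPolynomial (Fin (m + 2)) (FractionRing A))
        (FractionRing (MvPolynomial (Fin (m + 2)) (FractionRing A)))
        (MvPolynomial.C (algebraMap A (FractionRing A) x)) := fun x => by
    rw [IsScalarTower.algebraMap_apply A (MvPolynomial (Fin (m + 2)) (FractionRing A)),
      IsScalarTower.algebraMap_apply A (FractionRing A) (MvPolynomial (Fin (m + 2)) (FractionRing A)),
      MvPolynomial.algebraMap_eq]
  convert h7 using 1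
  funext i
  rcases i with i | i
  · induction i using Fin.cases with
    | zero =>
      simp only [Sum.elim_inl, Function.comp_apply, r, Fin.cases_zero, Option.elim]
      rw [hψdef, hs0]
    | succ j =>
      simp only [Sum.elim_inl, Function.comp_apply, r, Fin.cases_succ, Option.elim, y]
      rw [hψdef, hsS]
  · induction i using Fin.cases with
    | zero =>
      simp only [Sum.elim_inr, Function.comp_apply, r, Fin.cases_zero, Option.elim,
        Matrix.cons_val_zero]
      rw [hψdef, map_add, map_mul, hs0, map_add, map_mul, Fin.sum_univ_succ, hAL]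
      congr 1
      · congr 2
        exact (hsC _).symm
      · simp only [c', map_sum, map_mul, hsS, hsC]
        apply Finset.sum_congr rfl
        intro j _
        rw [hAL]
    | succ j =>
      have hj : j = 0 := Subsingleton.elim _ _
      subst hj
      simp only [Sum.elim_inr, Function.comp_apply, r, Fin.cases_succ, Option.elim, y]
      rw [hψdef, hsC]
      have : (∑ i : Fin (m + 2), ((Pi.single (1 : Fin (m + 2)) (1 : k) : Fin (m + 2) → k) i) • g i) = g 1 := by
        rw [Finset.sum_eq_single 1]
        · simp
        · intro b _ hb
          simp [Pi.single_eq_of_ne hb]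
        · simp
      change algebraMap A _ (∑ i : Fin (m + 2), ((Pi.single (1 : Fin (m + 2)) (1 : k) : Fin (m + 2) → k) i) • g i) = _
      rw [this, hAL]

end Groth.Agent.S7199
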