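import Groth.Statements.S7217
import Mathlib
import Groth.Agent.Lib.Helper1ChartInd6
set_option maxHeartbeats 400000
-- import your own Groth.Agent.* helpers here

set_option autoImplicit false
universe u
open CategoryTheory CategoryTheory.Limits AlgebraicGeometry Opposite TopologicalSpace
attribute [local instance] HasDerivedCategory.standard
open FlatMor

namespace Groth.Agent.S7217

/-- Let f : X ⟶ S be a morphism of schemes, U ⊆ X and V ⊆ S affine opens with f(U) ⊆ V such that Γ(S, V)
→ Γ(X, U) is of finite type, E an object of D(O_X), m an integer, and g_1, …, g_k ∈ Γ(X, U) elements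
generating the unit ideal, so that the basic opens D(g_j) form a standard affine open covering of U.
Then the following are equivalent: for every j there is a surjection from a polynomial ring Γ(S,
V)[x_1, …, x_n] onto Γ(X, D(g_j)), compatible with f, along whose closed immersion into affine space
over V the direct image of E restricted to D(g_j) is m-pseudo-coherent; there is such a surjection
onto Γ(X, U) along whose closed immersion the direct image of E|_U is m-pseudo-coherent. -/
theorem result {X S : Scheme.{u}} (f : X ⟶ S) (U : X.affineOpens)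
    (V : S.affineOpens) (h : (U : X.Opens) ≤ f ⁻¹ᵁ (V : S.Opens))
    (hft : (f.appLE (V : S.Opens) (U : X.Opens) h).hom.FiniteType) (m : ℤ) (E : DCoh.D X)
    {k : ℕ} (g : Fin k → Γ(X, (U : X.Opens))) (hg : Ideal.span (Set.range g) = ⊤) :
    (∀ j : Fin k, ∃ (n : ℕ) (φ : MvPolynomial (Fin n) Γ(S, (V : S.Opens)) →+* Γ(X, X.basicOpen (g j))),
        DerSch.IsChart f (X.basicOpen (g j)) (V : S.Opens) ((X.basicOpen_le (g j)).trans h) φ ∧
          DerSch.ChartPC m E (X.basicOpen (g j)) (V : S.Opens) φ) ↔
      ∃ (n : ℕ) (φ : MvPolynomial (Fin n) Γ(S, (V : S.Opens)) →+* Γ(X, (U : X.Opens))),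
        DerSch.IsChart f (U : X.Opens) (V : S.Opens) h φ ∧ DerSch.ChartPC m E (U : X.Opens) (V : S.Opens) φ := by
  constructor
  · intro H
    obtain ⟨n, φ, hφ⟩ : ∃ (n : ℕ) (φ : MvPolynomial (Fin n) Γ(S, (V : S.Opens)) →+*
        Γ(X, (U : X.Opens))), DerSch.IsChart f (U : X.Opens) (V : S.Opens) h φ := by
      letI := (f.appLE (V : S.Opens) (U : X.Opens) h).hom.toAlgebra
      obtain ⟨n, γ, hγ⟩ := Algebra.FiniteType.iff_quotient_mvPolynomial''.1 hft
      refine ⟨n, γ.toRingHom, hγ, ?_⟩
      ext r
      exact γ.commutes r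
    refine ⟨n, φ, hφ, Groth.Agent.Lib.Helper1.ChartInd.chartPC_of_basicOpen_cover f E m U.2 V.2 h
      φ hφ (fun x hx => ?_)⟩
    have hcov := iSup_basicOpen_of_span_eq_top (U : X.Opens) (Set.range g) hg
    rw [← hcov] at hx
    obtain ⟨g', hx⟩ := Opens.mem_iSup.1 hx
    obtain ⟨⟨j, rfl⟩, hx⟩ := Opens.mem_iSup.1 hx
    exact ⟨g j, hx, (Groth.Agent.Lib.Helper1.ChartInd.relPC_iff_exists_chartPC f E m
      (U.2.basicOpen (g j)) V.2 ((X.basicOpen_le (g j)).trans h)).2 (H j)⟩
  · intro H j
    have H1 := (Groth.Agent.Lib.Helper1.ChartInd.relPC_iff_exists_chartPC f E m U.2 V.2 h).2 H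
    have H2 := Groth.Agent.Lib.Helper1.ChartInd.relPC_basicOpen f E m U.2 V.2 h (g j) H1
    exact (Groth.Agent.Lib.Helper1.ChartInd.relPC_iff_exists_chartPC f E m
      (U.2.basicOpen (g j)) V.2 ((X.basicOpen_le (g j)).trans h)).1 H2

end Groth.Agent.S7217
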