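import Groth.Statements.S7225
import Groth.Agent.Lib.Helper14NLBC

set_option autoImplicit false
universe u
open CategoryTheory CategoryTheory.Limits TensorProduct
attribute [local instance] HasDerivedCategory.standard
open FlatMor

namespace Groth.Agent.S7225

/-- Let A be a ring, M a submonoid of A, A' a localization of A at M and B an A'-algebra, viewed also as
an A-algebra. Let G be a presentation of B over A by a polynomial algebra and G' the presentation of
B over A' with the same generators (G'(i) = G(i), written through the identity algebra map of B).
Then the canonical chain map NL(G) → NL(G') from the naive cotangent complex of the presentation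
over A to that of the presentation over A' is an isomorphism of complexes (so that NL_{B/A} →
NL_{B/A'} is a homotopy equivalence). -/
theorem result (A A' B : Type u) [CommRing A] [CommRing A'] [CommRing B]
    [Algebra A A'] (M : Submonoid A) [IsLocalization M A'] [Algebra A' B] [Algebra A B] [IsScalarTower A A' B]
    {ι : Type u} (G : Algebra.Generators A B ι) (G' : Algebra.Generators A' B ι) (h : ∀ i, G'.val i = algebraMap B B (G.val i)) :
    IsIso (NLCx.map (NLCx.sameVarsHom (S' := B) G G' h).toExtensionHom) := by
  have hv : ∀ i, (NLCx.sameVarsHom (S' := B) G G' h).val i = MvPolynomial.X i := fun i => rfl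
  have hb0 := Groth.Agent.Lib.Helper14.NLBC.cotangentMap_bijective_of_isLocalization M
    (NLCx.sameVarsHom (S' := B) G G' h) hv
  have hb1 := Groth.Agent.Lib.Helper14.NLBC.cotangentSpaceMap_bijective_of_sameTop
    (NLCx.sameVarsHom (S' := B) G G' h) hv
  haveI i0 : IsIso (ModuleCat.ofHom (Algebra.Extension.Cotangent.map
      (NLCx.sameVarsHom (S' := B) G G' h).toExtensionHom)) :=
    (ConcreteCategory.isIso_iff_bijective _).mpr hb0
  haveI i1 : IsIso (ModuleCat.ofHom (Algebra.Extension.CotangentSpace.map
      (NLCx.sameVarsHom (S' := B) G G' h).toExtensionHom)) :=
    (ConcreteCategory.isIso_iff_bijective _).mpr hb1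
  unfold NLCx.map
  apply Groth.Agent.Lib.Helper14.NLBC.isIso_mkHomFromDouble
  intro k h0 h1
  exact HomologicalComplex.isZero_double_X _ _ k h0 h1

end Groth.Agent.S7225
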