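import Groth.Statements.S7226
import Mathlib
import Groth.Agent.Lib.Helper1ChartComp2
set_option maxHeartbeats 400000
-- import your own Groth.Agent.* helpers here

set_option autoImplicit false
universe u
open CategoryTheory CategoryTheory.Limits AlgebraicGeometry Opposite TopologicalSpace
attribute [local instance] HasDerivedCategory.standard
open FlatMor

namespace Groth.Agent.S7226

/-- Suppose a : X ⟶ T is locally of finite type, and b : T ⟶ S is a flat morphism that is locally of
finite presentation. Fix an integer m and an object E in D(O_X). Then m-pseudo-coherence of E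
relative to a holds exactly when E is m-pseudo-coherent relative to the composite a ≫ b : X ⟶ S
(relative pseudo-coherence in chart form). -/
theorem result {X T S : Scheme.{u}}
    (a : X ⟶ T) (b : T ⟶ S) [LocallyOfFiniteType a] [Flat b] [LocallyOfFinitePresentation b]
    (m : ℤ) (E : DCoh.D X) :
    DerSch.IsPseudoCoherentRel (a ≫ b) m E ↔ DerSch.IsPseudoCoherentRel a m E := by
  exact (Groth.Agent.Lib.Helper1.ChartInd.isPseudoCoherentRel_iff_comp a b E m
    (fun n => Groth.Agent.Lib.Helper1.ChartInd.isNPseudoCoherent_of_flat b n)).symm

end Groth.Agent.S7226
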