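import Groth.Statements.S7240
import Mathlib
import Groth.Agent.Lib.Helper1PC16
-- import your own Groth.Agent.* helpers here

set_option autoImplicit false
universe u
open CategoryTheory CategoryTheory.Limits AlgebraicGeometry
attribute [local instance] HasDerivedCategory.standard
open Perf

namespace Groth.Agent.S7240

/-- Let X be a scheme, m an integer and E an m-pseudo-coherent object of D(O_X). Then the cohomology
sheaf Hⁱ(E) is quasi-coherent for every i > m, and Hᵐ(E) is, locally on X, a quotient of a
quasi-coherent module: every point of X has an open neighbourhood V and a quasi-coherent O_V-module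
mapping onto Hᵐ(E)|_V. (The published statement says that Hᵐ(E) is a quotient of a quasi-coherent
O_X-module; its proof gives this only locally on X, which is what this row states, and the global
form fails: on the affine plane over ℚ, the direct image of an invertible module over the inverse
image of O_X on a triangle of three lines, twisted by the constant 2 around the cycle, is an
O_X-module of finite type with no nonzero global section, so it is not a quotient of any
quasi-coherent module.) -/
theorem result {X : Scheme.{u}} (m : ℤ) (E : DCoh.D X)
    (hE : DCoh.IsPseudoCoherentD m E) :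
    (∀ i : ℤ, m < i → Coh.IsQCoh (DCoh.HD E i)) ∧
      ∀ x : X, ∃ (V : X.Opens) (Q : (V : Scheme.{u}).Modules)
        (π : Q ⟶ (Scheme.Modules.restrictFunctor V.ι).obj (DCoh.HD E m)), x ∈ V ∧ Coh.IsQCoh Q ∧ Epi π := by
  open Groth.Agent.Lib.Helper1.SPL Groth.Agent.Lib.Helper1.Sky Groth.Agent.Helper18Strict
    Groth.Agent.Lib.Helper2.LocFree Groth.Agent.Lib.Helper23.FinType in
  have h := (isPseudoCoherentD_iff_hasPresM m E).1 hE
  choose V hxV P α hP hα using fun x => (h x).exists_opens
  have hPq : ∀ x k, ((P x).X k).IsQuasicoherent := fun x k =>
    isQCoh_of_isFP _ (isFP_of_isFinLocFree _ ((hP x).2 k))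
  refine ⟨fun i hi => ?_, fun x => ?_⟩
  · have hcov : TopologicalSpace.IsOpenCover V := by
      rw [TopologicalSpace.IsOpenCover, eq_top_iff]
      intro x _
      exact TopologicalSpace.Opens.mem_iSup.2 ⟨x, hxV x⟩
    refine isQuasicoherent_of_open_cover _ V hcov (fun x => ?_)
    haveI := (hα x).1 i hi
    have e : (DCoh.HD E i).restrict (V x).ι ≅ (P x).homology i :=
      (homologyResDIso (V x).ι E i).symm ≪≫
        (asIso ((DerivedCategory.homologyFunctor (V x : Scheme.{u}).Modules i).map (α x))).symm ≪≫
        (DerivedCategory.homologyFunctorFactors (V x : Scheme.{u}).Modules i).app (P x)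
    haveI := isQuasicoherent_homology (P x) (hPq x) i
    exact Groth.Agent.Lib.Helper23.TensorQCoh.isQuasicoherent_of_iso e.symm
  · haveI := (hα x).2
    refine ⟨V x, (P x).homology m,
      ((DerivedCategory.homologyFunctorFactors (V x : Scheme.{u}).Modules m).app (P x)).inv ≫
        (DerivedCategory.homologyFunctor (V x : Scheme.{u}).Modules m).map (α x) ≫
        (homologyResDIso (V x).ι E m).hom, hxV x, isQuasicoherent_homology (P x) (hPq x) m, ?_⟩
    infer_instance

end Groth.Agent.S7240
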