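import Groth.Statements.S7248
import Mathlib
import Groth.Agent.Lib.Helper1PC13
-- import your own Groth.Agent.* helpers here

set_option autoImplicit false
universe u
open CategoryTheory CategoryTheory.Limits AlgebraicGeometry
attribute [local instance] HasDerivedCategory.standard
open Perf

namespace Groth.Agent.S7248

/-- Let f : X ⟶ S be flat and locally of finite presentation. Then a perfect object E of D(O_X) is
S-perfect, that is, E is pseudo-coherent (m-pseudo-coherent for every m) and, locally on X, the tor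
dimension of E over the sheaf of rings f⁻¹O_S is finite (locally represented by a bounded complex of
O_X-modules flat over S). -/
theorem result {X S : Scheme.{u}} (f : X ⟶ S) [Flat f] [LocallyOfFinitePresentation f]
    (E : DCoh.D X) (hE : DCoh.IsPerfect E) :
    (∀ m : ℤ, DCoh.IsPseudoCoherentD m E) ∧ DCoh.LocHasFiniteRelTorDim f E := by
  classical
  have hflatOver : ∀ {Y : Scheme.{u}} (g : Y ⟶ S) [Flat g] (M : Y.Modules),
      FlatMod.IsFlat M → FlatMod.IsFlatOver g M := by
    intro Y g _ M hM y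
    unfold FlatMod.IsFlatOverAt
    letI mA := FlatMod.moduleStalkOver g M y
    letI alg : Algebra (S.presheaf.stalk (g.base y)) (Y.presheaf.stalk y) :=
      (g.stalkMap y).hom.toAlgebra
    haveI : IsScalarTower (S.presheaf.stalk (g.base y)) (Y.presheaf.stalk y)
        (M.presheaf.stalk y) := IsScalarTower.of_algebraMap_smul (fun r m => rfl)
    haveI : Module.Flat (S.presheaf.stalk (g.base y)) (Y.presheaf.stalk y) :=
      AlgebraicGeometry.Flat.stalkMap g y
    haveI : Module.Flat (Y.presheaf.stalk y) (M.presheaf.stalk y) := hM y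
    exact Module.Flat.trans (S.presheaf.stalk (g.base y)) (Y.presheaf.stalk y) (M.presheaf.stalk y)
  refine ⟨((Groth.Agent.Lib.Helper1.SPL.isPerfect_iff_pseudoCoherent_locFiniteTorDim E).1 hE).1,
    fun x => ?_⟩
  obtain ⟨V, hxV, P, hP, ⟨e⟩⟩ :=
    ((Groth.Agent.Lib.Helper1.SPL.isPerfect_iff_hasPres E).1 hE x).exists_opens
  obtain ⟨⟨a, b, hv⟩, hfl⟩ := id hP
  refine ⟨V, a, b, hxV, fun F' ⟨eF'⟩ => ⟨P, hv, fun i =>
    hflatOver (V.ι ≫ f) _ (Groth.Agent.Lib.Helper1.Sky.isFlat_of_isFinLocFree' _ (hfl i)), ⟨?_⟩⟩⟩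
  exact e.symm ≪≫ (Groth.Agent.Lib.Helper1.SPL.resD V.ι).mapIso eF'.symm ≪≫
    (Groth.Agent.Lib.Helper1.SPL.facD V.ι).app F'

end Groth.Agent.S7248
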