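import Groth.Statements.S7289
import Groth.Agent.Lib.Helper3IndEt
import Mathlib

set_option autoImplicit false
open CategoryTheory CategoryTheory.Limits AlgebraicGeometry Opposite
universe u
open ProEtW

namespace Groth.Agent.S7289

open Groth.Agent.Lib.Helper3.IndEt

/-- Ind-etale A-algebras are stable under filtered colimits, i.e. any colimit over a filtered index
category of such algebras is again ind-etale over A. Concretely: if D is a filtered diagram of rings
under A all of whose values are ind-etale A-algebras, and the A-algebra B is a colimit of D in the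
category of rings under A, then B is ind-etale over A. -/
theorem result (A B : Type u) [CommRing A] [CommRing B] [Algebra A B]
    {J : Type u} [SmallCategory J] [IsFiltered J] (D : J ⥤ Under (CommRingCat.of A))
    (hD : ∀ j, letI := (D.obj j).hom.hom.toAlgebra; EtPBC.IsIndEtale A ↥(D.obj j).right)
    (c : Cocone D) (hc : IsColimit c)
    (e : c.pt ≅ Under.mk (CommRingCat.ofHom (algebraMap A B))) :
    EtPBC.IsIndEtale A B := by
  apply isIndEtale_of_factor
  intro P _ _ _ ψ
  letI : Algebra (CommRingCat.of A) P := inferInstanceAs (Algebra A P)
  letI : Algebra (CommRingCat.of A) B := inferInstanceAs (Algebra A B)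
  let X : Under (CommRingCat.of A) := CommRingCat.mkUnder (CommRingCat.of A) P
  haveI : IsFinitelyPresentable.{u} X := by
    apply CommRingCat.isFinitelyPresentable_under
    show (algebraMap A P).FinitePresentation
    rw [RingHom.finitePresentation_algebraMap]
    infer_instance
  let g : X ⟶ c.pt := AlgHom.toUnder (R := CommRingCat.of A) ψ ≫ e.inv
  obtain ⟨j, p, hp⟩ := IsFinitelyPresentable.exists_hom_of_isColimit hc g
  letI := (D.obj j).hom.hom.toAlgebra
  have hp' : p ≫ (c.ι.app j ≫ e.hom) = AlgHom.toUnder (R := CommRingCat.of A) ψ := by
    rw [← Category.assoc, hp, Category.assoc, e.inv_hom_id]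
    exact Category.comp_id _
  let ψj : P →ₐ[A] (D.obj j).right :=
    { toRingHom := p.right.hom
      commutes' := fun a => congr($(Under.w p).hom a) }
  let θ : (D.obj j).right →ₐ[A] B :=
    { toRingHom := (c.ι.app j ≫ e.hom).right.hom
      commutes' := fun a => congr($(Under.w (c.ι.app j ≫ e.hom)).hom a) }
  have hθ : θ.comp ψj = ψ := by
    apply AlgHom.ext
    intro x
    exact congr($(hp').right.hom x)
  obtain ⟨E, _, _, _, f', g', hfg⟩ := factor_of_isIndEtale (hD j) P ψj
  exact ⟨E, inferInstance, inferInstance, inferInstance, f', θ.comp g', by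
    rw [AlgHom.comp_assoc, hfg, hθ]⟩

end Groth.Agent.S7289
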