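import Groth.Statements.S7318
import Mathlib
-- import your own Groth.Agent.* helpers here

set_option autoImplicit false
open Finset
open Models Models.NumericalType

namespace Groth.Agent.S7318

/-- For a numerical type T on n indices with e pairs i < j such that a_ij > 0, the topological genus 1 -
n + e is ≥ 0. -/
theorem result {n : ℕ} (T : Models.NumericalType n) : 0 ≤ T.topGenus := by
  classical
  have hsymm : ∀ i j, T.a i j = T.a j i := fun i j => (T.symm.apply i j).symm
  let G : SimpleGraph (Fin n) :=
    { Adj := fun i j => i ≠ j ∧ 0 < T.a i j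
      symm := ⟨fun i j ⟨h1, h2⟩ => ⟨h1.symm, by rw [hsymm]; exact h2⟩⟩
      loopless := ⟨fun i h => h.1 rfl⟩ }
  haveI : Nonempty (Fin n) := ⟨⟨0, T.pos⟩⟩
  have hconn : G.Connected := by
    refine ⟨fun u v => ?_⟩
    by_contra hv
    let I : Finset (Fin n) := univ.filter fun j => G.Reachable u j
    have hI1 : I.Nonempty := ⟨u, by simp [I]⟩
    have hI2 : I ≠ univ := by
      intro h
      have : v ∈ I := by rw [h]; exact mem_univ v
      simp only [I, mem_filter, mem_univ, true_and] at this
      exact hv this
    obtain ⟨i, hi, j, hj, hij⟩ := T.connected I hI1 hI2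
    simp only [I, mem_filter, mem_univ, true_and] at hi hj
    have hne : i ≠ j := by
      rintro rfl
      exact hj hi
    have hpos : 0 < T.a i j := lt_of_le_of_ne (T.offDiag_nonneg i j hne) (Ne.symm hij)
    have hadj : G.Adj i j := ⟨hne, hpos⟩
    exact hj (hi.trans hadj.reachable)
  have h1 := hconn.card_vert_le_card_edgeSet_add_one
  rw [Nat.card_eq_fintype_card, Fintype.card_fin, Nat.card_eq_fintype_card,
    ← SimpleGraph.edgeFinset_card] at h1
  have h2 : G.edgeFinset.card ≤ T.edgeCount := by
    unfold Models.NumericalType.edgeCount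
    refine Finset.card_le_card_of_surjOn (fun p : Fin n × Fin n => s(p.1, p.2)) ?_
    intro e he
    induction e using Sym2.ind with
    | _ i j =>
      have hadj : G.Adj i j := by simpa using he
      rcases lt_or_gt_of_ne hadj.1 with hlt | hgt
      · exact ⟨(i, j), by simp [hlt, hadj.2], rfl⟩
      · refine ⟨(j, i), ?_, Sym2.eq_swap⟩
        simp only [coe_filter, mem_univ, true_and, Set.mem_setOf_eq]
        exact ⟨hgt, by rw [hsymm]; exact hadj.2⟩
  unfold Models.NumericalType.topGenus
  have : (n : ℤ) ≤ (T.edgeCount : ℤ) + 1 := by exact_mod_cast h1.trans (Nat.add_le_add_right h2 1)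
  linarith

end Groth.Agent.S7318
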