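import Groth.Statements.S7411
import Groth.Agent.Lib.Helper2FibVanF

set_option autoImplicit false
universe u
open Lim

namespace Groth.Agent.S7411

open AlgebraicGeometry CategoryTheory in
/-- Let `f : X → Y` be proper and `y ∈ Y` a point whose fibre `X_y` has dimension at most `d`. Then for
every quasi-coherent `O_X`-module `F` and every `i > d` the stalk `(R^i f_* F)_y` vanishes. (The
published statement assumes that the fibre has dimension exactly `d`; this row assumes dimension at
most `d`.) -/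
theorem result {X Y : Scheme.{u}} (f : X ⟶ Y) [IsProper f]
    (y : Y) (d : ℕ) (hd : topologicalKrullDim ↥(f.fiber y) ≤ d) (M : X.Modules) [Coh.IsQCoh M] (i : ℕ)
    (hi : d < i) :
    Limits.IsZero (TopCat.Presheaf.stalk ((Coh.RpushAb f i).obj (Coh.toAb M)).obj y) := by
  have hU : IsOpen {s : Y | topologicalKrullDim (f.fiber s) ≤ (d : WithBot ℕ∞)} :=
    Groth.Agent.S0403.result f d
  have hyU : y ∈ (⟨_, hU⟩ : Y.Opens) := hd
  suffices h : ∀ x : ↑(TopCat.Presheaf.stalk (C := AddCommGrpCat.{u})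
      ((Coh.RpushAb f i).obj (Coh.toAb M)).obj y), x = 0 by
    haveI : Subsingleton ↑(TopCat.Presheaf.stalk (C := AddCommGrpCat.{u})
        ((Coh.RpushAb f i).obj (Coh.toAb M)).obj y) := ⟨fun a b => (h a).trans (h b).symm⟩
    exact AddCommGrpCat.isZero_of_subsingleton _
  intro x
  obtain ⟨W', hyW', s, rfl⟩ := TopCat.Presheaf.exists_germ_eq (C := AddCommGrpCat.{u})
    ((Coh.RpushAb f i).obj (Coh.toAb M)).obj x
  have hyWU : y ∈ W' ⊓ (⟨_, hU⟩ : Y.Opens) := ⟨hyW', hyU⟩
  obtain ⟨W, hWaff, hyW, hWle⟩ :=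
    (TopologicalSpace.Opens.isBasis_iff_nbhd.1 Y.isBasis_affineOpens) hyWU
  haveI := Groth.Agent.Lib.Helper2.FibVanF.subsingleton_sections f W hWaff d
    (fun t ht => (hWle ht).2) M i hi
  rw [← TopCat.Presheaf.germ_res_apply (C := AddCommGrpCat.{u})
    ((Coh.RpushAb f i).obj (Coh.toAb M)).obj (homOfLE (hWle.trans inf_le_left)) y hyW s]
  rw [Subsingleton.elim ((ConcreteCategory.hom ((((Coh.RpushAb f i).obj (Coh.toAb M)).obj).map
    (homOfLE (hWle.trans inf_le_left)).op)) s) 0, map_zero]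

end Groth.Agent.S7411
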