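import Groth.Statements.S7338
import Groth.Agent.Lib.Helper2LowDegC
import Groth.Agent.Lib.Helper2ModifDimB
import Groth.Agent.Lib.Helper2FibVanE
import Groth.Agent.Lib.Helper2FibH1C
import Groth.Agent.Lib.Helper4ZeroDimGG
import Groth.Agent.Lib.Helper23ModAbBridge
import Groth.Agent.S0036
import Groth.Agent.S7411
import Groth.Agent.S0047

set_option autoImplicit false
universe u
open CategoryTheory CategoryTheory.Limits AlgebraicGeometry
open Resolve

namespace Groth.Agent.S7338

open Groth.Agent.Lib.Helper2.ModifDimB Groth.Agent.Lib.Helper2.ModifDimA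
  Groth.Agent.Lib.Helper17.HHLes in
/-- an isomorphism of modules induces an `A`-linear isomorphism on cohomology. -/
theorem nonempty_linearEquiv_of_iso (A : Type u) [CommRing A] {X : Scheme.{u}}
    [X.Over (Spec (CommRingCat.of A))] {M N : X.Modules} (φ : M ⟶ N) [IsIso φ] (n : ℕ) :
    Nonempty (Coh.HH X M n ≃ₗ[A] Coh.HH X N n) := by
  refine ⟨LinearEquiv.ofLinearMap (Canon.HHlin A φ n) (Canon.HHlin A (inv φ) n) ?_ ?_⟩
  · ext x
    have h1 := Hm_comp (inv φ) φ n x
    rw [IsIso.inv_hom_id, Hm_id] at h1
    exact h1
  · ext x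
    have h1 := Hm_comp φ (inv φ) n x
    rw [IsIso.hom_inv_id, Hm_id] at h1
    exact h1

/-- Let (A, m) be a Noetherian normal local domain of dimension two, and X, X' integral schemes proper
over Spec A, each an isomorphism over some nonempty open of Spec A (modifications), with X normal,
and g : X' → X a morphism over Spec A. Then R^1 g_* O_{X'} is generated by global sections and its
support is a finite set of closed points of X, and there is a short exact sequence 0 → H^1(X, O_X) →
H^1(X', O_{X'}) → H^0(X, R^1 g_* O_{X'}) → 0, recorded here as the additivity of A-lengths. (R^1 g_*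
is the right derived functor of g_* on O-modules; that O_{X'}-modules have injective resolutions is
carried as an instance hypothesis.) -/
theorem result (A : Type u) [CommRing A] [IsDomain A] [IsLocalRing A] [IsNoetherianRing A]
    [IsIntegrallyClosed A] (hdim : ringKrullDim A = 2)
    (X X' : Scheme.{u}) [X.Over (Spec (CommRingCat.of A))] [X'.Over (Spec (CommRingCat.of A))]
    [IsProper (X ↘ Spec (CommRingCat.of A))] [IsProper (X' ↘ Spec (CommRingCat.of A))] [IsIntegral X] [IsIntegral X']
    (hX : ∃ U : (Spec (CommRingCat.of A)).Opens, (U : Set (Spec (CommRingCat.of A))).Nonempty ∧ IsIso ((X ↘ Spec (CommRingCat.of A)) ∣_ U))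
    (hX' : ∃ U : (Spec (CommRingCat.of A)).Opens, (U : Set (Spec (CommRingCat.of A))).Nonempty ∧ IsIso ((X' ↘ Spec (CommRingCat.of A)) ∣_ U))
    (hXn : Pi1.IsNormalScheme X) (g : X' ⟶ X) (hg : g ≫ (X ↘ Spec (CommRingCat.of A)) = X' ↘ Spec (CommRingCat.of A))
    [HasInjectiveResolutions X'.Modules] :
    Curv2.IsGloballyGenerated ((Coh.Rpush g 1).obj (Coh.structureModule X')) ∧
      {x : X | Nontrivial (((Coh.Rpush g 1).obj (Coh.structureModule X')).presheaf.stalk x)}.Finite ∧
      (∀ x : X, Nontrivial (((Coh.Rpush g 1).obj (Coh.structureModule X')).presheaf.stalk x) → IsClosed ({x} : Set X)) ∧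
      Module.length A (Coh.HH X' (Coh.structureModule X') 1) =
        Module.length A (Coh.HH X (Coh.structureModule X) 1) +
          Module.length A (Coh.HH X ((Coh.Rpush g 1).obj (Coh.structureModule X')) 0) := by
  open Groth.Agent.Lib.Helper2.ModifDimB Groth.Agent.Lib.Helper2.ModifDimA in
  have main : Curv2.IsGloballyGenerated ((Coh.Rpush g 1).obj (Coh.structureModule X')) ∧
      {x : X | Nontrivial (((Coh.Rpush g 1).obj (Coh.structureModule X')).presheaf.stalk x)}.Finite ∧
      (∀ x : X, Nontrivial (((Coh.Rpush g 1).obj (Coh.structureModule X')).presheaf.stalk x) →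
        IsClosed ({x} : Set X)) ∧
      Module.length A (Coh.HH X' (Coh.structureModule X') 1) =
        Module.length A (Coh.HH X (Coh.structureModule X) 1) +
          Module.length A (Coh.HH X ((Coh.Rpush g 1).obj (Coh.structureModule X')) 0) := by
    haveI : IsLocallyNoetherian X :=
      LocallyOfFiniteType.isLocallyNoetherian (X ↘ Spec (CommRingCat.of A))
    haveI : CompactSpace X :=
      QuasiCompact.compactSpace_of_compactSpace (X ↘ Spec (CommRingCat.of A))
    haveI : IsNoetherian X := {}
    haveI : IsProper (g ≫ (X ↘ Spec (CommRingCat.of A))) := by rw [hg]; infer_instance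
    haveI : IsProper g := IsProper.of_comp g (X ↘ Spec (CommRingCat.of A))
    obtain ⟨W, hW, hWiso⟩ := exists_isIso_restrict (X ↘ Spec (CommRingCat.of A))
      (X' ↘ Spec (CommRingCat.of A)) g hg hX hX'
    haveI := hWiso
    haveI hu := isIso_unitPush g hXn W hW
    have hcoh : Coh.IsCoh ((Coh.Rpush g 1).obj (Coh.structureModule X')) :=
      Groth.Agent.S0036.result g _ (Groth.Agent.Lib.Helper2.FibH1C.isCoh_structureModule X') 1
    have hX2 : ∀ y : X, ringKrullDim (X.presheaf.stalk y) ≤ 2 :=
      ringKrullDim_stalk_le_two A hdim.le (X ↘ Spec (CommRingCat.of A)) hX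
    have hclosed : ∀ x : X,
        Nontrivial (((Coh.Rpush g 1).obj (Coh.structureModule X')).presheaf.stalk x) →
        IsClosed ({x} : Set X) := by
      intro x hx
      by_contra hcl
      have h1 := ringKrullDim_stalk_le_one_of_not_isClosed hX2 x hcl
      have h0 := fiber_dim_le_zero g W hW x h1
      have hz := Groth.Agent.S7411.result g x 0 (by simpa using h0) (Coh.structureModule X') 1
        (by omega)
      obtain ⟨e⟩ := Groth.Agent.Lib.Helper23.ModAbBridge.nonempty_toAb_Rpush_iso g
        (Coh.structureModule X') 1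
      have e' := (TopCat.Presheaf.stalkFunctor AddCommGrpCat.{u} x).mapIso
        ((sheafToPresheaf _ _).mapIso e)
      have hz' : IsZero ((TopCat.Presheaf.stalkFunctor AddCommGrpCat.{u} x).obj
          ((sheafToPresheaf _ _).obj (Coh.toAb ((Coh.Rpush g 1).obj (Coh.structureModule X'))))) :=
        hz.of_iso e'
      have hs := AddCommGrpCat.subsingleton_of_isZero hz'
      exact @not_subsingleton _ hx hs
    have hsupp : ∀ x ∈ CohB1.support ((Coh.Rpush g 1).obj (Coh.structureModule X')),
        IsClosed ({x} : Set X) := fun x hx => hclosed x (not_subsingleton_iff_nontrivial.1 hx)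
    refine ⟨Groth.Agent.Lib.Helper4.ZeroDimGG.isGloballyGenerated_of_closed_points _ hcoh hsupp,
      ?_, hclosed, ?_⟩
    · have hcl : IsClosed (CohB1.support ((Coh.Rpush g 1).obj (Coh.structureModule X'))) :=
        Groth.Agent.S0020.result X _ hcoh.2
      have hfin := Groth.Agent.S0047.finite_of_noetherian_quasiSober _ hcl hsupp
      refine hfin.subset ?_
      intro x hx
      exact not_subsingleton_iff_nontrivial.2 hx
    · have hd := fun t => fiber_dim_le_one A hdim.le (X ↘ Spec (CommRingCat.of A)) hX t
      haveI : Coh.IsQCoh (Coh.structureModule X) :=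
        (Groth.Agent.Lib.Helper2.FibH1C.isCoh_structureModule X).1
      have hv : Subsingleton (Coh.HH X (Coh.structureModule X) 2) :=
        Groth.Agent.Lib.Helper2.FibVanE.subsingleton_HH_of_isAffine (X ↘ Spec (CommRingCat.of A)) 1
          (fun t => by simpa using hd t) (Coh.structureModule X) 2 (by omega)
      obtain ⟨e2⟩ := nonempty_linearEquiv_of_iso A (Groth.Agent.Lib.Helper23.Serre.unitPush g) 2
      obtain ⟨e1⟩ := nonempty_linearEquiv_of_iso A (Groth.Agent.Lib.Helper23.Serre.unitPush g) 1
      have h2 : Subsingleton (Coh.HH X ((Scheme.Modules.pushforward g).obj (Coh.structureModule X')) 2) :=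
        e2.symm.toEquiv.subsingleton
      have hlen := Groth.Agent.Lib.Helper2.LowDegC.length_eq g (Coh.structureModule X') A hg h2
      rw [hlen, ← LinearEquiv.length_eq e1]
  exact main

end Groth.Agent.S7338
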