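import Groth.Statements.S7340
import Mathlib

set_option autoImplicit false
universe u
open Polynomial
open Resolve

namespace Groth.Agent.S7340

set_option linter.unusedSectionVars false

open Finset

section Qid

variable {R S M : Type*} [CommRing R] [CommRing S] [Algebra R S] [AddCommGroup M] [Module S M]
  [Module R M] [IsScalarTower R S M] (D : Derivation R S M)

theorem sum_choose_left (r : ℕ) (g h : S) :
    ∑ ij ∈ antidiagonal r, ((r + 1).choose ij.1 : S) * g ^ ij.1 * h ^ (ij.2 + 1) =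
      (g + h) ^ (r + 1) - g ^ (r + 1) := by
  rw [(Commute.all g h).add_pow' (r + 1), Finset.Nat.sum_antidiagonal_succ']
  simp only [nsmul_eq_mul, Nat.choose_self, Nat.cast_one, pow_zero, mul_one, one_mul]
  rw [add_sub_cancel_left]
  exact Finset.sum_congr rfl fun ij _ => by ring

theorem sum_choose_right (r : ℕ) (g h : S) :
    ∑ ij ∈ antidiagonal r, ((r + 1).choose (ij.1 + 1) : S) * g ^ (ij.1 + 1) * h ^ ij.2 =
      (g + h) ^ (r + 1) - h ^ (r + 1) := by
  rw [(Commute.all g h).add_pow' (r + 1), Finset.Nat.sum_antidiagonal_succ]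
  simp only [nsmul_eq_mul, Nat.choose_zero_right, Nat.cast_one, pow_zero, one_mul]
  rw [add_sub_cancel_left]
  exact Finset.sum_congr rfl fun ij _ => by ring

theorem exists_Q (p : ℕ) (hp : p.Prime) (g h : S) :
    ∃ Q : S, (g + h) ^ (p - 1) • D (g + h) = g ^ (p - 1) • D g + h ^ (p - 1) • D h + D Q := by
  obtain ⟨r, rfl⟩ : ∃ r, p = r + 2 := ⟨p - 2, by have := hp.two_le; omega⟩
  have hc : ∀ i : ℕ, ∃ c : ℕ, i ≤ r → (r + 2).choose (i + 1) = (r + 2) * c := by
    intro i
    by_cases hi : i ≤ r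
    · obtain ⟨c, hc⟩ := hp.dvd_choose_self (k := i + 1) (by omega) (by omega)
      exact ⟨c, fun _ => hc⟩
    · exact ⟨0, fun h => absurd h hi⟩
  choose c hc using hc
  have hc1 : ∀ i j, i + j = r → (i + 1) * c i = (r + 1).choose i := by
    intro i j hij
    have h1 := Nat.add_one_mul_choose_eq (r + 1) i
    rw [hc i (by omega)] at h1
    have : (r + 2) * ((i + 1) * c i) = (r + 2) * (r + 1).choose i := by
      rw [show r + 1 + 1 = r + 2 from rfl] at h1
      rw [h1]; ring
    exact Nat.eq_of_mul_eq_mul_left (by omega) this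
  have hc2 : ∀ i j, i + j = r → (j + 1) * c i = (r + 1).choose (i + 1) := by
    intro i j hij
    have h1 := Nat.choose_mul_succ_eq (r + 1) (i + 1)
    rw [show r + 1 + 1 = r + 2 from rfl, hc i (by omega)] at h1
    have h2 : r + 2 - (i + 1) = j + 1 := by omega
    rw [h2] at h1
    have : (r + 2) * ((j + 1) * c i) = (r + 2) * (r + 1).choose (i + 1) := by
      rw [mul_comm _ (r + 2)] at h1
      rw [h1]; ring
    exact Nat.eq_of_mul_eq_mul_left (by omega) this
  refine ⟨∑ ij ∈ antidiagonal r, (c ij.1 : S) * (g ^ (ij.1 + 1) * h ^ (ij.2 + 1)), ?_⟩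
  have hterm : ∀ ij ∈ antidiagonal r, D ((c ij.1 : S) * (g ^ (ij.1 + 1) * h ^ (ij.2 + 1))) =
      (((r + 1).choose ij.1 : S) * g ^ ij.1 * h ^ (ij.2 + 1)) • D g +
      (((r + 1).choose (ij.1 + 1) : S) * g ^ (ij.1 + 1) * h ^ ij.2) • D h := by
    rintro ⟨i, j⟩ hij
    rw [HasAntidiagonal.mem_antidiagonal] at hij
    simp only
    rw [D.leibniz, D.map_natCast, smul_zero, add_zero, D.leibniz, D.leibniz_pow, D.leibniz_pow]
    simp only [Nat.add_sub_cancel]
    rw [← hc1 i j hij, ← hc2 i j hij]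
    rw [← Nat.cast_smul_eq_nsmul S (j + 1), ← Nat.cast_smul_eq_nsmul S (i + 1)]
    simp only [smul_add, smul_smul]
    rw [add_comm]
    congr 1
    · congr 1; push_cast; ring
    · congr 1; push_cast; ring
  rw [map_sum, Finset.sum_congr rfl hterm, Finset.sum_add_distrib, ← Finset.sum_smul,
    ← Finset.sum_smul, sum_choose_left, sum_choose_right]
  simp only [show r + 2 - 1 = r + 1 from rfl, map_add, smul_add, sub_smul]
  abel

end Qid

section Gen

variable {R S : Type u} [CommRing R] [CommRing S] [Algebra R S] (p : ℕ) [hp : Fact p.Prime]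
  [CharP R p]
  (c : R) (y : S) (hy : y ^ p = algebraMap R S c) (hsurj : ∀ s : S, ∃ q : R[X], aeval y q = s)
  {N : Type*} [AddCommGroup N] [Module R N]
  (T : Ω[S⁄R] →ₗ[R] N) (ω : N)
  (hT : ∀ i : ℕ, i + 2 ≤ p → T (y ^ i • KaehlerDifferential.D R S y) = 0)
  (hT' : T (y ^ (p - 1) • KaehlerDifferential.D R S y) = ω)

include hy hT hT' in
theorem T_pow (n : ℕ) : T (y ^ n • KaehlerDifferential.D R S y) =
    if n % p = p - 1 then c ^ (n / p) • ω else 0 := by
  have hn : y ^ n = algebraMap R S (c ^ (n / p)) * y ^ (n % p) := by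
    conv_lhs => rw [← Nat.div_add_mod n p]
    rw [pow_add, pow_mul, hy, map_pow]
  rw [hn, mul_smul, algebraMap_smul, map_smul]
  split_ifs with h
  · rw [h, hT']
  · have hlt : n % p < p := Nat.mod_lt _ hp.out.pos
    rw [hT (n % p) (by omega), smul_zero]

include hy hsurj hT hT' in
theorem T_D (s : S) : T (KaehlerDifferential.D R S s) = 0 := by
  obtain ⟨q, rfl⟩ := hsurj s
  rw [Derivation.map_aeval]
  induction q using Polynomial.induction_on' with
  | add q₁ q₂ h₁ h₂ => rw [derivative_add, map_add, add_smul, map_add, h₁, h₂, add_zero]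
  | monomial n r =>
    rw [derivative_monomial, aeval_monomial, mul_smul, algebraMap_smul, map_smul,
      T_pow p c y hy T ω hT hT']
    split_ifs with h
    · have hn : n ≠ 0 := by
        rintro rfl
        have := hp.out.two_le
        simp at h
        omega
      have hdvd : p ∣ n := by
        have h1 := Nat.div_add_mod (n - 1) p
        rw [h] at h1
        refine ⟨(n - 1) / p + 1, ?_⟩
        have := hp.out.two_le
        rw [mul_add, mul_one]
        omega
      have : (n : R) = 0 := (CharP.cast_eq_zero_iff R p n).2 hdvd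
      rw [this, mul_zero, zero_smul]
    · rw [smul_zero]

include hy hsurj hT hT' in
theorem psi_add (g h : S) :
    T ((g + h) ^ (p - 1) • KaehlerDifferential.D R S (g + h)) =
      T (g ^ (p - 1) • KaehlerDifferential.D R S g) +
        T (h ^ (p - 1) • KaehlerDifferential.D R S h) := by
  obtain ⟨Q, hQ⟩ := exists_Q (KaehlerDifferential.D R S) p hp.out g h
  rw [hQ, map_add, map_add, T_D p c y hy hsurj T ω hT hT', add_zero]

omit hp in
theorem natCast_eq_zero' (R : Type u) {S : Type u} [CommRing R] [CommRing S] [Algebra R S] (p : ℕ)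
    [CharP R p] : (p : S) = 0 := by
  rw [← map_natCast (algebraMap R S), CharP.cast_eq_zero, map_zero]

theorem add_pow_p (R : Type u) {S : Type u} [CommRing R] [CommRing S] [Algebra R S] (p : ℕ)
    [hp : Fact p.Prime] [CharP R p] (g h : S) : (g + h) ^ p = g ^ p + h ^ p := by
  obtain ⟨r, hr⟩ := exists_add_pow_prime_eq hp.out g h
  rw [hr, natCast_eq_zero' R p]
  ring

end Gen

section Gen2

variable {R S : Type u} [CommRing R] [CommRing S] [Algebra R S] (p : ℕ) [hp : Fact p.Prime]
  [CharP R p]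
  (c : R) (y : S) (hy : y ^ p = algebraMap R S c) (hsurj : ∀ s : S, ∃ q : R[X], aeval y q = s)
  (T : Ω[S⁄R] →ₗ[R] Ω[R⁄ℤ])
  (hT : ∀ i : ℕ, i + 2 ≤ p → T (y ^ i • KaehlerDifferential.D R S y) = 0)
  (hT' : T (y ^ (p - 1) • KaehlerDifferential.D R S y) = KaehlerDifferential.D ℤ R c)

include hy hsurj hT hT' in
theorem psi_eq (g : S) : ∃ r : R, algebraMap R S r = g ^ p ∧
    T (g ^ (p - 1) • KaehlerDifferential.D R S g) = KaehlerDifferential.D ℤ R r := by
  obtain ⟨q, rfl⟩ := hsurj g
  induction q using Polynomial.induction_on' with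
  | add q₁ q₂ h₁ h₂ =>
    obtain ⟨r₁, hr₁, ht₁⟩ := h₁
    obtain ⟨r₂, hr₂, ht₂⟩ := h₂
    refine ⟨r₁ + r₂, ?_, ?_⟩
    · rw [map_add, map_add, add_pow_p R p, hr₁, hr₂]
    · rw [map_add, psi_add p c y hy hsurj T _ hT hT', ht₁, ht₂, map_add]
  | monomial n r =>
    have hpR : ∀ z : Ω[R⁄ℤ], p • z = 0 := by
      intro z
      rw [← Nat.cast_smul_eq_nsmul R, CharP.cast_eq_zero, zero_smul]
    refine ⟨r ^ p * c ^ n, ?_, ?_⟩
    · rw [aeval_monomial, mul_pow, ← pow_mul, mul_comm n p, pow_mul, hy, map_mul, map_pow, map_pow]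
    · rw [aeval_monomial, Derivation.leibniz, Derivation.map_algebraMap, smul_zero, add_zero,
        Derivation.leibniz_pow, Derivation.leibniz, Derivation.leibniz_pow, Derivation.leibniz_pow,
        hpR, smul_zero, add_zero]
      have e1 : (algebraMap R S r * y ^ n) ^ (p - 1) •
          algebraMap R S r • n • y ^ (n - 1) • KaehlerDifferential.D R S y =
          (r ^ p * n) • (y ^ (n * (p - 1) + (n - 1)) • KaehlerDifferential.D R S y) := by
        rw [← Nat.cast_smul_eq_nsmul R n, ← algebraMap_smul S ((n : R)),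
          ← algebraMap_smul S (r ^ p * n), smul_smul, smul_smul, smul_smul, smul_smul]
        congr 1
        obtain ⟨q, hq⟩ : ∃ q, p = q + 1 := ⟨p - 1, by have := hp.out.pos; omega⟩
        rw [map_mul, map_pow, map_natCast, hq]
        simp only [Nat.add_sub_cancel]
        ring
      rw [e1, map_smul, T_pow p c y hy T _ hT hT']
      rcases Nat.eq_zero_or_pos n with rfl | hn
      · simp
      · have h1 : (n * (p - 1) + (n - 1)) = p * (n - 1) + (p - 1) := by
          obtain ⟨m, rfl⟩ : ∃ m, n = m + 1 := ⟨n - 1, by omega⟩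
          obtain ⟨q, hq⟩ : ∃ q, p = q + 1 := ⟨p - 1, by have := hp.out.pos; omega⟩
          rw [hq]; simp only [Nat.add_sub_cancel]; ring
        have h2 : (p * (n - 1) + (p - 1)) % p = p - 1 := by
          rw [Nat.mul_add_mod]
          exact Nat.mod_eq_of_lt (by have := hp.out.pos; omega)
        have h3 : (p * (n - 1) + (p - 1)) / p = n - 1 := by
          rw [Nat.mul_add_div hp.out.pos, Nat.div_eq_of_lt (by have := hp.out.pos; omega), add_zero]
        rw [h1, if_pos h2, h3, ← Nat.cast_smul_eq_nsmul R n, smul_smul, smul_smul, smul_smul]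

end Gen2

section Final

variable (p : ℕ) [hp : Fact p.Prime] (R : Type u) [CommRing R] [CharP R p] (c : R)

theorem root_pow : AdjoinRoot.root (X ^ p - C c : R[X]) ^ p =
    algebraMap R (AdjoinRoot (X ^ p - C c : R[X])) c := by
  have h := AdjoinRoot.eval₂_root (X ^ p - C c : R[X])
  rw [eval₂_sub, eval₂_pow, eval₂_X, eval₂_C, sub_eq_zero] at h
  rw [h, AdjoinRoot.algebraMap_eq]

theorem surj_aeval (s : AdjoinRoot (X ^ p - C c : R[X])) :
    ∃ q : R[X], aeval (AdjoinRoot.root (X ^ p - C c : R[X])) q = s := by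
  obtain ⟨q, rfl⟩ := AdjoinRoot.mk_surjective s
  exact ⟨q, AdjoinRoot.aeval_eq q⟩

theorem algebraMap_inj : Function.Injective (algebraMap R (AdjoinRoot (X ^ p - C c : R[X]))) := by
  intro r r' h
  rw [AdjoinRoot.algebraMap_eq] at h
  have h' : AdjoinRoot.mk (X ^ p - C c : R[X]) (C r) = AdjoinRoot.mk (X ^ p - C c : R[X]) (C r') := h
  rw [AdjoinRoot.mk_eq_mk] at h'
  have hnt : Nontrivial R := CharP.nontrivial_of_char_ne_one (R := R) hp.out.ne_one
  have hmon : (X ^ p - C c : R[X]).Monic := monic_X_pow_sub_C c hp.out.ne_zero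
  have hdeg : (C r - C r' : R[X]).degree < (X ^ p - C c : R[X]).degree := by
    rw [degree_X_pow_sub_C hp.out.pos, ← C_sub]
    exact lt_of_le_of_lt degree_C_le (by exact_mod_cast hp.out.pos)
  by_contra hne
  have h0 : (C r - C r' : R[X]) ≠ 0 := by
    rw [← C_sub, Ne, C_eq_zero, sub_eq_zero]
    exact hne
  exact hmon.not_dvd_of_degree_lt h0 hdeg h'

end Final


/-- Let p be a prime number and R an F_p-algebra, a, b ∈ R, S_a = R[x]/(x^p - a) and S_b = R[y]/(y^p -
b). The trace Tr_x : Ω_{S_a/R} → Ω_R is the R-linear map with x^i dx ↦ 0 for 0 ≤ i ≤ p - 2 and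
x^{p-1} dx ↦ da (these determine it, Ω_{S_a/R} being free over R on the x^i dx), and similarly Tr_y.
Then for every R-algebra homomorphism φ : S_a → S_b one has Tr_x = Tr_y ∘ φ_*: for all s, t ∈ S_a,
Tr_x(s dt) = Tr_y(φ(s) dφ(t)). Here Ω_R is the module of absolute differentials Ω_{R/Z}. -/
theorem result (p : ℕ) [Fact p.Prime] (R : Type u) [CommRing R] [CharP R p] (a b : R)
    (φ : AdjoinRoot (X ^ p - C a : R[X]) →ₐ[R] AdjoinRoot (X ^ p - C b : R[X]))
    (Tx : Ω[AdjoinRoot (X ^ p - C a : R[X])⁄R] →ₗ[R] Ω[R⁄ℤ])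
    (Ty : Ω[AdjoinRoot (X ^ p - C b : R[X])⁄R] →ₗ[R] Ω[R⁄ℤ])
    (hTx : ∀ i : ℕ, i + 2 ≤ p →
      Tx (AdjoinRoot.root (X ^ p - C a) ^ i • KaehlerDifferential.D R _ (AdjoinRoot.root (X ^ p - C a))) = 0)
    (hTx' : Tx (AdjoinRoot.root (X ^ p - C a) ^ (p - 1) • KaehlerDifferential.D R _ (AdjoinRoot.root (X ^ p - C a))) =
      KaehlerDifferential.D ℤ R a)
    (hTy : ∀ i : ℕ, i + 2 ≤ p →
      Ty (AdjoinRoot.root (X ^ p - C b) ^ i • KaehlerDifferential.D R _ (AdjoinRoot.root (X ^ p - C b))) = 0)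
    (hTy' : Ty (AdjoinRoot.root (X ^ p - C b) ^ (p - 1) • KaehlerDifferential.D R _ (AdjoinRoot.root (X ^ p - C b))) =
      KaehlerDifferential.D ℤ R b)
    (s t : AdjoinRoot (X ^ p - C a : R[X])) :
    Tx (s • KaehlerDifferential.D R _ t) = Ty (φ s • KaehlerDifferential.D R _ (φ t)) := by
  have hp : Fact p.Prime := inferInstance
  have hxp := root_pow p R a
  have hyp := root_pow p R b
  obtain ⟨g, hg⟩ : ∃ g, g = φ (AdjoinRoot.root (X ^ p - C a : R[X])) := ⟨_, rfl⟩
  have hgp : g ^ p = algebraMap R _ a := by rw [hg, ← map_pow, hxp, φ.commutes]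
  have claim0 : ∀ n : ℕ, Tx (AdjoinRoot.root (X ^ p - C a : R[X]) ^ n •
      KaehlerDifferential.D R _ (AdjoinRoot.root (X ^ p - C a : R[X]))) =
      Ty (g ^ n • KaehlerDifferential.D R _ g) := by
    intro n
    rw [T_pow p a _ hxp Tx _ hTx hTx']
    have hn : g ^ n = algebraMap R _ (a ^ (n / p)) * g ^ (n % p) := by
      conv_lhs => rw [← Nat.div_add_mod n p]
      rw [pow_add, pow_mul, hgp, map_pow]
    rw [hn, mul_smul, algebraMap_smul, map_smul]
    split_ifs with h
    · rw [h]
      obtain ⟨r, hr, hr'⟩ := psi_eq p b _ hyp (surj_aeval p R b) Ty hTy hTy' g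
      rw [hr']
      have : r = a := algebraMap_inj p R b (hr.trans hgp)
      rw [this]
    · have hlt : n % p < p := Nat.mod_lt _ hp.out.pos
      obtain ⟨m, hm⟩ : ∃ m, m = n % p := ⟨_, rfl⟩
      rw [← hm] at h hlt ⊢
      have hunit : IsUnit ((m + 1 : ℕ) : R) := (CharP.isUnit_natCast_iff hp.out).2 (by
        intro hdvd
        have := Nat.le_of_dvd (by omega) hdvd
        omega)
      obtain ⟨u, hu⟩ := hunit.exists_left_inv
      have e : g ^ m • KaehlerDifferential.D R _ g =
          u • KaehlerDifferential.D R _ (g ^ (m + 1)) := by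
        rw [Derivation.leibniz_pow, Nat.add_sub_cancel, ← Nat.cast_smul_eq_nsmul R, smul_smul, hu,
          one_smul]
      rw [e, map_smul, T_D p b _ hyp (surj_aeval p R b) Ty _ hTy hTy', smul_zero, smul_zero]
  have claim1 : ∀ s, Tx (s • KaehlerDifferential.D R _ (AdjoinRoot.root (X ^ p - C a : R[X]))) =
      Ty (φ s • KaehlerDifferential.D R _ g) := by
    intro s
    obtain ⟨q, rfl⟩ := surj_aeval p R a s
    induction q using Polynomial.induction_on' with
    | add q₁ q₂ h₁ h₂ => rw [map_add, map_add, add_smul, add_smul, map_add, map_add, h₁, h₂]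
    | monomial n r =>
      rw [aeval_monomial, map_mul, map_pow, φ.commutes, ← hg, mul_smul, mul_smul, algebraMap_smul,
        algebraMap_smul, LinearMap.map_smul Tx r, LinearMap.map_smul Ty r, claim0 n]
  obtain ⟨q, rfl⟩ := surj_aeval p R a t
  have e1 : KaehlerDifferential.D R _ (aeval (AdjoinRoot.root (X ^ p - C a : R[X])) q) =
      aeval (AdjoinRoot.root (X ^ p - C a : R[X])) (derivative q) •
        KaehlerDifferential.D R _ (AdjoinRoot.root (X ^ p - C a : R[X])) :=
    Derivation.map_aeval _ q _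
  have e2 : φ (aeval (AdjoinRoot.root (X ^ p - C a : R[X])) q) = aeval g q := by
    rw [hg]; exact (Polynomial.aeval_algHom_apply φ _ q).symm
  have e3 : KaehlerDifferential.D R _ (aeval g q) =
      aeval g (derivative q) • KaehlerDifferential.D R _ g := Derivation.map_aeval _ q g
  have e4 : aeval g (derivative q) =
      φ (aeval (AdjoinRoot.root (X ^ p - C a : R[X])) (derivative q)) := by
    rw [hg]; exact Polynomial.aeval_algHom_apply φ _ _
  rw [e1, e2, e3, e4, smul_smul, smul_smul, ← map_mul]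
  exact claim1 _

end Groth.Agent.S7340
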