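import Groth.Statements.S7341
import Groth.Agent.Lib.Helper11Cfg

set_option autoImplicit false
open Finset
open Models Models.NumericalType

namespace Groth.Agent.S7341

open Groth.Agent.Lib.Helper11

theorem aux {n : ℕ} (T : Models.NumericalType n) (hn : 3 < n) (v : Fin 3 ↪ Fin n)
    (hv : ∀ j, T.IsMinusTwo (v j)) (h01 : T.a (v 0) (v 1) ≠ 0) (h12 : T.a (v 1) (v 2) ≠ 0) :
    T.a (v 0) (v 2) = 0 ∧ ∃ (i' k' : Fin n) (w : ℤ), ((i' = v 0 ∧ k' = v 2) ∨ (i' = v 2 ∧ k' = v 0)) ∧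
      ((T.w i' = w ∧ T.w (v 1) = w ∧ T.w k' = w ∧ T.a i' (v 1) = w ∧ T.a (v 1) k' = w ∧
          T.m (v 1) ≤ 2 * T.m i' ∧ T.m i' + T.m k' ≤ 2 * T.m (v 1) ∧ T.m (v 1) ≤ 2 * T.m k') ∨
        (T.w i' = w ∧ T.w (v 1) = w ∧ T.w k' = 2 * w ∧ T.a i' (v 1) = w ∧ T.a (v 1) k' = 2 * w ∧
          T.m (v 1) ≤ 2 * T.m i' ∧ T.m i' + 2 * T.m k' ≤ 2 * T.m (v 1) ∧ T.m (v 1) ≤ 2 * T.m k') ∨
        (T.w i' = 2 * w ∧ T.w (v 1) = 2 * w ∧ T.w k' = w ∧ T.a i' (v 1) = 2 * w ∧ T.a (v 1) k' = 2 * w ∧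
          T.m (v 1) ≤ 2 * T.m i' ∧ T.m i' + T.m k' ≤ 2 * T.m (v 1) ∧ T.m (v 1) ≤ T.m k')) := by
  have e_0_1 : 1 ≤ kk T (v 0) (v 1) := K_pos T v (p := 0) (q := 1) (by decide) h01
  have e_1_0 : 1 ≤ kk T (v 1) (v 0) := K_pos' T v (p := 0) (q := 1) (by decide) h01
  have e_1_2 : 1 ≤ kk T (v 1) (v 2) := K_pos T v (p := 1) (q := 2) (by decide) h12
  have e_2_1 : 1 ≤ kk T (v 2) (v 1) := K_pos' T v (p := 1) (q := 2) (by decide) h12
  have n_0_2 : 0 ≤ kk T (v 0) (v 2) := K_nonneg T v (p := 0) (q := 2) (by decide)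
  have n_2_0 : 0 ≤ kk T (v 2) (v 0) := K_nonneg T v (p := 2) (q := 0) (by decide)
  have z_0_2 : kk T (v 0) (v 2) = 0 := by
    by_contra hcon
    have h1 : 1 ≤ kk T (v 0) (v 2) := by omega
    have h2 : 1 ≤ kk T (v 2) (v 0) := K_symm_pos T v (p := 0) (q := 2) (by decide) h1
    exact refute3 T v hv hn 1 1 1 (by norm_num) (by norm_num) (by norm_num) (by norm_num) (fun _ => by omega) (fun _ => by omega) (fun _ => by omega)
  have z_2_0 : kk T (v 2) (v 0) = 0 := K_symm_zero T z_0_2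
  have a_0_2 : T.a (v 0) (v 2) = 0 := a_of_K_zero T z_0_2
  have u_0_1 : kk T (v 0) (v 1) ≤ 2 := by
    by_contra hcon
    have hcon' : 3 ≤ kk T (v 0) (v 1) := by omega
    exact refute3 T v hv hn 3 2 1 (by norm_num) (by norm_num) (by norm_num) (by norm_num) (fun _ => by omega) (fun _ => by omega) (fun _ => by omega)
  have u_1_0 : kk T (v 1) (v 0) ≤ 2 := by
    by_contra hcon
    have hcon' : 3 ≤ kk T (v 1) (v 0) := by omega
    exact refute3 T v hv hn 1 2 1 (by norm_num) (by norm_num) (by norm_num) (by norm_num) (fun _ => by omega) (fun _ => by omega) (fun _ => by omega)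
  have u_1_2 : kk T (v 1) (v 2) ≤ 2 := by
    by_contra hcon
    have hcon' : 3 ≤ kk T (v 1) (v 2) := by omega
    exact refute3 T v hv hn 1 2 1 (by norm_num) (by norm_num) (by norm_num) (by norm_num) (fun _ => by omega) (fun _ => by omega) (fun _ => by omega)
  have u_2_1 : kk T (v 2) (v 1) ≤ 2 := by
    by_contra hcon
    have hcon' : 3 ≤ kk T (v 2) (v 1) := by omega
    exact refute3 T v hv hn 1 2 3 (by norm_num) (by norm_num) (by norm_num) (by norm_num) (fun _ => by omega) (fun _ => by omega) (fun _ => by omega)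
  have b_1_2_2_1 : ¬ (2 ≤ kk T (v 1) (v 2) ∧ 2 ≤ kk T (v 2) (v 1)) := by
    rintro ⟨hc1, hc2⟩
    exact refute3 T v hv hn 0 1 1 (by norm_num) (by norm_num) (by norm_num) (by norm_num) (fun _ => by omega) (fun _ => by omega) (fun _ => by omega)
  have b_1_2_1_0 : ¬ (2 ≤ kk T (v 1) (v 2) ∧ 2 ≤ kk T (v 1) (v 0)) := by
    rintro ⟨hc1, hc2⟩
    exact refute3 T v hv hn 1 2 1 (by norm_num) (by norm_num) (by norm_num) (by norm_num) (fun _ => by omega) (fun _ => by omega) (fun _ => by omega)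
  have b_1_2_0_1 : ¬ (2 ≤ kk T (v 1) (v 2) ∧ 2 ≤ kk T (v 0) (v 1)) := by
    rintro ⟨hc1, hc2⟩
    exact refute3 T v hv hn 2 2 1 (by norm_num) (by norm_num) (by norm_num) (by norm_num) (fun _ => by omega) (fun _ => by omega) (fun _ => by omega)
  have b_2_1_1_0 : ¬ (2 ≤ kk T (v 2) (v 1) ∧ 2 ≤ kk T (v 1) (v 0)) := by
    rintro ⟨hc1, hc2⟩
    exact refute3 T v hv hn 1 2 2 (by norm_num) (by norm_num) (by norm_num) (by norm_num) (fun _ => by omega) (fun _ => by omega) (fun _ => by omega)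
  have b_2_1_0_1 : ¬ (2 ≤ kk T (v 2) (v 1) ∧ 2 ≤ kk T (v 0) (v 1)) := by
    rintro ⟨hc1, hc2⟩
    exact refute3 T v hv hn 1 1 1 (by norm_num) (by norm_num) (by norm_num) (by norm_num) (fun _ => by omega) (fun _ => by omega) (fun _ => by omega)
  have b_1_0_0_1 : ¬ (2 ≤ kk T (v 1) (v 0) ∧ 2 ≤ kk T (v 0) (v 1)) := by
    rintro ⟨hc1, hc2⟩
    exact refute3 T v hv hn 1 1 0 (by norm_num) (by norm_num) (by norm_num) (by norm_num) (fun _ => by omega) (fun _ => by omega) (fun _ => by omega)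
  have km_0_1 := K_mul T (v 0) (v 1)
  have ae_0_1 := a_eq_kk T (v 0) (v 1)
  have ae_1_0 := a_eq_kk T (v 1) (v 0)
  have km_1_2 := K_mul T (v 1) (v 2)
  have ae_1_2 := a_eq_kk T (v 1) (v 2)
  have ae_2_1 := a_eq_kk T (v 2) (v 1)
  have d_0 : kk T (v 0) (v 0) = -2 := kk_minusTwo T (hv 0)
  have m_0 := mrow3 T v 0
  rw [d_0, z_0_2] at m_0
  have d_1 : kk T (v 1) (v 1) = -2 := kk_minusTwo T (hv 1)
  have m_1 := mrow3 T v 1
  rw [d_1] at m_1
  have d_2 : kk T (v 2) (v 2) = -2 := kk_minusTwo T (hv 2)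
  have m_2 := mrow3 T v 2
  rw [z_2_0, d_2] at m_2
  have rev_0 : Fin.rev (0 : Fin 3) = 2 := by decide
  have rev_1 : Fin.rev (1 : Fin 3) = 1 := by decide
  have rev_2 : Fin.rev (2 : Fin 3) = 0 := by decide
  refine ⟨a_0_2, ?_⟩
  by_cases c_0 : 2 ≤ kk T (v 1) (v 2)
  · have hk_1_2 : kk T (v 1) (v 2) = 2 := by omega
    have hk_0_1 : kk T (v 0) (v 1) = 1 := by
      have hle : kk T (v 0) (v 1) ≤ 1 := by
        by_contra hcon
        exact b_1_2_0_1 ⟨c_0, by omega⟩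
      omega
    have hk_1_0 : kk T (v 1) (v 0) = 1 := by
      have hle : kk T (v 1) (v 0) ≤ 1 := by
        by_contra hcon
        exact b_1_2_1_0 ⟨c_0, by omega⟩
      omega
    have hk_2_1 : kk T (v 2) (v 1) = 1 := by
      have hle : kk T (v 2) (v 1) ≤ 1 := by
        by_contra hcon
        exact b_1_2_2_1 ⟨c_0, by omega⟩
      omega
    simp only [hk_0_1, hk_1_0, hk_1_2, hk_2_1] at km_0_1 ae_0_1 ae_1_0 km_1_2 ae_1_2 ae_2_1 m_0 m_1 m_2
    refine ⟨v 0, v 2, T.w (v 0), Or.inl ⟨rfl, rfl⟩, Or.inr (Or.inl ?_)⟩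
    and_intros <;> first | trivial | linarith
  · skip
    by_cases c_1 : 2 ≤ kk T (v 2) (v 1)
    · have hk_2_1 : kk T (v 2) (v 1) = 2 := by omega
      have hk_0_1 : kk T (v 0) (v 1) = 1 := by
        have hle : kk T (v 0) (v 1) ≤ 1 := by
          by_contra hcon
          exact b_2_1_0_1 ⟨c_1, by omega⟩
        omega
      have hk_1_0 : kk T (v 1) (v 0) = 1 := by
        have hle : kk T (v 1) (v 0) ≤ 1 := by
          by_contra hcon
          exact b_2_1_1_0 ⟨c_1, by omega⟩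
        omega
      have hk_1_2 : kk T (v 1) (v 2) = 1 := by omega
      simp only [hk_0_1, hk_1_0, hk_1_2, hk_2_1] at km_0_1 ae_0_1 ae_1_0 km_1_2 ae_1_2 ae_2_1 m_0 m_1 m_2
      refine ⟨v 0, v 2, T.w (v 2), Or.inl ⟨rfl, rfl⟩, Or.inr (Or.inr ?_)⟩
      and_intros <;> first | trivial | linarith
    · skip
      by_cases c_2 : 2 ≤ kk T (v 1) (v 0)
      · have hk_1_0 : kk T (v 1) (v 0) = 2 := by omega
        have hk_0_1 : kk T (v 0) (v 1) = 1 := by
          have hle : kk T (v 0) (v 1) ≤ 1 := by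
            by_contra hcon
            exact b_1_0_0_1 ⟨c_2, by omega⟩
          omega
        have hk_1_2 : kk T (v 1) (v 2) = 1 := by omega
        have hk_2_1 : kk T (v 2) (v 1) = 1 := by omega
        simp only [hk_0_1, hk_1_0, hk_1_2, hk_2_1] at km_0_1 ae_0_1 ae_1_0 km_1_2 ae_1_2 ae_2_1 m_0 m_1 m_2
        refine ⟨v 2, v 0, T.w (v 2), Or.inr ⟨rfl, rfl⟩, Or.inr (Or.inl ?_)⟩
        and_intros <;> first | trivial | linarith
      · skip
        by_cases c_3 : 2 ≤ kk T (v 0) (v 1)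
        · have hk_0_1 : kk T (v 0) (v 1) = 2 := by omega
          have hk_1_0 : kk T (v 1) (v 0) = 1 := by omega
          have hk_1_2 : kk T (v 1) (v 2) = 1 := by omega
          have hk_2_1 : kk T (v 2) (v 1) = 1 := by omega
          simp only [hk_0_1, hk_1_0, hk_1_2, hk_2_1] at km_0_1 ae_0_1 ae_1_0 km_1_2 ae_1_2 ae_2_1 m_0 m_1 m_2
          refine ⟨v 2, v 0, T.w (v 0), Or.inr ⟨rfl, rfl⟩, Or.inr (Or.inr ?_)⟩
          and_intros <;> first | trivial | linarith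
        · skip
          have hk_0_1 : kk T (v 0) (v 1) = 1 := by omega
          have hk_1_0 : kk T (v 1) (v 0) = 1 := by omega
          have hk_1_2 : kk T (v 1) (v 2) = 1 := by omega
          have hk_2_1 : kk T (v 2) (v 1) = 1 := by omega
          simp only [hk_0_1, hk_1_0, hk_1_2, hk_2_1] at km_0_1 ae_0_1 ae_1_0 km_1_2 ae_1_2 ae_2_1 m_0 m_1 m_2
          refine ⟨v 0, v 2, T.w (v 0), Or.inl ⟨rfl, rfl⟩, Or.inl ?_⟩
          and_intros <;> first | trivial | linarith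

/-- the embedding of three distinct indices -/
def emb3 {n : ℕ} (i j k : Fin n) (hij : i ≠ j) (hjk : j ≠ k) (hik : i ≠ k) : Fin 3 ↪ Fin n :=
  ⟨![i, j, k], by
    intro a b hab
    fin_cases a <;> fin_cases b <;> simp_all⟩


/-- Classification of proper subgraphs which are chains of three vertices: let T be a numerical type on
n > 3 indices and i, j, k distinct (-2)-indices with a_ij > 0 and a_jk > 0. Then a_ik = 0 and, up to
reversing the order of i, j, k, one of the following holds for some integer w: (A3) w_i = w_j = w_k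
= w, a_ij = a_jk = w, with 2 m_i ≥ m_j, 2 m_j ≥ m_i + m_k, 2 m_k ≥ m_j; (C3) w_i = w_j = w, w_k =
2w, a_ij = w, a_jk = 2w, with 2 m_i ≥ m_j, 2 m_j ≥ m_i + 2 m_k, 2 m_k ≥ m_j; (B3) w_i = w_j = 2w,
w_k = w, a_ij = a_jk = 2w, with 2 m_i ≥ m_j, 2 m_j ≥ m_i + m_k, m_k ≥ m_j. -/
theorem result {n : ℕ} (T : Models.NumericalType n) (hn : 3 < n) (i j k : Fin n)
    (hij : i ≠ j) (hjk : j ≠ k) (hik : i ≠ k) (hi : T.IsMinusTwo i) (hj : T.IsMinusTwo j) (hk : T.IsMinusTwo k)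
    (h1 : 0 < T.a i j) (h2 : 0 < T.a j k) :
    T.a i k = 0 ∧ ∃ (i' k' : Fin n) (w : ℤ), ((i' = i ∧ k' = k) ∨ (i' = k ∧ k' = i)) ∧
      ((T.w i' = w ∧ T.w j = w ∧ T.w k' = w ∧ T.a i' j = w ∧ T.a j k' = w ∧
          T.m j ≤ 2 * T.m i' ∧ T.m i' + T.m k' ≤ 2 * T.m j ∧ T.m j ≤ 2 * T.m k') ∨
        (T.w i' = w ∧ T.w j = w ∧ T.w k' = 2 * w ∧ T.a i' j = w ∧ T.a j k' = 2 * w ∧
          T.m j ≤ 2 * T.m i' ∧ T.m i' + 2 * T.m k' ≤ 2 * T.m j ∧ T.m j ≤ 2 * T.m k') ∨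
        (T.w i' = 2 * w ∧ T.w j = 2 * w ∧ T.w k' = w ∧ T.a i' j = 2 * w ∧ T.a j k' = 2 * w ∧
          T.m j ≤ 2 * T.m i' ∧ T.m i' + T.m k' ≤ 2 * T.m j ∧ T.m j ≤ T.m k')) := by
  have hv : ∀ p, T.IsMinusTwo (emb3 i j k hij hjk hik p) := by
    intro p
    fin_cases p
    · exact hi
    · exact hj
    · exact hk
  exact aux T hn (emb3 i j k hij hjk hik) hv h1.ne' h2.ne'

end Groth.Agent.S7341
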