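import Groth.Statements.S7342
import Groth.Agent.Lib.Helper11Gen

set_option autoImplicit false
open Finset
open Models Models.NumericalType

namespace Groth.Agent.S7342

open Groth.Agent.Lib.Helper11

/-- Let T be a numerical type on n indices, t ≥ 4 and n > t + 2. Then no t + 2 (-2)-indices of T,
pairwise distinct and numbered i_0, …, i_{t+1}, satisfy: a_{i_j i_{j+1}} > 0 for 1 ≤ j ≤ t - 1,
a_{i_0 i_2} > 0 and a_{i_{t-1} i_{t+1}} > 0. -/
theorem result {n : ℕ} (T : Models.NumericalType n) (t : ℕ) (ht : 4 ≤ t) (hn : t + 2 < n)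
    (v : Fin (t + 2) ↪ Fin n) (hv : ∀ j, T.IsMinusTwo (v j))
    (hchain : ∀ j j' : Fin (t + 2), 1 ≤ j.val → j.val + 1 ≤ t → j'.val = j.val + 1 → 0 < T.a (v j) (v j'))
    (h02 : ∀ j j' : Fin (t + 2), j.val = 0 → j'.val = 2 → 0 < T.a (v j) (v j'))
    (hlast : ∀ j j' : Fin (t + 2), j.val = t - 1 → j'.val = t + 1 → 0 < T.a (v j) (v j')) : False := by
  have hK : ∀ p q : Fin (t + 2), p ≠ q → 0 < T.a (v p) (v q) →
      1 ≤ kk T (v p) (v q) ∧ 1 ≤ kk T (v q) (v p) :=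
    fun p q h ha => ⟨K_pos T v h ha.ne', K_pos' T v h ha.ne'⟩
  let c : Fin (t + 2) → ℤ :=
    fun p => if p.val = 0 ∨ p.val = 1 ∨ p.val = t ∨ p.val = t + 1 then 1 else 2
  have hc1 : ∀ p : Fin (t + 2), (p.val = 0 ∨ p.val = 1 ∨ p.val = t ∨ p.val = t + 1) → c p = 1 :=
    fun p h => if_pos h
  have hc2 : ∀ p : Fin (t + 2), ¬ (p.val = 0 ∨ p.val = 1 ∨ p.val = t ∨ p.val = t + 1) → c p = 2 :=
    fun p h => if_neg h
  have hc0 : ∀ p, 0 ≤ c p := by
    intro p
    by_cases h : p.val = 0 ∨ p.val = 1 ∨ p.val = t ∨ p.val = t + 1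
    · rw [hc1 p h]; norm_num
    · rw [hc2 p h]; norm_num
  have hne : ∀ p q : Fin (t + 2), p.val ≠ q.val → p ≠ q := fun p q h h' => h (by rw [h'])
  refine no_subharmonic T v hn c hc0 ⟨⟨0, by omega⟩, by rw [hc1 _ (Or.inl rfl)]; norm_num⟩ ?_
  intro p _
  have hp := p.isLt
  by_cases h0 : p.val = 0
  · -- the leaf 0, attached to 2
    have hq : (2 : ℕ) < t + 2 := by omega
    have hpq : p ≠ ⟨2, hq⟩ := hne _ _ (by simp only; omega)
    have hk := (hK p ⟨2, hq⟩ hpq (h02 p ⟨2, hq⟩ h0 rfl)).1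
    have hrow := row_ge_one T v hv c hc0 p ⟨2, hq⟩ hpq
    rw [hc1 p (Or.inl h0), hc2 ⟨2, hq⟩ (by simp only; omega)] at hrow
    linarith
  by_cases h1 : p.val = 1
  · -- the leaf 1, attached to 2
    have hq : (2 : ℕ) < t + 2 := by omega
    have hpq : p ≠ ⟨2, hq⟩ := hne _ _ (by simp only; omega)
    have hk := (hK p ⟨2, hq⟩ hpq (hchain p ⟨2, hq⟩ (by omega) (by omega) (by simp only; omega))).1
    have hrow := row_ge_one T v hv c hc0 p ⟨2, hq⟩ hpq
    rw [hc1 p (Or.inr (Or.inl h1)), hc2 ⟨2, hq⟩ (by simp only; omega)] at hrow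
    linarith
  by_cases ht0 : p.val = t
  · -- the leaf t, attached to t - 1
    have hq : t - 1 < t + 2 := by omega
    have hpq : p ≠ ⟨t - 1, hq⟩ := hne _ _ (by simp only; omega)
    have hk := (hK ⟨t - 1, hq⟩ p hpq.symm
      (hchain ⟨t - 1, hq⟩ p (by simp only; omega) (by simp only; omega) (by simp only; omega))).2
    have hrow := row_ge_one T v hv c hc0 p ⟨t - 1, hq⟩ hpq
    rw [hc1 p (Or.inr (Or.inr (Or.inl ht0))), hc2 ⟨t - 1, hq⟩ (by simp only; omega)] at hrow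
    linarith
  by_cases ht1 : p.val = t + 1
  · -- the leaf t + 1, attached to t - 1
    have hq : t - 1 < t + 2 := by omega
    have hpq : p ≠ ⟨t - 1, hq⟩ := hne _ _ (by simp only; omega)
    have hk := (hK ⟨t - 1, hq⟩ p hpq.symm (hlast ⟨t - 1, hq⟩ p rfl ht1)).2
    have hrow := row_ge_one T v hv c hc0 p ⟨t - 1, hq⟩ hpq
    rw [hc1 p (Or.inr (Or.inr (Or.inr ht1))), hc2 ⟨t - 1, hq⟩ (by simp only; omega)] at hrow
    linarith
  have hcp : c p = 2 := hc2 p (by omega)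
  by_cases h2 : p.val = 2
  · -- the fork vertex 2 with neighbours 0, 1, 3
    have hq0 : (0 : ℕ) < t + 2 := by omega
    have hq1 : (1 : ℕ) < t + 2 := by omega
    have hq3 : (3 : ℕ) < t + 2 := by omega
    have n0 : p ≠ ⟨0, hq0⟩ := hne _ _ (by simp only; omega)
    have n1 : p ≠ ⟨1, hq1⟩ := hne _ _ (by simp only; omega)
    have n3 : p ≠ ⟨3, hq3⟩ := hne _ _ (by simp only; omega)
    have k0 := (hK ⟨0, hq0⟩ p n0.symm (h02 ⟨0, hq0⟩ p rfl h2)).2
    have k1 := (hK ⟨1, hq1⟩ p n1.symm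
      (hchain ⟨1, hq1⟩ p (by simp only; omega) (by simp only; omega) (by simp only; omega))).2
    have k3 := (hK p ⟨3, hq3⟩ n3
      (hchain p ⟨3, hq3⟩ (by omega) (by omega) (by simp only; omega))).1
    have hrow := row_ge_three T v hv c hc0 p ⟨0, hq0⟩ ⟨1, hq1⟩ ⟨3, hq3⟩ n0 n1 n3
      (hne _ _ (by simp only; omega)) (hne _ _ (by simp only; omega)) (hne _ _ (by simp only; omega))
    rw [hcp, hc1 ⟨0, hq0⟩ (Or.inl rfl), hc1 ⟨1, hq1⟩ (Or.inr (Or.inl rfl)),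
      hc2 ⟨3, hq3⟩ (by simp only; omega)] at hrow
    linarith
  by_cases h3 : p.val = t - 1
  · -- the fork vertex t - 1 with neighbours t - 2, t, t + 1
    have hqa : t - 2 < t + 2 := by omega
    have hqb : t < t + 2 := by omega
    have hqc : t + 1 < t + 2 := by omega
    have na : p ≠ ⟨t - 2, hqa⟩ := hne _ _ (by simp only; omega)
    have nb : p ≠ ⟨t, hqb⟩ := hne _ _ (by simp only; omega)
    have nc : p ≠ ⟨t + 1, hqc⟩ := hne _ _ (by simp only; omega)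
    have ka := (hK ⟨t - 2, hqa⟩ p na.symm
      (hchain ⟨t - 2, hqa⟩ p (by simp only; omega) (by simp only; omega) (by simp only; omega))).2
    have kb := (hK p ⟨t, hqb⟩ nb
      (hchain p ⟨t, hqb⟩ (by omega) (by omega) (by simp only; omega))).1
    have kc := (hK p ⟨t + 1, hqc⟩ nc (hlast p ⟨t + 1, hqc⟩ h3 rfl)).1
    have hrow := row_ge_three T v hv c hc0 p ⟨t - 2, hqa⟩ ⟨t, hqb⟩ ⟨t + 1, hqc⟩ na nb nc
      (hne _ _ (by simp only; omega)) (hne _ _ (by simp only; omega)) (hne _ _ (by simp only; omega))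
    rw [hcp, hc2 ⟨t - 2, hqa⟩ (by simp only; omega), hc1 ⟨t, hqb⟩ (Or.inr (Or.inr (Or.inl rfl))),
      hc1 ⟨t + 1, hqc⟩ (Or.inr (Or.inr (Or.inr rfl)))] at hrow
    linarith
  -- interior vertex of the chain, neighbours p - 1 and p + 1
  have hqa : p.val - 1 < t + 2 := by omega
  have hqb : p.val + 1 < t + 2 := by omega
  have na : p ≠ ⟨p.val - 1, hqa⟩ := hne _ _ (by simp only; omega)
  have nb : p ≠ ⟨p.val + 1, hqb⟩ := hne _ _ (by simp only; omega)
  have ka := (hK ⟨p.val - 1, hqa⟩ p na.symm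
    (hchain ⟨p.val - 1, hqa⟩ p (by simp only; omega) (by simp only; omega) (by simp only; omega))).2
  have kb := (hK p ⟨p.val + 1, hqb⟩ nb
    (hchain p ⟨p.val + 1, hqb⟩ (by omega) (by omega) (by simp only))).1
  have hrow := row_ge_two T v hv c hc0 p ⟨p.val - 1, hqa⟩ ⟨p.val + 1, hqb⟩ na nb
    (hne _ _ (by simp only; omega))
  rw [hcp, hc2 ⟨p.val - 1, hqa⟩ (by simp only; omega),
    hc2 ⟨p.val + 1, hqb⟩ (by simp only; omega)] at hrow
  linarith

end Groth.Agent.S7342
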