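import Groth.Statements.S7344
import Groth.Agent.Lib.Helper11Cfg

set_option autoImplicit false
open Finset
open Models Models.NumericalType

namespace Groth.Agent.S7344

open Groth.Agent.Lib.Helper11

/-- Let T be a numerical type on n > 8 indices. Then no eight (-2)-indices of T, pairwise distinct and
named e, f, g, h, i, j, k, l, have a_ef, a_fg, a_gh, a_hi, a_ij, a_jk and a_lh all nonzero (a chain
of seven, e to k, with l joined to its fourth vertex h). -/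
theorem result {n : ℕ} (T : Models.NumericalType n) (hn : 8 < n)
    (v : Fin 8 ↪ Fin n) (hv : ∀ j, T.IsMinusTwo (v j))
    (h01 : T.a (v 0) (v 1) ≠ 0) (h12 : T.a (v 1) (v 2) ≠ 0) (h23 : T.a (v 2) (v 3) ≠ 0)
    (h34 : T.a (v 3) (v 4) ≠ 0) (h45 : T.a (v 4) (v 5) ≠ 0) (h56 : T.a (v 5) (v 6) ≠ 0)
    (h73 : T.a (v 7) (v 3) ≠ 0) : False := by
  have e_0_1 : 1 ≤ kk T (v 0) (v 1) := K_pos T v (p := 0) (q := 1) (by decide) h01
  have e_1_0 : 1 ≤ kk T (v 1) (v 0) := K_pos' T v (p := 0) (q := 1) (by decide) h01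
  have e_1_2 : 1 ≤ kk T (v 1) (v 2) := K_pos T v (p := 1) (q := 2) (by decide) h12
  have e_2_1 : 1 ≤ kk T (v 2) (v 1) := K_pos' T v (p := 1) (q := 2) (by decide) h12
  have e_2_3 : 1 ≤ kk T (v 2) (v 3) := K_pos T v (p := 2) (q := 3) (by decide) h23
  have e_3_2 : 1 ≤ kk T (v 3) (v 2) := K_pos' T v (p := 2) (q := 3) (by decide) h23
  have e_3_4 : 1 ≤ kk T (v 3) (v 4) := K_pos T v (p := 3) (q := 4) (by decide) h34
  have e_4_3 : 1 ≤ kk T (v 4) (v 3) := K_pos' T v (p := 3) (q := 4) (by decide) h34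
  have e_4_5 : 1 ≤ kk T (v 4) (v 5) := K_pos T v (p := 4) (q := 5) (by decide) h45
  have e_5_4 : 1 ≤ kk T (v 5) (v 4) := K_pos' T v (p := 4) (q := 5) (by decide) h45
  have e_5_6 : 1 ≤ kk T (v 5) (v 6) := K_pos T v (p := 5) (q := 6) (by decide) h56
  have e_6_5 : 1 ≤ kk T (v 6) (v 5) := K_pos' T v (p := 5) (q := 6) (by decide) h56
  have e_7_3 : 1 ≤ kk T (v 7) (v 3) := K_pos T v (p := 7) (q := 3) (by decide) h73
  have e_3_7 : 1 ≤ kk T (v 3) (v 7) := K_pos' T v (p := 7) (q := 3) (by decide) h73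
  have n_0_2 : 0 ≤ kk T (v 0) (v 2) := K_nonneg T v (p := 0) (q := 2) (by decide)
  have n_0_3 : 0 ≤ kk T (v 0) (v 3) := K_nonneg T v (p := 0) (q := 3) (by decide)
  have n_0_4 : 0 ≤ kk T (v 0) (v 4) := K_nonneg T v (p := 0) (q := 4) (by decide)
  have n_0_5 : 0 ≤ kk T (v 0) (v 5) := K_nonneg T v (p := 0) (q := 5) (by decide)
  have n_0_6 : 0 ≤ kk T (v 0) (v 6) := K_nonneg T v (p := 0) (q := 6) (by decide)
  have n_0_7 : 0 ≤ kk T (v 0) (v 7) := K_nonneg T v (p := 0) (q := 7) (by decide)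
  have n_1_3 : 0 ≤ kk T (v 1) (v 3) := K_nonneg T v (p := 1) (q := 3) (by decide)
  have n_1_4 : 0 ≤ kk T (v 1) (v 4) := K_nonneg T v (p := 1) (q := 4) (by decide)
  have n_1_5 : 0 ≤ kk T (v 1) (v 5) := K_nonneg T v (p := 1) (q := 5) (by decide)
  have n_1_6 : 0 ≤ kk T (v 1) (v 6) := K_nonneg T v (p := 1) (q := 6) (by decide)
  have n_1_7 : 0 ≤ kk T (v 1) (v 7) := K_nonneg T v (p := 1) (q := 7) (by decide)
  have n_2_0 : 0 ≤ kk T (v 2) (v 0) := K_nonneg T v (p := 2) (q := 0) (by decide)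
  have n_2_4 : 0 ≤ kk T (v 2) (v 4) := K_nonneg T v (p := 2) (q := 4) (by decide)
  have n_2_5 : 0 ≤ kk T (v 2) (v 5) := K_nonneg T v (p := 2) (q := 5) (by decide)
  have n_2_6 : 0 ≤ kk T (v 2) (v 6) := K_nonneg T v (p := 2) (q := 6) (by decide)
  have n_2_7 : 0 ≤ kk T (v 2) (v 7) := K_nonneg T v (p := 2) (q := 7) (by decide)
  have n_3_0 : 0 ≤ kk T (v 3) (v 0) := K_nonneg T v (p := 3) (q := 0) (by decide)
  have n_3_1 : 0 ≤ kk T (v 3) (v 1) := K_nonneg T v (p := 3) (q := 1) (by decide)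
  have n_3_5 : 0 ≤ kk T (v 3) (v 5) := K_nonneg T v (p := 3) (q := 5) (by decide)
  have n_3_6 : 0 ≤ kk T (v 3) (v 6) := K_nonneg T v (p := 3) (q := 6) (by decide)
  have n_4_0 : 0 ≤ kk T (v 4) (v 0) := K_nonneg T v (p := 4) (q := 0) (by decide)
  have n_4_1 : 0 ≤ kk T (v 4) (v 1) := K_nonneg T v (p := 4) (q := 1) (by decide)
  have n_4_2 : 0 ≤ kk T (v 4) (v 2) := K_nonneg T v (p := 4) (q := 2) (by decide)
  have n_4_6 : 0 ≤ kk T (v 4) (v 6) := K_nonneg T v (p := 4) (q := 6) (by decide)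
  have n_4_7 : 0 ≤ kk T (v 4) (v 7) := K_nonneg T v (p := 4) (q := 7) (by decide)
  have n_5_0 : 0 ≤ kk T (v 5) (v 0) := K_nonneg T v (p := 5) (q := 0) (by decide)
  have n_5_1 : 0 ≤ kk T (v 5) (v 1) := K_nonneg T v (p := 5) (q := 1) (by decide)
  have n_5_2 : 0 ≤ kk T (v 5) (v 2) := K_nonneg T v (p := 5) (q := 2) (by decide)
  have n_5_3 : 0 ≤ kk T (v 5) (v 3) := K_nonneg T v (p := 5) (q := 3) (by decide)
  have n_5_7 : 0 ≤ kk T (v 5) (v 7) := K_nonneg T v (p := 5) (q := 7) (by decide)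
  have n_6_0 : 0 ≤ kk T (v 6) (v 0) := K_nonneg T v (p := 6) (q := 0) (by decide)
  have n_6_1 : 0 ≤ kk T (v 6) (v 1) := K_nonneg T v (p := 6) (q := 1) (by decide)
  have n_6_2 : 0 ≤ kk T (v 6) (v 2) := K_nonneg T v (p := 6) (q := 2) (by decide)
  have n_6_3 : 0 ≤ kk T (v 6) (v 3) := K_nonneg T v (p := 6) (q := 3) (by decide)
  have n_6_4 : 0 ≤ kk T (v 6) (v 4) := K_nonneg T v (p := 6) (q := 4) (by decide)
  have n_6_7 : 0 ≤ kk T (v 6) (v 7) := K_nonneg T v (p := 6) (q := 7) (by decide)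
  have n_7_0 : 0 ≤ kk T (v 7) (v 0) := K_nonneg T v (p := 7) (q := 0) (by decide)
  have n_7_1 : 0 ≤ kk T (v 7) (v 1) := K_nonneg T v (p := 7) (q := 1) (by decide)
  have n_7_2 : 0 ≤ kk T (v 7) (v 2) := K_nonneg T v (p := 7) (q := 2) (by decide)
  have n_7_4 : 0 ≤ kk T (v 7) (v 4) := K_nonneg T v (p := 7) (q := 4) (by decide)
  have n_7_5 : 0 ≤ kk T (v 7) (v 5) := K_nonneg T v (p := 7) (q := 5) (by decide)
  have n_7_6 : 0 ≤ kk T (v 7) (v 6) := K_nonneg T v (p := 7) (q := 6) (by decide)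
  exact refute8 T v hv hn 1 2 3 4 3 2 1 2 (by norm_num) (by norm_num) (by norm_num) (by norm_num) (by norm_num) (by norm_num) (by norm_num) (by norm_num) (by norm_num) (fun _ => by omega) (fun _ => by omega) (fun _ => by omega) (fun _ => by omega) (fun _ => by omega) (fun _ => by omega) (fun _ => by omega) (fun _ => by omega)

end Groth.Agent.S7344
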