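import Groth.Statements.S7347
import Groth.Agent.Lib.Helper11Cfg

set_option autoImplicit false
open Finset
open Models Models.NumericalType

namespace Groth.Agent.S7347

open Groth.Agent.Lib.Helper11

/-- Classification of proper subgraphs of type D5 (a chain i_1 i_2 i_3 with i_4 and i_5 both joined to
i_3): let T be a numerical type on n > 5 indices and i_1, …, i_5 distinct (-2)-indices with a_{12},
a_{23}, a_{34}, a_{35} nonzero. Then for some integer w all w_{i_j} equal w, these intersection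
numbers equal w, all other a_{i_j i_k} (j ≠ k) vanish, and 2 m_1 ≥ m_2, 2 m_2 ≥ m_1 + m_3, 2 m_3 ≥
m_2 + m_4 + m_5, 2 m_4 ≥ m_3, 2 m_5 ≥ m_3. -/
theorem result {n : ℕ} (T : Models.NumericalType n) (hn : 5 < n)
    (v : Fin 5 ↪ Fin n) (hv : ∀ j, T.IsMinusTwo (v j)) (h01 : T.a (v 0) (v 1) ≠ 0) (h12 : T.a (v 1) (v 2) ≠ 0) (h23 : T.a (v 2) (v 3) ≠ 0) (h24 : T.a (v 2) (v 4) ≠ 0) :
    ∃ w : ℤ, (∀ j : Fin 5, T.w (v j) = w) ∧
      T.a (v 0) (v 1) = w ∧
      T.a (v 1) (v 2) = w ∧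
      T.a (v 2) (v 3) = w ∧
      T.a (v 2) (v 4) = w ∧
      T.a (v 0) (v 2) = 0 ∧
      T.a (v 0) (v 3) = 0 ∧
      T.a (v 0) (v 4) = 0 ∧
      T.a (v 1) (v 3) = 0 ∧
      T.a (v 1) (v 4) = 0 ∧
      T.a (v 3) (v 4) = 0 ∧
      T.m (v 1) ≤ 2 * T.m (v 0) ∧
      T.m (v 0) + T.m (v 2) ≤ 2 * T.m (v 1) ∧
      T.m (v 1) + T.m (v 3) + T.m (v 4) ≤ 2 * T.m (v 2) ∧
      T.m (v 2) ≤ 2 * T.m (v 3) ∧
      T.m (v 2) ≤ 2 * T.m (v 4) := by
  have e_0_1 : 1 ≤ kk T (v 0) (v 1) := K_pos T v (p := 0) (q := 1) (by decide) h01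
  have e_1_0 : 1 ≤ kk T (v 1) (v 0) := K_pos' T v (p := 0) (q := 1) (by decide) h01
  have e_1_2 : 1 ≤ kk T (v 1) (v 2) := K_pos T v (p := 1) (q := 2) (by decide) h12
  have e_2_1 : 1 ≤ kk T (v 2) (v 1) := K_pos' T v (p := 1) (q := 2) (by decide) h12
  have e_2_3 : 1 ≤ kk T (v 2) (v 3) := K_pos T v (p := 2) (q := 3) (by decide) h23
  have e_3_2 : 1 ≤ kk T (v 3) (v 2) := K_pos' T v (p := 2) (q := 3) (by decide) h23
  have e_2_4 : 1 ≤ kk T (v 2) (v 4) := K_pos T v (p := 2) (q := 4) (by decide) h24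
  have e_4_2 : 1 ≤ kk T (v 4) (v 2) := K_pos' T v (p := 2) (q := 4) (by decide) h24
  have n_0_2 : 0 ≤ kk T (v 0) (v 2) := K_nonneg T v (p := 0) (q := 2) (by decide)
  have n_0_3 : 0 ≤ kk T (v 0) (v 3) := K_nonneg T v (p := 0) (q := 3) (by decide)
  have n_0_4 : 0 ≤ kk T (v 0) (v 4) := K_nonneg T v (p := 0) (q := 4) (by decide)
  have n_1_3 : 0 ≤ kk T (v 1) (v 3) := K_nonneg T v (p := 1) (q := 3) (by decide)
  have n_1_4 : 0 ≤ kk T (v 1) (v 4) := K_nonneg T v (p := 1) (q := 4) (by decide)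
  have n_2_0 : 0 ≤ kk T (v 2) (v 0) := K_nonneg T v (p := 2) (q := 0) (by decide)
  have n_3_0 : 0 ≤ kk T (v 3) (v 0) := K_nonneg T v (p := 3) (q := 0) (by decide)
  have n_3_1 : 0 ≤ kk T (v 3) (v 1) := K_nonneg T v (p := 3) (q := 1) (by decide)
  have n_3_4 : 0 ≤ kk T (v 3) (v 4) := K_nonneg T v (p := 3) (q := 4) (by decide)
  have n_4_0 : 0 ≤ kk T (v 4) (v 0) := K_nonneg T v (p := 4) (q := 0) (by decide)
  have n_4_1 : 0 ≤ kk T (v 4) (v 1) := K_nonneg T v (p := 4) (q := 1) (by decide)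
  have n_4_3 : 0 ≤ kk T (v 4) (v 3) := K_nonneg T v (p := 4) (q := 3) (by decide)
  have u_0_1 : kk T (v 0) (v 1) ≤ 1 := by
    by_contra hcon
    have hcon' : 2 ≤ kk T (v 0) (v 1) := by omega
    exact refute5 T v hv hn 2 2 2 1 1 (by norm_num) (by norm_num) (by norm_num) (by norm_num) (by norm_num) (by norm_num) (fun _ => by omega) (fun _ => by omega) (fun _ => by omega) (fun _ => by omega) (fun _ => by omega)
  have u_1_0 : kk T (v 1) (v 0) ≤ 1 := by
    by_contra hcon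
    have hcon' : 2 ≤ kk T (v 1) (v 0) := by omega
    exact refute5 T v hv hn 1 2 2 1 1 (by norm_num) (by norm_num) (by norm_num) (by norm_num) (by norm_num) (by norm_num) (fun _ => by omega) (fun _ => by omega) (fun _ => by omega) (fun _ => by omega) (fun _ => by omega)
  have u_1_2 : kk T (v 1) (v 2) ≤ 1 := by
    by_contra hcon
    have hcon' : 2 ≤ kk T (v 1) (v 2) := by omega
    exact refute5 T v hv hn 0 2 2 1 1 (by norm_num) (by norm_num) (by norm_num) (by norm_num) (by norm_num) (by norm_num) (fun _ => by omega) (fun _ => by omega) (fun _ => by omega) (fun _ => by omega) (fun _ => by omega)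
  have u_2_1 : kk T (v 2) (v 1) ≤ 1 := by
    by_contra hcon
    have hcon' : 2 ≤ kk T (v 2) (v 1) := by omega
    exact refute5 T v hv hn 0 1 2 1 1 (by norm_num) (by norm_num) (by norm_num) (by norm_num) (by norm_num) (by norm_num) (fun _ => by omega) (fun _ => by omega) (fun _ => by omega) (fun _ => by omega) (fun _ => by omega)
  have u_2_3 : kk T (v 2) (v 3) ≤ 1 := by
    by_contra hcon
    have hcon' : 2 ≤ kk T (v 2) (v 3) := by omega
    exact refute5 T v hv hn 0 1 2 1 1 (by norm_num) (by norm_num) (by norm_num) (by norm_num) (by norm_num) (by norm_num) (fun _ => by omega) (fun _ => by omega) (fun _ => by omega) (fun _ => by omega) (fun _ => by omega)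
  have u_2_4 : kk T (v 2) (v 4) ≤ 1 := by
    by_contra hcon
    have hcon' : 2 ≤ kk T (v 2) (v 4) := by omega
    exact refute5 T v hv hn 0 1 2 1 1 (by norm_num) (by norm_num) (by norm_num) (by norm_num) (by norm_num) (by norm_num) (fun _ => by omega) (fun _ => by omega) (fun _ => by omega) (fun _ => by omega) (fun _ => by omega)
  have u_3_2 : kk T (v 3) (v 2) ≤ 1 := by
    by_contra hcon
    have hcon' : 2 ≤ kk T (v 3) (v 2) := by omega
    exact refute5 T v hv hn 0 1 2 2 1 (by norm_num) (by norm_num) (by norm_num) (by norm_num) (by norm_num) (by norm_num) (fun _ => by omega) (fun _ => by omega) (fun _ => by omega) (fun _ => by omega) (fun _ => by omega)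
  have u_4_2 : kk T (v 4) (v 2) ≤ 1 := by
    by_contra hcon
    have hcon' : 2 ≤ kk T (v 4) (v 2) := by omega
    exact refute5 T v hv hn 0 1 2 1 2 (by norm_num) (by norm_num) (by norm_num) (by norm_num) (by norm_num) (by norm_num) (fun _ => by omega) (fun _ => by omega) (fun _ => by omega) (fun _ => by omega) (fun _ => by omega)
  have z_0_2 : kk T (v 0) (v 2) = 0 := by
    by_contra hcon
    have h1 : 1 ≤ kk T (v 0) (v 2) := by omega
    have h2 : 1 ≤ kk T (v 2) (v 0) := K_symm_pos T v (p := 0) (q := 2) (by decide) h1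
    exact refute5 T v hv hn 1 1 1 0 0 (by norm_num) (by norm_num) (by norm_num) (by norm_num) (by norm_num) (by norm_num) (fun _ => by omega) (fun _ => by omega) (fun _ => by omega) (fun _ => by omega) (fun _ => by omega)
  have z_2_0 : kk T (v 2) (v 0) = 0 := K_symm_zero T z_0_2
  have z_0_3 : kk T (v 0) (v 3) = 0 := by
    by_contra hcon
    have h1 : 1 ≤ kk T (v 0) (v 3) := by omega
    have h2 : 1 ≤ kk T (v 3) (v 0) := K_symm_pos T v (p := 0) (q := 3) (by decide) h1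
    exact refute5 T v hv hn 1 1 1 1 0 (by norm_num) (by norm_num) (by norm_num) (by norm_num) (by norm_num) (by norm_num) (fun _ => by omega) (fun _ => by omega) (fun _ => by omega) (fun _ => by omega) (fun _ => by omega)
  have z_3_0 : kk T (v 3) (v 0) = 0 := K_symm_zero T z_0_3
  have z_0_4 : kk T (v 0) (v 4) = 0 := by
    by_contra hcon
    have h1 : 1 ≤ kk T (v 0) (v 4) := by omega
    have h2 : 1 ≤ kk T (v 4) (v 0) := K_symm_pos T v (p := 0) (q := 4) (by decide) h1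
    exact refute5 T v hv hn 1 1 1 0 1 (by norm_num) (by norm_num) (by norm_num) (by norm_num) (by norm_num) (by norm_num) (fun _ => by omega) (fun _ => by omega) (fun _ => by omega) (fun _ => by omega) (fun _ => by omega)
  have z_4_0 : kk T (v 4) (v 0) = 0 := K_symm_zero T z_0_4
  have z_1_3 : kk T (v 1) (v 3) = 0 := by
    by_contra hcon
    have h1 : 1 ≤ kk T (v 1) (v 3) := by omega
    have h2 : 1 ≤ kk T (v 3) (v 1) := K_symm_pos T v (p := 1) (q := 3) (by decide) h1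
    exact refute5 T v hv hn 0 1 1 1 0 (by norm_num) (by norm_num) (by norm_num) (by norm_num) (by norm_num) (by norm_num) (fun _ => by omega) (fun _ => by omega) (fun _ => by omega) (fun _ => by omega) (fun _ => by omega)
  have z_3_1 : kk T (v 3) (v 1) = 0 := K_symm_zero T z_1_3
  have z_1_4 : kk T (v 1) (v 4) = 0 := by
    by_contra hcon
    have h1 : 1 ≤ kk T (v 1) (v 4) := by omega
    have h2 : 1 ≤ kk T (v 4) (v 1) := K_symm_pos T v (p := 1) (q := 4) (by decide) h1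
    exact refute5 T v hv hn 0 1 1 0 1 (by norm_num) (by norm_num) (by norm_num) (by norm_num) (by norm_num) (by norm_num) (fun _ => by omega) (fun _ => by omega) (fun _ => by omega) (fun _ => by omega) (fun _ => by omega)
  have z_4_1 : kk T (v 4) (v 1) = 0 := K_symm_zero T z_1_4
  have z_3_4 : kk T (v 3) (v 4) = 0 := by
    by_contra hcon
    have h1 : 1 ≤ kk T (v 3) (v 4) := by omega
    have h2 : 1 ≤ kk T (v 4) (v 3) := K_symm_pos T v (p := 3) (q := 4) (by decide) h1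
    exact refute5 T v hv hn 0 0 1 1 1 (by norm_num) (by norm_num) (by norm_num) (by norm_num) (by norm_num) (by norm_num) (fun _ => by omega) (fun _ => by omega) (fun _ => by omega) (fun _ => by omega) (fun _ => by omega)
  have z_4_3 : kk T (v 4) (v 3) = 0 := K_symm_zero T z_3_4
  have k_0_1 : kk T (v 0) (v 1) = 1 := by omega
  have k_1_0 : kk T (v 1) (v 0) = 1 := by omega
  have k_1_2 : kk T (v 1) (v 2) = 1 := by omega
  have k_2_1 : kk T (v 2) (v 1) = 1 := by omega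
  have k_2_3 : kk T (v 2) (v 3) = 1 := by omega
  have k_2_4 : kk T (v 2) (v 4) = 1 := by omega
  have k_3_2 : kk T (v 3) (v 2) = 1 := by omega
  have k_4_2 : kk T (v 4) (v 2) = 1 := by omega
  have w_0_1 : T.w (v 1) = T.w (v 0) := W_eq_of_K_one T k_0_1 k_1_0
  have w_1_2 : T.w (v 2) = T.w (v 1) := W_eq_of_K_one T k_1_2 k_2_1
  have w_2_3 : T.w (v 3) = T.w (v 2) := W_eq_of_K_one T k_2_3 k_3_2
  have w_2_4 : T.w (v 4) = T.w (v 2) := W_eq_of_K_one T k_2_4 k_4_2
  have hW : ∀ j : Fin 5, T.w (v j) = T.w (v 0) := by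
    intro j
    fin_cases j
    · show T.w (v 0) = T.w (v 0); linarith
    · show T.w (v 1) = T.w (v 0); linarith
    · show T.w (v 2) = T.w (v 0); linarith
    · show T.w (v 3) = T.w (v 0); linarith
    · show T.w (v 4) = T.w (v 0); linarith
  have a_0_1 : T.a (v 0) (v 1) = T.w (v 0) := (a_of_K_one T k_0_1).trans (hW 0)
  have a_0_2 : T.a (v 0) (v 2) = 0 := a_of_K_zero T z_0_2
  have a_0_3 : T.a (v 0) (v 3) = 0 := a_of_K_zero T z_0_3
  have a_0_4 : T.a (v 0) (v 4) = 0 := a_of_K_zero T z_0_4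
  have a_1_0 : T.a (v 1) (v 0) = T.w (v 0) := (a_of_K_one T k_1_0).trans (hW 1)
  have a_1_2 : T.a (v 1) (v 2) = T.w (v 0) := (a_of_K_one T k_1_2).trans (hW 1)
  have a_1_3 : T.a (v 1) (v 3) = 0 := a_of_K_zero T z_1_3
  have a_1_4 : T.a (v 1) (v 4) = 0 := a_of_K_zero T z_1_4
  have a_2_0 : T.a (v 2) (v 0) = 0 := a_of_K_zero T z_2_0
  have a_2_1 : T.a (v 2) (v 1) = T.w (v 0) := (a_of_K_one T k_2_1).trans (hW 2)
  have a_2_3 : T.a (v 2) (v 3) = T.w (v 0) := (a_of_K_one T k_2_3).trans (hW 2)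
  have a_2_4 : T.a (v 2) (v 4) = T.w (v 0) := (a_of_K_one T k_2_4).trans (hW 2)
  have a_3_0 : T.a (v 3) (v 0) = 0 := a_of_K_zero T z_3_0
  have a_3_1 : T.a (v 3) (v 1) = 0 := a_of_K_zero T z_3_1
  have a_3_2 : T.a (v 3) (v 2) = T.w (v 0) := (a_of_K_one T k_3_2).trans (hW 3)
  have a_3_4 : T.a (v 3) (v 4) = 0 := a_of_K_zero T z_3_4
  have a_4_0 : T.a (v 4) (v 0) = 0 := a_of_K_zero T z_4_0
  have a_4_1 : T.a (v 4) (v 1) = 0 := a_of_K_zero T z_4_1
  have a_4_2 : T.a (v 4) (v 2) = T.w (v 0) := (a_of_K_one T k_4_2).trans (hW 4)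
  have a_4_3 : T.a (v 4) (v 3) = 0 := a_of_K_zero T z_4_3
  have d_0 : kk T (v 0) (v 0) = -2 := kk_minusTwo T (hv 0)
  have m_0 := mrow5 T v 0
  rw [d_0, k_0_1, z_0_2, z_0_3, z_0_4] at m_0
  have d_1 : kk T (v 1) (v 1) = -2 := kk_minusTwo T (hv 1)
  have m_1 := mrow5 T v 1
  rw [k_1_0, d_1, k_1_2, z_1_3, z_1_4] at m_1
  have d_2 : kk T (v 2) (v 2) = -2 := kk_minusTwo T (hv 2)
  have m_2 := mrow5 T v 2
  rw [z_2_0, k_2_1, d_2, k_2_3, k_2_4] at m_2
  have d_3 : kk T (v 3) (v 3) = -2 := kk_minusTwo T (hv 3)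
  have m_3 := mrow5 T v 3
  rw [z_3_0, z_3_1, k_3_2, d_3, z_3_4] at m_3
  have d_4 : kk T (v 4) (v 4) = -2 := kk_minusTwo T (hv 4)
  have m_4 := mrow5 T v 4
  rw [z_4_0, z_4_1, k_4_2, z_4_3, d_4] at m_4
  refine ⟨T.w (v 0), hW, ?_⟩
  and_intros
  all_goals first | assumption | linarith

end Groth.Agent.S7347
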