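import Groth.Statements.S7349
import Groth.Agent.Lib.Helper11Cfg

set_option autoImplicit false
open Finset
open Models Models.NumericalType

namespace Groth.Agent.S7349

open Groth.Agent.Lib.Helper11

/-- Classification of proper subgraphs of type E7 (a chain i_1 … i_6 with i_7 joined to i_4): let T be a
numerical type on n > 7 indices and i_1, …, i_7 distinct (-2)-indices with a_{12}, a_{23}, a_{34},
a_{45}, a_{56}, a_{47} nonzero. Then for some integer w all w_{i_j} equal w, these intersection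
numbers equal w, all other a_{i_j i_k} (j ≠ k) vanish, and 2 m_1 ≥ m_2, 2 m_2 ≥ m_1 + m_3, 2 m_3 ≥
m_2 + m_4, 2 m_4 ≥ m_3 + m_5 + m_7, 2 m_5 ≥ m_4 + m_6, 2 m_6 ≥ m_5, 2 m_7 ≥ m_4. -/
theorem result {n : ℕ} (T : Models.NumericalType n) (hn : 7 < n)
    (v : Fin 7 ↪ Fin n) (hv : ∀ j, T.IsMinusTwo (v j)) (h01 : T.a (v 0) (v 1) ≠ 0) (h12 : T.a (v 1) (v 2) ≠ 0) (h23 : T.a (v 2) (v 3) ≠ 0) (h34 : T.a (v 3) (v 4) ≠ 0) (h45 : T.a (v 4) (v 5) ≠ 0) (h36 : T.a (v 3) (v 6) ≠ 0) :
    ∃ w : ℤ, (∀ j : Fin 7, T.w (v j) = w) ∧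
      T.a (v 0) (v 1) = w ∧
      T.a (v 1) (v 2) = w ∧
      T.a (v 2) (v 3) = w ∧
      T.a (v 3) (v 4) = w ∧
      T.a (v 4) (v 5) = w ∧
      T.a (v 3) (v 6) = w ∧
      T.a (v 0) (v 2) = 0 ∧
      T.a (v 0) (v 3) = 0 ∧
      T.a (v 0) (v 4) = 0 ∧
      T.a (v 0) (v 5) = 0 ∧
      T.a (v 0) (v 6) = 0 ∧
      T.a (v 1) (v 3) = 0 ∧
      T.a (v 1) (v 4) = 0 ∧
      T.a (v 1) (v 5) = 0 ∧
      T.a (v 1) (v 6) = 0 ∧
      T.a (v 2) (v 4) = 0 ∧
      T.a (v 2) (v 5) = 0 ∧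
      T.a (v 2) (v 6) = 0 ∧
      T.a (v 3) (v 5) = 0 ∧
      T.a (v 4) (v 6) = 0 ∧
      T.a (v 5) (v 6) = 0 ∧
      T.m (v 1) ≤ 2 * T.m (v 0) ∧
      T.m (v 0) + T.m (v 2) ≤ 2 * T.m (v 1) ∧
      T.m (v 1) + T.m (v 3) ≤ 2 * T.m (v 2) ∧
      T.m (v 2) + T.m (v 4) + T.m (v 6) ≤ 2 * T.m (v 3) ∧
      T.m (v 3) + T.m (v 5) ≤ 2 * T.m (v 4) ∧
      T.m (v 4) ≤ 2 * T.m (v 5) ∧
      T.m (v 3) ≤ 2 * T.m (v 6) := by
  have e_0_1 : 1 ≤ kk T (v 0) (v 1) := K_pos T v (p := 0) (q := 1) (by decide) h01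
  have e_1_0 : 1 ≤ kk T (v 1) (v 0) := K_pos' T v (p := 0) (q := 1) (by decide) h01
  have e_1_2 : 1 ≤ kk T (v 1) (v 2) := K_pos T v (p := 1) (q := 2) (by decide) h12
  have e_2_1 : 1 ≤ kk T (v 2) (v 1) := K_pos' T v (p := 1) (q := 2) (by decide) h12
  have e_2_3 : 1 ≤ kk T (v 2) (v 3) := K_pos T v (p := 2) (q := 3) (by decide) h23
  have e_3_2 : 1 ≤ kk T (v 3) (v 2) := K_pos' T v (p := 2) (q := 3) (by decide) h23
  have e_3_4 : 1 ≤ kk T (v 3) (v 4) := K_pos T v (p := 3) (q := 4) (by decide) h34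
  have e_4_3 : 1 ≤ kk T (v 4) (v 3) := K_pos' T v (p := 3) (q := 4) (by decide) h34
  have e_4_5 : 1 ≤ kk T (v 4) (v 5) := K_pos T v (p := 4) (q := 5) (by decide) h45
  have e_5_4 : 1 ≤ kk T (v 5) (v 4) := K_pos' T v (p := 4) (q := 5) (by decide) h45
  have e_3_6 : 1 ≤ kk T (v 3) (v 6) := K_pos T v (p := 3) (q := 6) (by decide) h36
  have e_6_3 : 1 ≤ kk T (v 6) (v 3) := K_pos' T v (p := 3) (q := 6) (by decide) h36
  have n_0_2 : 0 ≤ kk T (v 0) (v 2) := K_nonneg T v (p := 0) (q := 2) (by decide)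
  have n_0_3 : 0 ≤ kk T (v 0) (v 3) := K_nonneg T v (p := 0) (q := 3) (by decide)
  have n_0_4 : 0 ≤ kk T (v 0) (v 4) := K_nonneg T v (p := 0) (q := 4) (by decide)
  have n_0_5 : 0 ≤ kk T (v 0) (v 5) := K_nonneg T v (p := 0) (q := 5) (by decide)
  have n_0_6 : 0 ≤ kk T (v 0) (v 6) := K_nonneg T v (p := 0) (q := 6) (by decide)
  have n_1_3 : 0 ≤ kk T (v 1) (v 3) := K_nonneg T v (p := 1) (q := 3) (by decide)
  have n_1_4 : 0 ≤ kk T (v 1) (v 4) := K_nonneg T v (p := 1) (q := 4) (by decide)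
  have n_1_5 : 0 ≤ kk T (v 1) (v 5) := K_nonneg T v (p := 1) (q := 5) (by decide)
  have n_1_6 : 0 ≤ kk T (v 1) (v 6) := K_nonneg T v (p := 1) (q := 6) (by decide)
  have n_2_0 : 0 ≤ kk T (v 2) (v 0) := K_nonneg T v (p := 2) (q := 0) (by decide)
  have n_2_4 : 0 ≤ kk T (v 2) (v 4) := K_nonneg T v (p := 2) (q := 4) (by decide)
  have n_2_5 : 0 ≤ kk T (v 2) (v 5) := K_nonneg T v (p := 2) (q := 5) (by decide)
  have n_2_6 : 0 ≤ kk T (v 2) (v 6) := K_nonneg T v (p := 2) (q := 6) (by decide)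
  have n_3_0 : 0 ≤ kk T (v 3) (v 0) := K_nonneg T v (p := 3) (q := 0) (by decide)
  have n_3_1 : 0 ≤ kk T (v 3) (v 1) := K_nonneg T v (p := 3) (q := 1) (by decide)
  have n_3_5 : 0 ≤ kk T (v 3) (v 5) := K_nonneg T v (p := 3) (q := 5) (by decide)
  have n_4_0 : 0 ≤ kk T (v 4) (v 0) := K_nonneg T v (p := 4) (q := 0) (by decide)
  have n_4_1 : 0 ≤ kk T (v 4) (v 1) := K_nonneg T v (p := 4) (q := 1) (by decide)
  have n_4_2 : 0 ≤ kk T (v 4) (v 2) := K_nonneg T v (p := 4) (q := 2) (by decide)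
  have n_4_6 : 0 ≤ kk T (v 4) (v 6) := K_nonneg T v (p := 4) (q := 6) (by decide)
  have n_5_0 : 0 ≤ kk T (v 5) (v 0) := K_nonneg T v (p := 5) (q := 0) (by decide)
  have n_5_1 : 0 ≤ kk T (v 5) (v 1) := K_nonneg T v (p := 5) (q := 1) (by decide)
  have n_5_2 : 0 ≤ kk T (v 5) (v 2) := K_nonneg T v (p := 5) (q := 2) (by decide)
  have n_5_3 : 0 ≤ kk T (v 5) (v 3) := K_nonneg T v (p := 5) (q := 3) (by decide)
  have n_5_6 : 0 ≤ kk T (v 5) (v 6) := K_nonneg T v (p := 5) (q := 6) (by decide)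
  have n_6_0 : 0 ≤ kk T (v 6) (v 0) := K_nonneg T v (p := 6) (q := 0) (by decide)
  have n_6_1 : 0 ≤ kk T (v 6) (v 1) := K_nonneg T v (p := 6) (q := 1) (by decide)
  have n_6_2 : 0 ≤ kk T (v 6) (v 2) := K_nonneg T v (p := 6) (q := 2) (by decide)
  have n_6_4 : 0 ≤ kk T (v 6) (v 4) := K_nonneg T v (p := 6) (q := 4) (by decide)
  have n_6_5 : 0 ≤ kk T (v 6) (v 5) := K_nonneg T v (p := 6) (q := 5) (by decide)
  have u_0_1 : kk T (v 0) (v 1) ≤ 1 := by
    by_contra hcon
    have hcon' : 2 ≤ kk T (v 0) (v 1) := by omega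
    exact refute7 T v hv hn 2 2 2 2 1 0 1 (by norm_num) (by norm_num) (by norm_num) (by norm_num) (by norm_num) (by norm_num) (by norm_num) (by norm_num) (fun _ => by omega) (fun _ => by omega) (fun _ => by omega) (fun _ => by omega) (fun _ => by omega) (fun _ => by omega) (fun _ => by omega)
  have u_1_0 : kk T (v 1) (v 0) ≤ 1 := by
    by_contra hcon
    have hcon' : 2 ≤ kk T (v 1) (v 0) := by omega
    exact refute7 T v hv hn 1 2 2 2 1 0 1 (by norm_num) (by norm_num) (by norm_num) (by norm_num) (by norm_num) (by norm_num) (by norm_num) (by norm_num) (fun _ => by omega) (fun _ => by omega) (fun _ => by omega) (fun _ => by omega) (fun _ => by omega) (fun _ => by omega) (fun _ => by omega)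
  have u_1_2 : kk T (v 1) (v 2) ≤ 1 := by
    by_contra hcon
    have hcon' : 2 ≤ kk T (v 1) (v 2) := by omega
    exact refute7 T v hv hn 0 2 2 2 1 0 1 (by norm_num) (by norm_num) (by norm_num) (by norm_num) (by norm_num) (by norm_num) (by norm_num) (by norm_num) (fun _ => by omega) (fun _ => by omega) (fun _ => by omega) (fun _ => by omega) (fun _ => by omega) (fun _ => by omega) (fun _ => by omega)
  have u_2_1 : kk T (v 2) (v 1) ≤ 1 := by
    by_contra hcon
    have hcon' : 2 ≤ kk T (v 2) (v 1) := by omega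
    exact refute7 T v hv hn 0 1 2 2 1 0 1 (by norm_num) (by norm_num) (by norm_num) (by norm_num) (by norm_num) (by norm_num) (by norm_num) (by norm_num) (fun _ => by omega) (fun _ => by omega) (fun _ => by omega) (fun _ => by omega) (fun _ => by omega) (fun _ => by omega) (fun _ => by omega)
  have u_2_3 : kk T (v 2) (v 3) ≤ 1 := by
    by_contra hcon
    have hcon' : 2 ≤ kk T (v 2) (v 3) := by omega
    exact refute7 T v hv hn 0 0 2 2 1 0 1 (by norm_num) (by norm_num) (by norm_num) (by norm_num) (by norm_num) (by norm_num) (by norm_num) (by norm_num) (fun _ => by omega) (fun _ => by omega) (fun _ => by omega) (fun _ => by omega) (fun _ => by omega) (fun _ => by omega) (fun _ => by omega)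
  have u_3_2 : kk T (v 3) (v 2) ≤ 1 := by
    by_contra hcon
    have hcon' : 2 ≤ kk T (v 3) (v 2) := by omega
    exact refute7 T v hv hn 0 0 1 2 1 0 1 (by norm_num) (by norm_num) (by norm_num) (by norm_num) (by norm_num) (by norm_num) (by norm_num) (by norm_num) (fun _ => by omega) (fun _ => by omega) (fun _ => by omega) (fun _ => by omega) (fun _ => by omega) (fun _ => by omega) (fun _ => by omega)
  have u_3_4 : kk T (v 3) (v 4) ≤ 1 := by
    by_contra hcon
    have hcon' : 2 ≤ kk T (v 3) (v 4) := by omega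
    exact refute7 T v hv hn 0 0 1 2 1 0 1 (by norm_num) (by norm_num) (by norm_num) (by norm_num) (by norm_num) (by norm_num) (by norm_num) (by norm_num) (fun _ => by omega) (fun _ => by omega) (fun _ => by omega) (fun _ => by omega) (fun _ => by omega) (fun _ => by omega) (fun _ => by omega)
  have u_3_6 : kk T (v 3) (v 6) ≤ 1 := by
    by_contra hcon
    have hcon' : 2 ≤ kk T (v 3) (v 6) := by omega
    exact refute7 T v hv hn 0 0 1 2 1 0 1 (by norm_num) (by norm_num) (by norm_num) (by norm_num) (by norm_num) (by norm_num) (by norm_num) (by norm_num) (fun _ => by omega) (fun _ => by omega) (fun _ => by omega) (fun _ => by omega) (fun _ => by omega) (fun _ => by omega) (fun _ => by omega)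
  have u_4_3 : kk T (v 4) (v 3) ≤ 1 := by
    by_contra hcon
    have hcon' : 2 ≤ kk T (v 4) (v 3) := by omega
    exact refute7 T v hv hn 0 0 1 2 2 0 1 (by norm_num) (by norm_num) (by norm_num) (by norm_num) (by norm_num) (by norm_num) (by norm_num) (by norm_num) (fun _ => by omega) (fun _ => by omega) (fun _ => by omega) (fun _ => by omega) (fun _ => by omega) (fun _ => by omega) (fun _ => by omega)
  have u_4_5 : kk T (v 4) (v 5) ≤ 1 := by
    by_contra hcon
    have hcon' : 2 ≤ kk T (v 4) (v 5) := by omega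
    exact refute7 T v hv hn 0 0 1 2 2 1 1 (by norm_num) (by norm_num) (by norm_num) (by norm_num) (by norm_num) (by norm_num) (by norm_num) (by norm_num) (fun _ => by omega) (fun _ => by omega) (fun _ => by omega) (fun _ => by omega) (fun _ => by omega) (fun _ => by omega) (fun _ => by omega)
  have u_5_4 : kk T (v 5) (v 4) ≤ 1 := by
    by_contra hcon
    have hcon' : 2 ≤ kk T (v 5) (v 4) := by omega
    exact refute7 T v hv hn 0 0 1 2 2 2 1 (by norm_num) (by norm_num) (by norm_num) (by norm_num) (by norm_num) (by norm_num) (by norm_num) (by norm_num) (fun _ => by omega) (fun _ => by omega) (fun _ => by omega) (fun _ => by omega) (fun _ => by omega) (fun _ => by omega) (fun _ => by omega)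
  have u_6_3 : kk T (v 6) (v 3) ≤ 1 := by
    by_contra hcon
    have hcon' : 2 ≤ kk T (v 6) (v 3) := by omega
    exact refute7 T v hv hn 0 0 1 2 1 0 2 (by norm_num) (by norm_num) (by norm_num) (by norm_num) (by norm_num) (by norm_num) (by norm_num) (by norm_num) (fun _ => by omega) (fun _ => by omega) (fun _ => by omega) (fun _ => by omega) (fun _ => by omega) (fun _ => by omega) (fun _ => by omega)
  have z_0_2 : kk T (v 0) (v 2) = 0 := by
    by_contra hcon
    have h1 : 1 ≤ kk T (v 0) (v 2) := by omega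
    have h2 : 1 ≤ kk T (v 2) (v 0) := K_symm_pos T v (p := 0) (q := 2) (by decide) h1
    exact refute7 T v hv hn 1 1 1 0 0 0 0 (by norm_num) (by norm_num) (by norm_num) (by norm_num) (by norm_num) (by norm_num) (by norm_num) (by norm_num) (fun _ => by omega) (fun _ => by omega) (fun _ => by omega) (fun _ => by omega) (fun _ => by omega) (fun _ => by omega) (fun _ => by omega)
  have z_2_0 : kk T (v 2) (v 0) = 0 := K_symm_zero T z_0_2
  have z_0_3 : kk T (v 0) (v 3) = 0 := by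
    by_contra hcon
    have h1 : 1 ≤ kk T (v 0) (v 3) := by omega
    have h2 : 1 ≤ kk T (v 3) (v 0) := K_symm_pos T v (p := 0) (q := 3) (by decide) h1
    exact refute7 T v hv hn 1 1 1 1 0 0 0 (by norm_num) (by norm_num) (by norm_num) (by norm_num) (by norm_num) (by norm_num) (by norm_num) (by norm_num) (fun _ => by omega) (fun _ => by omega) (fun _ => by omega) (fun _ => by omega) (fun _ => by omega) (fun _ => by omega) (fun _ => by omega)
  have z_3_0 : kk T (v 3) (v 0) = 0 := K_symm_zero T z_0_3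
  have z_0_4 : kk T (v 0) (v 4) = 0 := by
    by_contra hcon
    have h1 : 1 ≤ kk T (v 0) (v 4) := by omega
    have h2 : 1 ≤ kk T (v 4) (v 0) := K_symm_pos T v (p := 0) (q := 4) (by decide) h1
    exact refute7 T v hv hn 1 1 1 1 1 0 0 (by norm_num) (by norm_num) (by norm_num) (by norm_num) (by norm_num) (by norm_num) (by norm_num) (by norm_num) (fun _ => by omega) (fun _ => by omega) (fun _ => by omega) (fun _ => by omega) (fun _ => by omega) (fun _ => by omega) (fun _ => by omega)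
  have z_4_0 : kk T (v 4) (v 0) = 0 := K_symm_zero T z_0_4
  have z_0_5 : kk T (v 0) (v 5) = 0 := by
    by_contra hcon
    have h1 : 1 ≤ kk T (v 0) (v 5) := by omega
    have h2 : 1 ≤ kk T (v 5) (v 0) := K_symm_pos T v (p := 0) (q := 5) (by decide) h1
    exact refute7 T v hv hn 1 1 1 1 1 1 0 (by norm_num) (by norm_num) (by norm_num) (by norm_num) (by norm_num) (by norm_num) (by norm_num) (by norm_num) (fun _ => by omega) (fun _ => by omega) (fun _ => by omega) (fun _ => by omega) (fun _ => by omega) (fun _ => by omega) (fun _ => by omega)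
  have z_5_0 : kk T (v 5) (v 0) = 0 := K_symm_zero T z_0_5
  have z_0_6 : kk T (v 0) (v 6) = 0 := by
    by_contra hcon
    have h1 : 1 ≤ kk T (v 0) (v 6) := by omega
    have h2 : 1 ≤ kk T (v 6) (v 0) := K_symm_pos T v (p := 0) (q := 6) (by decide) h1
    exact refute7 T v hv hn 1 1 1 1 0 0 1 (by norm_num) (by norm_num) (by norm_num) (by norm_num) (by norm_num) (by norm_num) (by norm_num) (by norm_num) (fun _ => by omega) (fun _ => by omega) (fun _ => by omega) (fun _ => by omega) (fun _ => by omega) (fun _ => by omega) (fun _ => by omega)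
  have z_6_0 : kk T (v 6) (v 0) = 0 := K_symm_zero T z_0_6
  have z_1_3 : kk T (v 1) (v 3) = 0 := by
    by_contra hcon
    have h1 : 1 ≤ kk T (v 1) (v 3) := by omega
    have h2 : 1 ≤ kk T (v 3) (v 1) := K_symm_pos T v (p := 1) (q := 3) (by decide) h1
    exact refute7 T v hv hn 0 1 1 1 0 0 0 (by norm_num) (by norm_num) (by norm_num) (by norm_num) (by norm_num) (by norm_num) (by norm_num) (by norm_num) (fun _ => by omega) (fun _ => by omega) (fun _ => by omega) (fun _ => by omega) (fun _ => by omega) (fun _ => by omega) (fun _ => by omega)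
  have z_3_1 : kk T (v 3) (v 1) = 0 := K_symm_zero T z_1_3
  have z_1_4 : kk T (v 1) (v 4) = 0 := by
    by_contra hcon
    have h1 : 1 ≤ kk T (v 1) (v 4) := by omega
    have h2 : 1 ≤ kk T (v 4) (v 1) := K_symm_pos T v (p := 1) (q := 4) (by decide) h1
    exact refute7 T v hv hn 0 1 1 1 1 0 0 (by norm_num) (by norm_num) (by norm_num) (by norm_num) (by norm_num) (by norm_num) (by norm_num) (by norm_num) (fun _ => by omega) (fun _ => by omega) (fun _ => by omega) (fun _ => by omega) (fun _ => by omega) (fun _ => by omega) (fun _ => by omega)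
  have z_4_1 : kk T (v 4) (v 1) = 0 := K_symm_zero T z_1_4
  have z_1_5 : kk T (v 1) (v 5) = 0 := by
    by_contra hcon
    have h1 : 1 ≤ kk T (v 1) (v 5) := by omega
    have h2 : 1 ≤ kk T (v 5) (v 1) := K_symm_pos T v (p := 1) (q := 5) (by decide) h1
    exact refute7 T v hv hn 0 1 1 1 1 1 0 (by norm_num) (by norm_num) (by norm_num) (by norm_num) (by norm_num) (by norm_num) (by norm_num) (by norm_num) (fun _ => by omega) (fun _ => by omega) (fun _ => by omega) (fun _ => by omega) (fun _ => by omega) (fun _ => by omega) (fun _ => by omega)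
  have z_5_1 : kk T (v 5) (v 1) = 0 := K_symm_zero T z_1_5
  have z_1_6 : kk T (v 1) (v 6) = 0 := by
    by_contra hcon
    have h1 : 1 ≤ kk T (v 1) (v 6) := by omega
    have h2 : 1 ≤ kk T (v 6) (v 1) := K_symm_pos T v (p := 1) (q := 6) (by decide) h1
    exact refute7 T v hv hn 0 1 1 1 0 0 1 (by norm_num) (by norm_num) (by norm_num) (by norm_num) (by norm_num) (by norm_num) (by norm_num) (by norm_num) (fun _ => by omega) (fun _ => by omega) (fun _ => by omega) (fun _ => by omega) (fun _ => by omega) (fun _ => by omega) (fun _ => by omega)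
  have z_6_1 : kk T (v 6) (v 1) = 0 := K_symm_zero T z_1_6
  have z_2_4 : kk T (v 2) (v 4) = 0 := by
    by_contra hcon
    have h1 : 1 ≤ kk T (v 2) (v 4) := by omega
    have h2 : 1 ≤ kk T (v 4) (v 2) := K_symm_pos T v (p := 2) (q := 4) (by decide) h1
    exact refute7 T v hv hn 0 0 1 1 1 0 0 (by norm_num) (by norm_num) (by norm_num) (by norm_num) (by norm_num) (by norm_num) (by norm_num) (by norm_num) (fun _ => by omega) (fun _ => by omega) (fun _ => by omega) (fun _ => by omega) (fun _ => by omega) (fun _ => by omega) (fun _ => by omega)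
  have z_4_2 : kk T (v 4) (v 2) = 0 := K_symm_zero T z_2_4
  have z_2_5 : kk T (v 2) (v 5) = 0 := by
    by_contra hcon
    have h1 : 1 ≤ kk T (v 2) (v 5) := by omega
    have h2 : 1 ≤ kk T (v 5) (v 2) := K_symm_pos T v (p := 2) (q := 5) (by decide) h1
    exact refute7 T v hv hn 0 0 1 1 1 1 0 (by norm_num) (by norm_num) (by norm_num) (by norm_num) (by norm_num) (by norm_num) (by norm_num) (by norm_num) (fun _ => by omega) (fun _ => by omega) (fun _ => by omega) (fun _ => by omega) (fun _ => by omega) (fun _ => by omega) (fun _ => by omega)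
  have z_5_2 : kk T (v 5) (v 2) = 0 := K_symm_zero T z_2_5
  have z_2_6 : kk T (v 2) (v 6) = 0 := by
    by_contra hcon
    have h1 : 1 ≤ kk T (v 2) (v 6) := by omega
    have h2 : 1 ≤ kk T (v 6) (v 2) := K_symm_pos T v (p := 2) (q := 6) (by decide) h1
    exact refute7 T v hv hn 0 0 1 1 0 0 1 (by norm_num) (by norm_num) (by norm_num) (by norm_num) (by norm_num) (by norm_num) (by norm_num) (by norm_num) (fun _ => by omega) (fun _ => by omega) (fun _ => by omega) (fun _ => by omega) (fun _ => by omega) (fun _ => by omega) (fun _ => by omega)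
  have z_6_2 : kk T (v 6) (v 2) = 0 := K_symm_zero T z_2_6
  have z_3_5 : kk T (v 3) (v 5) = 0 := by
    by_contra hcon
    have h1 : 1 ≤ kk T (v 3) (v 5) := by omega
    have h2 : 1 ≤ kk T (v 5) (v 3) := K_symm_pos T v (p := 3) (q := 5) (by decide) h1
    exact refute7 T v hv hn 0 0 0 1 1 1 0 (by norm_num) (by norm_num) (by norm_num) (by norm_num) (by norm_num) (by norm_num) (by norm_num) (by norm_num) (fun _ => by omega) (fun _ => by omega) (fun _ => by omega) (fun _ => by omega) (fun _ => by omega) (fun _ => by omega) (fun _ => by omega)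
  have z_5_3 : kk T (v 5) (v 3) = 0 := K_symm_zero T z_3_5
  have z_4_6 : kk T (v 4) (v 6) = 0 := by
    by_contra hcon
    have h1 : 1 ≤ kk T (v 4) (v 6) := by omega
    have h2 : 1 ≤ kk T (v 6) (v 4) := K_symm_pos T v (p := 4) (q := 6) (by decide) h1
    exact refute7 T v hv hn 0 0 0 1 1 0 1 (by norm_num) (by norm_num) (by norm_num) (by norm_num) (by norm_num) (by norm_num) (by norm_num) (by norm_num) (fun _ => by omega) (fun _ => by omega) (fun _ => by omega) (fun _ => by omega) (fun _ => by omega) (fun _ => by omega) (fun _ => by omega)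
  have z_6_4 : kk T (v 6) (v 4) = 0 := K_symm_zero T z_4_6
  have z_5_6 : kk T (v 5) (v 6) = 0 := by
    by_contra hcon
    have h1 : 1 ≤ kk T (v 5) (v 6) := by omega
    have h2 : 1 ≤ kk T (v 6) (v 5) := K_symm_pos T v (p := 5) (q := 6) (by decide) h1
    exact refute7 T v hv hn 0 0 0 1 1 1 1 (by norm_num) (by norm_num) (by norm_num) (by norm_num) (by norm_num) (by norm_num) (by norm_num) (by norm_num) (fun _ => by omega) (fun _ => by omega) (fun _ => by omega) (fun _ => by omega) (fun _ => by omega) (fun _ => by omega) (fun _ => by omega)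
  have z_6_5 : kk T (v 6) (v 5) = 0 := K_symm_zero T z_5_6
  have k_0_1 : kk T (v 0) (v 1) = 1 := by omega
  have k_1_0 : kk T (v 1) (v 0) = 1 := by omega
  have k_1_2 : kk T (v 1) (v 2) = 1 := by omega
  have k_2_1 : kk T (v 2) (v 1) = 1 := by omega
  have k_2_3 : kk T (v 2) (v 3) = 1 := by omega
  have k_3_2 : kk T (v 3) (v 2) = 1 := by omega
  have k_3_4 : kk T (v 3) (v 4) = 1 := by omega
  have k_3_6 : kk T (v 3) (v 6) = 1 := by omega
  have k_4_3 : kk T (v 4) (v 3) = 1 := by omega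
  have k_4_5 : kk T (v 4) (v 5) = 1 := by omega
  have k_5_4 : kk T (v 5) (v 4) = 1 := by omega
  have k_6_3 : kk T (v 6) (v 3) = 1 := by omega
  have w_0_1 : T.w (v 1) = T.w (v 0) := W_eq_of_K_one T k_0_1 k_1_0
  have w_1_2 : T.w (v 2) = T.w (v 1) := W_eq_of_K_one T k_1_2 k_2_1
  have w_2_3 : T.w (v 3) = T.w (v 2) := W_eq_of_K_one T k_2_3 k_3_2
  have w_3_4 : T.w (v 4) = T.w (v 3) := W_eq_of_K_one T k_3_4 k_4_3
  have w_4_5 : T.w (v 5) = T.w (v 4) := W_eq_of_K_one T k_4_5 k_5_4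
  have w_3_6 : T.w (v 6) = T.w (v 3) := W_eq_of_K_one T k_3_6 k_6_3
  have hW : ∀ j : Fin 7, T.w (v j) = T.w (v 0) := by
    intro j
    fin_cases j
    · show T.w (v 0) = T.w (v 0); linarith
    · show T.w (v 1) = T.w (v 0); linarith
    · show T.w (v 2) = T.w (v 0); linarith
    · show T.w (v 3) = T.w (v 0); linarith
    · show T.w (v 4) = T.w (v 0); linarith
    · show T.w (v 5) = T.w (v 0); linarith
    · show T.w (v 6) = T.w (v 0); linarith
  have a_0_1 : T.a (v 0) (v 1) = T.w (v 0) := (a_of_K_one T k_0_1).trans (hW 0)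
  have a_0_2 : T.a (v 0) (v 2) = 0 := a_of_K_zero T z_0_2
  have a_0_3 : T.a (v 0) (v 3) = 0 := a_of_K_zero T z_0_3
  have a_0_4 : T.a (v 0) (v 4) = 0 := a_of_K_zero T z_0_4
  have a_0_5 : T.a (v 0) (v 5) = 0 := a_of_K_zero T z_0_5
  have a_0_6 : T.a (v 0) (v 6) = 0 := a_of_K_zero T z_0_6
  have a_1_0 : T.a (v 1) (v 0) = T.w (v 0) := (a_of_K_one T k_1_0).trans (hW 1)
  have a_1_2 : T.a (v 1) (v 2) = T.w (v 0) := (a_of_K_one T k_1_2).trans (hW 1)
  have a_1_3 : T.a (v 1) (v 3) = 0 := a_of_K_zero T z_1_3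
  have a_1_4 : T.a (v 1) (v 4) = 0 := a_of_K_zero T z_1_4
  have a_1_5 : T.a (v 1) (v 5) = 0 := a_of_K_zero T z_1_5
  have a_1_6 : T.a (v 1) (v 6) = 0 := a_of_K_zero T z_1_6
  have a_2_0 : T.a (v 2) (v 0) = 0 := a_of_K_zero T z_2_0
  have a_2_1 : T.a (v 2) (v 1) = T.w (v 0) := (a_of_K_one T k_2_1).trans (hW 2)
  have a_2_3 : T.a (v 2) (v 3) = T.w (v 0) := (a_of_K_one T k_2_3).trans (hW 2)
  have a_2_4 : T.a (v 2) (v 4) = 0 := a_of_K_zero T z_2_4
  have a_2_5 : T.a (v 2) (v 5) = 0 := a_of_K_zero T z_2_5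
  have a_2_6 : T.a (v 2) (v 6) = 0 := a_of_K_zero T z_2_6
  have a_3_0 : T.a (v 3) (v 0) = 0 := a_of_K_zero T z_3_0
  have a_3_1 : T.a (v 3) (v 1) = 0 := a_of_K_zero T z_3_1
  have a_3_2 : T.a (v 3) (v 2) = T.w (v 0) := (a_of_K_one T k_3_2).trans (hW 3)
  have a_3_4 : T.a (v 3) (v 4) = T.w (v 0) := (a_of_K_one T k_3_4).trans (hW 3)
  have a_3_5 : T.a (v 3) (v 5) = 0 := a_of_K_zero T z_3_5
  have a_3_6 : T.a (v 3) (v 6) = T.w (v 0) := (a_of_K_one T k_3_6).trans (hW 3)
  have a_4_0 : T.a (v 4) (v 0) = 0 := a_of_K_zero T z_4_0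
  have a_4_1 : T.a (v 4) (v 1) = 0 := a_of_K_zero T z_4_1
  have a_4_2 : T.a (v 4) (v 2) = 0 := a_of_K_zero T z_4_2
  have a_4_3 : T.a (v 4) (v 3) = T.w (v 0) := (a_of_K_one T k_4_3).trans (hW 4)
  have a_4_5 : T.a (v 4) (v 5) = T.w (v 0) := (a_of_K_one T k_4_5).trans (hW 4)
  have a_4_6 : T.a (v 4) (v 6) = 0 := a_of_K_zero T z_4_6
  have a_5_0 : T.a (v 5) (v 0) = 0 := a_of_K_zero T z_5_0
  have a_5_1 : T.a (v 5) (v 1) = 0 := a_of_K_zero T z_5_1
  have a_5_2 : T.a (v 5) (v 2) = 0 := a_of_K_zero T z_5_2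
  have a_5_3 : T.a (v 5) (v 3) = 0 := a_of_K_zero T z_5_3
  have a_5_4 : T.a (v 5) (v 4) = T.w (v 0) := (a_of_K_one T k_5_4).trans (hW 5)
  have a_5_6 : T.a (v 5) (v 6) = 0 := a_of_K_zero T z_5_6
  have a_6_0 : T.a (v 6) (v 0) = 0 := a_of_K_zero T z_6_0
  have a_6_1 : T.a (v 6) (v 1) = 0 := a_of_K_zero T z_6_1
  have a_6_2 : T.a (v 6) (v 2) = 0 := a_of_K_zero T z_6_2
  have a_6_3 : T.a (v 6) (v 3) = T.w (v 0) := (a_of_K_one T k_6_3).trans (hW 6)
  have a_6_4 : T.a (v 6) (v 4) = 0 := a_of_K_zero T z_6_4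
  have a_6_5 : T.a (v 6) (v 5) = 0 := a_of_K_zero T z_6_5
  have d_0 : kk T (v 0) (v 0) = -2 := kk_minusTwo T (hv 0)
  have m_0 := mrow7 T v 0
  rw [d_0, k_0_1, z_0_2, z_0_3, z_0_4, z_0_5, z_0_6] at m_0
  have d_1 : kk T (v 1) (v 1) = -2 := kk_minusTwo T (hv 1)
  have m_1 := mrow7 T v 1
  rw [k_1_0, d_1, k_1_2, z_1_3, z_1_4, z_1_5, z_1_6] at m_1
  have d_2 : kk T (v 2) (v 2) = -2 := kk_minusTwo T (hv 2)
  have m_2 := mrow7 T v 2
  rw [z_2_0, k_2_1, d_2, k_2_3, z_2_4, z_2_5, z_2_6] at m_2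
  have d_3 : kk T (v 3) (v 3) = -2 := kk_minusTwo T (hv 3)
  have m_3 := mrow7 T v 3
  rw [z_3_0, z_3_1, k_3_2, d_3, k_3_4, z_3_5, k_3_6] at m_3
  have d_4 : kk T (v 4) (v 4) = -2 := kk_minusTwo T (hv 4)
  have m_4 := mrow7 T v 4
  rw [z_4_0, z_4_1, z_4_2, k_4_3, d_4, k_4_5, z_4_6] at m_4
  have d_5 : kk T (v 5) (v 5) = -2 := kk_minusTwo T (hv 5)
  have m_5 := mrow7 T v 5
  rw [z_5_0, z_5_1, z_5_2, z_5_3, k_5_4, d_5, z_5_6] at m_5
  have d_6 : kk T (v 6) (v 6) = -2 := kk_minusTwo T (hv 6)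
  have m_6 := mrow7 T v 6
  rw [z_6_0, z_6_1, z_6_2, k_6_3, z_6_4, z_6_5, d_6] at m_6
  refine ⟨T.w (v 0), hW, ?_⟩
  and_intros
  all_goals first | assumption | linarith

end Groth.Agent.S7349
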