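import Groth.Statements.S7351
import Groth.Agent.Lib.Helper11Models

set_option autoImplicit false
open Finset
open Models Models.NumericalType

namespace Groth.Agent.S7351

/-- Let T be a numerical type on n > 5 indices. There do not exist five distinct (-2)-indices h, i, j,
k, l with a_hi > 0, a_hj > 0, a_hk > 0 and a_hl > 0. -/
theorem result {n : ℕ} (T : Models.NumericalType n) (hn : 5 < n)
    (v : Fin 5 ↪ Fin n) (hv : ∀ j, T.IsMinusTwo (v j))
    (h01 : 0 < T.a (v 0) (v 1)) (h02 : 0 < T.a (v 0) (v 2)) (h03 : 0 < T.a (v 0) (v 3)) (h04 : 0 < T.a (v 0) (v 4)) : False := by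
  open Groth.Agent.Lib.Helper11 in
  refine no_subharmonic T v hn ![2, 1, 1, 1, 1] ?_ ⟨0, by simp⟩ ?_
  · intro p; fin_cases p <;> simp
  · have hne : ∀ p q : Fin 5, p ≠ q → v p ≠ v q := fun p q h h' => h (v.injective h')
    have k01 := kk_pos T (hne 0 1 (by decide)) h01.ne'
    have k02 := kk_pos T (hne 0 2 (by decide)) h02.ne'
    have k03 := kk_pos T (hne 0 3 (by decide)) h03.ne'
    have k04 := kk_pos T (hne 0 4 (by decide)) h04.ne'
    have k10 := kk_pos' T (hne 0 1 (by decide)) h01.ne'
    have k20 := kk_pos' T (hne 0 2 (by decide)) h02.ne'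
    have k30 := kk_pos' T (hne 0 3 (by decide)) h03.ne'
    have k40 := kk_pos' T (hne 0 4 (by decide)) h04.ne'
    have nn : ∀ p q : Fin 5, p ≠ q → 0 ≤ kk T (v p) (v q) := fun p q h => kk_nonneg T (hne p q h)
    have d : ∀ p, kk T (v p) (v p) = -2 := fun p => kk_minusTwo T (hv p)
    intro p hp
    fin_cases p
    · simp [Fin.sum_univ_five, d]
      linarith
    · simp [Fin.sum_univ_five, d]
      have := nn 1 2 (by decide); have := nn 1 3 (by decide); have := nn 1 4 (by decide)
      linarith
    · simp [Fin.sum_univ_five, d]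
      have := nn 2 1 (by decide); have := nn 2 3 (by decide); have := nn 2 4 (by decide)
      linarith
    · simp [Fin.sum_univ_five, d]
      have := nn 3 1 (by decide); have := nn 3 2 (by decide); have := nn 3 4 (by decide)
      linarith
    · simp [Fin.sum_univ_five, d]
      have := nn 4 1 (by decide); have := nn 4 2 (by decide); have := nn 4 3 (by decide)
      linarith

end Groth.Agent.S7351
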