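import Groth.Statements.S7352
import Groth.Agent.Lib.Helper11Cfg

set_option autoImplicit false
open Finset
open Models Models.NumericalType

namespace Groth.Agent.S7352

open Groth.Agent.Lib.Helper11

/-- Classification of proper subgraphs which are chains of four vertices: let T be a numerical type on n
> 4 indices and i_1, …, i_4 distinct (-2)-indices with a_{i_j i_{j+1}} nonzero for j < 4. Then
a_{i_j i_l} = 0 for |j - l| ≥ 2 and, after possibly reversing the order of the indices, for some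
integer w one of the following holds: (A4) w = (w, w, w, w), consecutive a = (w, w, w), with 2m_1 ≥
m_2, 2m_2 ≥ m_1 + m_3, 2m_3 ≥ m_2 + m_4, 2m_4 ≥ m_3; (C4) w = (w, w, w, 2w), consecutive a = (w, w,
2w), with 2m_1 ≥ m_2, 2m_2 ≥ m_1 + m_3, 2m_3 ≥ m_2 + 2m_4, 2m_4 ≥ m_3; (B4) w = (2w, 2w, 2w, w),
consecutive a = (2w, 2w, 2w), with 2m_1 ≥ m_2, 2m_2 ≥ m_1 + m_3, 2m_3 ≥ m_2 + m_4, m_4 ≥ m_3; (F4) w
= (w, w, 2w, 2w), consecutive a = (w, 2w, 2w), with 2m_1 ≥ m_2, 2m_2 ≥ m_1 + 2m_3, 2m_3 ≥ m_2 + m_4,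
2m_4 ≥ m_3. -/
theorem result {n : ℕ} (T : Models.NumericalType n) (hn : 4 < n)
    (v : Fin 4 ↪ Fin n) (hv : ∀ j, T.IsMinusTwo (v j)) (h01 : T.a (v 0) (v 1) ≠ 0) (h12 : T.a (v 1) (v 2) ≠ 0) (h23 : T.a (v 2) (v 3) ≠ 0) :
    (T.a (v 0) (v 2) = 0 ∧ T.a (v 0) (v 3) = 0 ∧ T.a (v 1) (v 3) = 0) ∧
    ∃ (u : Fin 4 → Fin n) (w : ℤ), ((∀ j, u j = v j) ∨ (∀ j, u j = v (Fin.rev j))) ∧
      ((T.w (u 0) = w ∧ T.w (u 1) = w ∧ T.w (u 2) = w ∧ T.w (u 3) = w ∧ T.a (u 0) (u 1) = w ∧ T.a (u 1) (u 2) = w ∧ T.a (u 2) (u 3) = w ∧ T.m (u 1) ≤ 2 * T.m (u 0) ∧ T.m (u 0) + T.m (u 2) ≤ 2 * T.m (u 1) ∧ T.m (u 1) + T.m (u 3) ≤ 2 * T.m (u 2) ∧ T.m (u 2) ≤ 2 * T.m (u 3)) ∨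
      (T.w (u 0) = w ∧ T.w (u 1) = w ∧ T.w (u 2) = w ∧ T.w (u 3) = 2 * w ∧ T.a (u 0) (u 1) = w ∧ T.a (u 1) (u 2) = w ∧ T.a (u 2) (u 3) = 2 * w ∧ T.m (u 1) ≤ 2 * T.m (u 0) ∧ T.m (u 0) + T.m (u 2) ≤ 2 * T.m (u 1) ∧ T.m (u 1) + 2 * T.m (u 3) ≤ 2 * T.m (u 2) ∧ T.m (u 2) ≤ 2 * T.m (u 3)) ∨
      (T.w (u 0) = 2 * w ∧ T.w (u 1) = 2 * w ∧ T.w (u 2) = 2 * w ∧ T.w (u 3) = w ∧ T.a (u 0) (u 1) = 2 * w ∧ T.a (u 1) (u 2) = 2 * w ∧ T.a (u 2) (u 3) = 2 * w ∧ T.m (u 1) ≤ 2 * T.m (u 0) ∧ T.m (u 0) + T.m (u 2) ≤ 2 * T.m (u 1) ∧ T.m (u 1) + T.m (u 3) ≤ 2 * T.m (u 2) ∧ T.m (u 2) ≤ T.m (u 3)) ∨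
      (T.w (u 0) = w ∧ T.w (u 1) = w ∧ T.w (u 2) = 2 * w ∧ T.w (u 3) = 2 * w ∧ T.a (u 0) (u 1) = w ∧ T.a (u 1) (u 2) = 2 * w ∧ T.a (u 2) (u 3) = 2 * w ∧ T.m (u 1) ≤ 2 * T.m (u 0) ∧ T.m (u 0) + 2 * T.m (u 2) ≤ 2 * T.m (u 1) ∧ T.m (u 1) + T.m (u 3) ≤ 2 * T.m (u 2) ∧ T.m (u 2) ≤ 2 * T.m (u 3))) := by
  have e_0_1 : 1 ≤ kk T (v 0) (v 1) := K_pos T v (p := 0) (q := 1) (by decide) h01
  have e_1_0 : 1 ≤ kk T (v 1) (v 0) := K_pos' T v (p := 0) (q := 1) (by decide) h01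
  have e_1_2 : 1 ≤ kk T (v 1) (v 2) := K_pos T v (p := 1) (q := 2) (by decide) h12
  have e_2_1 : 1 ≤ kk T (v 2) (v 1) := K_pos' T v (p := 1) (q := 2) (by decide) h12
  have e_2_3 : 1 ≤ kk T (v 2) (v 3) := K_pos T v (p := 2) (q := 3) (by decide) h23
  have e_3_2 : 1 ≤ kk T (v 3) (v 2) := K_pos' T v (p := 2) (q := 3) (by decide) h23
  have n_0_2 : 0 ≤ kk T (v 0) (v 2) := K_nonneg T v (p := 0) (q := 2) (by decide)
  have n_0_3 : 0 ≤ kk T (v 0) (v 3) := K_nonneg T v (p := 0) (q := 3) (by decide)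
  have n_1_3 : 0 ≤ kk T (v 1) (v 3) := K_nonneg T v (p := 1) (q := 3) (by decide)
  have n_2_0 : 0 ≤ kk T (v 2) (v 0) := K_nonneg T v (p := 2) (q := 0) (by decide)
  have n_3_0 : 0 ≤ kk T (v 3) (v 0) := K_nonneg T v (p := 3) (q := 0) (by decide)
  have n_3_1 : 0 ≤ kk T (v 3) (v 1) := K_nonneg T v (p := 3) (q := 1) (by decide)
  have z_0_2 : kk T (v 0) (v 2) = 0 := by
    by_contra hcon
    have h1 : 1 ≤ kk T (v 0) (v 2) := by omega
    have h2 : 1 ≤ kk T (v 2) (v 0) := K_symm_pos T v (p := 0) (q := 2) (by decide) h1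
    exact refute4 T v hv hn 1 1 1 0 (by norm_num) (by norm_num) (by norm_num) (by norm_num) (by norm_num) (fun _ => by omega) (fun _ => by omega) (fun _ => by omega) (fun _ => by omega)
  have z_2_0 : kk T (v 2) (v 0) = 0 := K_symm_zero T z_0_2
  have a_0_2 : T.a (v 0) (v 2) = 0 := a_of_K_zero T z_0_2
  have z_0_3 : kk T (v 0) (v 3) = 0 := by
    by_contra hcon
    have h1 : 1 ≤ kk T (v 0) (v 3) := by omega
    have h2 : 1 ≤ kk T (v 3) (v 0) := K_symm_pos T v (p := 0) (q := 3) (by decide) h1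
    exact refute4 T v hv hn 1 1 1 1 (by norm_num) (by norm_num) (by norm_num) (by norm_num) (by norm_num) (fun _ => by omega) (fun _ => by omega) (fun _ => by omega) (fun _ => by omega)
  have z_3_0 : kk T (v 3) (v 0) = 0 := K_symm_zero T z_0_3
  have a_0_3 : T.a (v 0) (v 3) = 0 := a_of_K_zero T z_0_3
  have z_1_3 : kk T (v 1) (v 3) = 0 := by
    by_contra hcon
    have h1 : 1 ≤ kk T (v 1) (v 3) := by omega
    have h2 : 1 ≤ kk T (v 3) (v 1) := K_symm_pos T v (p := 1) (q := 3) (by decide) h1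
    exact refute4 T v hv hn 0 1 1 1 (by norm_num) (by norm_num) (by norm_num) (by norm_num) (by norm_num) (fun _ => by omega) (fun _ => by omega) (fun _ => by omega) (fun _ => by omega)
  have z_3_1 : kk T (v 3) (v 1) = 0 := K_symm_zero T z_1_3
  have a_1_3 : T.a (v 1) (v 3) = 0 := a_of_K_zero T z_1_3
  have u_0_1 : kk T (v 0) (v 1) ≤ 2 := by
    by_contra hcon
    have hcon' : 3 ≤ kk T (v 0) (v 1) := by omega
    exact refute4 T v hv hn 3 2 1 0 (by norm_num) (by norm_num) (by norm_num) (by norm_num) (by norm_num) (fun _ => by omega) (fun _ => by omega) (fun _ => by omega) (fun _ => by omega)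
  have u_1_0 : kk T (v 1) (v 0) ≤ 2 := by
    by_contra hcon
    have hcon' : 3 ≤ kk T (v 1) (v 0) := by omega
    exact refute4 T v hv hn 1 2 1 0 (by norm_num) (by norm_num) (by norm_num) (by norm_num) (by norm_num) (fun _ => by omega) (fun _ => by omega) (fun _ => by omega) (fun _ => by omega)
  have u_1_2 : kk T (v 1) (v 2) ≤ 2 := by
    by_contra hcon
    have hcon' : 3 ≤ kk T (v 1) (v 2) := by omega
    exact refute4 T v hv hn 1 2 1 0 (by norm_num) (by norm_num) (by norm_num) (by norm_num) (by norm_num) (fun _ => by omega) (fun _ => by omega) (fun _ => by omega) (fun _ => by omega)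
  have u_2_1 : kk T (v 2) (v 1) ≤ 2 := by
    by_contra hcon
    have hcon' : 3 ≤ kk T (v 2) (v 1) := by omega
    exact refute4 T v hv hn 0 1 2 1 (by norm_num) (by norm_num) (by norm_num) (by norm_num) (by norm_num) (fun _ => by omega) (fun _ => by omega) (fun _ => by omega) (fun _ => by omega)
  have u_2_3 : kk T (v 2) (v 3) ≤ 2 := by
    by_contra hcon
    have hcon' : 3 ≤ kk T (v 2) (v 3) := by omega
    exact refute4 T v hv hn 0 1 2 1 (by norm_num) (by norm_num) (by norm_num) (by norm_num) (by norm_num) (fun _ => by omega) (fun _ => by omega) (fun _ => by omega) (fun _ => by omega)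
  have u_3_2 : kk T (v 3) (v 2) ≤ 2 := by
    by_contra hcon
    have hcon' : 3 ≤ kk T (v 3) (v 2) := by omega
    exact refute4 T v hv hn 0 1 2 3 (by norm_num) (by norm_num) (by norm_num) (by norm_num) (by norm_num) (fun _ => by omega) (fun _ => by omega) (fun _ => by omega) (fun _ => by omega)
  have b_2_3_3_2 : ¬ (2 ≤ kk T (v 2) (v 3) ∧ 2 ≤ kk T (v 3) (v 2)) := by
    rintro ⟨hc1, hc2⟩
    exact refute4 T v hv hn 0 0 1 1 (by norm_num) (by norm_num) (by norm_num) (by norm_num) (by norm_num) (fun _ => by omega) (fun _ => by omega) (fun _ => by omega) (fun _ => by omega)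
  have b_2_3_1_2 : ¬ (2 ≤ kk T (v 2) (v 3) ∧ 2 ≤ kk T (v 1) (v 2)) := by
    rintro ⟨hc1, hc2⟩
    exact refute4 T v hv hn 0 2 2 1 (by norm_num) (by norm_num) (by norm_num) (by norm_num) (by norm_num) (fun _ => by omega) (fun _ => by omega) (fun _ => by omega) (fun _ => by omega)
  have b_2_3_1_0 : ¬ (2 ≤ kk T (v 2) (v 3) ∧ 2 ≤ kk T (v 1) (v 0)) := by
    rintro ⟨hc1, hc2⟩
    exact refute4 T v hv hn 1 2 2 1 (by norm_num) (by norm_num) (by norm_num) (by norm_num) (by norm_num) (fun _ => by omega) (fun _ => by omega) (fun _ => by omega) (fun _ => by omega)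
  have b_2_3_0_1 : ¬ (2 ≤ kk T (v 2) (v 3) ∧ 2 ≤ kk T (v 0) (v 1)) := by
    rintro ⟨hc1, hc2⟩
    exact refute4 T v hv hn 2 2 2 1 (by norm_num) (by norm_num) (by norm_num) (by norm_num) (by norm_num) (fun _ => by omega) (fun _ => by omega) (fun _ => by omega) (fun _ => by omega)
  have b_2_3_2_1 : ¬ (2 ≤ kk T (v 2) (v 3) ∧ 2 ≤ kk T (v 2) (v 1)) := by
    rintro ⟨hc1, hc2⟩
    exact refute4 T v hv hn 0 1 2 1 (by norm_num) (by norm_num) (by norm_num) (by norm_num) (by norm_num) (fun _ => by omega) (fun _ => by omega) (fun _ => by omega) (fun _ => by omega)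
  have b_3_2_1_2 : ¬ (2 ≤ kk T (v 3) (v 2) ∧ 2 ≤ kk T (v 1) (v 2)) := by
    rintro ⟨hc1, hc2⟩
    exact refute4 T v hv hn 0 1 1 1 (by norm_num) (by norm_num) (by norm_num) (by norm_num) (by norm_num) (fun _ => by omega) (fun _ => by omega) (fun _ => by omega) (fun _ => by omega)
  have b_3_2_1_0 : ¬ (2 ≤ kk T (v 3) (v 2) ∧ 2 ≤ kk T (v 1) (v 0)) := by
    rintro ⟨hc1, hc2⟩
    exact refute4 T v hv hn 1 2 2 2 (by norm_num) (by norm_num) (by norm_num) (by norm_num) (by norm_num) (fun _ => by omega) (fun _ => by omega) (fun _ => by omega) (fun _ => by omega)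
  have b_3_2_0_1 : ¬ (2 ≤ kk T (v 3) (v 2) ∧ 2 ≤ kk T (v 0) (v 1)) := by
    rintro ⟨hc1, hc2⟩
    exact refute4 T v hv hn 1 1 1 1 (by norm_num) (by norm_num) (by norm_num) (by norm_num) (by norm_num) (fun _ => by omega) (fun _ => by omega) (fun _ => by omega) (fun _ => by omega)
  have b_3_2_2_1 : ¬ (2 ≤ kk T (v 3) (v 2) ∧ 2 ≤ kk T (v 2) (v 1)) := by
    rintro ⟨hc1, hc2⟩
    exact refute4 T v hv hn 0 1 2 2 (by norm_num) (by norm_num) (by norm_num) (by norm_num) (by norm_num) (fun _ => by omega) (fun _ => by omega) (fun _ => by omega) (fun _ => by omega)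
  have b_1_2_1_0 : ¬ (2 ≤ kk T (v 1) (v 2) ∧ 2 ≤ kk T (v 1) (v 0)) := by
    rintro ⟨hc1, hc2⟩
    exact refute4 T v hv hn 1 2 1 0 (by norm_num) (by norm_num) (by norm_num) (by norm_num) (by norm_num) (fun _ => by omega) (fun _ => by omega) (fun _ => by omega) (fun _ => by omega)
  have b_1_2_0_1 : ¬ (2 ≤ kk T (v 1) (v 2) ∧ 2 ≤ kk T (v 0) (v 1)) := by
    rintro ⟨hc1, hc2⟩
    exact refute4 T v hv hn 2 2 1 0 (by norm_num) (by norm_num) (by norm_num) (by norm_num) (by norm_num) (fun _ => by omega) (fun _ => by omega) (fun _ => by omega) (fun _ => by omega)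
  have b_1_2_2_1 : ¬ (2 ≤ kk T (v 1) (v 2) ∧ 2 ≤ kk T (v 2) (v 1)) := by
    rintro ⟨hc1, hc2⟩
    exact refute4 T v hv hn 0 1 1 0 (by norm_num) (by norm_num) (by norm_num) (by norm_num) (by norm_num) (fun _ => by omega) (fun _ => by omega) (fun _ => by omega) (fun _ => by omega)
  have b_1_0_0_1 : ¬ (2 ≤ kk T (v 1) (v 0) ∧ 2 ≤ kk T (v 0) (v 1)) := by
    rintro ⟨hc1, hc2⟩
    exact refute4 T v hv hn 1 1 0 0 (by norm_num) (by norm_num) (by norm_num) (by norm_num) (by norm_num) (fun _ => by omega) (fun _ => by omega) (fun _ => by omega) (fun _ => by omega)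
  have b_1_0_2_1 : ¬ (2 ≤ kk T (v 1) (v 0) ∧ 2 ≤ kk T (v 2) (v 1)) := by
    rintro ⟨hc1, hc2⟩
    exact refute4 T v hv hn 1 2 2 0 (by norm_num) (by norm_num) (by norm_num) (by norm_num) (by norm_num) (fun _ => by omega) (fun _ => by omega) (fun _ => by omega) (fun _ => by omega)
  have b_0_1_2_1 : ¬ (2 ≤ kk T (v 0) (v 1) ∧ 2 ≤ kk T (v 2) (v 1)) := by
    rintro ⟨hc1, hc2⟩
    exact refute4 T v hv hn 1 1 1 0 (by norm_num) (by norm_num) (by norm_num) (by norm_num) (by norm_num) (fun _ => by omega) (fun _ => by omega) (fun _ => by omega) (fun _ => by omega)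
  have km_0_1 := K_mul T (v 0) (v 1)
  have ae_0_1 := a_eq_kk T (v 0) (v 1)
  have ae_1_0 := a_eq_kk T (v 1) (v 0)
  have km_1_2 := K_mul T (v 1) (v 2)
  have ae_1_2 := a_eq_kk T (v 1) (v 2)
  have ae_2_1 := a_eq_kk T (v 2) (v 1)
  have km_2_3 := K_mul T (v 2) (v 3)
  have ae_2_3 := a_eq_kk T (v 2) (v 3)
  have ae_3_2 := a_eq_kk T (v 3) (v 2)
  have d_0 : kk T (v 0) (v 0) = -2 := kk_minusTwo T (hv 0)
  have m_0 := mrow4 T v 0
  rw [d_0, z_0_2, z_0_3] at m_0
  have d_1 : kk T (v 1) (v 1) = -2 := kk_minusTwo T (hv 1)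
  have m_1 := mrow4 T v 1
  rw [d_1, z_1_3] at m_1
  have d_2 : kk T (v 2) (v 2) = -2 := kk_minusTwo T (hv 2)
  have m_2 := mrow4 T v 2
  rw [z_2_0, d_2] at m_2
  have d_3 : kk T (v 3) (v 3) = -2 := kk_minusTwo T (hv 3)
  have m_3 := mrow4 T v 3
  rw [z_3_0, z_3_1, d_3] at m_3
  have rev_0 : Fin.rev (0 : Fin 4) = 3 := by decide
  have rev_1 : Fin.rev (1 : Fin 4) = 2 := by decide
  have rev_2 : Fin.rev (2 : Fin 4) = 1 := by decide
  have rev_3 : Fin.rev (3 : Fin 4) = 0 := by decide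
  refine ⟨⟨a_0_2, a_0_3, a_1_3⟩, ?_⟩
  by_cases c_0 : 2 ≤ kk T (v 2) (v 3)
  · have hk_2_3 : kk T (v 2) (v 3) = 2 := by omega
    have hk_0_1 : kk T (v 0) (v 1) = 1 := by
      have hle : kk T (v 0) (v 1) ≤ 1 := by
        by_contra hcon
        exact b_2_3_0_1 ⟨c_0, by omega⟩
      omega
    have hk_1_0 : kk T (v 1) (v 0) = 1 := by
      have hle : kk T (v 1) (v 0) ≤ 1 := by
        by_contra hcon
        exact b_2_3_1_0 ⟨c_0, by omega⟩
      omega
    have hk_1_2 : kk T (v 1) (v 2) = 1 := by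
      have hle : kk T (v 1) (v 2) ≤ 1 := by
        by_contra hcon
        exact b_2_3_1_2 ⟨c_0, by omega⟩
      omega
    have hk_2_1 : kk T (v 2) (v 1) = 1 := by
      have hle : kk T (v 2) (v 1) ≤ 1 := by
        by_contra hcon
        exact b_2_3_2_1 ⟨c_0, by omega⟩
      omega
    have hk_3_2 : kk T (v 3) (v 2) = 1 := by
      have hle : kk T (v 3) (v 2) ≤ 1 := by
        by_contra hcon
        exact b_2_3_3_2 ⟨c_0, by omega⟩
      omega
    simp only [hk_0_1, hk_1_0, hk_1_2, hk_2_1, hk_2_3, hk_3_2] at km_0_1 ae_0_1 ae_1_0 km_1_2 ae_1_2 ae_2_1 km_2_3 ae_2_3 ae_3_2 m_0 m_1 m_2 m_3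
    refine ⟨v, T.w (v 0), Or.inl (fun _ => rfl), Or.inr (Or.inl ?_)⟩
    and_intros <;> first | trivial | linarith
  · skip
    by_cases c_1 : 2 ≤ kk T (v 3) (v 2)
    · have hk_3_2 : kk T (v 3) (v 2) = 2 := by omega
      have hk_0_1 : kk T (v 0) (v 1) = 1 := by
        have hle : kk T (v 0) (v 1) ≤ 1 := by
          by_contra hcon
          exact b_3_2_0_1 ⟨c_1, by omega⟩
        omega
      have hk_1_0 : kk T (v 1) (v 0) = 1 := by
        have hle : kk T (v 1) (v 0) ≤ 1 := by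
          by_contra hcon
          exact b_3_2_1_0 ⟨c_1, by omega⟩
        omega
      have hk_1_2 : kk T (v 1) (v 2) = 1 := by
        have hle : kk T (v 1) (v 2) ≤ 1 := by
          by_contra hcon
          exact b_3_2_1_2 ⟨c_1, by omega⟩
        omega
      have hk_2_1 : kk T (v 2) (v 1) = 1 := by
        have hle : kk T (v 2) (v 1) ≤ 1 := by
          by_contra hcon
          exact b_3_2_2_1 ⟨c_1, by omega⟩
        omega
      have hk_2_3 : kk T (v 2) (v 3) = 1 := by omega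
      simp only [hk_0_1, hk_1_0, hk_1_2, hk_2_1, hk_2_3, hk_3_2] at km_0_1 ae_0_1 ae_1_0 km_1_2 ae_1_2 ae_2_1 km_2_3 ae_2_3 ae_3_2 m_0 m_1 m_2 m_3
      refine ⟨v, T.w (v 3), Or.inl (fun _ => rfl), Or.inr (Or.inr (Or.inl ?_))⟩
      and_intros <;> first | trivial | linarith
    · skip
      by_cases c_2 : 2 ≤ kk T (v 1) (v 2)
      · have hk_1_2 : kk T (v 1) (v 2) = 2 := by omega
        have hk_0_1 : kk T (v 0) (v 1) = 1 := by
          have hle : kk T (v 0) (v 1) ≤ 1 := by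
            by_contra hcon
            exact b_1_2_0_1 ⟨c_2, by omega⟩
          omega
        have hk_1_0 : kk T (v 1) (v 0) = 1 := by
          have hle : kk T (v 1) (v 0) ≤ 1 := by
            by_contra hcon
            exact b_1_2_1_0 ⟨c_2, by omega⟩
          omega
        have hk_2_1 : kk T (v 2) (v 1) = 1 := by
          have hle : kk T (v 2) (v 1) ≤ 1 := by
            by_contra hcon
            exact b_1_2_2_1 ⟨c_2, by omega⟩
          omega
        have hk_2_3 : kk T (v 2) (v 3) = 1 := by omega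
        have hk_3_2 : kk T (v 3) (v 2) = 1 := by omega
        simp only [hk_0_1, hk_1_0, hk_1_2, hk_2_1, hk_2_3, hk_3_2] at km_0_1 ae_0_1 ae_1_0 km_1_2 ae_1_2 ae_2_1 km_2_3 ae_2_3 ae_3_2 m_0 m_1 m_2 m_3
        refine ⟨v, T.w (v 0), Or.inl (fun _ => rfl), Or.inr (Or.inr (Or.inr ?_))⟩
        and_intros <;> first | trivial | linarith
      · skip
        by_cases c_3 : 2 ≤ kk T (v 1) (v 0)
        · have hk_1_0 : kk T (v 1) (v 0) = 2 := by omega
          have hk_0_1 : kk T (v 0) (v 1) = 1 := by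
            have hle : kk T (v 0) (v 1) ≤ 1 := by
              by_contra hcon
              exact b_1_0_0_1 ⟨c_3, by omega⟩
            omega
          have hk_1_2 : kk T (v 1) (v 2) = 1 := by omega
          have hk_2_1 : kk T (v 2) (v 1) = 1 := by
            have hle : kk T (v 2) (v 1) ≤ 1 := by
              by_contra hcon
              exact b_1_0_2_1 ⟨c_3, by omega⟩
            omega
          have hk_2_3 : kk T (v 2) (v 3) = 1 := by omega
          have hk_3_2 : kk T (v 3) (v 2) = 1 := by omega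
          simp only [hk_0_1, hk_1_0, hk_1_2, hk_2_1, hk_2_3, hk_3_2] at km_0_1 ae_0_1 ae_1_0 km_1_2 ae_1_2 ae_2_1 km_2_3 ae_2_3 ae_3_2 m_0 m_1 m_2 m_3
          refine ⟨fun j => v (Fin.rev j), T.w (v 3), Or.inr (fun _ => rfl), Or.inr (Or.inl ?_)⟩
          simp only [rev_0, rev_1, rev_2, rev_3]
          and_intros <;> first | trivial | linarith
        · skip
          by_cases c_4 : 2 ≤ kk T (v 0) (v 1)
          · have hk_0_1 : kk T (v 0) (v 1) = 2 := by omega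
            have hk_1_0 : kk T (v 1) (v 0) = 1 := by omega
            have hk_1_2 : kk T (v 1) (v 2) = 1 := by omega
            have hk_2_1 : kk T (v 2) (v 1) = 1 := by
              have hle : kk T (v 2) (v 1) ≤ 1 := by
                by_contra hcon
                exact b_0_1_2_1 ⟨c_4, by omega⟩
              omega
            have hk_2_3 : kk T (v 2) (v 3) = 1 := by omega
            have hk_3_2 : kk T (v 3) (v 2) = 1 := by omega
            simp only [hk_0_1, hk_1_0, hk_1_2, hk_2_1, hk_2_3, hk_3_2] at km_0_1 ae_0_1 ae_1_0 km_1_2 ae_1_2 ae_2_1 km_2_3 ae_2_3 ae_3_2 m_0 m_1 m_2 m_3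
            refine ⟨fun j => v (Fin.rev j), T.w (v 0), Or.inr (fun _ => rfl), Or.inr (Or.inr (Or.inl ?_))⟩
            simp only [rev_0, rev_1, rev_2, rev_3]
            and_intros <;> first | trivial | linarith
          · skip
            by_cases c_5 : 2 ≤ kk T (v 2) (v 1)
            · have hk_2_1 : kk T (v 2) (v 1) = 2 := by omega
              have hk_0_1 : kk T (v 0) (v 1) = 1 := by omega
              have hk_1_0 : kk T (v 1) (v 0) = 1 := by omega
              have hk_1_2 : kk T (v 1) (v 2) = 1 := by omega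
              have hk_2_3 : kk T (v 2) (v 3) = 1 := by omega
              have hk_3_2 : kk T (v 3) (v 2) = 1 := by omega
              simp only [hk_0_1, hk_1_0, hk_1_2, hk_2_1, hk_2_3, hk_3_2] at km_0_1 ae_0_1 ae_1_0 km_1_2 ae_1_2 ae_2_1 km_2_3 ae_2_3 ae_3_2 m_0 m_1 m_2 m_3
              refine ⟨fun j => v (Fin.rev j), T.w (v 3), Or.inr (fun _ => rfl), Or.inr (Or.inr (Or.inr ?_))⟩
              simp only [rev_0, rev_1, rev_2, rev_3]
              and_intros <;> first | trivial | linarith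
            · skip
              have hk_0_1 : kk T (v 0) (v 1) = 1 := by omega
              have hk_1_0 : kk T (v 1) (v 0) = 1 := by omega
              have hk_1_2 : kk T (v 1) (v 2) = 1 := by omega
              have hk_2_1 : kk T (v 2) (v 1) = 1 := by omega
              have hk_2_3 : kk T (v 2) (v 3) = 1 := by omega
              have hk_3_2 : kk T (v 3) (v 2) = 1 := by omega
              simp only [hk_0_1, hk_1_0, hk_1_2, hk_2_1, hk_2_3, hk_3_2] at km_0_1 ae_0_1 ae_1_0 km_1_2 ae_1_2 ae_2_1 km_2_3 ae_2_3 ae_3_2 m_0 m_1 m_2 m_3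
              refine ⟨v, T.w (v 0), Or.inl (fun _ => rfl), Or.inl ?_⟩
              and_intros <;> first | trivial | linarith

end Groth.Agent.S7352
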