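import Groth.Statements.S7353
import Groth.Agent.Lib.Helper11Cfg

set_option autoImplicit false
open Finset
open Models Models.NumericalType

namespace Groth.Agent.S7353

open Groth.Agent.Lib.Helper11

/-- Classification of proper subgraphs which are chains of five vertices: let T be a numerical type on n
> 5 indices and i_1, …, i_5 distinct (-2)-indices with a_{i_j i_{j+1}} nonzero for j < 5. Then
a_{i_j i_l} = 0 for |j - l| ≥ 2 and, after possibly reversing the order of the indices, for some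
integer w one of the following holds: (A5) w = (w, w, w, w, w), consecutive a = (w, w, w, w), with
2m_1 ≥ m_2, 2m_2 ≥ m_1 + m_3, 2m_3 ≥ m_2 + m_4, 2m_4 ≥ m_3 + m_5, 2m_5 ≥ m_4; (C5) w = (w, w, w, w,
2w), consecutive a = (w, w, w, 2w), with 2m_1 ≥ m_2, 2m_2 ≥ m_1 + m_3, 2m_3 ≥ m_2 + m_4, 2m_4 ≥ m_3
+ 2m_5, 2m_5 ≥ m_4; (B5) w = (2w, 2w, 2w, 2w, w), consecutive a = (2w, 2w, 2w, 2w), with 2m_1 ≥ m_2,
2m_2 ≥ m_1 + m_3, 2m_3 ≥ m_2 + m_4, 2m_4 ≥ m_3 + m_5, m_5 ≥ m_4. (The inequalities are those given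
by the rows Σ_l a_{kl} m_l = 0 of the displayed matrices; the published text has 2m_3 ≥ m_2 + 2m_4
and 2m_4 ≥ m_3 + m_5 in case C5 and m_4 ≥ m_3 in case B5, of which the first does not follow — for
the numerical type with six indices, weights (1,1,1,1,2,1), chain intersection numbers (1,1,1,2)
plus a_{16} = 1, a_{66} = -1 and multiplicities (2,2,2,2,1,2) one has 2m_3 = 4 < m_2 + 2m_4 = 6 — so
the matrix inequalities are stated.) -/
theorem result {n : ℕ} (T : Models.NumericalType n) (hn : 5 < n)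
    (v : Fin 5 ↪ Fin n) (hv : ∀ j, T.IsMinusTwo (v j)) (h01 : T.a (v 0) (v 1) ≠ 0) (h12 : T.a (v 1) (v 2) ≠ 0) (h23 : T.a (v 2) (v 3) ≠ 0) (h34 : T.a (v 3) (v 4) ≠ 0) :
    (T.a (v 0) (v 2) = 0 ∧ T.a (v 0) (v 3) = 0 ∧ T.a (v 0) (v 4) = 0 ∧ T.a (v 1) (v 3) = 0 ∧ T.a (v 1) (v 4) = 0 ∧ T.a (v 2) (v 4) = 0) ∧
    ∃ (u : Fin 5 → Fin n) (w : ℤ), ((∀ j, u j = v j) ∨ (∀ j, u j = v (Fin.rev j))) ∧
      ((T.w (u 0) = w ∧ T.w (u 1) = w ∧ T.w (u 2) = w ∧ T.w (u 3) = w ∧ T.w (u 4) = w ∧ T.a (u 0) (u 1) = w ∧ T.a (u 1) (u 2) = w ∧ T.a (u 2) (u 3) = w ∧ T.a (u 3) (u 4) = w ∧ T.m (u 1) ≤ 2 * T.m (u 0) ∧ T.m (u 0) + T.m (u 2) ≤ 2 * T.m (u 1) ∧ T.m (u 1) + T.m (u 3) ≤ 2 * T.m (u 2) ∧ T.m (u 2) + T.m (u 4) ≤ 2 * T.m (u 3) ∧ T.m (u 3) ≤ 2 * T.m (u 4)) ∨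
      (T.w (u 0) = w ∧ T.w (u 1) = w ∧ T.w (u 2) = w ∧ T.w (u 3) = w ∧ T.w (u 4) = 2 * w ∧ T.a (u 0) (u 1) = w ∧ T.a (u 1) (u 2) = w ∧ T.a (u 2) (u 3) = w ∧ T.a (u 3) (u 4) = 2 * w ∧ T.m (u 1) ≤ 2 * T.m (u 0) ∧ T.m (u 0) + T.m (u 2) ≤ 2 * T.m (u 1) ∧ T.m (u 1) + T.m (u 3) ≤ 2 * T.m (u 2) ∧ T.m (u 2) + 2 * T.m (u 4) ≤ 2 * T.m (u 3) ∧ T.m (u 3) ≤ 2 * T.m (u 4)) ∨
      (T.w (u 0) = 2 * w ∧ T.w (u 1) = 2 * w ∧ T.w (u 2) = 2 * w ∧ T.w (u 3) = 2 * w ∧ T.w (u 4) = w ∧ T.a (u 0) (u 1) = 2 * w ∧ T.a (u 1) (u 2) = 2 * w ∧ T.a (u 2) (u 3) = 2 * w ∧ T.a (u 3) (u 4) = 2 * w ∧ T.m (u 1) ≤ 2 * T.m (u 0) ∧ T.m (u 0) + T.m (u 2) ≤ 2 * T.m (u 1) ∧ T.m (u 1) + T.m (u 3) ≤ 2 * T.m (u 2) ∧ T.m (u 2) + T.m (u 4) ≤ 2 * T.m (u 3) ∧ T.m (u 3) ≤ T.m (u 4))) := by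
  have e_0_1 : 1 ≤ kk T (v 0) (v 1) := K_pos T v (p := 0) (q := 1) (by decide) h01
  have e_1_0 : 1 ≤ kk T (v 1) (v 0) := K_pos' T v (p := 0) (q := 1) (by decide) h01
  have e_1_2 : 1 ≤ kk T (v 1) (v 2) := K_pos T v (p := 1) (q := 2) (by decide) h12
  have e_2_1 : 1 ≤ kk T (v 2) (v 1) := K_pos' T v (p := 1) (q := 2) (by decide) h12
  have e_2_3 : 1 ≤ kk T (v 2) (v 3) := K_pos T v (p := 2) (q := 3) (by decide) h23
  have e_3_2 : 1 ≤ kk T (v 3) (v 2) := K_pos' T v (p := 2) (q := 3) (by decide) h23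
  have e_3_4 : 1 ≤ kk T (v 3) (v 4) := K_pos T v (p := 3) (q := 4) (by decide) h34
  have e_4_3 : 1 ≤ kk T (v 4) (v 3) := K_pos' T v (p := 3) (q := 4) (by decide) h34
  have n_0_2 : 0 ≤ kk T (v 0) (v 2) := K_nonneg T v (p := 0) (q := 2) (by decide)
  have n_0_3 : 0 ≤ kk T (v 0) (v 3) := K_nonneg T v (p := 0) (q := 3) (by decide)
  have n_0_4 : 0 ≤ kk T (v 0) (v 4) := K_nonneg T v (p := 0) (q := 4) (by decide)
  have n_1_3 : 0 ≤ kk T (v 1) (v 3) := K_nonneg T v (p := 1) (q := 3) (by decide)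
  have n_1_4 : 0 ≤ kk T (v 1) (v 4) := K_nonneg T v (p := 1) (q := 4) (by decide)
  have n_2_0 : 0 ≤ kk T (v 2) (v 0) := K_nonneg T v (p := 2) (q := 0) (by decide)
  have n_2_4 : 0 ≤ kk T (v 2) (v 4) := K_nonneg T v (p := 2) (q := 4) (by decide)
  have n_3_0 : 0 ≤ kk T (v 3) (v 0) := K_nonneg T v (p := 3) (q := 0) (by decide)
  have n_3_1 : 0 ≤ kk T (v 3) (v 1) := K_nonneg T v (p := 3) (q := 1) (by decide)
  have n_4_0 : 0 ≤ kk T (v 4) (v 0) := K_nonneg T v (p := 4) (q := 0) (by decide)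
  have n_4_1 : 0 ≤ kk T (v 4) (v 1) := K_nonneg T v (p := 4) (q := 1) (by decide)
  have n_4_2 : 0 ≤ kk T (v 4) (v 2) := K_nonneg T v (p := 4) (q := 2) (by decide)
  have z_0_2 : kk T (v 0) (v 2) = 0 := by
    by_contra hcon
    have h1 : 1 ≤ kk T (v 0) (v 2) := by omega
    have h2 : 1 ≤ kk T (v 2) (v 0) := K_symm_pos T v (p := 0) (q := 2) (by decide) h1
    exact refute5 T v hv hn 1 1 1 0 0 (by norm_num) (by norm_num) (by norm_num) (by norm_num) (by norm_num) (by norm_num) (fun _ => by omega) (fun _ => by omega) (fun _ => by omega) (fun _ => by omega) (fun _ => by omega)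
  have z_2_0 : kk T (v 2) (v 0) = 0 := K_symm_zero T z_0_2
  have a_0_2 : T.a (v 0) (v 2) = 0 := a_of_K_zero T z_0_2
  have z_0_3 : kk T (v 0) (v 3) = 0 := by
    by_contra hcon
    have h1 : 1 ≤ kk T (v 0) (v 3) := by omega
    have h2 : 1 ≤ kk T (v 3) (v 0) := K_symm_pos T v (p := 0) (q := 3) (by decide) h1
    exact refute5 T v hv hn 1 1 1 1 0 (by norm_num) (by norm_num) (by norm_num) (by norm_num) (by norm_num) (by norm_num) (fun _ => by omega) (fun _ => by omega) (fun _ => by omega) (fun _ => by omega) (fun _ => by omega)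
  have z_3_0 : kk T (v 3) (v 0) = 0 := K_symm_zero T z_0_3
  have a_0_3 : T.a (v 0) (v 3) = 0 := a_of_K_zero T z_0_3
  have z_0_4 : kk T (v 0) (v 4) = 0 := by
    by_contra hcon
    have h1 : 1 ≤ kk T (v 0) (v 4) := by omega
    have h2 : 1 ≤ kk T (v 4) (v 0) := K_symm_pos T v (p := 0) (q := 4) (by decide) h1
    exact refute5 T v hv hn 1 1 1 1 1 (by norm_num) (by norm_num) (by norm_num) (by norm_num) (by norm_num) (by norm_num) (fun _ => by omega) (fun _ => by omega) (fun _ => by omega) (fun _ => by omega) (fun _ => by omega)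
  have z_4_0 : kk T (v 4) (v 0) = 0 := K_symm_zero T z_0_4
  have a_0_4 : T.a (v 0) (v 4) = 0 := a_of_K_zero T z_0_4
  have z_1_3 : kk T (v 1) (v 3) = 0 := by
    by_contra hcon
    have h1 : 1 ≤ kk T (v 1) (v 3) := by omega
    have h2 : 1 ≤ kk T (v 3) (v 1) := K_symm_pos T v (p := 1) (q := 3) (by decide) h1
    exact refute5 T v hv hn 0 1 1 1 0 (by norm_num) (by norm_num) (by norm_num) (by norm_num) (by norm_num) (by norm_num) (fun _ => by omega) (fun _ => by omega) (fun _ => by omega) (fun _ => by omega) (fun _ => by omega)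
  have z_3_1 : kk T (v 3) (v 1) = 0 := K_symm_zero T z_1_3
  have a_1_3 : T.a (v 1) (v 3) = 0 := a_of_K_zero T z_1_3
  have z_1_4 : kk T (v 1) (v 4) = 0 := by
    by_contra hcon
    have h1 : 1 ≤ kk T (v 1) (v 4) := by omega
    have h2 : 1 ≤ kk T (v 4) (v 1) := K_symm_pos T v (p := 1) (q := 4) (by decide) h1
    exact refute5 T v hv hn 0 1 1 1 1 (by norm_num) (by norm_num) (by norm_num) (by norm_num) (by norm_num) (by norm_num) (fun _ => by omega) (fun _ => by omega) (fun _ => by omega) (fun _ => by omega) (fun _ => by omega)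
  have z_4_1 : kk T (v 4) (v 1) = 0 := K_symm_zero T z_1_4
  have a_1_4 : T.a (v 1) (v 4) = 0 := a_of_K_zero T z_1_4
  have z_2_4 : kk T (v 2) (v 4) = 0 := by
    by_contra hcon
    have h1 : 1 ≤ kk T (v 2) (v 4) := by omega
    have h2 : 1 ≤ kk T (v 4) (v 2) := K_symm_pos T v (p := 2) (q := 4) (by decide) h1
    exact refute5 T v hv hn 0 0 1 1 1 (by norm_num) (by norm_num) (by norm_num) (by norm_num) (by norm_num) (by norm_num) (fun _ => by omega) (fun _ => by omega) (fun _ => by omega) (fun _ => by omega) (fun _ => by omega)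
  have z_4_2 : kk T (v 4) (v 2) = 0 := K_symm_zero T z_2_4
  have a_2_4 : T.a (v 2) (v 4) = 0 := a_of_K_zero T z_2_4
  have u_0_1 : kk T (v 0) (v 1) ≤ 2 := by
    by_contra hcon
    have hcon' : 3 ≤ kk T (v 0) (v 1) := by omega
    exact refute5 T v hv hn 3 2 1 0 0 (by norm_num) (by norm_num) (by norm_num) (by norm_num) (by norm_num) (by norm_num) (fun _ => by omega) (fun _ => by omega) (fun _ => by omega) (fun _ => by omega) (fun _ => by omega)
  have u_1_0 : kk T (v 1) (v 0) ≤ 2 := by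
    by_contra hcon
    have hcon' : 3 ≤ kk T (v 1) (v 0) := by omega
    exact refute5 T v hv hn 1 2 1 0 0 (by norm_num) (by norm_num) (by norm_num) (by norm_num) (by norm_num) (by norm_num) (fun _ => by omega) (fun _ => by omega) (fun _ => by omega) (fun _ => by omega) (fun _ => by omega)
  have u_1_2 : kk T (v 1) (v 2) ≤ 1 := by
    by_contra hcon
    have hcon' : 2 ≤ kk T (v 1) (v 2) := by omega
    exact refute5 T v hv hn 2 4 3 2 1 (by norm_num) (by norm_num) (by norm_num) (by norm_num) (by norm_num) (by norm_num) (fun _ => by omega) (fun _ => by omega) (fun _ => by omega) (fun _ => by omega) (fun _ => by omega)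
  have u_2_1 : kk T (v 2) (v 1) ≤ 1 := by
    by_contra hcon
    have hcon' : 2 ≤ kk T (v 2) (v 1) := by omega
    exact refute5 T v hv hn 1 2 3 2 1 (by norm_num) (by norm_num) (by norm_num) (by norm_num) (by norm_num) (by norm_num) (fun _ => by omega) (fun _ => by omega) (fun _ => by omega) (fun _ => by omega) (fun _ => by omega)
  have u_2_3 : kk T (v 2) (v 3) ≤ 1 := by
    by_contra hcon
    have hcon' : 2 ≤ kk T (v 2) (v 3) := by omega
    exact refute5 T v hv hn 1 2 3 2 1 (by norm_num) (by norm_num) (by norm_num) (by norm_num) (by norm_num) (by norm_num) (fun _ => by omega) (fun _ => by omega) (fun _ => by omega) (fun _ => by omega) (fun _ => by omega)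
  have u_3_2 : kk T (v 3) (v 2) ≤ 1 := by
    by_contra hcon
    have hcon' : 2 ≤ kk T (v 3) (v 2) := by omega
    exact refute5 T v hv hn 1 2 3 4 2 (by norm_num) (by norm_num) (by norm_num) (by norm_num) (by norm_num) (by norm_num) (fun _ => by omega) (fun _ => by omega) (fun _ => by omega) (fun _ => by omega) (fun _ => by omega)
  have u_3_4 : kk T (v 3) (v 4) ≤ 2 := by
    by_contra hcon
    have hcon' : 3 ≤ kk T (v 3) (v 4) := by omega
    exact refute5 T v hv hn 0 0 1 2 1 (by norm_num) (by norm_num) (by norm_num) (by norm_num) (by norm_num) (by norm_num) (fun _ => by omega) (fun _ => by omega) (fun _ => by omega) (fun _ => by omega) (fun _ => by omega)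
  have u_4_3 : kk T (v 4) (v 3) ≤ 2 := by
    by_contra hcon
    have hcon' : 3 ≤ kk T (v 4) (v 3) := by omega
    exact refute5 T v hv hn 0 0 1 2 3 (by norm_num) (by norm_num) (by norm_num) (by norm_num) (by norm_num) (by norm_num) (fun _ => by omega) (fun _ => by omega) (fun _ => by omega) (fun _ => by omega) (fun _ => by omega)
  have b_3_4_4_3 : ¬ (2 ≤ kk T (v 3) (v 4) ∧ 2 ≤ kk T (v 4) (v 3)) := by
    rintro ⟨hc1, hc2⟩
    exact refute5 T v hv hn 0 0 0 1 1 (by norm_num) (by norm_num) (by norm_num) (by norm_num) (by norm_num) (by norm_num) (fun _ => by omega) (fun _ => by omega) (fun _ => by omega) (fun _ => by omega) (fun _ => by omega)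
  have b_3_4_1_0 : ¬ (2 ≤ kk T (v 3) (v 4) ∧ 2 ≤ kk T (v 1) (v 0)) := by
    rintro ⟨hc1, hc2⟩
    exact refute5 T v hv hn 1 2 2 2 1 (by norm_num) (by norm_num) (by norm_num) (by norm_num) (by norm_num) (by norm_num) (fun _ => by omega) (fun _ => by omega) (fun _ => by omega) (fun _ => by omega) (fun _ => by omega)
  have b_3_4_0_1 : ¬ (2 ≤ kk T (v 3) (v 4) ∧ 2 ≤ kk T (v 0) (v 1)) := by
    rintro ⟨hc1, hc2⟩
    exact refute5 T v hv hn 2 2 2 2 1 (by norm_num) (by norm_num) (by norm_num) (by norm_num) (by norm_num) (by norm_num) (fun _ => by omega) (fun _ => by omega) (fun _ => by omega) (fun _ => by omega) (fun _ => by omega)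
  have b_4_3_1_0 : ¬ (2 ≤ kk T (v 4) (v 3) ∧ 2 ≤ kk T (v 1) (v 0)) := by
    rintro ⟨hc1, hc2⟩
    exact refute5 T v hv hn 1 2 2 2 2 (by norm_num) (by norm_num) (by norm_num) (by norm_num) (by norm_num) (by norm_num) (fun _ => by omega) (fun _ => by omega) (fun _ => by omega) (fun _ => by omega) (fun _ => by omega)
  have b_4_3_0_1 : ¬ (2 ≤ kk T (v 4) (v 3) ∧ 2 ≤ kk T (v 0) (v 1)) := by
    rintro ⟨hc1, hc2⟩
    exact refute5 T v hv hn 1 1 1 1 1 (by norm_num) (by norm_num) (by norm_num) (by norm_num) (by norm_num) (by norm_num) (fun _ => by omega) (fun _ => by omega) (fun _ => by omega) (fun _ => by omega) (fun _ => by omega)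
  have b_1_0_0_1 : ¬ (2 ≤ kk T (v 1) (v 0) ∧ 2 ≤ kk T (v 0) (v 1)) := by
    rintro ⟨hc1, hc2⟩
    exact refute5 T v hv hn 1 1 0 0 0 (by norm_num) (by norm_num) (by norm_num) (by norm_num) (by norm_num) (by norm_num) (fun _ => by omega) (fun _ => by omega) (fun _ => by omega) (fun _ => by omega) (fun _ => by omega)
  have km_0_1 := K_mul T (v 0) (v 1)
  have ae_0_1 := a_eq_kk T (v 0) (v 1)
  have ae_1_0 := a_eq_kk T (v 1) (v 0)
  have km_1_2 := K_mul T (v 1) (v 2)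
  have ae_1_2 := a_eq_kk T (v 1) (v 2)
  have ae_2_1 := a_eq_kk T (v 2) (v 1)
  have km_2_3 := K_mul T (v 2) (v 3)
  have ae_2_3 := a_eq_kk T (v 2) (v 3)
  have ae_3_2 := a_eq_kk T (v 3) (v 2)
  have km_3_4 := K_mul T (v 3) (v 4)
  have ae_3_4 := a_eq_kk T (v 3) (v 4)
  have ae_4_3 := a_eq_kk T (v 4) (v 3)
  have d_0 : kk T (v 0) (v 0) = -2 := kk_minusTwo T (hv 0)
  have m_0 := mrow5 T v 0
  rw [d_0, z_0_2, z_0_3, z_0_4] at m_0
  have d_1 : kk T (v 1) (v 1) = -2 := kk_minusTwo T (hv 1)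
  have m_1 := mrow5 T v 1
  rw [d_1, z_1_3, z_1_4] at m_1
  have d_2 : kk T (v 2) (v 2) = -2 := kk_minusTwo T (hv 2)
  have m_2 := mrow5 T v 2
  rw [z_2_0, d_2, z_2_4] at m_2
  have d_3 : kk T (v 3) (v 3) = -2 := kk_minusTwo T (hv 3)
  have m_3 := mrow5 T v 3
  rw [z_3_0, z_3_1, d_3] at m_3
  have d_4 : kk T (v 4) (v 4) = -2 := kk_minusTwo T (hv 4)
  have m_4 := mrow5 T v 4
  rw [z_4_0, z_4_1, z_4_2, d_4] at m_4
  have rev_0 : Fin.rev (0 : Fin 5) = 4 := by decide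
  have rev_1 : Fin.rev (1 : Fin 5) = 3 := by decide
  have rev_2 : Fin.rev (2 : Fin 5) = 2 := by decide
  have rev_3 : Fin.rev (3 : Fin 5) = 1 := by decide
  have rev_4 : Fin.rev (4 : Fin 5) = 0 := by decide
  refine ⟨⟨a_0_2, a_0_3, a_0_4, a_1_3, a_1_4, a_2_4⟩, ?_⟩
  by_cases c_0 : 2 ≤ kk T (v 3) (v 4)
  · have hk_3_4 : kk T (v 3) (v 4) = 2 := by omega
    have hk_0_1 : kk T (v 0) (v 1) = 1 := by
      have hle : kk T (v 0) (v 1) ≤ 1 := by
        by_contra hcon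
        exact b_3_4_0_1 ⟨c_0, by omega⟩
      omega
    have hk_1_0 : kk T (v 1) (v 0) = 1 := by
      have hle : kk T (v 1) (v 0) ≤ 1 := by
        by_contra hcon
        exact b_3_4_1_0 ⟨c_0, by omega⟩
      omega
    have hk_1_2 : kk T (v 1) (v 2) = 1 := by omega
    have hk_2_1 : kk T (v 2) (v 1) = 1 := by omega
    have hk_2_3 : kk T (v 2) (v 3) = 1 := by omega
    have hk_3_2 : kk T (v 3) (v 2) = 1 := by omega
    have hk_4_3 : kk T (v 4) (v 3) = 1 := by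
      have hle : kk T (v 4) (v 3) ≤ 1 := by
        by_contra hcon
        exact b_3_4_4_3 ⟨c_0, by omega⟩
      omega
    simp only [hk_0_1, hk_1_0, hk_1_2, hk_2_1, hk_2_3, hk_3_2, hk_3_4, hk_4_3] at km_0_1 ae_0_1 ae_1_0 km_1_2 ae_1_2 ae_2_1 km_2_3 ae_2_3 ae_3_2 km_3_4 ae_3_4 ae_4_3 m_0 m_1 m_2 m_3 m_4
    refine ⟨v, T.w (v 0), Or.inl (fun _ => rfl), Or.inr (Or.inl ?_)⟩
    and_intros <;> first | trivial | linarith
  · skip
    by_cases c_1 : 2 ≤ kk T (v 4) (v 3)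
    · have hk_4_3 : kk T (v 4) (v 3) = 2 := by omega
      have hk_0_1 : kk T (v 0) (v 1) = 1 := by
        have hle : kk T (v 0) (v 1) ≤ 1 := by
          by_contra hcon
          exact b_4_3_0_1 ⟨c_1, by omega⟩
        omega
      have hk_1_0 : kk T (v 1) (v 0) = 1 := by
        have hle : kk T (v 1) (v 0) ≤ 1 := by
          by_contra hcon
          exact b_4_3_1_0 ⟨c_1, by omega⟩
        omega
      have hk_1_2 : kk T (v 1) (v 2) = 1 := by omega
      have hk_2_1 : kk T (v 2) (v 1) = 1 := by omega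
      have hk_2_3 : kk T (v 2) (v 3) = 1 := by omega
      have hk_3_2 : kk T (v 3) (v 2) = 1 := by omega
      have hk_3_4 : kk T (v 3) (v 4) = 1 := by omega
      simp only [hk_0_1, hk_1_0, hk_1_2, hk_2_1, hk_2_3, hk_3_2, hk_3_4, hk_4_3] at km_0_1 ae_0_1 ae_1_0 km_1_2 ae_1_2 ae_2_1 km_2_3 ae_2_3 ae_3_2 km_3_4 ae_3_4 ae_4_3 m_0 m_1 m_2 m_3 m_4
      refine ⟨v, T.w (v 4), Or.inl (fun _ => rfl), Or.inr (Or.inr ?_)⟩
      and_intros <;> first | trivial | linarith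
    · skip
      by_cases c_2 : 2 ≤ kk T (v 1) (v 0)
      · have hk_1_0 : kk T (v 1) (v 0) = 2 := by omega
        have hk_0_1 : kk T (v 0) (v 1) = 1 := by
          have hle : kk T (v 0) (v 1) ≤ 1 := by
            by_contra hcon
            exact b_1_0_0_1 ⟨c_2, by omega⟩
          omega
        have hk_1_2 : kk T (v 1) (v 2) = 1 := by omega
        have hk_2_1 : kk T (v 2) (v 1) = 1 := by omega
        have hk_2_3 : kk T (v 2) (v 3) = 1 := by omega
        have hk_3_2 : kk T (v 3) (v 2) = 1 := by omega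
        have hk_3_4 : kk T (v 3) (v 4) = 1 := by omega
        have hk_4_3 : kk T (v 4) (v 3) = 1 := by omega
        simp only [hk_0_1, hk_1_0, hk_1_2, hk_2_1, hk_2_3, hk_3_2, hk_3_4, hk_4_3] at km_0_1 ae_0_1 ae_1_0 km_1_2 ae_1_2 ae_2_1 km_2_3 ae_2_3 ae_3_2 km_3_4 ae_3_4 ae_4_3 m_0 m_1 m_2 m_3 m_4
        refine ⟨fun j => v (Fin.rev j), T.w (v 4), Or.inr (fun _ => rfl), Or.inr (Or.inl ?_)⟩
        simp only [rev_0, rev_1, rev_2, rev_3, rev_4]
        and_intros <;> first | trivial | linarith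
      · skip
        by_cases c_3 : 2 ≤ kk T (v 0) (v 1)
        · have hk_0_1 : kk T (v 0) (v 1) = 2 := by omega
          have hk_1_0 : kk T (v 1) (v 0) = 1 := by omega
          have hk_1_2 : kk T (v 1) (v 2) = 1 := by omega
          have hk_2_1 : kk T (v 2) (v 1) = 1 := by omega
          have hk_2_3 : kk T (v 2) (v 3) = 1 := by omega
          have hk_3_2 : kk T (v 3) (v 2) = 1 := by omega
          have hk_3_4 : kk T (v 3) (v 4) = 1 := by omega
          have hk_4_3 : kk T (v 4) (v 3) = 1 := by omega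
          simp only [hk_0_1, hk_1_0, hk_1_2, hk_2_1, hk_2_3, hk_3_2, hk_3_4, hk_4_3] at km_0_1 ae_0_1 ae_1_0 km_1_2 ae_1_2 ae_2_1 km_2_3 ae_2_3 ae_3_2 km_3_4 ae_3_4 ae_4_3 m_0 m_1 m_2 m_3 m_4
          refine ⟨fun j => v (Fin.rev j), T.w (v 0), Or.inr (fun _ => rfl), Or.inr (Or.inr ?_)⟩
          simp only [rev_0, rev_1, rev_2, rev_3, rev_4]
          and_intros <;> first | trivial | linarith
        · skip
          have hk_0_1 : kk T (v 0) (v 1) = 1 := by omega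
          have hk_1_0 : kk T (v 1) (v 0) = 1 := by omega
          have hk_1_2 : kk T (v 1) (v 2) = 1 := by omega
          have hk_2_1 : kk T (v 2) (v 1) = 1 := by omega
          have hk_2_3 : kk T (v 2) (v 3) = 1 := by omega
          have hk_3_2 : kk T (v 3) (v 2) = 1 := by omega
          have hk_3_4 : kk T (v 3) (v 4) = 1 := by omega
          have hk_4_3 : kk T (v 4) (v 3) = 1 := by omega
          simp only [hk_0_1, hk_1_0, hk_1_2, hk_2_1, hk_2_3, hk_3_2, hk_3_4, hk_4_3] at km_0_1 ae_0_1 ae_1_0 km_1_2 ae_1_2 ae_2_1 km_2_3 ae_2_3 ae_3_2 km_3_4 ae_3_4 ae_4_3 m_0 m_1 m_2 m_3 m_4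
          refine ⟨v, T.w (v 0), Or.inl (fun _ => rfl), Or.inl ?_⟩
          and_intros <;> first | trivial | linarith

end Groth.Agent.S7353
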