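import Groth.Statements.S7354
import Groth.Agent.Lib.Helper11Chain

set_option autoImplicit false
open Finset
open Models Models.NumericalType

namespace Groth.Agent.S7354

open Groth.Agent.Lib.Helper11

/-- a chain cannot have non-simple edges at both ends -/
theorem ends_excl {n : ℕ} (T : Models.NumericalType n) (t : ℕ) (ht : 5 < t) (hn : t < n)
    (v : Fin t ↪ Fin n) (hv : ∀ j, T.IsMinusTwo (v j)) (h : IsChainOn T v 0 (t - 1))
    (a0 a1 b1 b0 : Fin t) (ha0 : a0.val = 0) (ha1 : a1.val = 1) (hb1 : b1.val = t - 2)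
    (hb0 : b0.val = t - 1) (α β : ℤ) (hα : 0 ≤ α) (hβ : 0 ≤ β)
    (h0 : α ≤ kk T (v a0) (v a1)) (h1 : 2 ≤ kk T (v a1) (v a0) * α)
    (h2 : 2 ≤ kk T (v b1) (v b0) * β) (h3 : β ≤ kk T (v b0) (v b1)) : False := by
  let c : Fin t → ℤ := fun p => if p.val = 0 then α else if p.val = t - 1 then β else 2
  have hca : ∀ p : Fin t, p.val = 0 → c p = α := fun p hp => if_pos hp
  have hcb : ∀ p : Fin t, p.val = t - 1 → c p = β := fun p hp => by
    have : ¬ p.val = 0 := by omega
    simp only [c, if_neg this, if_pos hp]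
  have hc2 : ∀ p : Fin t, 1 ≤ p.val → p.val ≤ t - 2 → c p = 2 := fun p hp hp' => by
    have h1 : ¬ p.val = 0 := by omega
    have h2 : ¬ p.val = t - 1 := by omega
    simp only [c, if_neg h1, if_neg h2]
  have hc0 : ∀ p, 0 ≤ c p := by
    intro p
    by_cases hp : p.val = 0
    · rw [hca p hp]; exact hα
    by_cases hp' : p.val = t - 1
    · rw [hcb p hp']; exact hβ
    · rw [hc2 p (by omega) (by have := p.isLt; omega)]; norm_num
  refine (h.mono (lo' := 1) (hi' := t - 2) (by omega) (by omega)).cert hv hn (by omega) (by omega)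
    c hc0 hc2 ?_
  intro p _ hint
  have hpt := p.isLt
  obtain ⟨r2, hr2⟩ := exists_fin (t := t) 2 (by omega)
  obtain ⟨r3, hr3⟩ := exists_fin (t := t) (t - 3) (by omega)
  have hp4 : p.val = 0 ∨ p.val = 1 ∨ p.val = t - 2 ∨ p.val = t - 1 := by omega
  rcases hp4 with hp | hp | hp | hp
  · have e : p = a0 := Fin.ext (by omega)
    subst e
    have hrow := row_ge_one T v hv c hc0 p a1 (fin_ne (by omega))
    rw [hca p hp, hc2 a1 (by omega) (by omega)] at hrow
    linarith
  · have e : p = a1 := Fin.ext (by omega)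
    subst e
    have k12 := (h.K p r2 (by omega) (by omega) (by omega)).1
    have hrow := row_ge_two T v hv c hc0 p a0 r2 (fin_ne (by omega)) (fin_ne (by omega))
      (fin_ne (by omega))
    rw [hc2 p (by omega) (by omega), hca a0 ha0, hc2 r2 (by omega) (by omega)] at hrow
    linarith
  · have e : p = b1 := Fin.ext (by omega)
    subst e
    have k12 := (h.K r3 p (by omega) (by omega) (by omega)).2
    have hrow := row_ge_two T v hv c hc0 p r3 b0 (fin_ne (by omega)) (fin_ne (by omega))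
      (fin_ne (by omega))
    rw [hc2 p (by omega) (by omega), hcb b0 hb0, hc2 r3 (by omega) (by omega)] at hrow
    linarith
  · have e : p = b0 := Fin.ext (by omega)
    subst e
    have hrow := row_ge_one T v hv c hc0 p b1 (fin_ne (by omega))
    rw [hcb p hp, hc2 b1 (by omega) (by omega)] at hrow
    linarith

/-- the classification when the first edge is simple -/
theorem main {n : ℕ} (T : Models.NumericalType n) (t : ℕ) (ht : 5 < t) (hn : t < n)
    (v : Fin t ↪ Fin n) (hv : ∀ j, T.IsMinusTwo (v j))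
    (hchain : ∀ j j' : Fin t, j'.val = j.val + 1 → T.a (v j) (v j') ≠ 0)
    (a0 a1 : Fin t) (ha0 : a0.val = 0) (ha1 : a1.val = 1)
    (hfirst : kk T (v a0) (v a1) = 1 ∧ kk T (v a1) (v a0) = 1) :
    ∃ w : ℤ, (∀ j k : Fin t, j.val + 1 < k.val → T.a (v j) (v k) = 0) ∧
      ((∀ j : Fin t, T.w (v j) = w) ∧ (∀ j j' : Fin t, j'.val = j.val + 1 → T.a (v j) (v j') = w) ∨
        ((∀ j : Fin t, j.val + 1 < t → T.w (v j) = w) ∧ (∀ j : Fin t, j.val + 1 = t → T.w (v j) = 2 * w) ∧
          (∀ j j' : Fin t, j'.val = j.val + 1 → j'.val + 1 < t → T.a (v j) (v j') = w) ∧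
          (∀ j j' : Fin t, j'.val = j.val + 1 → j'.val + 1 = t → T.a (v j) (v j') = 2 * w)) ∨
        ((∀ j : Fin t, j.val + 1 < t → T.w (v j) = 2 * w) ∧ (∀ j : Fin t, j.val + 1 = t → T.w (v j) = w) ∧
          (∀ j j' : Fin t, j'.val = j.val + 1 → T.a (v j) (v j') = 2 * w))) := by
  have h : IsChainOn T v 0 (t - 1) := fun j j' _ _ hjj => hchain j j' hjj
  obtain ⟨b1, hb1⟩ := exists_fin (t := t) (t - 2) (by omega)
  obtain ⟨b0, hb0⟩ := exists_fin (t := t) (t - 1) (by omega)
  obtain ⟨b2, hb2⟩ := exists_fin (t := t) (t - 3) (by omega)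
  -- all edges but the last are simple
  have hs : ∀ j j' : Fin t, 0 ≤ j.val → j'.val ≤ t - 2 → j'.val = j.val + 1 →
      kk T (v j) (v j') = 1 ∧ kk T (v j') (v j) = 1 := by
    intro j j' _ hj' hjj
    by_cases hj0 : j.val = 0
    · have e1 : j = a0 := Fin.ext (by omega)
      have e2 : j' = a1 := Fin.ext (by omega)
      rw [e1, e2]; exact hfirst
    · exact h.interior_simple hv hn (by omega) (by omega) j j' hjj (by omega) (by omega)
  have hzero : ∀ j k : Fin t, j.val + 1 < k.val → T.a (v j) (v k) = 0 := by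
    intro j k hjk
    have hkt := k.isLt
    exact a_of_K_zero T (h.nonadj_zero hv hn j k (by omega) (by omega) hjk)
  have hW : ∀ j : Fin t, j.val ≤ t - 2 → T.w (v j) = T.w (v a0) := by
    intro j hj
    exact IsChainOn.W_eq hs a0 j (by omega) (by omega) hj
  -- the last edge
  have hw3 := h.window3 hv hn b2 b1 b0 (by omega) (by omega) (by omega) (by omega)
  obtain ⟨-, -, u1, u2, -, bex⟩ := hw3
  have hK := h.K b1 b0 (by omega) (by omega) (by omega)
  have hmul := K_mul T (v b1) (v b0)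
  have hWb1 := hW b1 (by omega)
  have alast : T.a (v b1) (v b0) = kk T (v b1) (v b0) * T.w (v b1) := a_eq_kk T _ _
  have aedge : ∀ j j' : Fin t, j'.val = j.val + 1 → j'.val + 1 < t → T.a (v j) (v j') = T.w (v a0) := by
    intro j j' hjj hj'
    have hk := hs j j' (by omega) (by omega) hjj
    rw [a_of_K_one T hk.1]
    exact hW j (by omega)
  have elast : ∀ j j' : Fin t, j'.val = j.val + 1 → j'.val + 1 = t → j = b1 ∧ j' = b0 := by
    intro j j' hjj hj'
    exact ⟨Fin.ext (by omega), Fin.ext (by omega)⟩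
  have hcases : (kk T (v b1) (v b0) = 1 ∧ kk T (v b0) (v b1) = 1) ∨
      (kk T (v b1) (v b0) = 2 ∧ kk T (v b0) (v b1) = 1) ∨
      (kk T (v b1) (v b0) = 1 ∧ kk T (v b0) (v b1) = 2) := by
    have : ¬ (2 ≤ kk T (v b1) (v b0) ∧ 2 ≤ kk T (v b0) (v b1)) := bex
    omega
  rcases hcases with ⟨k1, k2⟩ | ⟨k1, k2⟩ | ⟨k1, k2⟩
  · -- type A
    rw [k1, k2] at hmul
    rw [k1] at alast
    refine ⟨T.w (v a0), hzero, Or.inl ⟨?_, ?_⟩⟩
    · intro j
      by_cases hj : j.val ≤ t - 2
      · exact hW j hj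
      · have e : j = b0 := Fin.ext (by have := j.isLt; omega)
        rw [e]; linarith
    · intro j j' hjj
      by_cases hj' : j'.val + 1 < t
      · exact aedge j j' hjj hj'
      · obtain ⟨e1, e2⟩ := elast j j' hjj (by have := j'.isLt; omega)
        rw [e1, e2]; linarith
  · -- type C
    rw [k1, k2] at hmul
    rw [k1] at alast
    refine ⟨T.w (v a0), hzero, Or.inr (Or.inl ⟨?_, ?_, ?_, ?_⟩)⟩
    · intro j hj
      exact hW j (by omega)
    · intro j hj
      have e : j = b0 := Fin.ext (by omega)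
      rw [e]; linarith
    · exact aedge
    · intro j j' hjj hj'
      obtain ⟨e1, e2⟩ := elast j j' hjj hj'
      rw [e1, e2]; linarith
  · -- type B
    rw [k1, k2] at hmul
    rw [k1] at alast
    refine ⟨T.w (v b0), hzero, Or.inr (Or.inr ⟨?_, ?_, ?_⟩)⟩
    · intro j hj
      have := hW j (by omega)
      linarith
    · intro j hj
      have e : j = b0 := Fin.ext (by omega)
      rw [e]
    · intro j j' hjj
      by_cases hj' : j'.val + 1 < t
      · have := aedge j j' hjj hj'
        linarith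
      · obtain ⟨e1, e2⟩ := elast j j' hjj (by have := j'.isLt; omega)
        rw [e1, e2]; linarith


/-- Let T be a numerical type on n indices, t > 5 with n > t, and i_1, …, i_t distinct (-2)-indices with
a_{i_j i_{j+1}} nonzero for j = 1, …, t - 1. Then, after possibly reversing the order of the
indices, for some integer w either (A) w_{i_1} = … = w_{i_t} = w and a_{i_j i_{j+1}} = w for all j;
or (C) w_{i_1} = … = w_{i_{t-1}} = w, w_{i_t} = 2w, a_{i_j i_{j+1}} = w for j < t - 1 and a_{i_{t-1}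
i_t} = 2w; or (B) w_{i_1} = … = w_{i_{t-1}} = 2w, w_{i_t} = w and a_{i_j i_{j+1}} = 2w for all j;
and in every case a_{i_j i_k} = 0 whenever k > j + 1. -/
theorem result {n : ℕ} (T : Models.NumericalType n) (t : ℕ) (ht : 5 < t) (hn : t < n)
    (v : Fin t ↪ Fin n) (hv : ∀ j, T.IsMinusTwo (v j))
    (hchain : ∀ j j' : Fin t, j'.val = j.val + 1 → T.a (v j) (v j') ≠ 0) :
    ∃ (u : Fin t → Fin n) (w : ℤ), ((∀ j, u j = v j) ∨ (∀ j, u j = v (Fin.rev j))) ∧
      (∀ j k : Fin t, j.val + 1 < k.val → T.a (u j) (u k) = 0) ∧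
      ((∀ j : Fin t, T.w (u j) = w) ∧ (∀ j j' : Fin t, j'.val = j.val + 1 → T.a (u j) (u j') = w) ∨
        ((∀ j : Fin t, j.val + 1 < t → T.w (u j) = w) ∧ (∀ j : Fin t, j.val + 1 = t → T.w (u j) = 2 * w) ∧
          (∀ j j' : Fin t, j'.val = j.val + 1 → j'.val + 1 < t → T.a (u j) (u j') = w) ∧
          (∀ j j' : Fin t, j'.val = j.val + 1 → j'.val + 1 = t → T.a (u j) (u j') = 2 * w)) ∨
        ((∀ j : Fin t, j.val + 1 < t → T.w (u j) = 2 * w) ∧ (∀ j : Fin t, j.val + 1 = t → T.w (u j) = w) ∧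
          (∀ j j' : Fin t, j'.val = j.val + 1 → T.a (u j) (u j') = 2 * w))) := by
  have h : IsChainOn T v 0 (t - 1) := fun j j' _ _ hjj => hchain j j' hjj
  obtain ⟨a0, ha0⟩ := exists_fin (t := t) 0 (by omega)
  obtain ⟨a1, ha1⟩ := exists_fin (t := t) 1 (by omega)
  obtain ⟨a2, ha2⟩ := exists_fin (t := t) 2 (by omega)
  obtain ⟨b2, hb2⟩ := exists_fin (t := t) (t - 3) (by omega)
  obtain ⟨b1, hb1⟩ := exists_fin (t := t) (t - 2) (by omega)
  obtain ⟨b0, hb0⟩ := exists_fin (t := t) (t - 1) (by omega)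
  by_cases hfirst : kk T (v a0) (v a1) = 1 ∧ kk T (v a1) (v a0) = 1
  · obtain ⟨w, hw⟩ := main T t ht hn v hv hchain a0 a1 ha0 ha1 hfirst
    exact ⟨v, w, Or.inl (fun _ => rfl), hw⟩
  · -- the last edge is then simple
    have hlast : kk T (v b0) (v b1) = 1 ∧ kk T (v b1) (v b0) = 1 := by
      by_contra hcon
      obtain ⟨u1, u2, -, -, bexa, -⟩ := h.window3 hv hn a0 a1 a2 (by omega) (by omega) (by omega) (by omega)
      obtain ⟨-, -, u3, u4, -, bexb⟩ := h.window3 hv hn b2 b1 b0 (by omega) (by omega) (by omega) (by omega)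
      have hKa := h.K a0 a1 (by omega) (by omega) (by omega)
      have hKb := h.K b1 b0 (by omega) (by omega) (by omega)
      have ca : kk T (v a0) (v a1) = 2 ∨ kk T (v a1) (v a0) = 2 := by omega
      have cb : kk T (v b0) (v b1) = 2 ∨ kk T (v b1) (v b0) = 2 := by omega
      rcases ca with ca | ca <;> rcases cb with cb | cb
      · exact ends_excl T t ht hn v hv h a0 a1 b1 b0 ha0 ha1 hb1 hb0 2 2 (by norm_num) (by norm_num)
          (by omega) (by omega) (by omega) (by omega)
      · exact ends_excl T t ht hn v hv h a0 a1 b1 b0 ha0 ha1 hb1 hb0 2 1 (by norm_num) (by norm_num)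
          (by omega) (by omega) (by omega) (by omega)
      · exact ends_excl T t ht hn v hv h a0 a1 b1 b0 ha0 ha1 hb1 hb0 1 2 (by norm_num) (by norm_num)
          (by omega) (by omega) (by omega) (by omega)
      · exact ends_excl T t ht hn v hv h a0 a1 b1 b0 ha0 ha1 hb1 hb0 1 1 (by norm_num) (by norm_num)
          (by omega) (by omega) (by omega) (by omega)
    -- apply the main lemma to the reversed chain
    let v' : Fin t ↪ Fin n := (Fin.revPerm (n := t)).toEmbedding.trans v
    have hv'a : ∀ j, v' j = v (Fin.rev j) := fun _ => rfl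
    have hrev : ∀ j : Fin t, (Fin.rev j).val = t - 1 - j.val := by
      intro j
      rw [Fin.val_rev]
      omega
    have hchain' : ∀ j j' : Fin t, j'.val = j.val + 1 → T.a (v' j) (v' j') ≠ 0 := by
      intro j j' hjj
      rw [hv'a, hv'a, a_symm]
      have hj't := j'.isLt
      exact hchain (Fin.rev j') (Fin.rev j) (by rw [hrev, hrev]; omega)
    have e0 : Fin.rev a0 = b0 := Fin.ext (by rw [hrev]; omega)
    have e1 : Fin.rev a1 = b1 := Fin.ext (by rw [hrev]; omega)
    obtain ⟨w, hw⟩ := main T t ht hn v' (fun j => hv _) hchain' a0 a1 ha0 ha1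
      (by rw [hv'a, hv'a, e0, e1]; exact hlast)
    exact ⟨v', w, Or.inr hv'a, hw⟩

end Groth.Agent.S7354
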