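import Groth.Statements.S7355
import Groth.Agent.Lib.Helper11Chain

set_option autoImplicit false
open Finset
open Models Models.NumericalType

namespace Groth.Agent.S7355

open Groth.Agent.Lib.Helper11

/-- the certificate for a fork at one end and a non-simple edge at the other end -/
theorem fork_excl {n : ℕ} (T : Models.NumericalType n) (t : ℕ) (ht : 4 < t) (hn : t + 1 < n)
    (v : Fin (t + 1) ↪ Fin n) (hv : ∀ j, T.IsMinusTwo (v j)) (h : IsChainOn T v 0 (t - 1))
    (a0 a1 g f e x : Fin (t + 1)) (ha0 : a0.val = 0) (ha1 : a1.val = 1) (hg : g.val = t - 3)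
    (hf : f.val = t - 2) (he : e.val = t - 1) (hx : x.val = t)
    (kfx : 1 ≤ kk T (v f) (v x)) (kxf : 1 ≤ kk T (v x) (v f))
    (α : ℤ) (hα : 0 ≤ α)
    (h0 : α ≤ kk T (v a0) (v a1)) (h1 : 2 ≤ kk T (v a1) (v a0) * α) : False := by
  let c : Fin (t + 1) → ℤ :=
    fun p => if p.val = 0 then α else if p.val = t - 1 ∨ p.val = t then 1 else 2
  have hca : ∀ p : Fin (t + 1), p.val = 0 → c p = α := fun p hp => if_pos hp
  have hc1 : ∀ p : Fin (t + 1), p.val = t - 1 ∨ p.val = t → c p = 1 := fun p hp => by
    have : ¬ p.val = 0 := by omega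
    simp only [c, if_neg this, if_pos hp]
  have hc2 : ∀ p : Fin (t + 1), 1 ≤ p.val → p.val ≤ t - 2 → c p = 2 := fun p hp hp' => by
    have h1 : ¬ p.val = 0 := by omega
    have h2 : ¬ (p.val = t - 1 ∨ p.val = t) := by omega
    simp only [c, if_neg h1, if_neg h2]
  have hc0 : ∀ p, 0 ≤ c p := by
    intro p
    by_cases hp : p.val = 0
    · rw [hca p hp]; exact hα
    by_cases hp' : p.val = t - 1 ∨ p.val = t
    · rw [hc1 p hp']; norm_num
    · rw [hc2 p (by omega) (by have := p.isLt; omega)]; norm_num
  refine (h.mono (lo' := 1) (hi' := t - 2) (by omega) (by omega)).cert hv hn (by omega) (by omega)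
    c hc0 hc2 ?_
  intro p _ hint
  have hpt := p.isLt
  obtain ⟨r2, hr2⟩ := exists_fin (t := t + 1) 2 (by omega)
  have hp5 : p.val = 0 ∨ p.val = 1 ∨ p.val = t - 2 ∨ p.val = t - 1 ∨ p.val = t := by omega
  rcases hp5 with hp | hp | hp | hp | hp
  · have e' : p = a0 := Fin.ext (by omega)
    subst e'
    have hrow := row_ge_one T v hv c hc0 p a1 (fin_ne (by omega))
    rw [hca p hp, hc2 a1 (by omega) (by omega)] at hrow
    linarith
  · have e' : p = a1 := Fin.ext (by omega)
    subst e'
    have k12 := (h.K p r2 (by omega) (by omega) (by omega)).1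
    have hrow := row_ge_two T v hv c hc0 p a0 r2 (fin_ne (by omega)) (fin_ne (by omega))
      (fin_ne (by omega))
    rw [hc2 p (by omega) (by omega), hca a0 ha0, hc2 r2 (by omega) (by omega)] at hrow
    linarith
  · have e' : p = f := Fin.ext (by omega)
    subst e'
    have kg := (h.K g p (by omega) (by omega) (by omega)).2
    have ke := (h.K p e (by omega) (by omega) (by omega)).1
    have hrow := row_ge_three T v hv c hc0 p g e x (fin_ne (by omega)) (fin_ne (by omega))
      (fin_ne (by omega)) (fin_ne (by omega)) (fin_ne (by omega)) (fin_ne (by omega))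
    rw [hc2 p (by omega) (by omega), hc2 g (by omega) (by omega), hc1 e (Or.inl he),
      hc1 x (Or.inr hx)] at hrow
    linarith
  · have e' : p = e := Fin.ext (by omega)
    subst e'
    have ke := (h.K f p (by omega) (by omega) (by omega)).2
    have hrow := row_ge_one T v hv c hc0 p f (fin_ne (by omega))
    rw [hc1 p (Or.inl hp), hc2 f (by omega) (by omega)] at hrow
    linarith
  · have e' : p = x := Fin.ext (by omega)
    subst e'
    have hrow := row_ge_one T v hv c hc0 p f (fin_ne (by omega))
    rw [hc1 p (Or.inr hp), hc2 f (by omega) (by omega)] at hrow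
    linarith


/-- Classification of proper subgraphs of type D: let T be a numerical type on n indices, t > 4 with n >
t + 1, and i_1, …, i_{t+1} distinct (-2)-indices such that a_{i_j i_{j+1}} is nonzero for j = 1, …,
t - 1 and a_{i_{t-1} i_{t+1}} is nonzero. Then for some integer w one has w_{i_1} = … = w_{i_{t+1}}
= w, a_{i_j i_{j+1}} = w for j < t, a_{i_{t-1} i_{t+1}} = w, and a_{i_j i_k} = 0 for all other pairs
j ≠ k. -/
theorem result {n : ℕ} (T : Models.NumericalType n) (t : ℕ) (ht : 4 < t) (hn : t + 1 < n)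
    (v : Fin (t + 1) ↪ Fin n) (hv : ∀ j, T.IsMinusTwo (v j))
    (hchain : ∀ j j' : Fin (t + 1), j'.val = j.val + 1 → j'.val < t → T.a (v j) (v j') ≠ 0)
    (hbranch : ∀ j j' : Fin (t + 1), j.val + 2 = t → j'.val = t → T.a (v j) (v j') ≠ 0) :
    ∃ w : ℤ, (∀ j : Fin (t + 1), T.w (v j) = w) ∧
      (∀ j j' : Fin (t + 1), j'.val = j.val + 1 → j'.val < t → T.a (v j) (v j') = w) ∧
      (∀ j j' : Fin (t + 1), j.val + 2 = t → j'.val = t → T.a (v j) (v j') = w) ∧
      (∀ j k : Fin (t + 1), j.val < k.val → ¬ (k.val = j.val + 1 ∧ k.val < t) → ¬ (j.val + 2 = t ∧ k.val = t) →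
        T.a (v j) (v k) = 0) := by
  have h : IsChainOn T v 0 (t - 1) := fun j j' _ hj' hjj => hchain j j' hjj (by omega)
  obtain ⟨a0, ha0⟩ := exists_fin (t := t + 1) 0 (by omega)
  obtain ⟨a1, ha1⟩ := exists_fin (t := t + 1) 1 (by omega)
  obtain ⟨a2, ha2⟩ := exists_fin (t := t + 1) 2 (by omega)
  obtain ⟨g, hg⟩ := exists_fin (t := t + 1) (t - 3) (by omega)
  obtain ⟨f, hf⟩ := exists_fin (t := t + 1) (t - 2) (by omega)
  obtain ⟨e, he⟩ := exists_fin (t := t + 1) (t - 1) (by omega)
  obtain ⟨x, hx⟩ := exists_fin (t := t + 1) t (by omega)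
  -- the fork
  have afg : T.a (v f) (v g) ≠ 0 := by
    rw [a_symm]; exact h g f (by omega) (by omega) (by omega)
  have afe : T.a (v f) (v e) ≠ 0 := h f e (by omega) (by omega) (by omega)
  have afx : T.a (v f) (v x) ≠ 0 := hbranch f x (by omega) hx
  have hD4 := D4_K T ((emb4 f g e x (fin_ne (by omega)) (fin_ne (by omega)) (fin_ne (by omega))
    (fin_ne (by omega)) (fin_ne (by omega)) (fin_ne (by omega))).trans v) (fun j => hv _) (by omega)
    afg afe afx
  obtain ⟨zge, zeg, zgx, zxg, zex, zxe, ufg, ugf, ufe, uef, ufx, uxf⟩ := hD4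
  change kk T (v g) (v e) = 0 at zge
  change kk T (v e) (v x) = 0 at zex
  change kk T (v g) (v x) = 0 at zgx
  change kk T (v f) (v g) ≤ 1 at ufg
  change kk T (v g) (v f) ≤ 1 at ugf
  change kk T (v f) (v e) ≤ 1 at ufe
  change kk T (v e) (v f) ≤ 1 at uef
  change kk T (v f) (v x) ≤ 1 at ufx
  change kk T (v x) (v f) ≤ 1 at uxf
  have kfx := K_pos T v (fin_ne (by omega)) afx
  have kxf := K_pos' T v (fin_ne (by omega)) afx
  have kfe := h.K f e (by omega) (by omega) (by omega)
  -- the first edge
  have hfirst : kk T (v a0) (v a1) = 1 ∧ kk T (v a1) (v a0) = 1 := by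
    obtain ⟨u1, u2, -, -, -, -⟩ := h.window3 hv hn a0 a1 a2 (by omega) (by omega) (by omega) (by omega)
    have hKa := h.K a0 a1 (by omega) (by omega) (by omega)
    by_contra hcon
    have ca : kk T (v a0) (v a1) = 2 ∨ kk T (v a1) (v a0) = 2 := by omega
    rcases ca with ca | ca
    · exact fork_excl T t ht hn v hv h a0 a1 g f e x ha0 ha1 hg hf he hx kfx kxf 2 (by norm_num)
        (by omega) (by omega)
    · exact fork_excl T t ht hn v hv h a0 a1 g f e x ha0 ha1 hg hf he hx kfx kxf 1 (by norm_num)
        (by omega) (by omega)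
  -- all chain edges are simple
  have hs : ∀ j j' : Fin (t + 1), 0 ≤ j.val → j'.val ≤ t - 1 → j'.val = j.val + 1 →
      kk T (v j) (v j') = 1 ∧ kk T (v j') (v j) = 1 := by
    intro j j' _ hj' hjj
    by_cases hj0 : j.val = 0
    · have e1 : j = a0 := Fin.ext (by omega)
      have e2 : j' = a1 := Fin.ext (by omega)
      rw [e1, e2]; exact hfirst
    by_cases hjl : j'.val = t - 1
    · have e1 : j = f := Fin.ext (by omega)
      have e2 : j' = e := Fin.ext (by omega)
      rw [e1, e2]
      omega
    · exact h.interior_simple hv hn (by omega) (by omega) j j' hjj (by omega) (by omega)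
  have hW : ∀ j : Fin (t + 1), j.val ≤ t - 1 → T.w (v j) = T.w (v a0) := by
    intro j hj
    exact IsChainOn.W_eq hs a0 j (by omega) (by omega) hj
  have hWx : T.w (v x) = T.w (v a0) := by
    rw [← hW f (by omega)]
    exact W_eq_of_K_one T (by omega) (by omega)
  refine ⟨T.w (v a0), ?_, ?_, ?_, ?_⟩
  · intro j
    by_cases hj : j.val ≤ t - 1
    · exact hW j hj
    · have e' : j = x := Fin.ext (by have := j.isLt; omega)
      rw [e']; exact hWx
  · intro j j' hjj hj'
    have hk := hs j j' (by omega) (by omega) hjj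
    rw [a_of_K_one T hk.1]
    exact hW j (by omega)
  · intro j j' hj hj'
    have e1 : j = f := Fin.ext (by omega)
    have e2 : j' = x := Fin.ext (by omega)
    rw [e1, e2, a_of_K_one T (by omega : kk T (v f) (v x) = 1)]
    exact hW f (by omega)
  · intro j k hjk hne1 hne2
    have hkt := k.isLt
    by_cases hk : k.val ≤ t - 1
    · exact a_of_K_zero T (h.nonadj_zero hv hn j k (by omega) hk (by omega))
    · have ek : k = x := Fin.ext (by omega)
      subst ek
      by_cases hje : j.val = t - 1
      · have ej : j = e := Fin.ext (by omega)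
        rw [ej]
        exact a_of_K_zero T zex
      · -- the cycle j, j + 1, ..., t - 2, t
        have hjf : j.val ≤ t - 3 := by omega
        apply a_of_K_zero T
        by_contra hcon
        have hnejk : j ≠ k := fin_ne (by omega)
        have k1 : 1 ≤ kk T (v j) (v k) := by
          have := K_nonneg T v hnejk
          omega
        have k2 : 1 ≤ kk T (v k) (v j) := K_symm_pos T v hnejk k1
        have hmem : ∀ r : Fin (t + 1),
            r ∈ (Finset.univ.filter fun r : Fin (t + 1) =>
              (j.val ≤ r.val ∧ r.val ≤ t - 2) ∨ r.val = t) ↔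
            ((j.val ≤ r.val ∧ r.val ≤ t - 2) ∨ r.val = t) := by
          intro r
          simp only [Finset.mem_filter, Finset.mem_univ, true_and]
        refine no_two_neighbors T v hv hn
          (Finset.univ.filter fun r : Fin (t + 1) => (j.val ≤ r.val ∧ r.val ≤ t - 2) ∨ r.val = t)
          ⟨j, (hmem j).mpr (by omega)⟩ ?_
        intro r hr
        rw [hmem] at hr
        have hrt := r.isLt
        by_cases hrx : r.val = t
        · have er : r = k := Fin.ext (by omega)
          subst er
          exact ⟨f, (hmem f).mpr (by omega), j, (hmem j).mpr (by omega), fin_ne (by omega),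
            fin_ne (by omega), fin_ne (by omega), kxf, k2⟩
        by_cases hrj : r.val = j.val
        · have er : r = j := Fin.ext hrj
          subst er
          obtain ⟨r1, hr1⟩ := exists_fin (t := t + 1) (r.val + 1) (by omega)
          exact ⟨r1, (hmem r1).mpr (by omega), k, (hmem k).mpr (by omega), fin_ne (by omega),
            hnejk, fin_ne (by omega), (h.K r r1 (by omega) (by omega) hr1).1, k1⟩
        by_cases hrf : r.val = t - 2
        · have er : r = f := Fin.ext (by omega)
          subst er
          exact ⟨g, (hmem g).mpr (by omega), k, (hmem k).mpr (by omega), fin_ne (by omega),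
            fin_ne (by omega), fin_ne (by omega), (h.K g r (by omega) (by omega) (by omega)).2, kfx⟩
        · obtain ⟨ra, hra⟩ := exists_fin (t := t + 1) (r.val - 1) (by omega)
          obtain ⟨rb, hrb⟩ := exists_fin (t := t + 1) (r.val + 1) (by omega)
          exact ⟨ra, (hmem ra).mpr (by omega), rb, (hmem rb).mpr (by omega), fin_ne (by omega),
            fin_ne (by omega), fin_ne (by omega), (h.K ra r (by omega) (by omega) (by omega)).2,
            (h.K r rb (by omega) (by omega) hrb).1⟩

end Groth.Agent.S7355
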