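import Groth.Statements.S9833
import Groth.Agent.Lib.Helper14Japanese

set_option autoImplicit false
universe u
open CategoryTheory AlgebraicGeometry TopologicalSpace
open Props

namespace Groth.Agent.S9833

/-- If a scheme has an affine open covering by spectra of Nagata rings, then the coordinate ring of
every affine open is Nagata. -/
theorem result (X : Scheme.{u}) {ι : Type u} (U : ι → X.Opens)
    (hU : iSup U = ⊤) (haff : ∀ i, IsAffineOpen (U i)) (hN : ∀ i, CAlg.IsNagata Γ(X, U i))
    (V : X.Opens) (hV : IsAffineOpen V) : CAlg.IsNagata Γ(X, V) := by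
  refine of_affine_open_cover (P := fun W : X.affineOpens => CAlg.IsNagata Γ(X, W.1))
    (fun i => ⟨U i, haff i⟩) (by simpa using hU) ⟨V, hV⟩ ?_ ?_ hN
  · intro W f hW
    haveI := W.2.isLocalization_basicOpen f
    exact Groth.Agent.Lib.Helper14.isNagata_of_isLocalization Γ(X, W.1) (Submonoid.powers f)
      Γ(X, X.basicOpen f) hW
  · intro W s hs h
    haveI : ∀ f : s, IsLocalization.Away f.1 Γ(X, X.basicOpen f.1) :=
      fun f => W.2.isLocalization_basicOpen f.1
    exact Groth.Agent.Lib.Helper14.isNagata_of_away_cover' Γ(X, W.1) (fun f : s => f.1)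
      (by simpa using hs) (fun f => Γ(X, X.basicOpen f.1)) h

end Groth.Agent.S9833
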