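import Groth.Statements.S7359
import Mathlib
import Groth.Agent.S2351
import Groth.Agent.S9674
import Groth.Agent.S9833
import Groth.Agent.S0566
import Groth.Agent.Lib.Helper2BlowProper
-- import your own Groth.Agent.* helpers here

set_option autoImplicit false
set_option linter.style.haveILetI false
set_option linter.unusedSectionVars false
universe u
open CategoryTheory CategoryTheory.Limits AlgebraicGeometry
open Resolve

namespace Groth.Agent.S7359

/-- affine opens of a scheme locally of finite type over a scheme with Nagata affine opens are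
Nagata -/
theorem isNagata_of_lft {Y X : Scheme.{u}} (f : Y ⟶ X) [LocallyOfFiniteType f]
    (hX : ∀ U : X.affineOpens, CAlg.IsNagata Γ(X, U.1)) (V : Y.affineOpens) :
    CAlg.IsNagata Γ(Y, V.1) := by
  let ι : Type u := {W : Y.affineOpens // ∃ U : X.affineOpens, W.1 ≤ f ⁻¹ᵁ U.1}
  refine Groth.Agent.S9833.result Y (ι := ι) (fun W => W.1.1) ?_ (fun W => W.1.2) ?_ V.1 V.2
  · rw [eq_top_iff]
    intro y _
    obtain ⟨_, ⟨U, hU, rfl⟩, hyU, -⟩ := X.isBasis_affineOpens.exists_subset_of_mem_open
      (Set.mem_univ (f y)) isOpen_univ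
    obtain ⟨_, ⟨W, hW, rfl⟩, hyW, hWU⟩ := Y.isBasis_affineOpens.exists_subset_of_mem_open
      (show y ∈ (f ⁻¹ᵁ U : Y.Opens) from hyU) (f ⁻¹ᵁ U).2
    exact TopologicalSpace.Opens.mem_iSup.mpr ⟨⟨⟨W, hW⟩, ⟨U, hU⟩, hWU⟩, hyW⟩
  · rintro ⟨W, U, hWU⟩
    have h1 : (f.appLE U.1 W.1 hWU).hom.FiniteType :=
      HasRingHomProperty.appLE (P := @LocallyOfFiniteType) f inferInstance U W hWU
    letI := (f.appLE U.1 W.1 hWU).hom.toAlgebra
    haveI : Algebra.FiniteType Γ(X, U.1) Γ(Y, W.1) := h1
    exact Groth.Agent.S0566.result Γ(X, U.1) (hX U) Γ(Y, W.1)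


/-- Let X be an integral locally Noetherian Nagata scheme (every affine open has a Nagata coordinate
ring), x ∈ X a closed point, b : X' → X the blowing up of X at x (in the reduced point; X' is again
integral) and X'' → X' the normalization of X'. Then the normalized blowing up X'' is a normal
scheme, is Nagata, and X'' → X is proper. (The quasi-compactness and quasi-separatedness binders on
Spec K(X') → X' always hold; they are needed only to form the normalization.) -/
theorem result (X : Scheme.{u}) [IsIntegral X] [IsLocallyNoetherian X]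
    (hN : ∀ U : X.affineOpens, CAlg.IsNagata Γ(X, U.1)) (x : X) (hx : IsClosed ({x} : Set X))
    (X' : Scheme.{u}) (b : X' ⟶ X) (hb : BlowUp.IsBlowUp b (Scheme.IdealSheafData.vanishingIdeal ⟨{x}, hx⟩)) [IsIntegral X']
    [QuasiCompact (X'.fromSpecStalk (genericPoint X'))] [QuasiSeparated (X'.fromSpecStalk (genericPoint X'))] :
    Pi1.IsNormalScheme (Curv2.normalization X') ∧
      (∀ U : (Curv2.normalization X').affineOpens, CAlg.IsNagata Γ(Curv2.normalization X', U.1)) ∧
      IsProper (Curv2.normalizationι X' ≫ b) := by
  have hft : BlowUp.IsFiniteTypeIdeal (Scheme.IdealSheafData.vanishingIdeal ⟨{x}, hx⟩) := by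
    intro U
    haveI : IsNoetherianRing Γ(X, U.1) := IsLocallyNoetherian.component_noetherian U
    exact IsNoetherian.noetherian _
  haveI hbp : IsProper b := Groth.Agent.Lib.Helper2.BlowProper.isProper_of_isBlowUp _ hft b hb
  have hN' : ∀ V : X'.affineOpens, CAlg.IsNagata Γ(X', V.1) := isNagata_of_lft b hN
  obtain ⟨hint, hnorm, -, -, -⟩ := Groth.Agent.S2351.result X'
  have hsub : Subsingleton (Spec X'.functionField) :=
    inferInstanceAs (Subsingleton (PrimeSpectrum X'.functionField))
  have hfin : IsFinite (X'.fromSpecStalk (genericPoint X')).fromNormalization := by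
    apply Groth.Agent.S9674.result (X'.fromSpecStalk (genericPoint X')) hN'
    · haveI : Finite (Spec X'.functionField) := Finite.of_subsingleton
      haveI : Finite (irreducibleComponents (Spec X'.functionField)) := Subtype.finite
      exact locallyFinite_of_finite _
    · intro pt _
      have hsurj : Function.Surjective
          ((X'.fromSpecStalk (genericPoint X')).residueFieldMap pt).hom := by
        intro z
        obtain ⟨b', rfl⟩ := IsLocalRing.residue_surjective z
        obtain ⟨a, rfl⟩ := (X'.fromSpecStalk (genericPoint X')).stalkMap_surjective pt b'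
        refine ⟨X'.residue ((X'.fromSpecStalk (genericPoint X')) pt) a, ?_⟩
        have := Scheme.residue_residueFieldMap (X'.fromSpecStalk (genericPoint X')) pt
        exact congr($(this) a)
      exact (RingHom.FiniteType.of_surjective _ hsurj).essFiniteType
  haveI : IsFinite (Curv2.normalizationι X') := hfin
  refine ⟨hnorm, ?_, inferInstance⟩
  exact isNagata_of_lft (Curv2.normalizationι X' ≫ b) hN

end Groth.Agent.S7359
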