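import Groth.Statements.S7362
import Groth.Agent.Lib.Helper11Aff

set_option autoImplicit false
open Finset
open Models Models.NumericalType

namespace Groth.Agent.S7362

open Groth.Agent.Lib.Helper11

/-- Genus one classification: case n = 2: let T be a minimal numerical type of genus 1 on two indices.
Then for some ordering i, j of the indices and some integers m, w, either m_i = m_j = m, a_ii = a_jj
= -2w, a_ij = 2w, w_i = w_j = w, g_i = g_j = 0; or m_i = 2m, m_j = m, a_ii = -2w, a_ij = 4w, a_jj =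
-8w, w_i = w, w_j = 4w, g_i = g_j = 0. Only the classification direction is stated. -/
theorem result (T : Models.NumericalType 2) (hmin : T.IsMinimal) (hg : T.genus = 1) :
    ∃ (i j : Fin 2) (m w : ℤ), i ≠ j ∧ T.g i = 0 ∧ T.g j = 0 ∧
      ((T.m i = m ∧ T.m j = m ∧ T.a i i = -2 * w ∧ T.a i j = 2 * w ∧ T.a j j = -2 * w ∧ T.w i = w ∧ T.w j = w) ∨
        (T.m i = 2 * m ∧ T.m j = m ∧ T.a i i = -2 * w ∧ T.a i j = 4 * w ∧ T.a j j = -8 * w ∧ T.w i = w ∧ T.w j = 4 * w)) := by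
  have h2 := all_minusTwo_of_genus_one T (by norm_num) hmin hg
  have r0 := kk_row T 0
  have r1 := kk_row T 1
  rw [Fin.sum_univ_two] at r0 r1
  rw [kk_minusTwo T (h2 0)] at r0
  rw [kk_minusTwo T (h2 1)] at r1
  have hm0 := T.m_pos 0
  have hm1 := T.m_pos 1
  have hw0 := T.w_pos 0
  have hw1 := T.w_pos 1
  have k01 : 0 ≤ kk T 0 1 := kk_nonneg T (by decide)
  have k10 : 0 ≤ kk T 1 0 := kk_nonneg T (by decide)
  have hmul := K_mul T 0 1
  have a01 := a_eq_kk T 0 1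
  have a00 := (h2 0).2
  have a11 := (h2 1).2
  -- the product of the two Cartan integers is four
  have hprod : kk T 0 1 * kk T 1 0 = 4 := by
    have e1 : kk T 0 1 * T.m 1 = 2 * T.m 0 := by linarith
    have e2 : kk T 1 0 * T.m 0 = 2 * T.m 1 := by linarith
    have e3 : (kk T 0 1 * kk T 1 0) * (T.m 0 * T.m 1) = 4 * (T.m 0 * T.m 1) := by
      calc (kk T 0 1 * kk T 1 0) * (T.m 0 * T.m 1)
          = (kk T 0 1 * T.m 1) * (kk T 1 0 * T.m 0) := by ring
        _ = (2 * T.m 0) * (2 * T.m 1) := by rw [e1, e2]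
        _ = 4 * (T.m 0 * T.m 1) := by ring
    exact mul_right_cancel₀ (mul_pos hm0 hm1).ne' e3
  have k10' : 1 ≤ kk T 1 0 := by
    by_contra hcon
    have : kk T 1 0 = 0 := by omega
    rw [this] at hprod
    norm_num at hprod
  have hle : kk T 0 1 ≤ 4 := by nlinarith
  have hcases : (kk T 0 1 = 2 ∧ kk T 1 0 = 2) ∨ (kk T 0 1 = 4 ∧ kk T 1 0 = 1) ∨
      (kk T 0 1 = 1 ∧ kk T 1 0 = 4) := by
    have h1 : kk T 0 1 = 0 ∨ kk T 0 1 = 1 ∨ kk T 0 1 = 2 ∨ kk T 0 1 = 3 ∨ kk T 0 1 = 4 := by omega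
    rcases h1 with h | h | h | h | h <;> rw [h] at hprod <;> omega
  rcases hcases with ⟨e1, e2⟩ | ⟨e1, e2⟩ | ⟨e1, e2⟩
  · rw [e1] at r0 a01
    rw [e1, e2] at hmul
    refine ⟨0, 1, T.m 0, T.w 0, by decide, (h2 0).1, (h2 1).1, Or.inl ⟨rfl, by linarith, a00, by linarith, ?_, rfl, by linarith⟩⟩
    rw [a11]; linarith
  · rw [e1] at r0 a01
    rw [e1, e2] at hmul
    refine ⟨0, 1, T.m 1, T.w 0, by decide, (h2 0).1, (h2 1).1, Or.inr ⟨by linarith, rfl, a00, by linarith, ?_, rfl, by linarith⟩⟩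
    rw [a11]; linarith
  · rw [e2] at r1
    rw [e1, e2] at hmul
    have a10 := a_eq_kk T 1 0
    rw [e2] at a10
    refine ⟨1, 0, T.m 0, T.w 1, by decide, (h2 1).1, (h2 0).1, Or.inr ⟨by linarith, rfl, a11, by linarith, ?_, rfl, by linarith⟩⟩
    rw [a00]; linarith

end Groth.Agent.S7362
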