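import Groth.Statements.S7363
import Groth.Agent.Lib.Helper11FinE

set_option autoImplicit false
open Finset
open Models Models.NumericalType

namespace Groth.Agent.S7363

open Groth.Agent.Lib.Helper11

theorem chain3 (T : Models.NumericalType 3) (h2 : ∀ i, T.IsMinusTwo i) (a b c : Fin 3)
    (hab : a ≠ b) (hac : a ≠ c) (hbc : b ≠ c) (e1 : T.a a b ≠ 0) (e2 : T.a b c ≠ 0)
    (e3 : T.a a c = 0) :
    ∃ (i j k : Fin 3) (m w : ℤ), i ≠ j ∧ j ≠ k ∧ i ≠ k ∧ T.g i = 0 ∧ T.g j = 0 ∧ T.g k = 0 ∧
      ((T.m i = m ∧ T.m j = m ∧ T.m k = m ∧ T.a i i = -2 * w ∧ T.a j j = -2 * w ∧ T.a k k = -2 * w ∧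
          T.a i j = w ∧ T.a i k = w ∧ T.a j k = w ∧ T.w i = w ∧ T.w j = w ∧ T.w k = w) ∨
        (T.m i = m ∧ T.m j = 2 * m ∧ T.m k = m ∧ T.a i i = -2 * w ∧ T.a i j = w ∧ T.a i k = 0 ∧ T.a j j = -2 * w ∧
          T.a j k = 3 * w ∧ T.a k k = -6 * w ∧ T.w i = w ∧ T.w j = w ∧ T.w k = 3 * w) ∨
        (T.m i = m ∧ T.m j = 2 * m ∧ T.m k = 3 * m ∧ T.a i i = -6 * w ∧ T.a i j = 3 * w ∧ T.a i k = 0 ∧ T.a j j = -6 * w ∧
          T.a j k = 3 * w ∧ T.a k k = -2 * w ∧ T.w i = 3 * w ∧ T.w j = 3 * w ∧ T.w k = w) ∨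
        (T.m i = 2 * m ∧ T.m j = 2 * m ∧ T.m k = m ∧ T.a i i = -2 * w ∧ T.a i j = 2 * w ∧ T.a i k = 0 ∧ T.a j j = -4 * w ∧
          T.a j k = 4 * w ∧ T.a k k = -8 * w ∧ T.w i = w ∧ T.w j = 2 * w ∧ T.w k = 4 * w) ∨
        (T.m i = m ∧ T.m j = m ∧ T.m k = m ∧ T.a i i = -2 * w ∧ T.a i j = 2 * w ∧ T.a i k = 0 ∧ T.a j j = -4 * w ∧
          T.a j k = 2 * w ∧ T.a k k = -2 * w ∧ T.w i = w ∧ T.w j = 2 * w ∧ T.w k = w) ∨
        (T.m i = m ∧ T.m j = 2 * m ∧ T.m k = m ∧ T.a i i = -4 * w ∧ T.a i j = 2 * w ∧ T.a i k = 0 ∧ T.a j j = -2 * w ∧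
          T.a j k = 2 * w ∧ T.a k k = -4 * w ∧ T.w i = 2 * w ∧ T.w j = w ∧ T.w k = 2 * w)) := by
  have huniv' : ∀ a b c : Fin 3, a ≠ b → a ≠ c → b ≠ c → (univ : Finset (Fin 3)) = {a, b, c} := by
    decide
  have huniv := huniv' a b c hab hac hbc
  have hsum : ∀ f : Fin 3 → ℤ, ∑ j, f j = f a + f b + f c := by
    intro f
    rw [huniv, Finset.sum_insert (by simp [hab, hac]), Finset.sum_pair hbc]
    ring
  have ra := kk_row T a
  have rb := kk_row T b
  have rc := kk_row T c
  rw [hsum] at ra rb rc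
  rw [kk_minusTwo T (h2 a), kk_eq_zero T e3] at ra
  rw [kk_minusTwo T (h2 b)] at rb
  rw [kk_minusTwo T (h2 c), kk_eq_zero T (by rw [a_symm]; exact e3)] at rc
  have ma := T.m_pos a
  have mb := T.m_pos b
  have mc := T.m_pos c
  have wa := T.w_pos a
  have wb := T.w_pos b
  have wc := T.w_pos c
  have kab := kk_pos T hab e1
  have kba := kk_pos' T hab e1
  have kbc := kk_pos T hbc e2
  have kcb := kk_pos' T hbc e2
  have wab := K_mul T a b
  have wbc := K_mul T b c
  have aab := a_eq_kk T a b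
  have abc := a_eq_kk T b c
  have aba := a_eq_kk T b a
  have acb := a_eq_kk T c b
  have aca : T.a c a = 0 := by rw [a_symm]; exact e3
  have daa := (h2 a).2
  have dbb := (h2 b).2
  have dcc := (h2 c).2
  -- the products of the Cartan integers add up to four
  have hprod : kk T a b * kk T b a + kk T c b * kk T b c = 4 := by
    have h1 : kk T a b * T.m b = 2 * T.m a := by linarith
    have h3 : kk T c b * T.m b = 2 * T.m c := by linarith
    have h4 : (kk T a b * kk T b a + kk T c b * kk T b c) * T.m b = 4 * T.m b := by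
      have : 2 * (kk T b a * T.m a) + 2 * (kk T b c * T.m c) = 4 * T.m b := by linarith
      calc (kk T a b * kk T b a + kk T c b * kk T b c) * T.m b
          = kk T b a * (kk T a b * T.m b) + kk T b c * (kk T c b * T.m b) := by ring
        _ = kk T b a * (2 * T.m a) + kk T b c * (2 * T.m c) := by rw [h1, h3]
        _ = 4 * T.m b := by linarith
    exact mul_right_cancel₀ mb.ne' h4
  have b1 : kk T a b ≤ 3 := by nlinarith
  have b2 : kk T b a ≤ 3 := by nlinarith
  have b3 : kk T b c ≤ 3 := by nlinarith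
  have b4 : kk T c b ≤ 3 := by nlinarith
  generalize hA : kk T a b = A at *
  generalize hA' : kk T b a = A' at *
  generalize hB : kk T b c = B at *
  generalize hB' : kk T c b = B' at *
  interval_cases A <;> interval_cases A' <;> interval_cases B <;> interval_cases B' <;>
    first
    | (exfalso; omega)
    | exact ⟨a, b, c, T.m a, T.w a, hab, hbc, hac, (h2 a).1, (h2 b).1, (h2 c).1, Or.inr (Or.inl ⟨by first | rfl | linarith, by first | rfl | linarith, by first | rfl | linarith, by first | rfl | linarith, by first | rfl | linarith, by first | rfl | linarith, by first | rfl | linarith, by first | rfl | linarith, by first | rfl | linarith, by first | rfl | linarith, by first | rfl | linarith, by first | rfl | linarith⟩)⟩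
    | exact ⟨a, b, c, T.m a, T.w c, hab, hbc, hac, (h2 a).1, (h2 b).1, (h2 c).1, Or.inr (Or.inr (Or.inl ⟨by first | rfl | linarith, by first | rfl | linarith, by first | rfl | linarith, by first | rfl | linarith, by first | rfl | linarith, by first | rfl | linarith, by first | rfl | linarith, by first | rfl | linarith, by first | rfl | linarith, by first | rfl | linarith, by first | rfl | linarith, by first | rfl | linarith⟩))⟩
    | exact ⟨c, b, a, T.m c, T.w a, hbc.symm, hab.symm, hac.symm, (h2 c).1, (h2 b).1, (h2 a).1, Or.inr (Or.inr (Or.inl ⟨by first | rfl | linarith, by first | rfl | linarith, by first | rfl | linarith, by first | rfl | linarith, by first | rfl | linarith, by first | rfl | linarith, by first | rfl | linarith, by first | rfl | linarith, by first | rfl | linarith, by first | rfl | linarith, by first | rfl | linarith, by first | rfl | linarith⟩))⟩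
    | exact ⟨c, b, a, T.m c, T.w c, hbc.symm, hab.symm, hac.symm, (h2 c).1, (h2 b).1, (h2 a).1, Or.inr (Or.inl ⟨by first | rfl | linarith, by first | rfl | linarith, by first | rfl | linarith, by first | rfl | linarith, by first | rfl | linarith, by first | rfl | linarith, by first | rfl | linarith, by first | rfl | linarith, by first | rfl | linarith, by first | rfl | linarith, by first | rfl | linarith, by first | rfl | linarith⟩)⟩
    | exact ⟨a, b, c, T.m c, T.w a, hab, hbc, hac, (h2 a).1, (h2 b).1, (h2 c).1, Or.inr (Or.inr (Or.inr (Or.inl ⟨by first | rfl | linarith, by first | rfl | linarith, by first | rfl | linarith, by first | rfl | linarith, by first | rfl | linarith, by first | rfl | linarith, by first | rfl | linarith, by first | rfl | linarith, by first | rfl | linarith, by first | rfl | linarith, by first | rfl | linarith, by first | rfl | linarith⟩)))⟩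
    | exact ⟨c, b, a, T.m a, T.w c, hbc.symm, hab.symm, hac.symm, (h2 c).1, (h2 b).1, (h2 a).1, Or.inr (Or.inr (Or.inr (Or.inl ⟨by first | rfl | linarith, by first | rfl | linarith, by first | rfl | linarith, by first | rfl | linarith, by first | rfl | linarith, by first | rfl | linarith, by first | rfl | linarith, by first | rfl | linarith, by first | rfl | linarith, by first | rfl | linarith, by first | rfl | linarith, by first | rfl | linarith⟩)))⟩
    | exact ⟨a, b, c, T.m a, T.w a, hab, hbc, hac, (h2 a).1, (h2 b).1, (h2 c).1, Or.inr (Or.inr (Or.inr (Or.inr (Or.inl ⟨by first | rfl | linarith, by first | rfl | linarith, by first | rfl | linarith, by first | rfl | linarith, by first | rfl | linarith, by first | rfl | linarith, by first | rfl | linarith, by first | rfl | linarith, by first | rfl | linarith, by first | rfl | linarith, by first | rfl | linarith, by first | rfl | linarith⟩))))⟩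
    | exact ⟨a, b, c, T.m a, T.w b, hab, hbc, hac, (h2 a).1, (h2 b).1, (h2 c).1, Or.inr (Or.inr (Or.inr (Or.inr (Or.inr (⟨by first | rfl | linarith, by first | rfl | linarith, by first | rfl | linarith, by first | rfl | linarith, by first | rfl | linarith, by first | rfl | linarith, by first | rfl | linarith, by first | rfl | linarith, by first | rfl | linarith, by first | rfl | linarith, by first | rfl | linarith, by first | rfl | linarith⟩)))))⟩

/-- Genus one classification: case n = 3: let T be a minimal numerical type of genus 1 on three indices.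
Then all g = 0 and, for some ordering i, j, k of the indices and some integers m, w, the data (m; a;
w) is one of: (m,m,m; a_ii = a_jj = a_kk = -2w, a_ij = a_ik = a_jk = w; w,w,w); (m,2m,m; a_ii = -2w,
a_ij = w, a_ik = 0, a_jj = -2w, a_jk = 3w, a_kk = -6w; w,w,3w); (m,2m,3m; a_ii = -6w, a_ij = 3w,
a_ik = 0, a_jj = -6w, a_jk = 3w, a_kk = -2w; 3w,3w,w); (2m,2m,m; a_ii = -2w, a_ij = 2w, a_ik = 0,
a_jj = -4w, a_jk = 4w, a_kk = -8w; w,2w,4w); (m,m,m; a_ii = -2w, a_ij = 2w, a_ik = 0, a_jj = -4w,
a_jk = 2w, a_kk = -2w; w,2w,w); (m,2m,m; a_ii = -4w, a_ij = 2w, a_ik = 0, a_jj = -2w, a_jk = 2w,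
a_kk = -4w; 2w,w,2w). Only the classification direction is stated. -/
theorem result (T : Models.NumericalType 3) (hmin : T.IsMinimal) (hg : T.genus = 1) :
    ∃ (i j k : Fin 3) (m w : ℤ), i ≠ j ∧ j ≠ k ∧ i ≠ k ∧ T.g i = 0 ∧ T.g j = 0 ∧ T.g k = 0 ∧
      ((T.m i = m ∧ T.m j = m ∧ T.m k = m ∧ T.a i i = -2 * w ∧ T.a j j = -2 * w ∧ T.a k k = -2 * w ∧
          T.a i j = w ∧ T.a i k = w ∧ T.a j k = w ∧ T.w i = w ∧ T.w j = w ∧ T.w k = w) ∨
        (T.m i = m ∧ T.m j = 2 * m ∧ T.m k = m ∧ T.a i i = -2 * w ∧ T.a i j = w ∧ T.a i k = 0 ∧ T.a j j = -2 * w ∧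
          T.a j k = 3 * w ∧ T.a k k = -6 * w ∧ T.w i = w ∧ T.w j = w ∧ T.w k = 3 * w) ∨
        (T.m i = m ∧ T.m j = 2 * m ∧ T.m k = 3 * m ∧ T.a i i = -6 * w ∧ T.a i j = 3 * w ∧ T.a i k = 0 ∧ T.a j j = -6 * w ∧
          T.a j k = 3 * w ∧ T.a k k = -2 * w ∧ T.w i = 3 * w ∧ T.w j = 3 * w ∧ T.w k = w) ∨
        (T.m i = 2 * m ∧ T.m j = 2 * m ∧ T.m k = m ∧ T.a i i = -2 * w ∧ T.a i j = 2 * w ∧ T.a i k = 0 ∧ T.a j j = -4 * w ∧
          T.a j k = 4 * w ∧ T.a k k = -8 * w ∧ T.w i = w ∧ T.w j = 2 * w ∧ T.w k = 4 * w) ∨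
        (T.m i = m ∧ T.m j = m ∧ T.m k = m ∧ T.a i i = -2 * w ∧ T.a i j = 2 * w ∧ T.a i k = 0 ∧ T.a j j = -4 * w ∧
          T.a j k = 2 * w ∧ T.a k k = -2 * w ∧ T.w i = w ∧ T.w j = 2 * w ∧ T.w k = w) ∨
        (T.m i = m ∧ T.m j = 2 * m ∧ T.m k = m ∧ T.a i i = -4 * w ∧ T.a i j = 2 * w ∧ T.a i k = 0 ∧ T.a j j = -2 * w ∧
          T.a j k = 2 * w ∧ T.a k k = -4 * w ∧ T.w i = 2 * w ∧ T.w j = w ∧ T.w k = 2 * w)) := by
  have h2 := all_minusTwo_of_genus_one T (by norm_num) hmin hg
  by_cases h01 : T.a 0 1 = 0 <;> by_cases h02 : T.a 0 2 = 0 <;> by_cases h12 : T.a 1 2 = 0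
  · exfalso
    obtain ⟨i, hi, j, hj, hij⟩ := T.connected {0} ⟨0, by simp⟩ (by decide)
    rw [Finset.mem_singleton] at hi hj
    subst hi
    fin_cases j <;> simp_all
  · exfalso
    obtain ⟨i, hi, j, hj, hij⟩ := T.connected {0} ⟨0, by simp⟩ (by decide)
    rw [Finset.mem_singleton] at hi hj
    subst hi
    fin_cases j <;> simp_all
  · exfalso
    obtain ⟨i, hi, j, hj, hij⟩ := T.connected {1} ⟨1, by simp⟩ (by decide)
    rw [Finset.mem_singleton] at hi hj
    subst hi
    have h10 : T.a 1 0 = 0 := by rw [a_symm]; exact h01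
    fin_cases j <;> simp_all
  · exact chain3 T h2 0 2 1 (by decide) (by decide) (by decide) h02 (by rw [a_symm]; exact h12) h01
  · exfalso
    obtain ⟨i, hi, j, hj, hij⟩ := T.connected {2} ⟨2, by simp⟩ (by decide)
    rw [Finset.mem_singleton] at hi hj
    subst hi
    have h20 : T.a 2 0 = 0 := by rw [a_symm]; exact h02
    have h21 : T.a 2 1 = 0 := by rw [a_symm]; exact h12
    fin_cases j <;> simp_all
  · exact chain3 T h2 0 1 2 (by decide) (by decide) (by decide) h01 h12 h02
  · exact chain3 T h2 1 0 2 (by decide) (by decide) (by decide) (by rw [a_symm]; exact h01) h02 h12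
  · -- triangle
    have hB := hB_cycle (T := T) (Function.Embedding.refl (Fin 3)) (by
      intro j j' hjj
      have hj : j.val = 0 ∨ j.val = 1 := by have := j'.isLt; omega
      rcases hj with hj | hj
      · rw [show j = 0 from Fin.ext hj, show j' = 1 from Fin.ext (by omega)]; exact h01
      · rw [show j = 1 from Fin.ext hj, show j' = 2 from Fin.ext (by omega)]; exact h12) (by
      intro j j' hj hj'
      rw [show j = 0 from Fin.ext hj, show j' = 2 from Fin.ext (by omega)]; exact h02)
    obtain ⟨-, m, w, q1, q2, q3, q4, q5⟩ := fam_cycle T (Function.Embedding.refl (Fin 3))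
      (fun j => h2 _) (by norm_num) hB
    refine ⟨0, 1, 2, m, w, by decide, by decide, by decide, (h2 0).1, (h2 1).1, (h2 2).1,
      Or.inl ⟨q1 0, q1 1, q1 2, ?_, ?_, ?_, q3 0 1 (by decide) rfl, q4 0 2 (by decide) (by decide),
        q3 1 2 (by decide) rfl, q2 0, q2 1, q2 2⟩⟩
    · have := (h2 0).2; have := q2 0; simp only [Function.Embedding.refl_apply] at *; linarith
    · have := (h2 1).2; have := q2 1; simp only [Function.Embedding.refl_apply] at *; linarith
    · have := (h2 2).2; have := q2 2; simp only [Function.Embedding.refl_apply] at *; linarith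

end Groth.Agent.S7363
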