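import Groth.Statements.S7364
import Groth.Agent.Lib.Helper11FinE

set_option autoImplicit false
open Finset
open Models Models.NumericalType

namespace Groth.Agent.S7364

open Groth.Agent.Lib.Helper11

/-- Genus one classification: case n = 4: let T be a minimal numerical type of genus 1 on 4 indices.
Then all g_i = 0 and, for some permutation σ of the indices and some integers m, w, the
multiplicities, weights and intersection matrix (m_{σ(i)}, w_{σ(i)}, a_{σ(i)σ(j)}) are those of one
of the following 6 types: [four cycle] m = (m, m, m, m), w = (w, w, w, w), a = (-2 * w w 0 w / w -2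
* w w 0 / 0 w -2 * w w / w 0 w -2 * w); [up equal up] m = (2 * m, 2 * m, 2 * m, m), w = (w, 2 * w, 2
* w, 4 * w), a = (-2 * w 2 * w 0 0 / 2 * w -4 * w 2 * w 0 / 0 2 * w -4 * w 4 * w / 0 0 4 * w -8 *
w); [up equal down] m = (m, m, m, m), w = (w, 2 * w, 2 * w, w), a = (-2 * w 2 * w 0 0 / 2 * w -4 * w
2 * w 0 / 0 2 * w -4 * w 2 * w / 0 0 2 * w -2 * w); [down equal up] m = (m, 2 * m, 2 * m, m), w = (2
* w, w, w, 2 * w), a = (-4 * w 2 * w 0 0 / 2 * w -2 * w w 0 / 0 w -2 * w 2 * w / 0 0 2 * w -4 * w);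
[triple with up] m = (2 * m, m, m, m), w = (w, w, w, 2 * w), a = (-2 * w w w 2 * w / w -2 * w 0 0 /
w 0 -2 * w 0 / 2 * w 0 0 -4 * w); [triple with down] m = (2 * m, m, m, 2 * m), w = (2 * w, 2 * w, 2
* w, w), a = (-4 * w 2 * w 2 * w 2 * w / 2 * w -4 * w 0 0 / 2 * w 0 -4 * w 0 / 2 * w 0 0 -2 * w).
Only the classification direction is stated. -/
theorem result (T : Models.NumericalType 4) (hmin : T.IsMinimal) (hg : T.genus = 1) :
    (∀ i, T.g i = 0) ∧ ∃ (σ : Equiv.Perm (Fin 4)) (m w : ℤ),
      ((T.m (σ 0) = m ∧ T.m (σ 1) = m ∧ T.m (σ 2) = m ∧ T.m (σ 3) = m ∧ T.w (σ 0) = w ∧ T.w (σ 1) = w ∧ T.w (σ 2) = w ∧ T.w (σ 3) = w ∧ T.a (σ 0) (σ 0) = -2 * w ∧ T.a (σ 0) (σ 1) = w ∧ T.a (σ 0) (σ 2) = 0 ∧ T.a (σ 0) (σ 3) = w ∧ T.a (σ 1) (σ 1) = -2 * w ∧ T.a (σ 1) (σ 2) = w ∧ T.a (σ 1) (σ 3) = 0 ∧ T.a (σ 2) (σ 2) = -2 * w ∧ T.a (σ 2) (σ 3) = w ∧ T.a (σ 3) (σ 3) = -2 * w) ∨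
      (T.m (σ 0) = 2 * m ∧ T.m (σ 1) = 2 * m ∧ T.m (σ 2) = 2 * m ∧ T.m (σ 3) = m ∧ T.w (σ 0) = w ∧ T.w (σ 1) = 2 * w ∧ T.w (σ 2) = 2 * w ∧ T.w (σ 3) = 4 * w ∧ T.a (σ 0) (σ 0) = -2 * w ∧ T.a (σ 0) (σ 1) = 2 * w ∧ T.a (σ 0) (σ 2) = 0 ∧ T.a (σ 0) (σ 3) = 0 ∧ T.a (σ 1) (σ 1) = -4 * w ∧ T.a (σ 1) (σ 2) = 2 * w ∧ T.a (σ 1) (σ 3) = 0 ∧ T.a (σ 2) (σ 2) = -4 * w ∧ T.a (σ 2) (σ 3) = 4 * w ∧ T.a (σ 3) (σ 3) = -8 * w) ∨
      (T.m (σ 0) = m ∧ T.m (σ 1) = m ∧ T.m (σ 2) = m ∧ T.m (σ 3) = m ∧ T.w (σ 0) = w ∧ T.w (σ 1) = 2 * w ∧ T.w (σ 2) = 2 * w ∧ T.w (σ 3) = w ∧ T.a (σ 0) (σ 0) = -2 * w ∧ T.a (σ 0) (σ 1) = 2 * w ∧ T.a (σ 0) (σ 2) = 0 ∧ T.a (σ 0) (σ 3) = 0 ∧ T.a (σ 1) (σ 1) = -4 * w ∧ T.a (σ 1) (σ 2) = 2 * w ∧ T.a (σ 1) (σ 3) = 0 ∧ T.a (σ 2) (σ 2) = -4 * w ∧ T.a (σ 2) (σ 3) = 2 * w ∧ T.a (σ 3) (σ 3) = -2 * w) ∨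
      (T.m (σ 0) = m ∧ T.m (σ 1) = 2 * m ∧ T.m (σ 2) = 2 * m ∧ T.m (σ 3) = m ∧ T.w (σ 0) = 2 * w ∧ T.w (σ 1) = w ∧ T.w (σ 2) = w ∧ T.w (σ 3) = 2 * w ∧ T.a (σ 0) (σ 0) = -4 * w ∧ T.a (σ 0) (σ 1) = 2 * w ∧ T.a (σ 0) (σ 2) = 0 ∧ T.a (σ 0) (σ 3) = 0 ∧ T.a (σ 1) (σ 1) = -2 * w ∧ T.a (σ 1) (σ 2) = w ∧ T.a (σ 1) (σ 3) = 0 ∧ T.a (σ 2) (σ 2) = -2 * w ∧ T.a (σ 2) (σ 3) = 2 * w ∧ T.a (σ 3) (σ 3) = -4 * w) ∨
      (T.m (σ 0) = 2 * m ∧ T.m (σ 1) = m ∧ T.m (σ 2) = m ∧ T.m (σ 3) = m ∧ T.w (σ 0) = w ∧ T.w (σ 1) = w ∧ T.w (σ 2) = w ∧ T.w (σ 3) = 2 * w ∧ T.a (σ 0) (σ 0) = -2 * w ∧ T.a (σ 0) (σ 1) = w ∧ T.a (σ 0) (σ 2) = w ∧ T.a (σ 0) (σ 3) = 2 * w ∧ T.a (σ 1) (σ 1) = -2 * w ∧ T.a (σ 1) (σ 2) = 0 ∧ T.a (σ 1) (σ 3) = 0 ∧ T.a (σ 2) (σ 2) = -2 * w ∧ T.a (σ 2) (σ 3) = 0 ∧ T.a (σ 3) (σ 3) = -4 * w) ∨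
      (T.m (σ 0) = 2 * m ∧ T.m (σ 1) = m ∧ T.m (σ 2) = m ∧ T.m (σ 3) = 2 * m ∧ T.w (σ 0) = 2 * w ∧ T.w (σ 1) = 2 * w ∧ T.w (σ 2) = 2 * w ∧ T.w (σ 3) = w ∧ T.a (σ 0) (σ 0) = -4 * w ∧ T.a (σ 0) (σ 1) = 2 * w ∧ T.a (σ 0) (σ 2) = 2 * w ∧ T.a (σ 0) (σ 3) = 2 * w ∧ T.a (σ 1) (σ 1) = -4 * w ∧ T.a (σ 1) (σ 2) = 0 ∧ T.a (σ 1) (σ 3) = 0 ∧ T.a (σ 2) (σ 2) = -4 * w ∧ T.a (σ 2) (σ 3) = 0 ∧ T.a (σ 3) (σ 3) = -2 * w)) := by
  have h2 := all_minusTwo_of_genus_one T (by norm_num) hmin hg
  refine ⟨fun i => (h2 i).1, ?_⟩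
  refine Or.elim (classify h2 (by norm_num) _ ?_ ?_ ?_ ?_ ?_ ?_ ?_) ?_ id
  · intro u h
    exfalso
    have := (excD4 h2 u h).1
    omega
  · intro u h
    exfalso
    have := (excF4 h2 u h).1
    omega
  · intro u h
    exfalso
    have := (excE62 h2 u h).1
    omega
  · intro u h
    exfalso
    have := (excE6 h2 u h).1
    omega
  · intro u h
    exfalso
    have := (excE7 h2 u h).1
    omega
  · intro u h
    exfalso
    have := (excE8 h2 u h).1
    omega
  · intro t' v' x' kb' S hkb ht ht'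
    exfalso
    have := S.card
    omega
  · rintro ⟨k, u, m, w, hkn, hc⟩
    subst hkn
    rcases hc with h | h | h | h | h | h | h
    · unfold Clause1 at h
      obtain ⟨q1, q2, q3, q4, q5⟩ := h
      have hexp : T.m (u 0) = m ∧ T.m (u 1) = m ∧ T.m (u 2) = m ∧ T.m (u 3) = m ∧ T.w (u 0) = w ∧ T.w (u 1) = w ∧ T.w (u 2) = w ∧ T.w (u 3) = w ∧ T.a (u 0) (u 0) = -2 * w ∧ T.a (u 0) (u 1) = w ∧ T.a (u 0) (u 2) = 0 ∧ T.a (u 0) (u 3) = w ∧ T.a (u 1) (u 1) = -2 * w ∧ T.a (u 1) (u 2) = w ∧ T.a (u 1) (u 3) = 0 ∧ T.a (u 2) (u 2) = -2 * w ∧ T.a (u 2) (u 3) = w ∧ T.a (u 3) (u 3) = -2 * w := by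
        refine ⟨?_, ?_, ?_, ?_, ?_, ?_, ?_, ?_, ?_, ?_, ?_, ?_, ?_, ?_, ?_, ?_, ?_, ?_⟩
        · first | exact q1 0
        · first | exact q1 1
        · first | exact q1 2
        · first | exact q1 3
        · first | exact q2 0
        · first | exact q2 1
        · first | exact q2 2
        · first | exact q2 3
        · have e2 : T.w (u 0) = w := by first | exact q2 0
          rw [(h2 (u 0)).2, e2]; try ring
        · first | exact q3 0 1 (by decide) (by decide) | exact q4 0 1 (by decide) (by decide) | exact q5 0 1 (by decide) (by decide) (by decide)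
        · first | exact q3 0 2 (by decide) (by decide) | exact q4 0 2 (by decide) (by decide) | exact q5 0 2 (by decide) (by decide) (by decide)
        · first | exact q3 0 3 (by decide) (by decide) | exact q4 0 3 (by decide) (by decide) | exact q5 0 3 (by decide) (by decide) (by decide)
        · have e2 : T.w (u 1) = w := by first | exact q2 1
          rw [(h2 (u 1)).2, e2]; try ring
        · first | exact q3 1 2 (by decide) (by decide) | exact q4 1 2 (by decide) (by decide) | exact q5 1 2 (by decide) (by decide) (by decide)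
        · first | exact q3 1 3 (by decide) (by decide) | exact q4 1 3 (by decide) (by decide) | exact q5 1 3 (by decide) (by decide) (by decide)
        · have e2 : T.w (u 2) = w := by first | exact q2 2
          rw [(h2 (u 2)).2, e2]; try ring
        · first | exact q3 2 3 (by decide) (by decide) | exact q4 2 3 (by decide) (by decide) | exact q5 2 3 (by decide) (by decide) (by decide)
        · have e2 : T.w (u 3) = w := by first | exact q2 3
          rw [(h2 (u 3)).2, e2]; try ring
      refine ⟨Equiv.ofBijective u ((Finite.injective_iff_bijective).mp u.injective), m, w, ?_⟩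
      exact Or.inl hexp
    · unfold Clause2 at h
      obtain ⟨q1, q2, q3, q4, q5, q6, q7, q8⟩ := h
      have hexp : T.m (u 0) = 2 * m ∧ T.m (u 1) = 2 * m ∧ T.m (u 2) = 2 * m ∧ T.m (u 3) = m ∧ T.w (u 0) = w ∧ T.w (u 1) = 2 * w ∧ T.w (u 2) = 2 * w ∧ T.w (u 3) = 4 * w ∧ T.a (u 0) (u 0) = -2 * w ∧ T.a (u 0) (u 1) = 2 * w ∧ T.a (u 0) (u 2) = 0 ∧ T.a (u 0) (u 3) = 0 ∧ T.a (u 1) (u 1) = -4 * w ∧ T.a (u 1) (u 2) = 2 * w ∧ T.a (u 1) (u 3) = 0 ∧ T.a (u 2) (u 2) = -4 * w ∧ T.a (u 2) (u 3) = 4 * w ∧ T.a (u 3) (u 3) = -8 * w := by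
        refine ⟨?_, ?_, ?_, ?_, ?_, ?_, ?_, ?_, ?_, ?_, ?_, ?_, ?_, ?_, ?_, ?_, ?_, ?_⟩
        · first | exact q1 0 (by decide) | exact q2 0 (by decide)
        · first | exact q1 1 (by decide) | exact q2 1 (by decide)
        · first | exact q1 2 (by decide) | exact q2 2 (by decide)
        · first | exact q1 3 (by decide) | exact q2 3 (by decide)
        · first | exact q3 0 (by decide) | exact q4 0 (by decide) | exact q5 0 (by decide)
        · first | exact q3 1 (by decide) | exact q4 1 (by decide) | exact q5 1 (by decide)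
        · first | exact q3 2 (by decide) | exact q4 2 (by decide) | exact q5 2 (by decide)
        · first | exact q3 3 (by decide) | exact q4 3 (by decide) | exact q5 3 (by decide)
        · have e2 : T.w (u 0) = w := by first | exact q3 0 (by decide) | exact q4 0 (by decide) | exact q5 0 (by decide)
          rw [(h2 (u 0)).2, e2]; try ring
        · first | exact q6 0 1 (by decide) (by decide) | exact q7 0 1 (by decide) (by decide) | exact q8 0 1 (by decide) (by decide) (by decide)
        · first | exact q6 0 2 (by decide) (by decide) | exact q7 0 2 (by decide) (by decide) | exact q8 0 2 (by decide) (by decide) (by decide)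
        · first | exact q6 0 3 (by decide) (by decide) | exact q7 0 3 (by decide) (by decide) | exact q8 0 3 (by decide) (by decide) (by decide)
        · have e2 : T.w (u 1) = 2 * w := by first | exact q3 1 (by decide) | exact q4 1 (by decide) | exact q5 1 (by decide)
          rw [(h2 (u 1)).2, e2]; try ring
        · first | exact q6 1 2 (by decide) (by decide) | exact q7 1 2 (by decide) (by decide) | exact q8 1 2 (by decide) (by decide) (by decide)
        · first | exact q6 1 3 (by decide) (by decide) | exact q7 1 3 (by decide) (by decide) | exact q8 1 3 (by decide) (by decide) (by decide)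
        · have e2 : T.w (u 2) = 2 * w := by first | exact q3 2 (by decide) | exact q4 2 (by decide) | exact q5 2 (by decide)
          rw [(h2 (u 2)).2, e2]; try ring
        · first | exact q6 2 3 (by decide) (by decide) | exact q7 2 3 (by decide) (by decide) | exact q8 2 3 (by decide) (by decide) (by decide)
        · have e2 : T.w (u 3) = 4 * w := by first | exact q3 3 (by decide) | exact q4 3 (by decide) | exact q5 3 (by decide)
          rw [(h2 (u 3)).2, e2]; try ring
      refine ⟨Equiv.ofBijective u ((Finite.injective_iff_bijective).mp u.injective), m, w, ?_⟩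
      exact Or.inr (Or.inl hexp)
    · unfold Clause3 at h
      obtain ⟨q1, q2, q3, q4, q5, q6⟩ := h
      have hexp : T.m (u 0) = m ∧ T.m (u 1) = m ∧ T.m (u 2) = m ∧ T.m (u 3) = m ∧ T.w (u 0) = w ∧ T.w (u 1) = 2 * w ∧ T.w (u 2) = 2 * w ∧ T.w (u 3) = w ∧ T.a (u 0) (u 0) = -2 * w ∧ T.a (u 0) (u 1) = 2 * w ∧ T.a (u 0) (u 2) = 0 ∧ T.a (u 0) (u 3) = 0 ∧ T.a (u 1) (u 1) = -4 * w ∧ T.a (u 1) (u 2) = 2 * w ∧ T.a (u 1) (u 3) = 0 ∧ T.a (u 2) (u 2) = -4 * w ∧ T.a (u 2) (u 3) = 2 * w ∧ T.a (u 3) (u 3) = -2 * w := by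
        refine ⟨?_, ?_, ?_, ?_, ?_, ?_, ?_, ?_, ?_, ?_, ?_, ?_, ?_, ?_, ?_, ?_, ?_, ?_⟩
        · first | exact q1 0
        · first | exact q1 1
        · first | exact q1 2
        · first | exact q1 3
        · first | exact q2 0 (by decide) | exact q3 0 (by decide) | exact q4 0 (by decide)
        · first | exact q2 1 (by decide) | exact q3 1 (by decide) | exact q4 1 (by decide)
        · first | exact q2 2 (by decide) | exact q3 2 (by decide) | exact q4 2 (by decide)
        · first | exact q2 3 (by decide) | exact q3 3 (by decide) | exact q4 3 (by decide)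
        · have e2 : T.w (u 0) = w := by first | exact q2 0 (by decide) | exact q3 0 (by decide) | exact q4 0 (by decide)
          rw [(h2 (u 0)).2, e2]; try ring
        · first | exact q5 0 1 (by decide) (by decide) | exact q6 0 1 (by decide) (by decide)
        · first | exact q5 0 2 (by decide) (by decide) | exact q6 0 2 (by decide) (by decide)
        · first | exact q5 0 3 (by decide) (by decide) | exact q6 0 3 (by decide) (by decide)
        · have e2 : T.w (u 1) = 2 * w := by first | exact q2 1 (by decide) | exact q3 1 (by decide) | exact q4 1 (by decide)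
          rw [(h2 (u 1)).2, e2]; try ring
        · first | exact q5 1 2 (by decide) (by decide) | exact q6 1 2 (by decide) (by decide)
        · first | exact q5 1 3 (by decide) (by decide) | exact q6 1 3 (by decide) (by decide)
        · have e2 : T.w (u 2) = 2 * w := by first | exact q2 2 (by decide) | exact q3 2 (by decide) | exact q4 2 (by decide)
          rw [(h2 (u 2)).2, e2]; try ring
        · first | exact q5 2 3 (by decide) (by decide) | exact q6 2 3 (by decide) (by decide)
        · have e2 : T.w (u 3) = w := by first | exact q2 3 (by decide) | exact q3 3 (by decide) | exact q4 3 (by decide)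
          rw [(h2 (u 3)).2, e2]; try ring
      refine ⟨Equiv.ofBijective u ((Finite.injective_iff_bijective).mp u.injective), m, w, ?_⟩
      exact Or.inr (Or.inr (Or.inl hexp))
    · unfold Clause4 at h
      obtain ⟨q1, q2, q3, q4, q5, q6, q7, q8, q9, q10⟩ := h
      have hexp : T.m (u 0) = m ∧ T.m (u 1) = 2 * m ∧ T.m (u 2) = 2 * m ∧ T.m (u 3) = m ∧ T.w (u 0) = 2 * w ∧ T.w (u 1) = w ∧ T.w (u 2) = w ∧ T.w (u 3) = 2 * w ∧ T.a (u 0) (u 0) = -4 * w ∧ T.a (u 0) (u 1) = 2 * w ∧ T.a (u 0) (u 2) = 0 ∧ T.a (u 0) (u 3) = 0 ∧ T.a (u 1) (u 1) = -2 * w ∧ T.a (u 1) (u 2) = w ∧ T.a (u 1) (u 3) = 0 ∧ T.a (u 2) (u 2) = -2 * w ∧ T.a (u 2) (u 3) = 2 * w ∧ T.a (u 3) (u 3) = -4 * w := by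
        refine ⟨?_, ?_, ?_, ?_, ?_, ?_, ?_, ?_, ?_, ?_, ?_, ?_, ?_, ?_, ?_, ?_, ?_, ?_⟩
        · first | exact q1 0 (by decide) | exact q2 0 (by decide) | exact q3 0 (by decide)
        · first | exact q1 1 (by decide) | exact q2 1 (by decide) | exact q3 1 (by decide)
        · first | exact q1 2 (by decide) | exact q2 2 (by decide) | exact q3 2 (by decide)
        · first | exact q1 3 (by decide) | exact q2 3 (by decide) | exact q3 3 (by decide)
        · first | exact q4 0 (by decide) | exact q5 0 (by decide) | exact q6 0 (by decide)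
        · first | exact q4 1 (by decide) | exact q5 1 (by decide) | exact q6 1 (by decide)
        · first | exact q4 2 (by decide) | exact q5 2 (by decide) | exact q6 2 (by decide)
        · first | exact q4 3 (by decide) | exact q5 3 (by decide) | exact q6 3 (by decide)
        · have e2 : T.w (u 0) = 2 * w := by first | exact q4 0 (by decide) | exact q5 0 (by decide) | exact q6 0 (by decide)
          rw [(h2 (u 0)).2, e2]; try ring
        · first | exact q7 0 1 (by decide) (by decide) | exact q8 0 1 (by decide) (by decide) | exact q9 0 1 (by decide) (by decide) | exact q10 0 1 (by decide) (by decide) (by decide) (by decide)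
        · first | exact q7 0 2 (by decide) (by decide) | exact q8 0 2 (by decide) (by decide) | exact q9 0 2 (by decide) (by decide) | exact q10 0 2 (by decide) (by decide) (by decide) (by decide)
        · first | exact q7 0 3 (by decide) (by decide) | exact q8 0 3 (by decide) (by decide) | exact q9 0 3 (by decide) (by decide) | exact q10 0 3 (by decide) (by decide) (by decide) (by decide)
        · have e2 : T.w (u 1) = w := by first | exact q4 1 (by decide) | exact q5 1 (by decide) | exact q6 1 (by decide)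
          rw [(h2 (u 1)).2, e2]; try ring
        · first | exact q7 1 2 (by decide) (by decide) | exact q8 1 2 (by decide) (by decide) | exact q9 1 2 (by decide) (by decide) | exact q10 1 2 (by decide) (by decide) (by decide) (by decide)
        · first | exact q7 1 3 (by decide) (by decide) | exact q8 1 3 (by decide) (by decide) | exact q9 1 3 (by decide) (by decide) | exact q10 1 3 (by decide) (by decide) (by decide) (by decide)
        · have e2 : T.w (u 2) = w := by first | exact q4 2 (by decide) | exact q5 2 (by decide) | exact q6 2 (by decide)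
          rw [(h2 (u 2)).2, e2]; try ring
        · first | exact q7 2 3 (by decide) (by decide) | exact q8 2 3 (by decide) (by decide) | exact q9 2 3 (by decide) (by decide) | exact q10 2 3 (by decide) (by decide) (by decide) (by decide)
        · have e2 : T.w (u 3) = 2 * w := by first | exact q4 3 (by decide) | exact q5 3 (by decide) | exact q6 3 (by decide)
          rw [(h2 (u 3)).2, e2]; try ring
      refine ⟨Equiv.ofBijective u ((Finite.injective_iff_bijective).mp u.injective), m, w, ?_⟩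
      exact Or.inr (Or.inr (Or.inr (Or.inl hexp)))
    · unfold Clause5 at h
      obtain ⟨q1, q2, q3, q4, q5, q6, q7, q8, q9⟩ := h
      have hexp : T.m (u 1) = 2 * m ∧ T.m (u 2) = m ∧ T.m (u 3) = m ∧ T.m (u 0) = m ∧ T.w (u 1) = w ∧ T.w (u 2) = w ∧ T.w (u 3) = w ∧ T.w (u 0) = 2 * w ∧ T.a (u 1) (u 1) = -2 * w ∧ T.a (u 1) (u 2) = w ∧ T.a (u 1) (u 3) = w ∧ T.a (u 1) (u 0) = 2 * w ∧ T.a (u 2) (u 2) = -2 * w ∧ T.a (u 2) (u 3) = 0 ∧ T.a (u 2) (u 0) = 0 ∧ T.a (u 3) (u 3) = -2 * w ∧ T.a (u 3) (u 0) = 0 ∧ T.a (u 0) (u 0) = -4 * w := by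
        refine ⟨?_, ?_, ?_, ?_, ?_, ?_, ?_, ?_, ?_, ?_, ?_, ?_, ?_, ?_, ?_, ?_, ?_, ?_⟩
        · first | exact q1 1 (by decide) | exact q2 1 (by decide) | exact q3 1 (by decide)
        · first | exact q1 2 (by decide) | exact q2 2 (by decide) | exact q3 2 (by decide)
        · first | exact q1 3 (by decide) | exact q2 3 (by decide) | exact q3 3 (by decide)
        · first | exact q1 0 (by decide) | exact q2 0 (by decide) | exact q3 0 (by decide)
        · first | exact q4 1 (by decide) | exact q5 1 (by decide)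
        · first | exact q4 2 (by decide) | exact q5 2 (by decide)
        · first | exact q4 3 (by decide) | exact q5 3 (by decide)
        · first | exact q4 0 (by decide) | exact q5 0 (by decide)
        · have e2 : T.w (u 1) = w := by first | exact q4 1 (by decide) | exact q5 1 (by decide)
          rw [(h2 (u 1)).2, e2]; try ring
        · first | exact q6 1 2 (by decide) (by decide) | exact q7 1 2 (by decide) (by decide) | exact q8 1 2 (by decide) (by decide) | exact q9 1 2 (by decide) (by decide) (by decide) (by decide)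
        · first | exact q6 1 3 (by decide) (by decide) | exact q7 1 3 (by decide) (by decide) | exact q8 1 3 (by decide) (by decide) | exact q9 1 3 (by decide) (by decide) (by decide) (by decide)
        · rw [a_symm]
          first | exact q6 0 1 (by decide) (by decide) | exact q7 0 1 (by decide) (by decide) | exact q8 0 1 (by decide) (by decide) | exact q9 0 1 (by decide) (by decide) (by decide) (by decide)
        · have e2 : T.w (u 2) = w := by first | exact q4 2 (by decide) | exact q5 2 (by decide)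
          rw [(h2 (u 2)).2, e2]; try ring
        · first | exact q6 2 3 (by decide) (by decide) | exact q7 2 3 (by decide) (by decide) | exact q8 2 3 (by decide) (by decide) | exact q9 2 3 (by decide) (by decide) (by decide) (by decide)
        · rw [a_symm]
          first | exact q6 0 2 (by decide) (by decide) | exact q7 0 2 (by decide) (by decide) | exact q8 0 2 (by decide) (by decide) | exact q9 0 2 (by decide) (by decide) (by decide) (by decide)
        · have e2 : T.w (u 3) = w := by first | exact q4 3 (by decide) | exact q5 3 (by decide)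
          rw [(h2 (u 3)).2, e2]; try ring
        · rw [a_symm]
          first | exact q6 0 3 (by decide) (by decide) | exact q7 0 3 (by decide) (by decide) | exact q8 0 3 (by decide) (by decide) | exact q9 0 3 (by decide) (by decide) (by decide) (by decide)
        · have e2 : T.w (u 0) = 2 * w := by first | exact q4 0 (by decide) | exact q5 0 (by decide)
          rw [(h2 (u 0)).2, e2]; try ring
      refine ⟨Equiv.ofBijective (fun i => u ((![1, 2, 3, 0] : Fin 4 → Fin 4) i)) ((Finite.injective_iff_bijective).mp (u.injective.comp (by decide))), m, w, ?_⟩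
      exact Or.inr (Or.inr (Or.inr (Or.inr (Or.inl hexp))))
    · unfold Clause6 at h
      obtain ⟨q1, q2, q3, q4, q5, q6, q7⟩ := h
      have hexp : T.m (u 1) = 2 * m ∧ T.m (u 2) = m ∧ T.m (u 3) = m ∧ T.m (u 0) = 2 * m ∧ T.w (u 1) = 2 * w ∧ T.w (u 2) = 2 * w ∧ T.w (u 3) = 2 * w ∧ T.w (u 0) = w ∧ T.a (u 1) (u 1) = -4 * w ∧ T.a (u 1) (u 2) = 2 * w ∧ T.a (u 1) (u 3) = 2 * w ∧ T.a (u 1) (u 0) = 2 * w ∧ T.a (u 2) (u 2) = -4 * w ∧ T.a (u 2) (u 3) = 0 ∧ T.a (u 2) (u 0) = 0 ∧ T.a (u 3) (u 3) = -4 * w ∧ T.a (u 3) (u 0) = 0 ∧ T.a (u 0) (u 0) = -2 * w := by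
        refine ⟨?_, ?_, ?_, ?_, ?_, ?_, ?_, ?_, ?_, ?_, ?_, ?_, ?_, ?_, ?_, ?_, ?_, ?_⟩
        · first | exact q1 1 (by decide) | exact q2 1 (by decide)
        · first | exact q1 2 (by decide) | exact q2 2 (by decide)
        · first | exact q1 3 (by decide) | exact q2 3 (by decide)
        · first | exact q1 0 (by decide) | exact q2 0 (by decide)
        · first | exact q3 1 (by decide) | exact q4 1 (by decide)
        · first | exact q3 2 (by decide) | exact q4 2 (by decide)
        · first | exact q3 3 (by decide) | exact q4 3 (by decide)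
        · first | exact q3 0 (by decide) | exact q4 0 (by decide)
        · have e2 : T.w (u 1) = 2 * w := by first | exact q3 1 (by decide) | exact q4 1 (by decide)
          rw [(h2 (u 1)).2, e2]; try ring
        · first | exact q5 1 2 (by decide) (by decide) | exact q6 1 2 (by decide) (by decide) | exact q7 1 2 (by decide) (by decide) (by decide)
        · first | exact q5 1 3 (by decide) (by decide) | exact q6 1 3 (by decide) (by decide) | exact q7 1 3 (by decide) (by decide) (by decide)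
        · rw [a_symm]
          first | exact q5 0 1 (by decide) (by decide) | exact q6 0 1 (by decide) (by decide) | exact q7 0 1 (by decide) (by decide) (by decide)
        · have e2 : T.w (u 2) = 2 * w := by first | exact q3 2 (by decide) | exact q4 2 (by decide)
          rw [(h2 (u 2)).2, e2]; try ring
        · first | exact q5 2 3 (by decide) (by decide) | exact q6 2 3 (by decide) (by decide) | exact q7 2 3 (by decide) (by decide) (by decide)
        · rw [a_symm]
          first | exact q5 0 2 (by decide) (by decide) | exact q6 0 2 (by decide) (by decide) | exact q7 0 2 (by decide) (by decide) (by decide)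
        · have e2 : T.w (u 3) = 2 * w := by first | exact q3 3 (by decide) | exact q4 3 (by decide)
          rw [(h2 (u 3)).2, e2]; try ring
        · rw [a_symm]
          first | exact q5 0 3 (by decide) (by decide) | exact q6 0 3 (by decide) (by decide) | exact q7 0 3 (by decide) (by decide) (by decide)
        · have e2 : T.w (u 0) = w := by first | exact q3 0 (by decide) | exact q4 0 (by decide)
          rw [(h2 (u 0)).2, e2]; try ring
      refine ⟨Equiv.ofBijective (fun i => u ((![1, 2, 3, 0] : Fin 4 → Fin 4) i)) ((Finite.injective_iff_bijective).mp (u.injective.comp (by decide))), m, w, ?_⟩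
      exact Or.inr (Or.inr (Or.inr (Or.inr (Or.inr (hexp)))))
    · exfalso
      have := h.1
      omega

end Groth.Agent.S7364
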