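import Groth.Statements.S7365
import Groth.Agent.Lib.Helper11FinE

set_option autoImplicit false
open Finset
open Models Models.NumericalType

namespace Groth.Agent.S7365

open Groth.Agent.Lib.Helper11

/-- Genus one classification: case n = 5: let T be a minimal numerical type of genus 1 on 5 indices.
Then all g_i = 0 and, for some permutation σ of the indices and some integers m, w, the
multiplicities, weights and intersection matrix (m_{σ(i)}, w_{σ(i)}, a_{σ(i)σ(j)}) are those of one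
of the following 9 types: [five cycle] m = (m, m, m, m, m), w = (w, w, w, w, w), a = (-2 * w w 0 0 w
/ w -2 * w w 0 0 / 0 w -2 * w w 0 / 0 0 w -2 * w w / w 0 0 w -2 * w); [equal equal up equal] m = (m,
2 * m, 3 * m, 2 * m, m), w = (w, w, w, 2 * w, 2 * w), a = (-2 * w w 0 0 0 / w -2 * w w 0 0 / 0 w -2
* w 2 * w 0 / 0 0 2 * w -4 * w 2 * w / 0 0 0 2 * w -4 * w); [equal equal down equal] m = (m, 2 * m,
3 * m, 4 * m, 2 * m), w = (2 * w, 2 * w, 2 * w, w, w), a = (-4 * w 2 * w 0 0 0 / 2 * w -4 * w 2 * w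
0 0 / 0 2 * w -4 * w 2 * w 0 / 0 0 2 * w -2 * w w / 0 0 0 w -2 * w); [up equal equal up] m = (2 * m,
2 * m, 2 * m, 2 * m, m), w = (w, 2 * w, 2 * w, 2 * w, 4 * w), a = (-2 * w 2 * w 0 0 0 / 2 * w -4 * w
2 * w 0 0 / 0 2 * w -4 * w 2 * w 0 / 0 0 2 * w -4 * w 4 * w / 0 0 0 4 * w -8 * w); [up equal equal
down] m = (m, m, m, m, m), w = (w, 2 * w, 2 * w, 2 * w, w), a = (-2 * w 2 * w 0 0 0 / 2 * w -4 * w 2
* w 0 0 / 0 2 * w -4 * w 2 * w 0 / 0 0 2 * w -4 * w 2 * w / 0 0 0 2 * w -2 * w); [down equal equal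
up] m = (m, 2 * m, 2 * m, 2 * m, m), w = (2 * w, w, w, w, 2 * w), a = (-4 * w 2 * w 0 0 0 / 2 * w -2
* w w 0 0 / 0 w -2 * w w 0 / 0 0 w -2 * w 2 * w / 0 0 0 2 * w -4 * w); [quadruple] m = (2 * m, m, m,
m, m), w = (w, w, w, w, w), a = (-2 * w w w w w / w -2 * w 0 0 0 / w 0 -2 * w 0 0 / w 0 0 -2 * w 0 /
w 0 0 0 -2 * w); [triple extended up] m = (m, 2 * m, 2 * m, m, m), w = (2 * w, w, w, w, w), a = (-4
* w 2 * w 0 0 0 / 2 * w -2 * w w 0 0 / 0 w -2 * w w w / 0 0 w -2 * w 0 / 0 0 w 0 -2 * w); [triple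
extended down] m = (2 * m, 2 * m, 2 * m, m, m), w = (w, 2 * w, 2 * w, 2 * w, 2 * w), a = (-2 * w 2 *
w 0 0 0 / 2 * w -4 * w 2 * w 0 0 / 0 2 * w -4 * w 2 * w 2 * w / 0 0 2 * w -4 * w 0 / 0 0 2 * w 0 -4
* w). Only the classification direction is stated. -/
theorem result (T : Models.NumericalType 5) (hmin : T.IsMinimal) (hg : T.genus = 1) :
    (∀ i, T.g i = 0) ∧ ∃ (σ : Equiv.Perm (Fin 5)) (m w : ℤ),
      ((T.m (σ 0) = m ∧ T.m (σ 1) = m ∧ T.m (σ 2) = m ∧ T.m (σ 3) = m ∧ T.m (σ 4) = m ∧ T.w (σ 0) = w ∧ T.w (σ 1) = w ∧ T.w (σ 2) = w ∧ T.w (σ 3) = w ∧ T.w (σ 4) = w ∧ T.a (σ 0) (σ 0) = -2 * w ∧ T.a (σ 0) (σ 1) = w ∧ T.a (σ 0) (σ 2) = 0 ∧ T.a (σ 0) (σ 3) = 0 ∧ T.a (σ 0) (σ 4) = w ∧ T.a (σ 1) (σ 1) = -2 * w ∧ T.a (σ 1) (σ 2) = w ∧ T.a (σ 1) (σ 3) = 0 ∧ T.a (σ 1) (σ 4) = 0 ∧ T.a (σ 2) (σ 2) = -2 * w ∧ T.a (σ 2) (σ 3) = w ∧ T.a (σ 2) (σ 4) = 0 ∧ T.a (σ 3) (σ 3) = -2 * w ∧ T.a (σ 3) (σ 4) = w ∧ T.a (σ 4) (σ 4) = -2 * w) ∨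
      (T.m (σ 0) = m ∧ T.m (σ 1) = 2 * m ∧ T.m (σ 2) = 3 * m ∧ T.m (σ 3) = 2 * m ∧ T.m (σ 4) = m ∧ T.w (σ 0) = w ∧ T.w (σ 1) = w ∧ T.w (σ 2) = w ∧ T.w (σ 3) = 2 * w ∧ T.w (σ 4) = 2 * w ∧ T.a (σ 0) (σ 0) = -2 * w ∧ T.a (σ 0) (σ 1) = w ∧ T.a (σ 0) (σ 2) = 0 ∧ T.a (σ 0) (σ 3) = 0 ∧ T.a (σ 0) (σ 4) = 0 ∧ T.a (σ 1) (σ 1) = -2 * w ∧ T.a (σ 1) (σ 2) = w ∧ T.a (σ 1) (σ 3) = 0 ∧ T.a (σ 1) (σ 4) = 0 ∧ T.a (σ 2) (σ 2) = -2 * w ∧ T.a (σ 2) (σ 3) = 2 * w ∧ T.a (σ 2) (σ 4) = 0 ∧ T.a (σ 3) (σ 3) = -4 * w ∧ T.a (σ 3) (σ 4) = 2 * w ∧ T.a (σ 4) (σ 4) = -4 * w) ∨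
      (T.m (σ 0) = m ∧ T.m (σ 1) = 2 * m ∧ T.m (σ 2) = 3 * m ∧ T.m (σ 3) = 4 * m ∧ T.m (σ 4) = 2 * m ∧ T.w (σ 0) = 2 * w ∧ T.w (σ 1) = 2 * w ∧ T.w (σ 2) = 2 * w ∧ T.w (σ 3) = w ∧ T.w (σ 4) = w ∧ T.a (σ 0) (σ 0) = -4 * w ∧ T.a (σ 0) (σ 1) = 2 * w ∧ T.a (σ 0) (σ 2) = 0 ∧ T.a (σ 0) (σ 3) = 0 ∧ T.a (σ 0) (σ 4) = 0 ∧ T.a (σ 1) (σ 1) = -4 * w ∧ T.a (σ 1) (σ 2) = 2 * w ∧ T.a (σ 1) (σ 3) = 0 ∧ T.a (σ 1) (σ 4) = 0 ∧ T.a (σ 2) (σ 2) = -4 * w ∧ T.a (σ 2) (σ 3) = 2 * w ∧ T.a (σ 2) (σ 4) = 0 ∧ T.a (σ 3) (σ 3) = -2 * w ∧ T.a (σ 3) (σ 4) = w ∧ T.a (σ 4) (σ 4) = -2 * w) ∨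
      (T.m (σ 0) = 2 * m ∧ T.m (σ 1) = 2 * m ∧ T.m (σ 2) = 2 * m ∧ T.m (σ 3) = 2 * m ∧ T.m (σ 4) = m ∧ T.w (σ 0) = w ∧ T.w (σ 1) = 2 * w ∧ T.w (σ 2) = 2 * w ∧ T.w (σ 3) = 2 * w ∧ T.w (σ 4) = 4 * w ∧ T.a (σ 0) (σ 0) = -2 * w ∧ T.a (σ 0) (σ 1) = 2 * w ∧ T.a (σ 0) (σ 2) = 0 ∧ T.a (σ 0) (σ 3) = 0 ∧ T.a (σ 0) (σ 4) = 0 ∧ T.a (σ 1) (σ 1) = -4 * w ∧ T.a (σ 1) (σ 2) = 2 * w ∧ T.a (σ 1) (σ 3) = 0 ∧ T.a (σ 1) (σ 4) = 0 ∧ T.a (σ 2) (σ 2) = -4 * w ∧ T.a (σ 2) (σ 3) = 2 * w ∧ T.a (σ 2) (σ 4) = 0 ∧ T.a (σ 3) (σ 3) = -4 * w ∧ T.a (σ 3) (σ 4) = 4 * w ∧ T.a (σ 4) (σ 4) = -8 * w) ∨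
      (T.m (σ 0) = m ∧ T.m (σ 1) = m ∧ T.m (σ 2) = m ∧ T.m (σ 3) = m ∧ T.m (σ 4) = m ∧ T.w (σ 0) = w ∧ T.w (σ 1) = 2 * w ∧ T.w (σ 2) = 2 * w ∧ T.w (σ 3) = 2 * w ∧ T.w (σ 4) = w ∧ T.a (σ 0) (σ 0) = -2 * w ∧ T.a (σ 0) (σ 1) = 2 * w ∧ T.a (σ 0) (σ 2) = 0 ∧ T.a (σ 0) (σ 3) = 0 ∧ T.a (σ 0) (σ 4) = 0 ∧ T.a (σ 1) (σ 1) = -4 * w ∧ T.a (σ 1) (σ 2) = 2 * w ∧ T.a (σ 1) (σ 3) = 0 ∧ T.a (σ 1) (σ 4) = 0 ∧ T.a (σ 2) (σ 2) = -4 * w ∧ T.a (σ 2) (σ 3) = 2 * w ∧ T.a (σ 2) (σ 4) = 0 ∧ T.a (σ 3) (σ 3) = -4 * w ∧ T.a (σ 3) (σ 4) = 2 * w ∧ T.a (σ 4) (σ 4) = -2 * w) ∨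
      (T.m (σ 0) = m ∧ T.m (σ 1) = 2 * m ∧ T.m (σ 2) = 2 * m ∧ T.m (σ 3) = 2 * m ∧ T.m (σ 4) = m ∧ T.w (σ 0) = 2 * w ∧ T.w (σ 1) = w ∧ T.w (σ 2) = w ∧ T.w (σ 3) = w ∧ T.w (σ 4) = 2 * w ∧ T.a (σ 0) (σ 0) = -4 * w ∧ T.a (σ 0) (σ 1) = 2 * w ∧ T.a (σ 0) (σ 2) = 0 ∧ T.a (σ 0) (σ 3) = 0 ∧ T.a (σ 0) (σ 4) = 0 ∧ T.a (σ 1) (σ 1) = -2 * w ∧ T.a (σ 1) (σ 2) = w ∧ T.a (σ 1) (σ 3) = 0 ∧ T.a (σ 1) (σ 4) = 0 ∧ T.a (σ 2) (σ 2) = -2 * w ∧ T.a (σ 2) (σ 3) = w ∧ T.a (σ 2) (σ 4) = 0 ∧ T.a (σ 3) (σ 3) = -2 * w ∧ T.a (σ 3) (σ 4) = 2 * w ∧ T.a (σ 4) (σ 4) = -4 * w) ∨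
      (T.m (σ 0) = 2 * m ∧ T.m (σ 1) = m ∧ T.m (σ 2) = m ∧ T.m (σ 3) = m ∧ T.m (σ 4) = m ∧ T.w (σ 0) = w ∧ T.w (σ 1) = w ∧ T.w (σ 2) = w ∧ T.w (σ 3) = w ∧ T.w (σ 4) = w ∧ T.a (σ 0) (σ 0) = -2 * w ∧ T.a (σ 0) (σ 1) = w ∧ T.a (σ 0) (σ 2) = w ∧ T.a (σ 0) (σ 3) = w ∧ T.a (σ 0) (σ 4) = w ∧ T.a (σ 1) (σ 1) = -2 * w ∧ T.a (σ 1) (σ 2) = 0 ∧ T.a (σ 1) (σ 3) = 0 ∧ T.a (σ 1) (σ 4) = 0 ∧ T.a (σ 2) (σ 2) = -2 * w ∧ T.a (σ 2) (σ 3) = 0 ∧ T.a (σ 2) (σ 4) = 0 ∧ T.a (σ 3) (σ 3) = -2 * w ∧ T.a (σ 3) (σ 4) = 0 ∧ T.a (σ 4) (σ 4) = -2 * w) ∨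
      (T.m (σ 0) = m ∧ T.m (σ 1) = 2 * m ∧ T.m (σ 2) = 2 * m ∧ T.m (σ 3) = m ∧ T.m (σ 4) = m ∧ T.w (σ 0) = 2 * w ∧ T.w (σ 1) = w ∧ T.w (σ 2) = w ∧ T.w (σ 3) = w ∧ T.w (σ 4) = w ∧ T.a (σ 0) (σ 0) = -4 * w ∧ T.a (σ 0) (σ 1) = 2 * w ∧ T.a (σ 0) (σ 2) = 0 ∧ T.a (σ 0) (σ 3) = 0 ∧ T.a (σ 0) (σ 4) = 0 ∧ T.a (σ 1) (σ 1) = -2 * w ∧ T.a (σ 1) (σ 2) = w ∧ T.a (σ 1) (σ 3) = 0 ∧ T.a (σ 1) (σ 4) = 0 ∧ T.a (σ 2) (σ 2) = -2 * w ∧ T.a (σ 2) (σ 3) = w ∧ T.a (σ 2) (σ 4) = w ∧ T.a (σ 3) (σ 3) = -2 * w ∧ T.a (σ 3) (σ 4) = 0 ∧ T.a (σ 4) (σ 4) = -2 * w) ∨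
      (T.m (σ 0) = 2 * m ∧ T.m (σ 1) = 2 * m ∧ T.m (σ 2) = 2 * m ∧ T.m (σ 3) = m ∧ T.m (σ 4) = m ∧ T.w (σ 0) = w ∧ T.w (σ 1) = 2 * w ∧ T.w (σ 2) = 2 * w ∧ T.w (σ 3) = 2 * w ∧ T.w (σ 4) = 2 * w ∧ T.a (σ 0) (σ 0) = -2 * w ∧ T.a (σ 0) (σ 1) = 2 * w ∧ T.a (σ 0) (σ 2) = 0 ∧ T.a (σ 0) (σ 3) = 0 ∧ T.a (σ 0) (σ 4) = 0 ∧ T.a (σ 1) (σ 1) = -4 * w ∧ T.a (σ 1) (σ 2) = 2 * w ∧ T.a (σ 1) (σ 3) = 0 ∧ T.a (σ 1) (σ 4) = 0 ∧ T.a (σ 2) (σ 2) = -4 * w ∧ T.a (σ 2) (σ 3) = 2 * w ∧ T.a (σ 2) (σ 4) = 2 * w ∧ T.a (σ 3) (σ 3) = -4 * w ∧ T.a (σ 3) (σ 4) = 0 ∧ T.a (σ 4) (σ 4) = -4 * w)) := by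
  have h2 := all_minusTwo_of_genus_one T (by norm_num) hmin hg
  refine ⟨fun i => (h2 i).1, ?_⟩
  refine Or.elim (classify h2 (by norm_num) _ ?_ ?_ ?_ ?_ ?_ ?_ ?_) ?_ id
  · intro u h
    obtain ⟨-, hK, hprop⟩ := excD4 h2 u h
    have hw0 : T.w (u 0) = T.w (u 0) := rfl
    have hw1 : T.w (u 1) = T.w (u 0) := by
      have e := K_mul T (u 0) (u 1)
      rw [hK 0 1 (by decide), hK 1 0 (by decide), show BD4 0 1 = 1 from by decide, show BD4 1 0 = 1 from by decide, hw0] at e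
      linarith
    have hw2 : T.w (u 2) = T.w (u 0) := by
      have e := K_mul T (u 0) (u 2)
      rw [hK 0 2 (by decide), hK 2 0 (by decide), show BD4 0 2 = 1 from by decide, show BD4 2 0 = 1 from by decide, hw0] at e
      linarith
    have hw3 : T.w (u 3) = T.w (u 0) := by
      have e := K_mul T (u 0) (u 3)
      rw [hK 0 3 (by decide), hK 3 0 (by decide), show BD4 0 3 = 1 from by decide, show BD4 3 0 = 1 from by decide, hw0] at e
      linarith
    have hw4 : T.w (u 4) = T.w (u 0) := by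
      have e := K_mul T (u 0) (u 4)
      rw [hK 0 4 (by decide), hK 4 0 (by decide), show BD4 0 4 = 1 from by decide, show BD4 4 0 = 1 from by decide, hw0] at e
      linarith
    have hc0 : cD4 1 = 1 := by decide
    have hm0 : T.m (u 0) = 2 * T.m (u 1) := by
      have e := hprop 0 1
      rw [hc0, show cD4 0 = 2 from by decide] at e
      linarith
    have hm1 : T.m (u 1) = T.m (u 1) := rfl
    have hm2 : T.m (u 2) = T.m (u 1) := by
      have e := hprop 2 1
      rw [hc0, show cD4 2 = 1 from by decide] at e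
      linarith
    have hm3 : T.m (u 3) = T.m (u 1) := by
      have e := hprop 3 1
      rw [hc0, show cD4 3 = 1 from by decide] at e
      linarith
    have hm4 : T.m (u 4) = T.m (u 1) := by
      have e := hprop 4 1
      rw [hc0, show cD4 4 = 1 from by decide] at e
      linarith
    refine ⟨Equiv.ofBijective u ((Finite.injective_iff_bijective).mp u.injective), T.m (u 1), T.w (u 0), ?_⟩
    have hexp : T.m (u 0) = 2 * T.m (u 1) ∧ T.m (u 1) = T.m (u 1) ∧ T.m (u 2) = T.m (u 1) ∧ T.m (u 3) = T.m (u 1) ∧ T.m (u 4) = T.m (u 1) ∧ T.w (u 0) = T.w (u 0) ∧ T.w (u 1) = T.w (u 0) ∧ T.w (u 2) = T.w (u 0) ∧ T.w (u 3) = T.w (u 0) ∧ T.w (u 4) = T.w (u 0) ∧ T.a (u 0) (u 0) = -2 * T.w (u 0) ∧ T.a (u 0) (u 1) = T.w (u 0) ∧ T.a (u 0) (u 2) = T.w (u 0) ∧ T.a (u 0) (u 3) = T.w (u 0) ∧ T.a (u 0) (u 4) = T.w (u 0) ∧ T.a (u 1) (u 1) = -2 * T.w (u 0) ∧ T.a (u 1) (u 2) = 0 ∧ T.a (u 1) (u 3) = 0 ∧ T.a (u 1) (u 4) = 0 ∧ T.a (u 2) (u 2) = -2 * T.w (u 0) ∧ T.a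 (u 2) (u 3) = 0 ∧ T.a (u 2) (u 4) = 0 ∧ T.a (u 3) (u 3) = -2 * T.w (u 0) ∧ T.a (u 3) (u 4) = 0 ∧ T.a (u 4) (u 4) = -2 * T.w (u 0) := by
      refine ⟨?_, ?_, ?_, ?_, ?_, ?_, ?_, ?_, ?_, ?_, ?_, ?_, ?_, ?_, ?_, ?_, ?_, ?_, ?_, ?_, ?_, ?_, ?_, ?_, ?_⟩
      · exact hm0
      · exact hm1
      · exact hm2
      · exact hm3
      · exact hm4
      · exact hw0
      · exact hw1
      · exact hw2
      · exact hw3
      · exact hw4
      · rw [(h2 (u 0)).2, hw0]; try ring
      · rw [a_eq_K_emb, hK 0 1 (by decide), show BD4 0 1 = 1 from by decide, hw0]; try ring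
      · rw [a_eq_K_emb, hK 0 2 (by decide), show BD4 0 2 = 1 from by decide, hw0]; try ring
      · rw [a_eq_K_emb, hK 0 3 (by decide), show BD4 0 3 = 1 from by decide, hw0]; try ring
      · rw [a_eq_K_emb, hK 0 4 (by decide), show BD4 0 4 = 1 from by decide, hw0]; try ring
      · rw [(h2 (u 1)).2, hw1]; try ring
      · rw [a_eq_K_emb, hK 1 2 (by decide), show BD4 1 2 = 0 from by decide, hw1]; try ring
      · rw [a_eq_K_emb, hK 1 3 (by decide), show BD4 1 3 = 0 from by decide, hw1]; try ring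
      · rw [a_eq_K_emb, hK 1 4 (by decide), show BD4 1 4 = 0 from by decide, hw1]; try ring
      · rw [(h2 (u 2)).2, hw2]; try ring
      · rw [a_eq_K_emb, hK 2 3 (by decide), show BD4 2 3 = 0 from by decide, hw2]; try ring
      · rw [a_eq_K_emb, hK 2 4 (by decide), show BD4 2 4 = 0 from by decide, hw2]; try ring
      · rw [(h2 (u 3)).2, hw3]; try ring
      · rw [a_eq_K_emb, hK 3 4 (by decide), show BD4 3 4 = 0 from by decide, hw3]; try ring
      · rw [(h2 (u 4)).2, hw4]; try ring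
    exact Or.inr (Or.inr (Or.inr (Or.inr (Or.inr (Or.inr (Or.inl hexp))))))
  · intro u h
    obtain ⟨-, hK, hprop⟩ := excF4 h2 u h
    have hw0 : T.w (u 0) = T.w (u 0) := rfl
    have hw1 : T.w (u 1) = T.w (u 0) := by
      have e := K_mul T (u 0) (u 1)
      rw [hK 0 1 (by decide), hK 1 0 (by decide), show BF 2 1 0 1 = 1 from by decide, show BF 2 1 1 0 = 1 from by decide, hw0] at e
      linarith
    have hw2 : T.w (u 2) = T.w (u 0) := by
      have e := K_mul T (u 1) (u 2)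
      rw [hK 1 2 (by decide), hK 2 1 (by decide), show BF 2 1 1 2 = 1 from by decide, show BF 2 1 2 1 = 1 from by decide, hw1] at e
      linarith
    have hw3 : T.w (u 3) = 2 * T.w (u 0) := by
      have e := K_mul T (u 2) (u 3)
      rw [hK 2 3 (by decide), hK 3 2 (by decide), show BF 2 1 2 3 = 2 from by decide, show BF 2 1 3 2 = 1 from by decide, hw2] at e
      linarith
    have hw4 : T.w (u 4) = 2 * T.w (u 0) := by
      have e := K_mul T (u 3) (u 4)
      rw [hK 3 4 (by decide), hK 4 3 (by decide), show BF 2 1 3 4 = 1 from by decide, show BF 2 1 4 3 = 1 from by decide, hw3] at e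
      linarith
    have hc0 : cF4 0 = 1 := by decide
    have hm0 : T.m (u 0) = T.m (u 0) := rfl
    have hm1 : T.m (u 1) = 2 * T.m (u 0) := by
      have e := hprop 1 0
      rw [hc0, show cF4 1 = 2 from by decide] at e
      linarith
    have hm2 : T.m (u 2) = 3 * T.m (u 0) := by
      have e := hprop 2 0
      rw [hc0, show cF4 2 = 3 from by decide] at e
      linarith
    have hm3 : T.m (u 3) = 2 * T.m (u 0) := by
      have e := hprop 3 0
      rw [hc0, show cF4 3 = 2 from by decide] at e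
      linarith
    have hm4 : T.m (u 4) = T.m (u 0) := by
      have e := hprop 4 0
      rw [hc0, show cF4 4 = 1 from by decide] at e
      linarith
    refine ⟨Equiv.ofBijective u ((Finite.injective_iff_bijective).mp u.injective), T.m (u 0), T.w (u 0), ?_⟩
    have hexp : T.m (u 0) = T.m (u 0) ∧ T.m (u 1) = 2 * T.m (u 0) ∧ T.m (u 2) = 3 * T.m (u 0) ∧ T.m (u 3) = 2 * T.m (u 0) ∧ T.m (u 4) = T.m (u 0) ∧ T.w (u 0) = T.w (u 0) ∧ T.w (u 1) = T.w (u 0) ∧ T.w (u 2) = T.w (u 0) ∧ T.w (u 3) = 2 * T.w (u 0) ∧ T.w (u 4) = 2 * T.w (u 0) ∧ T.a (u 0) (u 0) = -2 * T.w (u 0) ∧ T.a (u 0) (u 1) = T.w (u 0) ∧ T.a (u 0) (u 2) = 0 ∧ T.a (u 0) (u 3) = 0 ∧ T.a (u 0) (u 4) = 0 ∧ T.a (u 1) (u 1) = -2 * T.w (u 0) ∧ T.a (u 1) (u 2) = T.w (u 0) ∧ T.a (u 1) (u 3) = 0 ∧ T.a (u 1) (u 4) = 0 ∧ T.a (u 2) (u 2) = -2 * T.w (u 0) ∧ T.a (u 2) (u 3) = 2 * T.w (u 0) ∧ T.a (u 2) (u 4) = 0 ∧ T.a (u 3) (u 3) = -4 * T.w (u 0) ∧ T.a (u 3) (u 4) = 2 * T.w (u 0) ∧ T.a (u 4) (u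 4) = -4 * T.w (u 0) := by
      refine ⟨?_, ?_, ?_, ?_, ?_, ?_, ?_, ?_, ?_, ?_, ?_, ?_, ?_, ?_, ?_, ?_, ?_, ?_, ?_, ?_, ?_, ?_, ?_, ?_, ?_⟩
      · exact hm0
      · exact hm1
      · exact hm2
      · exact hm3
      · exact hm4
      · exact hw0
      · exact hw1
      · exact hw2
      · exact hw3
      · exact hw4
      · rw [(h2 (u 0)).2, hw0]; try ring
      · rw [a_eq_K_emb, hK 0 1 (by decide), show BF 2 1 0 1 = 1 from by decide, hw0]; try ring
      · rw [a_eq_K_emb, hK 0 2 (by decide), show BF 2 1 0 2 = 0 from by decide, hw0]; try ring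
      · rw [a_eq_K_emb, hK 0 3 (by decide), show BF 2 1 0 3 = 0 from by decide, hw0]; try ring
      · rw [a_eq_K_emb, hK 0 4 (by decide), show BF 2 1 0 4 = 0 from by decide, hw0]; try ring
      · rw [(h2 (u 1)).2, hw1]; try ring
      · rw [a_eq_K_emb, hK 1 2 (by decide), show BF 2 1 1 2 = 1 from by decide, hw1]; try ring
      · rw [a_eq_K_emb, hK 1 3 (by decide), show BF 2 1 1 3 = 0 from by decide, hw1]; try ring
      · rw [a_eq_K_emb, hK 1 4 (by decide), show BF 2 1 1 4 = 0 from by decide, hw1]; try ring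
      · rw [(h2 (u 2)).2, hw2]; try ring
      · rw [a_eq_K_emb, hK 2 3 (by decide), show BF 2 1 2 3 = 2 from by decide, hw2]; try ring
      · rw [a_eq_K_emb, hK 2 4 (by decide), show BF 2 1 2 4 = 0 from by decide, hw2]; try ring
      · rw [(h2 (u 3)).2, hw3]; try ring
      · rw [a_eq_K_emb, hK 3 4 (by decide), show BF 2 1 3 4 = 1 from by decide, hw3]; try ring
      · rw [(h2 (u 4)).2, hw4]; try ring
    exact Or.inr (Or.inl hexp)
  · intro u h
    obtain ⟨-, hK, hprop⟩ := excE62 h2 u h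
    have hw3 : T.w (u 3) = T.w (u 3) := rfl
    have hw2 : T.w (u 2) = 2 * T.w (u 3) := by
      have e := K_mul T (u 3) (u 2)
      rw [hK 3 2 (by decide), hK 2 3 (by decide), show BF 1 2 3 2 = 2 from by decide, show BF 1 2 2 3 = 1 from by decide, hw3] at e
      linarith
    have hw4 : T.w (u 4) = T.w (u 3) := by
      have e := K_mul T (u 3) (u 4)
      rw [hK 3 4 (by decide), hK 4 3 (by decide), show BF 1 2 3 4 = 1 from by decide, show BF 1 2 4 3 = 1 from by decide, hw3] at e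
      linarith
    have hw1 : T.w (u 1) = 2 * T.w (u 3) := by
      have e := K_mul T (u 2) (u 1)
      rw [hK 2 1 (by decide), hK 1 2 (by decide), show BF 1 2 2 1 = 1 from by decide, show BF 1 2 1 2 = 1 from by decide, hw2] at e
      linarith
    have hw0 : T.w (u 0) = 2 * T.w (u 3) := by
      have e := K_mul T (u 1) (u 0)
      rw [hK 1 0 (by decide), hK 0 1 (by decide), show BF 1 2 1 0 = 1 from by decide, show BF 1 2 0 1 = 1 from by decide, hw1] at e
      linarith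
    have hc0 : cE62 0 = 1 := by decide
    have hm0 : T.m (u 0) = T.m (u 0) := rfl
    have hm1 : T.m (u 1) = 2 * T.m (u 0) := by
      have e := hprop 1 0
      rw [hc0, show cE62 1 = 2 from by decide] at e
      linarith
    have hm2 : T.m (u 2) = 3 * T.m (u 0) := by
      have e := hprop 2 0
      rw [hc0, show cE62 2 = 3 from by decide] at e
      linarith
    have hm3 : T.m (u 3) = 4 * T.m (u 0) := by
      have e := hprop 3 0
      rw [hc0, show cE62 3 = 4 from by decide] at e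
      linarith
    have hm4 : T.m (u 4) = 2 * T.m (u 0) := by
      have e := hprop 4 0
      rw [hc0, show cE62 4 = 2 from by decide] at e
      linarith
    refine ⟨Equiv.ofBijective u ((Finite.injective_iff_bijective).mp u.injective), T.m (u 0), T.w (u 3), ?_⟩
    have hexp : T.m (u 0) = T.m (u 0) ∧ T.m (u 1) = 2 * T.m (u 0) ∧ T.m (u 2) = 3 * T.m (u 0) ∧ T.m (u 3) = 4 * T.m (u 0) ∧ T.m (u 4) = 2 * T.m (u 0) ∧ T.w (u 0) = 2 * T.w (u 3) ∧ T.w (u 1) = 2 * T.w (u 3) ∧ T.w (u 2) = 2 * T.w (u 3) ∧ T.w (u 3) = T.w (u 3) ∧ T.w (u 4) = T.w (u 3) ∧ T.a (u 0) (u 0) = -4 * T.w (u 3) ∧ T.a (u 0) (u 1) = 2 * T.w (u 3) ∧ T.a (u 0) (u 2) = 0 ∧ T.a (u 0) (u 3) = 0 ∧ T.a (u 0) (u 4) = 0 ∧ T.a (u 1) (u 1) = -4 * T.w (u 3) ∧ T.a (u 1) (u 2) = 2 * T.w (u 3) ∧ T.a (u 1) (u 3) = 0 ∧ T.a (u 1) (u 4) = 0 ∧ T.a (u 2) (u 2) = -4 * T.w (u 3) ∧ T.a (u 2) (u 3) = 2 * T.w (u 3) ∧ T.a (u 2) (u 4) = 0 ∧ T.a (u 3) (u 3) = -2 * T.w (u 3) ∧ T.a (u 3) (u 4) = T.w (u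 3) ∧ T.a (u 4) (u 4) = -2 * T.w (u 3) := by
      refine ⟨?_, ?_, ?_, ?_, ?_, ?_, ?_, ?_, ?_, ?_, ?_, ?_, ?_, ?_, ?_, ?_, ?_, ?_, ?_, ?_, ?_, ?_, ?_, ?_, ?_⟩
      · exact hm0
      · exact hm1
      · exact hm2
      · exact hm3
      · exact hm4
      · exact hw0
      · exact hw1
      · exact hw2
      · exact hw3
      · exact hw4
      · rw [(h2 (u 0)).2, hw0]; try ring
      · rw [a_eq_K_emb, hK 0 1 (by decide), show BF 1 2 0 1 = 1 from by decide, hw0]; try ring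
      · rw [a_eq_K_emb, hK 0 2 (by decide), show BF 1 2 0 2 = 0 from by decide, hw0]; try ring
      · rw [a_eq_K_emb, hK 0 3 (by decide), show BF 1 2 0 3 = 0 from by decide, hw0]; try ring
      · rw [a_eq_K_emb, hK 0 4 (by decide), show BF 1 2 0 4 = 0 from by decide, hw0]; try ring
      · rw [(h2 (u 1)).2, hw1]; try ring
      · rw [a_eq_K_emb, hK 1 2 (by decide), show BF 1 2 1 2 = 1 from by decide, hw1]; try ring
      · rw [a_eq_K_emb, hK 1 3 (by decide), show BF 1 2 1 3 = 0 from by decide, hw1]; try ring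
      · rw [a_eq_K_emb, hK 1 4 (by decide), show BF 1 2 1 4 = 0 from by decide, hw1]; try ring
      · rw [(h2 (u 2)).2, hw2]; try ring
      · rw [a_eq_K_emb, hK 2 3 (by decide), show BF 1 2 2 3 = 1 from by decide, hw2]; try ring
      · rw [a_eq_K_emb, hK 2 4 (by decide), show BF 1 2 2 4 = 0 from by decide, hw2]; try ring
      · rw [(h2 (u 3)).2, hw3]; try ring
      · rw [a_eq_K_emb, hK 3 4 (by decide), show BF 1 2 3 4 = 1 from by decide, hw3]; try ring
      · rw [(h2 (u 4)).2, hw4]; try ring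
    exact Or.inr (Or.inr (Or.inl hexp))
  · intro u h
    exfalso
    have := (excE6 h2 u h).1
    omega
  · intro u h
    exfalso
    have := (excE7 h2 u h).1
    omega
  · intro u h
    exfalso
    have := (excE8 h2 u h).1
    omega
  · intro t' v' x' kb' S hkb ht ht'
    exfalso
    have := S.card
    omega
  · rintro ⟨k, u, m, w, hkn, hc⟩
    subst hkn
    refine ⟨Equiv.ofBijective u ((Finite.injective_iff_bijective).mp u.injective), m, w, ?_⟩
    rcases hc with h | h | h | h | h | h | h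
    · unfold Clause1 at h
      obtain ⟨q1, q2, q3, q4, q5⟩ := h
      have hexp : T.m (u 0) = m ∧ T.m (u 1) = m ∧ T.m (u 2) = m ∧ T.m (u 3) = m ∧ T.m (u 4) = m ∧ T.w (u 0) = w ∧ T.w (u 1) = w ∧ T.w (u 2) = w ∧ T.w (u 3) = w ∧ T.w (u 4) = w ∧ T.a (u 0) (u 0) = -2 * w ∧ T.a (u 0) (u 1) = w ∧ T.a (u 0) (u 2) = 0 ∧ T.a (u 0) (u 3) = 0 ∧ T.a (u 0) (u 4) = w ∧ T.a (u 1) (u 1) = -2 * w ∧ T.a (u 1) (u 2) = w ∧ T.a (u 1) (u 3) = 0 ∧ T.a (u 1) (u 4) = 0 ∧ T.a (u 2) (u 2) = -2 * w ∧ T.a (u 2) (u 3) = w ∧ T.a (u 2) (u 4) = 0 ∧ T.a (u 3) (u 3) = -2 * w ∧ T.a (u 3) (u 4) = w ∧ T.a (u 4) (u 4) = -2 * w := by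
        refine ⟨?_, ?_, ?_, ?_, ?_, ?_, ?_, ?_, ?_, ?_, ?_, ?_, ?_, ?_, ?_, ?_, ?_, ?_, ?_, ?_, ?_, ?_, ?_, ?_, ?_⟩
        · first | exact q1 0
        · first | exact q1 1
        · first | exact q1 2
        · first | exact q1 3
        · first | exact q1 4
        · first | exact q2 0
        · first | exact q2 1
        · first | exact q2 2
        · first | exact q2 3
        · first | exact q2 4
        · have e2 : T.w (u 0) = w := by first | exact q2 0
          rw [(h2 (u 0)).2, e2]; try ring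
        · first | exact q3 0 1 (by decide) (by decide) | exact q4 0 1 (by decide) (by decide) | exact q5 0 1 (by decide) (by decide) (by decide)
        · first | exact q3 0 2 (by decide) (by decide) | exact q4 0 2 (by decide) (by decide) | exact q5 0 2 (by decide) (by decide) (by decide)
        · first | exact q3 0 3 (by decide) (by decide) | exact q4 0 3 (by decide) (by decide) | exact q5 0 3 (by decide) (by decide) (by decide)
        · first | exact q3 0 4 (by decide) (by decide) | exact q4 0 4 (by decide) (by decide) | exact q5 0 4 (by decide) (by decide) (by decide)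
        · have e2 : T.w (u 1) = w := by first | exact q2 1
          rw [(h2 (u 1)).2, e2]; try ring
        · first | exact q3 1 2 (by decide) (by decide) | exact q4 1 2 (by decide) (by decide) | exact q5 1 2 (by decide) (by decide) (by decide)
        · first | exact q3 1 3 (by decide) (by decide) | exact q4 1 3 (by decide) (by decide) | exact q5 1 3 (by decide) (by decide) (by decide)
        · first | exact q3 1 4 (by decide) (by decide) | exact q4 1 4 (by decide) (by decide) | exact q5 1 4 (by decide) (by decide) (by decide)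
        · have e2 : T.w (u 2) = w := by first | exact q2 2
          rw [(h2 (u 2)).2, e2]; try ring
        · first | exact q3 2 3 (by decide) (by decide) | exact q4 2 3 (by decide) (by decide) | exact q5 2 3 (by decide) (by decide) (by decide)
        · first | exact q3 2 4 (by decide) (by decide) | exact q4 2 4 (by decide) (by decide) | exact q5 2 4 (by decide) (by decide) (by decide)
        · have e2 : T.w (u 3) = w := by first | exact q2 3
          rw [(h2 (u 3)).2, e2]; try ring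
        · first | exact q3 3 4 (by decide) (by decide) | exact q4 3 4 (by decide) (by decide) | exact q5 3 4 (by decide) (by decide) (by decide)
        · have e2 : T.w (u 4) = w := by first | exact q2 4
          rw [(h2 (u 4)).2, e2]; try ring
      exact Or.inl hexp
    · unfold Clause2 at h
      obtain ⟨q1, q2, q3, q4, q5, q6, q7, q8⟩ := h
      have hexp : T.m (u 0) = 2 * m ∧ T.m (u 1) = 2 * m ∧ T.m (u 2) = 2 * m ∧ T.m (u 3) = 2 * m ∧ T.m (u 4) = m ∧ T.w (u 0) = w ∧ T.w (u 1) = 2 * w ∧ T.w (u 2) = 2 * w ∧ T.w (u 3) = 2 * w ∧ T.w (u 4) = 4 * w ∧ T.a (u 0) (u 0) = -2 * w ∧ T.a (u 0) (u 1) = 2 * w ∧ T.a (u 0) (u 2) = 0 ∧ T.a (u 0) (u 3) = 0 ∧ T.a (u 0) (u 4) = 0 ∧ T.a (u 1) (u 1) = -4 * w ∧ T.a (u 1) (u 2) = 2 * w ∧ T.a (u 1) (u 3) = 0 ∧ T.a (u 1) (u 4) = 0 ∧ T.a (u 2) (u 2) = -4 * w ∧ T.a (u 2) (u 3) = 2 * w ∧ T.a (u 2) (u 4) = 0 ∧ T.a (u 3) (u 3) = -4 * w ∧ T.a (u 3) (u 4) = 4 * w ∧ T.a (u 4) (u 4) = -8 * w := by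
        refine ⟨?_, ?_, ?_, ?_, ?_, ?_, ?_, ?_, ?_, ?_, ?_, ?_, ?_, ?_, ?_, ?_, ?_, ?_, ?_, ?_, ?_, ?_, ?_, ?_, ?_⟩
        · first | exact q1 0 (by decide) | exact q2 0 (by decide)
        · first | exact q1 1 (by decide) | exact q2 1 (by decide)
        · first | exact q1 2 (by decide) | exact q2 2 (by decide)
        · first | exact q1 3 (by decide) | exact q2 3 (by decide)
        · first | exact q1 4 (by decide) | exact q2 4 (by decide)
        · first | exact q3 0 (by decide) | exact q4 0 (by decide) | exact q5 0 (by decide)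
        · first | exact q3 1 (by decide) | exact q4 1 (by decide) | exact q5 1 (by decide)
        · first | exact q3 2 (by decide) | exact q4 2 (by decide) | exact q5 2 (by decide)
        · first | exact q3 3 (by decide) | exact q4 3 (by decide) | exact q5 3 (by decide)
        · first | exact q3 4 (by decide) | exact q4 4 (by decide) | exact q5 4 (by decide)
        · have e2 : T.w (u 0) = w := by first | exact q3 0 (by decide) | exact q4 0 (by decide) | exact q5 0 (by decide)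
          rw [(h2 (u 0)).2, e2]; try ring
        · first | exact q6 0 1 (by decide) (by decide) | exact q7 0 1 (by decide) (by decide) | exact q8 0 1 (by decide) (by decide) (by decide)
        · first | exact q6 0 2 (by decide) (by decide) | exact q7 0 2 (by decide) (by decide) | exact q8 0 2 (by decide) (by decide) (by decide)
        · first | exact q6 0 3 (by decide) (by decide) | exact q7 0 3 (by decide) (by decide) | exact q8 0 3 (by decide) (by decide) (by decide)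
        · first | exact q6 0 4 (by decide) (by decide) | exact q7 0 4 (by decide) (by decide) | exact q8 0 4 (by decide) (by decide) (by decide)
        · have e2 : T.w (u 1) = 2 * w := by first | exact q3 1 (by decide) | exact q4 1 (by decide) | exact q5 1 (by decide)
          rw [(h2 (u 1)).2, e2]; try ring
        · first | exact q6 1 2 (by decide) (by decide) | exact q7 1 2 (by decide) (by decide) | exact q8 1 2 (by decide) (by decide) (by decide)
        · first | exact q6 1 3 (by decide) (by decide) | exact q7 1 3 (by decide) (by decide) | exact q8 1 3 (by decide) (by decide) (by decide)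
        · first | exact q6 1 4 (by decide) (by decide) | exact q7 1 4 (by decide) (by decide) | exact q8 1 4 (by decide) (by decide) (by decide)
        · have e2 : T.w (u 2) = 2 * w := by first | exact q3 2 (by decide) | exact q4 2 (by decide) | exact q5 2 (by decide)
          rw [(h2 (u 2)).2, e2]; try ring
        · first | exact q6 2 3 (by decide) (by decide) | exact q7 2 3 (by decide) (by decide) | exact q8 2 3 (by decide) (by decide) (by decide)
        · first | exact q6 2 4 (by decide) (by decide) | exact q7 2 4 (by decide) (by decide) | exact q8 2 4 (by decide) (by decide) (by decide)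
        · have e2 : T.w (u 3) = 2 * w := by first | exact q3 3 (by decide) | exact q4 3 (by decide) | exact q5 3 (by decide)
          rw [(h2 (u 3)).2, e2]; try ring
        · first | exact q6 3 4 (by decide) (by decide) | exact q7 3 4 (by decide) (by decide) | exact q8 3 4 (by decide) (by decide) (by decide)
        · have e2 : T.w (u 4) = 4 * w := by first | exact q3 4 (by decide) | exact q4 4 (by decide) | exact q5 4 (by decide)
          rw [(h2 (u 4)).2, e2]; try ring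
      exact Or.inr (Or.inr (Or.inr (Or.inl hexp)))
    · unfold Clause3 at h
      obtain ⟨q1, q2, q3, q4, q5, q6⟩ := h
      have hexp : T.m (u 0) = m ∧ T.m (u 1) = m ∧ T.m (u 2) = m ∧ T.m (u 3) = m ∧ T.m (u 4) = m ∧ T.w (u 0) = w ∧ T.w (u 1) = 2 * w ∧ T.w (u 2) = 2 * w ∧ T.w (u 3) = 2 * w ∧ T.w (u 4) = w ∧ T.a (u 0) (u 0) = -2 * w ∧ T.a (u 0) (u 1) = 2 * w ∧ T.a (u 0) (u 2) = 0 ∧ T.a (u 0) (u 3) = 0 ∧ T.a (u 0) (u 4) = 0 ∧ T.a (u 1) (u 1) = -4 * w ∧ T.a (u 1) (u 2) = 2 * w ∧ T.a (u 1) (u 3) = 0 ∧ T.a (u 1) (u 4) = 0 ∧ T.a (u 2) (u 2) = -4 * w ∧ T.a (u 2) (u 3) = 2 * w ∧ T.a (u 2) (u 4) = 0 ∧ T.a (u 3) (u 3) = -4 * w ∧ T.a (u 3) (u 4) = 2 * w ∧ T.a (u 4) (u 4) = -2 * w := by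
        refine ⟨?_, ?_, ?_, ?_, ?_, ?_, ?_, ?_, ?_, ?_, ?_, ?_, ?_, ?_, ?_, ?_, ?_, ?_, ?_, ?_, ?_, ?_, ?_, ?_, ?_⟩
        · first | exact q1 0
        · first | exact q1 1
        · first | exact q1 2
        · first | exact q1 3
        · first | exact q1 4
        · first | exact q2 0 (by decide) | exact q3 0 (by decide) | exact q4 0 (by decide)
        · first | exact q2 1 (by decide) | exact q3 1 (by decide) | exact q4 1 (by decide)
        · first | exact q2 2 (by decide) | exact q3 2 (by decide) | exact q4 2 (by decide)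
        · first | exact q2 3 (by decide) | exact q3 3 (by decide) | exact q4 3 (by decide)
        · first | exact q2 4 (by decide) | exact q3 4 (by decide) | exact q4 4 (by decide)
        · have e2 : T.w (u 0) = w := by first | exact q2 0 (by decide) | exact q3 0 (by decide) | exact q4 0 (by decide)
          rw [(h2 (u 0)).2, e2]; try ring
        · first | exact q5 0 1 (by decide) (by decide) | exact q6 0 1 (by decide) (by decide)
        · first | exact q5 0 2 (by decide) (by decide) | exact q6 0 2 (by decide) (by decide)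
        · first | exact q5 0 3 (by decide) (by decide) | exact q6 0 3 (by decide) (by decide)
        · first | exact q5 0 4 (by decide) (by decide) | exact q6 0 4 (by decide) (by decide)
        · have e2 : T.w (u 1) = 2 * w := by first | exact q2 1 (by decide) | exact q3 1 (by decide) | exact q4 1 (by decide)
          rw [(h2 (u 1)).2, e2]; try ring
        · first | exact q5 1 2 (by decide) (by decide) | exact q6 1 2 (by decide) (by decide)
        · first | exact q5 1 3 (by decide) (by decide) | exact q6 1 3 (by decide) (by decide)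
        · first | exact q5 1 4 (by decide) (by decide) | exact q6 1 4 (by decide) (by decide)
        · have e2 : T.w (u 2) = 2 * w := by first | exact q2 2 (by decide) | exact q3 2 (by decide) | exact q4 2 (by decide)
          rw [(h2 (u 2)).2, e2]; try ring
        · first | exact q5 2 3 (by decide) (by decide) | exact q6 2 3 (by decide) (by decide)
        · first | exact q5 2 4 (by decide) (by decide) | exact q6 2 4 (by decide) (by decide)
        · have e2 : T.w (u 3) = 2 * w := by first | exact q2 3 (by decide) | exact q3 3 (by decide) | exact q4 3 (by decide)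
          rw [(h2 (u 3)).2, e2]; try ring
        · first | exact q5 3 4 (by decide) (by decide) | exact q6 3 4 (by decide) (by decide)
        · have e2 : T.w (u 4) = w := by first | exact q2 4 (by decide) | exact q3 4 (by decide) | exact q4 4 (by decide)
          rw [(h2 (u 4)).2, e2]; try ring
      exact Or.inr (Or.inr (Or.inr (Or.inr (Or.inl hexp))))
    · unfold Clause4 at h
      obtain ⟨q1, q2, q3, q4, q5, q6, q7, q8, q9, q10⟩ := h
      have hexp : T.m (u 0) = m ∧ T.m (u 1) = 2 * m ∧ T.m (u 2) = 2 * m ∧ T.m (u 3) = 2 * m ∧ T.m (u 4) = m ∧ T.w (u 0) = 2 * w ∧ T.w (u 1) = w ∧ T.w (u 2) = w ∧ T.w (u 3) = w ∧ T.w (u 4) = 2 * w ∧ T.a (u 0) (u 0) = -4 * w ∧ T.a (u 0) (u 1) = 2 * w ∧ T.a (u 0) (u 2) = 0 ∧ T.a (u 0) (u 3) = 0 ∧ T.a (u 0) (u 4) = 0 ∧ T.a (u 1) (u 1) = -2 * w ∧ T.a (u 1) (u 2) = w ∧ T.a (u 1) (u 3) = 0 ∧ T.a (u 1) (u 4) = 0 ∧ T.a (u 2) (u 2) = -2 * w ∧ T.a (u 2) (u 3) = w ∧ T.a (u 2) (u 4) = 0 ∧ T.a (u 3) (u 3) = -2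 * w ∧ T.a (u 3) (u 4) = 2 * w ∧ T.a (u 4) (u 4) = -4 * w := by
        refine ⟨?_, ?_, ?_, ?_, ?_, ?_, ?_, ?_, ?_, ?_, ?_, ?_, ?_, ?_, ?_, ?_, ?_, ?_, ?_, ?_, ?_, ?_, ?_, ?_, ?_⟩
        · first | exact q1 0 (by decide) | exact q2 0 (by decide) | exact q3 0 (by decide)
        · first | exact q1 1 (by decide) | exact q2 1 (by decide) | exact q3 1 (by decide)
        · first | exact q1 2 (by decide) | exact q2 2 (by decide) | exact q3 2 (by decide)
        · first | exact q1 3 (by decide) | exact q2 3 (by decide) | exact q3 3 (by decide)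
        · first | exact q1 4 (by decide) | exact q2 4 (by decide) | exact q3 4 (by decide)
        · first | exact q4 0 (by decide) | exact q5 0 (by decide) | exact q6 0 (by decide)
        · first | exact q4 1 (by decide) | exact q5 1 (by decide) | exact q6 1 (by decide)
        · first | exact q4 2 (by decide) | exact q5 2 (by decide) | exact q6 2 (by decide)
        · first | exact q4 3 (by decide) | exact q5 3 (by decide) | exact q6 3 (by decide)
        · first | exact q4 4 (by decide) | exact q5 4 (by decide) | exact q6 4 (by decide)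
        · have e2 : T.w (u 0) = 2 * w := by first | exact q4 0 (by decide) | exact q5 0 (by decide) | exact q6 0 (by decide)
          rw [(h2 (u 0)).2, e2]; try ring
        · first | exact q7 0 1 (by decide) (by decide) | exact q8 0 1 (by decide) (by decide) | exact q9 0 1 (by decide) (by decide) | exact q10 0 1 (by decide) (by decide) (by decide) (by decide)
        · first | exact q7 0 2 (by decide) (by decide) | exact q8 0 2 (by decide) (by decide) | exact q9 0 2 (by decide) (by decide) | exact q10 0 2 (by decide) (by decide) (by decide) (by decide)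
        · first | exact q7 0 3 (by decide) (by decide) | exact q8 0 3 (by decide) (by decide) | exact q9 0 3 (by decide) (by decide) | exact q10 0 3 (by decide) (by decide) (by decide) (by decide)
        · first | exact q7 0 4 (by decide) (by decide) | exact q8 0 4 (by decide) (by decide) | exact q9 0 4 (by decide) (by decide) | exact q10 0 4 (by decide) (by decide) (by decide) (by decide)
        · have e2 : T.w (u 1) = w := by first | exact q4 1 (by decide) | exact q5 1 (by decide) | exact q6 1 (by decide)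
          rw [(h2 (u 1)).2, e2]; try ring
        · first | exact q7 1 2 (by decide) (by decide) | exact q8 1 2 (by decide) (by decide) | exact q9 1 2 (by decide) (by decide) | exact q10 1 2 (by decide) (by decide) (by decide) (by decide)
        · first | exact q7 1 3 (by decide) (by decide) | exact q8 1 3 (by decide) (by decide) | exact q9 1 3 (by decide) (by decide) | exact q10 1 3 (by decide) (by decide) (by decide) (by decide)
        · first | exact q7 1 4 (by decide) (by decide) | exact q8 1 4 (by decide) (by decide) | exact q9 1 4 (by decide) (by decide) | exact q10 1 4 (by decide) (by decide) (by decide) (by decide)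
        · have e2 : T.w (u 2) = w := by first | exact q4 2 (by decide) | exact q5 2 (by decide) | exact q6 2 (by decide)
          rw [(h2 (u 2)).2, e2]; try ring
        · first | exact q7 2 3 (by decide) (by decide) | exact q8 2 3 (by decide) (by decide) | exact q9 2 3 (by decide) (by decide) | exact q10 2 3 (by decide) (by decide) (by decide) (by decide)
        · first | exact q7 2 4 (by decide) (by decide) | exact q8 2 4 (by decide) (by decide) | exact q9 2 4 (by decide) (by decide) | exact q10 2 4 (by decide) (by decide) (by decide) (by decide)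
        · have e2 : T.w (u 3) = w := by first | exact q4 3 (by decide) | exact q5 3 (by decide) | exact q6 3 (by decide)
          rw [(h2 (u 3)).2, e2]; try ring
        · first | exact q7 3 4 (by decide) (by decide) | exact q8 3 4 (by decide) (by decide) | exact q9 3 4 (by decide) (by decide) | exact q10 3 4 (by decide) (by decide) (by decide) (by decide)
        · have e2 : T.w (u 4) = 2 * w := by first | exact q4 4 (by decide) | exact q5 4 (by decide) | exact q6 4 (by decide)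
          rw [(h2 (u 4)).2, e2]; try ring
      exact Or.inr (Or.inr (Or.inr (Or.inr (Or.inr (Or.inl hexp)))))
    · unfold Clause5 at h
      obtain ⟨q1, q2, q3, q4, q5, q6, q7, q8, q9⟩ := h
      have hexp : T.m (u 0) = m ∧ T.m (u 1) = 2 * m ∧ T.m (u 2) = 2 * m ∧ T.m (u 3) = m ∧ T.m (u 4) = m ∧ T.w (u 0) = 2 * w ∧ T.w (u 1) = w ∧ T.w (u 2) = w ∧ T.w (u 3) = w ∧ T.w (u 4) = w ∧ T.a (u 0) (u 0) = -4 * w ∧ T.a (u 0) (u 1) = 2 * w ∧ T.a (u 0) (u 2) = 0 ∧ T.a (u 0) (u 3) = 0 ∧ T.a (u 0) (u 4) = 0 ∧ T.a (u 1) (u 1) = -2 * w ∧ T.a (u 1) (u 2) = w ∧ T.a (u 1) (u 3) = 0 ∧ T.a (u 1) (u 4) = 0 ∧ T.a (u 2) (u 2) = -2 * w ∧ T.a (u 2) (u 3) = w ∧ T.a (u 2) (u 4) = w ∧ T.a (u 3) (u 3) = -2 * w ∧ T.a (u 3) (u 4) = 0 ∧ T.a (u 4) (u 4) = -2 * w := by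
        refine ⟨?_, ?_, ?_, ?_, ?_, ?_, ?_, ?_, ?_, ?_, ?_, ?_, ?_, ?_, ?_, ?_, ?_, ?_, ?_, ?_, ?_, ?_, ?_, ?_, ?_⟩
        · first | exact q1 0 (by decide) | exact q2 0 (by decide) | exact q3 0 (by decide)
        · first | exact q1 1 (by decide) | exact q2 1 (by decide) | exact q3 1 (by decide)
        · first | exact q1 2 (by decide) | exact q2 2 (by decide) | exact q3 2 (by decide)
        · first | exact q1 3 (by decide) | exact q2 3 (by decide) | exact q3 3 (by decide)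
        · first | exact q1 4 (by decide) | exact q2 4 (by decide) | exact q3 4 (by decide)
        · first | exact q4 0 (by decide) | exact q5 0 (by decide)
        · first | exact q4 1 (by decide) | exact q5 1 (by decide)
        · first | exact q4 2 (by decide) | exact q5 2 (by decide)
        · first | exact q4 3 (by decide) | exact q5 3 (by decide)
        · first | exact q4 4 (by decide) | exact q5 4 (by decide)
        · have e2 : T.w (u 0) = 2 * w := by first | exact q4 0 (by decide) | exact q5 0 (by decide)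
          rw [(h2 (u 0)).2, e2]; try ring
        · first | exact q6 0 1 (by decide) (by decide) | exact q7 0 1 (by decide) (by decide) | exact q8 0 1 (by decide) (by decide) | exact q9 0 1 (by decide) (by decide) (by decide) (by decide)
        · first | exact q6 0 2 (by decide) (by decide) | exact q7 0 2 (by decide) (by decide) | exact q8 0 2 (by decide) (by decide) | exact q9 0 2 (by decide) (by decide) (by decide) (by decide)
        · first | exact q6 0 3 (by decide) (by decide) | exact q7 0 3 (by decide) (by decide) | exact q8 0 3 (by decide) (by decide) | exact q9 0 3 (by decide) (by decide) (by decide) (by decide)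
        · first | exact q6 0 4 (by decide) (by decide) | exact q7 0 4 (by decide) (by decide) | exact q8 0 4 (by decide) (by decide) | exact q9 0 4 (by decide) (by decide) (by decide) (by decide)
        · have e2 : T.w (u 1) = w := by first | exact q4 1 (by decide) | exact q5 1 (by decide)
          rw [(h2 (u 1)).2, e2]; try ring
        · first | exact q6 1 2 (by decide) (by decide) | exact q7 1 2 (by decide) (by decide) | exact q8 1 2 (by decide) (by decide) | exact q9 1 2 (by decide) (by decide) (by decide) (by decide)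
        · first | exact q6 1 3 (by decide) (by decide) | exact q7 1 3 (by decide) (by decide) | exact q8 1 3 (by decide) (by decide) | exact q9 1 3 (by decide) (by decide) (by decide) (by decide)
        · first | exact q6 1 4 (by decide) (by decide) | exact q7 1 4 (by decide) (by decide) | exact q8 1 4 (by decide) (by decide) | exact q9 1 4 (by decide) (by decide) (by decide) (by decide)
        · have e2 : T.w (u 2) = w := by first | exact q4 2 (by decide) | exact q5 2 (by decide)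
          rw [(h2 (u 2)).2, e2]; try ring
        · first | exact q6 2 3 (by decide) (by decide) | exact q7 2 3 (by decide) (by decide) | exact q8 2 3 (by decide) (by decide) | exact q9 2 3 (by decide) (by decide) (by decide) (by decide)
        · first | exact q6 2 4 (by decide) (by decide) | exact q7 2 4 (by decide) (by decide) | exact q8 2 4 (by decide) (by decide) | exact q9 2 4 (by decide) (by decide) (by decide) (by decide)
        · have e2 : T.w (u 3) = w := by first | exact q4 3 (by decide) | exact q5 3 (by decide)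
          rw [(h2 (u 3)).2, e2]; try ring
        · first | exact q6 3 4 (by decide) (by decide) | exact q7 3 4 (by decide) (by decide) | exact q8 3 4 (by decide) (by decide) | exact q9 3 4 (by decide) (by decide) (by decide) (by decide)
        · have e2 : T.w (u 4) = w := by first | exact q4 4 (by decide) | exact q5 4 (by decide)
          rw [(h2 (u 4)).2, e2]; try ring
      exact Or.inr (Or.inr (Or.inr (Or.inr (Or.inr (Or.inr (Or.inr (Or.inl hexp)))))))
    · unfold Clause6 at h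
      obtain ⟨q1, q2, q3, q4, q5, q6, q7⟩ := h
      have hexp : T.m (u 0) = 2 * m ∧ T.m (u 1) = 2 * m ∧ T.m (u 2) = 2 * m ∧ T.m (u 3) = m ∧ T.m (u 4) = m ∧ T.w (u 0) = w ∧ T.w (u 1) = 2 * w ∧ T.w (u 2) = 2 * w ∧ T.w (u 3) = 2 * w ∧ T.w (u 4) = 2 * w ∧ T.a (u 0) (u 0) = -2 * w ∧ T.a (u 0) (u 1) = 2 * w ∧ T.a (u 0) (u 2) = 0 ∧ T.a (u 0) (u 3) = 0 ∧ T.a (u 0) (u 4) = 0 ∧ T.a (u 1) (u 1) = -4 * w ∧ T.a (u 1) (u 2) = 2 * w ∧ T.a (u 1) (u 3) = 0 ∧ T.a (u 1) (u 4) = 0 ∧ T.a (u 2) (u 2) = -4 * w ∧ T.a (u 2) (u 3) = 2 * w ∧ T.a (u 2) (u 4) = 2 * w ∧ T.a (u 3) (u 3) = -4 * w ∧ T.a (u 3) (u 4) = 0 ∧ T.a (u 4) (u 4) = -4 * w := by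
        refine ⟨?_, ?_, ?_, ?_, ?_, ?_, ?_, ?_, ?_, ?_, ?_, ?_, ?_, ?_, ?_, ?_, ?_, ?_, ?_, ?_, ?_, ?_, ?_, ?_, ?_⟩
        · first | exact q1 0 (by decide) | exact q2 0 (by decide)
        · first | exact q1 1 (by decide) | exact q2 1 (by decide)
        · first | exact q1 2 (by decide) | exact q2 2 (by decide)
        · first | exact q1 3 (by decide) | exact q2 3 (by decide)
        · first | exact q1 4 (by decide) | exact q2 4 (by decide)
        · first | exact q3 0 (by decide) | exact q4 0 (by decide)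
        · first | exact q3 1 (by decide) | exact q4 1 (by decide)
        · first | exact q3 2 (by decide) | exact q4 2 (by decide)
        · first | exact q3 3 (by decide) | exact q4 3 (by decide)
        · first | exact q3 4 (by decide) | exact q4 4 (by decide)
        · have e2 : T.w (u 0) = w := by first | exact q3 0 (by decide) | exact q4 0 (by decide)
          rw [(h2 (u 0)).2, e2]; try ring
        · first | exact q5 0 1 (by decide) (by decide) | exact q6 0 1 (by decide) (by decide) | exact q7 0 1 (by decide) (by decide) (by decide)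
        · first | exact q5 0 2 (by decide) (by decide) | exact q6 0 2 (by decide) (by decide) | exact q7 0 2 (by decide) (by decide) (by decide)
        · first | exact q5 0 3 (by decide) (by decide) | exact q6 0 3 (by decide) (by decide) | exact q7 0 3 (by decide) (by decide) (by decide)
        · first | exact q5 0 4 (by decide) (by decide) | exact q6 0 4 (by decide) (by decide) | exact q7 0 4 (by decide) (by decide) (by decide)
        · have e2 : T.w (u 1) = 2 * w := by first | exact q3 1 (by decide) | exact q4 1 (by decide)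
          rw [(h2 (u 1)).2, e2]; try ring
        · first | exact q5 1 2 (by decide) (by decide) | exact q6 1 2 (by decide) (by decide) | exact q7 1 2 (by decide) (by decide) (by decide)
        · first | exact q5 1 3 (by decide) (by decide) | exact q6 1 3 (by decide) (by decide) | exact q7 1 3 (by decide) (by decide) (by decide)
        · first | exact q5 1 4 (by decide) (by decide) | exact q6 1 4 (by decide) (by decide) | exact q7 1 4 (by decide) (by decide) (by decide)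
        · have e2 : T.w (u 2) = 2 * w := by first | exact q3 2 (by decide) | exact q4 2 (by decide)
          rw [(h2 (u 2)).2, e2]; try ring
        · first | exact q5 2 3 (by decide) (by decide) | exact q6 2 3 (by decide) (by decide) | exact q7 2 3 (by decide) (by decide) (by decide)
        · first | exact q5 2 4 (by decide) (by decide) | exact q6 2 4 (by decide) (by decide) | exact q7 2 4 (by decide) (by decide) (by decide)
        · have e2 : T.w (u 3) = 2 * w := by first | exact q3 3 (by decide) | exact q4 3 (by decide)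
          rw [(h2 (u 3)).2, e2]; try ring
        · first | exact q5 3 4 (by decide) (by decide) | exact q6 3 4 (by decide) (by decide) | exact q7 3 4 (by decide) (by decide) (by decide)
        · have e2 : T.w (u 4) = 2 * w := by first | exact q3 4 (by decide) | exact q4 4 (by decide)
          rw [(h2 (u 4)).2, e2]; try ring
      exact Or.inr (Or.inr (Or.inr (Or.inr (Or.inr (Or.inr (Or.inr (Or.inr (hexp))))))))
    · exfalso
      have := h.1
      omega

end Groth.Agent.S7365
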