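import Groth.Statements.S7382
-- import your own Groth.Agent.* helpers here
import Mathlib
import Groth.Agent.S17885
import Groth.Agent.Lib.Helper22NA14
import Groth.Agent.Lib.Helper22IdealComap

set_option autoImplicit false
universe u
open CategoryTheory AlgebraicGeometry
open Lim

namespace Groth.Agent.S7382

open Limits TopologicalSpace Opposite
open Groth.Agent.Lib.Helper22 Groth.Agent.Lib.Helper22.FTIdeal

/-! ### finite type is stable under pullback of ideal sheaves -/

theorem ft_comap {X Y : Scheme.{u}} (t : X ⟶ Y) (J : Y.IdealSheafData) (hJ : FT J) :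
    FT (J.comap t) := by
  classical
  intro W
  have hW' : IsAffineOpen W.1 := W.2
  have key : ∀ x : W.1, ∃ U : X.affineOpens, x.1 ∈ U.1 ∧ U.1 ≤ W.1 ∧ FTOn (J.comap t) U.1 := by
    rintro ⟨x, hx⟩
    obtain ⟨_, ⟨V, hV, rfl⟩, hxV, -⟩ := Y.isBasis_affineOpens.exists_subset_of_mem_open
      (Set.mem_univ (t x)) isOpen_univ
    obtain ⟨_, ⟨U, hU, rfl⟩, hxU, hUle⟩ := X.isBasis_affineOpens.exists_subset_of_mem_open
      (show x ∈ ((W.1 ⊓ t ⁻¹ᵁ V : X.Opens) : Set X) from ⟨hx, hxV⟩) (W.1 ⊓ t ⁻¹ᵁ V).isOpen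
    refine ⟨⟨U, hU⟩, hxU, fun y hy => (hUle hy).1, ftOn_of_fg ⟨U, hU⟩ ?_⟩
    rw [IdealComap.ideal_comap_eq_map t J ⟨U, hU⟩ ⟨V, hV⟩ (fun y hy => (hUle hy).2)]
    exact (hJ ⟨V, hV⟩).map _
  choose U hxU hUW hU using key
  have hfin : ∀ s : Finset W.1, FTOn (J.comap t) (⨆ x ∈ s, (U x).1) := by
    intro s
    induction s using Finset.induction_on with
    | empty => simpa using ftOn_bot (J.comap t)
    | insert a s _ ih => rw [Finset.iSup_insert]; exact (hU a).sup ih
  obtain ⟨s, hs⟩ := hW'.isCompact.elim_finite_subcover (fun x : W.1 => ((U x).1 : Set X))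
    (fun x => (U x).1.isOpen) (fun x hx => Set.mem_iUnion.mpr ⟨⟨x, hx⟩, hxU ⟨x, hx⟩⟩)
  refine hfin s W fun y hy => ?_
  obtain ⟨x, hxs, hyx⟩ := Set.mem_iUnion₂.mp (hs hy)
  exact Opens.mem_iSup.mpr ⟨x, Opens.mem_iSup.mpr ⟨hxs, hyx⟩⟩

/-! ### the scheme theoretic image of an integral scheme in an affine finite type scheme is finite -/

theorem isFinite_image {X Y S : Scheme.{u}} (π : X ⟶ Y) [QuasiCompact π] (g : Y ⟶ S)
    [IsAffineHom g] [LocallyOfFiniteType g] [IsIntegralHom (π ≫ g)] :
    IsFinite (π.imageι ≫ g) := by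
  rw [IsFinite.iff_isIntegralHom_and_locallyOfFiniteType]
  refine ⟨?_, inferInstance⟩
  have haff : IsAffineHom (π.imageι ≫ g) := inferInstance
  refine { toIsAffineHom := haff, isIntegral_app := fun V hV => ?_ }
  have hU : IsAffineOpen (g ⁻¹ᵁ V) := hV.preimage g
  have hinj := π.toImage_app_injective ⟨g ⁻¹ᵁ V, hU⟩
  haveI h1 : IsIntegralHom (π.toImage ≫ π.imageι ≫ g) := by
    rw [Scheme.Hom.toImage_imageι_assoc]; infer_instance
  have h2 : ((π.toImage ≫ π.imageι ≫ g).app V).hom.IsIntegral :=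
    IsIntegralHom.isIntegral_app _ V hV
  have h2' : ((CommRingCat.Hom.hom (π.toImage.app ((π.imageι ≫ g) ⁻¹ᵁ V))).comp
      (CommRingCat.Hom.hom ((π.imageι ≫ g).app V))).IsIntegral := h2
  exact RingHom.IsIntegral.tower_bot _ _ hinj h2'

theorem exists_finite_ft {X Y S : Scheme.{u}} [CompactSpace S] [QuasiSeparatedSpace S]
    (π : X ⟶ Y) [QuasiCompact π] (g : Y ⟶ S) [IsAffineHom g] [LocallyOfFinitePresentation g]
    [IsIntegralHom (π ≫ g)] :
    ∃ J : Y.IdealSheafData, FT J ∧ J ≤ π.ker ∧ IsFinite (J.subschemeι ≫ g) := by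
  haveI : CompactSpace Y := QuasiCompact.compactSpace_of_compactSpace g
  haveI : QuasiSeparatedSpace Y := quasiSeparatedSpace_of_quasiSeparated g
  haveI : IsFinite (π.imageι ≫ g) := isFinite_image π g
  obtain ⟨J₀, hJ₀⟩ := NA14.exists_finite_stage_closed π.imageι g
  have hker : π.imageι.ker = π.ker := π.ker.ker_subschemeι
  exact ⟨J₀.1, J₀.2.2, J₀.2.1.trans hker.le, hJ₀⟩

/-! ### an affine morphism to a qcqs scheme as a directed limit of affine fp schemes -/

theorem exists_affine_fp_system {X S : Scheme.{u}} (f : X ⟶ S) [IsAffineHom f]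
    [CompactSpace S] [QuasiSeparatedSpace S] :
    ∃ (I : Type u) (_ : Preorder I) (_ : IsDirected I (fun a b => a ≤ b)) (_ : Nonempty I)
      (D : Iᵒᵖ ⥤ Over S) (c : Limits.Cone D) (_ : Limits.IsLimit c),
      (∀ i, IsAffineHom (D.obj i).hom ∧ LocallyOfFinitePresentation (D.obj i).hom) ∧
      Nonempty (c.pt ≅ Over.mk f) := by
  haveI : CompactSpace X := QuasiCompact.compactSpace_of_compactSpace f
  haveI : QuasiSeparatedSpace X := quasiSeparatedSpace_of_quasiSeparated f
  obtain ⟨I, _, hdir, hne, D, c, hc, hprops, hafft, ⟨e⟩⟩ := Groth.Agent.S7383.result f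
  haveI : IsIso e.hom.left := inferInstanceAs (IsIso ((Over.forget S).map e.hom))
  haveI : IsFiltered I := isFiltered_of_directed_le_nonempty I
  haveI : IsConnected Iᵒᵖ := IsCofiltered.isConnected _
  haveI : ∀ {i j : Iᵒᵖ} (a : i ⟶ j), IsAffineHom ((D ⋙ Over.forget S).map a) :=
    fun a => hafft _ _ a
  let t : ∀ j : Iᵒᵖ, (D ⋙ Over.forget S).obj j ⟶ S := fun j => (D.obj j).hom
  haveI : ∀ j : Iᵒᵖ, QuasiCompact (t j) := fun j => (hprops j).2.1
  haveI : ∀ j : Iᵒᵖ, QuasiSeparated (t j) := fun j => (hprops j).2.2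
  have hT : c.pt.hom = e.hom.left ≫ f := (Over.w e.hom).symm
  let T : ((Over.forget S).mapCone c).pt ⟶ S := c.pt.hom
  haveI : IsAffineHom T := by
    show IsAffineHom c.pt.hom
    rw [hT]; infer_instance
  obtain ⟨j₁, hj₁⟩ := Groth.Agent.S17885.exists_isAffineHom_stage (D ⋙ Over.forget S) t
    (fun a => Over.w (D.map a)) ((Over.forget S).mapCone c)
    (isLimitOfPreserves (Over.forget S) hc) T (fun j => Over.w (c.π.app j))
  let i₁ : I := j₁.unop
  haveI : Nonempty {i : I // i₁ ≤ i} := ⟨⟨i₁, le_rfl⟩⟩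
  haveI hdir' : IsDirected {i : I // i₁ ≤ i} (fun a b => a ≤ b) := ⟨fun a b => by
    obtain ⟨k, hak, hbk⟩ := hdir.directed a.1 b.1
    exact ⟨⟨k, a.2.trans hak⟩, hak, hbk⟩⟩
  haveI : IsFiltered {i : I // i₁ ≤ i} := isFiltered_of_directed_le_nonempty _
  let G : {i : I // i₁ ≤ i} ⥤ I := (Subtype.mono_coe (fun i : I => i₁ ≤ i)).functor
  haveI : G.Final := by
    refine Functor.final_of_exists_of_isFiltered G (fun d => ?_) (fun {d c'} s s' => ?_)
    · obtain ⟨k, hdk, hik⟩ := hdir.directed d i₁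
      exact ⟨⟨k, hik⟩, ⟨homOfLE hdk⟩⟩
    · exact ⟨c', 𝟙 _, Subsingleton.elim _ _⟩
  refine ⟨{i : I // i₁ ≤ i}, inferInstance, hdir', inferInstance, G.op ⋙ D, c.whisker G.op,
    (Functor.Initial.isLimitWhiskerEquiv G.op c).symm hc, fun i => ⟨?_, (hprops _).1⟩, ⟨e⟩⟩
  have a : (G.op.obj i) ⟶ j₁ := (homOfLE i.unop.2).op
  have hw : (D.map a).left ≫ (D.obj j₁).hom = (D.obj (G.op.obj i)).hom := Over.w (D.map a)
  show IsAffineHom (D.obj (G.op.obj i)).hom
  rw [← hw]
  haveI : IsAffineHom (D.map a).left := hafft _ _ a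
  haveI : IsAffineHom (D.obj j₁).hom := hj₁
  infer_instance

/-! ### the directed system of finite, finitely presented closed subschemes of the stages -/

section main

variable {I : Type u} [Preorder I] {S : Scheme.{u}} (D : Iᵒᵖ ⥤ Over S) (c : Cone D)

/-- the schemes of the system -/
abbrev Xo (i : I) : Scheme.{u} := (D.obj (op i)).left

/-- the structure morphisms -/
abbrev go (i : I) : Xo D i ⟶ S := (D.obj (op i)).hom

/-- the transition morphisms -/
abbrev tr {i j : I} (h : i ≤ j) : Xo D j ⟶ Xo D i := (D.map (homOfLE h).op).left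

/-- the projections -/
abbrev pr (i : I) : c.pt.left ⟶ Xo D i := (c.π.app (op i)).left

theorem tr_refl (i : I) (h : i ≤ i) : tr D h = 𝟙 _ := by
  have h1 : (homOfLE h).op = 𝟙 (op i) := rfl
  change (D.map (homOfLE h).op).left = _
  rw [h1, D.map_id]; rfl

theorem tr_trans {i j k : I} (h : i ≤ j) (h' : j ≤ k) :
    tr D h' ≫ tr D h = tr D (h.trans h') := by
  have h1 : (homOfLE (h.trans h')).op = (homOfLE h').op ≫ (homOfLE h).op := rfl
  change (D.map _).left ≫ (D.map _).left = (D.map _).left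
  rw [h1, D.map_comp]; rfl

theorem tr_go {i j : I} (h : i ≤ j) : tr D h ≫ go D i = go D j :=
  Over.w (D.map (homOfLE h).op)

theorem pr_tr {i j : I} (h : i ≤ j) : pr D c j ≫ tr D h = pr D c i :=
  congrArg (fun m => m.left) (c.w (homOfLE h).op)

theorem pr_go (i : I) : pr D c i ≫ go D i = c.pt.hom := Over.w (c.π.app (op i))

/-- the index set: a stage together with a finite type ideal inside the kernel of the projection
whose closed subscheme is finite over `S`. -/
structure Idx where
  i : I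
  J : (Xo D i).IdealSheafData
  ft : FT J
  le : J ≤ (pr D c i).ker
  fin : IsFinite (J.subschemeι ≫ go D i)

variable {D c}

instance : Preorder (Idx D c) where
  le a b := a.i ≤ b.i ∧ ∀ h : a.i ≤ b.i, a.J.comap (tr D h) ≤ b.J
  le_refl a := ⟨le_rfl, fun h => by rw [tr_refl, Scheme.IdealSheafData.comap_id]⟩
  le_trans a b d hab hbd := ⟨hab.1.trans hbd.1, fun h => by
    have h1 : tr D h = tr D hbd.1 ≫ tr D hab.1 := (tr_trans D hab.1 hbd.1).symm
    rw [h1, Scheme.IdealSheafData.comap_comp]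
    exact (Scheme.IdealSheafData.comap_mono _ (hab.2 hab.1)).trans (hbd.2 hbd.1)⟩

/-- the transition maps of the closed subschemes -/
noncomputable def mapLeft {a b : Idx D c} (h : a ≤ b) : b.J.subscheme ⟶ a.J.subscheme :=
  Scheme.IdealSheafData.subschemeMap b.J a.J (tr D h.1)
    (Scheme.IdealSheafData.le_map_iff_comap_le.mpr (h.2 h.1))

@[reassoc]
theorem mapLeft_ι {a b : Idx D c} (h : a ≤ b) :
    mapLeft h ≫ a.J.subschemeι = b.J.subschemeι ≫ tr D h.1 :=
  Scheme.IdealSheafData.subschemeMap_subschemeι _ _ _ _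

variable (D c)

/-- the diagram of finite finitely presented `S`-schemes -/
noncomputable def diag : (Idx D c)ᵒᵖ ⥤ Over S where
  obj k := Over.mk (k.unop.J.subschemeι ≫ go D k.unop.i)
  map {k l} a := Over.homMk (mapLeft (leOfHom a.unop)) (by
    change mapLeft (leOfHom a.unop) ≫ (l.unop.J.subschemeι ≫ go D l.unop.i) =
      k.unop.J.subschemeι ≫ go D k.unop.i
    rw [mapLeft_ι_assoc, tr_go])
  map_id k := by
    apply Over.OverMorphism.ext
    change mapLeft (leOfHom (𝟙 k).unop) = 𝟙 _
    rw [← cancel_mono k.unop.J.subschemeι, mapLeft_ι, tr_refl, Category.comp_id, Category.id_comp]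
  map_comp {k l m} a b := by
    apply Over.OverMorphism.ext
    change mapLeft (leOfHom (a ≫ b).unop) = mapLeft (leOfHom a.unop) ≫ mapLeft (leOfHom b.unop)
    rw [← cancel_mono m.unop.J.subschemeι, Category.assoc, mapLeft_ι, mapLeft_ι, mapLeft_ι_assoc,
      tr_trans]

/-- the lift of the projection to the closed subscheme -/
noncomputable def lft (k : Idx D c) : c.pt.left ⟶ k.J.subscheme :=
  IsClosedImmersion.lift k.J.subschemeι (pr D c k.i)
    (by rw [Scheme.IdealSheafData.ker_subschemeι]; exact k.le)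

@[reassoc]
theorem lft_ι (k : Idx D c) : lft D c k ≫ k.J.subschemeι = pr D c k.i :=
  IsClosedImmersion.lift_fac _ _ _

/-- the cone with vertex the original one -/
noncomputable def cone : Cone (diag D c) where
  pt := c.pt
  π :=
    { app := fun k => Over.homMk (lft D c k.unop) (by
        change lft D c k.unop ≫ (k.unop.J.subschemeι ≫ go D k.unop.i) = c.pt.hom
        rw [lft_ι_assoc, pr_go])
      naturality := fun k l a => by
        apply Over.OverMorphism.ext
        change 𝟙 _ ≫ lft D c l.unop = lft D c k.unop ≫ mapLeft (leOfHom a.unop)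
        rw [Category.id_comp, ← cancel_mono l.unop.J.subschemeι, Category.assoc, mapLeft_ι,
          lft_ι, lft_ι_assoc, pr_tr] }

/-- the closed immersion of a member into its stage, over `S` -/
noncomputable def ιO (k : Idx D c) : (diag D c).obj (op k) ⟶ D.obj (op k.i) :=
  Over.homMk k.J.subschemeι rfl

instance (k : Idx D c) : Mono (ιO D c k) := by
  haveI : Mono (ιO D c k).left := inferInstanceAs (Mono k.J.subschemeι)
  exact Over.mono_of_mono_left _

theorem cone_ιO (k : Idx D c) : (cone D c).π.app (op k) ≫ ιO D c k = c.π.app (op k.i) := by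
  apply Over.OverMorphism.ext
  exact lft_ι D c k

theorem map_ιO {a b : Idx D c} (h : a ≤ b) :
    (diag D c).map (homOfLE h).op ≫ ιO D c a = ιO D c b ≫ D.map (homOfLE h.1).op := by
  apply Over.OverMorphism.ext
  change mapLeft h ≫ a.J.subschemeι = b.J.subschemeι ≫ tr D h.1
  exact mapLeft_ι h

variable {D c}

/-- the composite of a leg of a cone with the closed immersion -/
noncomputable def sig (s : Cone (diag D c)) (k : Idx D c) : s.pt ⟶ D.obj (op k.i) :=
  s.π.app (op k) ≫ ιO D c k

theorem sig_mono (s : Cone (diag D c)) {a b : Idx D c} (h : a ≤ b) :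
    sig s b ≫ D.map (homOfLE h.1).op = sig s a := by
  unfold sig
  rw [Category.assoc, ← map_ιO D c h, ← Category.assoc, s.w]

variable [IsDirected I (fun a b => a ≤ b)]
  (hne : ∀ i : I, ∃ J : (Xo D i).IdealSheafData,
    FT J ∧ J ≤ (pr D c i).ker ∧ IsFinite (J.subschemeι ≫ go D i))

include hne in
theorem exists_ub (a b : Idx D c) : ∃ d : Idx D c, a ≤ d ∧ b ≤ d := by
  obtain ⟨j, haj, hbj⟩ := exists_ge_ge a.i b.i
  obtain ⟨J₀, hft, hle, hfin⟩ := hne j
  have hA : a.J.comap (tr D haj) ≤ (pr D c j).ker := by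
    rw [← Scheme.IdealSheafData.le_map_iff_comap_le, Scheme.IdealSheafData.map_ker, pr_tr]
    exact a.le
  have hB : b.J.comap (tr D hbj) ≤ (pr D c j).ker := by
    rw [← Scheme.IdealSheafData.le_map_iff_comap_le, Scheme.IdealSheafData.map_ker, pr_tr]
    exact b.le
  have hJ₀le : J₀ ≤ a.J.comap (tr D haj) ⊔ b.J.comap (tr D hbj) ⊔ J₀ := le_sup_right
  have hfin' : IsFinite ((a.J.comap (tr D haj) ⊔ b.J.comap (tr D hbj) ⊔ J₀).subschemeι ≫
      go D j) := by
    have h7 := NA14.isClosedImmersion_inclusion hJ₀le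
    rw [← Scheme.IdealSheafData.inclusion_subschemeι hJ₀le, Category.assoc]
    infer_instance
  exact ⟨⟨j, a.J.comap (tr D haj) ⊔ b.J.comap (tr D hbj) ⊔ J₀,
    ((ft_comap _ _ a.ft).sup (ft_comap _ _ b.ft)).sup hft, sup_le (sup_le hA hB) hle, hfin'⟩,
    ⟨haj, fun _ => le_sup_of_le_left le_sup_left⟩, ⟨hbj, fun _ => le_sup_of_le_left le_sup_right⟩⟩

/-- a chosen member over each stage -/
noncomputable def kap (i : I) : Idx D c :=
  ⟨i, (hne i).choose, (hne i).choose_spec.1, (hne i).choose_spec.2.1, (hne i).choose_spec.2.2⟩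

/-- the induced legs to the stages -/
noncomputable def sigI (s : Cone (diag D c)) (i : I) : s.pt ⟶ D.obj (op i) := sig s (kap hne i)

theorem sigI_eq (s : Cone (diag D c)) (k : Idx D c) : sigI hne s k.i = sig s k := by
  obtain ⟨d, h1, h2⟩ := exists_ub hne (kap hne k.i) k
  have hk : k.i ≤ d.i := h2.1
  have e1 : sigI hne s k.i = sig s d ≫ D.map (homOfLE hk).op := (sig_mono s h1).symm
  exact e1.trans (sig_mono s h2)

theorem sigI_mono (s : Cone (diag D c)) {i j : I} (h : i ≤ j) :
    sigI hne s j ≫ D.map (homOfLE h).op = sigI hne s i := by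
  obtain ⟨d, h1, h2⟩ := exists_ub hne (kap hne j) (kap hne i)
  have hj : j ≤ d.i := h1.1
  have hi : i ≤ d.i := h2.1
  have e1 : sigI hne s j = sig s d ≫ D.map (homOfLE hj).op := (sig_mono s h1).symm
  have e2 : sigI hne s i = sig s d ≫ D.map (homOfLE hi).op := (sig_mono s h2).symm
  rw [e1, e2, Category.assoc, ← D.map_comp]
  rfl

/-- the induced cone over the original system -/
noncomputable def coneD (s : Cone (diag D c)) : Cone D where
  pt := s.pt
  π :=
    { app := fun x => sigI hne s x.unop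
      naturality := fun x y a => by
        have h : y.unop ≤ x.unop := leOfHom a.unop
        change 𝟙 _ ≫ sigI hne s y.unop = sigI hne s x.unop ≫ D.map a
        rw [Category.id_comp]
        exact (sigI_mono hne s h).symm }

/-- the cone is a limit cone -/
noncomputable def isLimitCone (hc : IsLimit c) : IsLimit (cone D c) where
  lift s := hc.lift (coneD hne s)
  fac s k := by
    have h1 : (cone D c).π.app k ≫ ιO D c k.unop = c.π.app (op k.unop.i) := cone_ιO D c k.unop
    have h2 : hc.lift (coneD hne s) ≫ c.π.app (op k.unop.i) = sigI hne s k.unop.i :=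
      hc.fac (coneD hne s) (op k.unop.i)
    apply (cancel_mono (ιO D c k.unop)).mp
    exact (Category.assoc _ _ _).trans ((congrArg (fun q => hc.lift (coneD hne s) ≫ q) h1).trans
      (h2.trans (sigI_eq hne s k.unop)))
  uniq s m hm := by
    refine hc.uniq (coneD hne s) m fun x => ?_
    have h1 := hm (op (kap hne x.unop))
    have h2 : (cone D c).π.app (op (kap hne x.unop)) ≫ ιO D c (kap hne x.unop) = c.π.app x :=
      cone_ιO D c (kap hne x.unop)
    change m ≫ c.π.app x = s.π.app (op (kap hne x.unop)) ≫ ιO D c (kap hne x.unop)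
    rw [← h1, Category.assoc, h2]
    rfl

end main

/-- Let `f : X → S` be integral with `S` quasi-compact and quasi-separated. Then, in the category of
schemes over `S`, `X` is the limit of a nonempty directed inverse system of schemes `X_i → S` that
are finite and locally of finite presentation. -/
theorem result {X S : Scheme.{u}} (f : X ⟶ S) [IsIntegralHom f]
    [CompactSpace S] [QuasiSeparatedSpace S] :
    ∃ (I : Type u) (_ : Preorder I) (_ : IsDirected I (fun a b => a ≤ b)) (_ : Nonempty I)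
      (D : Iᵒᵖ ⥤ Over S) (c : Limits.Cone D) (_ : Limits.IsLimit c),
      (∀ i, IsFinite (D.obj i).hom ∧ LocallyOfFinitePresentation (D.obj i).hom) ∧
      Nonempty (c.pt ≅ Over.mk f) := by
  obtain ⟨I, _, _, _, D, c, hc, hprops, ⟨e⟩⟩ := exists_affine_fp_system f
  haveI : ∀ i : I, IsAffineHom (go D i) := fun i => (hprops (op i)).1
  haveI : ∀ i : I, LocallyOfFinitePresentation (go D i) := fun i => (hprops (op i)).2
  haveI : IsIso e.hom.left := inferInstanceAs (IsIso ((Over.forget S).map e.hom))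
  have hT : c.pt.hom = e.hom.left ≫ f := (Over.w e.hom).symm
  haveI : IsIntegralHom c.pt.hom := by rw [hT]; infer_instance
  haveI : CompactSpace c.pt.left := QuasiCompact.compactSpace_of_compactSpace c.pt.hom
  have hne : ∀ i : I, ∃ J : (Xo D i).IdealSheafData,
      FT J ∧ J ≤ (pr D c i).ker ∧ IsFinite (J.subschemeι ≫ go D i) := by
    intro i
    haveI : QuasiSeparatedSpace (Xo D i) := quasiSeparatedSpace_of_quasiSeparated (go D i)
    haveI : QuasiCompact (pr D c i) := inferInstance
    haveI : IsIntegralHom (pr D c i ≫ go D i) := by rw [pr_go]; infer_instance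
    exact exists_finite_ft (pr D c i) (go D i)
  obtain ⟨i₀⟩ : Nonempty I := inferInstance
  refine ⟨Idx D c, inferInstance, ⟨fun a b => exists_ub hne a b⟩, ⟨kap hne i₀⟩, diag D c,
    cone D c, isLimitCone hne hc, fun k => ⟨k.unop.fin, ?_⟩, ⟨e⟩⟩
  haveI := FTLimit.locallyOfFinitePresentation_subschemeι k.unop.J k.unop.ft
  exact inferInstanceAs (LocallyOfFinitePresentation (k.unop.J.subschemeι ≫ go D k.unop.i))

end Groth.Agent.S7382
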