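import Groth.Statements.S7386
import Groth.Agent.Lib.Helper11Generic

set_option autoImplicit false
universe u
open CategoryTheory AlgebraicGeometry
open Mor

namespace Groth.Agent.S7386

open Groth.Agent.Lib.Helper11

/-- Let `X` be a quasi-separated scheme, `η_1, …, η_n` generic points of irreducible components of `X`
and `x` any point of `X`. Then some affine open of `X` contains `x` and all the `η_i`. -/
theorem result (X : Scheme.{u}) [QuasiSeparatedSpace X] {n : ℕ}
    (η : Fin n → X) (hη : ∀ i, closure ({η i} : Set X) ∈ irreducibleComponents (X : Type u)) (x : X) :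
    ∃ U : X.Opens, IsAffineOpen U ∧ x ∈ U ∧ ∀ i, η i ∈ U := by
  classical
  obtain ⟨U₀, hU₀, hxU₀, -⟩ := exists_isAffineOpen_mem_and_subset (x := x) (U := ⊤) trivial
  have hS : (Set.range η \ (U₀ : Set X)).Finite := (Set.finite_range η).subset Set.sdiff_subset
  obtain ⟨U, hU1, hU2⟩ := exists_disjoint_affine_nhds (Set.range η \ (U₀ : Set X)) hS
    (by rintro _ ⟨⟨i, rfl⟩, _⟩; exact hη i) U₀ hU₀.isCompact (fun y hy => hy.2)
  have haff : IsAffineOpen (⨆ y ∈ (Set.range η \ (U₀ : Set X)), U y) :=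
    IsAffineOpen.biSup_of_disjoint hS (fun y hy => (hU1 y hy).1)
      (fun y hy z hz hyz => hU2 y hy z hz hyz)
  have hdis : Disjoint U₀ (⨆ y ∈ (Set.range η \ (U₀ : Set X)), U y) := by
    rw [disjoint_iSup₂_iff]
    intro y hy
    exact (hU1 y hy).2.2.symm
  refine ⟨U₀ ⊔ ⨆ y ∈ (Set.range η \ (U₀ : Set X)), U y, hU₀.sup_of_disjoint haff hdis,
    Or.inl hxU₀, fun i => ?_⟩
  by_cases hi : η i ∈ U₀
  · exact Or.inl hi
  · refine Or.inr ?_
    have hmem : η i ∈ Set.range η \ (U₀ : Set X) := ⟨⟨i, rfl⟩, hi⟩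
    exact (le_iSup₂_of_le (η i) hmem le_rfl : U (η i) ≤ _) (hU1 _ hmem).2.1

end Groth.Agent.S7386
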