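import Groth.Statements.S7389
import Mathlib

set_option autoImplicit false
universe u
open CategoryTheory AlgebraicGeometry
open Mor

namespace Groth.Agent.S7389

/-- the prime ideal of global sections vanishing at a point -/
noncomputable def ptIdeal (Y : Scheme.{u}) (y : Y) : Ideal Γ(Y, ⊤) :=
  (IsLocalRing.maximalIdeal (Y.presheaf.stalk y)).comap (Y.presheaf.germ ⊤ y trivial).hom

instance ptIdeal_isPrime (Y : Scheme.{u}) (y : Y) : (ptIdeal Y y).IsPrime := by
  unfold ptIdeal; infer_instance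

lemma mem_ptIdeal_iff (Y : Scheme.{u}) (y : Y) (a : Γ(Y, ⊤)) :
    a ∈ ptIdeal Y y ↔ y ∉ Y.basicOpen a := by
  rw [Scheme.mem_basicOpen_top]
  unfold ptIdeal
  rw [Ideal.mem_comap, IsLocalRing.mem_maximalIdeal, mem_nonunits_iff]

lemma exists_basicOpen_between (Y : Scheme.{u}) [IsAffine Y] (V : Y.Opens) (F : Set Y)
    (hF : F.Finite) (hFV : F ⊆ V) :
    ∃ f : Γ(Y, ⊤), F ⊆ Y.basicOpen f ∧ Y.basicOpen f ≤ V := by
  classical
  rcases F.eq_empty_or_nonempty with hemp | ⟨y₀, hy₀⟩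
  · refine ⟨0, by simp [hemp], ?_⟩
    rw [Scheme.basicOpen_zero]; exact bot_le
  have hg : ∀ y : Y, ∃ g : Γ(Y, ⊤), y ∈ F → (y ∈ Y.basicOpen g ∧ Y.basicOpen g ≤ V) := by
    intro y
    by_cases hy : y ∈ F
    · obtain ⟨_, ⟨g, rfl⟩, h1, h2⟩ := TopologicalSpace.Opens.isBasis_iff_nbhd.mp
        (isBasis_basicOpen Y) (show y ∈ V from hFV hy)
      exact ⟨g, fun _ => ⟨h1, h2⟩⟩
    · exact ⟨0, fun h => absurd h hy⟩
  choose g hg using hg
  set I : Ideal Γ(Y, ⊤) := Ideal.span (g '' F) with hI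
  have hex : ∃ f ∈ I, ∀ y ∈ F, f ∉ ptIdeal Y y := by
    by_contra hcon
    push Not at hcon
    have hsub : (I : Set Γ(Y, ⊤)) ⊆ ⋃ y ∈ (↑hF.toFinset : Set Y), (ptIdeal Y y : Set Γ(Y, ⊤)) := by
      intro f hf
      obtain ⟨y, hy, hfy⟩ := hcon f hf
      simp only [Set.mem_iUnion]
      exact ⟨y, by simpa using hy, hfy⟩
    obtain ⟨y, hy, hIy⟩ := (Ideal.subset_union_prime (f := ptIdeal Y) y₀ y₀ (fun i _ _ _ => ptIdeal_isPrime Y i)).mp hsub
    have hyF : y ∈ F := by simpa using hy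
    have h1 : g y ∈ ptIdeal Y y := hIy (Ideal.subset_span ⟨y, hyF, rfl⟩)
    rw [mem_ptIdeal_iff] at h1
    exact h1 (hg y hyF).1
  obtain ⟨f, hfI, hf⟩ := hex
  refine ⟨f, fun y hy => ?_, fun z hz => ?_⟩
  · have := hf y hy
    rw [mem_ptIdeal_iff, not_not] at this
    exact this
  · by_contra hzV
    have hle : I ≤ ptIdeal Y z := by
      rw [hI, Ideal.span_le]
      rintro _ ⟨y, hy, rfl⟩
      show g y ∈ ptIdeal Y z
      rw [mem_ptIdeal_iff]
      intro hzg
      exact hzV ((hg y hy).2 hzg)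
    have := hle hfI
    rw [mem_ptIdeal_iff] at this
    exact this hz


/-- Let `X` be a scheme admitting an immersion into an affine scheme. Then any finite set of points of
`X` is contained in an affine open of `X`. -/
theorem result {X Y : Scheme.{u}} [IsAffine Y] (ι : X ⟶ Y)
    [IsImmersion ι] (E : Set X) (hE : E.Finite) :
    ∃ U : X.Opens, IsAffineOpen U ∧ E ⊆ U := by
  classical
  obtain ⟨f, hEf, hfV⟩ := exists_basicOpen_between Y ι.coborderRange (ι '' E) (hE.image _)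
    (by
      rintro _ ⟨x, _, rfl⟩
      exact subset_coborder ⟨x, rfl⟩)
  refine ⟨ι ⁻¹ᵁ (Y.basicOpen f), ?_, fun x hx => hEf ⟨x, hx, rfl⟩⟩
  have h1 : IsAffineOpen (ι.coborderRange.ι ⁻¹ᵁ (Y.basicOpen f)) :=
    ((isAffineOpen_top Y).basicOpen f).preimage_of_isOpenImmersion _
      (by rw [Scheme.Opens.opensRange_ι]; exact hfV)
  have h2 := h1.preimage ι.liftCoborder
  rw [← Scheme.Hom.comp_preimage, Scheme.Hom.liftCoborder_ι] at h2
  exact h2

end Groth.Agent.S7389
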