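import Groth.Statements.S7390
import Mathlib
import Groth.Agent.Lib.Helper23SecTw7
-- import your own Groth.Agent.* helpers here

set_option autoImplicit false
universe u
open CategoryTheory AlgebraicGeometry
open Mor

namespace Groth.Agent.S7390


open TopologicalSpace Opposite Limits
open Groth.Agent.Lib.Helper23.SecTw Groth.Agent.Lib.Helper23.GenLocus Groth.Agent.Lib.Helper6

set_option backward.defeqAttrib.useBackward true in
set_option backward.isDefEq.respectTransparency false in
/-- a scheme covered by affine opens with pairwise affine intersections has affine diagonal -/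
theorem isAffineHom_diagonal_of_isOpenCover {X : Scheme.{u}}
    {I : Type*} (U : I → X.Opens) (hU : IsOpenCover U)
    (hU₁ : ∀ i, IsAffineOpen (U i)) (hU₂ : ∀ i j, IsAffineOpen (U i ⊓ U j)) :
    IsAffineHom (Limits.pullback.diagonal (Limits.terminal.from X)) := by
  let := HasAffineProperty.isLocal_affineProperty @IsAffineHom.{u}
  change MorphismProperty.diagonal @IsAffineHom.{u} (Limits.terminal.from X)
  rw [HasAffineProperty.iff_of_isAffine (P := MorphismProperty.diagonal @IsAffineHom.{u})]
  have : ∀ i, IsAffine ((X.openCoverOfIsOpenCover U hU).X i) := hU₁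
  refine AffineTargetMorphismProperty.diagonal_of_openCover_source _
    (Scheme.openCoverOfIsOpenCover _ _ hU) fun i j ↦ ?_
  change IsAffine _
  let g := pullback.fst ((X.openCoverOfIsOpenCover U hU).f i)
    ((X.openCoverOfIsOpenCover U hU).f j) ≫ (X.openCoverOfIsOpenCover U hU).f i
  have hr : g.opensRange = U i ⊓ U j := by
    ext1
    simp only [Scheme.Hom.coe_opensRange, g]
    rw [IsOpenImmersion.range_pullback_to_base_of_left]
    simp
  have h1 : IsAffineOpen g.opensRange := hr ▸ hU₂ i j
  haveI : IsAffine g.opensRange.toScheme := h1
  exact .of_isIso g.isoOpensRange.hom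

/-- Let `X` be a scheme such that every point lies in some affine open `X_s`, the locus where a global
section `s` generates an invertible `O_X`-module `L` (both depending on the point). Then the
diagonal of `X` is an affine morphism. -/
theorem result (X : Scheme.{u})
    (h : ∀ x : X, ∃ (L : X.Modules) (s : Coh.structureModule X ⟶ L), PicF.IsInvertible L ∧
      x ∈ CohB1.genLocus L s ∧ IsAffineOpen (CohB1.genLocus L s)) :
    IsAffineHom (Limits.pullback.diagonal (Limits.terminal.from X)) := by
  choose L s hL hxs haff using h
  refine isAffineHom_diagonal_of_isOpenCover (fun x : X => CohB1.genLocus _ (s x)) ?_ haff (fun x y => ?_)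
  · rw [IsOpenCover, eq_top_iff]
    intro x _
    exact Opens.mem_iSup.2 ⟨x, hxs x⟩
  · exact isAffineOpen_inf_genLocus _ (hL y) (s y) _ (haff x)

end Groth.Agent.S7390
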