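import Groth.Statements.S7391
import Groth.Agent.Lib.Helper18LB

set_option autoImplicit false
universe u
open CategoryTheory AlgebraicGeometry
open Opposite
open Mor

namespace Groth.Agent.S7391

/-- Let `F` be a quasi-coherent `O_X`-module on a scheme `X`. Then `F(U)` is a projective
`O_X(U)`-module for every affine open `U` (that is, `F` is locally projective) if and only if `X`
has a covering by affine opens `U_i` with `F(U_i)` projective over `O_X(U_i)`. -/
theorem result (X : Scheme.{u}) (F : X.Modules) [Coh.IsQCoh F] :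
    (∀ U : X.Opens, IsAffineOpen U → Module.Projective (X.ringCatSheaf.obj.obj (op U)) (F.val.obj (op U))) ↔
      ∃ (I : Type u) (U : I → X.Opens), (⨆ i, U i) = ⊤ ∧ ∀ i, IsAffineOpen (U i) ∧
        Module.Projective (X.ringCatSheaf.obj.obj (op (U i))) (F.val.obj (op (U i))) := by
  have hq : F.IsQuasicoherent := ‹Coh.IsQCoh F›
  constructor
  · intro h
    refine ⟨X.affineOpens, fun V => V.1, ?_, fun V => ⟨V.2, h V.1 V.2⟩⟩
    rw [eq_top_iff]
    intro x _
    obtain ⟨_, ⟨W, hW, rfl⟩, hxW, -⟩ :=
      (X.isBasis_affineOpens).exists_subset_of_mem_open (Set.mem_univ x) isOpen_univ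
    exact TopologicalSpace.Opens.mem_iSup.mpr ⟨⟨W, hW⟩, hxW⟩
  · rintro ⟨I, V, hV, hI⟩ U hU
    refine Groth.Agent.Helper18LB.projective_of_forall_exists F hU (fun x _ => ?_)
    have hx : x ∈ (⨆ i, V i : X.Opens) := by rw [hV]; trivial
    obtain ⟨i, hi⟩ := TopologicalSpace.Opens.mem_iSup.mp hx
    exact ⟨V i, (hI i).1, hi, (hI i).2⟩

end Groth.Agent.S7391
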