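import Groth.Statements.S7392
import Groth.Agent.Lib.Helper20LocProj

set_option autoImplicit false
universe u
open CategoryTheory AlgebraicGeometry
open Opposite
open Mor

namespace Groth.Agent.S7392

/-- For a ring `A` and an `A`-module `M`, the module `M~` on `Spec A` is locally projective (projective
sections over every affine open) if and only if `M` is a projective `A`-module. -/
theorem result (A : CommRingCat.{u}) (M : ModuleCat.{u} A) :
    (∀ U : (Spec A).Opens, IsAffineOpen U →
      Module.Projective ((Spec A).ringCatSheaf.obj.obj (op U)) ((tilde M).val.obj (op U))) ↔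
      Module.Projective A M := by
  have hTop : IsAffineOpen (⊤ : (Spec A).Opens) := isAffineOpen_top (Spec A)
  let e : Γ(Spec A, ⊤) ≃+* A := (Scheme.ΓSpecIso A).commRingCatIsoToRingEquiv
  haveI := RingHomInvPair.of_ringEquiv e
  haveI := RingHomInvPair.of_ringEquiv_symm e
  let eM : M ≃ₗ[A] (moduleSpecΓFunctor (R := A)).obj (tilde M) :=
    ((tilde.toTildeΓNatIso (R := A)).app M).toLinearEquiv
  let eS : Γ(tilde M, ⊤) ≃ₛₗ[(e : Γ(Spec A, ⊤) →+* A)] (moduleSpecΓFunctor (R := A)).obj (tilde M) :=
    { toFun := fun x => x
      invFun := fun x => x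
      map_add' := fun _ _ => rfl
      map_smul' := fun r x => by
        change r • x = ((Scheme.ΓSpecIso A).inv.hom ((Scheme.ΓSpecIso A).hom.hom r)) • x
        congr 1
        exact (congrArg (fun φ => φ.hom r) (Scheme.ΓSpecIso A).hom_inv_id).symm
      left_inv := fun _ => rfl
      right_inv := fun _ => rfl }
  constructor
  · intro H
    haveI : Module.Projective Γ(Spec A, ⊤) Γ(tilde M, ⊤) := H ⊤ hTop
    haveI : Module.Projective A ((moduleSpecΓFunctor (R := A)).obj (tilde M)) :=
      Module.Projective.of_equiv eS
    exact Module.Projective.of_equiv' eM.symm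
  · intro H U hU
    haveI : Module.Projective A ((moduleSpecΓFunctor (R := A)).obj (tilde M)) :=
      Module.Projective.of_equiv' eM
    haveI : Module.Projective Γ(Spec A, ⊤) Γ(tilde M, ⊤) :=
      Module.Projective.of_equiv eS.symm
    exact Groth.Agent.Lib.Helper20.LocProj.projective_of_le hTop (tilde M) hU le_top

end Groth.Agent.S7392
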