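import Groth.Statements.S7393
import Groth.Agent.Lib.Helper7ClosedPts
import Groth.Agent.Lib.Helper7GRingMax
import Groth.Agent.Lib.Helper7ExcLoc
import Groth.Agent.Lib.Helper7ExcDim1

set_option autoImplicit false
universe u
open CategoryTheory AlgebraicGeometry
open Mor

namespace Groth.Agent.S7393

/-- A scheme `X` is a G-scheme (every point has an affine open neighbourhood whose coordinate ring is a
G-ring) if and only if `X` is locally Noetherian and, for every closed point `x`, the completion map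
of the local ring `O_{X,x} → O_{X,x}^∧` is a regular ring map. -/
theorem result (X : Scheme.{u}) :
    (∀ x : X, ∃ U : X.Opens, x ∈ U ∧ IsAffineOpen U ∧ CAlg.IsGRing Γ(X, U)) ↔
      IsLocallyNoetherian X ∧ ∀ x : X, IsClosed ({x} : Set X) →
        CAlg.IsRegularHom (X.presheaf.stalk x)
          (AdicCompletion (IsLocalRing.maximalIdeal (X.presheaf.stalk x)) (X.presheaf.stalk x)) := by
  constructor
  · intro h
    choose U hxU hU hG using h
    have hLN : IsLocallyNoetherian X := by
      refine isLocallyNoetherian_of_affine_cover (S := fun x : X => (⟨U x, hU x⟩ : X.affineOpens))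
        ?_ (fun x => (hG x).1)
      rw [eq_top_iff]
      intro x _
      exact TopologicalSpace.Opens.mem_iSup.mpr ⟨x, hxU x⟩
    refine ⟨hLN, fun x _ => ?_⟩
    letI := TopCat.Presheaf.algebra_section_stalk X.presheaf ⟨x, hxU x⟩
    haveI := (hU x).isLocalization_stalk ⟨x, hxU x⟩
    haveI := ((hU x).primeIdealOf ⟨x, hxU x⟩).2
    haveI := (hG x).1
    haveI : IsNoetherianRing (Localization.AtPrime ((hU x).primeIdealOf ⟨x, hxU x⟩).asIdeal) :=
      IsLocalization.isNoetherianRing ((hU x).primeIdealOf ⟨x, hxU x⟩).asIdeal.primeCompl _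
        inferInstance
    let e : X.presheaf.stalk x ≃ₐ[Γ(X, U x)]
        Localization.AtPrime ((hU x).primeIdealOf ⟨x, hxU x⟩).asIdeal :=
      IsLocalization.algEquiv ((hU x).primeIdealOf ⟨x, hxU x⟩).asIdeal.primeCompl _ _
    exact Groth.Agent.Lib.Helper7.ExcLoc.isRegularHom_cpl_of_ringEquiv _ _ e.toRingEquiv
      ((hG x).2 _)
  · rintro ⟨hLN, h⟩ x
    obtain ⟨U, hU, hxU, -⟩ := exists_isAffineOpen_mem_and_subset (x := x) (U := ⊤) trivial
    refine ⟨U, hxU, hU, ?_⟩
    haveI : IsNoetherianRing Γ(X, U) := IsLocallyNoetherian.component_noetherian ⟨U, hU⟩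
    rw [Groth.Agent.Lib.Helper7.GRingMax.isGRing_iff_maximalIdeals]
    intro m hm
    let M : ↥(Spec Γ(X, U)) := (⟨m, hm.isPrime⟩ : PrimeSpectrum Γ(X, U))
    have hyU : hU.fromSpec M ∈ U := by
      have : hU.fromSpec M ∈ Set.range hU.fromSpec := ⟨M, rfl⟩
      rw [hU.range_fromSpec] at this
      exact this
    letI := TopCat.Presheaf.algebra_section_stalk X.presheaf ⟨hU.fromSpec M, hyU⟩
    haveI : IsLocalization.AtPrime (X.presheaf.stalk (hU.fromSpec M)) m :=
      hU.isLocalization_stalk' M hyU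
    let e : Localization.AtPrime m ≃ₐ[Γ(X, U)] X.presheaf.stalk (hU.fromSpec M) :=
      IsLocalization.algEquiv m.primeCompl _ _
    obtain ⟨x₀, hx₀, hsp⟩ :=
      Groth.Agent.Lib.Helper7.ClosedPts.exists_isClosed_specializes X (hU.fromSpec M)
    obtain ⟨q, hq, ⟨e'⟩⟩ := Groth.Agent.Lib.Helper7.ClosedPts.exists_atPrime_of_specializes X hsp
    have hG₀ : CAlg.IsGRing (X.presheaf.stalk x₀) :=
      Groth.Agent.Lib.Helper7.GRingMax.isGRing_of_isRegularHom_cpl _ (h x₀ hx₀)
    have hG₁ : CAlg.IsGRing (Localization.AtPrime q) :=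
      Groth.Agent.Lib.Helper7.ExcLoc.isGRing_localization _ hG₀ q.primeCompl
    haveI := hG₁.1
    have hR := Groth.Agent.Lib.Helper7.ExcDim1.isRegularHom_cpl_of_isGRing _ hG₁
    exact Groth.Agent.Lib.Helper7.ExcLoc.isRegularHom_cpl_of_ringEquiv _ _
      (e.toRingEquiv.trans e') hR


end Groth.Agent.S7393
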