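import Groth.Statements.S7397
import Mathlib

set_option autoImplicit false
universe u
open Mor

namespace Groth.Agent.S7397

/-- Let `A ⊆ B` be a ring extension and `b ∈ B`, `b ∉ A`, with `b^n, b^(n+1) ∈ A` for some `n ≥ 2`. Then
some `b' ∈ B` with `b' ∉ A` has `b'^2 ∈ A` and `b'^3 ∈ A`. -/
theorem result {B : Type u} [CommRing B] (A : Subring B) (b : B) (hb : b ∉ A)
    (n : ℕ) (hn : 2 ≤ n) (h1 : b ^ n ∈ A) (h2 : b ^ (n + 1) ∈ A) :
    ∃ b' : B, b' ∉ A ∧ b' ^ 2 ∈ A ∧ b' ^ 3 ∈ A := by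
  classical
  have hP : ∃ k : ℕ, ∀ j, k ≤ j → b ^ j ∈ A := by
    refine ⟨n * n, fun j hj => ?_⟩
    have hn0 : 0 < n := by omega
    have hq : n ≤ j / n := by
      rw [Nat.le_div_iff_mul_le hn0]; exact hj
    have hr : j % n < n := Nat.mod_lt _ hn0
    have hj' : j = (j / n - j % n) * n + (j % n) * (n + 1) := by
      have h0 := Nat.div_add_mod j n
      have h1 : j % n ≤ j / n := by omega
      obtain ⟨d, hd⟩ := Nat.exists_eq_add_of_le h1
      rw [hd, Nat.add_sub_cancel_left]
      have h3 : n * (j / n) + j % n = j := h0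
      rw [hd] at h3
      nlinarith [h3]
    rw [hj', pow_add, pow_mul', pow_mul' b (j % n)]
    exact A.mul_mem (A.pow_mem h1 _) (A.pow_mem h2 _)
  have hk := Nat.find_spec hP
  have hmin := fun m => Nat.find_min hP (m := m)
  set k := Nat.find hP with hkdef
  have hk2 : 2 ≤ k := by
    by_contra hlt
    apply hb
    have := hk 1 (by omega)
    simpa using this
  have hnot := hmin (k - 1) (by omega)
  push Not at hnot
  obtain ⟨j, hj1, hj2⟩ := hnot
  have hjk : j = k - 1 := by
    by_contra hne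
    exact hj2 (hk j (by omega))
  subst hjk
  refine ⟨b ^ (k - 1), hj2, ?_, ?_⟩
  · rw [← pow_mul]; exact hk _ (by omega)
  · rw [← pow_mul]; exact hk _ (by omega)

end Groth.Agent.S7397
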