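import Groth.Statements.S7398
import Groth.Agent.Lib.Helper20UHStep

set_option autoImplicit false
universe u
open CategoryTheory AlgebraicGeometry
open Mor

namespace Groth.Agent.S7398

/-- Let `A ⊆ B` be a ring extension with `A ≠ B` such that `Spec B → Spec A` is a universal
homeomorphism whose residue field extensions are all trivial. Then some `b ∈ B` with `b ∉ A` has
`b^2 ∈ A` and `b^3 ∈ A`. (Here `A → B` is an injective, non-surjective ring map and membership in
`A` means membership in its image.) -/
theorem result {A B : Type u} [CommRing A] [CommRing B]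
    (φ : A →+* B) (hinj : Function.Injective φ) (hns : ¬ Function.Surjective φ)
    (hU : FlatMor.IsUnivHomeo (Spec.map (CommRingCat.ofHom φ)))
    (hres : ∀ x : Spec (CommRingCat.of B), Function.Surjective ((Spec.map (CommRingCat.ofHom φ)).residueFieldMap x)) :
    ∃ b : B, b ∉ φ.range ∧ b ^ 2 ∈ φ.range ∧ b ^ 3 ∈ φ.range := by
  open Groth.Agent.Lib.Helper20.AWN Groth.Agent.Lib.Helper20.EtaPt in
  by_contra hcon
  push Not at hcon
  apply hns
  have hUH : UH φ := (isUnivHomeo_iff_UH φ).mp hU
  have hres' : ∀ Q : PrimeSpectrum B, Function.Surjective (Ideal.ResidueField.map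
      (PrimeSpectrum.comap φ Q).asIdeal Q.asIdeal φ rfl) := by
    intro Q
    exact (surjective_residueFieldMap_iff (CommRingCat.ofHom φ) Q).mp (hres Q)
  letI := φ.toAlgebra
  have hmem : ∀ b : B, b ∈ (⊥ : Subalgebra A B) ↔ b ∈ φ.range := by
    intro b
    rw [Algebra.mem_bot]
    rfl
  have hι_int : (algebraMap (⊥ : Subalgebra A B) B).IsIntegral := by
    intro b
    exact (show IsIntegral A b from hUH.1 b).tower_top
  have hUH' : UH (algebraMap (⊥ : Subalgebra A B) B) :=
    UH_of_comp_right (algebraMap A (⊥ : Subalgebra A B)) (algebraMap (⊥ : Subalgebra A B) B)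
      Subtype.val_injective hι_int hUH
  have htop : (⊥ : Subalgebra A B) = ⊤ := by
    apply eq_top_of_closed_of_residue _ hUH'
    · intro Q
      have hcomp := residueField_map_comp
        (PrimeSpectrum.comap (algebraMap A (⊥ : Subalgebra A B))
          (PrimeSpectrum.comap (algebraMap (⊥ : Subalgebra A B) B) Q)).asIdeal
        (PrimeSpectrum.comap (algebraMap (⊥ : Subalgebra A B) B) Q).asIdeal
        Q.asIdeal (algebraMap A (⊥ : Subalgebra A B))
        (algebraMap (⊥ : Subalgebra A B) B) rfl rfl rfl
      intro z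
      obtain ⟨y, hy⟩ := hres' Q z
      refine ⟨Ideal.ResidueField.map _ _ (algebraMap A (⊥ : Subalgebra A B)) rfl y, ?_⟩
      rw [← hy]
      exact (RingHom.congr_fun hcomp y).symm
    · intro b h2 h3
      by_contra hb
      exact hcon b (fun h => hb ((hmem b).mpr h)) ((hmem _).mp h2) ((hmem _).mp h3)
  intro b
  have hb : b ∈ (⊥ : Subalgebra A B) := htop ▸ Algebra.mem_top
  exact (hmem b).mp hb

end Groth.Agent.S7398
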