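import Groth.Statements.S7399
import Groth.Agent.Lib.Helper20UHStep

set_option autoImplicit false
universe u
open CategoryTheory AlgebraicGeometry
open Mor

namespace Groth.Agent.S7399

/-- Let `A ⊆ B` be a proper ring extension inducing a universal homeomorphism `Spec B → Spec A`. Then
either there is `b ∈ B`, `b ∉ A`, with `b^2, b^3 ∈ A`, or there are a prime number `p` and `b ∈ B`,
`b ∉ A`, with `p b, b^p ∈ A`. (Here `A → B` is an injective, non-surjective ring map and membership
in `A` means membership in its image.) -/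
theorem result {A B : Type u} [CommRing A] [CommRing B]
    (φ : A →+* B) (hinj : Function.Injective φ) (hns : ¬ Function.Surjective φ)
    (hU : FlatMor.IsUnivHomeo (Spec.map (CommRingCat.ofHom φ))) :
    (∃ b : B, b ∉ φ.range ∧ b ^ 2 ∈ φ.range ∧ b ^ 3 ∈ φ.range) ∨
      ∃ (p : ℕ) (b : B), p.Prime ∧ b ∉ φ.range ∧ (p : B) * b ∈ φ.range ∧ b ^ p ∈ φ.range := by
  open Groth.Agent.Lib.Helper20.AWN in
  by_contra hcon
  push Not at hcon
  obtain ⟨hc1, hc2⟩ := hcon
  apply hns
  have hUH : UH φ := (isUnivHomeo_iff_UH φ).mp hU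
  letI := φ.toAlgebra
  have hmem : ∀ b : B, b ∈ (⊥ : Subalgebra A B) ↔ b ∈ φ.range := by
    intro b
    rw [Algebra.mem_bot]
    rfl
  have hι_int : (algebraMap (⊥ : Subalgebra A B) B).IsIntegral := by
    intro b
    exact (show IsIntegral A b from hUH.1 b).tower_top
  have hUH' : UH (algebraMap (⊥ : Subalgebra A B) B) :=
    UH_of_comp_right (algebraMap A (⊥ : Subalgebra A B)) (algebraMap (⊥ : Subalgebra A B) B)
      Subtype.val_injective hι_int hUH
  have htop : (⊥ : Subalgebra A B) = ⊤ := by
    apply eq_top_of_closed _ hUH'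
    · intro b h2 h3
      by_contra hb
      exact hc1 b (fun h => hb ((hmem b).mpr h)) ((hmem _).mp h2) ((hmem _).mp h3)
    · intro p hp b h1 h2
      by_contra hb
      exact hc2 p b hp (fun h => hb ((hmem b).mpr h)) ((hmem _).mp h1) ((hmem _).mp h2)
  intro b
  have hb : b ∈ (⊥ : Subalgebra A B) := htop ▸ Algebra.mem_top
  exact (hmem b).mp hb

end Groth.Agent.S7399
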