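import Groth.Statements.S7400
import Groth.Agent.Lib.Helper20TowerUH

set_option autoImplicit false
universe u
open CategoryTheory AlgebraicGeometry
open Mor

namespace Groth.Agent.S7400

/-- Let `A ⊆ B` be a ring extension. The morphism `Spec B → Spec A` is a universal homeomorphism with
all residue field extensions trivial exactly when each finite subset of `B` is contained in some
`A[b_1, …, b_n] ⊆ B` such that `b_i^2` and `b_i^3` lie in `A[b_1, …, b_{i-1}]` for every `i`. (Here
`A → B` is an injective ring map and `A[b_1, …, b_{i-1}]` is the `A`-subalgebra generated by the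
earlier entries.) -/
theorem result {A B : Type u} [CommRing A] [CommRing B] [Algebra A B]
    (hinj : Function.Injective (algebraMap A B)) :
    (FlatMor.IsUnivHomeo (Spec.map (CommRingCat.ofHom (algebraMap A B))) ∧
      ∀ x : Spec (CommRingCat.of B),
        Function.Surjective ((Spec.map (CommRingCat.ofHom (algebraMap A B))).residueFieldMap x)) ↔
    ∀ E : Finset B, ∃ l : List B, (↑E : Set B) ⊆ Algebra.adjoin A {b : B | b ∈ l} ∧
      ∀ i : Fin l.length, l.get i ^ 2 ∈ Algebra.adjoin A {b : B | ∃ j : Fin l.length, j < i ∧ b = l.get j} ∧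
        l.get i ^ 3 ∈ Algebra.adjoin A {b : B | ∃ j : Fin l.length, j < i ∧ b = l.get j} := by
  classical
  rw [Groth.Agent.Lib.Helper20.AWN.isUnivHomeo_iff_UH]
  constructor
  · rintro ⟨hUH, hres⟩ E
    have hres' : ∀ Q : PrimeSpectrum B, Function.Surjective (Ideal.ResidueField.map
        (PrimeSpectrum.comap (algebraMap A B) Q).asIdeal Q.asIdeal (algebraMap A B) rfl) := by
      intro Q
      exact (Groth.Agent.Lib.Helper20.AWN.surjective_residueFieldMap_iff
        (CommRingCat.ofHom (algebraMap A B)) Q).mp (hres Q)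
    obtain ⟨l, hl, hE⟩ := Groth.Agent.Lib.Helper20.Tower.exists_tower_finset
      (St := Groth.Agent.Lib.Helper20.Tower.St2 (A := A) (B := B))
      Groth.Agent.Lib.Helper20.Tower.St2_mono E
      (fun b _ => Groth.Agent.Lib.Helper20.Tower.towers_of_UH_of_residue hUH hres' b)
    refine ⟨l, hE, ?_⟩
    exact (Groth.Agent.Lib.Helper20.Tower.isTower_iff _ l).mp hl
  · intro h
    have h2 : ∀ b : B, ∃ l : List B,
        Groth.Agent.Lib.Helper20.Tower.IsTower
          (Groth.Agent.Lib.Helper20.Tower.St2 (A := A) (B := B)) l ∧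
        b ∈ Algebra.adjoin A {x | x ∈ l} := by
      intro b
      obtain ⟨l, hE, hl⟩ := h {b}
      refine ⟨l, (Groth.Agent.Lib.Helper20.Tower.isTower_iff
        (Groth.Agent.Lib.Helper20.Tower.St2 (A := A) (B := B)) l).mpr hl, ?_⟩
      exact hE (by simp)
    refine ⟨?_, ?_⟩
    · apply Groth.Agent.Lib.Helper20.Tower.UH_of_towers hinj
      intro b
      obtain ⟨l, hl, hb⟩ := h2 b
      exact ⟨l, Groth.Agent.Lib.Helper20.Tower.isTower_StP_of_St2 hl, hb⟩
    · intro x
      exact (Groth.Agent.Lib.Helper20.AWN.surjective_residueFieldMap_iff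
        (CommRingCat.ofHom (algebraMap A B)) x).mpr
        (Groth.Agent.Lib.Helper20.Tower.residue_surjective_of_towers h2 x)

end Groth.Agent.S7400
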