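import Groth.Statements.S7401
import Groth.Agent.Lib.Helper20TowerUH

set_option autoImplicit false
universe u
open CategoryTheory AlgebraicGeometry
open Mor

namespace Groth.Agent.S7401

/-- Let `A ⊆ B` be a ring extension. Then `Spec B → Spec A` is a universal homeomorphism if and only if
every finite subset of `B` lies in a subextension `A[b_1, …, b_n]` such that for each `i` either
`b_i^2, b_i^3 ∈ A[b_1, …, b_{i-1}]` or there is a prime number `p` with `p b_i, b_i^p ∈ A[b_1, …,
b_{i-1}]`. -/
theorem result {A B : Type u} [CommRing A] [CommRing B] [Algebra A B]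
    (hinj : Function.Injective (algebraMap A B)) :
    FlatMor.IsUnivHomeo (Spec.map (CommRingCat.ofHom (algebraMap A B))) ↔
    ∀ E : Finset B, ∃ l : List B, (↑E : Set B) ⊆ Algebra.adjoin A {b : B | b ∈ l} ∧
      ∀ i : Fin l.length,
        (l.get i ^ 2 ∈ Algebra.adjoin A {b : B | ∃ j : Fin l.length, j < i ∧ b = l.get j} ∧
          l.get i ^ 3 ∈ Algebra.adjoin A {b : B | ∃ j : Fin l.length, j < i ∧ b = l.get j}) ∨
        ∃ p : ℕ, p.Prime ∧ (p : B) * l.get i ∈ Algebra.adjoin A {b : B | ∃ j : Fin l.length, j < i ∧ b = l.get j} ∧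
          l.get i ^ p ∈ Algebra.adjoin A {b : B | ∃ j : Fin l.length, j < i ∧ b = l.get j} := by
  classical
  rw [Groth.Agent.Lib.Helper20.AWN.isUnivHomeo_iff_UH]
  constructor
  · intro hUH E
    obtain ⟨l, hl, hE⟩ := Groth.Agent.Lib.Helper20.Tower.exists_tower_finset
      (St := Groth.Agent.Lib.Helper20.Tower.StP (A := A) (B := B))
      Groth.Agent.Lib.Helper20.Tower.StP_mono E
      (fun b _ => Groth.Agent.Lib.Helper20.Tower.towers_of_UH hUH b)
    refine ⟨l, hE, ?_⟩
    exact (Groth.Agent.Lib.Helper20.Tower.isTower_iff _ l).mp hl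
  · intro h
    apply Groth.Agent.Lib.Helper20.Tower.UH_of_towers hinj
    intro b
    obtain ⟨l, hE, hl⟩ := h {b}
    refine ⟨l, (Groth.Agent.Lib.Helper20.Tower.isTower_iff
      (Groth.Agent.Lib.Helper20.Tower.StP (A := A) (B := B)) l).mpr hl, ?_⟩
    exact hE (by simp)

end Groth.Agent.S7401
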