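import Groth.Statements.S7402
import Groth.Agent.Lib.Helper20Elem

set_option autoImplicit false
universe u
open CategoryTheory AlgebraicGeometry
open Polynomial
open Mor

namespace Groth.Agent.S7402

/-- Let `A` be a ring and `x, y ∈ A` with `x^3 = y^2`. Then `A → B = A[t]/(t^2 - x, t^3 - y)` induces a
universal homeomorphism on spectra and isomorphisms on residue fields. -/
theorem result (A : Type u) [CommRing A] (x y : A) (h : x ^ 3 = y ^ 2) :
    FlatMor.IsUnivHomeo (Spec.map (CommRingCat.ofHom (algebraMap A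
      (A[X] ⧸ Ideal.span ({X ^ 2 - C x, X ^ 3 - C y} : Set A[X]))))) ∧
    ∀ q : Spec (CommRingCat.of (A[X] ⧸ Ideal.span ({X ^ 2 - C x, X ^ 3 - C y} : Set A[X]))),
      Function.Surjective ((Spec.map (CommRingCat.ofHom (algebraMap A
        (A[X] ⧸ Ideal.span ({X ^ 2 - C x, X ^ 3 - C y} : Set A[X]))))).residueFieldMap q) := by
  open Groth.Agent.Lib.Helper20.AWN Groth.Agent.Lib.Helper20.Tower in
  set I := Ideal.span ({X ^ 2 - C x, X ^ 3 - C y} : Set A[X]) with hI
  have h2 : (Ideal.Quotient.mk I X : A[X] ⧸ I) ^ 2 = algebraMap A (A[X] ⧸ I) x := by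
    rw [← map_pow]
    show Ideal.Quotient.mk I (X ^ 2) = Ideal.Quotient.mk I (C x)
    rw [Ideal.Quotient.eq]
    exact Ideal.subset_span (by simp)
  have h3 : (Ideal.Quotient.mk I X : A[X] ⧸ I) ^ 3 = algebraMap A (A[X] ⧸ I) y := by
    rw [← map_pow]
    show Ideal.Quotient.mk I (X ^ 3) = Ideal.Quotient.mk I (C y)
    rw [Ideal.Quotient.eq]
    exact Ideal.subset_span (by simp)
  have hSt : St2 (⊥ : Subalgebra A (A[X] ⧸ I)) (Ideal.Quotient.mk I X) :=
    ⟨by rw [h2]; exact Subalgebra.algebraMap_mem _ x, by rw [h3]; exact Subalgebra.algebraMap_mem _ y⟩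
  have htow := exists_tower_of_adjoin_singleton_St2 (A := A) (Ideal.Quotient.mk I X : A[X] ⧸ I)
    (adjoin_mk_X_eq_top I) hSt
  have hs : Function.Surjective (PrimeSpectrum.comap (algebraMap A (A[X] ⧸ I))) := by
    apply comap_surjective_of_points
    intro P
    obtain ⟨t₀, ht2, ht3⟩ := exists_sq_cube_field (algebraMap A P.asIdeal.ResidueField x)
      (algebraMap A P.asIdeal.ResidueField y) (by rw [← map_pow, ← map_pow, h])
    have hle : I ≤ RingHom.ker (Polynomial.eval₂RingHom (algebraMap A P.asIdeal.ResidueField) t₀) := by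
      rw [hI, Ideal.span_le]
      rintro f (rfl | rfl)
      · simp [RingHom.mem_ker, ht2]
      · simp [RingHom.mem_ker, ht3]
    refine ⟨P.asIdeal.ResidueField, inferInstance,
      Ideal.Quotient.lift I (Polynomial.eval₂RingHom (algebraMap A P.asIdeal.ResidueField) t₀)
        (fun f hf => hle hf), ?_⟩
    ext a
    rw [RingHom.mem_ker, RingHom.comp_apply]
    have : algebraMap A (A[X] ⧸ I) a = Ideal.Quotient.mk I (C a) := rfl
    rw [this, Ideal.Quotient.lift_mk]
    simp [Ideal.algebraMap_residueField_eq_zero]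
  refine ⟨?_, ?_⟩
  · rw [isUnivHomeo_iff_UH]
    apply UH_of_towers_of_surjective hs
    intro b
    obtain ⟨l, hl, hb⟩ := htow b
    exact ⟨l, isTower_StP_of_St2 hl, hb⟩
  · intro q
    exact (surjective_residueFieldMap_iff
      (CommRingCat.ofHom (algebraMap A (A[X] ⧸ I))) q).mpr
      (residue_surjective_of_towers htow q)

end Groth.Agent.S7402
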