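import Groth.Statements.S7403
import Groth.Agent.Lib.Helper20Elem

set_option autoImplicit false
universe u
open CategoryTheory AlgebraicGeometry
open Polynomial
open Mor

namespace Groth.Agent.S7403

/-- Let `A` be a ring, `p` a prime number and `x, y ∈ A` with `p^p x = y^p`. Then `A → B = A[t]/(t^p -
x, p t - y)` induces a universal homeomorphism on spectra. -/
theorem result (A : Type u) [CommRing A] (p : ℕ) (hp : p.Prime) (x y : A)
    (h : (p : A) ^ p * x = y ^ p) :
    FlatMor.IsUnivHomeo (Spec.map (CommRingCat.ofHom (algebraMap A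
      (A[X] ⧸ Ideal.span ({X ^ p - C x, C (p : A) * X - C y} : Set A[X]))))) := by
  open Groth.Agent.Lib.Helper20.AWN Groth.Agent.Lib.Helper20.Tower in
  set I := Ideal.span ({X ^ p - C x, C (p : A) * X - C y} : Set A[X]) with hI
  have h2 : (Ideal.Quotient.mk I X : A[X] ⧸ I) ^ p = algebraMap A (A[X] ⧸ I) x := by
    rw [← map_pow]
    show Ideal.Quotient.mk I (X ^ p) = Ideal.Quotient.mk I (C x)
    rw [Ideal.Quotient.eq]
    exact Ideal.subset_span (by simp)
  have h1 : (p : A[X] ⧸ I) * (Ideal.Quotient.mk I X : A[X] ⧸ I) = algebraMap A (A[X] ⧸ I) y := by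
    have e : (p : A[X] ⧸ I) = Ideal.Quotient.mk I (C (p : A)) := by simp
    rw [e, ← map_mul]
    show Ideal.Quotient.mk I (C (p : A) * X) = Ideal.Quotient.mk I (C y)
    rw [Ideal.Quotient.eq]
    exact Ideal.subset_span (by simp)
  have hSt : StP (⊥ : Subalgebra A (A[X] ⧸ I)) (Ideal.Quotient.mk I X) :=
    Or.inr ⟨p, hp, by rw [h1]; exact Subalgebra.algebraMap_mem _ y,
      by rw [h2]; exact Subalgebra.algebraMap_mem _ x⟩
  have htow := exists_tower_of_adjoin_singleton_StP (A := A) (Ideal.Quotient.mk I X : A[X] ⧸ I)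
    (adjoin_mk_X_eq_top I) hSt
  have hs : Function.Surjective (PrimeSpectrum.comap (algebraMap A (A[X] ⧸ I))) := by
    apply comap_surjective_of_points
    intro P
    obtain ⟨t₀, ht1, ht2⟩ := exists_prime_field p hp
      (algebraMap A (AlgebraicClosure P.asIdeal.ResidueField) x)
      (algebraMap A (AlgebraicClosure P.asIdeal.ResidueField) y)
      (by rw [← map_pow, ← h, map_mul, map_pow, map_natCast])
    have hle : I ≤ RingHom.ker (Polynomial.eval₂RingHom
        (algebraMap A (AlgebraicClosure P.asIdeal.ResidueField)) t₀) := by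
      rw [hI, Ideal.span_le]
      rintro f (rfl | rfl)
      · simp [RingHom.mem_ker, ht2]
      · simp [RingHom.mem_ker, ht1]
    refine ⟨AlgebraicClosure P.asIdeal.ResidueField, inferInstance,
      Ideal.Quotient.lift I (Polynomial.eval₂RingHom
        (algebraMap A (AlgebraicClosure P.asIdeal.ResidueField)) t₀)
        (fun f hf => hle hf), ?_⟩
    ext a
    rw [RingHom.mem_ker, RingHom.comp_apply]
    have : algebraMap A (A[X] ⧸ I) a = Ideal.Quotient.mk I (C a) := rfl
    rw [this, Ideal.Quotient.lift_mk]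
    simp only [coe_eval₂RingHom, eval₂_C]
    rw [IsScalarTower.algebraMap_apply A P.asIdeal.ResidueField
      (AlgebraicClosure P.asIdeal.ResidueField), map_eq_zero,
      Ideal.algebraMap_residueField_eq_zero]
  rw [isUnivHomeo_iff_UH]
  exact UH_of_towers_of_surjective hs htow

end Groth.Agent.S7403
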