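import Groth.Statements.S7404
import Groth.Agent.Lib.Helper20UCUI

set_option autoImplicit false
universe u
open CategoryTheory AlgebraicGeometry
open Mor

namespace Groth.Agent.S7404

/-- Let `A → B` be a ring map and `B' ⊆ B` an `A`-subalgebra, with `f : Spec B → Spec A` and `f' : Spec
B' → Spec A` the induced morphisms. Each of the following properties passes from `f` to `f'`: being
a universal homeomorphism; being a universal homeomorphism with trivial residue field extensions;
being universally closed; being both universally closed and universally injective. -/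
theorem result {A B : Type u} [CommRing A] [CommRing B] [Algebra A B]
    (B' : Subalgebra A B) :
    (FlatMor.IsUnivHomeo (Spec.map (CommRingCat.ofHom (algebraMap A B))) →
      FlatMor.IsUnivHomeo (Spec.map (CommRingCat.ofHom (algebraMap A B')))) ∧
    ((FlatMor.IsUnivHomeo (Spec.map (CommRingCat.ofHom (algebraMap A B))) ∧
      ∀ x : Spec (CommRingCat.of B),
        Function.Surjective ((Spec.map (CommRingCat.ofHom (algebraMap A B))).residueFieldMap x)) →
      FlatMor.IsUnivHomeo (Spec.map (CommRingCat.ofHom (algebraMap A B'))) ∧
      ∀ x : Spec (CommRingCat.of B'),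
        Function.Surjective ((Spec.map (CommRingCat.ofHom (algebraMap A B'))).residueFieldMap x)) ∧
    (UniversallyClosed (Spec.map (CommRingCat.ofHom (algebraMap A B))) →
      UniversallyClosed (Spec.map (CommRingCat.ofHom (algebraMap A B')))) ∧
    (UniversallyClosed (Spec.map (CommRingCat.ofHom (algebraMap A B))) →
      UniversallyInjective (Spec.map (CommRingCat.ofHom (algebraMap A B))) →
      UniversallyClosed (Spec.map (CommRingCat.ofHom (algebraMap A B'))) ∧
      UniversallyInjective (Spec.map (CommRingCat.ofHom (algebraMap A B')))) := by
  open Groth.Agent.Lib.Helper20.AWN in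
  have hι : Function.Injective (algebraMap B' B) := Subtype.val_injective
  have hcomp : (algebraMap B' B).comp (algebraMap A B') = algebraMap A B := rfl
  have hιint : (algebraMap A B).IsIntegral → (algebraMap B' B).IsIntegral := by
    intro h
    exact RingHom.IsIntegral.tower_top (algebraMap A B') (algebraMap B' B) h
  refine ⟨?_, ?_, ?_, ?_⟩
  · intro h
    rw [isUnivHomeo_iff_UH] at h ⊢
    exact UH_of_comp_left (algebraMap A B') (algebraMap B' B) hι (hιint h.1) h
  · rintro ⟨h, hres⟩
    rw [isUnivHomeo_iff_UH] at h ⊢
    refine ⟨UH_of_comp_left (algebraMap A B') (algebraMap B' B) hι (hιint h.1) h, ?_⟩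
    intro x
    refine (surjective_residueFieldMap_iff (CommRingCat.ofHom (algebraMap A B')) x).mpr ?_
    apply residue_surjective_of_comp_left (algebraMap A B') (algebraMap B' B) hι (hιint h.1)
    intro Q
    exact (surjective_residueFieldMap_iff (CommRingCat.ofHom (algebraMap A B)) Q).mp (hres Q)
  · intro h
    rw [universallyClosed_Spec_iff] at h ⊢
    exact isIntegral_of_comp_left (algebraMap A B') (algebraMap B' B) hι h
  · intro h1 h2
    rw [universallyClosed_Spec_iff] at h1 ⊢
    rw [universallyInjective_Spec_iff] at h2 ⊢
    exact ⟨isIntegral_of_comp_left (algebraMap A B') (algebraMap B' B) hι h1,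
      FM_of_comp_left (algebraMap A B') (algebraMap B' B) hι (hιint h1) h2⟩

end Groth.Agent.S7404
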