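import Groth.Statements.S7405
import Groth.Agent.Lib.Helper20Colim

set_option autoImplicit false
universe u
open CategoryTheory AlgebraicGeometry
open Mor

namespace Groth.Agent.S7405

/-- Let `A` be a ring and `B` the colimit of a filtered diagram `j ↦ B_j` of `A`-algebras. Each of the
following properties, when it holds for every `Spec B_j → Spec A`, holds for `Spec B → Spec A`:
being a universal homeomorphism; being a universal homeomorphism with trivial residue field
extensions; being universally closed; being both universally closed and universally injective. -/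
theorem result (A : CommRingCat.{u}) {J : Type u} [SmallCategory J]
    [IsFiltered J] (F : J ⥤ Under A) (c : Limits.Cocone F) (hc : Limits.IsColimit c) :
    ((∀ j, FlatMor.IsUnivHomeo (Spec.map (F.obj j).hom)) → FlatMor.IsUnivHomeo (Spec.map c.pt.hom)) ∧
    ((∀ j, FlatMor.IsUnivHomeo (Spec.map (F.obj j).hom) ∧
        ∀ x : Spec (F.obj j).right, Function.Surjective ((Spec.map (F.obj j).hom).residueFieldMap x)) →
      FlatMor.IsUnivHomeo (Spec.map c.pt.hom) ∧
        ∀ x : Spec c.pt.right, Function.Surjective ((Spec.map c.pt.hom).residueFieldMap x)) ∧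
    ((∀ j, UniversallyClosed (Spec.map (F.obj j).hom)) → UniversallyClosed (Spec.map c.pt.hom)) ∧
    ((∀ j, UniversallyClosed (Spec.map (F.obj j).hom) ∧ UniversallyInjective (Spec.map (F.obj j).hom)) →
      UniversallyClosed (Spec.map c.pt.hom) ∧ UniversallyInjective (Spec.map c.pt.hom)) := by
  open Groth.Agent.Lib.Helper20.AWN in
  have hc1 := Limits.isColimitOfPreserves (Under.forget A) hc
  have hc2 := Limits.isColimitOfPreserves (forget CommRingCat.{u}) hc1
  have joint : ∀ b : c.pt.right, ∃ (j : J) (y : (F.obj j).right),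
      (c.ι.app j).right.hom y = b := by
    intro b
    obtain ⟨j, y, hy⟩ := Limits.Types.jointly_surjective_of_isColimit hc2 b
    exact ⟨j, y, hy⟩
  have hw : ∀ j, ((c.ι.app j).right.hom).comp (F.obj j).hom.hom = c.pt.hom.hom := by
    intro j
    have h0 : (F.obj j).hom ≫ (c.ι.app j).right = c.pt.hom := Under.w (c.ι.app j)
    rw [← h0]
    rfl
  have hwF : ∀ {j k : J} (f : j ⟶ k),
      ((F.map f).right.hom).comp (F.obj j).hom.hom = (F.obj k).hom.hom := by
    intro j k f
    have h0 : (F.obj j).hom ≫ (F.map f).right = (F.obj k).hom := Under.w (F.map f)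
    rw [← h0]
    rfl
  have kerstage : ∀ a : A, c.pt.hom.hom a = 0 → ∃ j, (F.obj j).hom.hom a = 0 := by
    intro a ha
    obtain ⟨j⟩ := IsFiltered.nonempty (C := J)
    have h1 : (c.ι.app j).right.hom ((F.obj j).hom.hom a) = (c.ι.app j).right.hom 0 := by
      rw [map_zero, ← ha, ← hw j]
      rfl
    obtain ⟨k, f, h2⟩ := (Limits.Types.FilteredColimit.isColimit_eq_iff' hc2 _ _).mp h1
    refine ⟨k, ?_⟩
    have h3 : (F.map f).right.hom ((F.obj j).hom.hom a) = (F.map f).right.hom 0 := h2
    rw [map_zero, ← RingHom.comp_apply, hwF f] at h3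
    exact h3
  have stage : ∀ (P : ∀ (C : Type u) [CommRing C], (A →+* C) → Prop),
      (∀ j, P (F.obj j).right (F.obj j).hom.hom) →
      ∀ b : c.pt.right, ∃ (C : Type u) (_ : CommRing C) (ψ' : A →+* C) (ι : C →+* c.pt.right)
        (y : C), ι.comp ψ' = c.pt.hom.hom ∧ ι y = b ∧ P C ψ' := by
    intro P hP b
    obtain ⟨j, y, hy⟩ := joint b
    exact ⟨(F.obj j).right, inferInstance, (F.obj j).hom.hom, (c.ι.app j).right.hom, y, hw j, hy,
      hP j⟩
  have e0 : ∀ j, Spec.map (F.obj j).hom = Spec.map (CommRingCat.ofHom (F.obj j).hom.hom) :=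
    fun j => rfl
  have e1 : Spec.map c.pt.hom = Spec.map (CommRingCat.ofHom c.pt.hom.hom) := rfl
  refine ⟨?_, ?_, ?_, ?_⟩
  · intro h
    rw [e1, isUnivHomeo_iff_UH]
    have h' : ∀ j, UH (F.obj j).hom.hom := fun j => (isUnivHomeo_iff_UH _).mp (e0 j ▸ h j)
    apply UH_of_stages
    · exact stage (fun C _ ψ' => UH ψ') h'
    · intro a ha
      obtain ⟨j, hj⟩ := kerstage a ha
      exact ⟨(F.obj j).right, inferInstance, (F.obj j).hom.hom, hj, h' j⟩
  · intro h
    have h' : ∀ j, UH (F.obj j).hom.hom := fun j => (isUnivHomeo_iff_UH _).mp (e0 j ▸ (h j).1)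
    refine ⟨?_, ?_⟩
    · rw [e1, isUnivHomeo_iff_UH]
      apply UH_of_stages
      · exact stage (fun C _ ψ' => UH ψ') h'
      · intro a ha
        obtain ⟨j, hj⟩ := kerstage a ha
        exact ⟨(F.obj j).right, inferInstance, (F.obj j).hom.hom, hj, h' j⟩
    · intro x
      refine (surjective_residueFieldMap_iff c.pt.hom x).mpr ?_
      apply residue_surjective_of_stages
      exact stage (fun C _ ψ' => ∀ Q' : PrimeSpectrum C, Function.Surjective
        (Ideal.ResidueField.map (PrimeSpectrum.comap ψ' Q').asIdeal Q'.asIdeal ψ' rfl))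
        (fun j Q' => (surjective_residueFieldMap_iff (F.obj j).hom Q').mp ((h j).2 Q'))
  · intro h
    rw [e1, universallyClosed_Spec_iff]
    have h' : ∀ j, (F.obj j).hom.hom.IsIntegral :=
      fun j => (universallyClosed_Spec_iff _).mp (e0 j ▸ h j)
    apply isIntegral_of_stages
    exact stage (fun C _ ψ' => ψ'.IsIntegral) h'
  · intro h
    rw [e1, universallyClosed_Spec_iff, universallyInjective_Spec_iff]
    have h1 : ∀ j, (F.obj j).hom.hom.IsIntegral :=
      fun j => (universallyClosed_Spec_iff _).mp (e0 j ▸ (h j).1)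
    have h2 : ∀ j, FM (F.obj j).hom.hom :=
      fun j => (universallyInjective_Spec_iff _).mp (e0 j ▸ (h j).2)
    refine ⟨?_, ?_⟩
    · apply isIntegral_of_stages
      exact stage (fun C _ ψ' => ψ'.IsIntegral) h1
    · apply FM_of_stages
      exact stage (fun C _ ψ' => FM ψ') h2

end Groth.Agent.S7405
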