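import Groth.Statements.S7406
import Mathlib

set_option autoImplicit false
universe u
open CategoryTheory AlgebraicGeometry
open Desc

namespace Groth.Agent.S7406

open CategoryTheory.Limits

theorem residueField_finite {X Y : Scheme.{u}} (f : X ⟶ Y) [FormallyUnramified f]
    [LocallyOfFiniteType f] (x : X) :
    letI : Algebra (Y.residueField (f.base x)) (X.residueField x) :=
      (f.residueFieldMap x).hom.toAlgebra
    Module.Finite (Y.residueField (f.base x)) (X.residueField x) := by
  algebraize [(f.stalkMap x).hom]
  have : IsLocalHom (algebraMap (Y.presheaf.stalk (f x)) (X.presheaf.stalk x)) :=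
    inferInstanceAs <| IsLocalHom (f.stalkMap x).hom
  have : Algebra.EssFiniteType (Y.presheaf.stalk (f x)) (X.presheaf.stalk x) := by
    rw [← RingHom.essFiniteType_algebraMap, RingHom.algebraMap_toAlgebra]
    exact LocallyOfFiniteType.stalkMap f x
  have : Algebra.FormallyUnramified (Y.presheaf.stalk (f x)) (X.presheaf.stalk x) := by
    rw [← RingHom.formallyUnramified_algebraMap, RingHom.algebraMap_toAlgebra]
    exact FormallyUnramified.stalkMap f x
  have h : Module.Finite
      (IsLocalRing.ResidueField <| Y.presheaf.stalk (f x))
      (IsLocalRing.ResidueField <| X.presheaf.stalk x) := inferInstance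
  have e : (f.residueFieldMap x).hom.toAlgebra =
      (inferInstance : Algebra (IsLocalRing.ResidueField <| Y.presheaf.stalk (f x))
        (IsLocalRing.ResidueField <| X.presheaf.stalk x)) := by
    refine Algebra.algebra_ext _ _ fun x ↦ ?_
    obtain ⟨x, rfl⟩ := IsLocalRing.residue_surjective x
    rfl
  change @Module.Finite (Y.residueField (f.base x)) (X.residueField x) _ _
    (@Algebra.toModule _ _ _ _ (f.residueFieldMap x).hom.toAlgebra)
  rw [e]
  exact h

theorem etale_SpecMap_residueFieldMap {X Y : Scheme.{u}} (f : X ⟶ Y) [Etale f] (x : X) :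
    Etale (Spec.map (f.residueFieldMap x)) := by
  rw [HasRingHomProperty.Spec_iff (P := @Etale)]
  letI : Algebra (Y.residueField (f.base x)) (X.residueField x) :=
    (f.residueFieldMap x).hom.toAlgebra
  have hsep : Algebra.IsSeparable (Y.residueField (f.base x)) (X.residueField x) := inferInstance
  have hfin : Module.Finite (Y.residueField (f.base x)) (X.residueField x) := residueField_finite f x
  have hfe : Algebra.FormallyEtale (Y.residueField (f.base x)) (X.residueField x) :=
    Algebra.FormallyEtale.of_isSeparable _ _
  have hfp : Algebra.FinitePresentation (Y.residueField (f.base x)) (X.residueField x) :=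
    Algebra.FinitePresentation.of_finiteType.mp inferInstance
  have : Algebra.Etale (Y.residueField (f.base x)) (X.residueField x) := ⟨hfe, hfp⟩
  exact this



/-- Consider a commutative square of schemes with horizontal maps `h' : U' → V'`, `h : U → V` and étale
vertical maps `a : U' → U`, `b : V' → V`, and let `v' ∈ V'` with image `v = b(v')`. Then the induced
morphism of fibres `U'_{v'} → U_v` is étale. (The morphism of fibres is characterised by its
compatibility with `a` and with `Spec κ(v') → Spec κ(v)`.) -/
theorem result {U U' V V' : Scheme.{u}} (h : U ⟶ V) (h' : U' ⟶ V') (a : U' ⟶ U)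
    (b : V' ⟶ V) [Etale a] [Etale b] (comm : h' ≫ b = a ≫ h) (v' : V')
    (φ : h'.fiber v' ⟶ h.fiber (b v')) (hφ1 : φ ≫ h.fiberι (b v') = h'.fiberι v' ≫ a)
    (hφ2 : φ ≫ h.fiberToSpecResidueField (b v') = h'.fiberToSpecResidueField v' ≫ Spec.map (b.residueFieldMap v')) :
    Etale φ := by
  have hσ : Etale (Spec.map (b.residueFieldMap v')) := etale_SpecMap_residueFieldMap b v'
  have hσx : Spec.map (b.residueFieldMap v') ≫ V.fromSpecResidueField (b v') =
      V'.fromSpecResidueField v' ≫ b := b.SpecMap_residueFieldMap_fromSpecResidueField v'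
  -- R = U ×_V V', c : U' → R
  let c : U' ⟶ pullback h b := pullback.lift a h' comm.symm
  have hc : Etale c := by
    have : Etale (c ≫ pullback.fst h b) := by rw [pullback.lift_fst]; infer_instance
    exact MorphismProperty.of_postcomp (W := @Etale) (W' := @Etale) c (pullback.fst h b)
      inferInstance this
  -- P = F ×_k k'
  let ψ : h'.fiber v' ⟶ pullback (h.fiberToSpecResidueField (b v')) (Spec.map (b.residueFieldMap v')) :=
    pullback.lift φ (h'.fiberToSpecResidueField v') hφ2
  have hψφ : ψ ≫ pullback.fst _ _ = φ := pullback.lift_fst _ _ _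
  have hψs : ψ ≫ pullback.snd _ _ = h'.fiberToSpecResidueField v' := pullback.lift_snd _ _ _
  have hrcond : (pullback.fst (h.fiberToSpecResidueField (b v')) (Spec.map (b.residueFieldMap v')) ≫
      h.fiberι (b v')) ≫ h =
      (pullback.snd (h.fiberToSpecResidueField (b v')) (Spec.map (b.residueFieldMap v')) ≫
        V'.fromSpecResidueField v') ≫ b := by
    rw [Category.assoc, h.fiber_fac, ← Category.assoc, pullback.condition, Category.assoc, hσx,
      Category.assoc]
  let r : pullback (h.fiberToSpecResidueField (b v')) (Spec.map (b.residueFieldMap v')) ⟶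
      pullback h b :=
    pullback.lift (pullback.fst _ _ ≫ h.fiberι (b v')) (pullback.snd _ _ ≫ V'.fromSpecResidueField v')
      hrcond
  have sqF : IsPullback (h.fiberι (b v')) (h.fiberToSpecResidueField (b v')) h
      (V.fromSpecResidueField (b v')) := IsPullback.of_hasPullback h _
  have sqF' : IsPullback (h'.fiberι v') (h'.fiberToSpecResidueField v') h'
      (V'.fromSpecResidueField v') := IsPullback.of_hasPullback h' _
  have sq1 : IsPullback r (pullback.snd (h.fiberToSpecResidueField (b v'))
      (Spec.map (b.residueFieldMap v'))) (pullback.snd h b) (V'.fromSpecResidueField v') := by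
    refine IsPullback.of_right ?_ (pullback.lift_snd _ _ _) (IsPullback.of_hasPullback h b)
    rw [pullback.lift_fst, ← hσx]
    exact (IsPullback.of_hasPullback (h.fiberToSpecResidueField (b v'))
      (Spec.map (b.residueFieldMap v'))).paste_horiz sqF
  have hcomm : ψ ≫ r = h'.fiberι v' ≫ c := by
    apply pullback.hom_ext
    · rw [Category.assoc, pullback.lift_fst, ← Category.assoc, hψφ, hφ1, Category.assoc,
        pullback.lift_fst]
    · rw [Category.assoc, pullback.lift_snd, ← Category.assoc, hψs, Category.assoc,
        pullback.lift_snd, h'.fiber_fac]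
  have sq2 : IsPullback ψ (h'.fiberι v') r c := by
    refine IsPullback.of_right ?_ hcomm sq1.flip
    rw [hψs, pullback.lift_snd]
    exact sqF'.flip
  have hψ : Etale ψ := MorphismProperty.of_isPullback (P := @Etale) sq2.flip hc
  rw [← hψφ]
  infer_instance

end Groth.Agent.S7406
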