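import Groth.Statements.S7412
import Mathlib

set_option autoImplicit false
universe u
open Desc

namespace Groth.Agent.S7412

section
variable {R : Type*} [CommRing R] {A B : Type*} [AddCommGroup A] [Module R A]
  [AddCommGroup B] [Module R B]

/-- flip a linear map into a character module -/
noncomputable def cflip (ψ : A →ₗ[R] CharacterModule B) : B →ₗ[R] CharacterModule A where
  toFun b := (AddMonoidHom.mk' (fun a => ψ a b) (fun a a' => by rw [map_add]; rfl) :
    A →+ AddCircle (1 : ℚ))
  map_add' b b' := by
    apply CharacterModule.ext; intro a
    show ψ a (b + b') = ψ a b + ψ a b'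
    exact map_add (ψ a) b b'
  map_smul' r b := by
    apply CharacterModule.ext; intro a
    show ψ a (r • b) = ψ (r • a) b
    have h : ψ (r • a) = r • ψ a := map_smul ψ r a
    rw [h]; rfl

lemma cflip_apply (ψ : A →ₗ[R] CharacterModule B) (b : B) (a : A) :
    cflip ψ b a = ψ a b := rfl

end


/-- Let `R` be a ring and `f : M → N` a map of `R`-modules. Then `f` is universally injective (`f ⊗ 1_P`
is injective for every `R`-module `P`; here `P` ranges over modules in the same universe, which
suffices) if and only if the map of character modules `C(N) → C(M)`, `C(-) = Hom_ℤ(-, ℚ/ℤ)`, is a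
split surjection of `R`-modules. -/
theorem result {R : Type u} [CommRing R] {M N : Type u}
    [AddCommGroup M] [Module R M] [AddCommGroup N] [Module R N] (f : M →ₗ[R] N) :
    (∀ (P : Type u) [AddCommGroup P] [Module R P], Function.Injective (f.lTensor P)) ↔
      ∃ g : CharacterModule M →ₗ[R] CharacterModule N, (CharacterModule.dual f).comp g = LinearMap.id := by
  constructor
  · intro h
    have h1 := h (CharacterModule M)
    rw [LinearMap.lTensor_inj_iff_rTensor_inj, rTensor_injective_iff_lcomp_surjective] at h1
    obtain ⟨φ, hφ⟩ := h1 (cflip (LinearMap.id : CharacterModule M →ₗ[R] CharacterModule M))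
    refine ⟨cflip φ, ?_⟩
    apply LinearMap.ext; intro c
    apply CharacterModule.ext; intro m
    have := congrArg (fun F => F m c) hφ
    show φ (f m) c = c m
    exact this
  · rintro ⟨g, hg⟩ P _ _
    rw [LinearMap.lTensor_inj_iff_rTensor_inj, rTensor_injective_iff_lcomp_surjective]
    intro ψ
    refine ⟨cflip (g.comp (cflip ψ)), ?_⟩
    apply LinearMap.ext; intro m
    apply CharacterModule.ext; intro p
    have := congrArg (fun F => F (cflip ψ p) m) hg
    show g (cflip ψ p) (f m) = ψ m p
    exact this

end Groth.Agent.S7412
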