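import Groth.Statements.S7416
import Mathlib

set_option autoImplicit false
universe u
open CategoryTheory AlgebraicGeometry
open Mor

namespace Groth.Agent.S7416

lemma exists_basicOpen_eq {X : Scheme.{u}} {U : X.Opens} (hU : IsAffineOpen U) (f : Γ(X, U))
    (O : X.Opens) (hO : O = X.basicOpen f) (t : Γ(X, O)) :
    ∃ f' : Γ(X, U), X.basicOpen f' = X.basicOpen t := by
  subst hO
  exact hU.basicOpen_basicOpen_is_basicOpen f t


/-- Let `U`, `V` be affine schemes and `W → U`, `W → V` open immersions. Then every `w ∈ W` has an open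
neighbourhood `W' ⊆ W` whose images in `U` and in `V` are standard opens `D(f) ⊆ U`, `D(g) ⊆ V` (in
particular `W'` is affine). -/
theorem result {U V W : Scheme.{u}} [IsAffine U]
    [IsAffine V] (i : W ⟶ U) (j : W ⟶ V) [IsOpenImmersion i] [IsOpenImmersion j] (w : W) :
    ∃ (W' : W.Opens) (f : Γ(U, ⊤)) (g : Γ(V, ⊤)), w ∈ W' ∧ i ''ᵁ W' = U.basicOpen f ∧ j ''ᵁ W' = V.basicOpen g := by
  -- Step A
  obtain ⟨_, ⟨f₀, rfl⟩, hwf₀, hf₀⟩ := TopologicalSpace.Opens.isBasis_iff_nbhd.mp (isBasis_basicOpen U)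
    (show i w ∈ i.opensRange from ⟨w, rfl⟩)
  set W₀ : W.Opens := i ⁻¹ᵁ (U.basicOpen f₀) with hW₀
  have hiW₀ : i ''ᵁ W₀ = U.basicOpen f₀ := by
    rw [hW₀, Scheme.Hom.image_preimage_eq_opensRange_inf]
    exact inf_eq_right.mpr hf₀
  have hwW₀ : w ∈ W₀ := hwf₀
  -- Step B
  obtain ⟨_, ⟨g, rfl⟩, hwg, hg⟩ := TopologicalSpace.Opens.isBasis_iff_nbhd.mp (isBasis_basicOpen V)
    (show j w ∈ j ''ᵁ W₀ from ⟨w, hwW₀, rfl⟩)
  set W' : W.Opens := j ⁻¹ᵁ (V.basicOpen g) with hW'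
  have hjW' : j ''ᵁ W' = V.basicOpen g := by
    rw [hW', Scheme.Hom.image_preimage_eq_opensRange_inf]
    refine inf_eq_right.mpr (le_trans hg ?_)
    exact Set.image_subset_range _ _
  have hW'W₀ : W' ≤ W₀ := by
    intro z hz
    have hz' : j z ∈ V.basicOpen g := hz
    obtain ⟨z', hz'W₀, hzz'⟩ := hg hz'
    have : z' = z := j.isOpenEmbedding.injective hzz'
    exact this ▸ hz'W₀
  -- Step C
  have hW'b : W' = W.basicOpen (j.app ⊤ g) := Scheme.preimage_basicOpen j g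
  let s : Γ(W, W₀) := W.presheaf.map (homOfLE (le_top : W₀ ≤ j ⁻¹ᵁ ⊤)).op (j.app ⊤ g)
  have hs : W.basicOpen s = W' := by
    rw [Scheme.basicOpen_res]
    exact (congrArg (fun O => W₀ ⊓ O) hW'b.symm).trans (inf_eq_right.mpr hW'W₀)
  -- Step D
  have hD : i ''ᵁ W' = U.basicOpen ((i.appIso W₀).inv s) := by
    rw [← hs]; exact Scheme.image_basicOpen i s
  obtain ⟨f', hf'⟩ := exists_basicOpen_eq (isAffineOpen_top U) f₀ (i ''ᵁ W₀) hiW₀
    ((i.appIso W₀).inv s)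
  exact ⟨W', f', g, hwg, hD.trans hf'.symm, hjW'⟩

end Groth.Agent.S7416
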