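import Groth.Statements.S7423
import Groth.Agent.Lib.Helper20AWNRing

set_option autoImplicit false
universe u
open CategoryTheory AlgebraicGeometry
open HTop

namespace Groth.Agent.S7423

/-- Let `φ : A → A^awn` be an absolute weak normalization and `ψ : A → B` a ring map inducing a
universal homeomorphism on spectra. Then `B` is absolutely weakly normal exactly when the induced
map `χ : B → A^awn` with `χ ∘ ψ = φ` is an isomorphism. -/
theorem result {A B W : Type u} [CommRing A] [CommRing B] [CommRing W]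
    (φ : A →+* W) (hφ : HTop.IsRingAWN φ) (ψ : A →+* B)
    (hψ : FlatMor.IsUnivHomeo (Spec.map (CommRingCat.ofHom ψ))) (χ : B →+* W) (hχ : χ.comp ψ = φ) :
    Function.Bijective χ ↔ HTop.IsAWNRing B := by
  open Groth.Agent.Lib.Helper20.AWN in
  have hW : HTop.IsAWNRing W := isAWNRing_of_isRingAWN φ hφ
  have hWred : IsReduced W := isReduced_of_isRingAWN φ hφ
  constructor
  · intro hbij
    let e : B ≃+* W := RingEquiv.ofBijective χ hbij
    refine ⟨?_, ?_⟩
    · intro x y hxy
      have hxy' : e x ^ 3 = e y ^ 2 := by rw [← map_pow, ← map_pow, hxy]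
      obtain ⟨a, ⟨ha2, ha3⟩, huniq⟩ := hW.1 (e x) (e y) hxy'
      refine ⟨e.symm a, ⟨?_, ?_⟩, ?_⟩
      · apply e.injective; rw [map_pow, e.apply_symm_apply]; exact ha2
      · apply e.injective; rw [map_pow, e.apply_symm_apply]; exact ha3
      · rintro a' ⟨h2, h3⟩
        have := huniq (e a') ⟨by rw [h2, map_pow], by rw [h3, map_pow]⟩
        rw [← this, e.symm_apply_apply]
    · intro p hp x y hxy
      have hxy' : (p : W) ^ p * e x = e y ^ p := by
        rw [← map_pow, ← hxy, map_mul, map_pow, map_natCast]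
      obtain ⟨a, ⟨ha1, ha2⟩, huniq⟩ := hW.2 p hp (e x) (e y) hxy'
      refine ⟨e.symm a, ⟨?_, ?_⟩, ?_⟩
      · apply e.injective; rw [map_pow, e.apply_symm_apply]; exact ha1
      · apply e.injective; rw [map_mul, map_natCast, e.apply_symm_apply]; exact ha2
      · rintro a' ⟨h1, h2⟩
        have := huniq (e a') ⟨by rw [h1, map_pow], by rw [h2, map_mul, map_natCast]⟩
        rw [← this, e.symm_apply_apply]
  · intro hB
    have hUHψ : UH ψ := (isUnivHomeo_iff_UH ψ).mp hψ
    have hUHφ : UH φ := (isUnivHomeo_iff_UH φ).mp hφ.1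
    have hUHχ : UH χ := UH_of_comp_of_UH ψ χ hUHψ (hχ ▸ hUHφ)
    exact bijective_of_UH_of_isAWNRing χ hUHχ hB

end Groth.Agent.S7423
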