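import Groth.Statements.S7427
import Groth.Agent.Lib.Helper20TowerMap2

set_option autoImplicit false
universe u
open CategoryTheory AlgebraicGeometry
open Mor

namespace Groth.Agent.S7427

/-- Let `A → B` be a ring map with `Spec B → Spec A` dominant. Then some `A`-subalgebra `B' ⊆ B` has
`Spec B' → Spec A` a universal homeomorphism and contains the image of `C → B` whenever `C` is an
`A`-algebra with an `A`-algebra map `C → B` whose structure map gives a universal homeomorphism
`Spec C → Spec A`. (The test algebras `C` range over the universe of `A` and `B`.) -/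
theorem result {A B : Type u} [CommRing A] [CommRing B] [Algebra A B]
    [IsDominant (Spec.map (CommRingCat.ofHom (algebraMap A B)))] :
    ∃ B' : Subalgebra A B, FlatMor.IsUnivHomeo (Spec.map (CommRingCat.ofHom (algebraMap A B'))) ∧
      ∀ (C : Type u) [CommRing C] [Algebra A C] (g : C →ₐ[A] B),
        FlatMor.IsUnivHomeo (Spec.map (CommRingCat.ofHom (algebraMap A C))) → g.range ≤ B' := by
  open Groth.Agent.Lib.Helper20.AWN Groth.Agent.Lib.Helper20.Tower in
  have hdense : DenseRange (PrimeSpectrum.comap (algebraMap A B)) :=
    IsDominant.denseRange (f := Spec.map (CommRingCat.ofHom (algebraMap A B)))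
  have hker : RingHom.ker (algebraMap A B) ≤ nilradical A :=
    (PrimeSpectrum.denseRange_comap_iff_ker_le_nilRadical _).mp hdense
  refine ⟨towerUnion (StP (A := A) (B := B)) StP_mono, ?_, ?_⟩
  · rw [isUnivHomeo_iff_UH]
    apply UH_of_towers_of_ker_le
    · intro a ha
      apply hker
      rw [RingHom.mem_ker] at ha ⊢
      exact congrArg Subtype.val ha
    · intro b
      exact exists_tower_in_towerUnion_StP b
  · intro C _ _ g hU
    rintro _ ⟨c, rfl⟩
    have hUH : UH (algebraMap A C) := (isUnivHomeo_iff_UH _).mp hU
    obtain ⟨l, hl, hc⟩ := towers_of_UH hUH c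
    refine ⟨l.map g, isTower_map_StP g hl, ?_⟩
    rw [adjoin_map_list]
    exact ⟨c, hc, rfl⟩

end Groth.Agent.S7427
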