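import Groth.Statements.S7428
import Groth.Agent.Lib.Helper20TowerMap

set_option autoImplicit false
universe u
open CategoryTheory AlgebraicGeometry
open Mor

namespace Groth.Agent.S7428

/-- Let `A → B` be a ring map with `Spec B → Spec A` dominant. Then some `A`-subalgebra `B' ⊆ B` has
`Spec B' → Spec A` a universal homeomorphism with trivial residue field extensions and contains the
image of `C → B` for every `A`-algebra `C` with an `A`-algebra map `C → B` such that `Spec C → Spec
A` is a universal homeomorphism with trivial residue field extensions. (Trivial residue field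
extensions: every residue field map of the morphism of spectra is surjective. The test algebras `C`
range over the universe of `A` and `B`.) -/
theorem result {A B : Type u} [CommRing A] [CommRing B] [Algebra A B]
    [IsDominant (Spec.map (CommRingCat.ofHom (algebraMap A B)))] :
    ∃ B' : Subalgebra A B, (FlatMor.IsUnivHomeo (Spec.map (CommRingCat.ofHom (algebraMap A B'))) ∧
      ∀ x : Spec (CommRingCat.of B'),
        Function.Surjective ((Spec.map (CommRingCat.ofHom (algebraMap A B'))).residueFieldMap x)) ∧
      ∀ (C : Type u) [CommRing C] [Algebra A C] (g : C →ₐ[A] B),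
        FlatMor.IsUnivHomeo (Spec.map (CommRingCat.ofHom (algebraMap A C))) →
        (∀ x : Spec (CommRingCat.of C),
          Function.Surjective ((Spec.map (CommRingCat.ofHom (algebraMap A C))).residueFieldMap x)) →
        g.range ≤ B' := by
  open Groth.Agent.Lib.Helper20.AWN Groth.Agent.Lib.Helper20.Tower in
  have hdense : DenseRange (PrimeSpectrum.comap (algebraMap A B)) :=
    IsDominant.denseRange (f := Spec.map (CommRingCat.ofHom (algebraMap A B)))
  have hker : RingHom.ker (algebraMap A B) ≤ nilradical A :=
    (PrimeSpectrum.denseRange_comap_iff_ker_le_nilRadical _).mp hdense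
  refine ⟨towerUnion (St2 (A := A) (B := B)) St2_mono, ⟨?_, ?_⟩, ?_⟩
  · rw [isUnivHomeo_iff_UH]
    apply UH_of_towers_of_ker_le
    · intro a ha
      apply hker
      rw [RingHom.mem_ker] at ha ⊢
      exact congrArg Subtype.val ha
    · intro b
      obtain ⟨l, hl, hb⟩ := exists_tower_in_towerUnion_St2 b
      exact ⟨l, isTower_StP_of_St2 hl, hb⟩
  · intro x
    exact (surjective_residueFieldMap_iff
      (CommRingCat.ofHom (algebraMap A (towerUnion (St2 (A := A) (B := B)) St2_mono))) x).mpr
      (residue_surjective_of_towers (fun b => exists_tower_in_towerUnion_St2 b) x)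
  · intro C _ _ g hU hres
    rintro _ ⟨c, rfl⟩
    have hUH : UH (algebraMap A C) := (isUnivHomeo_iff_UH _).mp hU
    have hres' : ∀ Q : PrimeSpectrum C, Function.Surjective (Ideal.ResidueField.map
        (PrimeSpectrum.comap (algebraMap A C) Q).asIdeal Q.asIdeal (algebraMap A C) rfl) := by
      intro Q
      exact (surjective_residueFieldMap_iff (CommRingCat.ofHom (algebraMap A C)) Q).mp (hres Q)
    obtain ⟨l, hl, hc⟩ := towers_of_UH_of_residue hUH hres' c
    refine ⟨l.map g, isTower_map_St2 g hl, ?_⟩
    rw [adjoin_map_list]
    exact ⟨c, hc, rfl⟩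

end Groth.Agent.S7428
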