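import Groth.Statements.S7431
import Mathlib
import Groth.Agent.Lib.Helper22NA2

set_option autoImplicit false
universe u
open CategoryTheory AlgebraicGeometry
open Lim

namespace Groth.Agent.S7431

open Groth.Agent.Lib.Helper22

section alg
variable {B B' R R' : Type u} [CommRing B] [CommRing B'] [CommRing R] [CommRing R']
  {s : B →+* R} {t : R' →+* R} {p : B' →+* B} {q : B' →+* R'}
  (hsq : IsPullback (CommRingCat.ofHom p) (CommRingCat.ofHom q) (CommRingCat.ofHom s)
    (CommRingCat.ofHom t))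

include hsq

theorem pb_w (a : B') : s (p a) = t (q a) := by
  have := congr($(hsq.w) a)
  exact this

theorem pb_ext (a a' : B') (h1 : p a = p a') (h2 : q a = q a') : a = a' := by
  let e := hsq.isLimit.conePointUniqueUpToIso
    (CommRingCat.pullbackConeIsLimit (CommRingCat.ofHom s) (CommRingCat.ofHom t))
  have he1 : e.hom ≫ (CommRingCat.pullbackCone (CommRingCat.ofHom s) (CommRingCat.ofHom t)).fst
      = CommRingCat.ofHom p :=
    hsq.isLimit.conePointUniqueUpToIso_hom_comp _ Limits.WalkingCospan.left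
  have he2 : e.hom ≫ (CommRingCat.pullbackCone (CommRingCat.ofHom s) (CommRingCat.ofHom t)).snd
      = CommRingCat.ofHom q :=
    hsq.isLimit.conePointUniqueUpToIso_hom_comp _ Limits.WalkingCospan.right
  have hinj : Function.Injective e.hom := (ConcreteCategory.bijective_of_isIso e.hom).1
  apply hinj
  apply Subtype.ext
  apply Prod.ext
  · have h3 := congr($he1 a)
    have h4 := congr($he1 a')
    exact h3.trans (h1.trans h4.symm)
  · have h3 := congr($he2 a)
    have h4 := congr($he2 a')
    exact h3.trans (h2.trans h4.symm)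

theorem pb_exists (b : B) (r' : R') (h : s b = t r') : ∃ a : B', p a = b ∧ q a = r' := by
  let e := hsq.isLimit.conePointUniqueUpToIso
    (CommRingCat.pullbackConeIsLimit (CommRingCat.ofHom s) (CommRingCat.ofHom t))
  have he1 : e.hom ≫ (CommRingCat.pullbackCone (CommRingCat.ofHom s) (CommRingCat.ofHom t)).fst
      = CommRingCat.ofHom p :=
    hsq.isLimit.conePointUniqueUpToIso_hom_comp _ Limits.WalkingCospan.left
  have he2 : e.hom ≫ (CommRingCat.pullbackCone (CommRingCat.ofHom s) (CommRingCat.ofHom t)).snd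
      = CommRingCat.ofHom q :=
    hsq.isLimit.conePointUniqueUpToIso_hom_comp _ Limits.WalkingCospan.right
  have hsurj : Function.Surjective e.hom := (ConcreteCategory.bijective_of_isIso e.hom).2
  obtain ⟨a, ha⟩ := hsurj ⟨(b, r'), h⟩
  refine ⟨a, ?_, ?_⟩
  · have h3 := congr($he1 a)
    refine h3.symm.trans ?_
    change ((e.hom a).1).1 = b
    rw [ha]
  · have h3 := congr($he2 a)
    refine h3.symm.trans ?_
    change ((e.hom a).1).2 = r'
    rw [ha]

end alg

section loc
variable {B R : Type u} [CommRing B] [CommRing R] (s : B →+* R) (g : B)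

theorem away_inj (h : Function.Injective (Localization.awayMap s g)) (b : B) (hb : s b = 0) :
    ∃ m : ℕ, g ^ m * b = 0 := by
  have h1 : Localization.awayMap s g (algebraMap B (Localization.Away g) b) =
      Localization.awayMap s g 0 := by
    rw [map_zero]
    change IsLocalization.Away.map (Localization.Away g) (Localization.Away (s g)) s g _ = 0
    rw [IsLocalization.Away.map, IsLocalization.map_eq, hb, map_zero]
  have h2 := h h1
  rw [IsLocalization.map_eq_zero_iff (Submonoid.powers g)] at h2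
  obtain ⟨⟨_, m, rfl⟩, hm⟩ := h2
  exact ⟨m, hm⟩

theorem away_surj (h : Function.Surjective (Localization.awayMap s g)) (r : R) :
    ∃ (b : B) (m : ℕ), s b = s g ^ m * r := by
  obtain ⟨x, hx⟩ := h (algebraMap R (Localization.Away (s g)) r)
  obtain ⟨n, a, ha⟩ := IsLocalization.Away.surj g x
  have h1 : algebraMap R (Localization.Away (s g)) (r * s g ^ n) =
      algebraMap R (Localization.Away (s g)) (s a) := by
    have h2 := congrArg (Localization.awayMap s g) ha
    rw [map_mul, map_pow, hx] at h2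
    change _ * (IsLocalization.Away.map (Localization.Away g) (Localization.Away (s g)) s g _) ^ n
      = IsLocalization.Away.map (Localization.Away g) (Localization.Away (s g)) s g _ at h2
    rw [IsLocalization.Away.map, IsLocalization.map_eq, IsLocalization.map_eq] at h2
    rw [map_mul, map_pow]
    exact h2
  obtain ⟨⟨_, l, rfl⟩, hl⟩ := (IsLocalization.eq_iff_exists (Submonoid.powers (s g)) _).mp h1
  refine ⟨g ^ l * a, l + n, ?_⟩
  rw [map_mul, map_pow]
  change s g ^ l * (r * s g ^ n) = s g ^ l * s a at hl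
  rw [← hl]
  ring

end loc

section cart
variable {B B' R R' : Type u} [CommRing B] [CommRing B'] [CommRing R] [CommRing R']
  {s : B →+* R} {t : R' →+* R} {p : B' →+* B} {q : B' →+* R'}
  (hsq : IsPullback (CommRingCat.ofHom p) (CommRingCat.ofHom q) (CommRingCat.ofHom s)
    (CommRingCat.ofHom t))

include hsq

theorem cart_inj' (bk : B') (hinj : Function.Injective (Localization.awayMap s (p bk)))
    (a : B') (ha : ∃ m : ℕ, q bk ^ m * q a = 0) : ∃ m : ℕ, bk ^ m * a = 0 := by
  obtain ⟨m, hm⟩ := ha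
  have h1 : s (p bk ^ m * p a) = 0 := by
    rw [map_mul, map_pow, pb_w hsq, pb_w hsq, ← map_pow, ← map_mul, hm, map_zero]
  obtain ⟨l, hl⟩ := away_inj s (p bk) hinj _ h1
  refine ⟨l + m, pb_ext hsq _ _ ?_ ?_⟩
  · rw [map_mul, map_pow, map_zero, pow_add, mul_assoc, hl]
  · rw [map_mul, map_pow, map_zero, pow_add, mul_assoc, hm, mul_zero]

theorem cart_surj' (bk : B') (hsurj : Function.Surjective (Localization.awayMap s (p bk)))
    (r : R') : ∃ (a : B') (m : ℕ), q a = q bk ^ m * r := by
  obtain ⟨b, m, hb⟩ := away_surj s (p bk) hsurj (t r)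
  obtain ⟨a, -, ha⟩ := pb_exists hsq b (q bk ^ m * r) (by
    rw [hb, map_mul, map_pow, pb_w hsq])
  exact ⟨a, m, ha⟩

end cart

section geom
variable {R' A : CommRingCat.{u}} (q : A ⟶ R') (W' : (Spec R').Opens)

/-- the map on global sections -/
noncomputable def phi : A ⟶ Γ(W'.toScheme, ⊤) := q ≫ (Scheme.ΓSpecIso R').inv ≫ W'.ι.appTop

theorem toSpecΓ_phi : W'.toScheme.toSpecΓ ≫ Spec.map (phi q W') = W'.ι ≫ Spec.map q := by
  rw [phi]
  simp only [Spec.map_comp, Category.assoc]
  rw [← Scheme.toSpecΓ_naturality_assoc, toSpecΓ_SpecMap_ΓSpecIso_inv_assoc]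

theorem basicOpen_phi (a : A) :
    W'.toScheme.basicOpen (phi q W' a) = W'.ι ⁻¹ᵁ (PrimeSpectrum.basicOpen (q a)) := by
  rw [← NA2.preimage_basicOpen (phi q W') a, toSpecΓ_phi, Scheme.Hom.comp_preimage]
  rfl

theorem phi_apply (a : A) : phi q W' a = W'.ι.appTop ((Scheme.ΓSpecIso R').inv (q a)) := rfl

theorem main {ι : Type} [Finite ι] (b : ι → A)
    (hW : W' = ⨆ k, PrimeSpectrum.basicOpen (q (b k)))
    (hinj : ∀ k (a : A), (∃ m : ℕ, q (b k) ^ m * q a = 0) → ∃ m : ℕ, b k ^ m * a = 0)
    (hsurj : ∀ k (r : R'), ∃ (a : A) (m : ℕ), q a = q (b k) ^ m * r) :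
    IsOpenImmersion (W'.ι ≫ Spec.map q) := by
  rw [← toSpecΓ_phi]
  have hle : ∀ k, (PrimeSpectrum.basicOpen (q (b k)) : (Spec R').Opens) ≤ W'.ι.opensRange := by
    intro k
    rw [Scheme.Opens.opensRange_ι, hW]
    exact le_iSup (fun k => (PrimeSpectrum.basicOpen (q (b k)) : (Spec R').Opens)) k
  have hle' : ∀ k, (Spec R').basicOpen ((Scheme.ΓSpecIso R').inv (q (b k))) ≤ W'.ι.opensRange := by
    intro k
    rw [basicOpen_eq_of_affine]
    exact hle k
  have hcpt : CompactSpace W'.toScheme := by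
    refine isCompact_iff_compactSpace.mp ?_
    rw [hW]
    have h1 := TopologicalSpace.Opens.coe_iSup (fun k => PrimeSpectrum.basicOpen (q (b k)))
    refine h1 ▸ ?_
    exact isCompact_iUnion fun k => PrimeSpectrum.isCompact_basicOpen _
  refine NA2.isOpenImmersion_toSpecΓ_comp (phi q W') b ?_ ?_ ?_ ?_
  · simp_rw [basicOpen_phi]
    rw [eq_top_iff]
    rintro x -
    have hx0 : (W'.ι x) ∈ W' := x.2
    have hx : (W'.ι x) ∈ (⨆ k, PrimeSpectrum.basicOpen (q (b k)) : (Spec R').Opens) :=
      hW.le hx0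
    obtain ⟨k, hk⟩ := TopologicalSpace.Opens.mem_iSup.mp hx
    exact TopologicalSpace.Opens.mem_iSup.mpr ⟨k, hk⟩
  · intro k
    rw [basicOpen_phi]
    exact (IsAffineOpen.Spec_basicOpen (q (b k))).preimage_of_isOpenImmersion W'.ι (hle k)
  · intro k a ha
    obtain ⟨m, hm⟩ := exists_pow_mul_eq_zero_of_res_basicOpen_eq_zero_of_isCompact W'.toScheme
      (U := ⊤) isCompact_univ (phi q W' a) (phi q W' (b k)) ha
    rw [← map_pow, ← map_mul, phi_apply] at hm
    obtain ⟨m', hm'⟩ := NA2.appTop_inj_of_basicOpen_le W'.ι _ (hle' k) _ hm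
    rw [← map_pow, ← map_mul] at hm'
    have h3 : q (b k) ^ m' * q (b k ^ m * a) = 0 := by
      apply (ConcreteCategory.bijective_of_isIso (Scheme.ΓSpecIso R').inv).1
      rw [map_zero]
      exact hm'
    obtain ⟨l, hl⟩ := hinj k _ ⟨m', h3⟩
    refine ⟨l + m, ?_⟩
    rw [pow_add, mul_assoc]
    exact hl
  · intro k x
    have hqs : QuasiSeparatedSpace W'.toScheme :=
      (isQuasiSeparated_iff_quasiSeparatedSpace _ W'.2).mp (.of_quasiSeparatedSpace _)
    obtain ⟨n, y, hy⟩ := exists_eq_pow_mul_of_isCompact_of_isQuasiSeparated W'.toScheme ⊤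
      isCompact_univ isQuasiSeparated_univ (phi q W' (b k)) x
    obtain ⟨z, m, hz⟩ := NA2.appTop_surj_of_basicOpen_le W'.ι _ (hle' k) y
    obtain ⟨a, m', ha⟩ := hsurj k ((Scheme.ΓSpecIso R').hom z)
    refine ⟨a, m' + m + n, ?_⟩
    have h1 : phi q W' a = phi q W' (b k) ^ (m' + m) * y := by
      rw [phi_apply, ha, map_mul, map_pow, Iso.hom_inv_id_apply, map_mul, map_pow, hz,
        ← phi_apply, pow_add, mul_assoc]
    have hy' : (W'.toScheme.presheaf.map (homOfLE (le_top : W'.toScheme.basicOpen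
        (phi q W' (b k)) ≤ ⊤)).op) y = ((W'.toScheme.presheaf.map (homOfLE (le_top :
        W'.toScheme.basicOpen (phi q W' (b k)) ≤ ⊤)).op) (phi q W' (b k))) ^ n * x := hy
    change x * ((W'.toScheme.presheaf.map (homOfLE (le_top : W'.toScheme.basicOpen
        (phi q W' (b k)) ≤ ⊤)).op) (phi q W' (b k))) ^ (m' + m + n) =
      (W'.toScheme.presheaf.map (homOfLE (le_top : W'.toScheme.basicOpen
        (phi q W' (b k)) ≤ ⊤)).op) (phi q W' a)
    rw [h1, map_mul, map_pow, hy', pow_add (_) (m' + m) n]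
    ring

end geom

/-- Let `B' = B ×_R R'` be a cartesian square of rings with maps `s : B → R`, `t : R' → R`, and let `W'
= D(f_1) ∪ … ∪ D(f_n) ⊆ Spec R'` with `t(f_i) = s(g_i)` for elements `g_i ∈ B` such that `B_{g_i} →
R_{s(g_i)}` is an isomorphism for each `i`. Then the composite `W' → Spec R' → Spec B'`, the second
map coming from `B' → R'`, is an open immersion. -/
theorem result {B B' R R' : Type u} [CommRing B] [CommRing B']
    [CommRing R] [CommRing R'] (s : B →+* R) (t : R' →+* R) (p : B' →+* B) (q : B' →+* R')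
    (hsq : IsPullback (CommRingCat.ofHom p) (CommRingCat.ofHom q) (CommRingCat.ofHom s) (CommRingCat.ofHom t))
    {n : ℕ} (f : Fin n → R') (g : Fin n → B) (hfg : ∀ i, t (f i) = s (g i))
    (hiso : ∀ i, Function.Bijective (Localization.awayMap s (g i))) :
    IsOpenImmersion (Scheme.Opens.ι (X := Spec (CommRingCat.of R')) (⨆ i, PrimeSpectrum.basicOpen (f i)) ≫
      Spec.map (CommRingCat.ofHom q)) := by
  choose b hb1 hb2 using fun k => pb_exists hsq (g k) (f k) (hfg k).symm
  refine main (CommRingCat.ofHom q) _ b ?_ ?_ ?_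
  · congr 1
    funext k
    exact congrArg _ (hb2 k).symm
  · intro k a ha
    refine cart_inj' hsq (b k) ?_ a ha
    rw [hb1 k]
    exact (hiso k).1
  · intro k r
    refine cart_surj' hsq (b k) ?_ r
    rw [hb1 k]
    exact (hiso k).2

end Groth.Agent.S7431
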