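import Groth.Statements.S7443
import Groth.Agent.Lib.Helper20FPDKey

set_option autoImplicit false
universe u
open CategoryTheory AlgebraicGeometry
open Mor

namespace Groth.Agent.S7443

/-- Let `φ : A → B` be a ring map with `Spec B → Spec A` a universal homeomorphism. Then `B`, as an
`A`-algebra, is the colimit of a filtered diagram of finitely presented `A`-algebras `B_i`, and
every `Spec B_i → Spec A` is again a universal homeomorphism. (The colimit is taken in the category
of rings under `A`, over a small filtered index category.) -/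
theorem result {A B : Type u} [CommRing A] [CommRing B] (φ : A →+* B)
    (hφ : FlatMor.IsUnivHomeo (Spec.map (CommRingCat.ofHom φ))) :
    ∃ (J : Type u) (_ : SmallCategory J) (_ : IsFiltered J) (F : J ⥤ Under (CommRingCat.of A))
      (c : Limits.Cocone F) (_ : Limits.IsColimit c),
      (∀ j, (F.obj j).hom.hom.FinitePresentation ∧ FlatMor.IsUnivHomeo (Spec.map (F.obj j).hom)) ∧
      Nonempty (c.pt ≅ Under.mk (CommRingCat.ofHom φ)) := by
  open Groth.Agent.Lib.Helper20.AWN Groth.Agent.Lib.Helper20.Tower Groth.Agent.Lib.Helper20.FPD in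
  letI : Algebra A B := φ.toAlgebra
  have hUH : UH (algebraMap A B) := (isUnivHomeo_iff_UH φ).mp hφ
  obtain ⟨J, hJ1, hJ2, F, c, hc, hF, hpt⟩ := exists_filtered_colimit (A := A) (B := B)
    (Good := fun C _ ψ => UH ψ) (key_StP hUH.2.1 (towers_of_UH hUH))
  refine ⟨J, hJ1, hJ2, F, c, hc, ?_, ?_⟩
  · intro j
    refine ⟨(hF j).1, ?_⟩
    have e0 : Spec.map (F.obj j).hom = Spec.map (CommRingCat.ofHom (F.obj j).hom.hom) := rfl
    rw [e0, isUnivHomeo_iff_UH]
    exact (hF j).2
  · exact ⟨eqToIso hpt⟩

end Groth.Agent.S7443
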