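import Groth.Statements.S7444
import Groth.Agent.Lib.Helper20FPDKey

set_option autoImplicit false
universe u
open CategoryTheory AlgebraicGeometry
open Mor

namespace Groth.Agent.S7444

/-- Let `φ : A → B` be a ring map such that `Spec B → Spec A` is a universal homeomorphism and all
residue field extensions are trivial (every residue field map is surjective). Then `B`, as an
`A`-algebra, is the colimit of a filtered diagram of finitely presented `A`-algebras `B_i`, each of
which has the same two properties over `A`. (The colimit is taken in the category of rings under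
`A`, over a small filtered index category.) -/
theorem result {A B : Type u} [CommRing A] [CommRing B]
    (φ : A →+* B) (hφ : FlatMor.IsUnivHomeo (Spec.map (CommRingCat.ofHom φ)))
    (hres : ∀ x : Spec (CommRingCat.of B), Function.Surjective ((Spec.map (CommRingCat.ofHom φ)).residueFieldMap x)) :
    ∃ (J : Type u) (_ : SmallCategory J) (_ : IsFiltered J) (F : J ⥤ Under (CommRingCat.of A))
      (c : Limits.Cocone F) (_ : Limits.IsColimit c),
      (∀ j, (F.obj j).hom.hom.FinitePresentation ∧ FlatMor.IsUnivHomeo (Spec.map (F.obj j).hom) ∧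
        ∀ x : Spec (F.obj j).right, Function.Surjective ((Spec.map (F.obj j).hom).residueFieldMap x)) ∧
      Nonempty (c.pt ≅ Under.mk (CommRingCat.ofHom φ)) := by
  open Groth.Agent.Lib.Helper20.AWN Groth.Agent.Lib.Helper20.Tower Groth.Agent.Lib.Helper20.FPD in
  letI : Algebra A B := φ.toAlgebra
  have hUH : UH (algebraMap A B) := (isUnivHomeo_iff_UH φ).mp hφ
  have hres' : ∀ Q : PrimeSpectrum B, Function.Surjective (Ideal.ResidueField.map
      (PrimeSpectrum.comap (algebraMap A B) Q).asIdeal Q.asIdeal (algebraMap A B) rfl) := by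
    intro Q
    exact (surjective_residueFieldMap_iff (CommRingCat.ofHom φ) Q).mp (hres Q)
  obtain ⟨J, hJ1, hJ2, F, c, hc, hF, hpt⟩ := exists_filtered_colimit (A := A) (B := B)
    (Good := fun C _ ψ => UH ψ ∧ ∀ P : PrimeSpectrum C, Function.Surjective
      (Ideal.ResidueField.map (PrimeSpectrum.comap ψ P).asIdeal P.asIdeal ψ rfl))
    (key_St2 hUH.2.1 (towers_of_UH_of_residue hUH hres'))
  refine ⟨J, hJ1, hJ2, F, c, hc, ?_, ?_⟩
  · intro j
    refine ⟨(hF j).1, ?_, ?_⟩
    · have e0 : Spec.map (F.obj j).hom = Spec.map (CommRingCat.ofHom (F.obj j).hom.hom) := rfl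
      rw [e0, isUnivHomeo_iff_UH]
      exact (hF j).2.1
    · intro x
      exact (surjective_residueFieldMap_iff (F.obj j).hom x).mpr ((hF j).2.2 x)
  · exact ⟨eqToIso hpt⟩

end Groth.Agent.S7444
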