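import Groth.Statements.S7447
import Mathlib
import Groth.Agent.Lib.Helper22NA9

set_option autoImplicit false
universe u
open CategoryTheory AlgebraicGeometry
open Opposite
open Lim

namespace Groth.Agent.S7447

open Groth.Agent.Lib.Helper22

theorem preimage_opensRange_of_isPullback {P X Y Z : Scheme.{u}} {fst : P ⟶ X} {snd : P ⟶ Y}
    {f : X ⟶ Z} {g : Y ⟶ Z} [IsOpenImmersion f] [IsOpenImmersion snd]
    (h : IsPullback fst snd f g) : g ⁻¹ᵁ f.opensRange = snd.opensRange := by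
  ext y
  have := Scheme.image_preimage_eq_of_isPullback h Set.univ
  simp only [Set.preimage_univ, Set.image_univ] at this
  change y ∈ g ⁻¹' (Set.range f) ↔ y ∈ Set.range snd
  rw [this]

/-- Noetherian approximation relative to a quasi-compact open: let `S` be quasi-compact and
quasi-separated, `V ⊆ S` a quasi-compact open, and `V = lim V_i` the limit of an inverse system,
over a nonempty directed set `I`, of schemes of finite type over `ℤ` with affine transition
morphisms. Then there are a nonempty directed set `J`, an inverse system `(S_j)` of schemes of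
finite type over `ℤ` with affine transition morphisms and `S = lim S_j`, an order preserving map `α
: J → I`, opens `V'_j ⊆ S_j` and isomorphisms `V'_j ≅ V_{α(j)}` such that: the transition maps
satisfy `g_{jj'}⁻¹(V'_{j'}) = V'_j`; `V` is the inverse image of each `V'_j` under `S → S_j` (which
identifies `V` with `lim V'_j`); the composite `V → V'_j → V_{α(j)}` is the projection; and the
squares `V'_j → V_{α(j)} → V_{α(j')}`, `V'_j → V'_{j'} → V_{α(j')}` commute. -/
theorem result (S : Scheme.{u}) [CompactSpace S] [QuasiSeparatedSpace S]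
    (V : S.Opens) (hV : IsCompact (V : Set S)) (I : Type u) [Preorder I] [IsDirected I (fun a b => a ≤ b)] [Nonempty I]
    (DV : Iᵒᵖ ⥤ Scheme.{u}) (haff : ∀ (i i' : Iᵒᵖ) (a : i ⟶ i'), IsAffineHom (DV.map a))
    (hft : ∀ i, CompactSpace (DV.obj i) ∧ LocallyOfFiniteType (Limits.IsTerminal.from specULiftZIsTerminal (DV.obj i)))
    (cV : Limits.Cone DV) (hcV : Limits.IsLimit cV) (eV : cV.pt ≅ (V : Scheme.{u})) :
    ∃ (J : Type u) (_ : Preorder J) (_ : IsDirected J (fun a b => a ≤ b)) (_ : Nonempty J)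
      (DS : Jᵒᵖ ⥤ Scheme.{u}) (cS : Limits.Cone DS) (_ : Limits.IsLimit cS) (eS : cS.pt ≅ S)
      (α : J →o I) (V' : ∀ j : J, (DS.obj (op j)).Opens)
      (φ : ∀ j : J, (V' j : Scheme.{u}) ≅ DV.obj (op (α j))),
      (∀ (j j' : Jᵒᵖ) (a : j ⟶ j'), IsAffineHom (DS.map a)) ∧
      (∀ j, CompactSpace (DS.obj j) ∧ LocallyOfFiniteType (Limits.IsTerminal.from specULiftZIsTerminal (DS.obj j))) ∧
      (∀ (j j' : J) (h : j' ≤ j), (DS.map (homOfLE h).op) ⁻¹ᵁ (V' j') = V' j) ∧
      (∀ j : J, (eS.inv ≫ cS.π.app (op j)) ⁻¹ᵁ (V' j) = V) ∧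
      (∀ j : J, ∃ ρ : (V : Scheme.{u}) ⟶ (V' j : Scheme.{u}),
        ρ ≫ (V' j).ι = V.ι ≫ eS.inv ≫ cS.π.app (op j) ∧ ρ ≫ (φ j).hom = eV.inv ≫ cV.π.app (op (α j))) ∧
      (∀ (j j' : J) (h : j' ≤ j), ∃ τ : (V' j : Scheme.{u}) ⟶ (V' j' : Scheme.{u}),
        τ ≫ (V' j').ι = (V' j).ι ≫ DS.map (homOfLE h).op ∧
        (φ j).hom ≫ DV.map (homOfLE (α.mono h)).op = τ ≫ (φ j').hom) := by
  have hD : NA5.GoodSys DV := ⟨inferInstance, inferInstance, fun a => haff _ _ a,
    fun x => (hft x).1, fun x => (hft x).2⟩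
  obtain ⟨J, pJ, DS, cS, hcS, eS, α, ν, hgood, hν, hsq, hcsq⟩ :=
    NA9.approx_of_qcqs DV hD cV hcV (eV.hom ≫ V.ι)
  have hcsq' : ∀ k : J, IsPullback (cV.π.app (op (α k))) (eV.hom ≫ V.ι) (ν k)
      (eS.inv ≫ cS.π.app (op k)) := by
    intro k
    have h1 : IsPullback (𝟙 cV.pt) (eV.hom ≫ V.ι) ((eV.hom ≫ V.ι) ≫ eS.inv) eS.inv :=
      IsPullback.of_horiz_isIso ⟨by simp⟩
    have h2 := h1.paste_horiz (hcsq k)
    rw [Category.id_comp] at h2
    exact h2
  refine ⟨J, pJ, hgood.dir, hgood.ne, DS, cS, hcS, eS, α, fun k => (ν k).opensRange,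
    fun k => (ν k).isoOpensRange.symm, fun j j' a => hgood.aff a,
    fun j => ⟨hgood.cpt j, hgood.lft j⟩, fun j j' h => ?_, fun j => ?_, fun j => ?_,
    fun j j' h => ?_⟩
  · exact preimage_opensRange_of_isPullback (hsq j' j h)
  · rw [preimage_opensRange_of_isPullback (hcsq' j), Scheme.Hom.opensRange_comp_of_isIso,
      Scheme.Opens.opensRange_ι]
  · refine ⟨eV.inv ≫ cV.π.app (op (α j)) ≫ (ν j).isoOpensRange.hom, ?_, ?_⟩
    · simp only [Category.assoc, Scheme.Hom.isoOpensRange_hom_ι]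
      rw [(hcsq' j).w]
      simp
    · simp
  · refine ⟨(ν j).isoOpensRange.inv ≫ DV.map (homOfLE (α.mono h)).op ≫
      (ν j').isoOpensRange.hom, ?_, ?_⟩
    · simp only [Category.assoc, Scheme.Hom.isoOpensRange_hom_ι]
      rw [(hsq j' j h).w, Scheme.Hom.isoOpensRange_inv_comp_assoc]
    · simp

end Groth.Agent.S7447
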