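import Groth.Statements.S7449
import Groth.Agent.Lib.Helper9NagVC

set_option autoImplicit false
universe u
open CategoryTheory AlgebraicGeometry
open Lim

namespace Groth.Agent.S7449

/-- Let `S` be a Nagata scheme, `X`, `Y` locally of finite type over `S` and `f : X → Y` a quasi-compact
morphism over `S`. Then `f` is universally closed if and only if for every commutative diagram `U →
X`, `C → Y` over `S` where `C` is a normal integral scheme of finite type over `S`, `c ∈ C` is a
closed point whose local ring `A = O_{C,c}` has dimension `1` and `U = C ∖ {c}`, there is a morphism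
`Spec A → X` making the square `Spec K → X`, `Spec A → Y` (with `K = Frac A`, `Spec K → X` through
`U`, `Spec A → Y` through `C`) commute. -/
theorem result (S : Scheme.{u}) (hS : ∀ W : S.affineOpens, CAlg.IsNagata Γ(S, W))
    {X Y : Scheme.{u}} (p : X ⟶ S) (q : Y ⟶ S) [LocallyOfFiniteType p] [LocallyOfFiniteType q] (f : X ⟶ Y)
    (hf : f ≫ q = p) [QuasiCompact f] :
    UniversallyClosed f ↔
      ∀ (C : Scheme.{u}) (r : C ⟶ S) [IsIntegral C] [LocallyOfFiniteType r] [QuasiCompact r],
        (∀ x : C, IsIntegrallyClosed (C.presheaf.stalk x)) →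
        ∀ (c : C), IsClosed ({c} : Set C) → ringKrullDim (C.presheaf.stalk c) = 1 →
        ∀ (U : C.Opens), (U : Set C) = {c}ᶜ →
        ∀ (u : (U : Scheme.{u}) ⟶ X) (g : C ⟶ Y), g ≫ q = r → u ≫ f = U.ι ≫ g →
        ∀ (k : Spec (CommRingCat.of (FractionRing (C.presheaf.stalk c))) ⟶ (U : Scheme.{u})),
          k ≫ U.ι = Spec.map (CommRingCat.ofHom (algebraMap (C.presheaf.stalk c)
            (FractionRing (C.presheaf.stalk c)))) ≫ C.fromSpecStalk c →
        ∃ l : Spec (C.presheaf.stalk c) ⟶ X, l ≫ f = C.fromSpecStalk c ≫ g ∧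
          Spec.map (CommRingCat.ofHom (algebraMap (C.presheaf.stalk c) (FractionRing (C.presheaf.stalk c)))) ≫ l =
            k ≫ u := by
  constructor
  · intro huc C r _ _ _ hnorm c hclosed hdim U hU u g hg hu k hk
    haveI : IsLocallyNoetherian S := ⟨fun W => (hS W).1⟩
    haveI : IsLocallyNoetherian C := LocallyOfFiniteType.isLocallyNoetherian r
    haveI : Ring.KrullDimLE 1 (C.presheaf.stalk c) := Ring.krullDimLE_iff.mpr hdim.le
    haveI hdomA : IsDomain (C.presheaf.stalk c) := inferInstance
    haveI : ValuationRing (C.presheaf.stalk c) := by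
      have h := (tfae_of_isNoetherianRing_of_isLocalRing_of_isDomain (C.presheaf.stalk c)).out 3 1
      refine h.mp ⟨hnorm c, ?_⟩
      intro P hP hPp
      exact IsLocalRing.eq_maximalIdeal (hPp.isMaximal_of_ne_bot hP)
    have hex : ValuativeCriterion.Existence f := by
      have h1 : (ValuativeCriterion.Existence ⊓ @QuasiCompact) f := by
        rw [← UniversallyClosed.eq_valuativeCriterion]; exact huc
      exact h1.1
    have hsq : CommSq (k ≫ u) (Spec.map (CommRingCat.ofHom (algebraMap (C.presheaf.stalk c)
        (FractionRing (C.presheaf.stalk c))))) f (C.fromSpecStalk c ≫ g) :=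
      ⟨by rw [Category.assoc, hu, ← Category.assoc, hk, Category.assoc]⟩
    let sq : ValuativeCommSq f :=
      { R := C.presheaf.stalk c
        domain := hdomA
        K := FractionRing (C.presheaf.stalk c)
        i₁ := k ≫ u
        i₂ := C.fromSpecStalk c ≫ g
        commSq := hsq }
    obtain ⟨⟨lft⟩⟩ := hex sq
    exact ⟨lft.l, lft.fac_right, lft.fac_left⟩
  · intro H
    exact Groth.Agent.Lib.Helper9.NagVC.universallyClosed_of_curveLifting S hS p q f hf H

end Groth.Agent.S7449
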