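import Groth.Statements.S7453
import Mathlib
import Groth.Agent.Lib.Helper2Grpd

set_option autoImplicit false
universe u
open CategoryTheory CategoryTheory.Limits AlgebraicGeometry
open Grpd

namespace Groth.Agent.S7453

open CategoryTheory CategoryTheory.Limits AlgebraicGeometry Groth.Agent.Lib.Helper2.Grpd in
/-- The diagonal of `s` is the base change of `e` along `(r₁, r₂) ↦ r₁ r₂⁻¹`. -/
lemma key {S : Scheme.{u}} (G : Grpd.GroupoidScheme S) :
    ∃ δ : pullback G.s G.s ⟶ G.R, IsPullback G.t (pullback.diagonal G.s) G.e δ := by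
  set π₁ := pullback.fst G.s G.s with hπ₁
  set π₂ := pullback.snd G.s G.s with hπ₂
  have hcond : π₁ ≫ G.s = π₂ ≫ G.s := pullback.condition
  have h12 : π₁ ≫ G.s = (π₂ ≫ G.i) ≫ G.t := by rw [Category.assoc, G.i_t, hcond]
  let δ : pullback G.s G.s ⟶ G.R := comp G π₁ (π₂ ≫ G.i) h12
  have hd1 : pullback.diagonal G.s ≫ π₁ = 𝟙 _ := pullback.diagonal_fst _
  have hd2 : pullback.diagonal G.s ≫ π₂ = 𝟙 _ := pullback.diagonal_snd _
  refine ⟨δ, ?_⟩
  have w : G.t ≫ G.e = pullback.diagonal G.s ≫ δ := by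
    show _ = _ ≫ comp G π₁ (π₂ ≫ G.i) h12
    rw [precomp_comp]
    have e2 : pullback.diagonal G.s ≫ π₂ ≫ G.i = 𝟙 G.R ≫ G.i := by rw [← Category.assoc, hd2]
    rw [comp_congr G _ hd1 e2, comp_i, Category.id_comp]
  refine ⟨⟨w⟩, ⟨PullbackCone.IsLimit.mk w (fun c => c.snd ≫ π₁) ?_ ?_ ?_⟩⟩
  · intro c
    have hc := c.condition
    -- c.fst ≫ e = c.snd ≫ δ
    have h1 := congrArg (· ≫ G.t) hc
    simp only [Category.assoc, G.e_t, Category.comp_id] at h1
    rw [h1]
    show _ = c.snd ≫ comp G π₁ (π₂ ≫ G.i) h12 ≫ G.t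
    rw [comp_t, Category.assoc]
  · intro c
    have hc := c.condition
    have hside : (c.snd ≫ π₁) ≫ G.s = ((c.snd ≫ π₂) ≫ G.i) ≫ G.t := by
      simp only [Category.assoc, G.i_t, hcond]
    have h3 : c.snd ≫ δ = comp G (c.snd ≫ π₁) ((c.snd ≫ π₂) ≫ G.i) hside := by
      show c.snd ≫ comp G π₁ (π₂ ≫ G.i) h12 = _
      rw [precomp_comp]
      exact comp_congr G _ rfl (by rw [Category.assoc])
    have h1 := congrArg (· ≫ G.s) hc
    simp only [Category.assoc, G.e_s, Category.comp_id] at h1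
    -- h1 : c.fst = c.snd ≫ δ ≫ s
    have h1' : c.fst = (c.snd ≫ π₂) ≫ G.t := by
      rw [h1]
      show c.snd ≫ comp G π₁ (π₂ ≫ G.i) h12 ≫ G.s = _
      rw [comp_s]
      simp only [Category.assoc, G.i_s]
    have hkey : c.snd ≫ π₁ = c.snd ≫ π₂ := by
      have h4 := comp_i_comp' G (c.snd ≫ π₁) (c.snd ≫ π₂) hside
        (by rw [comp_s]; simp only [Category.assoc, G.i_s])
      rw [← h4]
      have h5 : comp G (c.snd ≫ π₁) ((c.snd ≫ π₂) ≫ G.i) hside = (c.snd ≫ π₂) ≫ G.t ≫ G.e := by
        rw [← h3, ← hc, h1', Category.assoc, Category.assoc]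
      rw [comp_congr G _ h5 rfl]
      exact G.e_comp (c.snd ≫ π₂)
    apply pullback.hom_ext
    · rw [Category.assoc, hd1, Category.comp_id]
    · rw [Category.assoc, hd2, Category.comp_id]
      exact hkey
  · intro c m hm1 hm2
    rw [← hm2, Category.assoc, hd1, Category.comp_id]

open CategoryTheory CategoryTheory.Limits AlgebraicGeometry in
/-- A section of a morphism to the spectrum of a field is a closed immersion. -/
lemma isClosedImmersion_section {U R : Scheme.{u}} (k : Type u) [Field k]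
    (eU : U ≅ Spec (CommRingCat.of k)) (s : R ⟶ U) (e : U ⟶ R) (hes : e ≫ s = 𝟙 U) :
    IsClosedImmersion e := by
  have hUs : Subsingleton U := eU.hom.homeomorph.subsingleton
  have : IsImmersion (e ≫ s) := by rw [hes]; infer_instance
  have : IsImmersion e := IsImmersion.of_comp e s
  apply IsClosedImmersion.of_isPreimmersion
  let u₀ : U := eU.inv (IsLocalRing.closedPoint k)
  have hrange : Set.range e = {e u₀} := by
    ext y
    constructor
    · rintro ⟨u, rfl⟩
      rw [Subsingleton.elim u u₀]; rfl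
    · rintro rfl
      exact ⟨u₀, rfl⟩
  rw [hrange, ← closure_eq_iff_isClosed]
  apply Set.Subset.antisymm _ subset_closure
  intro y hy
  have hspec : e u₀ ⤳ y := specializes_iff_mem_closure.mpr hy
  obtain ⟨V, hV, hyV⟩ : ∃ V : R.Opens, IsAffineOpen V ∧ y ∈ V := by
    obtain ⟨_, ⟨V, hV, rfl⟩, hyV, -⟩ := R.isBasis_affineOpens.exists_subset_of_mem_open
      (Set.mem_univ y) isOpen_univ
    exact ⟨V, hV, hyV⟩
  have hxV : e u₀ ∈ V := hspec.mem_open V.isOpen hyV
  have hrg : Set.range e ⊆ Set.range V.ι := by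
    rw [hrange, Scheme.Opens.range_ι]
    exact Set.singleton_subset_iff.mpr hxV
  let e' : U ⟶ V := IsOpenImmersion.lift V.ι e hrg
  have he' : e' ≫ V.ι = e := IsOpenImmersion.lift_fac _ _ _
  have hVaff : IsAffine (V : Scheme) := hV
  have h1 : e' ≫ (V.ι ≫ s) = 𝟙 U := by rw [← Category.assoc, he', hes]
  have : IsClosedImmersion (e' ≫ (V.ι ≫ s)) := by rw [h1]; infer_instance
  have hcl : IsClosedImmersion e' := IsClosedImmersion.of_comp e' (V.ι ≫ s)
  have hcl' : IsClosed (Set.range e') := e'.isClosedEmbedding.isClosed_range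
  have hrange' : Set.range e' = {e' u₀} := by
    ext z
    constructor
    · rintro ⟨u, rfl⟩
      rw [Subsingleton.elim u u₀]; rfl
    · rintro rfl
      exact ⟨u₀, rfl⟩
  rw [hrange'] at hcl'
  have hex : V.ι (e' u₀) = e u₀ := by
    have : V.ι (e' u₀) = (e' ≫ V.ι) u₀ := rfl
    rw [this, he']
  have hspec' : e' u₀ ⤳ (⟨y, hyV⟩ : V) := by
    rw [← V.ι.isOpenEmbedding.isInducing.specializes_iff, hex]
    exact hspec
  have := hspec'.mem_closed hcl' rfl
  have h2 : (⟨y, hyV⟩ : V) = e' u₀ := this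
  have h3 : y = V.ι (e' u₀) := by rw [← h2]; rfl
  rw [h3, hex]
  rfl

/-- Let (U, R, s, t, c) be a groupoid scheme over S with U the spectrum of a field. Then R is a
separated scheme. (A groupoid scheme carries U, R, s, t, c, e, i over S with the groupoid axioms on
T-points; c is defined on the fibre product of s and t and sends a pair (a, b) with s(a) = t(b) to a
composed with b.) -/
theorem result (S : Scheme.{u}) (G : Grpd.GroupoidScheme S) (k : Type u) [Field k] (eU : G.U ≅ Spec (CommRingCat.of k)) : G.R.IsSeparated := by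
  classical
  obtain ⟨δ, hkey⟩ := key G
  have he : IsClosedImmersion G.e := isClosedImmersion_section k eU G.s G.e G.e_s
  have hs : IsSeparated G.s := ⟨MorphismProperty.of_isPullback (P := @IsClosedImmersion) hkey he⟩
  have hUaff : IsAffine G.U := .of_isIso eU.hom
  have : terminal.from G.R = G.s ≫ terminal.from G.U := Subsingleton.elim _ _
  exact ⟨by rw [this]; infer_instance⟩

end Groth.Agent.S7453
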