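import Groth.Statements.S7462
import Mathlib
import Groth.Agent.S1892

set_option autoImplicit false
universe u
open CategoryTheory CategoryTheory.Limits AlgebraicGeometry
open Grpd

namespace Groth.Agent.S7462

section Aux
open Groth.Agent.Lib.Helper2.Grpd Groth.Agent.S1891 Groth.Agent.S1892
variable {S : Scheme.{u}} {G₁ G₂ : Grpd.GroupoidScheme S} (a : Grpd.GroupoidScheme.Hom G₁ G₂)

lemma closure_comp_closure (k : Type u) [Field k] (eU : G₂.U ≅ Spec (CommRingCat.of k))
    [IsIso a.fU] (p : ↑(pullback G₂.s G₂.t))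
    (h₁ : pullback.fst G₂.s G₂.t p ∈ closure (Set.range a.fR))
    (h₂ : pullback.snd G₂.s G₂.t p ∈ closure (Set.range a.fR)) :
    G₂.c p ∈ closure (Set.range a.fR) := by
  have hUn : Nonempty G₂.U := ⟨eU.inv (IsLocalRing.closedPoint k)⟩
  have hUi : IsIntegral G₂.U := isIntegral_of_isOpenImmersion eU.hom
  have hUs : Subsingleton G₂.U := eU.hom.homeomorph.subsingleton
  obtain ⟨Zc, hZc⟩ : ∃ Zc : TopologicalSpace.Closeds G₂.R,
      (Zc : Set G₂.R) = closure (Set.range a.fR) := ⟨⟨_, isClosed_closure⟩, rfl⟩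
  obtain ⟨I, hI⟩ : ∃ I : G₂.R.IdealSheafData, I = Scheme.IdealSheafData.vanishingIdeal Zc :=
    ⟨_, rfl⟩
  have hι : Set.range I.subschemeι = closure (Set.range a.fR) := by
    rw [Scheme.IdealSheafData.range_subschemeι, hI, ← hZc]
    simp
  set ι := I.subschemeι with hιdef
  set q1 := pullback.fst (ι ≫ G₂.s) G₂.t with hq1
  set q2 := pullback.snd (ι ≫ G₂.s) G₂.t with hq2
  have hm : (q1 ≫ ι) ≫ G₂.s = q2 ≫ G₂.t := by rw [Category.assoc]; exact pullback.condition
  set m' := comp G₂ (q1 ≫ ι) q2 hm with hm'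
  have hopen : IsOpenMap q2 := by
    have : UniversallyOpen (ι ≫ G₂.s) := inferInstance
    have : UniversallyOpen q2 := inferInstance
    exact q2.isOpenMap
  have hsub : q2 ⁻¹' (closure (Set.range a.fR)) ⊆ m' ⁻¹' (closure (Set.range a.fR)) := by
    rw [hopen.preimage_closure_eq_closure_preimage q2.continuous]
    apply closure_minimal _ (isClosed_closure.preimage m'.continuous)
    rintro q ⟨x₁, hx₁⟩
    obtain ⟨q', hq1', hq2'⟩ :=
      Scheme.Pullback.exists_preimage_pullback (f := q2) (g := a.fR) q x₁ hx₁.symm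
    set f1 := pullback.fst q2 a.fR with hf1
    set x₁' := pullback.snd q2 a.fR with hx₁'
    have hc : f1 ≫ q2 = x₁' ≫ a.fR := pullback.condition
    have hh : (f1 ≫ q1 ≫ ι) ≫ G₂.s = (x₁' ≫ a.fR) ≫ G₂.t := by
      rw [← hc, Category.assoc, Category.assoc, Category.assoc, ← Category.assoc q1, hm]
    have h3 := comp_mem_closure a k eU (f1 ≫ q1 ≫ ι) x₁' hh q' (by
      rw [← hι]
      refine ⟨(f1 ≫ q1) q', ?_⟩
      rw [← Scheme.Hom.comp_apply, Category.assoc])
    have e1 : comp G₂ (f1 ≫ q1 ≫ ι) (x₁' ≫ a.fR) hh = f1 ≫ m' := by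
      rw [hm', precomp_comp]
      exact comp_congr G₂ _ rfl hc.symm
    rw [e1, Scheme.Hom.comp_apply, hq1'] at h3
    exact h3
  -- lift the point `p`
  obtain ⟨z, hz⟩ : ∃ z, ι z = pullback.fst G₂.s G₂.t p := by
    have : pullback.fst G₂.s G₂.t p ∈ Set.range ι := by rw [hι]; exact h₁
    exact this
  obtain ⟨w, hw1, hw2⟩ :=
    Scheme.Pullback.exists_preimage_pullback (f := ι) (g := pullback.fst G₂.s G₂.t) z p hz
  have hcond : (pullback.fst ι (pullback.fst G₂.s G₂.t)) ≫ ι ≫ G₂.s =
      (pullback.snd ι (pullback.fst G₂.s G₂.t) ≫ pullback.snd G₂.s G₂.t) ≫ G₂.t := by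
    rw [← Category.assoc, pullback.condition, Category.assoc, Category.assoc, pullback.condition]
  let θ : pullback ι (pullback.fst G₂.s G₂.t) ⟶ pullback (ι ≫ G₂.s) G₂.t :=
    pullback.lift (pullback.fst ι (pullback.fst G₂.s G₂.t))
      (pullback.snd ι (pullback.fst G₂.s G₂.t) ≫ pullback.snd G₂.s G₂.t) hcond
  have hθ2 : θ ≫ q2 = pullback.snd ι (pullback.fst G₂.s G₂.t) ≫ pullback.snd G₂.s G₂.t :=
    pullback.lift_snd _ _ _
  have hθm : θ ≫ m' = pullback.snd ι (pullback.fst G₂.s G₂.t) ≫ G₂.c := by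
    rw [hm']
    unfold comp
    rw [← Category.assoc]
    congr 1
    apply pullback.hom_ext
    · rw [Category.assoc, pullback.lift_fst, ← Category.assoc, pullback.lift_fst,
        pullback.condition]
    · rw [Category.assoc, pullback.lift_snd, hθ2]
  have h4 : θ w ∈ q2 ⁻¹' (closure (Set.range a.fR)) := by
    rw [Set.mem_preimage, ← Scheme.Hom.comp_apply, hθ2, Scheme.Hom.comp_apply, hw2]
    exact h₂
  have h5 := hsub h4
  rw [Set.mem_preimage, ← Scheme.Hom.comp_apply, hθm, Scheme.Hom.comp_apply, hw2] at h5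
  exact h5

end Aux


/-- Consider two groupoid schemes (U, R_1, s_1, t_1, c_1) and (U, R_2, s_2, t_2, c_2) over S, where U is
the spectrum of a field, together with a map a : R_1 -> R_2 respecting source, target and
composition (in the Lean: a morphism of groupoid schemes whose object-scheme component is an
isomorphism). Write Z for the closure in R_2 of the image of a. Then, as a map of sets, c_2 sends Z
x_(s_2,U,t_2) Z into Z: any point of R_2 x_(s_2,U,t_2) R_2 with both projections in Z has its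
c_2-image in Z. (Here a groupoid scheme over S consists of U, R, s, t, c, e, i satisfying the
groupoid axioms on T-points; c lives on the fibre product of s and t and takes a pair (a, b) with
s(a) = t(b) to the composite of a with b.) -/
theorem result (S : Scheme.{u}) (G₁ G₂ : Grpd.GroupoidScheme S) (f : Grpd.GroupoidScheme.Hom G₁ G₂) [IsIso f.fU] (k : Type u) [Field k] (eU : G₂.U ≅ Spec (CommRingCat.of k)) (p : ↑(pullback G₂.s G₂.t)) (h₁ : pullback.fst G₂.s G₂.t p ∈ closure (Set.range ⇑f.fR)) (h₂ : pullback.snd G₂.s G₂.t p ∈ closure (Set.range ⇑f.fR)) : G₂.c p ∈ closure (Set.range ⇑f.fR) := by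
  exact closure_comp_closure f k eU p h₁ h₂

end Groth.Agent.S7462
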