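import Groth.Statements.S7465
import Mathlib
import Groth.Agent.Lib.Helper11KMAffB

set_option autoImplicit false
universe u
open CategoryTheory CategoryTheory.Limits AlgebraicGeometry
open Grpd

namespace Groth.Agent.S7465


/-- Let (U, R, s, t, c) be a groupoid scheme over S with s, t finite and U locally Noetherian, and let
u_1, ..., u_m be points of U such that every point in their R-orbits is a generic point of an
irreducible component of U. Then there are an R-invariant affine open V of U containing u_1, ...,
u_m and an R-invariant closed subscheme V' of V with the same underlying set (V is a thickening of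
V'; V' is then affine and contains the u_i) such that the source and target of the restriction of R
to V' are finite locally free. Here ι' : V' -> U is the inclusion, R-invariance of V' is expressed
as an isomorphism between the pullbacks of s and of t along ι' compatible with the maps to R, and
the restricted source and target are the base changes of s and t along ι'; 'finite locally free' is
finite, flat and locally of finite presentation. (A groupoid scheme carries U, R, s, t, c, e, i over
S with the groupoid axioms on T-points; c is defined on the fibre product of s and t and sends a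
pair (a, b) with s(a) = t(b) to a composed with b.) -/
theorem result (S : Scheme.{u}) (G : Grpd.GroupoidScheme S) [IsFinite G.s] [IsFinite G.t] [IsLocallyNoetherian G.U] (m : ℕ) (u : Fin m → G.U) (hu : ∀ i (r : G.R), G.s r = u i → ∀ x : G.U, x ⤳ G.t r → x = G.t r) : ∃ (V : G.U.Opens) (V' : (↑V : Scheme.{u}).IdealSheafData), IsAffineOpen V ∧ (∀ i, u i ∈ V) ∧ G.s ⁻¹ᵁ V = G.t ⁻¹ᵁ V ∧ V'.support = ⊤ ∧ (∃ φ : pullback G.s (V'.subschemeι ≫ V.ι) ≅ pullback G.t (V'.subschemeι ≫ V.ι), φ.hom ≫ pullback.fst G.t (V'.subschemeι ≫ V.ι) = pullback.fst G.s (V'.subschemeι ≫ V.ι)) ∧ Mor2.IsFinLocFree (pullback.snd G.s (V'.subschemeι ≫ V.ι)) ∧ Mor2.IsFinLocFree (pullback.snd G.t (V'.subschemeι ≫ V.ι)) := by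
  open Groth.Agent.Lib.Helper11.KMAff Groth.Agent.Lib.Helper11.KMGrpd Groth.Agent.Lib.Helper11.KMThick in
  have hft : ∀ r, Groth.Agent.Lib.Helper22.FTIdeal.FT (Zr G r) := fun r V =>
    haveI : IsNoetherianRing Γ(G.U, V.1) := IsLocallyNoetherian.component_noetherian V
    IsNoetherian.noetherian _
  obtain ⟨V₀, hV₀, huV, hinv, hle⟩ := exists_affine_inv G hft m u hu
  have hV : Wtot (Wr' G V₀) = V₀ := Wtot_Wr' G V₀ hle
  obtain ⟨h1, h2, h3, h4⟩ := main' G V₀ hinv
  exact ⟨Wtot (Wr' G V₀), Vthick G V₀, by rw [hV]; exact hV₀, fun i => by rw [hV]; exact huV i, by rw [hV]; exact hinv, h1, h2, h3, h4⟩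

end Groth.Agent.S7465
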