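import Groth.Statements.S7478
-- import your own Groth.Agent.* helpers here
import Mathlib

set_option autoImplicit false
universe w u
open HTop

namespace Groth.Agent.S7478

open CategoryTheory CategoryTheory.Limits AlgebraicGeometry

open CategoryTheory CategoryTheory.Limits AlgebraicGeometry in
/-- The base change of a standard ph covering along a morphism of affine schemes T' -> T is a standard
ph covering of T'. -/
theorem result {T T' : Scheme.{u}} [IsAffine T'] (g : T' ⟶ T) (E : PreZeroHypercover.{w} T) (hE : HTop.IsStandardPh E) : HTop.IsStandardPh (E.pullback₁ g) := by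
  have := hE.isAffine
  obtain ⟨U, f, ι, hfp, hfs, hι, hιf, hcov⟩ := hE.exists_proper
  refine ⟨inferInstance, hE.finite_index, fun j => ?_, ?_⟩
  · have := hE.isAffine_obj j
    exact inferInstanceAs (IsAffine (pullback g (E.f j)))
  · let ι' : ∀ j, pullback g (E.f j) ⟶ pullback g f := fun j =>
      pullback.lift (pullback.fst g (E.f j)) (pullback.snd g (E.f j) ≫ ι j)
        (by rw [Category.assoc, hιf, pullback.condition])
    have hι'1 : ∀ j, ι' j ≫ pullback.fst g f = pullback.fst g (E.f j) :=
      fun j => pullback.lift_fst _ _ _
    have hι'2 : ∀ j, ι' j ≫ pullback.snd g f = pullback.snd g (E.f j) ≫ ι j :=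
      fun j => pullback.lift_snd _ _ _
    have sq : ∀ j, IsPullback (ι' j) (pullback.snd g (E.f j)) (pullback.snd g f) (ι j) := by
      intro j
      refine IsPullback.of_right (h₁₂ := pullback.fst g f) (v₁₃ := g) (h₂₂ := f) ?_
        (hι'2 j) ?_
      · rw [hι'1, hιf]
        exact IsPullback.of_hasPullback g (E.f j)
      · exact IsPullback.of_hasPullback g f
    refine ⟨pullback g f, pullback.fst g f, ι', inferInstance, inferInstance, fun j => ?_,
      hι'1, fun x => ?_⟩
    · have := hι j
      exact MorphismProperty.of_isPullback (P := @IsOpenImmersion) (sq j).flip inferInstance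
    · obtain ⟨j, y, hy⟩ := hcov (pullback.snd g f x)
      refine ⟨j, ?_⟩
      let e := (sq j).isoPullback
      obtain ⟨z, hz1, hz2⟩ := Scheme.Pullback.exists_preimage_pullback
        (f := pullback.snd g f) (g := ι j) x y hy.symm
      refine ⟨e.inv z, ?_⟩
      have : e.inv ≫ ι' j = pullback.fst (pullback.snd g f) (ι j) := (sq j).isoPullback_inv_fst
      show (e.inv ≫ ι' j) z = x
      rw [this]
      exact hz1

end Groth.Agent.S7478
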