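import Groth.Statements.S7485
import Mathlib
import Groth.Agent.Lib.Helper15FinDesc
import Groth.Agent.S2324
import Groth.Agent.Lib.Helper23Restr2

set_option autoImplicit false
open CategoryTheory CategoryTheory.Limits AlgebraicGeometry
universe u
open Desc

namespace Groth.Agent.S7485

/-- Let p : X -> Y be a surjective finite locally free morphism and V a scheme over X which has an ample
invertible module. Then every descent datum on V relative to p is effective. (Descent data are taken
in functor-of-points form.) -/
theorem result {X Y : Scheme.{u}} (p : X ⟶ Y) [Surjective p] [IsFinite p] [Flat p] [LocallyOfFinitePresentation p] (D : Desc.SchDD p) (L : D.obj.left.Modules) (hL : CohB1.IsAmple L) : ∃ W : Over Y, Nonempty ((Desc.toDD p).obj W ≅ D) := by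
  have hcomp : CompactSpace D.obj.left := hL.2.1
  have hsep : D.obj.left.IsSeparated := Groth.Agent.Lib.Helper23.SecTw.isSeparated_of_isAmple L hL
  refine Groth.Agent.Lib.Helper15FinDesc.effective_of_finite D fun v => ?_
  have hfin : ((Groth.Agent.Lib.Helper15AffDescCore.ψ D).base ''
      ((Groth.Agent.Lib.Helper15AffDescCore.w₁ D).base ⁻¹' {v})).Finite :=
    (Scheme.Hom.finite_preimage_singleton (Groth.Agent.Lib.Helper15AffDescCore.w₁ D) v).image _
  obtain ⟨n, s, hZ, -, haff⟩ := Groth.Agent.S2324.result D.obj.left L hL _ hfin ⊤
    (fun _ _ => trivial)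
  exact ⟨_, haff, fun r hr => hZ ⟨r, hr, rfl⟩⟩

end Groth.Agent.S7485
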