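import Groth.Statements.S7487
import Mathlib
import Groth.Agent.Lib.Helper11FfgInvA

set_option autoImplicit false
universe u
open CategoryTheory CategoryTheory.Limits AlgebraicGeometry
open Grpd

namespace Groth.Agent.S7487


/-- Let (U, R, s, t, c) be a groupoid scheme over S with U = Spec A and R = Spec B affine and s, t
finite locally free; let C be the subring of R-invariant functions of A and C -> C' a ring map. Put
A' = A (x)_C C' and B' = B (x)_C C' (B a C-algebra through s^#) and let C^1 be the subring of A'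
where the two maps s^# (x) 1, t^# (x) 1 : A' -> B' agree; the structure map C' -> A' lands in C^1,
giving φ : C' -> C^1. Then: (a) for every f in C^1 there are n > 0 and a polynomial P over C' whose
image in A'[x] is (x - f)^n; (b) every element of the kernel of φ is nilpotent; (c) if C -> C' is
flat then φ is bijective, that is C' -> A' is injective with image C^1. (The published statement
also asserts that the base change is again a groupoid scheme; this row omits that clause.) (A
groupoid scheme carries U, R, s, t, c, e, i over S with the groupoid axioms on T-points; c is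
defined on the fibre product of s and t and sends a pair (a, b) with s(a) = t(b) to a composed with
b.) -/
theorem result (S : Scheme.{u}) (G : Grpd.GroupoidScheme S) [IsAffine G.U] [IsAffine G.R] [IsFinite G.s] [Flat G.s] [LocallyOfFinitePresentation G.s] [IsFinite G.t] [Flat G.t] [LocallyOfFinitePresentation G.t] (C' : Type u) [CommRing C'] [Algebra G.invariants C'] : letI : Algebra G.invariants Γ(G.R, ⊤) := (G.s.appTop.hom.comp G.invariants.subtype).toAlgebra; ∀ (sT tT : TensorProduct G.invariants Γ(G.U, ⊤) C' →ₐ[G.invariants] TensorProduct G.invariants Γ(G.R, ⊤) C'), (∀ (a : Γ(G.U, ⊤)) (c : C'), sT (a ⊗ₜ c) = G.s.appTop.hom a ⊗ₜ c) → (∀ (a : Γ(G.U, ⊤)) (c : C'), tT (a ⊗ₜ c) = G.t.appTop.hom a ⊗ₜ c) → (∀ f : TensorProduct G.invariants Γ(G.U, ⊤) C', sT f = tT f → ∃ (n : ℕ) (P : Polynomial C'), 0 < n ∧ Polynomial.map (Algebra.TensorProduct.includeRight : C' →ₐ[G.invariants] TensorProduct G.invariants Γ(G.U, ⊤) C').toRingHom P = (Polynomial.X - Polynomial.C f) ^ n) ∧ (∀ c : C', (Algebra.TensorProduct.includeRight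 : C' →ₐ[G.invariants] TensorProduct G.invariants Γ(G.U, ⊤) C') c = 0 → IsNilpotent c) ∧ (Module.Flat G.invariants C' → Function.Injective (Algebra.TensorProduct.includeRight : C' →ₐ[G.invariants] TensorProduct G.invariants Γ(G.U, ⊤) C') ∧ ∀ f : TensorProduct G.invariants Γ(G.U, ⊤) C', sT f = tT f → f ∈ Set.range (Algebra.TensorProduct.includeRight : C' →ₐ[G.invariants] TensorProduct G.invariants Γ(G.U, ⊤) C')) := by
  letI := G.s.appTop.hom.toAlgebra
  letI : Algebra G.invariants Γ(G.R, ⊤) := (G.s.appTop.hom.comp G.invariants.subtype).toAlgebra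
  haveI : IsScalarTower G.invariants Γ(G.U, ⊤) Γ(G.R, ⊤) := .of_algebraMap_eq (fun _ => rfl)
  obtain ⟨n, r, hinv⟩ := Groth.Agent.Lib.Helper11.Ffg.exists_ret_hinv G
  haveI : Algebra.IsIntegral G.invariants Γ(G.U, ⊤) := Groth.Agent.S1879.main S G
  let τ : Γ(G.U, ⊤) →ₐ[G.invariants] Γ(G.R, ⊤) :=
    { G.t.appTop.hom with commutes' := fun c => (c.2).symm }
  let ε : Γ(G.R, ⊤) →ₐ[G.invariants] Γ(G.U, ⊤) :=
    { G.e.appTop.hom with commutes' := fun c => Groth.Agent.Lib.Helper11.Ffg.e_sigma G c }
  have hC₀ : ∀ x : Γ(G.U, ⊤), algebraMap Γ(G.U, ⊤) Γ(G.R, ⊤) x = τ x →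
      x ∈ Set.range (algebraMap G.invariants Γ(G.U, ⊤)) := fun x hx => ⟨⟨x, hx⟩, rfl⟩
  intro sT tT hs ht
  have hsT : ∀ x, sT x = Groth.Agent.Lib.Helper11.Ffg.sigB (A := Γ(G.U, ⊤)) (B := Γ(G.R, ⊤)) C' x := by
    intro x
    induction x using TensorProduct.induction_on with
    | zero => simp
    | tmul a c => rw [hs, Groth.Agent.Lib.Helper11.Ffg.sigB_tmul]; rfl
    | add x y hx hy => rw [map_add, map_add, hx, hy]
  have htT : ∀ x, tT x = Groth.Agent.Lib.Helper11.Ffg.tauB τ C' x := by
    intro x
    induction x using TensorProduct.induction_on with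
    | zero => simp
    | tmul a c => rw [ht, Groth.Agent.Lib.Helper11.Ffg.tauB_tmul]; rfl
    | add x y hx hy => rw [map_add, map_add, hx, hy]
  refine ⟨fun f hf => ?_, fun c hc => ?_, fun hflat => ?_⟩
  · exact Groth.Agent.Lib.Helper11.Ffg.exists_pow_poly (τ := τ) (ε := ε) (r := r) C' hinv hC₀
      (Groth.Agent.Lib.Helper11.Ffg.e_sigma G) f (by rw [← hsT, ← htT, hf])
  · exact Groth.Agent.Lib.Helper11.Ffg.isNilpotent_of_includeRight_eq_zero C'
      Subtype.val_injective c hc
  · haveI := hflat
    obtain ⟨h1, h2⟩ := Groth.Agent.Lib.Helper11.Ffg.eqLocus_baseChange_flat τ C'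
      Subtype.val_injective hC₀
    exact ⟨h1, fun f hf => h2 f (by rw [← hsT, ← htT, hf])⟩

end Groth.Agent.S7487
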