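import Groth.Statements.S7489
import Groth.Agent.Lib.Helper3ProfImgA
import Groth.Agent.Lib.Helper3ProfImgB
import Groth.Agent.Lib.Helper3ProfImgC
import Mathlib

set_option autoImplicit false
set_option linter.style.haveILetI false
universe u
open CategoryTheory MonoidalCategory CartesianMonoidalCategory MonObj GrpObj AlgebraicGeometry
open GrpSch

namespace Groth.Agent.S7489

open Groth.Agent.Lib.Helper3.ProfImgA Groth.Agent.Lib.Helper3.ProfImgB
  Groth.Agent.Lib.Helper3.ProfImgC Groth.Agent.Lib.Helper25.IdComp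

-- a profinite algebra is integral
theorem isIntegral_of_profinite (k : Type u) [Field k] (A : Type u) [CommRing A] [Algebra k A]
    (hA : ∀ s : Finset A, ∃ (B : Subalgebra k A) (n : ℕ), (↑s : Set A) ⊆ (B : Set A) ∧
      Nonempty (B ≃ₐ[k] (Fin n → k))) : Algebra.IsIntegral k A := by
  refine ⟨fun a => ?_⟩
  obtain ⟨B, n, hs, ⟨e⟩⟩ := hA {a}
  have ha : a ∈ B := hs (by simp)
  haveI : Module.Finite k B := Module.Finite.equiv e.symm.toLinearEquiv
  have h1 : IsIntegral k (⟨a, ha⟩ : B) := Algebra.IsIntegral.isIntegral _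
  exact h1.map B.val

-- every point of the spectrum of an integral algebra over an algebraically closed field is rational
theorem exists_algHom_ker (k : Type u) [Field k] [IsAlgClosed k] (A : Type u) [CommRing A]
    [Algebra k A] [Algebra.IsIntegral k A] (p : Ideal A) [p.IsPrime] :
    ∃ φ : A →ₐ[k] k, RingHom.ker φ.toRingHom = p := by
  haveI : Algebra.IsIntegral k (A ⧸ p) :=
    Algebra.IsIntegral.of_surjective (Ideal.Quotient.mkₐ k p) Ideal.Quotient.mk_surjective
  have hbij : Function.Bijective (Algebra.ofId k (A ⧸ p)) :=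
    IsAlgClosed.algebraMap_bijective_of_isIntegral (k := k)
  let e : k ≃ₐ[k] (A ⧸ p) := AlgEquiv.ofBijective (Algebra.ofId k (A ⧸ p)) hbij
  refine ⟨(e.symm : (A ⧸ p) →ₐ[k] k).comp (Ideal.Quotient.mkₐ k p), ?_⟩
  ext a
  simp only [RingHom.mem_ker, AlgHom.toRingHom_eq_coe, RingHom.coe_coe, AlgHom.coe_comp,
    Function.comp_apply, Ideal.Quotient.mkₐ_eq_mk]
  change e.symm (Ideal.Quotient.mk p a) = 0 ↔ _
  rw [EmbeddingLike.map_eq_zero_iff, Ideal.Quotient.eq_zero_iff_mem]

-- rational points of `Spec A`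
theorem exists_pt (k : Type u) [Field k] [IsAlgClosed k] (A : Type u) [CommRing A]
    [Algebra k A] [Algebra.IsIntegral k A] (t : Spec (CommRingCat.of A)) :
    ∃ σ : 𝟙_ (Over (Spec (CommRingCat.of k))) ⟶
        Over.mk (Spec.map (CommRingCat.ofHom (algebraMap k A))), pt σ = t := by
  obtain ⟨φ, hφ⟩ := exists_algHom_ker k A t.asIdeal
  have hcomp : Spec.map (CommRingCat.ofHom φ.toRingHom) ≫
      Spec.map (CommRingCat.ofHom (algebraMap k A)) = 𝟙 _ := by
    rw [← Spec.map_comp, ← CommRingCat.ofHom_comp]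
    have : φ.toRingHom.comp (algebraMap k A) = RingHom.id k := by
      ext x
      simp
    rw [this]
    exact Spec.map_id _
  refine ⟨Over.homMk (Spec.map (CommRingCat.ofHom φ.toRingHom)) hcomp, ?_⟩
  apply PrimeSpectrum.ext
  rw [← hφ]
  change Ideal.comap φ.toRingHom (IsLocalRing.maximalIdeal k) = _
  rw [IsLocalRing.maximalIdeal_eq_bot]
  rfl

/-- Let k be an algebraically closed field and G a group scheme over k such that the underlying space of
G is Jacobson and every closed point of G is k-rational (the image of a section of G -> Spec k). Let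
A be a k-algebra such that every finite subset of A is contained in a k-subalgebra isomorphic to a
finite product of copies of k (A is a directed colimit of such algebras), and f : Spec A -> G a
morphism over k. Then there is an affine open U of G containing the image of f. -/
theorem result (k : Type u) [Field k] [IsAlgClosed k] (G : Over (Spec (CommRingCat.of k))) [GrpObj G] [JacobsonSpace G.left] (hrat : ∀ g : G.left, IsClosed ({g} : Set G.left) → ∃ x : Spec (CommRingCat.of k) ⟶ G.left, x ≫ G.hom = 𝟙 _ ∧ x (IsLocalRing.closedPoint k) = g) (A : Type u) [CommRing A] [Algebra k A] (hA : ∀ s : Finset A, ∃ (B : Subalgebra k A) (n : ℕ), (↑s : Set A) ⊆ (B : Set A) ∧ Nonempty (B ≃ₐ[k] (Fin n → k))) (f : Spec (CommRingCat.of A) ⟶ G.left) (hf : f ≫ G.hom = Spec.map (CommRingCat.ofHom (algebraMap k A))) : ∃ U : G.left.Opens, IsAffineOpen U ∧ Set.range ⇑f ⊆ (U : Set G.left) := by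
  haveI := isIntegral_of_profinite k A hA
  haveI hint : IsIntegralHom (Spec.map (CommRingCat.ofHom (algebraMap k A))) := by
    rw [IsIntegralHom.SpecMap_iff]
    exact algebraMap_isIntegral_iff.mpr inferInstance
  haveI : IsSeparated G.hom := Groth.Agent.Lib.Helper8.isSeparated_of_discrete G
  haveI : IsIntegralHom (f ≫ G.hom) := by rw [hf]; exact hint
  haveI : IsIntegralHom f := IsIntegralHom.of_comp f G.hom
  have hfcl : IsClosedMap f := f.isClosedMap
  have hrat' : ∀ g : G.left, IsClosed ({g} : Set G.left) →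
      ∃ b : 𝟙_ (Over (Spec (CommRingCat.of k))) ⟶ G, pt b = g := by
    intro g hg
    obtain ⟨x, hx, hxg⟩ := hrat g hg
    exact ⟨Over.homMk x hx, hxg⟩
  -- affine neighbourhood of the unit
  obtain ⟨U, hUaff, hUe⟩ : ∃ U : G.left.Opens, IsAffineOpen U ∧ ePt G ∈ U := by
    obtain ⟨_, ⟨U, hU, rfl⟩, hx, -⟩ := G.left.isBasis_affineOpens.exists_subset_of_mem_open
      (Set.mem_univ (ePt G)) isOpen_univ
    exact ⟨U, hU, hx⟩
  -- translates
  have key : ∀ t : Spec (CommRingCat.of A), ∃ b : 𝟙_ (Over (Spec (CommRingCat.of k))) ⟶ G,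
      ∀ s : Spec (CommRingCat.of A), f s ∈ connectedComponent (f t) →
        (L b⁻¹).left (f s) ∈ U := by
    intro t
    haveI : UniversallyClosed
      (Over.mk (Spec.map (CommRingCat.ofHom (algebraMap k A)))).hom := by
      change UniversallyClosed (Spec.map (CommRingCat.ofHom (algebraMap k A)))
      infer_instance
    obtain ⟨b, hb⟩ := exists_translate G hrat'
      (Over.mk (Spec.map (CommRingCat.ofHom (algebraMap k A)))) (exists_pt k A)
      (Over.homMk f hf) (f ⁻¹' connectedComponent (f t))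
      (isClosed_connectedComponent.preimage f.continuous) t (fun s hs => hs) U hUe
    exact ⟨b, fun s hs => hb s hs⟩
  choose b hb using key
  obtain ⟨V, hVdef⟩ : ∃ V : Spec (CommRingCat.of A) → G.left.Opens,
    ∀ t, V t = (L (b t)⁻¹).left ⁻¹ᵁ U := ⟨_, fun _ => rfl⟩
  have hVaff : ∀ t, IsAffineOpen (V t) := by
    intro t
    rw [hVdef]
    haveI : IsIso (L (b t)⁻¹).left :=
      inferInstanceAs (IsIso ((Over.forget _).map (LIso (b t)⁻¹).hom))
    exact hUaff.preimage_of_isIso _
  haveI := quasiSeparatedSpace_left G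
  obtain ⟨m, τ, O, hOdisj, hOcover, hOV⟩ := exists_disjoint_cover
    (f : Spec (CommRingCat.of A) → G.left) f.continuous V (fun t => (hVaff t).isCompact)
    (fun t s hs => by rw [hVdef]; exact hb t s hs)
  -- closed sets
  have hpre : ∀ j, IsClosed (f ⁻¹' (O j : Set G.left)) := by
    intro j
    have : (f ⁻¹' (O j : Set G.left))ᶜ = ⋃ i ∈ {i : Fin m | i ≠ j}, f ⁻¹' (O i : Set G.left) := by
      ext s
      simp only [Set.mem_compl_iff, Set.mem_preimage, SetLike.mem_coe, Set.mem_iUnion,
        Set.mem_ofPred_eq, exists_prop]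
      constructor
      · intro hs
        obtain ⟨i, hi⟩ := hOcover s
        exact ⟨i, fun hij => hs (hij ▸ hi), hi⟩
      · rintro ⟨i, hij, hi⟩ hs
        have := hOdisj hij
        exact (TopologicalSpace.Opens.coe_disjoint.mpr this).le_bot ⟨hi, hs⟩
    rw [← isOpen_compl_iff, this]
    exact isOpen_biUnion fun i _ => (O i).isOpen.preimage f.continuous
  have hD : ∀ j, ∃ D : G.left.Opens, IsAffineOpen D ∧ (D : Set G.left) ⊆ O j ∧
      f '' (f ⁻¹' (O j : Set G.left)) ⊆ D := by
    intro j
    have hYO : f '' (f ⁻¹' (O j : Set G.left)) ⊆ O j := by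
      rintro _ ⟨s, hs, rfl⟩; exact hs
    have hYV : f '' (f ⁻¹' (O j : Set G.left)) ⊆ V (τ j) := by
      rintro _ ⟨s, hs, rfl⟩; exact hOV j s hs
    obtain ⟨D, hDaff, -, hDO, hYD⟩ := exists_isAffineOpen_between (hVaff (τ j))
      (hfcl _ (hpre j)) (O j).isOpen (Set.inter_subset_left.trans hYO)
    exact ⟨D, hDaff, hDO, fun y hy => hYD ⟨hy, hYV hy⟩⟩
  choose D hDaff hDO hYD using hD
  refine ⟨⨆ j, D j, IsAffineOpen.iSup_of_disjoint hDaff ?_, ?_⟩
  · intro i j hij
    have := hOdisj hij
    change Disjoint (D i) (D j)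
    rw [← TopologicalSpace.Opens.coe_disjoint]
    exact (TopologicalSpace.Opens.coe_disjoint.mpr this).mono (hDO i) (hDO j)
  · rintro _ ⟨s, rfl⟩
    obtain ⟨j, hj⟩ := hOcover s
    simp only [TopologicalSpace.Opens.coe_iSup, Set.mem_iUnion]
    exact ⟨j, hYD j ⟨s, hj, rfl⟩⟩

end Groth.Agent.S7489
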