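import Groth.Statements.S7491
import Mathlib
import Groth.Agent.Lib.Helper11RedGrpd
import Groth.Agent.Lib.Helper11MonoSubGrpd
import Groth.Agent.S1891

set_option autoImplicit false
universe u
open CategoryTheory CategoryTheory.Limits AlgebraicGeometry
open Grpd

namespace Groth.Agent.S7491

open Groth.Agent.Lib.Helper11 TopologicalSpace

set_option linter.unusedSectionVars false

/-- the reduced subscheme of a scheme. -/
noncomputable abbrev redSub (X : Scheme.{u}) : Scheme.{u} :=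
  (Scheme.IdealSheafData.vanishingIdeal (⊤ : Closeds X)).subscheme

/-- the inclusion of the reduced subscheme. -/
noncomputable abbrev redι (X : Scheme.{u}) : redSub X ⟶ X :=
  (Scheme.IdealSheafData.vanishingIdeal (⊤ : Closeds X)).subschemeι

theorem redι_surj (X : Scheme.{u}) : Function.Surjective (redι X) := by
  rw [← Set.range_eq_univ]
  exact (Groth.Agent.Lib.Helper11RedCl.range_subschemeι_vanishingIdeal (⊤ : Closeds X)).trans rfl

/-- the reduced closed subscheme on the closure of a set. -/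
noncomputable abbrev clSub {X : Scheme.{u}} (W : Set X) : Scheme.{u} :=
  (Scheme.IdealSheafData.vanishingIdeal ⟨closure W, isClosed_closure⟩).subscheme

/-- the inclusion of the reduced closed subscheme on the closure of a set. -/
noncomputable abbrev clι {X : Scheme.{u}} (W : Set X) : clSub W ⟶ X :=
  (Scheme.IdealSheafData.vanishingIdeal ⟨closure W, isClosed_closure⟩).subschemeι

theorem range_clι {X : Scheme.{u}} (W : Set X) : Set.range (clι W) = closure W :=
  Groth.Agent.Lib.Helper11RedCl.range_subschemeι_vanishingIdeal ⟨closure W, isClosed_closure⟩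

/-- a lift of a map with range dense in `closure W` to the closure subscheme is dominant. -/
theorem isDominant_of_lift {A X : Scheme.{u}} (W : Set X) (g : A ⟶ X) (π : A ⟶ clSub W)
    (h : π ≫ clι W = g) (hW : closure W ⊆ closure (Set.range g)) : IsDominant π := by
  constructor
  have hemb : Topology.IsClosedEmbedding (clι W) := (clι W).isClosedEmbedding
  have hrg : Set.range g = clι W '' Set.range π := by
    rw [← Set.range_comp, ← h]
    rfl
  rw [DenseRange, dense_iff_closure_eq]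
  apply Set.eq_univ_of_forall
  intro z
  have hz : clι W z ∈ clι W '' (closure (Set.range π)) := by
    rw [← hemb.closure_image_eq, ← hrg]
    apply hW
    rw [← range_clι]
    exact ⟨z, rfl⟩
  obtain ⟨z', hz', e⟩ := hz
  rw [← hemb.injective e]
  exact hz'

/-- the subgroupoid data on the reduced closure of the image of `f.fR`. -/
theorem exists_data {S : Scheme.{u}} (G₁ G₂ : Grpd.GroupoidScheme S)
    (f : Grpd.GroupoidScheme.Hom G₁ G₂) [IsIso f.fU] [Subsingleton G₂.U]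
    [AlgebraicGeometry.IsIntegral G₂.U]
    (hred : IsReduced (pullback (clι (Set.range f.fR) ≫ G₂.s) (clι (Set.range f.fR) ≫ G₂.t))) :
    Nonempty (Groth.Agent.Lib.Helper11.SubGrpd.Data G₂ (clι (Set.range f.fR))) := by
  obtain ⟨π, hπι⟩ : ∃ π : redSub G₁.R ⟶ clSub (Set.range f.fR),
      π ≫ clι (Set.range f.fR) = redι G₁.R ≫ f.fR :=
    RedGrpd.exists_lift_of_dense (redι G₁.R ≫ f.fR) (Set.range f.fR) Set.univ
      dense_univ (fun d _ => subset_closure ⟨redι G₁.R d, rfl⟩)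
  haveI : IsDominant π := isDominant_of_lift (Set.range f.fR) (redι G₁.R ≫ f.fR) π hπι (by
    apply closure_mono
    rintro _ ⟨x, rfl⟩
    obtain ⟨y, rfl⟩ := redι_surj G₁.R x
    exact ⟨y, rfl⟩)
  -- identity
  have he : G₂.e = (inv f.fU ≫ G₁.e) ≫ f.fR := by
    rw [Category.assoc, Groth.Agent.S1891.hom_e, IsIso.inv_hom_id_assoc]
  obtain ⟨eP, heP⟩ : ∃ eP : G₂.U ⟶ clSub (Set.range f.fR), eP ≫ clι (Set.range f.fR) = G₂.e :=
    RedGrpd.exists_lift_of_dense G₂.e (Set.range f.fR) Set.univ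
      dense_univ (fun d _ => subset_closure ⟨(inv f.fU ≫ G₁.e) d, by rw [he]; rfl⟩)
  -- inverse
  obtain ⟨iP, hiP⟩ : ∃ iP : clSub (Set.range f.fR) ⟶ clSub (Set.range f.fR),
      iP ≫ clι (Set.range f.fR) = clι (Set.range f.fR) ≫ G₂.i :=
    RedGrpd.exists_lift_of_dense (clι (Set.range f.fR) ≫ G₂.i) (Set.range f.fR)
    (Set.range π) π.denseRange (by
      rintro _ ⟨x, rfl⟩
      apply subset_closure
      refine ⟨(redι G₁.R ≫ G₁.i) x, ?_⟩
      have e : (redι G₁.R ≫ G₁.i) ≫ f.fR = π ≫ clι (Set.range f.fR) ≫ G₂.i := by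
        rw [Category.assoc, Groth.Agent.S1891.hom_i, ← Category.assoc, ← hπι, Category.assoc]
      exact congrArg (fun m : redSub G₁.R ⟶ G₂.R => m x) e)
  -- composition
  haveI : UniversallyOpen (clι (Set.range f.fR) ≫ G₂.s) := inferInstance
  haveI : UniversallyOpen (π ≫ clι (Set.range f.fR) ≫ G₂.t) := inferInstance
  have hdom := RedGrpd.dominant_pullback_map π π (clι (Set.range f.fR) ≫ G₂.s)
    (clι (Set.range f.fR) ≫ G₂.t)
  generalize hιdef : clι (Set.range f.fR) = ι at *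
  have e1 : π ≫ ι ≫ G₂.s = (redι G₁.R ≫ G₁.s) ≫ f.fU := by
    rw [← Category.assoc, hπι, Category.assoc, f.comm_s, Category.assoc]
  have e2 : π ≫ ι ≫ G₂.t = (redι G₁.R ≫ G₁.t) ≫ f.fU := by
    rw [← Category.assoc, hπι, Category.assoc, f.comm_t, Category.assoc]
  have hw : (pullback.fst (π ≫ ι ≫ G₂.s) (π ≫ ι ≫ G₂.t) ≫ redι G₁.R) ≫ G₁.s =
      (pullback.snd (π ≫ ι ≫ G₂.s) (π ≫ ι ≫ G₂.t) ≫ redι G₁.R) ≫ G₁.t := by
    rw [← cancel_mono f.fU]
    have l1 : ((pullback.fst (π ≫ ι ≫ G₂.s) (π ≫ ι ≫ G₂.t) ≫ redι G₁.R) ≫ G₁.s) ≫ f.fU =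
        pullback.fst (π ≫ ι ≫ G₂.s) (π ≫ ι ≫ G₂.t) ≫ ((redι G₁.R ≫ G₁.s) ≫ f.fU) := by
      simp only [Category.assoc]
    have l2 : ((pullback.snd (π ≫ ι ≫ G₂.s) (π ≫ ι ≫ G₂.t) ≫ redι G₁.R) ≫ G₁.t) ≫ f.fU =
        pullback.snd (π ≫ ι ≫ G₂.s) (π ≫ ι ≫ G₂.t) ≫ ((redι G₁.R ≫ G₁.t) ≫ f.fU) := by
      simp only [Category.assoc]
    refine l1.trans ?_
    refine Eq.trans ?_ l2.symm
    refine (congrArg (pullback.fst (π ≫ ι ≫ G₂.s) (π ≫ ι ≫ G₂.t) ≫ ·) e1.symm).trans ?_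
    refine (pullback.condition (f := π ≫ ι ≫ G₂.s) (g := π ≫ ι ≫ G₂.t)).trans ?_
    exact congrArg (pullback.snd (π ≫ ι ≫ G₂.s) (π ≫ ι ≫ G₂.t) ≫ ·) e2
  have hw' : ((pullback.fst (π ≫ ι ≫ G₂.s) (π ≫ ι ≫ G₂.t) ≫ redι G₁.R) ≫ f.fR) ≫ G₂.s =
      ((pullback.snd (π ≫ ι ≫ G₂.s) (π ≫ ι ≫ G₂.t) ≫ redι G₁.R) ≫ f.fR) ≫ G₂.t := by
    have a1 : ((pullback.fst (π ≫ ι ≫ G₂.s) (π ≫ ι ≫ G₂.t) ≫ redι G₁.R) ≫ f.fR) ≫ G₂.s =
        ((pullback.fst (π ≫ ι ≫ G₂.s) (π ≫ ι ≫ G₂.t) ≫ redι G₁.R) ≫ G₁.s) ≫ f.fU := by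
      simp only [Category.assoc, f.comm_s]
    have a2 : ((pullback.snd (π ≫ ι ≫ G₂.s) (π ≫ ι ≫ G₂.t) ≫ redι G₁.R) ≫ f.fR) ≫ G₂.t =
        ((pullback.snd (π ≫ ι ≫ G₂.s) (π ≫ ι ≫ G₂.t) ≫ redι G₁.R) ≫ G₁.t) ≫ f.fU := by
      simp only [Category.assoc, f.comm_t]
    rw [a1, a2, hw]
  have key : pullback.map (π ≫ ι ≫ G₂.s) (π ≫ ι ≫ G₂.t) (ι ≫ G₂.s) (ι ≫ G₂.t) π π (𝟙 G₂.U)
        (Category.comp_id _) (Category.comp_id _) ≫
      pullback.map (ι ≫ G₂.s) (ι ≫ G₂.t) G₂.s G₂.t ι ι (𝟙 G₂.U)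
        (Category.comp_id _) (Category.comp_id _) =
      pullback.lift ((pullback.fst (π ≫ ι ≫ G₂.s) (π ≫ ι ≫ G₂.t) ≫ redι G₁.R) ≫ f.fR)
        ((pullback.snd (π ≫ ι ≫ G₂.s) (π ≫ ι ≫ G₂.t) ≫ redι G₁.R) ≫ f.fR) hw' := by
    apply pullback.hom_ext
    · rw [Category.assoc, pullback.lift_fst, pullback.lift_fst_assoc, pullback.lift_fst,
        Category.assoc, hπι, Category.assoc]
    · rw [Category.assoc, pullback.lift_snd, pullback.lift_snd_assoc, pullback.lift_snd,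
        Category.assoc, hπι, Category.assoc]
  have hcond : pullback.map (π ≫ ι ≫ G₂.s) (π ≫ ι ≫ G₂.t) (ι ≫ G₂.s) (ι ≫ G₂.t) π π (𝟙 G₂.U)
        (Category.comp_id _) (Category.comp_id _) ≫
      (pullback.map (ι ≫ G₂.s) (ι ≫ G₂.t) G₂.s G₂.t ι ι (𝟙 G₂.U)
        (Category.comp_id _) (Category.comp_id _) ≫ G₂.c) =
      (pullback.lift _ _ hw ≫ G₁.c) ≫ f.fR := by
    calc _ = pullback.lift ((pullback.fst (π ≫ ι ≫ G₂.s) (π ≫ ι ≫ G₂.t) ≫ redι G₁.R) ≫ f.fR)
          ((pullback.snd (π ≫ ι ≫ G₂.s) (π ≫ ι ≫ G₂.t) ≫ redι G₁.R) ≫ f.fR) hw' ≫ G₂.c := by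
          exact (Category.assoc _ _ _).symm.trans (congrArg (· ≫ G₂.c) key)
      _ = (pullback.lift _ _ hw ≫ G₁.c) ≫ f.fR := (f.comm_c _ _ hw).symm
  subst hιdef
  obtain ⟨cP, hcP⟩ := RedGrpd.exists_lift_of_dense
    (pullback.map (clι (Set.range f.fR) ≫ G₂.s) (clι (Set.range f.fR) ≫ G₂.t) G₂.s G₂.t
      (clι (Set.range f.fR)) (clι (Set.range f.fR)) (𝟙 G₂.U)
      (Category.comp_id _) (Category.comp_id _) ≫ G₂.c) (Set.range f.fR)
    (Set.range (pullback.map (π ≫ clι (Set.range f.fR) ≫ G₂.s) (π ≫ clι (Set.range f.fR) ≫ G₂.t)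
      (clι (Set.range f.fR) ≫ G₂.s) (clι (Set.range f.fR) ≫ G₂.t) π π (𝟙 G₂.U)
      (Category.comp_id _) (Category.comp_id _))) hdom.denseRange (by
      rintro _ ⟨x, rfl⟩
      apply subset_closure
      refine ⟨(pullback.lift _ _ hw ≫ G₁.c) x, ?_⟩
      exact (congrArg (fun m : pullback (π ≫ clι (Set.range f.fR) ≫ G₂.s)
        (π ≫ clι (Set.range f.fR) ≫ G₂.t) ⟶ G₂.R => m x) hcond).symm)
  exact ⟨{ eP := eP
           heP := heP
           iP := iP
           hiP := hiP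
           cP := cP
           hcP := hcP }⟩


/-- Let (U, R_1, s_1, t_1, c_1) -> (U, R_2, s_2, t_2, c_2) be a morphism of groupoid schemes over S that
is an isomorphism on object schemes, where U is the spectrum of a perfect field, and let Z be the
reduced closed subscheme of R_2 supported on the closure of a(R_1), for the arrow map a : R_1 ->
R_2. Restricting s_2, t_2 and c_2 to Z makes U and Z into a groupoid scheme over S; stated as: there
are a groupoid scheme G' over S with G'.R reduced and a morphism of groupoid schemes G' -> (U, R_2,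
...) which is an isomorphism on object schemes and a closed immersion on arrow schemes with image
the closure of the image of a. (A groupoid scheme carries U, R, s, t, c, e, i over S with the
groupoid axioms on T-points; c is defined on the fibre product of s and t and sends a pair (a, b)
with s(a) = t(b) to a composed with b.) -/
theorem result (S : Scheme.{u}) (G₁ G₂ : Grpd.GroupoidScheme S) (f : Grpd.GroupoidScheme.Hom G₁ G₂) [IsIso f.fU] (k : Type u) [Field k] [PerfectField k] (eU : G₂.U ≅ Spec (CommRingCat.of k)) : ∃ (G' : Grpd.GroupoidScheme S) (ψ : Grpd.GroupoidScheme.Hom G' G₂), IsIso ψ.fU ∧ IsClosedImmersion ψ.fR ∧ IsReduced G'.R ∧ Set.range ⇑ψ.fR = closure (Set.range ⇑f.fR) := by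
  classical
  have hUn : Nonempty G₂.U := ⟨eU.inv (IsLocalRing.closedPoint k)⟩
  haveI hUi : AlgebraicGeometry.IsIntegral G₂.U := isIntegral_of_isOpenImmersion eU.hom
  haveI hUs : Subsingleton G₂.U := eU.hom.homeomorph.subsingleton
  have hred := RedGrpd.isReduced_pullback_perfect (clι (Set.range f.fR) ≫ G₂.s)
    (clι (Set.range f.fR) ≫ G₂.t) k eU
  obtain ⟨D⟩ := exists_data G₁ G₂ f hred
  refine ⟨MonoSub.grpd D, MonoSub.incl D, ?_, ?_, ?_, ?_⟩
  · change IsIso (𝟙 G₂.U)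
    infer_instance
  · change IsClosedImmersion (clι (Set.range f.fR))
    infer_instance
  · change IsReduced (clSub (Set.range f.fR))
    infer_instance
  · change Set.range (clι (Set.range f.fR)) = _
    exact range_clι _

end Groth.Agent.S7491
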