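import Groth.Statements.S7492
import Mathlib
import Groth.Agent.Lib.Helper11ProdDom
import Groth.Agent.Lib.Helper11MonoSubGrpd
import Groth.Agent.S1891

set_option autoImplicit false
universe u
open CategoryTheory CategoryTheory.Limits AlgebraicGeometry
open Grpd

namespace Groth.Agent.S7492

/-- the subgroupoid data on a closed subscheme through which `f.fR` factors dominantly. -/
theorem exists_data {S : Scheme.{u}} (G₁ G₂ : Grpd.GroupoidScheme S)
    (f : Grpd.GroupoidScheme.Hom G₁ G₂) [IsIso f.fU] [Subsingleton G₂.U]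
    [AlgebraicGeometry.IsIntegral G₂.U] {Z : Scheme.{u}} (ι : Z ⟶ G₂.R) [IsClosedImmersion ι]
    (π : G₁.R ⟶ Z) [QuasiCompact π] [IsSchemeTheoreticallyDominant π] (hπι : π ≫ ι = f.fR) :
    Nonempty (Groth.Agent.Lib.Helper11.SubGrpd.Data G₂ ι) := by
  -- identity
  have heP : (inv f.fU ≫ G₁.e ≫ π) ≫ ι = G₂.e := by
    rw [Category.assoc, Category.assoc, hπι, Groth.Agent.S1891.hom_e, IsIso.inv_hom_id_assoc]
  -- inverse
  obtain ⟨iP, hiP⟩ := Groth.Agent.Lib.Helper11SchImage.exists_lift_of_dominant π (ι ≫ G₂.i)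
    (G₁.i ≫ π) ι (by
      rw [← Category.assoc, hπι, Category.assoc, hπι, Groth.Agent.S1891.hom_i])
  -- composition
  haveI : Flat (ι ≫ G₂.s) := inferInstance
  haveI : Flat (π ≫ ι ≫ G₂.t) := inferInstance
  have hdom := Groth.Agent.Lib.Helper11.ProdDom.dominant_pullback_map π π (ι ≫ G₂.s) (ι ≫ G₂.t)
  have e1 : π ≫ ι ≫ G₂.s = G₁.s ≫ f.fU := by rw [← Category.assoc, hπι, f.comm_s]
  have e2 : π ≫ ι ≫ G₂.t = G₁.t ≫ f.fU := by rw [← Category.assoc, hπι, f.comm_t]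
  have hw : pullback.fst (π ≫ ι ≫ G₂.s) (π ≫ ι ≫ G₂.t) ≫ G₁.s =
      pullback.snd (π ≫ ι ≫ G₂.s) (π ≫ ι ≫ G₂.t) ≫ G₁.t := by
    rw [← cancel_mono f.fU]
    refine (Category.assoc _ _ _).trans ?_
    refine (congrArg (pullback.fst (π ≫ ι ≫ G₂.s) (π ≫ ι ≫ G₂.t) ≫ ·) e1.symm).trans ?_
    refine (pullback.condition (f := π ≫ ι ≫ G₂.s) (g := π ≫ ι ≫ G₂.t)).trans ?_
    refine (congrArg (pullback.snd (π ≫ ι ≫ G₂.s) (π ≫ ι ≫ G₂.t) ≫ ·) e2).trans ?_
    exact (Category.assoc _ _ _).symm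
  have hw' : (pullback.fst (π ≫ ι ≫ G₂.s) (π ≫ ι ≫ G₂.t) ≫ f.fR) ≫ G₂.s =
      (pullback.snd (π ≫ ι ≫ G₂.s) (π ≫ ι ≫ G₂.t) ≫ f.fR) ≫ G₂.t := by
    have a1 : (pullback.fst (π ≫ ι ≫ G₂.s) (π ≫ ι ≫ G₂.t) ≫ f.fR) ≫ G₂.s =
        (pullback.fst (π ≫ ι ≫ G₂.s) (π ≫ ι ≫ G₂.t) ≫ G₁.s) ≫ f.fU := by
      simp only [Category.assoc, f.comm_s]
    have a2 : (pullback.snd (π ≫ ι ≫ G₂.s) (π ≫ ι ≫ G₂.t) ≫ f.fR) ≫ G₂.t =
        (pullback.snd (π ≫ ι ≫ G₂.s) (π ≫ ι ≫ G₂.t) ≫ G₁.t) ≫ f.fU := by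
      simp only [Category.assoc, f.comm_t]
    rw [a1, a2, hw]
  have key : pullback.map (π ≫ ι ≫ G₂.s) (π ≫ ι ≫ G₂.t) (ι ≫ G₂.s) (ι ≫ G₂.t) π π (𝟙 G₂.U)
        (Category.comp_id _) (Category.comp_id _) ≫
      pullback.map (ι ≫ G₂.s) (ι ≫ G₂.t) G₂.s G₂.t ι ι (𝟙 G₂.U)
        (Category.comp_id _) (Category.comp_id _) =
      pullback.lift (pullback.fst (π ≫ ι ≫ G₂.s) (π ≫ ι ≫ G₂.t) ≫ f.fR)
        (pullback.snd (π ≫ ι ≫ G₂.s) (π ≫ ι ≫ G₂.t) ≫ f.fR) hw' := by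
    apply pullback.hom_ext
    · rw [Category.assoc, pullback.lift_fst, pullback.lift_fst_assoc, pullback.lift_fst,
        Category.assoc, hπι]
    · rw [Category.assoc, pullback.lift_snd, pullback.lift_snd_assoc, pullback.lift_snd,
        Category.assoc, hπι]
  have hcond : pullback.map (π ≫ ι ≫ G₂.s) (π ≫ ι ≫ G₂.t) (ι ≫ G₂.s) (ι ≫ G₂.t) π π (𝟙 G₂.U)
        (Category.comp_id _) (Category.comp_id _) ≫
      (pullback.map (ι ≫ G₂.s) (ι ≫ G₂.t) G₂.s G₂.t ι ι (𝟙 G₂.U)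
        (Category.comp_id _) (Category.comp_id _) ≫ G₂.c) =
      (pullback.lift _ _ hw ≫ G₁.c ≫ π) ≫ ι := by
    calc _ = pullback.lift (pullback.fst (π ≫ ι ≫ G₂.s) (π ≫ ι ≫ G₂.t) ≫ f.fR)
          (pullback.snd (π ≫ ι ≫ G₂.s) (π ≫ ι ≫ G₂.t) ≫ f.fR) hw' ≫ G₂.c := by
          exact (Category.assoc _ _ _).symm.trans (congrArg (· ≫ G₂.c) key)
      _ = (pullback.lift _ _ hw ≫ G₁.c) ≫ f.fR := (f.comm_c _ _ hw).symm
      _ = _ := by
          rw [← hπι]
          simp only [Category.assoc]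
  obtain ⟨cP, hcP⟩ := Groth.Agent.Lib.Helper11SchImage.exists_lift_of_dominant
    (pullback.map (π ≫ ι ≫ G₂.s) (π ≫ ι ≫ G₂.t) (ι ≫ G₂.s) (ι ≫ G₂.t) π π (𝟙 G₂.U)
      (Category.comp_id _) (Category.comp_id _))
    (pullback.map (ι ≫ G₂.s) (ι ≫ G₂.t) G₂.s G₂.t ι ι (𝟙 G₂.U)
      (Category.comp_id _) (Category.comp_id _) ≫ G₂.c)
    (pullback.lift _ _ hw ≫ G₁.c ≫ π) ι hcond
  exact ⟨{ eP := inv f.fU ≫ G₁.e ≫ π
           heP := heP
           iP := iP
           hiP := hiP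
           cP := cP
           hcP := hcP }⟩


/-- Let (U, R_1, s_1, t_1, c_1) -> (U, R_2, s_2, t_2, c_2) be a morphism of groupoid schemes over S that
is an isomorphism on object schemes, where U is the spectrum of a field, and assume a : R_1 -> R_2
is quasi-compact. Let Z be the scheme-theoretic image of a (the closed subscheme of R_2 cut out by
the kernel ideal sheaf of a). Then (U, Z, s_2|_Z, t_2|_Z, c_2|_Z) is a groupoid scheme over S;
stated as: there are a groupoid scheme G' over S and a morphism of groupoid schemes G' -> (U, R_2,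
...) which is an isomorphism on object schemes and whose arrow component is a closed immersion with
kernel ideal sheaf equal to that of a. (A groupoid scheme carries U, R, s, t, c, e, i over S with
the groupoid axioms on T-points; c is defined on the fibre product of s and t and sends a pair (a,
b) with s(a) = t(b) to a composed with b.) -/
theorem result (S : Scheme.{u}) (G₁ G₂ : Grpd.GroupoidScheme S) (f : Grpd.GroupoidScheme.Hom G₁ G₂) [IsIso f.fU] [QuasiCompact f.fR] (k : Type u) [Field k] (eU : G₂.U ≅ Spec (CommRingCat.of k)) : ∃ (G' : Grpd.GroupoidScheme S) (ψ : Grpd.GroupoidScheme.Hom G' G₂), IsIso ψ.fU ∧ IsClosedImmersion ψ.fR ∧ ψ.fR.ker = f.fR.ker := by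
  classical
  have hUn : Nonempty G₂.U := ⟨eU.inv (IsLocalRing.closedPoint k)⟩
  haveI hUi : AlgebraicGeometry.IsIntegral G₂.U := isIntegral_of_isOpenImmersion eU.hom
  haveI hUs : Subsingleton G₂.U := eU.hom.homeomorph.subsingleton
  obtain ⟨D⟩ := exists_data G₁ G₂ f f.fR.imageι f.fR.toImage f.fR.toImage_imageι
  refine ⟨Groth.Agent.Lib.Helper11.MonoSub.grpd D, Groth.Agent.Lib.Helper11.MonoSub.incl D,
    ?_, ?_, ?_⟩
  · change IsIso (𝟙 G₂.U)
    infer_instance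
  · change IsClosedImmersion f.fR.imageι
    infer_instance
  · change f.fR.imageι.ker = f.fR.ker
    exact Scheme.IdealSheafData.ker_subschemeι _

end Groth.Agent.S7492
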