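import Groth.Statements.S7493
import Mathlib
import Groth.Agent.Lib.Helper11AlgClAut

set_option autoImplicit false
universe u
open CategoryTheory CategoryTheory.Limits AlgebraicGeometry
open Grpd

namespace Groth.Agent.S7493

open Groth.Agent.Lib.Helper11

theorem isIso_residueFieldMap {X Y T : Scheme.{u}} (p : X ⟶ Y) (x : T ⟶ X) [IsIso (x ≫ p)]
    (pt : T) : IsIso (p.residueFieldMap (x pt)) := by
  have h : (x ≫ p).residueFieldMap pt = p.residueFieldMap (x pt) ≫ x.residueFieldMap pt :=
    Scheme.residueFieldMap_comp x p pt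
  have hiso : IsIso ((x ≫ p).residueFieldMap pt) := inferInstance
  have hb : Function.Bijective (x.residueFieldMap pt).hom := by
    constructor
    · exact (x.residueFieldMap pt).hom.injective
    · intro z
      obtain ⟨w, hw⟩ := (ConcreteCategory.bijective_of_isIso ((x ≫ p).residueFieldMap pt)).2 z
      refine ⟨p.residueFieldMap (x pt) w, ?_⟩
      rw [← hw, h]
      rfl
  have : IsIso (x.residueFieldMap pt) := (ConcreteCategory.isIso_iff_bijective _).mpr hb
  rw [h] at hiso
  exact @IsIso.of_isIso_comp_right _ _ _ _ _ (p.residueFieldMap (x pt)) (x.residueFieldMap pt) this hiso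


/-- Let (U, R, s, t, c) be a groupoid scheme over S with U = Spec k for a field k, and let r be a point
of R. Then there exist a field extension k -> k' with k' algebraically closed and a point r' of the
restriction R' of R along g : U' = Spec k' -> U, that is R' = (U' x_(g,U,t) R) x_(s pr, U, g) U'
with t' the projection to the first factor U' and s' the projection to the last factor U', such that
r' maps to r under R' -> R and both s' and t' induce isomorphisms on residue fields at r' (k' ->
κ(r') bijective). (A groupoid scheme carries U, R, s, t, c, e, i over S with the groupoid axioms on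
T-points; c is defined on the fibre product of s and t and sends a pair (a, b) with s(a) = t(b) to a
composed with b.) -/
theorem result (S : Scheme.{u}) (G : Grpd.GroupoidScheme S) (k : Type u) [Field k] (eU : G.U ≅ Spec (CommRingCat.of k)) (r : G.R) : ∃ (k' : Type u) (_ : Field k') (_ : IsAlgClosed k') (_ : Algebra k k'), ∃ r' : ↑(pullback (pullback.snd (Spec.map (CommRingCat.ofHom (algebraMap k k')) ≫ eU.inv) G.t ≫ G.s) (Spec.map (CommRingCat.ofHom (algebraMap k k')) ≫ eU.inv)), (pullback.fst (pullback.snd (Spec.map (CommRingCat.ofHom (algebraMap k k')) ≫ eU.inv) G.t ≫ G.s) (Spec.map (CommRingCat.ofHom (algebraMap k k')) ≫ eU.inv) ≫ pullback.snd (Spec.map (CommRingCat.ofHom (algebraMap k k')) ≫ eU.inv) G.t) r' = r ∧ IsIso ((pullback.snd (pullback.snd (Spec.map (CommRingCat.ofHom (algebraMap k k')) ≫ eU.inv) G.t ≫ G.s) (Spec.map (CommRingCat.ofHom (algebraMap k k')) ≫ eU.inv)).residueFieldMap r') ∧ IsIso ((pullback.fst (pullback.snd (Spec.map (CommRingCat.ofHom (algebraMap k k')) ≫ eU.inv) G.t ≫ G.s)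 (Spec.map (CommRingCat.ofHom (algebraMap k k')) ≫ eU.inv) ≫ pullback.fst (Spec.map (CommRingCat.ofHom (algebraMap k k')) ≫ eU.inv) G.t).residueFieldMap r') := by
  classical
  obtain ⟨k', hF, hA, j, hT⟩ := AlgClAut.exists_big (G.R.residueField r)
  let φ₁ : k →+* G.R.residueField r :=
    (Spec.preimage (G.R.fromSpecResidueField r ≫ G.t ≫ eU.hom)).hom
  let φ₂ : k →+* G.R.residueField r :=
    (Spec.preimage (G.R.fromSpecResidueField r ≫ G.s ≫ eU.hom)).hom
  have hφ₁ : Spec.map (CommRingCat.ofHom φ₁) = G.R.fromSpecResidueField r ≫ G.t ≫ eU.hom :=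
    Spec.map_preimage _
  have hφ₂ : Spec.map (CommRingCat.ofHom φ₂) = G.R.fromSpecResidueField r ≫ G.s ≫ eU.hom :=
    Spec.map_preimage _
  obtain ⟨β, hβ⟩ := AlgClAut.exists_aut j φ₁ φ₂ hT
  letI alg : Algebra k k' := (j.comp φ₁).toAlgebra
  refine ⟨k', hF, hA, alg, ?_⟩
  let ρ : Spec (CommRingCat.of k') ⟶ G.R :=
    Spec.map (CommRingCat.ofHom j) ≫ G.R.fromSpecResidueField r
  have hg : Spec.map (CommRingCat.ofHom (algebraMap k k')) ≫ eU.inv = ρ ≫ G.t := by
    have e1 : CommRingCat.ofHom (algebraMap k k') = CommRingCat.ofHom φ₁ ≫ CommRingCat.ofHom j :=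
      rfl
    rw [e1, Spec.map_comp, hφ₁]
    simp only [ρ, Category.assoc, Iso.hom_inv_id, Category.comp_id]
  have h1 : 𝟙 (Spec (CommRingCat.of k')) ≫ (Spec.map (CommRingCat.ofHom (algebraMap k k')) ≫ eU.inv)
      = ρ ≫ G.t := by
    rw [Category.id_comp, hg]
  let b : Spec (CommRingCat.of k') ⟶ Spec (CommRingCat.of k') := Spec.map β.toCommRingCatIso.hom
  have h2 : pullback.lift (𝟙 (Spec (CommRingCat.of k'))) ρ h1 ≫
      (pullback.snd (Spec.map (CommRingCat.ofHom (algebraMap k k')) ≫ eU.inv) G.t ≫ G.s) =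
      b ≫ (Spec.map (CommRingCat.ofHom (algebraMap k k')) ≫ eU.inv) := by
    rw [pullback.lift_snd_assoc]
    have e2 : b ≫ Spec.map (CommRingCat.ofHom (algebraMap k k')) =
        Spec.map (CommRingCat.ofHom φ₂ ≫ CommRingCat.ofHom j) := by
      rw [← Spec.map_comp]
      congr 1
      ext x
      exact hβ x
    rw [← Category.assoc, e2, Spec.map_comp, hφ₂]
    simp only [ρ, Category.assoc, Iso.hom_inv_id, Category.comp_id]
  let x := pullback.lift (pullback.lift (𝟙 (Spec (CommRingCat.of k'))) ρ h1) b h2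
  let pt : Spec (CommRingCat.of k') := IsLocalRing.closedPoint k'
  refine ⟨x pt, ?_, ?_, ?_⟩
  · have e : x ≫ (pullback.fst _ _ ≫ pullback.snd _ _) = ρ := by
      rw [pullback.lift_fst_assoc, pullback.lift_snd]
    rw [← Scheme.Hom.comp_apply, e]
    have e3 : ρ pt = (G.R.fromSpecResidueField r) ((Spec.map (CommRingCat.ofHom j)) pt) :=
      Scheme.Hom.comp_apply _ _ _
    rw [e3, Scheme.fromSpecResidueField_apply]
  · haveI : IsIso (x ≫ pullback.snd (pullback.snd (Spec.map (CommRingCat.ofHom (algebraMap k k')) ≫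
        eU.inv) G.t ≫ G.s) (Spec.map (CommRingCat.ofHom (algebraMap k k')) ≫ eU.inv)) := by
      rw [pullback.lift_snd]
      infer_instance
    exact isIso_residueFieldMap _ x pt
  · haveI : IsIso (x ≫ (pullback.fst (pullback.snd (Spec.map (CommRingCat.ofHom (algebraMap k k')) ≫
        eU.inv) G.t ≫ G.s) (Spec.map (CommRingCat.ofHom (algebraMap k k')) ≫ eU.inv) ≫
        pullback.fst (Spec.map (CommRingCat.ofHom (algebraMap k k')) ≫ eU.inv) G.t)) := by
      rw [pullback.lift_fst_assoc, pullback.lift_fst]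
      infer_instance
    exact isIso_residueFieldMap _ x pt

end Groth.Agent.S7493
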