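import Groth.Statements.S7494
import Mathlib
import Groth.Agent.Lib.Helper12Act

set_option autoImplicit false
universe u
open CategoryTheory MonoidalCategory CartesianMonoidalCategory MonObj GrpObj AlgebraicGeometry
open AlgGrp

namespace Groth.Agent.S7494


open Groth.Agent.Lib.Helper12



/-- Let G be a group scheme over S acting on a scheme X over S by a. The action is free, meaning that
for every scheme T over S and all T-points g of G and x of X with g · x = x one has g = 1, if and
only if the morphism G x_S X -> X x_S X, (g, x) ↦ (a(g, x), x), is a monomorphism of schemes. -/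
theorem result {S : Scheme.{u}} (G X : Over S) [GrpObj G] (a : AlgGrp.Action G X) : (∀ (T : Over S) (g : T ⟶ G) (x : T ⟶ X), lift g x ≫ a.act = x → g = toUnit T ≫ η[G]) ↔ Mono (lift a.act (snd G X)).left := by
  have hpt : ∀ {W : Over S} (g : W ⟶ G) (x : W ⟶ X),
      lift g x ≫ lift a.act (snd G X) = lift (lift g x ≫ a.act) x := by
    intro W g x
    apply CartesianMonoidalCategory.hom_ext <;> simp
  constructor
  · intro hfree
    have hmono : Mono (lift a.act (snd G X)) := by
      constructor
      intro W q₁ q₂ h12
      have e1 : q₁ = lift (q₁ ≫ fst G X) (q₁ ≫ snd G X) := by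
        apply CartesianMonoidalCategory.hom_ext <;> simp
      have e2 : q₂ = lift (q₂ ≫ fst G X) (q₂ ≫ snd G X) := by
        apply CartesianMonoidalCategory.hom_ext <;> simp
      rw [e1, e2, hpt, hpt] at h12
      have hx : q₁ ≫ snd G X = q₂ ≫ snd G X := by
        have := congrArg (fun m => m ≫ snd X X) h12
        simpa using this
      have hgx : lift (q₁ ≫ fst G X) (q₁ ≫ snd G X) ≫ a.act =
          lift (q₂ ≫ fst G X) (q₁ ≫ snd G X) ≫ a.act := by
        have := congrArg (fun m => m ≫ fst X X) h12
        simp only [lift_fst] at this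
        rw [this, hx]
      have h3 : lift ((q₂ ≫ fst G X)⁻¹ * (q₁ ≫ fst G X)) (q₁ ≫ snd G X) ≫ a.act =
          q₁ ≫ snd G X := by
        rw [act_mul, hgx, ← act_mul, inv_mul_cancel, act_one]
      have h4 := hfree W _ _ h3
      rw [← Hom.one_def, inv_mul_eq_one] at h4
      rw [e1, e2, h4, hx]
    infer_instance
  · intro hmono T g x hgx
    haveI : Mono ((Over.forget S).map (lift a.act (snd G X))) := hmono
    haveI : Mono (lift a.act (snd G X)) := (Over.forget S).mono_of_mono_map ‹_›
    have h1 : lift g x ≫ lift a.act (snd G X) = lift (1 : T ⟶ G) x ≫ lift a.act (snd G X) := by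
      rw [hpt, hpt, hgx, act_one]
    have h2 := (cancel_mono _).1 h1
    have h3 := congrArg (fun m => m ≫ fst G X) h2
    simp only [lift_fst] at h3
    rw [h3, Hom.one_def]

end Groth.Agent.S7494
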