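import Groth.Statements.S7496
import Mathlib

set_option autoImplicit false
universe w u
open CategoryTheory CategoryTheory.Limits AlgebraicGeometry
open HTop

namespace Groth.Agent.S7496

open TopologicalSpace

lemma isCompact_inter_preimage {X T : Scheme.{u}} [QuasiSeparatedSpace T] (f : X ⟶ T)
    (V : X.Opens) (hV : IsCompact (V : Set X)) (W : T.Opens) (hW : IsCompact (W : Set T)) :
    IsCompact ((V : Set X) ∩ f.base ⁻¹' (W : Set T)) := by
  have hc : CompactSpace V := isCompact_iff_compactSpace.mp hV
  have hc' : CompactSpace (V.toScheme) := hc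
  have hqc : QuasiCompact (V.ι ≫ f) := inferInstance
  have h1 : IsCompact ((V.ι ≫ f).base ⁻¹' (W : Set T)) :=
    QuasiCompact.isCompact_preimage _ W.isOpen hW
  have h2 := h1.image V.ι.continuous
  convert h2 using 1
  ext x
  constructor
  · rintro ⟨hxV, hxW⟩
    exact ⟨⟨x, hxV⟩, hxW, rfl⟩
  · rintro ⟨y, hy, rfl⟩
    exact ⟨y.2, hy⟩


/-- Let T be a quasi-separated scheme and {f_i : T_i -> T} a family of morphisms. Then every affine open
of T is the union of the images of finitely many quasi-compact opens of the T_i (the
quasi-compactness condition in the definition of an fpqc covering) if and only if for every point t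
of T there are finitely many quasi-compact opens U_j of members T_(i_j) such that the union of the
f_(i_j)(U_j) is a neighbourhood of t. (The published statement also asks every f_i to be flat, on
both sides, and lists two more equivalent forms of the quasi-compactness condition; this row omits
flatness, which plays no part in the equivalence, and states only the equivalence of the
quasi-compactness condition with the neighbourhood condition.) -/
theorem result {T : Scheme.{u}} [QuasiSeparatedSpace T] (E : PreZeroHypercover.{w} T) : QuasiCompactCover E ↔ ∀ t : T, ∃ (n : ℕ) (i : Fin n → E.I₀) (V : ∀ j, (E.X (i j)).Opens), (∀ j, IsCompact (V j : Set (E.X (i j)))) ∧ (⋃ j, ⇑(E.f (i j)) '' (V j : Set (E.X (i j)))) ∈ nhds t := by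
  constructor
  · intro hE t
    obtain ⟨U, hU, htU, -⟩ := exists_isAffineOpen_mem_and_subset (x := t) (U := ⊤) trivial
    obtain ⟨n, a, V, hV, hUV⟩ := QuasiCompactCover.exists_isAffineOpen_of_isCompact E hU.isCompact
    refine ⟨n, a, V, fun j => (hV j).isCompact, ?_⟩
    rw [hUV]
    exact U.isOpen.mem_nhds htU
  · intro H
    refine ⟨fun {U} hU => ?_⟩
    refine IsCompactOpenCovered.of_isCompact_of_forall_exists_isCompactOpenCovered hU.isCompact ?_
    intro t htU
    obtain ⟨n, a, V, hV, hN⟩ := H t
    -- an affine open neighbourhood of `t` inside `N ∩ U`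
    obtain ⟨N, hNsub, hNopen, htN⟩ := mem_nhds_iff.mp hN
    obtain ⟨W, hW, htW, hWsub⟩ := exists_isAffineOpen_mem_and_subset
      (x := t) (U := ⟨N, hNopen⟩ ⊓ U) ⟨htN, htU⟩
    refine ⟨(W : Set T), fun x hx => (hWsub hx).2, htW, W.isOpen, ?_⟩
    refine IsCompactOpenCovered.of_finite (κ := Fin n) a
      (fun j => V j ⊓ (E.f (a j)) ⁻¹ᵁ W)
      (fun j => isCompact_inter_preimage (E.f (a j)) (V j) (hV j) W hW.isCompact) ?_
    ext x
    simp only [Set.mem_iUnion, Set.mem_image]
    constructor
    · rintro ⟨j, y, hy, rfl⟩
      exact hy.2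
    · intro hx
      have hxN : x ∈ ⋃ j, ⇑(E.f (a j)) '' (V j : Set (E.X (a j))) := hNsub (hWsub hx).1
      obtain ⟨j, y, hy, rfl⟩ := Set.mem_iUnion.mp hxN
      exact ⟨j, y, ⟨hy, hx⟩, rfl⟩

end Groth.Agent.S7496
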