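import Groth.Statements.S7497
import Mathlib

set_option autoImplicit false
universe u
open CategoryTheory CategoryTheory.Limits AlgebraicGeometry
open HTop

namespace Groth.Agent.S7497

open TopologicalSpace


/-- Let {f_i : T_i -> T} be a family of flat morphisms of schemes and {g_j : S_j -> T} an fpqc covering
such that for every j the family of base changes {S_j x_T T_i -> S_j} is an fpqc covering. Then {f_i
: T_i -> T} is an fpqc covering. (fpqc coverings are Mathlib's: flat, jointly surjective, every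
affine open of the target covered by images of finitely many quasi-compact opens.) -/
theorem result {T : Scheme.{u}} (E : PreZeroHypercover.{u} T) (hflat : ∀ i, Flat (E.f i)) (𝒱 : Scheme.Cover Scheme.fpqcPrecoverage T) (hloc : ∀ j, (E.pullback₁ (𝒱.f j)).presieve₀ ∈ Scheme.fpqcPrecoverage (𝒱.X j)) : E.presieve₀ ∈ Scheme.fpqcPrecoverage T := by
  change E.presieve₀ ∈ Scheme.qcPrecoverage T ∧ E.presieve₀ ∈ Scheme.precoverage @Flat T
  rw [Scheme.presieve₀_mem_qcPrecoverage_iff, Scheme.presieve₀_mem_precoverage_iff]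
  have hloc' : ∀ j, QuasiCompactCover (E.pullback₁ (𝒱.f j)) ∧
      (∀ x : 𝒱.X j, ∃ i, x ∈ Set.range ((E.pullback₁ (𝒱.f j)).f i).base) := by
    intro j
    have h := hloc j
    change _ ∈ Scheme.qcPrecoverage _ ∧ _ ∈ Scheme.precoverage @Flat _ at h
    rw [Scheme.presieve₀_mem_qcPrecoverage_iff, Scheme.presieve₀_mem_precoverage_iff] at h
    exact ⟨h.1, h.2.1⟩
  have hVqc : QuasiCompactCover 𝒱.toPreZeroHypercover := inferInstance
  refine ⟨⟨fun {U} hU => ?_⟩, ?_, hflat⟩
  · -- quasi-compactness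
    obtain ⟨n, a, W, hW, hUW⟩ :=
      QuasiCompactCover.exists_isAffineOpen_of_isCompact 𝒱.toPreZeroHypercover hU.isCompact
    -- the intermediate family
    have hG : IsCompactOpenCovered
        (fun p : Σ (_ : Fin n), E.I₀ =>
          (pullback.snd (𝒱.f (a p.1)) (E.f p.2) ≫ E.f p.2).base) (U : Set T) := by
      refine IsCompactOpenCovered.of_iUnion_eq_of_finite
        (fun k : Fin n => (𝒱.f (a k)).base '' (W k : Set (𝒱.X (a k)))) hUW fun k => ?_
      have hk := (hloc' (a k)).1
      obtain ⟨s, hs, V, hc, hcov⟩ := (hW k).isCompactOpenCovered (E.pullback₁ (𝒱.f (a k)))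
      have : Finite s := hs
      refine IsCompactOpenCovered.of_finite (κ := s)
        (fun i => (⟨k, i.1⟩ : Σ (_ : Fin n), E.I₀)) (fun i => V i.1 i.2)
        (fun i => hc i.1 i.2) ?_
      rw [← hcov]
      ext t
      simp only [Set.mem_iUnion, Set.mem_image]
      constructor
      · rintro ⟨i, y, hy, rfl⟩
        refine ⟨(pullback.fst (𝒱.f (a k)) (E.f i.1)).base y, ⟨i.1, i.2, y, hy, rfl⟩, ?_⟩
        rw [← Scheme.Hom.comp_apply, pullback.condition]
      · rintro ⟨x, ⟨i, hi, y, hy, rfl⟩, rfl⟩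
        refine ⟨⟨i, hi⟩, y, hy, ?_⟩
        change (pullback.snd (𝒱.f (a k)) (E.f i) ≫ E.f i).base y = _
        rw [← pullback.condition, Scheme.Hom.comp_apply]
        rfl
    exact IsCompactOpenCovered.of_comp (f := fun i => (E.f i).base)
      (fun p : Σ (_ : Fin n), E.I₀ => (pullback.snd (𝒱.f (a p.1)) (E.f p.2) ≫ E.f p.2).base)
      (a := fun p => p.2) (fun p => (pullback.snd (𝒱.f (a p.1)) (E.f p.2)).base)
      (fun p => (pullback.snd (𝒱.f (a p.1)) (E.f p.2)).continuous)
      (fun p => rfl) (fun i => (E.f i).continuous) U.isOpen hG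
  · -- surjectivity
    intro t
    have hVm := 𝒱.mem₀
    change _ ∈ Scheme.qcPrecoverage _ ∧ _ ∈ Scheme.precoverage @Flat _ at hVm
    rw [Scheme.presieve₀_mem_precoverage_iff] at hVm
    obtain ⟨j, s, rfl⟩ := hVm.2.1 t
    obtain ⟨i, y, hy⟩ := (hloc' j).2 s
    refine ⟨i, (pullback.snd (𝒱.f j) (E.f i)).base y, ?_⟩
    rw [← hy, ← Scheme.Hom.comp_apply, ← Scheme.Hom.comp_apply, ← pullback.condition]
    rfl

end Groth.Agent.S7497
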