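import Groth.Statements.S7499
import Mathlib
import Groth.Agent.Lib.Helper11ChevB
import Groth.Agent.Lib.Helper11KMTop

set_option autoImplicit false
universe u
open CategoryTheory CategoryTheory.Limits AlgebraicGeometry
open Grpd

namespace Groth.Agent.S7499


/-- Let (U, R, s, t, c) be a groupoid scheme over S with s and t integral, and g : U' -> U an integral
morphism such that every R-orbit of U meets the image of g. Let R' = (U' x_(g,U,t) R) x_(s pr, U, g)
U' be the restriction of R to U', with t' the projection to the first factor U' and s' the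
projection to the last. If u' is a point of U' contained in an affine open W' of U' with t'^{-1}(W')
= s'^{-1}(W'), then g(u') is contained in an affine open W of U with s^{-1}(W) = t^{-1}(W). (A
groupoid scheme carries U, R, s, t, c, e, i over S with the groupoid axioms on T-points; c is
defined on the fibre product of s and t and sends a pair (a, b) with s(a) = t(b) to a composed with
b.) -/
theorem result (S : Scheme.{u}) (G : Grpd.GroupoidScheme S) [IsIntegralHom G.s] [IsIntegralHom G.t] (U' : Scheme.{u}) (g : U' ⟶ G.U) [IsIntegralHom g] (horb : ∀ u : G.U, ∃ r : G.R, G.s r = u ∧ G.t r ∈ Set.range ⇑g) (u' : U') (W' : U'.Opens) (hW' : IsAffineOpen W') (hu' : u' ∈ W') (hinv : (pullback.fst (pullback.snd g G.t ≫ G.s) g ≫ pullback.fst g G.t) ⁻¹ᵁ W' = (pullback.snd (pullback.snd g G.t ≫ G.s) g) ⁻¹ᵁ W') : ∃ W : G.U.Opens, IsAffineOpen W ∧ g u' ∈ W ∧ G.s ⁻¹ᵁ W = G.t ⁻¹ᵁ W := by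
  open Groth.Agent.Lib.Helper2.GrpdOrbit Groth.Agent.Lib.Helper11.KMTop in
  classical
  set pr₀ := pullback.fst g G.t with hpr₀
  set pr₁ := pullback.snd g G.t with hpr₁
  set h := pr₁ ≫ G.s with hh
  -- points of `R̃`
  have hcond : ∀ x, g (pr₀ x) = G.t (pr₁ x) := by
    intro x
    rw [← Scheme.Hom.comp_apply, ← Scheme.Hom.comp_apply, pullback.condition]
  have hrel : ∀ x, Rel G (h x) (g (pr₀ x)) := fun x =>
    ⟨pr₁ x, (Scheme.Hom.comp_apply _ _ _).symm, (hcond x).symm⟩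
  have hex : ∀ (v : U') (ρ : G.R), g v = G.t ρ → ∃ x, pr₀ x = v ∧ pr₁ x = ρ := fun v ρ hvρ =>
    Scheme.Pullback.exists_preimage_pullback v ρ hvρ
  -- (K) the invariance of `W'`
  have K : ∀ u₁ u₂ : U', Rel G (g u₂) (g u₁) → (u₁ ∈ W' ↔ u₂ ∈ W') := by
    rintro u₁ u₂ ⟨ρ, hs, ht⟩
    obtain ⟨x, hx0, hx1⟩ := hex u₁ ρ ht.symm
    have hhx : h x = g u₂ := by rw [hh, Scheme.Hom.comp_apply, hx1, hs]
    obtain ⟨p, hp1, hp2⟩ := Scheme.Pullback.exists_preimage_pullback (f := h) (g := g) x u₂ hhx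
    have h1 := congrArg (fun O : (pullback h g).Opens => p ∈ O) hinv
    simp only [eq_iff_iff] at h1
    have h2 : p ∈ (pullback.fst h g ≫ pr₀) ⁻¹ᵁ W' ↔ u₁ ∈ W' := by
      change (pullback.fst h g ≫ pr₀) p ∈ W' ↔ _
      rw [Scheme.Hom.comp_apply, hp1, hx0]
    have h3 : p ∈ (pullback.snd h g) ⁻¹ᵁ W' ↔ u₂ ∈ W' := by
      change (pullback.snd h g) p ∈ W' ↔ _
      rw [hp2]
    rw [← h2, ← h3]
    exact h1
  -- the saturation of `g(W')`
  let Wset : Set G.U := {x | ∃ v ∈ W', Rel G x (g v)}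
  have hpre : h ⁻¹' Wset = pr₀ ⁻¹' (W' : Set U') := by
    ext x
    constructor
    · rintro ⟨v, hv, hxv⟩
      exact (K (pr₀ x) v (rel_trans G (rel_symm G hxv) (hrel x))).2 hv
    · intro hx
      exact ⟨pr₀ x, hx, hrel x⟩
  haveI : IsIntegralHom pr₁ := MorphismProperty.pullback_snd (P := @IsIntegralHom) _ _ inferInstance
  haveI : IsIntegralHom pr₀ := MorphismProperty.pullback_fst (P := @IsIntegralHom) _ _ inferInstance
  haveI : IsIntegralHom h := by rw [hh]; infer_instance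
  have hsurj : Function.Surjective h := by
    intro x
    obtain ⟨r, hs, v, hv⟩ := horb x
    obtain ⟨y, -, hy1⟩ := hex v r hv
    exact ⟨y, by rw [hh, Scheme.Hom.comp_apply, hy1, hs]⟩
  have hq : Topology.IsQuotientMap h := h.isClosedMap.isQuotientMap h.continuous hsurj
  have hopen : IsOpen Wset := by
    rw [← hq.isOpen_preimage, hpre]
    exact W'.2.preimage pr₀.continuous
  let W : G.U.Opens := ⟨Wset, hopen⟩
  have hpreW : h ⁻¹ᵁ W = pr₀ ⁻¹ᵁ W' := TopologicalSpace.Opens.ext hpre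
  refine ⟨W, ?_, ?_, ?_⟩
  · haveI : IsAffine (h ⁻¹ᵁ W : Scheme.{u}) := by
      rw [hpreW]
      exact hW'.preimage pr₀
    haveI : Surjective (h ∣_ W) := by
      refine ⟨fun ⟨w, hw⟩ => ?_⟩
      obtain ⟨x, rfl⟩ := hsurj w
      exact ⟨⟨x, hw⟩, Subtype.ext (morphismRestrict_base_coe _ _ _)⟩
    exact Groth.Agent.Lib.Helper11.Chev.isAffine_of_isIntegralHom_of_surjective (h ∣_ W)
  · exact ⟨u', hu', rel_refl G _⟩
  · ext ρ
    change G.s ρ ∈ Wset ↔ G.t ρ ∈ Wset
    constructor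
    · rintro ⟨v, hv, hxv⟩
      exact ⟨v, hv, rel_trans G (rel_symm G ⟨ρ, rfl, rfl⟩) hxv⟩
    · rintro ⟨v, hv, hxv⟩
      exact ⟨v, hv, rel_trans G ⟨ρ, rfl, rfl⟩ hxv⟩

end Groth.Agent.S7499
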