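import Groth.Statements.S7500
import Mathlib
import Groth.Agent.Lib.Helper2Grpd

set_option autoImplicit false
universe u
open CategoryTheory CategoryTheory.Limits AlgebraicGeometry
open Grpd

namespace Groth.Agent.S7500

/-- Let (U, R, s, t, c) be a groupoid scheme over S and G -> U its stabilizer group scheme (the base
change of j = (t, s) along the diagonal). The action of G on R by composition, base changed to G_0 =
G x_(U, pr_0) (U x_S U), makes R a pseudo G_0-torsor over U x_S U. Concretely: let α : G x_(U, t) R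
-> R x_(s, U, t) R be the morphism with components (γ viewed in R, r) and β : G x_(U, t) R -> R
x_(j, U x_S U, j) R the morphism with components (c ∘ α, r); then β is an isomorphism. (A groupoid
scheme carries U, R, s, t, c, e, i over S with the groupoid axioms on T-points; c is defined on the
fibre product of s and t and sends a pair (a, b) with s(a) = t(b) to a composed with b.) -/
theorem result (S : Scheme.{u}) (G : Grpd.GroupoidScheme S) (α : pullback G.stabilizerToU G.t ⟶ pullback G.s G.t) (hα₁ : α ≫ pullback.fst G.s G.t = pullback.fst G.stabilizerToU G.t ≫ pullback.fst G.j G.diag) (hα₂ : α ≫ pullback.snd G.s G.t = pullback.snd G.stabilizerToU G.t) (β : pullback G.stabilizerToU G.t ⟶ pullback G.j G.j) (hβ₁ : β ≫ pullback.fst G.j G.j = α ≫ G.c) (hβ₂ : β ≫ pullback.snd G.j G.j = pullback.snd G.stabilizerToU G.t) : IsIso β := by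
  classical
  -- notation
  set γ₀ : pullback G.j G.diag ⟶ G.R := pullback.fst G.j G.diag with hγ₀
  set σ : pullback G.j G.diag ⟶ G.U := pullback.snd G.j G.diag with hσ
  have hjt : G.j ≫ pullback.fst G.pU G.pU = G.t := pullback.lift_fst _ _ _
  have hjs : G.j ≫ pullback.snd G.pU G.pU = G.s := pullback.lift_snd _ _ _
  have hdiag1 : G.diag ≫ pullback.fst G.pU G.pU = 𝟙 _ := pullback.lift_fst _ _ _
  have hdiag2 : G.diag ≫ pullback.snd G.pU G.pU = 𝟙 _ := pullback.lift_snd _ _ _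
  have hcondG : γ₀ ≫ G.j = σ ≫ G.diag := pullback.condition
  have hγt : γ₀ ≫ G.t = σ := by
    rw [← hjt, ← Category.assoc, hcondG, Category.assoc, hdiag1, Category.comp_id]
  have hγs : γ₀ ≫ G.s = σ := by
    rw [← hjs, ← Category.assoc, hcondG, Category.assoc, hdiag2, Category.comp_id]
  set g₁ : pullback G.stabilizerToU G.t ⟶ pullback G.j G.diag :=
    pullback.fst G.stabilizerToU G.t with hg₁
  set r₁ : pullback G.stabilizerToU G.t ⟶ G.R := pullback.snd G.stabilizerToU G.t with hr₁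
  have hcondGR : g₁ ≫ σ = r₁ ≫ G.t := pullback.condition
  set π₁ := pullback.fst G.j G.j with hπ₁
  set π₂ := pullback.snd G.j G.j with hπ₂
  have hcond : π₁ ≫ G.j = π₂ ≫ G.j := pullback.condition
  have ht12 : π₁ ≫ G.t = π₂ ≫ G.t := by
    rw [← hjt, ← Category.assoc, hcond, Category.assoc]
  have hs12 : π₁ ≫ G.s = π₂ ≫ G.s := by
    rw [← hjs, ← Category.assoc, hcond, Category.assoc]
  set p := pullback.fst G.s G.t with hp
  set q := pullback.snd G.s G.t with hq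
  have hpq : p ≫ G.s = q ≫ G.t := pullback.condition
  have hc : G.c = Groth.Agent.Lib.Helper2.Grpd.comp G p q hpq := by
    unfold Groth.Agent.Lib.Helper2.Grpd.comp
    have : pullback.lift p q hpq = 𝟙 _ := by
      apply pullback.hom_ext <;> simp [hp, hq]
    rw [this, Category.id_comp]
  have hα₁' : α ≫ p = g₁ ≫ γ₀ := hα₁
  have hα₂' : α ≫ q = r₁ := hα₂
  have hγr : (g₁ ≫ γ₀) ≫ G.s = r₁ ≫ G.t := by rw [Category.assoc, hγs, hcondGR]
  have hαc : α ≫ G.c = Groth.Agent.Lib.Helper2.Grpd.comp G (g₁ ≫ γ₀) r₁ hγr := by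
    rw [hc, Groth.Agent.Lib.Helper2.Grpd.precomp_comp]
    exact Groth.Agent.Lib.Helper2.Grpd.comp_congr G _ hα₁' hα₂'
  have hβ₁' : β ≫ π₁ = Groth.Agent.Lib.Helper2.Grpd.comp G (g₁ ≫ γ₀) r₁ hγr := hβ₁.trans hαc
  have hβ₂' : β ≫ π₂ = r₁ := hβ₂
  -- the inverse
  have h12i : π₁ ≫ G.s = (π₂ ≫ G.i) ≫ G.t := by rw [Category.assoc, G.i_t, hs12]
  let gR : pullback G.j G.j ⟶ G.R := Groth.Agent.Lib.Helper2.Grpd.comp G π₁ (π₂ ≫ G.i) h12i
  have hgR : gR ≫ G.j = (π₂ ≫ G.t) ≫ G.diag := by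
    apply pullback.hom_ext
    · rw [Category.assoc, hjt, Category.assoc, hdiag1, Category.comp_id]
      show Groth.Agent.Lib.Helper2.Grpd.comp G π₁ (π₂ ≫ G.i) h12i ≫ G.t = _
      rw [Groth.Agent.Lib.Helper2.Grpd.comp_t, ht12]
    · rw [Category.assoc, hjs, Category.assoc, hdiag2, Category.comp_id]
      show Groth.Agent.Lib.Helper2.Grpd.comp G π₁ (π₂ ≫ G.i) h12i ≫ G.s = _
      rw [Groth.Agent.Lib.Helper2.Grpd.comp_s, Category.assoc, G.i_s]
  let g : pullback G.j G.j ⟶ pullback G.j G.diag := pullback.lift gR (π₂ ≫ G.t) hgR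
  have hg1 : g ≫ γ₀ = gR := pullback.lift_fst _ _ _
  have hg2 : g ≫ σ = π₂ ≫ G.t := pullback.lift_snd _ _ _
  let ψ : pullback G.j G.j ⟶ pullback G.stabilizerToU G.t := pullback.lift g π₂ hg2
  have hψ1 : ψ ≫ g₁ = g := pullback.lift_fst _ _ _
  have hψ2 : ψ ≫ r₁ = π₂ := pullback.lift_snd _ _ _
  refine ⟨ψ, ?_, ?_⟩
  · -- β ≫ ψ = 𝟙
    apply pullback.hom_ext
    · show (β ≫ ψ) ≫ g₁ = 𝟙 _ ≫ g₁
      rw [Category.assoc, hψ1, Category.id_comp]
      apply pullback.hom_ext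
      · show (β ≫ g) ≫ γ₀ = g₁ ≫ γ₀
        rw [Category.assoc, hg1]
        show β ≫ Groth.Agent.Lib.Helper2.Grpd.comp G π₁ (π₂ ≫ G.i) h12i = _
        rw [Groth.Agent.Lib.Helper2.Grpd.precomp_comp]
        have e2 : β ≫ π₂ ≫ G.i = r₁ ≫ G.i := by rw [← Category.assoc, hβ₂']
        rw [Groth.Agent.Lib.Helper2.Grpd.comp_congr G _ hβ₁' e2]
        exact Groth.Agent.Lib.Helper2.Grpd.comp_comp_i G (g₁ ≫ γ₀) r₁ hγr _
      · show (β ≫ g) ≫ σ = g₁ ≫ σ
        rw [Category.assoc, hg2, ← Category.assoc, hβ₂', hcondGR]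
    · show (β ≫ ψ) ≫ r₁ = 𝟙 _ ≫ r₁
      rw [Category.assoc, hψ2, hβ₂', Category.id_comp]
  · -- ψ ≫ β = 𝟙
    apply pullback.hom_ext
    · show (ψ ≫ β) ≫ π₁ = 𝟙 _ ≫ π₁
      rw [Category.assoc, hβ₁', Groth.Agent.Lib.Helper2.Grpd.precomp_comp, Category.id_comp]
      have e1 : ψ ≫ g₁ ≫ γ₀ = Groth.Agent.Lib.Helper2.Grpd.comp G π₁ (π₂ ≫ G.i) h12i := by
        rw [← Category.assoc, hψ1, hg1]
      rw [Groth.Agent.Lib.Helper2.Grpd.comp_congr G _ e1 hψ2]
      exact Groth.Agent.Lib.Helper2.Grpd.comp_i_comp' G π₁ π₂ h12i _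
    · show (ψ ≫ β) ≫ π₂ = 𝟙 _ ≫ π₂
      rw [Category.assoc, hβ₂', hψ2, Category.id_comp]

end Groth.Agent.S7500
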