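import Groth.Statements.S7502
import Mathlib
import Groth.Agent.Lib.Helper20FpqcFT
import Groth.Agent.Lib.Helper1FlatPull
import Groth.Agent.Lib.Helper2PullbackSec
import Groth.Agent.Lib.Helper23QCohLocal
import Groth.Agent.Lib.Helper23QCohGen
import Groth.Agent.Lib.Helper23FinType
-- import your own Groth.Agent.* helpers here

set_option autoImplicit false
universe u
open CategoryTheory CategoryTheory.Limits AlgebraicGeometry
open Coh

namespace Groth.Agent.S7502


open Groth.Agent.Lib.Helper23.QCohLocal Groth.Agent.Lib.Helper23.QCohGen Groth.Agent.Lib.Helper23.FinType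

/-- Let f : Y -> X be a morphism of schemes which is quasi-compact, quasi-separated, flat and
surjective, with X and Y locally Noetherian. Let F be a quasi-coherent O_X-module, G a coherent
O_Y-module and φ : G -> f^*F an injective map of O_Y-modules. Then the O_X-module F ∩ f_*G, defined
as the fibre product of the adjunction unit F -> f_*f^*F with f_*φ : f_*G -> f_*f^*F, is coherent.
('Coherent' is quasi-coherent of finite type, the usual notion on locally Noetherian schemes.) -/
theorem result {X Y : Scheme.{u}} (f : Y ⟶ X) [QuasiCompact f] [QuasiSeparated f] [Flat f] [Surjective f] [IsLocallyNoetherian X] [IsLocallyNoetherian Y] (F : X.Modules) (hF : Coh.IsQCoh F) (G : Y.Modules) (hG : Coh.IsCoh G) (φ : G ⟶ (Scheme.Modules.pullback f).obj F) [Mono φ] : Coh.IsCoh (Limits.pullback ((Scheme.Modules.pullbackPushforwardAdjunction f).unit.app F) ((Scheme.Modules.pushforward f).map φ)) := by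
  haveI : F.IsQuasicoherent := hF
  haveI : G.IsQuasicoherent := hG.1
  haveI : SheafOfModules.IsFiniteType (R := Y.ringCatSheaf) G := hG.2
  let L := Scheme.Modules.pullback f
  let R := Scheme.Modules.pushforward f
  let adj : L ⊣ R := Scheme.Modules.pullbackPushforwardAdjunction f
  let H := Limits.pullback (adj.unit.app F) (R.map φ)
  change Coh.IsCoh H
  haveI hLF : (L.obj F).IsQuasicoherent := Groth.Agent.Lib.Helper2.PullbackSec.isQuasicoherent_pullback f F
  haveI hRG : (R.obj G).IsQuasicoherent := isQuasicoherent_pushforward f G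
  haveI hRLF : (R.obj (L.obj F)).IsQuasicoherent := isQuasicoherent_pushforward f (L.obj F)
  have hH : H.IsQuasicoherent := by
    have hB : (F ⊞ R.obj G : X.Modules).IsQuasicoherent :=
      Groth.Agent.Lib.Helper23.QCohLocal.isQuasicoherent_biprod F (R.obj G)
    exact (QCohCat.isQCoh X).prop_of_isLimit_kernelFork
      (Abelian.PullbackToBiproductIsKernel.isLimitPullbackToBiproduct (adj.unit.app F) (R.map φ)) hB hRLF
  haveI := hH
  refine ⟨hH, ?_⟩
  haveI : PreservesFiniteLimits L := Groth.Agent.Lib.Helper1.FlatPull.preservesFiniteLimits_pullback_of_flat f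
  haveI hLH : (L.obj H).IsQuasicoherent := Groth.Agent.Lib.Helper2.PullbackSec.isQuasicoherent_pullback f H
  -- the morphism `f^* H ⟶ G`
  let ψ : L.obj H ⟶ G := L.map (pullback.snd _ _) ≫ adj.counit.app G
  have hψ : ψ ≫ φ = L.map (pullback.fst (adj.unit.app F) (R.map φ)) := by
    have h1 : adj.counit.app G ≫ φ = L.map (R.map φ) ≫ adj.counit.app (L.obj F) :=
      (adj.counit.naturality φ).symm
    have h2 : L.map (adj.unit.app F) ≫ adj.counit.app (L.obj F) = 𝟙 _ := adj.left_triangle_components F
    calc ψ ≫ φ = L.map (pullback.snd _ _) ≫ L.map (R.map φ) ≫ adj.counit.app (L.obj F) := by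
          simp only [ψ, Category.assoc, h1]
      _ = L.map (pullback.snd (adj.unit.app F) (R.map φ) ≫ R.map φ) ≫ adj.counit.app (L.obj F) := by
          rw [Functor.map_comp, Category.assoc]
      _ = L.map (pullback.fst (adj.unit.app F) (R.map φ) ≫ adj.unit.app F) ≫ adj.counit.app (L.obj F) := by
          rw [pullback.condition]
      _ = L.map (pullback.fst (adj.unit.app F) (R.map φ)) := by
          rw [Functor.map_comp, Category.assoc, h2, Category.comp_id]
  haveI : Mono (R.map φ) := inferInstance
  haveI : Mono (pullback.fst (adj.unit.app F) (R.map φ)) := inferInstance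
  haveI : Mono (L.map (pullback.fst (adj.unit.app F) (R.map φ))) := inferInstance
  haveI : Mono (ψ ≫ φ) := by rw [hψ]; infer_instance
  haveI : Mono ψ := mono_of_mono ψ φ
  have hft : SheafOfModules.IsFiniteType (R := Y.ringCatSheaf) (L.obj H) := isFiniteType_of_mono ψ
  exact Groth.Agent.Lib.Helper20.FpqcFT.isFiniteType_of_pullback f H hft

end Groth.Agent.S7502
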