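import Groth.Statements.S7509
import Mathlib
import Groth.Agent.Lib.Helper11ProdDom
import Groth.Agent.Lib.Helper11EqvGrpd
import Groth.Agent.Lib.Helper11SubGrpd

set_option autoImplicit false
universe u
open CategoryTheory CategoryTheory.Limits AlgebraicGeometry
open Grpd

namespace Groth.Agent.S7509

open Groth.Agent.Lib.Helper11

set_option linter.unusedSectionVars false

section Main

variable {S : Scheme.{u}} (G : Grpd.GroupoidScheme S) [Subsingleton G.U]
  [AlgebraicGeometry.IsIntegral G.U] {Z : Scheme.{u}} (ιZ : Z ⟶ pullback G.pU G.pU)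
  [IsClosedImmersion ιZ] (π : G.R ⟶ Z) [QuasiCompact π] [IsSchemeTheoreticallyDominant π]
  (hπι : π ≫ ιZ = G.j)

/-- source of the image relation. -/
noncomputable def s' : Z ⟶ G.U := ιZ ≫ pullback.snd G.pU G.pU
/-- target of the image relation. -/
noncomputable def t' : Z ⟶ G.U := ιZ ≫ pullback.fst G.pU G.pU

theorem hst : t' G ιZ ≫ G.pU = s' G ιZ ≫ G.pU := by
  rw [s', t', Category.assoc, Category.assoc, pullback.condition]

theorem jm {T : Scheme.{u}} (a b : T ⟶ Z) (h1 : a ≫ t' G ιZ = b ≫ t' G ιZ)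
    (h2 : a ≫ s' G ιZ = b ≫ s' G ιZ) : a = b := by
  rw [← cancel_mono ιZ]
  apply pullback.hom_ext
  · simpa only [s', t', Category.assoc] using h1
  · simpa only [s', t', Category.assoc] using h2

include hπι in
theorem π_s : π ≫ s' G ιZ = G.s := by
  rw [s', ← Category.assoc, hπι]
  exact pullback.lift_snd _ _ _

include hπι in
theorem π_t : π ≫ t' G ιZ = G.t := by
  rw [t', ← Category.assoc, hπι]
  exact pullback.lift_fst _ _ _

/-- the swap of the two factors. -/
noncomputable def swap : pullback G.pU G.pU ⟶ pullback G.pU G.pU :=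
  pullback.lift (pullback.snd G.pU G.pU) (pullback.fst G.pU G.pU) pullback.condition.symm

theorem j_swap : G.j ≫ swap G = G.i ≫ G.j := by
  unfold swap Grpd.GroupoidScheme.j
  apply pullback.hom_ext
  · rw [Category.assoc, pullback.lift_fst, pullback.lift_snd, Category.assoc, pullback.lift_fst,
      G.i_t]
  · rw [Category.assoc, pullback.lift_snd, pullback.lift_fst, Category.assoc, pullback.lift_snd,
      G.i_s]

include hπι in
theorem exists_inv : ∃ i' : Z ⟶ Z, i' ≫ s' G ιZ = t' G ιZ ∧ i' ≫ t' G ιZ = s' G ιZ := by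
  obtain ⟨i', hi'⟩ := Groth.Agent.Lib.Helper11SchImage.exists_lift_of_dominant π (ιZ ≫ swap G)
    (G.i ≫ π) ιZ (by
      rw [← Category.assoc, hπι, j_swap, Category.assoc, hπι])
  refine ⟨i', ?_, ?_⟩
  · rw [s', t', ← Category.assoc, hi', Category.assoc]
    congr 1
    exact pullback.lift_snd _ _ _
  · rw [s', t', ← Category.assoc, hi', Category.assoc]
    congr 1
    exact pullback.lift_fst _ _ _

/-- the composite relation `(a, b) ↦ (t a, s b)`. -/
noncomputable def q : pullback (s' G ιZ) (t' G ιZ) ⟶ pullback G.pU G.pU :=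
  pullback.lift (pullback.fst (s' G ιZ) (t' G ιZ) ≫ t' G ιZ)
    (pullback.snd (s' G ιZ) (t' G ιZ) ≫ s' G ιZ) (by
      rw [Category.assoc, hst, ← Category.assoc, pullback.condition, Category.assoc, hst,
        Category.assoc])

include hπι in
theorem exists_comp : ∃ c' : pullback (s' G ιZ) (t' G ιZ) ⟶ Z,
    c' ≫ s' G ιZ = pullback.snd (s' G ιZ) (t' G ιZ) ≫ s' G ιZ ∧
    c' ≫ t' G ιZ = pullback.fst (s' G ιZ) (t' G ιZ) ≫ t' G ιZ ∧
    ∀ {T : Scheme.{u}} (α β : T ⟶ G.R) (h : α ≫ G.s = β ≫ G.t),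
      (pullback.lift α β h ≫ G.c) ≫ π = pullback.lift (α ≫ π) (β ≫ π)
        (by rw [Category.assoc, Category.assoc, π_s G ιZ π hπι, π_t G ιZ π hπι, h]) ≫ c' := by
  haveI : Flat (s' G ιZ) := inferInstance
  haveI : Flat (π ≫ t' G ιZ) := inferInstance
  have hdom := ProdDom.dominant_pullback_map π π (s' G ιZ) (t' G ιZ)
  have hw : pullback.fst (π ≫ s' G ιZ) (π ≫ t' G ιZ) ≫ G.s =
      pullback.snd (π ≫ s' G ιZ) (π ≫ t' G ιZ) ≫ G.t := by
    refine (congrArg (pullback.fst (π ≫ s' G ιZ) (π ≫ t' G ιZ) ≫ ·) (π_s G ιZ π hπι).symm).trans ?_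
    refine (pullback.condition (f := π ≫ s' G ιZ) (g := π ≫ t' G ιZ)).trans ?_
    exact congrArg (pullback.snd (π ≫ s' G ιZ) (π ≫ t' G ιZ) ≫ ·) (π_t G ιZ π hπι)
  have hcond : pullback.map (π ≫ s' G ιZ) (π ≫ t' G ιZ) (s' G ιZ) (t' G ιZ) π π (𝟙 G.U)
        (Category.comp_id _) (Category.comp_id _) ≫ q G ιZ =
      (pullback.lift _ _ hw ≫ G.c ≫ π) ≫ ιZ := by
    have e1 : (pullback.lift _ _ hw ≫ G.c ≫ π) ≫ ιZ = pullback.lift _ _ hw ≫ G.c ≫ G.j := by
      rw [← hπι]; simp only [Category.assoc]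
    rw [e1]
    unfold q Grpd.GroupoidScheme.j
    apply pullback.hom_ext
    · rw [Category.assoc, pullback.lift_fst, pullback.lift_fst_assoc, Category.assoc,
        Category.assoc, Category.assoc, pullback.lift_fst, SubGrpd.c_t, pullback.lift_fst_assoc]
      exact congrArg (pullback.fst (π ≫ s' G ιZ) (π ≫ t' G ιZ) ≫ ·) (π_t G ιZ π hπι)
    · rw [Category.assoc, pullback.lift_snd, pullback.lift_snd_assoc, Category.assoc,
        Category.assoc, Category.assoc, pullback.lift_snd, SubGrpd.c_s, pullback.lift_snd_assoc]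
      exact congrArg (pullback.snd (π ≫ s' G ιZ) (π ≫ t' G ιZ) ≫ ·) (π_s G ιZ π hπι)
  obtain ⟨c', hc'⟩ := Groth.Agent.Lib.Helper11SchImage.exists_lift_of_dominant
    (pullback.map (π ≫ s' G ιZ) (π ≫ t' G ιZ) (s' G ιZ) (t' G ιZ) π π (𝟙 G.U)
      (Category.comp_id _) (Category.comp_id _))
    (q G ιZ) (pullback.lift _ _ hw ≫ G.c ≫ π) ιZ hcond
  have hs : c' ≫ s' G ιZ = pullback.snd (s' G ιZ) (t' G ιZ) ≫ s' G ιZ := by
    have e : c' ≫ s' G ιZ = (c' ≫ ιZ) ≫ pullback.snd G.pU G.pU := (Category.assoc _ _ _).symm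
    rw [e, hc']
    exact pullback.lift_snd _ _ _
  have ht : c' ≫ t' G ιZ = pullback.fst (s' G ιZ) (t' G ιZ) ≫ t' G ιZ := by
    have e : c' ≫ t' G ιZ = (c' ≫ ιZ) ≫ pullback.fst G.pU G.pU := (Category.assoc _ _ _).symm
    rw [e, hc']
    exact pullback.lift_fst _ _ _
  refine ⟨c', hs, ht, fun α β h => ?_⟩
  apply jm G ιZ
  · have l : ((pullback.lift α β h ≫ G.c) ≫ π) ≫ t' G ιZ = α ≫ G.t := by
      rw [Category.assoc, π_t G ιZ π hπι, G.comp_t]
    rw [l]
    simp only [Category.assoc, ht, pullback.lift_fst_assoc, π_t G ιZ π hπι]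
  · have l : ((pullback.lift α β h ≫ G.c) ≫ π) ≫ s' G ιZ = β ≫ G.s := by
      rw [Category.assoc, π_s G ιZ π hπι, G.comp_s]
    rw [l]
    simp only [Category.assoc, hs, pullback.lift_snd_assoc, π_s G ιZ π hπι]

include hπι in
theorem main (hker : ιZ.ker = G.j.ker) :
    ∃ (G' : Grpd.GroupoidScheme S) (φ : Grpd.GroupoidScheme.Hom G G'), IsIso φ.fU ∧
      IsClosedImmersion G'.j ∧ G'.j.ker = (G.j ≫ pullback.map G.pU G.pU G'.pU G'.pU φ.fU φ.fU (𝟙 S)
        ((Category.comp_id _).trans φ.fU_over.symm)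
        ((Category.comp_id _).trans φ.fU_over.symm)).ker := by
  obtain ⟨i', hi_s, hi_t⟩ := exists_inv G ιZ π hπι
  obtain ⟨c', hc_s, hc_t, hc⟩ := exists_comp G ιZ π hπι
  have he_s : (G.e ≫ π) ≫ s' G ιZ = 𝟙 G.U := by
    rw [Category.assoc, π_s G ιZ π hπι, G.e_s]
  have he_t : (G.e ≫ π) ≫ t' G ιZ = 𝟙 G.U := by
    rw [Category.assoc, π_t G ιZ π hπι, G.e_t]
  let G' : Grpd.GroupoidScheme S := EqvGrpd.mk G.pU (s' G ιZ) (t' G ιZ) (hst G ιZ)
    (fun a b h1 h2 => jm G ιZ a b h1 h2) (G.e ≫ π) he_s he_t i' hi_s hi_t c' hc_s hc_t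
  let φ : Grpd.GroupoidScheme.Hom G G' :=
    { fU := 𝟙 G.U
      fR := π
      fU_over := Category.id_comp _
      comm_s := (π_s G ιZ π hπι).trans (Category.comp_id _).symm
      comm_t := (π_t G ιZ π hπι).trans (Category.comp_id _).symm
      comm_c := fun α β h => hc α β h }
  have hj : G'.j = ιZ := by
    unfold Grpd.GroupoidScheme.j
    apply pullback.hom_ext
    · rw [pullback.lift_fst]; rfl
    · rw [pullback.lift_snd]; rfl
  refine ⟨G', φ, ?_, ?_, ?_⟩
  · change IsIso (𝟙 G.U)
    infer_instance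
  · rw [hj]; exact (inferInstance : IsClosedImmersion ιZ)
  · have e1 : G'.j.ker = G.j.ker := by rw [hj]; exact hker
    have e2 : G.j ≫ pullback.map G.pU G.pU G'.pU G'.pU φ.fU φ.fU (𝟙 S)
        ((Category.comp_id _).trans φ.fU_over.symm)
        ((Category.comp_id _).trans φ.fU_over.symm) = G.j := by
      have : pullback.map G.pU G.pU G'.pU G'.pU φ.fU φ.fU (𝟙 S)
          ((Category.comp_id _).trans φ.fU_over.symm)
          ((Category.comp_id _).trans φ.fU_over.symm) = 𝟙 (pullback G.pU G.pU) := by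
        apply pullback.hom_ext
        · rw [pullback.lift_fst]
          exact (Category.comp_id (pullback.fst G.pU G.pU)).trans
            (Category.id_comp (pullback.fst G.pU G.pU)).symm
        · rw [pullback.lift_snd]
          exact (Category.comp_id (pullback.snd G.pU G.pU)).trans
            (Category.id_comp (pullback.snd G.pU G.pU)).symm
      rw [this]
      exact Category.comp_id G.j
    exact e1.trans (congrArg Scheme.Hom.ker e2).symm

end Main


/-- Let (U, R, s, t, c) be a groupoid scheme over S with U the spectrum of a field and R quasi-compact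
(equivalently s, t quasi-compact), and let Z be the scheme-theoretic image of j = (t, s) : R -> U
x_S U. Then (U, Z, pr_0|_Z, pr_1|_Z, pr_02) is a groupoid scheme over S; stated as: there are a
groupoid scheme G' over S and a morphism of groupoid schemes φ : (U, R, s, t, c) -> G' which is an
isomorphism on object schemes, such that j' : G'.R -> G'.U x_S G'.U is a closed immersion whose
kernel ideal sheaf equals the kernel ideal sheaf of j followed by the induced isomorphism U x_S U ->
G'.U x_S G'.U (so G'.R is the scheme-theoretic image of j, transported). (A groupoid scheme carries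
U, R, s, t, c, e, i over S with the groupoid axioms on T-points; c is defined on the fibre product
of s and t and sends a pair (a, b) with s(a) = t(b) to a composed with b.) -/
theorem result (S : Scheme.{u}) (G : Grpd.GroupoidScheme S) (k : Type u) [Field k] (eU : G.U ≅ Spec (CommRingCat.of k)) [CompactSpace G.R] : ∃ (G' : Grpd.GroupoidScheme S) (φ : Grpd.GroupoidScheme.Hom G G'), IsIso φ.fU ∧ IsClosedImmersion G'.j ∧ G'.j.ker = (G.j ≫ pullback.map G.pU G.pU G'.pU G'.pU φ.fU φ.fU (𝟙 S) ((Category.comp_id _).trans φ.fU_over.symm) ((Category.comp_id _).trans φ.fU_over.symm)).ker := by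
  classical
  have hUn : Nonempty G.U := ⟨eU.inv (IsLocalRing.closedPoint k)⟩
  haveI hUi : AlgebraicGeometry.IsIntegral G.U := isIntegral_of_isOpenImmersion eU.hom
  haveI hUs : Subsingleton G.U := eU.hom.homeomorph.subsingleton
  haveI hUa : IsAffine G.U := IsAffine.of_isIso eU.hom
  haveI : QuasiCompact G.t := inferInstance
  haveI hqc : QuasiCompact G.j := by
    haveI : QuasiCompact (G.j ≫ pullback.fst G.pU G.pU) := by
      have : G.j ≫ pullback.fst G.pU G.pU = G.t := pullback.lift_fst _ _ _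
      rw [this]; infer_instance
    exact QuasiCompact.of_comp G.j (pullback.fst G.pU G.pU)
  exact main G G.j.imageι G.j.toImage G.j.toImage_imageι
    (Scheme.IdealSheafData.ker_subschemeι _)

end Groth.Agent.S7509
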