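import Groth.Statements.S7503
import Mathlib
import Groth.Agent.Lib.Helper11RedGrpd
import Groth.Agent.Lib.Helper11EqvGrpd
import Groth.Agent.Lib.Helper11SubGrpd
import Groth.Agent.S7491
import Groth.Agent.S7509

set_option autoImplicit false
universe u
open CategoryTheory CategoryTheory.Limits AlgebraicGeometry
open Grpd

namespace Groth.Agent.S7503

open Groth.Agent.Lib.Helper11 TopologicalSpace Groth.Agent.S7509 Groth.Agent.S7491

set_option linter.unusedSectionVars false

section Main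

variable {S : Scheme.{u}} (G : Grpd.GroupoidScheme S) [Subsingleton G.U]
  [AlgebraicGeometry.IsIntegral G.U] {Z : Scheme.{u}} (ιZ : Z ⟶ pullback G.pU G.pU)
  [IsClosedImmersion ιZ] [IsReduced Z] {A : Scheme.{u}} (a : A ⟶ G.R) (π : A ⟶ Z) [IsDominant π]
  (hπι : π ≫ ιZ = a ≫ G.j)
  (hlift : ∀ {B : Scheme.{u}} [IsReduced B] (h : B ⟶ pullback G.pU G.pU) (D : Set B), Dense D →
    (∀ d ∈ D, h d ∈ Set.range G.j) → ∃ l : B ⟶ Z, l ≫ ιZ = h)
  (hred : IsReduced (pullback (s' G ιZ) (t' G ιZ)))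

include hπι in
theorem π_s : π ≫ s' G ιZ = a ≫ G.s := by
  rw [s', ← Category.assoc, hπι, Category.assoc]
  congr 1
  exact pullback.lift_snd _ _ _

include hπι in
theorem π_t : π ≫ t' G ιZ = a ≫ G.t := by
  rw [t', ← Category.assoc, hπι, Category.assoc]
  congr 1
  exact pullback.lift_fst _ _ _

include hπι hlift in
theorem exists_inv : ∃ i' : Z ⟶ Z, i' ≫ s' G ιZ = t' G ιZ ∧ i' ≫ t' G ιZ = s' G ιZ := by
  obtain ⟨i', hi'⟩ := hlift (ιZ ≫ swap G) (Set.range π) π.denseRange (by
      rintro _ ⟨x, rfl⟩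
      refine ⟨(a ≫ G.i) x, ?_⟩
      have e : (a ≫ G.i) ≫ G.j = π ≫ ιZ ≫ swap G := by
        rw [Category.assoc, ← j_swap, ← Category.assoc, ← hπι, Category.assoc]
      exact congrArg (fun m : A ⟶ pullback G.pU G.pU => m x) e)
  refine ⟨i', ?_, ?_⟩
  · rw [s', t', ← Category.assoc, hi', Category.assoc]
    congr 1
    exact pullback.lift_snd _ _ _
  · rw [s', t', ← Category.assoc, hi', Category.assoc]
    congr 1
    exact pullback.lift_fst _ _ _

include hπι hlift hred in
theorem exists_comp : ∃ c' : pullback (s' G ιZ) (t' G ιZ) ⟶ Z,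
    c' ≫ s' G ιZ = pullback.snd (s' G ιZ) (t' G ιZ) ≫ s' G ιZ ∧
    c' ≫ t' G ιZ = pullback.fst (s' G ιZ) (t' G ιZ) ≫ t' G ιZ := by
  haveI : UniversallyOpen (s' G ιZ) := inferInstance
  haveI : UniversallyOpen (π ≫ t' G ιZ) := inferInstance
  have hdom := RedGrpd.dominant_pullback_map π π (s' G ιZ) (t' G ιZ)
  have hw : (pullback.fst (π ≫ s' G ιZ) (π ≫ t' G ιZ) ≫ a) ≫ G.s =
      (pullback.snd (π ≫ s' G ιZ) (π ≫ t' G ιZ) ≫ a) ≫ G.t := by
    refine (Category.assoc _ _ _).trans ?_
    refine Eq.trans ?_ (Category.assoc _ _ _).symm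
    refine (congrArg (pullback.fst (π ≫ s' G ιZ) (π ≫ t' G ιZ) ≫ ·) (π_s G ιZ a π hπι).symm).trans ?_
    refine (pullback.condition (f := π ≫ s' G ιZ) (g := π ≫ t' G ιZ)).trans ?_
    exact congrArg (pullback.snd (π ≫ s' G ιZ) (π ≫ t' G ιZ) ≫ ·) (π_t G ιZ a π hπι)
  have hcond : pullback.map (π ≫ s' G ιZ) (π ≫ t' G ιZ) (s' G ιZ) (t' G ιZ) π π (𝟙 G.U)
        (Category.comp_id _) (Category.comp_id _) ≫ q G ιZ =
      (pullback.lift _ _ hw ≫ G.c) ≫ G.j := by
    unfold q Grpd.GroupoidScheme.j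
    apply pullback.hom_ext
    · rw [Category.assoc, pullback.lift_fst, pullback.lift_fst_assoc, Category.assoc,
        Category.assoc, pullback.lift_fst, G.comp_t, Category.assoc]
      exact congrArg (pullback.fst (π ≫ s' G ιZ) (π ≫ t' G ιZ) ≫ ·) (π_t G ιZ a π hπι)
    · rw [Category.assoc, pullback.lift_snd, pullback.lift_snd_assoc, Category.assoc,
        Category.assoc, pullback.lift_snd, G.comp_s, Category.assoc]
      exact congrArg (pullback.snd (π ≫ s' G ιZ) (π ≫ t' G ιZ) ≫ ·) (π_s G ιZ a π hπι)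
  obtain ⟨c', hc'⟩ := hlift (q G ιZ)
    (Set.range (pullback.map (π ≫ s' G ιZ) (π ≫ t' G ιZ) (s' G ιZ) (t' G ιZ) π π (𝟙 G.U)
      (Category.comp_id _) (Category.comp_id _))) hdom.denseRange (by
      rintro _ ⟨x, rfl⟩
      refine ⟨(pullback.lift _ _ hw ≫ G.c) x, ?_⟩
      exact (congrArg (fun m : pullback (π ≫ s' G ιZ) (π ≫ t' G ιZ) ⟶ pullback G.pU G.pU => m x)
        hcond).symm)
  have hs : c' ≫ s' G ιZ = pullback.snd (s' G ιZ) (t' G ιZ) ≫ s' G ιZ := by
    have e : c' ≫ s' G ιZ = (c' ≫ ιZ) ≫ pullback.snd G.pU G.pU := (Category.assoc _ _ _).symm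
    rw [e, hc']
    exact pullback.lift_snd _ _ _
  have ht : c' ≫ t' G ιZ = pullback.fst (s' G ιZ) (t' G ιZ) ≫ t' G ιZ := by
    have e : c' ≫ t' G ιZ = (c' ≫ ιZ) ≫ pullback.fst G.pU G.pU := (Category.assoc _ _ _).symm
    rw [e, hc']
    exact pullback.lift_fst _ _ _
  exact ⟨c', hs, ht⟩

include hπι hlift hred in
theorem main :
    ∃ (G' : Grpd.GroupoidScheme S) (ψ : G'.U ≅ G.U) (hψ : ψ.hom ≫ G.pU = G'.pU), IsReduced G'.R ∧
      IsClosedImmersion G'.j ∧ Set.range ⇑(G'.j ≫ pullback.map G'.pU G'.pU G.pU G.pU ψ.hom ψ.hom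
        (𝟙 S) ((Category.comp_id _).trans hψ.symm) ((Category.comp_id _).trans hψ.symm)) =
        Set.range ιZ := by
  obtain ⟨i', hi_s, hi_t⟩ := exists_inv G ιZ a π hπι hlift
  obtain ⟨c', hc_s, hc_t⟩ := exists_comp G ιZ a π hπι hlift hred
  obtain ⟨e', he'⟩ := hlift (G.e ≫ G.j) Set.univ dense_univ (fun d _ => ⟨G.e d, rfl⟩)
  have he_s : e' ≫ s' G ιZ = 𝟙 G.U := by
    rw [s', ← Category.assoc, he', Category.assoc]
    have : G.j ≫ pullback.snd G.pU G.pU = G.s := pullback.lift_snd _ _ _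
    rw [this, G.e_s]
  have he_t : e' ≫ t' G ιZ = 𝟙 G.U := by
    rw [t', ← Category.assoc, he', Category.assoc]
    have : G.j ≫ pullback.fst G.pU G.pU = G.t := pullback.lift_fst _ _ _
    rw [this, G.e_t]
  let G' : Grpd.GroupoidScheme S := EqvGrpd.mk G.pU (s' G ιZ) (t' G ιZ) (hst G ιZ)
    (fun a b h1 h2 => jm G ιZ a b h1 h2) e' he_s he_t i' hi_s hi_t c' hc_s hc_t
  have hj : G'.j = ιZ := by
    unfold Grpd.GroupoidScheme.j
    apply pullback.hom_ext
    · rw [pullback.lift_fst]; rfl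
    · rw [pullback.lift_snd]; rfl
  refine ⟨G', Iso.refl _, Category.id_comp _, ?_, ?_, ?_⟩
  · exact (inferInstance : IsReduced Z)
  · rw [hj]; exact (inferInstance : IsClosedImmersion ιZ)
  · have : pullback.map G'.pU G'.pU G.pU G.pU (Iso.refl G'.U).hom (Iso.refl G'.U).hom (𝟙 S)
        ((Category.comp_id _).trans (Category.id_comp _).symm)
        ((Category.comp_id _).trans (Category.id_comp _).symm) = 𝟙 (pullback G.pU G.pU) := by
      apply pullback.hom_ext
      · rw [pullback.lift_fst]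
        exact (Category.comp_id (pullback.fst G.pU G.pU)).trans
          (Category.id_comp (pullback.fst G.pU G.pU)).symm
      · rw [pullback.lift_snd]
        exact (Category.comp_id (pullback.snd G.pU G.pU)).trans
          (Category.id_comp (pullback.snd G.pU G.pU)).symm
    rw [this, hj]
    exact congrArg (fun m : Z ⟶ pullback G.pU G.pU => Set.range ⇑m) (Category.comp_id ιZ)

end Main


/-- Let (U, R, s, t, c) be a groupoid scheme over S with U the spectrum of a perfect field and let Z be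
the reduced closed subscheme of U x_S U whose underlying set is the closure of the image of j = (t,
s). Then (U, Z, pr_0|_Z, pr_1|_Z, pr_02) is a groupoid scheme over S; stated as: there are a
groupoid scheme G' over S with G'.R reduced and an isomorphism of schemes over S from G'.U to U such
that j' = (t', s') : G'.R -> G'.U x_S G'.U is a closed immersion and the image of j' followed by the
induced isomorphism G'.U x_S G'.U -> U x_S U is the closure of the image of j. (No morphism from (U,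
R, s, t, c) to G' is asserted: when R is not reduced, j need not factor through the reduced
subscheme Z.) (A groupoid scheme carries U, R, s, t, c, e, i over S with the groupoid axioms on
T-points; c is defined on the fibre product of s and t and sends a pair (a, b) with s(a) = t(b) to a
composed with b.) -/
theorem result (S : Scheme.{u}) (G : Grpd.GroupoidScheme S) (k : Type u) [Field k] [PerfectField k] (eU : G.U ≅ Spec (CommRingCat.of k)) : ∃ (G' : Grpd.GroupoidScheme S) (ψ : G'.U ≅ G.U) (hψ : ψ.hom ≫ G.pU = G'.pU), IsReduced G'.R ∧ IsClosedImmersion G'.j ∧ Set.range ⇑(G'.j ≫ pullback.map G'.pU G'.pU G.pU G.pU ψ.hom ψ.hom (𝟙 S) ((Category.comp_id _).trans hψ.symm) ((Category.comp_id _).trans hψ.symm)) = closure (Set.range ⇑G.j) := by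
  classical
  have hUn : Nonempty G.U := ⟨eU.inv (IsLocalRing.closedPoint k)⟩
  haveI hUi : AlgebraicGeometry.IsIntegral G.U := isIntegral_of_isOpenImmersion eU.hom
  haveI hUs : Subsingleton G.U := eU.hom.homeomorph.subsingleton
  obtain ⟨π, hπι⟩ : ∃ π : redSub G.R ⟶ clSub (Set.range G.j),
      π ≫ clι (Set.range G.j) = redι G.R ≫ G.j :=
    RedGrpd.exists_lift_of_dense (redι G.R ≫ G.j) (Set.range G.j) Set.univ
      dense_univ (fun d _ => subset_closure ⟨redι G.R d, rfl⟩)
  haveI : IsDominant π := isDominant_of_lift (Set.range G.j) (redι G.R ≫ G.j) π hπι (by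
    apply closure_mono
    rintro _ ⟨x, rfl⟩
    obtain ⟨y, rfl⟩ := redι_surj G.R x
    exact ⟨y, rfl⟩)
  have hred := RedGrpd.isReduced_pullback_perfect (s' G (clι (Set.range G.j)))
    (t' G (clι (Set.range G.j))) k eU
  have h := main G (clι (Set.range G.j)) (redι G.R) π hπι
    (fun h D hD hDW => RedGrpd.exists_lift_of_dense h (Set.range G.j) D hD
      (fun d hd => subset_closure (hDW d hd))) hred
  rw [range_clι] at h
  exact h

end Groth.Agent.S7503
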