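import Groth.Statements.S7504
import Mathlib
import Groth.Agent.Lib.Helper2Grpd

set_option autoImplicit false
universe u
open CategoryTheory CategoryTheory.Limits AlgebraicGeometry
open Grpd

namespace Groth.Agent.S7504

section Dev
open Groth.Agent.Lib.Helper2.Grpd
variable {S : Scheme.{u}} (G : Grpd.GroupoidScheme S)

/-- For opens `V, W` of `U` and `q : t⁻¹W → V` induced by `s`, the base change of `s∣_V` along `q`
is isomorphic over `t⁻¹W` to the base change of `s∣_W` along `t∣_W`. -/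
theorem exists_iso_restrict (V W : G.U.Opens) (q : (G.t ⁻¹ᵁ W).toScheme ⟶ V.toScheme)
    (hq : q ≫ V.ι = (G.t ⁻¹ᵁ W).ι ≫ G.s) :
    ∃ φ : pullback (G.s ∣_ V) q ≅ pullback (G.s ∣_ W) (G.t ∣_ W),
      φ.hom ≫ pullback.snd _ _ = pullback.snd _ _ := by
  have sqV := isPullback_morphismRestrict G.s V
  have sqW := isPullback_morphismRestrict G.s W
  have htW : (G.t ∣_ W) ≫ W.ι = (G.t ⁻¹ᵁ W).ι ≫ G.t := (morphismRestrict_ι G.t W)
  -- T1
  set a := pullback.fst (G.s ∣_ V) q with ha
  set b := pullback.snd (G.s ∣_ V) q with hb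
  have hab : a ≫ (G.s ∣_ V) = b ≫ q := pullback.condition
  set α := a ≫ (G.s ⁻¹ᵁ V).ι with hα
  set β := b ≫ (G.t ⁻¹ᵁ W).ι with hβ
  have hαβ : α ≫ G.s = β ≫ G.s := by
    rw [hα, hβ, Category.assoc, ← sqV.w, ← Category.assoc, hab, Category.assoc, hq, Category.assoc]
  have hc1 : α ≫ G.s = (β ≫ G.i) ≫ G.t := by rw [hαβ, Category.assoc β, G.i_t]
  -- T2
  set a' := pullback.fst (G.s ∣_ W) (G.t ∣_ W) with ha'
  set b' := pullback.snd (G.s ∣_ W) (G.t ∣_ W) with hb'
  have hab' : a' ≫ (G.s ∣_ W) = b' ≫ (G.t ∣_ W) := pullback.condition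
  set α' := a' ≫ (G.s ⁻¹ᵁ W).ι with hα'
  set β' := b' ≫ (G.t ⁻¹ᵁ W).ι with hβ'
  have hc2 : α' ≫ G.s = β' ≫ G.t := by
    rw [hα', hβ', Category.assoc, ← sqW.w, ← Category.assoc, hab', Category.assoc, htW,
      Category.assoc]
  -- forward map
  have hf1 : (b ≫ (G.t ∣_ W)) ≫ W.ι = comp G α (β ≫ G.i) hc1 ≫ G.s := by
    rw [comp_s, Category.assoc, htW, Category.assoc, G.i_s, hβ, Category.assoc]
  let A : pullback (G.s ∣_ V) q ⟶ (G.s ⁻¹ᵁ W).toScheme := sqW.lift _ _ hf1
  have hA1 : A ≫ (G.s ∣_ W) = b ≫ (G.t ∣_ W) := sqW.lift_fst _ _ hf1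
  have hA2 : A ≫ (G.s ⁻¹ᵁ W).ι = comp G α (β ≫ G.i) hc1 := sqW.lift_snd _ _ hf1
  let F : pullback (G.s ∣_ V) q ⟶ pullback (G.s ∣_ W) (G.t ∣_ W) := pullback.lift A b hA1
  have hF1 : F ≫ a' = A := pullback.lift_fst _ _ _
  have hF2 : F ≫ b' = b := pullback.lift_snd _ _ _
  -- backward map
  have hg1 : (b' ≫ q) ≫ V.ι = comp G α' β' hc2 ≫ G.s := by
    rw [comp_s, Category.assoc, hq, hβ', Category.assoc]
  let B : pullback (G.s ∣_ W) (G.t ∣_ W) ⟶ (G.s ⁻¹ᵁ V).toScheme := sqV.lift _ _ hg1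
  have hB1 : B ≫ (G.s ∣_ V) = b' ≫ q := sqV.lift_fst _ _ hg1
  have hB2 : B ≫ (G.s ⁻¹ᵁ V).ι = comp G α' β' hc2 := sqV.lift_snd _ _ hg1
  let F' : pullback (G.s ∣_ W) (G.t ∣_ W) ⟶ pullback (G.s ∣_ V) q := pullback.lift B b' hB1
  have hF'1 : F' ≫ a = B := pullback.lift_fst _ _ _
  have hF'2 : F' ≫ b = b' := pullback.lift_snd _ _ _
  refine ⟨⟨F, F', ?_, ?_⟩, hF2⟩
  · apply pullback.hom_ext
    · show (F ≫ F') ≫ a = 𝟙 _ ≫ a
      rw [Category.assoc, hF'1, Category.id_comp]
      rw [← cancel_mono (G.s ⁻¹ᵁ V).ι, Category.assoc, hB2, precomp_comp]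
      have e1 : F ≫ α' = comp G α (β ≫ G.i) hc1 := by
        rw [hα', ← Category.assoc, hF1, hA2]
      have e2 : F ≫ β' = β := by rw [hβ', ← Category.assoc, hF2]
      rw [comp_congr G _ e1 e2]
      exact comp_i_comp' G α β hc1 _
    · show (F ≫ F') ≫ b = 𝟙 _ ≫ b
      rw [Category.assoc, hF'2, hF2, Category.id_comp]
  · apply pullback.hom_ext
    · show (F' ≫ F) ≫ a' = 𝟙 _ ≫ a'
      rw [Category.assoc, hF1, Category.id_comp]
      rw [← cancel_mono (G.s ⁻¹ᵁ W).ι, Category.assoc, hA2, precomp_comp]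
      have e1 : F' ≫ α = comp G α' β' hc2 := by
        rw [hα, ← Category.assoc, hF'1, hB2]
      have e2 : F' ≫ β ≫ G.i = β' ≫ G.i := by rw [hβ, ← Category.assoc, ← Category.assoc, hF'2]
      rw [comp_congr G _ e1 e2]
      exact comp_comp_i G α' β' hc2 _
    · show (F' ≫ F) ≫ b' = 𝟙 _ ≫ b'
      rw [Category.assoc, hF2, hF'2, Category.id_comp]

theorem invariant_of_local (Q : MorphismProperty Scheme.{u}) [Q.IsStableUnderBaseChange]
    [Q.IsStableUnderComposition]
    (hQ1 : ∀ {X Y : Scheme.{u}} (f : X ⟶ Y), Q f → IsOpenMap f)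
    (hQ2 : ∀ {X Y : Scheme.{u}} (f : X ⟶ Y), IsOpenImmersion f → Q f)
    (P : MorphismProperty Scheme.{u}) [P.IsLocalAtTarget (Scheme.precoverage Q)]
    (hs : Q G.s) (ht : Q G.t) (W : G.U.Opens) (hW : P (G.s ∣_ W))
    (hmax : ∀ W' : G.U.Opens, P (G.s ∣_ W') → W' ≤ W) : G.s ⁻¹ᵁ W = G.t ⁻¹ᵁ W := by
  have key : G.t ⁻¹ᵁ W ≤ G.s ⁻¹ᵁ W := by
    let V : G.U.Opens := ⟨G.s '' (G.t ⁻¹ᵁ W : Set G.R), hQ1 G.s hs _ (G.t ⁻¹ᵁ W).2⟩
    have hrange : Set.range ((G.t ⁻¹ᵁ W).ι ≫ G.s) ⊆ Set.range V.ι := by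
      rw [Scheme.Opens.range_ι]
      rintro _ ⟨x, rfl⟩
      exact ⟨x.1, x.2, rfl⟩
    let q : (G.t ⁻¹ᵁ W).toScheme ⟶ V.toScheme := IsOpenImmersion.lift V.ι _ hrange
    have hq : q ≫ V.ι = (G.t ⁻¹ᵁ W).ι ≫ G.s := IsOpenImmersion.lift_fac _ _ _
    have hQq : Q q := by
      have h1 : Q (q ≫ V.ι) := by
        rw [hq]; exact Q.comp_mem _ _ (hQ2 _ inferInstance) hs
      exact MorphismProperty.of_postcomp (W := Q) (W' := MorphismProperty.monomorphisms _)
        q V.ι (inferInstanceAs (Mono V.ι)) h1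
    have hqsurj : Function.Surjective q.base := by
      rintro ⟨v, x, hx, rfl⟩
      refine ⟨⟨x, hx⟩, ?_⟩
      apply V.ι.injective
      rw [← Scheme.Hom.comp_apply, hq]
      rfl
    have hcov1 : Presieve.singleton q ∈ Scheme.precoverage Q V.toScheme :=
      (Scheme.singleton_mem_precoverage_iff Q q).mpr ⟨hqsurj, hQq⟩
    have hQt : Q (G.t ∣_ W) :=
      MorphismProperty.of_isPullback (isPullback_morphismRestrict G.t W).flip ht
    have hcov2 : Presieve.ofArrows (fun b : Bool => if b then (G.t ⁻¹ᵁ W).toScheme else W.toScheme)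
        (fun b => match b with | true => G.t ∣_ W | false => 𝟙 _) ∈
        Scheme.precoverage Q W.toScheme := by
      rw [Scheme.ofArrows_mem_precoverage_iff]
      refine ⟨fun x => ⟨false, x, rfl⟩, ?_⟩
      rintro (_ | _)
      · exact hQ2 _ inferInstance
      · exact hQt
    have hP2 : P (pullback.snd (G.s ∣_ W) (G.t ∣_ W)) :=
      MorphismProperty.IsLocalAtTarget.pullbackSnd (K := Scheme.precoverage Q) hcov2
        (Presieve.ofArrows.mk true) hW
    obtain ⟨φ, hφ⟩ := exists_iso_restrict G V W q hq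
    have hP1 : P (pullback.snd (G.s ∣_ V) q) := by
      rw [← hφ, P.cancel_left_of_respectsIso]
      exact hP2
    have hPV : P (G.s ∣_ V) := by
      apply MorphismProperty.IsLocalAtTarget.of_forall_pullbackSnd (K := Scheme.precoverage Q) hcov1
      intro U g _ hg
      cases hg
      exact hP1
    have hVW : V ≤ W := hmax V hPV
    intro x hx
    exact hVW ⟨x, hx, rfl⟩
  apply le_antisymm _ key
  intro x hx
  have h1 : G.i x ∈ G.t ⁻¹ᵁ W := by
    show G.t (G.i x) ∈ W
    rw [← Scheme.Hom.comp_apply, G.i_t]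
    exact hx
  have h2 := key h1
  have h3 : G.s (G.i x) ∈ W := h2
  rw [← Scheme.Hom.comp_apply, G.i_s] at h3
  exact h3

end Dev

/-- Let (U, R, s, t, c) be a groupoid scheme over S, let τ be the Zariski, étale, smooth or fppf
topology (given as the corresponding precoverage K on schemes), and let P be a property of scheme
morphisms that is τ-local on the target. (The published statement also allows the syntomic topology,
which has no precoverage here; this row omits it.) Assume the one-arrow families {s : R -> U} and {t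
: R -> U} are τ-coverings. If W is the largest open subscheme of U such that the restriction
s^{-1}(W) -> W of s has P (W has the property and contains every open with the property), then W is
R-invariant: s^{-1}(W) = t^{-1}(W). (A groupoid scheme carries U, R, s, t, c, e, i over S with the
groupoid axioms on T-points; c is defined on the fibre product of s and t and sends a pair (a, b)
with s(a) = t(b) to a composed with b.) -/
theorem result (S : Scheme.{u}) (G : Grpd.GroupoidScheme S) (K : Precoverage Scheme.{u}) (hK : K = Scheme.zariskiPrecoverage ∨ K = Scheme.etalePrecoverage ∨ K = Scheme.precoverage @Smooth ∨ K = Scheme.fppfPrecoverage) (P : MorphismProperty Scheme.{u}) [P.IsLocalAtTarget K] (hs : Presieve.singleton G.s ∈ K G.U) (ht : Presieve.singleton G.t ∈ K G.U) (W : G.U.Opens) (hW : P (G.s ∣_ W)) (hmax : ∀ W' : G.U.Opens, P (G.s ∣_ W') → W' ≤ W) : G.s ⁻¹ᵁ W = G.t ⁻¹ᵁ W := by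
  have hopen : ∀ {X Y : Scheme.{u}} (f : X ⟶ Y), (@Flat ⊓ @LocallyOfFinitePresentation) f →
      IsOpenMap f := by
    intro X Y f hf
    have h1 : Flat f := hf.1
    have h2 : LocallyOfFinitePresentation f := hf.2
    exact f.isOpenMap
  rcases hK with rfl | rfl | rfl | rfl
  · rw [Scheme.singleton_mem_precoverage_iff] at hs ht
    exact invariant_of_local G @IsOpenImmersion
      (fun f hf => by have : IsOpenImmersion f := hf; exact f.isOpenEmbedding.isOpenMap)
      (fun f hf => hf) P hs.2 ht.2 W hW hmax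
  · have hs' : Presieve.singleton G.s ∈ Scheme.precoverage @Etale G.U := hs
    have ht' : Presieve.singleton G.t ∈ Scheme.precoverage @Etale G.U := ht
    rw [Scheme.singleton_mem_precoverage_iff] at hs' ht'
    have : P.IsLocalAtTarget (Scheme.precoverage @Etale) := ‹P.IsLocalAtTarget Scheme.etalePrecoverage›
    exact invariant_of_local G @Etale
      (fun f hf => by have : Etale f := hf; exact hopen f ⟨inferInstance, inferInstance⟩)
      (fun f hf => by have : IsOpenImmersion f := hf; exact (inferInstance : Etale f))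
      P hs'.2 ht'.2 W hW hmax
  · rw [Scheme.singleton_mem_precoverage_iff] at hs ht
    exact invariant_of_local G @Smooth
      (fun f hf => by have : Smooth f := hf; exact hopen f ⟨inferInstance, inferInstance⟩)
      (fun f hf => by have : IsOpenImmersion f := hf; exact (inferInstance : Smooth f))
      P hs.2 ht.2 W hW hmax
  · have hs' : Presieve.singleton G.s ∈
        Scheme.precoverage (@Flat ⊓ @LocallyOfFinitePresentation) G.U := hs
    have ht' : Presieve.singleton G.t ∈
        Scheme.precoverage (@Flat ⊓ @LocallyOfFinitePresentation) G.U := ht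
    rw [Scheme.singleton_mem_precoverage_iff] at hs' ht'
    have : P.IsLocalAtTarget (Scheme.precoverage (@Flat ⊓ @LocallyOfFinitePresentation)) :=
      ‹P.IsLocalAtTarget Scheme.fppfPrecoverage›
    exact invariant_of_local G (@Flat ⊓ @LocallyOfFinitePresentation)
      (fun f hf => hopen f hf)
      (fun f hf => by have : IsOpenImmersion f := hf; exact ⟨inferInstance, inferInstance⟩)
      P hs'.2 ht'.2 W hW hmax

end Groth.Agent.S7504
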