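import Groth.Statements.S7505
import Mathlib
import Groth.Agent.Lib.Helper2Grpd

set_option autoImplicit false
universe u
open CategoryTheory CategoryTheory.Limits AlgebraicGeometry
open Grpd

namespace Groth.Agent.S7505

section Dev
open Groth.Agent.Lib.Helper2.Grpd
variable {S : Scheme.{u}} (G : Grpd.GroupoidScheme S) {T T' : Scheme.{u}}

/-- `β γ β⁻¹` for `γ` an automorphism of `s β`. -/
noncomputable def conj (β γ : T ⟶ G.R) (h1 : γ ≫ G.t = β ≫ G.s) (h2 : γ ≫ G.s = β ≫ G.s) :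
    T ⟶ G.R :=
  comp G (comp G β γ h1.symm) (β ≫ G.i)
    (by rw [comp_s, h2, Category.assoc, G.i_t])

lemma conj_t (β γ : T ⟶ G.R) (h1 : γ ≫ G.t = β ≫ G.s) (h2 : γ ≫ G.s = β ≫ G.s) :
    conj G β γ h1 h2 ≫ G.t = β ≫ G.t := by
  unfold conj; rw [comp_t, comp_t]

lemma conj_s (β γ : T ⟶ G.R) (h1 : γ ≫ G.t = β ≫ G.s) (h2 : γ ≫ G.s = β ≫ G.s) :
    conj G β γ h1 h2 ≫ G.s = β ≫ G.t := by
  unfold conj; rw [comp_s, Category.assoc, G.i_s]

/-- `β⁻¹ γ β` for `γ` an automorphism of `t β`. -/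
noncomputable def conj' (β γ : T ⟶ G.R) (h1 : γ ≫ G.t = β ≫ G.t) (h2 : γ ≫ G.s = β ≫ G.t) :
    T ⟶ G.R :=
  comp G (comp G (β ≫ G.i) γ (by rw [Category.assoc, G.i_s, h1])) β
    (by rw [comp_s, h2])

lemma conj'_t (β γ : T ⟶ G.R) (h1 : γ ≫ G.t = β ≫ G.t) (h2 : γ ≫ G.s = β ≫ G.t) :
    conj' G β γ h1 h2 ≫ G.t = β ≫ G.s := by
  unfold conj'; rw [comp_t, comp_t, Category.assoc, G.i_t]

lemma conj'_s (β γ : T ⟶ G.R) (h1 : γ ≫ G.t = β ≫ G.t) (h2 : γ ≫ G.s = β ≫ G.t) :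
    conj' G β γ h1 h2 ≫ G.s = β ≫ G.s := by
  unfold conj'; rw [comp_s]

lemma conj_congr {β β' γ γ' : T ⟶ G.R} (h1 : γ ≫ G.t = β ≫ G.s) (h2 : γ ≫ G.s = β ≫ G.s)
    (hβ : β = β') (hγ : γ = γ') :
    conj G β γ h1 h2 = conj G β' γ' (by rw [← hβ, ← hγ]; exact h1) (by rw [← hβ, ← hγ]; exact h2) := by
  subst hβ hγ; rfl

lemma conj'_congr {β β' γ γ' : T ⟶ G.R} (h1 : γ ≫ G.t = β ≫ G.t) (h2 : γ ≫ G.s = β ≫ G.t)
    (hβ : β = β') (hγ : γ = γ') :
    conj' G β γ h1 h2 = conj' G β' γ' (by rw [← hβ, ← hγ]; exact h1) (by rw [← hβ, ← hγ]; exact h2) := by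
  subst hβ hγ; rfl

lemma precomp_conj (f : T' ⟶ T) (β γ : T ⟶ G.R) (h1 : γ ≫ G.t = β ≫ G.s)
    (h2 : γ ≫ G.s = β ≫ G.s) :
    f ≫ conj G β γ h1 h2 = conj G (f ≫ β) (f ≫ γ)
      (by rw [Category.assoc, Category.assoc, h1]) (by rw [Category.assoc, Category.assoc, h2]) := by
  unfold conj
  rw [precomp_comp]
  have e1 : f ≫ comp G β γ h1.symm = comp G (f ≫ β) (f ≫ γ)
      (by rw [Category.assoc, Category.assoc, h1]) := precomp_comp G f β γ _
  have e2 : f ≫ β ≫ G.i = (f ≫ β) ≫ G.i := (Category.assoc _ _ _).symm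
  exact comp_congr G _ e1 e2

lemma precomp_conj' (f : T' ⟶ T) (β γ : T ⟶ G.R) (h1 : γ ≫ G.t = β ≫ G.t)
    (h2 : γ ≫ G.s = β ≫ G.t) :
    f ≫ conj' G β γ h1 h2 = conj' G (f ≫ β) (f ≫ γ)
      (by rw [Category.assoc, Category.assoc, h1]) (by rw [Category.assoc, Category.assoc, h2]) := by
  unfold conj'
  rw [precomp_comp]
  have e1 : f ≫ comp G (β ≫ G.i) γ (by rw [Category.assoc, G.i_s, h1]) =
      comp G ((f ≫ β) ≫ G.i) (f ≫ γ)
      (by rw [Category.assoc, Category.assoc, Category.assoc, G.i_s, h1]) := by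
    rw [precomp_comp]
    exact comp_congr G _ (Category.assoc _ _ _).symm rfl
  exact comp_congr G _ e1 rfl

/-- `β⁻¹ (β γ β⁻¹) β = γ` -/
lemma conj'_conj (β γ : T ⟶ G.R) (h1 : γ ≫ G.t = β ≫ G.s) (h2 : γ ≫ G.s = β ≫ G.s)
    (h3 : conj G β γ h1 h2 ≫ G.t = β ≫ G.t) (h4 : conj G β γ h1 h2 ≫ G.s = β ≫ G.t) :
    conj' G β (conj G β γ h1 h2) h3 h4 = γ := by
  unfold conj'
  have hi : (β ≫ G.i) ≫ G.s = comp G β γ h1.symm ≫ G.t := by
    rw [comp_t, Category.assoc, G.i_s]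
  have hc : comp G β γ h1.symm ≫ G.s = (β ≫ G.i) ≫ G.t := by
    rw [comp_s, h2, Category.assoc, G.i_t]
  -- inner: β⁻¹ ((βγ) β⁻¹) = (β⁻¹ (βγ)) β⁻¹ = γ β⁻¹
  have e1 : comp G (β ≫ G.i) (conj G β γ h1 h2) (by rw [Category.assoc, G.i_s, h3]) =
      comp G γ (β ≫ G.i) (by rw [h2, Category.assoc, G.i_t]) := by
    unfold conj
    rw [← comp_assoc G (β ≫ G.i) (comp G β γ h1.symm) (β ≫ G.i) hi hc]
    exact comp_congr G _ (i_comp_comp G β γ h1.symm hi) rfl
  rw [comp_congr G _ e1 rfl]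
  exact comp_i_comp' G γ β _ _

/-- `β (β⁻¹ γ β) β⁻¹ = γ` -/
lemma conj_conj' (β γ : T ⟶ G.R) (h1 : γ ≫ G.t = β ≫ G.t) (h2 : γ ≫ G.s = β ≫ G.t)
    (h3 : conj' G β γ h1 h2 ≫ G.t = β ≫ G.s) (h4 : conj' G β γ h1 h2 ≫ G.s = β ≫ G.s) :
    conj G β (conj' G β γ h1 h2) h3 h4 = γ := by
  unfold conj
  have hi : (β ≫ G.i) ≫ G.s = γ ≫ G.t := by rw [Category.assoc, G.i_s, h1]
  have hc : comp G (β ≫ G.i) γ hi ≫ G.s = β ≫ G.t := by rw [comp_s, h2]
  have hb : β ≫ G.s = comp G (β ≫ G.i) γ hi ≫ G.t := by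
    rw [comp_t, Category.assoc, G.i_t]
  -- inner: β ((β⁻¹γ) β) = (β (β⁻¹ γ)) β = γ β
  have e1 : comp G β (conj' G β γ h1 h2) h3.symm = comp G γ β h2 := by
    unfold conj'
    rw [← comp_assoc G β (comp G (β ≫ G.i) γ hi) β hb hc]
    exact comp_congr G _ (comp_i_comp G β γ hi hb) rfl
  rw [comp_congr G _ e1 rfl]
  exact comp_comp_i G γ β h2 _

lemma j_fst : G.j ≫ pullback.fst G.pU G.pU = G.t := by
  unfold Grpd.GroupoidScheme.j; exact pullback.lift_fst _ _ _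

lemma j_snd : G.j ≫ pullback.snd G.pU G.pU = G.s := by
  unfold Grpd.GroupoidScheme.j; exact pullback.lift_snd _ _ _

lemma diag_fst : G.diag ≫ pullback.fst G.pU G.pU = 𝟙 _ := by
  unfold Grpd.GroupoidScheme.diag; exact pullback.lift_fst _ _ _

lemma diag_snd : G.diag ≫ pullback.snd G.pU G.pU = 𝟙 _ := by
  unfold Grpd.GroupoidScheme.diag; exact pullback.lift_snd _ _ _

/-- arrow part of the stabilizer -/
noncomputable def stabFst : G.stabilizer ⟶ G.R := pullback.fst G.j G.diag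

lemma stabFst_j : stabFst G ≫ G.j = G.stabilizerToU ≫ G.diag :=
  pullback.condition (f := G.j) (g := G.diag)

lemma stabFst_t : stabFst G ≫ G.t = G.stabilizerToU := by
  have h1 := congr($(stabFst_j G) ≫ pullback.fst G.pU G.pU)
  rw [Category.assoc, Category.assoc, j_fst, diag_fst, Category.comp_id] at h1
  exact h1

lemma stabFst_s : stabFst G ≫ G.s = G.stabilizerToU := by
  have h1 := congr($(stabFst_j G) ≫ pullback.snd G.pU G.pU)
  rw [Category.assoc, Category.assoc, j_snd, diag_snd, Category.comp_id] at h1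
  exact h1

noncomputable def mkStab (γ : T ⟶ G.R) (u : T ⟶ G.U) (h1 : γ ≫ G.t = u) (h2 : γ ≫ G.s = u) :
    T ⟶ G.stabilizer :=
  pullback.lift γ u (by
    apply pullback.hom_ext
    · rw [Category.assoc, Category.assoc, j_fst, diag_fst, Category.comp_id, h1]
    · rw [Category.assoc, Category.assoc, j_snd, diag_snd, Category.comp_id, h2])

lemma mkStab_fst (γ : T ⟶ G.R) (u : T ⟶ G.U) (h1 : γ ≫ G.t = u) (h2 : γ ≫ G.s = u) :
    mkStab G γ u h1 h2 ≫ stabFst G = γ := pullback.lift_fst _ _ _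

lemma mkStab_snd (γ : T ⟶ G.R) (u : T ⟶ G.U) (h1 : γ ≫ G.t = u) (h2 : γ ≫ G.s = u) :
    mkStab G γ u h1 h2 ≫ G.stabilizerToU = u := pullback.lift_snd _ _ _

lemma stab_ext (σ σ' : T ⟶ G.stabilizer)
    (h : σ ≫ stabFst G = σ' ≫ stabFst G) : σ = σ' := by
  apply pullback.hom_ext h
  have h1 : σ ≫ G.stabilizerToU = σ' ≫ G.stabilizerToU := by
    rw [← stabFst_t, ← Category.assoc, h, Category.assoc]
  exact h1

theorem exists_iso_restrict_stab (V W : G.U.Opens) (q : (G.t ⁻¹ᵁ W).toScheme ⟶ V.toScheme)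
    (hq : q ≫ V.ι = (G.t ⁻¹ᵁ W).ι ≫ G.s) :
    ∃ φ : pullback (G.stabilizerToU ∣_ V) q ≅ pullback (G.stabilizerToU ∣_ W) (G.t ∣_ W),
      φ.hom ≫ pullback.snd _ _ = pullback.snd _ _ := by
  set p := G.stabilizerToU with hp
  have sqV := isPullback_morphismRestrict p V
  have sqW := isPullback_morphismRestrict p W
  have htW : (G.t ∣_ W) ≫ W.ι = (G.t ⁻¹ᵁ W).ι ≫ G.t := (morphismRestrict_ι G.t W)
  -- T1
  set a := pullback.fst (p ∣_ V) q with ha
  set b := pullback.snd (p ∣_ V) q with hb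
  have hab : a ≫ (p ∣_ V) = b ≫ q := pullback.condition
  set γ := (a ≫ (p ⁻¹ᵁ V).ι) ≫ stabFst G with hγ
  set β := b ≫ (G.t ⁻¹ᵁ W).ι with hβ
  have hpa : (a ≫ (p ⁻¹ᵁ V).ι) ≫ p = β ≫ G.s := by
    rw [Category.assoc, ← sqV.w, ← Category.assoc, hab, Category.assoc, hq, hβ, Category.assoc]
  have h1 : γ ≫ G.t = β ≫ G.s := by rw [hγ, Category.assoc _ (stabFst G), stabFst_t, ← hp, hpa]
  have h2 : γ ≫ G.s = β ≫ G.s := by rw [hγ, Category.assoc _ (stabFst G), stabFst_s, ← hp, hpa]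
  -- T2
  set a' := pullback.fst (p ∣_ W) (G.t ∣_ W) with ha'
  set b' := pullback.snd (p ∣_ W) (G.t ∣_ W) with hb'
  have hab' : a' ≫ (p ∣_ W) = b' ≫ (G.t ∣_ W) := pullback.condition
  set γ' := (a' ≫ (p ⁻¹ᵁ W).ι) ≫ stabFst G with hγ'
  set β' := b' ≫ (G.t ⁻¹ᵁ W).ι with hβ'
  have hpa' : (a' ≫ (p ⁻¹ᵁ W).ι) ≫ p = β' ≫ G.t := by
    rw [Category.assoc, ← sqW.w, ← Category.assoc, hab', Category.assoc, htW, hβ', Category.assoc]
  have h1' : γ' ≫ G.t = β' ≫ G.t := by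
    rw [hγ', Category.assoc _ (stabFst G), stabFst_t, ← hp, hpa']
  have h2' : γ' ≫ G.s = β' ≫ G.t := by
    rw [hγ', Category.assoc _ (stabFst G), stabFst_s, ← hp, hpa']
  -- forward
  let Sg1 : pullback (p ∣_ V) q ⟶ G.stabilizer :=
    mkStab G (conj G β γ h1 h2) (β ≫ G.t) (conj_t G β γ h1 h2) (conj_s G β γ h1 h2)
  have hf1 : (b ≫ (G.t ∣_ W)) ≫ W.ι = Sg1 ≫ p := by
    rw [mkStab_snd, Category.assoc, htW, hβ, Category.assoc]
  let A : pullback (p ∣_ V) q ⟶ (p ⁻¹ᵁ W).toScheme := sqW.lift _ _ hf1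
  have hA1 : A ≫ (p ∣_ W) = b ≫ (G.t ∣_ W) := sqW.lift_fst _ _ hf1
  have hA2 : A ≫ (p ⁻¹ᵁ W).ι = Sg1 := sqW.lift_snd _ _ hf1
  let F : pullback (p ∣_ V) q ⟶ pullback (p ∣_ W) (G.t ∣_ W) := pullback.lift A b hA1
  have hF1 : F ≫ a' = A := pullback.lift_fst _ _ _
  have hF2 : F ≫ b' = b := pullback.lift_snd _ _ _
  -- backward
  let Sg2 : pullback (p ∣_ W) (G.t ∣_ W) ⟶ G.stabilizer :=
    mkStab G (conj' G β' γ' h1' h2') (β' ≫ G.s) (conj'_t G β' γ' h1' h2') (conj'_s G β' γ' h1' h2')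
  have hg1 : (b' ≫ q) ≫ V.ι = Sg2 ≫ p := by
    rw [mkStab_snd, Category.assoc, hq, hβ', Category.assoc]
  let B : pullback (p ∣_ W) (G.t ∣_ W) ⟶ (p ⁻¹ᵁ V).toScheme := sqV.lift _ _ hg1
  have hB1 : B ≫ (p ∣_ V) = b' ≫ q := sqV.lift_fst _ _ hg1
  have hB2 : B ≫ (p ⁻¹ᵁ V).ι = Sg2 := sqV.lift_snd _ _ hg1
  let F' : pullback (p ∣_ W) (G.t ∣_ W) ⟶ pullback (p ∣_ V) q := pullback.lift B b' hB1
  have hF'1 : F' ≫ a = B := pullback.lift_fst _ _ _
  have hF'2 : F' ≫ b = b' := pullback.lift_snd _ _ _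
  refine ⟨⟨F, F', ?_, ?_⟩, hF2⟩
  · apply pullback.hom_ext
    · show (F ≫ F') ≫ a = 𝟙 _ ≫ a
      rw [Category.assoc, hF'1, Category.id_comp]
      rw [← cancel_mono (p ⁻¹ᵁ V).ι, Category.assoc, hB2]
      apply stab_ext
      rw [Category.assoc, mkStab_fst, precomp_conj']
      have e1 : F ≫ β' = β := by rw [hβ', ← Category.assoc, hF2]
      have e2 : F ≫ γ' = conj G β γ h1 h2 := by
        rw [hγ', ← Category.assoc, ← Category.assoc, hF1, hA2, mkStab_fst]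
      rw [conj'_congr G _ _ e1 e2]
      exact conj'_conj G β γ h1 h2 _ _
    · show (F ≫ F') ≫ b = 𝟙 _ ≫ b
      rw [Category.assoc, hF'2, hF2, Category.id_comp]
  · apply pullback.hom_ext
    · show (F' ≫ F) ≫ a' = 𝟙 _ ≫ a'
      rw [Category.assoc, hF1, Category.id_comp]
      rw [← cancel_mono (p ⁻¹ᵁ W).ι, Category.assoc, hA2]
      apply stab_ext
      rw [Category.assoc, mkStab_fst, precomp_conj]
      have e1 : F' ≫ β = β' := by rw [hβ, ← Category.assoc, hF'2]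
      have e2 : F' ≫ γ = conj' G β' γ' h1' h2' := by
        rw [hγ, ← Category.assoc, ← Category.assoc, hF'1, hB2, mkStab_fst]
      rw [conj_congr G _ _ e1 e2]
      exact conj_conj' G β' γ' h1' h2' _ _
    · show (F' ≫ F) ≫ b' = 𝟙 _ ≫ b'
      rw [Category.assoc, hF2, hF'2, Category.id_comp]


theorem invariant_of_local' {X : Scheme.{u}} (p : X ⟶ G.U)
    (hiso : ∀ (V W : G.U.Opens) (q : (G.t ⁻¹ᵁ W).toScheme ⟶ V.toScheme)
      (_ : q ≫ V.ι = (G.t ⁻¹ᵁ W).ι ≫ G.s),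
      ∃ φ : pullback (p ∣_ V) q ≅ pullback (p ∣_ W) (G.t ∣_ W),
        φ.hom ≫ pullback.snd _ _ = pullback.snd _ _)
    (Q : MorphismProperty Scheme.{u}) [Q.IsStableUnderBaseChange]
    [Q.IsStableUnderComposition]
    (hQ1 : ∀ {X Y : Scheme.{u}} (f : X ⟶ Y), Q f → IsOpenMap f)
    (hQ2 : ∀ {X Y : Scheme.{u}} (f : X ⟶ Y), IsOpenImmersion f → Q f)
    (P : MorphismProperty Scheme.{u}) [P.IsLocalAtTarget (Scheme.precoverage Q)]
    (hs : Q G.s) (ht : Q G.t) (W : G.U.Opens) (hW : P (p ∣_ W))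
    (hmax : ∀ W' : G.U.Opens, P (p ∣_ W') → W' ≤ W) : G.s ⁻¹ᵁ W = G.t ⁻¹ᵁ W := by
  have key : G.t ⁻¹ᵁ W ≤ G.s ⁻¹ᵁ W := by
    let V : G.U.Opens := ⟨G.s '' (G.t ⁻¹ᵁ W : Set G.R), hQ1 G.s hs _ (G.t ⁻¹ᵁ W).2⟩
    have hrange : Set.range ((G.t ⁻¹ᵁ W).ι ≫ G.s) ⊆ Set.range V.ι := by
      rw [Scheme.Opens.range_ι]
      rintro _ ⟨x, rfl⟩
      exact ⟨x.1, x.2, rfl⟩
    let q : (G.t ⁻¹ᵁ W).toScheme ⟶ V.toScheme := IsOpenImmersion.lift V.ι _ hrange
    have hq : q ≫ V.ι = (G.t ⁻¹ᵁ W).ι ≫ G.s := IsOpenImmersion.lift_fac _ _ _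
    have hQq : Q q := by
      have h1 : Q (q ≫ V.ι) := by
        rw [hq]; exact Q.comp_mem _ _ (hQ2 _ inferInstance) hs
      exact MorphismProperty.of_postcomp (W := Q) (W' := MorphismProperty.monomorphisms _)
        q V.ι (inferInstanceAs (Mono V.ι)) h1
    have hqsurj : Function.Surjective q.base := by
      rintro ⟨v, x, hx, rfl⟩
      refine ⟨⟨x, hx⟩, ?_⟩
      apply V.ι.injective
      rw [← Scheme.Hom.comp_apply, hq]
      rfl
    have hcov1 : Presieve.singleton q ∈ Scheme.precoverage Q V.toScheme :=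
      (Scheme.singleton_mem_precoverage_iff Q q).mpr ⟨hqsurj, hQq⟩
    have hQt : Q (G.t ∣_ W) :=
      MorphismProperty.of_isPullback (isPullback_morphismRestrict G.t W).flip ht
    have hcov2 : Presieve.ofArrows (fun b : Bool => if b then (G.t ⁻¹ᵁ W).toScheme else W.toScheme)
        (fun b => match b with | true => G.t ∣_ W | false => 𝟙 _) ∈
        Scheme.precoverage Q W.toScheme := by
      rw [Scheme.ofArrows_mem_precoverage_iff]
      refine ⟨fun x => ⟨false, x, rfl⟩, ?_⟩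
      rintro (_ | _)
      · exact hQ2 _ inferInstance
      · exact hQt
    have hP2 : P (pullback.snd (p ∣_ W) (G.t ∣_ W)) :=
      MorphismProperty.IsLocalAtTarget.pullbackSnd (K := Scheme.precoverage Q) hcov2
        (Presieve.ofArrows.mk true) hW
    obtain ⟨φ, hφ⟩ := hiso V W q hq
    have hP1 : P (pullback.snd (p ∣_ V) q) := by
      rw [← hφ, P.cancel_left_of_respectsIso]
      exact hP2
    have hPV : P (p ∣_ V) := by
      apply MorphismProperty.IsLocalAtTarget.of_forall_pullbackSnd (K := Scheme.precoverage Q) hcov1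
      intro U g _ hg
      cases hg
      exact hP1
    have hVW : V ≤ W := hmax V hPV
    intro x hx
    exact hVW ⟨x, hx, rfl⟩
  apply le_antisymm _ key
  intro x hx
  have h1 : G.i x ∈ G.t ⁻¹ᵁ W := by
    show G.t (G.i x) ∈ W
    rw [← Scheme.Hom.comp_apply, G.i_t]
    exact hx
  have h2 := key h1
  have h3 : G.s (G.i x) ∈ W := h2
  rw [← Scheme.Hom.comp_apply, G.i_s] at h3
  exact h3

end Dev

/-- Let (U, R, s, t, c) be a groupoid scheme over S with stabilizer group scheme G -> U, let τ be the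
étale, smooth or fppf topology (given as the corresponding precoverage K), and let P be a property
of scheme morphisms that is τ-local on the target. (The published statement also allows the syntomic
topology; this row omits it.) Assume {s : R -> U} and {t : R -> U} are τ-coverings. If W is the
largest open subscheme of U such that the restriction G_W -> W of the stabilizer has P, then W is
R-invariant: s^{-1}(W) = t^{-1}(W). (A groupoid scheme carries U, R, s, t, c, e, i over S with the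
groupoid axioms on T-points; c is defined on the fibre product of s and t and sends a pair (a, b)
with s(a) = t(b) to a composed with b.) -/
theorem result (S : Scheme.{u}) (G : Grpd.GroupoidScheme S) (K : Precoverage Scheme.{u}) (hK : K = Scheme.etalePrecoverage ∨ K = Scheme.precoverage @Smooth ∨ K = Scheme.fppfPrecoverage) (P : MorphismProperty Scheme.{u}) [P.IsLocalAtTarget K] (hs : Presieve.singleton G.s ∈ K G.U) (ht : Presieve.singleton G.t ∈ K G.U) (W : G.U.Opens) (hW : P (G.stabilizerToU ∣_ W)) (hmax : ∀ W' : G.U.Opens, P (G.stabilizerToU ∣_ W') → W' ≤ W) : G.s ⁻¹ᵁ W = G.t ⁻¹ᵁ W := by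
  have hopen : ∀ {X Y : Scheme.{u}} (f : X ⟶ Y), (@Flat ⊓ @LocallyOfFinitePresentation) f →
      IsOpenMap f := by
    intro X Y f hf
    have h1 : Flat f := hf.1
    have h2 : LocallyOfFinitePresentation f := hf.2
    exact f.isOpenMap
  have hiso := exists_iso_restrict_stab G
  rcases hK with rfl | rfl | rfl
  · have hs' : Presieve.singleton G.s ∈ Scheme.precoverage @Etale G.U := hs
    have ht' : Presieve.singleton G.t ∈ Scheme.precoverage @Etale G.U := ht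
    rw [Scheme.singleton_mem_precoverage_iff] at hs' ht'
    have : P.IsLocalAtTarget (Scheme.precoverage @Etale) := ‹P.IsLocalAtTarget Scheme.etalePrecoverage›
    exact invariant_of_local' G G.stabilizerToU hiso @Etale
      (fun f hf => by have : Etale f := hf; exact hopen f ⟨inferInstance, inferInstance⟩)
      (fun f hf => by have : IsOpenImmersion f := hf; exact (inferInstance : Etale f))
      P hs'.2 ht'.2 W hW hmax
  · rw [Scheme.singleton_mem_precoverage_iff] at hs ht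
    exact invariant_of_local' G G.stabilizerToU hiso @Smooth
      (fun f hf => by have : Smooth f := hf; exact hopen f ⟨inferInstance, inferInstance⟩)
      (fun f hf => by have : IsOpenImmersion f := hf; exact (inferInstance : Smooth f))
      P hs.2 ht.2 W hW hmax
  · have hs' : Presieve.singleton G.s ∈
        Scheme.precoverage (@Flat ⊓ @LocallyOfFinitePresentation) G.U := hs
    have ht' : Presieve.singleton G.t ∈
        Scheme.precoverage (@Flat ⊓ @LocallyOfFinitePresentation) G.U := ht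
    rw [Scheme.singleton_mem_precoverage_iff] at hs' ht'
    have : P.IsLocalAtTarget (Scheme.precoverage (@Flat ⊓ @LocallyOfFinitePresentation)) :=
      ‹P.IsLocalAtTarget Scheme.fppfPrecoverage›
    exact invariant_of_local' G G.stabilizerToU hiso (@Flat ⊓ @LocallyOfFinitePresentation)
      (fun f hf => hopen f hf)
      (fun f hf => by have : IsOpenImmersion f := hf; exact ⟨inferInstance, inferInstance⟩)
      P hs'.2 ht'.2 W hW hmax

end Groth.Agent.S7505
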