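import Groth.Statements.S7510
import Mathlib
import Groth.Agent.Lib.Helper2Grpd

set_option autoImplicit false
universe u
open CategoryTheory CategoryTheory.Limits AlgebraicGeometry
open Grpd

namespace Groth.Agent.S7510

section Dev
open Groth.Agent.Lib.Helper2.Grpd
/-- largest opens are transported by isomorphisms over the base -/
theorem W_iso (P Q : MorphismProperty Scheme.{u}) [P.RespectsIso]
    (W : ∀ {X Y : Scheme.{u}} (f : X ⟶ Y), Q f → X.Opens)
    (hWP : ∀ {X Y : Scheme.{u}} (f : X ⟶ Y) (hf : Q f), P ((W f hf).ι ≫ f))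
    (hWmax : ∀ {X Y : Scheme.{u}} (f : X ⟶ Y) (hf : Q f) (V : X.Opens), P (V.ι ≫ f) → V ≤ W f hf)
    {Y1 Y2 Z : Scheme.{u}} (θ : Y1 ≅ Y2) (b1 : Y1 ⟶ Z) (b2 : Y2 ⟶ Z) (hθ : θ.hom ≫ b2 = b1)
    (h1 : Q b1) (h2 : Q b2) : θ.hom ⁻¹ᵁ (W b2 h2) = W b1 h1 := by
  have key : ∀ {Y1 Y2 : Scheme.{u}} (θ : Y1 ⟶ Y2) [IsIso θ] (b1 : Y1 ⟶ Z) (b2 : Y2 ⟶ Z)
      (hθ : θ ≫ b2 = b1) (h1 : Q b1) (h2 : Q b2), θ ⁻¹ᵁ (W b2 h2) ≤ W b1 h1 := by
    intro Y1 Y2 θ _ b1 b2 hθ h1 h2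
    apply hWmax
    have e1 : (θ ⁻¹ᵁ (W b2 h2)).ι ≫ b1 = (θ ∣_ (W b2 h2)) ≫ ((W b2 h2).ι ≫ b2) := by
      rw [← hθ, ← Category.assoc, ← Category.assoc, morphismRestrict_ι]
    rw [e1, P.cancel_left_of_respectsIso]
    exact hWP b2 h2
  apply le_antisymm (key θ.hom b1 b2 hθ h1 h2)
  have h3 := key θ.inv b2 b1 (by rw [← hθ, Iso.inv_hom_id_assoc]) h2 h1
  intro x hx
  have : θ.inv (θ.hom x) = x := by
    rw [← Scheme.Hom.comp_apply, Iso.hom_inv_id]; rfl
  have h4 : θ.hom x ∈ θ.inv ⁻¹ᵁ (W b1 h1) := by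
    show θ.inv (θ.hom x) ∈ W b1 h1
    rw [this]; exact hx
  exact h3 h4

variable {S : Scheme.{u}} (G : Grpd.GroupoidScheme S) {U' : Scheme.{u}} (g : U' ⟶ G.U)

/-- the iso `(U' ×_U R) ×_{h,U,t} R ≅ (U' ×_U R) ×_{h,U,s} R`, `((u',r₁),r) ↦ ((u', r₁ r), r)`,
together with the section `τ`. -/
theorem exists_theta :
    ∃ (θ : pullback (pullback.snd g G.t ≫ G.s) G.t ≅ pullback (pullback.snd g G.t ≫ G.s) G.s)
      (τ : pullback g G.t ⟶ pullback (pullback.snd g G.t ≫ G.s) G.t)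
      (σ : U' ⟶ pullback g G.t),
      θ.hom ≫ pullback.snd _ _ = pullback.snd _ _ ∧
      τ ≫ pullback.fst _ _ = pullback.fst g G.t ≫ σ ∧
      τ ≫ θ.hom ≫ pullback.fst _ _ = 𝟙 _ := by
  set pr1 := pullback.fst g G.t with hpr1
  set pr2 := pullback.snd g G.t with hpr2
  have hX : pr1 ≫ g = pr2 ≫ G.t := pullback.condition
  set h := pr2 ≫ G.s with hh
  set a1 := pullback.fst h G.t with ha1
  set b1 := pullback.snd h G.t with hb1
  set a2 := pullback.fst h G.s with ha2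
  set b2 := pullback.snd h G.s with hb2
  have hY1 : a1 ≫ h = b1 ≫ G.t := pullback.condition
  have hY2 : a2 ≫ h = b2 ≫ G.s := pullback.condition
  have hcond1 : (a1 ≫ pr2) ≫ G.s = b1 ≫ G.t := by rw [Category.assoc]; exact hY1
  have hcond2 : (a2 ≫ pr2) ≫ G.s = (b2 ≫ G.i) ≫ G.t := by
    rw [Category.assoc, Category.assoc, G.i_t]; exact hY2
  let A : pullback h G.t ⟶ pullback g G.t :=
    pullback.lift (a1 ≫ pr1) (comp G (a1 ≫ pr2) b1 hcond1) (by
      rw [comp_t, Category.assoc, Category.assoc, hX])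
  have hA1 : A ≫ pr1 = a1 ≫ pr1 := pullback.lift_fst _ _ _
  have hA2 : A ≫ pr2 = comp G (a1 ≫ pr2) b1 hcond1 := pullback.lift_snd _ _ _
  let B : pullback h G.s ⟶ pullback g G.t :=
    pullback.lift (a2 ≫ pr1) (comp G (a2 ≫ pr2) (b2 ≫ G.i) hcond2) (by
      rw [comp_t, Category.assoc, Category.assoc, hX])
  have hB1 : B ≫ pr1 = a2 ≫ pr1 := pullback.lift_fst _ _ _
  have hB2 : B ≫ pr2 = comp G (a2 ≫ pr2) (b2 ≫ G.i) hcond2 := pullback.lift_snd _ _ _
  let θh : pullback h G.t ⟶ pullback h G.s := pullback.lift A b1 (by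
    show A ≫ pr2 ≫ G.s = _
    rw [← Category.assoc, hA2, comp_s])
  have hθh1 : θh ≫ a2 = A := pullback.lift_fst _ _ _
  have hθh2 : θh ≫ b2 = b1 := pullback.lift_snd _ _ _
  let θi : pullback h G.s ⟶ pullback h G.t := pullback.lift B b2 (by
    show B ≫ pr2 ≫ G.s = _
    rw [← Category.assoc, hB2, comp_s, Category.assoc, G.i_s])
  have hθi1 : θi ≫ a1 = B := pullback.lift_fst _ _ _
  have hθi2 : θi ≫ b1 = b2 := pullback.lift_snd _ _ _
  let σ : U' ⟶ pullback g G.t := pullback.lift (𝟙 U') (g ≫ G.e) (by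
    rw [Category.assoc, G.e_t, Category.comp_id, Category.id_comp])
  have hσ1 : σ ≫ pr1 = 𝟙 U' := pullback.lift_fst _ _ _
  have hσ2 : σ ≫ pr2 = g ≫ G.e := pullback.lift_snd _ _ _
  let τ : pullback g G.t ⟶ pullback h G.t := pullback.lift (pr1 ≫ σ) pr2 (by
    show (pr1 ≫ σ) ≫ pr2 ≫ G.s = _
    rw [Category.assoc, ← Category.assoc σ, hσ2, Category.assoc, G.e_s, Category.comp_id, hX])
  have hτ1 : τ ≫ a1 = pr1 ≫ σ := pullback.lift_fst _ _ _
  have hτ2 : τ ≫ b1 = pr2 := pullback.lift_snd _ _ _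
  refine ⟨⟨θh, θi, ?_, ?_⟩, τ, σ, hθh2, hτ1, ?_⟩
  · apply pullback.hom_ext
    · show (θh ≫ θi) ≫ a1 = 𝟙 _ ≫ a1
      rw [Category.assoc, hθi1, Category.id_comp]
      apply pullback.hom_ext
      · show (θh ≫ B) ≫ pr1 = a1 ≫ pr1
        rw [Category.assoc, hB1, ← Category.assoc, hθh1, hA1]
      · show (θh ≫ B) ≫ pr2 = a1 ≫ pr2
        rw [Category.assoc, hB2, precomp_comp]
        have e1 : θh ≫ a2 ≫ pr2 = comp G (a1 ≫ pr2) b1 hcond1 := by
          rw [← Category.assoc, hθh1, hA2]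
        have e2 : θh ≫ b2 ≫ G.i = b1 ≫ G.i := by rw [← Category.assoc, hθh2]
        rw [comp_congr G _ e1 e2]
        exact comp_comp_i G _ _ hcond1 _
    · show (θh ≫ θi) ≫ b1 = 𝟙 _ ≫ b1
      rw [Category.assoc, hθi2, hθh2, Category.id_comp]
  · apply pullback.hom_ext
    · show (θi ≫ θh) ≫ a2 = 𝟙 _ ≫ a2
      rw [Category.assoc, hθh1, Category.id_comp]
      apply pullback.hom_ext
      · show (θi ≫ A) ≫ pr1 = a2 ≫ pr1
        rw [Category.assoc, hA1, ← Category.assoc, hθi1, hB1]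
      · show (θi ≫ A) ≫ pr2 = a2 ≫ pr2
        rw [Category.assoc, hA2, precomp_comp]
        have e1 : θi ≫ a1 ≫ pr2 = comp G (a2 ≫ pr2) (b2 ≫ G.i) hcond2 := by
          rw [← Category.assoc, hθi1, hB2]
        rw [comp_congr G _ e1 hθi2]
        exact comp_i_comp' G _ _ hcond2 _
    · show (θi ≫ θh) ≫ b2 = 𝟙 _ ≫ b2
      rw [Category.assoc, hθh2, hθi2, Category.id_comp]
  · show τ ≫ θh ≫ a2 = 𝟙 _
    rw [hθh1]
    apply pullback.hom_ext
    · show (τ ≫ A) ≫ pr1 = 𝟙 _ ≫ pr1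
      rw [Category.assoc, hA1, ← Category.assoc, hτ1, Category.assoc, hσ1, Category.comp_id,
        Category.id_comp]
    · show (τ ≫ A) ≫ pr2 = 𝟙 _ ≫ pr2
      rw [Category.assoc, hA2, precomp_comp, Category.id_comp]
      have e1 : τ ≫ a1 ≫ pr2 = pr2 ≫ G.t ≫ G.e := by
        rw [← Category.assoc, hτ1, Category.assoc, hσ2, ← Category.assoc, hX, Category.assoc]
      rw [comp_congr G _ e1 hτ2]
      exact e_comp G pr2 _ rfl _

end Dev

/-- Let (U, R, s, t, c, e, i) be a groupoid scheme over S and g : U' -> U a morphism; write h = s ∘ pr_1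
: U' x_(g,U,t) R -> U. Let P, Q, R be properties of morphisms of schemes, with P invariant under
composition with isomorphisms, such that (1) R implies Q, (2) Q is stable under base change and
composition, (3) every morphism f : X -> Y with Q has a largest open W(P, f) of X on which the
restriction of f has P (given here as a function W with these two properties), and (4) for f with Q
and a base change along Y' -> Y with R, the preimage of W(P, f) in X x_Y Y' is W(P, f') for the base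
change f'. If s, t have R and g has Q, then there is an open W of U' whose preimage in U' x_(g,U,t)
R equals W(P, h). (The published statement speaks of arbitrary properties of morphisms; this row
asks P to be invariant under composition with isomorphisms, which the proof uses to identify the
largest opens on the two isomorphic fibre products of h with t and with s.) (A groupoid scheme
carries U, R, s, t, c, e, i over S with the groupoid axioms on T-points; c is defined on the fibre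
product of s and t and sends a pair (a, b) with s(a) = t(b) to a composed with b.) -/
theorem result (S : Scheme.{u}) (G : Grpd.GroupoidScheme S) {U' : Scheme.{u}} (g : U' ⟶ G.U) (P Q R : MorphismProperty Scheme.{u}) [P.RespectsIso] (hRQ : R ≤ Q) [Q.IsStableUnderBaseChange] [Q.IsStableUnderComposition] (W : ∀ {X Y : Scheme.{u}} (f : X ⟶ Y), Q f → X.Opens) (hWP : ∀ {X Y : Scheme.{u}} (f : X ⟶ Y) (hf : Q f), P ((W f hf).ι ≫ f)) (hWmax : ∀ {X Y : Scheme.{u}} (f : X ⟶ Y) (hf : Q f) (V : X.Opens), P (V.ι ≫ f) → V ≤ W f hf) (hWbc : ∀ {X Y Y' : Scheme.{u}} (f : X ⟶ Y) (hf : Q f) (b : Y' ⟶ Y), R b → ∀ hf' : Q (pullback.snd f b), pullback.fst f b ⁻¹ᵁ W f hf = W (pullback.snd f b) hf') (hs : R G.s) (ht : R G.t) (hg : Q g) (hh : Q (pullback.snd g G.t ≫ G.s)) : ∃ V : U'.Opens, pullback.fst g G.t ⁻¹ᵁ V = W (pullback.snd g G.t ≫ G.s) hh := by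
  obtain ⟨θ, τ, σ, hθ, hτ, hτθ⟩ := exists_theta G g
  refine ⟨σ ⁻¹ᵁ (W (pullback.snd g G.t ≫ G.s) hh), ?_⟩
  have hQ1 : Q (pullback.snd (pullback.snd g G.t ≫ G.s) G.t) := Q.pullback_snd _ _ hh
  have hQ2 : Q (pullback.snd (pullback.snd g G.t ≫ G.s) G.s) := Q.pullback_snd _ _ hh
  have e1 := hWbc (pullback.snd g G.t ≫ G.s) hh G.t ht hQ1
  have e2 := hWbc (pullback.snd g G.t ≫ G.s) hh G.s hs hQ2
  have e3 := W_iso P Q W hWP hWmax θ _ _ hθ hQ1 hQ2
  calc pullback.fst g G.t ⁻¹ᵁ σ ⁻¹ᵁ W (pullback.snd g G.t ≫ G.s) hh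
      = (pullback.fst g G.t ≫ σ) ⁻¹ᵁ W (pullback.snd g G.t ≫ G.s) hh := rfl
    _ = (τ ≫ pullback.fst (pullback.snd g G.t ≫ G.s) G.t) ⁻¹ᵁ
          W (pullback.snd g G.t ≫ G.s) hh := by rw [hτ]
    _ = τ ⁻¹ᵁ (pullback.fst (pullback.snd g G.t ≫ G.s) G.t ⁻¹ᵁ
          W (pullback.snd g G.t ≫ G.s) hh) := rfl
    _ = τ ⁻¹ᵁ (θ.hom ⁻¹ᵁ (pullback.fst (pullback.snd g G.t ≫ G.s) G.s ⁻¹ᵁ
          W (pullback.snd g G.t ≫ G.s) hh)) := by
        rw [e1, e2, e3]
    _ = (τ ≫ θ.hom ≫ pullback.fst (pullback.snd g G.t ≫ G.s) G.s) ⁻¹ᵁ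
          W (pullback.snd g G.t ≫ G.s) hh := rfl
    _ = W (pullback.snd g G.t ≫ G.s) hh := by rw [hτθ]; rfl

end Groth.Agent.S7510
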