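import Groth.Statements.S7511
import Mathlib

set_option autoImplicit false
universe u
open CategoryTheory CategoryTheory.Limits AlgebraicGeometry
open HTop

namespace Groth.Agent.S7511

open TopologicalSpace

/-- the one-object family. -/
noncomputable def sig {T : Scheme.{u}} (E : PreZeroHypercover.{u} T) : PreZeroHypercover.{u} T where
  I₀ := PUnit
  X _ := ∐ E.X
  f _ := Sigma.desc E.f

lemma presieve₀_sig {T : Scheme.{u}} (E : PreZeroHypercover.{u} T) :
    (sig E).presieve₀ = Presieve.singleton (Sigma.desc E.f) :=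
  Presieve.ofArrows_pUnit _

lemma desc_sigmaMk {T : Scheme.{u}} (E : PreZeroHypercover.{u} T) (p : Σ i, E.X i) :
    (Sigma.desc E.f).base (sigmaMk E.X p) = (E.f p.1).base p.2 := by
  obtain ⟨i, x⟩ := p
  rw [sigmaMk_mk, ← Scheme.Hom.comp_apply, Sigma.ι_desc]

lemma covered_iff {T : Scheme.{u}} (E : PreZeroHypercover.{u} T) (U : Set T) :
    IsCompactOpenCovered (fun i => (E.f i).base) U ↔
      IsCompactOpenCovered (fun i => ((sig E).f i).base) U := by
  rw [IsCompactOpenCovered.iff_isCompactOpenCovered_sigmaMk,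
    IsCompactOpenCovered.iff_of_unique (ι := Unit)]
  have : Unique (sig E).I₀ := inferInstanceAs (Unique PUnit)
  rw [IsCompactOpenCovered.iff_of_unique (ι := (sig E).I₀)]
  constructor
  · rintro ⟨V, hV, hU⟩
    refine ⟨⟨sigmaMk E.X '' V.1, (sigmaMk E.X).isOpenMap _ V.2⟩,
      hV.image (sigmaMk E.X).continuous, ?_⟩
    rw [← hU]
    ext t
    constructor
    · rintro ⟨_, ⟨p, hp, rfl⟩, rfl⟩
      exact ⟨p, hp, (desc_sigmaMk E p).symm⟩
    · rintro ⟨p, hp, rfl⟩
      exact ⟨_, ⟨p, hp, rfl⟩, desc_sigmaMk E p⟩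
  · rintro ⟨W, hW, hU⟩
    refine ⟨⟨sigmaMk E.X ⁻¹' W.1, W.2.preimage (sigmaMk E.X).continuous⟩, ?_, ?_⟩
    · have : sigmaMk E.X ⁻¹' W.1 = (sigmaMk E.X).symm '' W.1 := by
        ext p; simp [Homeomorph.symm_apply_eq]
      change IsCompact (sigmaMk E.X ⁻¹' W.1)
      rw [this]
      exact hW.image (sigmaMk E.X).symm.continuous
    · rw [← hU]
      ext t
      constructor
      · rintro ⟨p, hp, rfl⟩
        exact ⟨sigmaMk E.X p, hp, desc_sigmaMk E p⟩
      · rintro ⟨w, hw, rfl⟩
        obtain ⟨p, rfl⟩ := (sigmaMk E.X).surjective w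
        exact ⟨p, hw, (desc_sigmaMk E p).symm⟩


/-- Let {f_i : T_i -> T} be a family of morphisms of schemes (indexed by a type in the universe of T, so
that the coproduct exists). Then it is an fpqc covering if and only if the one-arrow family
consisting of the induced morphism from the coproduct of the T_i to T is an fpqc covering. -/
theorem result {T : Scheme.{u}} (E : PreZeroHypercover.{u} T) : E.presieve₀ ∈ Scheme.fpqcPrecoverage T ↔ Presieve.singleton (Sigma.desc E.f) ∈ Scheme.fpqcPrecoverage T := by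
  rw [← presieve₀_sig E]
  have hqc : QuasiCompactCover E ↔ QuasiCompactCover (sig E) := by
    rw [quasiCompactCover_iff, quasiCompactCover_iff]
    exact forall_congr' fun U => forall_congr' fun _ => covered_iff E (U : Set T)
  have hflat : (∀ i, Flat (E.f i)) ↔ ∀ i, Flat ((sig E).f i) := by
    constructor
    · intro h _
      exact inferInstanceAs (Flat (Sigma.desc E.f))
    · intro h i
      have h1 : Flat (Sigma.desc E.f) := h PUnit.unit
      have h2 : E.f i = Sigma.ι E.X i ≫ Sigma.desc E.f := (Sigma.ι_desc _ _).symm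
      rw [h2]
      infer_instance
  have hsurj : (∀ x : T, ∃ i, x ∈ Set.range (E.f i).base) ↔
      ∀ x : T, ∃ i, x ∈ Set.range ((sig E).f i).base := by
    constructor
    · intro h x
      obtain ⟨i, y, rfl⟩ := h x
      exact ⟨PUnit.unit, (Sigma.ι E.X i).base y, by
        change (Sigma.desc E.f).base _ = _
        rw [← Scheme.Hom.comp_apply, Sigma.ι_desc]⟩
    · intro h x
      obtain ⟨_, w, rfl⟩ := h x
      obtain ⟨p, rfl⟩ := (sigmaMk E.X).surjective w
      exact ⟨p.1, p.2, (desc_sigmaMk E p).symm⟩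
  change (E.presieve₀ ∈ Scheme.qcPrecoverage T ∧ E.presieve₀ ∈ Scheme.precoverage @Flat T) ↔
    ((sig E).presieve₀ ∈ Scheme.qcPrecoverage T ∧ (sig E).presieve₀ ∈ Scheme.precoverage @Flat T)
  rw [Scheme.presieve₀_mem_qcPrecoverage_iff, Scheme.presieve₀_mem_qcPrecoverage_iff,
    Scheme.presieve₀_mem_precoverage_iff, Scheme.presieve₀_mem_precoverage_iff, hqc, hflat, hsurj]

end Groth.Agent.S7511
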