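import Groth.Statements.S7512
import Mathlib

set_option autoImplicit false
universe w u
open HTop

namespace Groth.Agent.S7512

open CategoryTheory CategoryTheory.Limits AlgebraicGeometry TopologicalSpace


open CategoryTheory CategoryTheory.Limits AlgebraicGeometry in
/-- Let {f_i : T_i -> T} be a family of flat morphisms of schemes. Assume that for every affine scheme Z
and every morphism h : Z -> T there is a standard fpqc covering of Z (a finite family of flat
morphisms Z_j -> Z with Z_j affine whose images cover Z) refining the family of base changes {T_i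
x_T Z -> Z} (every Z_j -> Z factors through some T_i compatibly with h). Then {f_i : T_i -> T} is an
fpqc covering (in Mathlib's sense). -/
theorem result {T : Scheme.{u}} (E : PreZeroHypercover.{w} T) (hflat : ∀ i, Flat (E.f i)) (href : ∀ (Z : Scheme.{u}) [IsAffine Z] (h : Z ⟶ T), ∃ F : PreZeroHypercover.{0} Z, Finite F.I₀ ∧ (∀ j, IsAffine (F.X j)) ∧ (∀ j, Flat (F.f j)) ∧ (∀ z : Z, ∃ (j : F.I₀) (x : F.X j), F.f j x = z) ∧ HTop.RefinesOver h F E) : E.presieve₀ ∈ Scheme.fpqcPrecoverage T := by
  change E.presieve₀ ∈ Scheme.qcPrecoverage T ∧ E.presieve₀ ∈ Scheme.precoverage @Flat T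
  rw [Scheme.presieve₀_mem_qcPrecoverage_iff, Scheme.presieve₀_mem_precoverage_iff]
  -- the key: every affine open is compact-open covered, with a refinement
  have key : ∀ (U : T.Opens), IsAffineOpen U →
      IsCompactOpenCovered (fun i => (E.f i).base) (U : Set T) := by
    intro U hU
    have : IsAffine (U : Scheme.{u}) := hU
    obtain ⟨F, hfin, haff, -, hsurj, hrefine⟩ := href (U : Scheme.{u}) U.ι
    choose a φ hφ using hrefine
    refine IsCompactOpenCovered.of_comp (f := fun i => (E.f i).base)
      (fun j => (F.f j ≫ U.ι).base) (a := a) (fun j => (φ j).base) (fun j => (φ j).continuous)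
      (fun j => ?_) (fun i => (E.f i).continuous) U.isOpen ?_
    · rw [← hφ j]; rfl
    · refine IsCompactOpenCovered.of_finite (κ := F.I₀) id (fun j => ⊤)
        (fun j => CompactSpace.isCompact_univ) ?_
      ext t
      simp only [Set.mem_iUnion, Set.mem_image, id]
      constructor
      · rintro ⟨j, y, -, rfl⟩
        exact ((F.f j).base y).2
      · intro ht
        obtain ⟨j, y, hy⟩ := hsurj ⟨t, ht⟩
        refine ⟨j, y, trivial, ?_⟩
        change U.ι.base ((F.f j).base y) = t
        rw [hy]
        rfl
  refine ⟨⟨fun {U} hU => key U hU⟩, ?_, hflat⟩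
  intro t
  obtain ⟨U, hU, htU, -⟩ := exists_isAffineOpen_mem_and_subset (x := t) (U := ⊤) trivial
  obtain ⟨s, -, V, -, hUV⟩ := key U hU
  have : t ∈ ⋃ (i : E.I₀) (h : i ∈ s), (E.f i).base '' (V i h : Set (E.X i)) := by
    rw [hUV]; exact htU
  simp only [Set.mem_iUnion] at this
  obtain ⟨i, _, y, -, rfl⟩ := this
  exact ⟨i, y, rfl⟩

end Groth.Agent.S7512
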