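import Groth.Statements.S7514
import Mathlib

set_option autoImplicit false
universe u
open CategoryTheory CategoryTheory.Limits AlgebraicGeometry
open Grpd

namespace Groth.Agent.S7514

theorem surj_diag {X Y : Scheme.{u}} (f : X ⟶ Y)
    (h : ∀ (k : Type u) [Field k] [IsAlgClosed k],
      Function.Injective (fun g : Spec (CommRingCat.of k) ⟶ X => g ≫ f)) :
    Surjective (pullback.diagonal f) := by
  rw [surjective_iff]
  intro z
  let K := (pullback f f).residueField z
  let k := AlgebraicClosure K
  let φ : Spec (CommRingCat.of k) ⟶ pullback f f :=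
    Spec.map (CommRingCat.ofHom (algebraMap K k)) ≫ (pullback f f).fromSpecResidueField z
  have hφ₁ : φ ≫ pullback.fst f f = φ ≫ pullback.snd f f :=
    h k (by simp [pullback.condition])
  have hφ₂ : φ = (φ ≫ pullback.fst f f) ≫ pullback.diagonal f := by
    apply pullback.hom_ext
    · simp
    · simp [hφ₁]
  refine ⟨(φ ≫ pullback.fst f f) (IsLocalRing.closedPoint _), ?_⟩
  rw [← Scheme.Hom.comp_apply, ← hφ₂]
  exact (pullback f f).fromSpecResidueField_apply z _


/-- Let S be a scheme, U a scheme over S and j : R -> U x_S U a pre-relation, with t = pr_0 ∘ j and s =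
pr_1 ∘ j. Assume (1) s and t are unramified (formally unramified and locally of finite type), (2)
for every algebraically closed field k, the map from k-points of R to pairs of k-points of U is
injective with image an equivalence relation, and (3) there are morphisms e : U -> R, i : R -> R and
c : R x_(s,U,t) R -> R such that j ∘ e is the diagonal, j ∘ i is j followed by the flip of the two
factors, and j ∘ c is pr_02 ∘ (j x j) (the arrow c(a, b) has target t(a) and source s(b)). Then j is
an equivalence relation: j is a monomorphism and, for every scheme T, the relation 'there is a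
T-point r of R with t ∘ r = a and s ∘ r = b' on T-points a, b of U is an equivalence relation. -/
theorem result {S U R : Scheme.{u}} (pU : U ⟶ S) (j : R ⟶ pullback pU pU) [FormallyUnramified (j ≫ pullback.fst pU pU)] [LocallyOfFiniteType (j ≫ pullback.fst pU pU)] [FormallyUnramified (j ≫ pullback.snd pU pU)] [LocallyOfFiniteType (j ≫ pullback.snd pU pU)] (h₂ : ∀ (k : Type u) [Field k] [IsAlgClosed k], Function.Injective (fun r : Spec (CommRingCat.of k) ⟶ R => r ≫ j) ∧ Equivalence (fun a b : Spec (CommRingCat.of k) ⟶ U => ∃ r : Spec (CommRingCat.of k) ⟶ R, r ≫ j ≫ pullback.fst pU pU = a ∧ r ≫ j ≫ pullback.snd pU pU = b)) (e : U ⟶ R) (he : e ≫ j = pullback.lift (𝟙 U) (𝟙 U) rfl) (i : R ⟶ R) (hi : i ≫ j = j ≫ (pullbackSymmetry pU pU).hom) (c : pullback (j ≫ pullback.snd pU pU) (j ≫ pullback.fst pU pU) ⟶ R) (hc₁ : c ≫ j ≫ pullback.fst pU pU = pullback.fst (j ≫ pullback.snd pU pU) (j ≫ pullback.fst pU pU) ≫ j ≫ pullback.fst pU pU) (hc₂ : c ≫ j ≫ pullback.snd pU pU = pullback.snd (j ≫ pullback.snd pU pU) (j ≫ pullback.fst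 pU pU) ≫ j ≫ pullback.snd pU pU) : Mono j ∧ ∀ T : Scheme.{u}, Equivalence (fun a b : T ⟶ U => ∃ r : T ⟶ R, r ≫ j ≫ pullback.fst pU pU = a ∧ r ≫ j ≫ pullback.snd pU pU = b) := by
  haveI : FormallyUnramified j := FormallyUnramified.of_comp j (pullback.fst pU pU)
  haveI : LocallyOfFiniteType j := locallyOfFiniteType_of_comp j (pullback.fst pU pU)
  haveI : Surjective (pullback.diagonal j) := surj_diag j (fun k _ _ => (h₂ k).1)
  haveI : IsIso (pullback.diagonal j) :=
    (isIso_iff_isOpenImmersion_and_surjective _).mpr ⟨inferInstance, inferInstance⟩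
  refine ⟨(pullback.isIso_diagonal_iff j).mp inferInstance, fun T => ⟨?_, ?_, ?_⟩⟩
  · intro a
    refine ⟨a ≫ e, ?_, ?_⟩
    · rw [Category.assoc, ← Category.assoc e, he, pullback.lift_fst, Category.comp_id]
    · rw [Category.assoc, ← Category.assoc e, he, pullback.lift_snd, Category.comp_id]
  · rintro a b ⟨r, h1, h2⟩
    refine ⟨r ≫ i, ?_, ?_⟩
    · rw [Category.assoc, ← Category.assoc i, hi, Category.assoc, pullbackSymmetry_hom_comp_fst, h2]
    · rw [Category.assoc, ← Category.assoc i, hi, Category.assoc, pullbackSymmetry_hom_comp_snd, h1]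
  · rintro a b d ⟨r₁, h1, h2⟩ ⟨r₂, h3, h4⟩
    refine ⟨pullback.lift r₁ r₂ (h2.trans h3.symm) ≫ c, ?_, ?_⟩
    · rw [Category.assoc, hc₁, ← Category.assoc, pullback.lift_fst, h1]
    · rw [Category.assoc, hc₂, ← Category.assoc, pullback.lift_snd, h4]

end Groth.Agent.S7514
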