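import Groth.Statements.S7516
import Mathlib
import Groth.Agent.Lib.Helper11GeomIrrPt
import Groth.Agent.Lib.Helper6SepCl
import Groth.Agent.S1882

set_option autoImplicit false
universe u
open CategoryTheory CategoryTheory.Limits AlgebraicGeometry
open Grpd

namespace Groth.Agent.S7516

open Groth.Agent.Lib.Helper11


/-- Let (U, R, s, t, c) be a groupoid scheme over S with U = Spec k for a field k, and let Z be an
irreducible component of R passing through the identity point e (there is exactly one). Then Z is
geometrically irreducible over k via either s or t: for any closed immersion ι : Z -> R from an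
irreducible scheme whose image is an irreducible component of R containing e, the composites Z -> R
-> U = Spec k through s and through t are geometrically irreducible. (A groupoid scheme carries U,
R, s, t, c, e, i over S with the groupoid axioms on T-points; c is defined on the fibre product of s
and t and sends a pair (a, b) with s(a) = t(b) to a composed with b.) -/
theorem result (S : Scheme.{u}) (G : Grpd.GroupoidScheme S) (k : Type u) [Field k] (eU : G.U ≅ Spec (CommRingCat.of k)) (Z : Scheme.{u}) (ι : Z ⟶ G.R) [IsClosedImmersion ι] [IrreducibleSpace Z] (hZ : Set.range ⇑ι ∈ irreducibleComponents ↥G.R) (he : G.e (eU.inv (IsLocalRing.closedPoint k)) ∈ Set.range ⇑ι) : GeometricallyIrreducible (ι ≫ G.s ≫ eU.hom) ∧ GeometricallyIrreducible (ι ≫ G.t ≫ eU.hom) := by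
  classical
  have h1 := (Groth.Agent.S1882.result S G k eU).1
  have key : ∀ (ι' : Z ⟶ G.R) [IsClosedImmersion ι'],
      Set.range ι' ∈ irreducibleComponents G.R →
      G.e (eU.inv (IsLocalRing.closedPoint k)) ∈ Set.range ι' →
      GeometricallyIrreducible (ι' ≫ G.t ≫ eU.hom) := by
    intro ι' _ hZ' he'
    letI : Z.Over (Spec (CommRingCat.of k)) := ⟨ι' ≫ G.t ≫ eU.hom⟩
    haveI : IrreducibleSpace (Curv2.bc k Z (SeparableClosure k)) :=
      GeomIrrPt.irreducibleSpace_bc G k eU (SeparableClosure k) h1 ι' hZ' he'
    exact Groth.Agent.Lib.Helper6.SepCl.geometricallyIrreducible_of_sepClosure k Z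
  refine ⟨?_, key ι hZ he⟩
  haveI : IsIso G.i := inferInstance
  have hrange : Set.range (ι ≫ G.i) = G.i '' Set.range ι := by
    ext x
    constructor
    · rintro ⟨z, rfl⟩
      exact ⟨ι z, ⟨z, rfl⟩, (Scheme.Hom.comp_apply _ _ _).symm⟩
    · rintro ⟨_, ⟨z, rfl⟩, rfl⟩
      exact ⟨z, Scheme.Hom.comp_apply _ _ _⟩
  have h2 := key (ι ≫ G.i) ?_ ?_
  · have e : (ι ≫ G.i) ≫ G.t ≫ eU.hom = ι ≫ G.s ≫ eU.hom := by
      rw [Category.assoc, reassoc_of% G.i_t]
    rw [e] at h2
    exact h2
  · rw [hrange]
    have hh := G.i.homeomorph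
    exact image_mem_irreducibleComponents_of_isPreirreducible_fiber G.i G.i.continuous
      G.i.homeomorph.isOpenMap
      (fun _ => (Set.subsingleton_singleton.preimage G.i.homeomorph.injective).isPreirreducible)
      G.i.homeomorph.surjective hZ
  · rw [hrange]
    obtain ⟨z, hz⟩ := he
    refine ⟨_, ⟨z, rfl⟩, ?_⟩
    rw [hz, ← Scheme.Hom.comp_apply, GeomIrrPt.e_i]

end Groth.Agent.S7516
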