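import Groth.Statements.S7519
import Mathlib
import Groth.Agent.Lib.Helper11FixOver
import Groth.Agent.Lib.Helper8Grp

set_option autoImplicit false
universe u
open CategoryTheory MonoidalCategory CartesianMonoidalCategory MonObj GrpObj AlgebraicGeometry
open GrpSch

namespace Groth.Agent.S7519


/-- Let G be a group scheme locally of finite type over a field k. Then the centre of G is
(representable by) a closed subgroup scheme of G: there are a scheme Z over k and a closed immersion
Z -> G over k such that for every scheme T over k, a T-valued point g of G factors through Z if and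
only if g is central, i.e. for every T' -> T over k and every T'-valued point g' of G, the
restriction of g to T' commutes with g' in the group G(T'). -/
theorem result (K : Type u) [Field K] (G : Over (Spec (CommRingCat.of K))) [GrpObj G] [LocallyOfFiniteType G.hom] : ∃ (Z : Over (Spec (CommRingCat.of K))) (incl : Z ⟶ G), IsClosedImmersion incl.left ∧ ∀ (T : Over (Spec (CommRingCat.of K))) (g : T ⟶ G), (∃ z : T ⟶ Z, z ≫ incl = g) ↔ ∀ (T' : Over (Spec (CommRingCat.of K))) (h : T' ⟶ T) (g' : T' ⟶ G), (h ≫ g) * g' = g' * (h ≫ g) := by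
  have hsep : IsSeparated G.hom := Groth.Agent.Lib.Helper8.isSeparated_of_discrete G
  obtain ⟨Z, j, hj, hfix, huniv⟩ :=
    Groth.Agent.Lib.Helper11FixOver.exists_closedImmersion_fix_over K G G G
      (snd G G * fst G G) (fst G G * snd G G)
  have key : ∀ {T : Over (Spec (CommRingCat.of K))} (x : T ⟶ G),
      ((G ◁ x) ≫ (snd G G * fst G G) = (G ◁ x) ≫ (fst G G * snd G G)) ↔
        (snd G T ≫ x) * fst G T = fst G T * (snd G T ≫ x) := by
    intro T x
    rw [MonObj.comp_mul, MonObj.comp_mul, whiskerLeft_fst, whiskerLeft_snd]
  refine ⟨Z, j, hj, fun T g => ⟨?_, ?_⟩⟩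
  · rintro ⟨z, rfl⟩ T' h g'
    have h1 : (snd G T ≫ z ≫ j) * fst G T = fst G T * (snd G T ≫ z ≫ j) := by
      rw [← key, MonoidalCategory.whiskerLeft_comp, Category.assoc, Category.assoc, hfix]
    have h2 := congrArg (fun f => lift g' h ≫ f) h1
    simpa [MonObj.comp_mul] using h2
  · intro hcomm
    apply huniv T g
    rw [key]
    exact hcomm (G ⊗ T) (snd G T) (fst G T)

end Groth.Agent.S7519
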