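import Groth.Statements.S7521
import Mathlib
import Groth.Agent.Lib.Helper15FinDesc
import Groth.Agent.S2324
import Groth.Agent.Lib.Helper23Restr2

set_option autoImplicit false
open CategoryTheory CategoryTheory.Limits AlgebraicGeometry
universe u
open Desc

namespace Groth.Agent.S7521

/-- Let p : X -> Y be a surjective finite locally free morphism and V a scheme over X which has an
invertible module ample relative to V -> X. Then every descent datum on V relative to p is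
effective. (A quasi-projective morphism V -> X, in particular a projective one, carries such a
module.) (Descent data are taken in functor-of-points form.) -/
theorem result {X Y : Scheme.{u}} (p : X ⟶ Y) [Surjective p] [IsFinite p] [Flat p] [LocallyOfFinitePresentation p] (D : Desc.SchDD p) (L : D.obj.left.Modules) (hL : RelAmple.IsRelAmple D.obj.hom L) : ∃ W : Over Y, Nonempty ((Desc.toDD p).obj W ≅ D) := by
  refine Groth.Agent.Lib.Helper15FinDesc.effective_of_finite D fun v => ?_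
  obtain ⟨Y₀, hY₀, hy⟩ : ∃ Y₀ : Y.Opens, IsAffineOpen Y₀ ∧ p.base (D.obj.hom.base v) ∈ Y₀ := by
    obtain ⟨_, ⟨Y₀, hY₀, rfl⟩, hv, -⟩ :=
      (Y.isBasis_affineOpens).exists_subset_of_mem_open (Set.mem_univ (p.base (D.obj.hom.base v)))
        isOpen_univ
    exact ⟨Y₀, hY₀, hv⟩
  have hX₀ : IsAffineOpen (p ⁻¹ᵁ Y₀) := hY₀.preimage p
  have hamp := hL.2 ⟨p ⁻¹ᵁ Y₀, hX₀⟩
  have hcomp : CompactSpace ((D.obj.hom ⁻¹ᵁ (p ⁻¹ᵁ Y₀) : D.obj.left.Opens) : Scheme.{u}) := hamp.2.1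
  have hsep : Scheme.IsSeparated ((D.obj.hom ⁻¹ᵁ (p ⁻¹ᵁ Y₀) : D.obj.left.Opens) : Scheme.{u}) :=
    Groth.Agent.Lib.Helper23.SecTw.isSeparated_of_isAmple _ hamp
  have hfin : ((Groth.Agent.Lib.Helper15AffDescCore.ψ D).base ''
      ((Groth.Agent.Lib.Helper15AffDescCore.w₁ D).base ⁻¹' {v})).Finite :=
    (Scheme.Hom.finite_preimage_singleton (Groth.Agent.Lib.Helper15AffDescCore.w₁ D) v).image _
  have hZfin : ((D.obj.hom ⁻¹ᵁ (p ⁻¹ᵁ Y₀)).ι.base ⁻¹'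
      ((Groth.Agent.Lib.Helper15AffDescCore.ψ D).base ''
      ((Groth.Agent.Lib.Helper15AffDescCore.w₁ D).base ⁻¹' {v}))).Finite :=
    hfin.preimage ((D.obj.hom ⁻¹ᵁ (p ⁻¹ᵁ Y₀)).ι.isOpenEmbedding.injective.injOn)
  obtain ⟨n, s, hZ, -, haff⟩ := Groth.Agent.S2324.result _ _ hamp _ hZfin ⊤ (fun _ _ => trivial)
  refine ⟨(D.obj.hom ⁻¹ᵁ (p ⁻¹ᵁ Y₀)).ι ''ᵁ CohB1.genLocus _ s,
    haff.image_of_isOpenImmersion (D.obj.hom ⁻¹ᵁ (p ⁻¹ᵁ Y₀)).ι, fun r hr => ?_⟩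
  have hmem : (Groth.Agent.Lib.Helper15AffDescCore.ψ D).base r ∈ D.obj.hom ⁻¹ᵁ (p ⁻¹ᵁ Y₀) := by
    change p.base (D.obj.hom.base ((Groth.Agent.Lib.Helper15AffDescCore.ψ D).base r)) ∈ Y₀
    rw [Groth.Agent.Lib.Helper15FinDesc.orbit_over D r, hr]
    exact hy
  exact ⟨⟨(Groth.Agent.Lib.Helper15AffDescCore.ψ D).base r, hmem⟩, hZ ⟨r, hr, rfl⟩, rfl⟩

end Groth.Agent.S7521
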