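import Groth.Statements.S7522
import Mathlib

set_option autoImplicit false
universe u
open CategoryTheory CategoryTheory.Limits AlgebraicGeometry
open Grpd

namespace Groth.Agent.S7522

/-- Let S be a scheme, U a scheme over S and j : R -> U x_S U a pre-equivalence relation, that is a
morphism such that for every scheme T the image of the T-points of R in pairs of T-points of U is an
equivalence relation; write t = pr_0 ∘ j and s = pr_1 ∘ j. Then the relation on the points of U in
which x ∼ y when some point r of R has t(r) = x and s(r) = y is an equivalence relation. -/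
theorem result {S U R : Scheme.{u}} (pU : U ⟶ S) (j : R ⟶ pullback pU pU) (hj : ∀ T : Scheme.{u}, Equivalence (fun a b : T ⟶ U => ∃ r : T ⟶ R, r ≫ j ≫ pullback.fst pU pU = a ∧ r ≫ j ≫ pullback.snd pU pU = b)) : Equivalence (fun x y : ↥U => ∃ r : R, (j ≫ pullback.fst pU pU) r = x ∧ (j ≫ pullback.snd pU pU) r = y) := by
  classical
  set t := j ≫ pullback.fst pU pU with ht
  set s := j ≫ pullback.snd pU pU with hs
  have key : ∀ {T : Scheme.{u}} (ρ : T ⟶ R) (f : T ⟶ U) (p : T), ρ ≫ t = f → t (ρ p) = f p := by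
    intro T ρ f p h
    rw [← h]; rfl
  have key' : ∀ {T : Scheme.{u}} (ρ : T ⟶ R) (f : T ⟶ U) (p : T), ρ ≫ s = f → s (ρ p) = f p := by
    intro T ρ f p h
    rw [← h]; rfl
  refine ⟨?_, ?_, ?_⟩
  · intro x
    obtain ⟨r, hr1, hr2⟩ := (hj (Spec (U.residueField x))).refl (U.fromSpecResidueField x)
    let pt : Spec (U.residueField x) := IsLocalRing.closedPoint _
    refine ⟨r pt, ?_, ?_⟩
    · show t (r pt) = x
      rw [key r _ pt hr1, Scheme.fromSpecResidueField_apply]
    · show s (r pt) = x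
      rw [key' r _ pt hr2, Scheme.fromSpecResidueField_apply]
  · rintro x y ⟨r, hrx, hry⟩
    let ρ := R.fromSpecResidueField r
    obtain ⟨r', hr1, hr2⟩ := (hj (Spec (R.residueField r))).symm ⟨ρ, rfl, rfl⟩
    let pt : Spec (R.residueField r) := IsLocalRing.closedPoint _
    have hρ : ρ pt = r := Scheme.fromSpecResidueField_apply _ _
    refine ⟨r' pt, ?_, ?_⟩
    · show t (r' pt) = y
      rw [key r' _ pt hr1]
      show s (ρ pt) = y
      rw [hρ]; exact hry
    · show s (r' pt) = x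
      rw [key' r' _ pt hr2]
      show t (ρ pt) = x
      rw [hρ]; exact hrx
  · rintro x y z ⟨r₁, h1x, h1y⟩ ⟨r₂, h2y, h2z⟩
    have hst : s r₁ = t r₂ := h1y.trans h2y.symm
    obtain ⟨w, hw1, hw2⟩ := Scheme.Pullback.exists_preimage_pullback (f := s) (g := t) r₁ r₂ hst
    let ω := (pullback s t).fromSpecResidueField w
    let pt : Spec ((pullback s t).residueField w) := IsLocalRing.closedPoint _
    have hω : ω pt = w := Scheme.fromSpecResidueField_apply _ _
    let ρ₁ := ω ≫ pullback.fst s t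
    let ρ₂ := ω ≫ pullback.snd s t
    have hρ12 : ρ₁ ≫ s = ρ₂ ≫ t := by
      show (ω ≫ pullback.fst s t) ≫ s = (ω ≫ pullback.snd s t) ≫ t
      rw [Category.assoc, Category.assoc, pullback.condition]
    obtain ⟨r₃, hr1, hr2⟩ := (hj _).trans (⟨ρ₁, rfl, rfl⟩ : ∃ r, r ≫ t = ρ₁ ≫ t ∧ r ≫ s = ρ₁ ≫ s)
      (⟨ρ₂, hρ12.symm, rfl⟩ : ∃ r, r ≫ t = ρ₁ ≫ s ∧ r ≫ s = ρ₂ ≫ s)
    have hρ₁ : ρ₁ pt = r₁ := by
      show pullback.fst s t (ω pt) = r₁
      rw [hω]; exact hw1
    have hρ₂ : ρ₂ pt = r₂ := by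
      show pullback.snd s t (ω pt) = r₂
      rw [hω]; exact hw2
    refine ⟨r₃ pt, ?_, ?_⟩
    · show t (r₃ pt) = x
      rw [key r₃ _ pt hr1]
      show t (ρ₁ pt) = x
      rw [hρ₁]; exact h1x
    · show s (r₃ pt) = z
      rw [key' r₃ _ pt hr2]
      show s (ρ₂ pt) = z
      rw [hρ₂]; exact h2z

end Groth.Agent.S7522
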