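import Groth.Statements.S7523
import Groth.Agent.Lib.Helper10Spectral
-- import your own Groth.Agent.* helpers here

set_option autoImplicit false
universe u
open SpecSp

namespace Groth.Agent.S7523

/-- For a spectral map f : X → Y between spectral spaces, (1) f remains continuous once X and Y are both
given their constructible topologies, (2) every fibre of f is quasi-compact, and (3) f(X) is a
closed subset of Y for the constructible topology. -/
theorem result {X Y : Type u} [TopologicalSpace X] [TopologicalSpace Y]
    [SpectralSpace X] [SpectralSpace Y] (f : X → Y) (hf : IsSpectralMap f) :
    @Continuous X Y (constructibleTopology X) (constructibleTopology Y) f ∧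
    (∀ y : Y, IsCompact (f ⁻¹' {y})) ∧
    @IsClosed Y (constructibleTopology Y) (Set.range f) := by
  have hc := hf.continuous_constr
  refine ⟨hc, fun y => ?_, ?_⟩
  · apply Groth.Agent.Lib.Helper10.Spectral.isCompact_of_isClosed_constr
    have hT2 : @T2Space Y (constructibleTopology Y) :=
      Groth.Agent.Lib.Helper10.Spectral.t2Space_constr
    have hy : @IsClosed Y (constructibleTopology Y) {y} :=
      @isClosed_singleton Y (constructibleTopology Y) _ y
    exact @IsClosed.preimage X Y (constructibleTopology X) (constructibleTopology Y) f hc _ hy
  · have hT2 : @T2Space Y (constructibleTopology Y) :=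
      Groth.Agent.Lib.Helper10.Spectral.t2Space_constr
    have hcs : @CompactSpace X (constructibleTopology X) :=
      Groth.Agent.Lib.Helper10.Spectral.compactSpace_constr
    exact @IsCompact.isClosed Y (constructibleTopology Y) hT2 _
      (@isCompact_range X Y (constructibleTopology X) (constructibleTopology Y) hcs f hc)

end Groth.Agent.S7523
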