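import Groth.Statements.S7527
import Groth.Agent.Lib.Helper10Spectral
-- import your own Groth.Agent.* helpers here

set_option autoImplicit false
universe u
open SpecSp

namespace Groth.Agent.S7527

/-- Let X be a spectral space and x, y ∈ X. Then either there is a third point specializing to both x
and y, or there are disjoint open neighbourhoods of x and of y. -/
theorem result {X : Type u} [TopologicalSpace X] [SpectralSpace X] (x y : X) :
    (∃ z : X, z ⤳ x ∧ z ⤳ y) ∨
    (∃ U V : Set X, IsOpen U ∧ IsOpen V ∧ x ∈ U ∧ y ∈ V ∧ Disjoint U V) := by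
  classical
  let ι := {U : Set X // IsOpen U ∧ IsCompact U ∧ (x ∈ U ∨ y ∈ U)}
  let Z : ι → Set X := fun U => U.1
  have hZ : ∀ o, @IsClosed X (constructibleTopology X) (Z o) := fun U =>
    Groth.Agent.Lib.Helper10.Spectral.isClosed_constr_of_isCompact_isOpen U.2.1 U.2.2.1
  by_cases hfin : ∀ s : Finset ι, (⋂ i ∈ s, Z i).Nonempty
  · left
    obtain ⟨z, hz⟩ := Groth.Agent.Lib.Helper10.Spectral.nonempty_iInter_of_isClosed_constr Z hZ hfin
    rw [Set.mem_iInter] at hz
    refine ⟨z, ?_, ?_⟩
    · rw [specializes_iff_forall_open]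
      intro O hO hxO
      obtain ⟨V, ⟨hVo, hVc⟩, hxV, hVO⟩ :=
        PrespectralSpace.isTopologicalBasis.exists_subset_of_mem_open hxO hO
      exact hVO (hz ⟨V, hVo, hVc, Or.inl hxV⟩)
    · rw [specializes_iff_forall_open]
      intro O hO hyO
      obtain ⟨V, ⟨hVo, hVc⟩, hyV, hVO⟩ :=
        PrespectralSpace.isTopologicalBasis.exists_subset_of_mem_open hyO hO
      exact hVO (hz ⟨V, hVo, hVc, Or.inr hyV⟩)
  · right
    push_neg at hfin
    obtain ⟨s, hs⟩ := hfin
    refine ⟨⋂ i ∈ s.filter (fun U : ι => x ∈ U.1), Z i, ⋂ i ∈ s.filter (fun U : ι => y ∈ U.1), Z i,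
      ?_, ?_, ?_, ?_, ?_⟩
    · exact isOpen_biInter_finset fun U _ => U.2.1
    · exact isOpen_biInter_finset fun U _ => U.2.1
    · simp only [Set.mem_iInter, Finset.mem_filter]
      exact fun U hU => hU.2
    · simp only [Set.mem_iInter, Finset.mem_filter]
      exact fun U hU => hU.2
    · rw [Set.disjoint_left]
      intro z hz1 hz2
      simp only [Set.mem_iInter, Finset.mem_filter] at hz1 hz2
      have : z ∈ ⋂ i ∈ s, Z i := by
        simp only [Set.mem_iInter]
        intro U hU
        rcases U.2.2.2 with h | h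
        · exact hz1 U ⟨hU, h⟩
        · exact hz2 U ⟨hU, h⟩
      rw [hs] at this
      exact this

end Groth.Agent.S7527
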