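import Groth.Statements.S7528
import Groth.Agent.Lib.Helper10Spectral
-- import your own Groth.Agent.* helpers here

set_option autoImplicit false
universe u
open SpecSp

namespace Groth.Agent.S7528

/-- For a spectral space X the following are equivalent: (1) X is profinite, i.e. quasi-compact,
Hausdorff and totally disconnected (quasi-compactness being automatic); (2) X is Hausdorff; (3) X is
totally disconnected; (4) every quasi-compact open subset is closed; (5) there are no nontrivial
specializations between points; (6) every point is closed; (7) every point is the generic point of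
an irreducible component; (8) the constructible topology coincides with the topology of X. -/
theorem result (X : Type u) [tX : TopologicalSpace X] [SpectralSpace X] :
    List.TFAE [
      T2Space X ∧ TotallyDisconnectedSpace X,
      T2Space X,
      TotallyDisconnectedSpace X,
      ∀ U : Set X, IsOpen U → IsCompact U → IsClosed U,
      ∀ x y : X, x ⤳ y → x = y,
      ∀ x : X, IsClosed ({x} : Set X),
      ∀ x : X, closure ({x} : Set X) ∈ irreducibleComponents X,
      constructibleTopology X = tX] := by
  tfae_have 1 → 2 := fun h => h.1
  tfae_have 1 → 3 := fun h => h.2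
  tfae_have 2 → 4 := fun _ U _ hUc => hUc.isClosed
  tfae_have 4 → 5 := by
    intro h4 x y hxy
    by_contra hne
    obtain ⟨U, hUo, hUc, hU⟩ :=
      Groth.Agent.Lib.Helper10.Spectral.exists_isCompact_isOpen_separating hne
    rcases hU with ⟨hx, hy⟩ | ⟨hy, hx⟩
    · -- x ∈ U closed, so closure {x} ⊆ U, y ∈ closure {x}
      have hcl : IsClosed U := h4 U hUo hUc
      have : y ∈ closure ({x} : Set X) := hxy.mem_closure
      have h2 : closure ({x} : Set X) ⊆ U := hcl.closure_subset_iff.mpr (by simpa using hx)
      exact hy (h2 this)
    · exact hx ((specializes_iff_forall_open.mp hxy) U hUo hy)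
  tfae_have 3 → 5 := by
    intro h3 x y hxy
    have hpre : IsPreconnected ({x, y} : Set X) := by
      apply (isPreconnected_singleton (x := x)).subset_closure
      · simp
      · intro z hz
        rcases hz with rfl | rfl
        · exact subset_closure rfl
        · exact hxy.mem_closure
    exact hpre.subsingleton (by simp) (by simp)
  tfae_have 5 → 6 := by
    intro h5 x
    rw [← closure_subset_iff_isClosed]
    intro y hy
    have : x ⤳ y := specializes_iff_mem_closure.mpr hy
    simp [h5 x y this]
  tfae_have 6 → 5 := by
    intro h6 x y hxy
    have := hxy.mem_closure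
    rw [(h6 x).closure_eq] at this
    exact (Set.mem_singleton_iff.mp this).symm
  tfae_have 5 → 8 := by
    intro h5
    apply le_antisymm Groth.Agent.Lib.Helper10.Spectral.constructibleTopology_le
    intro U hU
    apply Groth.Agent.Lib.Helper10.Spectral.isOpen_of_isOpen_constr_of_stableUnderGeneralization hU
    intro x y hyx hx
    rw [h5 y x hyx]; exact hx
  tfae_have 8 → 1 := by
    intro h8
    have h1 := Groth.Agent.Lib.Helper10.Spectral.t2Space_constr (X := X)
    have h2 := Groth.Agent.Lib.Helper10.Spectral.totallyDisconnectedSpace_constr (X := X)
    rw [h8] at h1 h2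
    exact ⟨h1, h2⟩
  tfae_have 5 → 7 := by
    intro h5 x
    refine ⟨isIrreducible_singleton.closure, fun Z hZ hle => ?_⟩
    have hgen := hZ.isGenericPoint_genericPoint_closure
    have hxZ : x ∈ Z := hle (subset_closure rfl)
    have hspec : hZ.genericPoint ⤳ x := by
      rw [specializes_iff_mem_closure, hgen.def]
      exact subset_closure hxZ
    have heq := h5 _ _ hspec
    rw [heq] at hgen
    calc Z ⊆ closure Z := subset_closure
      _ = closure {x} := hgen.def.symm
  tfae_have 7 → 5 := by
    intro h7 x y hxy
    have h1 : closure ({y} : Set X) ⊆ closure {x} := hxy.closure_subset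
    have h2 : closure ({x} : Set X) ⊆ closure {y} :=
      (h7 y).2 isIrreducible_singleton.closure h1
    have hyx : y ⤳ x := specializes_iff_closure_subset.mpr h2
    exact (hxy.antisymm hyx).eq
  tfae_finish

end Groth.Agent.S7528
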