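import Groth.Statements.S7532
import Groth.Agent.Lib.Helper10Sierpinski
-- import your own Groth.Agent.* helpers here

set_option autoImplicit false
universe u
open SpecSp

namespace Groth.Agent.S7532

/-- Let W be the two-point space with one closed and one non-closed point (here the Sierpiński topology
on Prop). A topological space X is spectral exactly when, for some index type I, X admits a
topological embedding into the power W^I whose image is a closed set for the constructible topology
on W^I. -/
theorem result (X : Type u) [TopologicalSpace X] :
    SpectralSpace X ↔ ∃ (I : Type u) (f : X → (I → Prop)),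
      Topology.IsEmbedding f ∧ @IsClosed (I → Prop) (constructibleTopology (I → Prop)) (Set.range f) := by
  classical
  constructor
  · intro hX
    let I := {U : Set X // IsOpen U ∧ IsCompact U}
    let f : X → (I → Prop) := fun x U => x ∈ U.1
    have hfc : Continuous f := continuous_pi fun U => continuous_Prop.mpr U.2.1
    have hpre : ∀ U : I, f ⁻¹' {p | p U} = U.1 := fun U => rfl
    have hind : Topology.IsInducing f := by
      constructor
      apply le_antisymm
      · exact continuous_iff_le_induced.mp hfc
      · intro O hO
        change IsOpen O at hO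
        rw [PrespectralSpace.isTopologicalBasis.open_eq_sUnion' hO]
        apply @isOpen_sUnion _ (TopologicalSpace.induced f inferInstance)
        rintro V ⟨⟨hVo, hVc⟩, _⟩
        rw [isOpen_induced_iff]
        exact ⟨{p | p ⟨V, hVo, hVc⟩}, Groth.Agent.Lib.Helper10.Sierpinski.isOpen_coord _, rfl⟩
    have hinj : Function.Injective f := by
      intro x y hxy
      by_contra hne
      obtain ⟨U, hUo, hUc, hU⟩ :=
        Groth.Agent.Lib.Helper10.Spectral.exists_isCompact_isOpen_separating hne
      have := congrFun hxy ⟨U, hUo, hUc⟩
      simp only [f, eq_iff_iff] at this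
      rcases hU with ⟨hx, hy⟩ | ⟨hy, hx⟩
      · exact hy (this.mp hx)
      · exact hx (this.mpr hy)
    have hsp : IsSpectralMap f := by
      refine ⟨hfc, fun O hOo hOc => ?_⟩
      obtain ⟨s, hs, rfl⟩ := (isCompact_open_iff_eq_finite_iUnion_of_isTopologicalBasis
        Groth.Agent.Lib.Helper10.Sierpinski.basic
        Groth.Agent.Lib.Helper10.Sierpinski.isTopologicalBasis_basic
        Groth.Agent.Lib.Helper10.Sierpinski.isCompact_basic O).mp ⟨hOc, hOo⟩
      rw [Set.preimage_iUnion₂]
      apply hs.isCompact_biUnion
      intro F _
      have : f ⁻¹' Groth.Agent.Lib.Helper10.Sierpinski.basic F = ⋂ U ∈ F, (U : I).1 := by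
        ext x
        simp [Groth.Agent.Lib.Helper10.Sierpinski.basic, f]
      rw [this]
      exact Groth.Agent.Lib.Helper10.Spectral.isCompact_biInter_finset F _ fun U _ => U.2
    refine ⟨I, f, ⟨hind, hinj⟩, ?_⟩
    have := Groth.Agent.Lib.Helper10.Spectral.isClosed_constr_image hsp
      (@isClosed_univ _ (constructibleTopology X))
    rwa [Set.image_univ] at this
  · rintro ⟨I, f, hf, hcl⟩
    have h1 : SpectralSpace (Set.range f) :=
      Groth.Agent.Lib.Helper10.Spectral.spectralSpace_of_isClosed_constr hcl
    let e : X ≃ₜ Set.range f := hf.toHomeomorph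
    have h2 : CompactSpace X := e.symm.compactSpace
    exact e.isOpenEmbedding.spectralSpace

end Groth.Agent.S7532
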