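import Groth.Statements.S7539
import Groth.Agent.Lib.Helper10Spectral
-- import your own Groth.Agent.* helpers here

set_option autoImplicit false
universe u
open SpecSp

namespace Groth.Agent.S7539

/-- For a subset W of a spectral space X, these five conditions coincide: (1) W can be written as an
intersection of constructible subsets and is stable under generalization; (2) W is quasi-compact and
stable under generalization; (3) for some quasi-compact E ⊆ X, W consists exactly of the points that
specialize to a point of E; (4) W is the intersection of some family of quasi-compact opens; (5)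
there are a nonempty index set I and quasi-compact opens U_i with W = ⋂ U_i such that for all i, j
some U_k is contained in U_i ∩ U_j. -/
theorem result {X : Type u} [TopologicalSpace X] [SpectralSpace X] (W : Set X) :
    List.TFAE [
      (∃ S : Set (Set X), (∀ s ∈ S, Topology.IsConstructible s) ∧ W = ⋂₀ S) ∧ StableUnderGeneralization W,
      IsCompact W ∧ StableUnderGeneralization W,
      ∃ E : Set X, IsCompact E ∧ W = {x | ∃ e ∈ E, x ⤳ e},
      ∃ S : Set (Set X), (∀ s ∈ S, IsOpen s ∧ IsCompact s) ∧ W = ⋂₀ S,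
      ∃ (I : Type u) (_ : Nonempty I) (U : I → Set X), (∀ i, IsOpen (U i) ∧ IsCompact (U i)) ∧
        W = ⋂ i, U i ∧ ∀ i j, ∃ k, U k ⊆ U i ∩ U j] := by
  classical
  tfae_have 1 → 2 := by
    rintro ⟨⟨S, hS, rfl⟩, hgen⟩
    refine ⟨?_, hgen⟩
    apply Groth.Agent.Lib.Helper10.Spectral.isCompact_of_isClosed_constr
    rw [Set.sInter_eq_iInter]
    exact Groth.Agent.Lib.Helper10.Spectral.isClosed_constr_iInter fun s =>
      Groth.Agent.Lib.Helper10.Spectral.isClosed_constr_of_isConstructible (hS s.1 s.2)
  tfae_have 2 → 3 := by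
    rintro ⟨hc, hgen⟩
    refine ⟨W, hc, ?_⟩
    ext x
    constructor
    · intro hx; exact ⟨x, hx, specializes_rfl⟩
    · rintro ⟨e, he, hxe⟩; exact hgen hxe he
  tfae_have 3 → 4 := by
    rintro ⟨E, hE, rfl⟩
    refine ⟨{U : Set X | IsOpen U ∧ IsCompact U ∧ E ⊆ U}, fun s hs => ⟨hs.1, hs.2.1⟩, ?_⟩
    exact Groth.Agent.Lib.Helper10.Spectral.generalizations_eq_sInter hE
  tfae_have 4 → 5 := by
    rintro ⟨S, hS, rfl⟩
    refine ⟨Finset S, ⟨∅⟩, fun F => ⋂ s ∈ F, (s : Set X), fun F => ⟨?_, ?_⟩, ?_, ?_⟩
    · exact isOpen_biInter_finset fun s _ => (hS s.1 s.2).1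
    · exact Groth.Agent.Lib.Helper10.Spectral.isCompact_biInter_finset F _ fun s _ => hS s.1 s.2
    · ext x
      simp only [Set.mem_sInter, Set.mem_iInter]
      constructor
      · intro h F s _; exact h s.1 s.2
      · intro h s hs
        exact h {⟨s, hs⟩} ⟨s, hs⟩ (Finset.mem_singleton_self _)
    · intro F G
      refine ⟨F ∪ G, ?_⟩
      intro x hx
      simp only [Set.mem_iInter, Set.mem_inter_iff] at hx ⊢
      exact ⟨fun s hs => hx s (Finset.mem_union_left _ hs), fun s hs => hx s (Finset.mem_union_right _ hs)⟩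
  tfae_have 5 → 1 := by
    rintro ⟨I, _, U, hU, rfl, _⟩
    refine ⟨⟨Set.range U, ?_, (Set.sInter_range U).symm⟩, ?_⟩
    · rintro _ ⟨i, rfl⟩
      exact (hU i).2.isConstructible (hU i).1
    · intro x y hyx hx
      simp only [Set.mem_iInter] at hx ⊢
      exact fun i => (hU i).1.stableUnderGeneralization hyx (hx i)
  tfae_finish

end Groth.Agent.S7539
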