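import Groth.Statements.S7540
import Groth.Agent.Lib.Helper10Spectral
-- import your own Groth.Agent.* helpers here

set_option autoImplicit false
universe u
open SpecSp

namespace Groth.Agent.S7540

/-- Let X be a spectral space, I a nonempty index set and U_i ⊆ X quasi-compact opens such that for all
i, j some U_k lies in U_i ∩ U_j; put W = ⋂ U_i. Then every open subset of X containing W contains
some U_i. The published statement also asserts that W is spectral and is the limit of the U_i; this
row states the neighbourhood property. -/
theorem result {X : Type u} [TopologicalSpace X] [SpectralSpace X]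
    {I : Type u} [Nonempty I] (U : I → Set X) (hU : ∀ i, IsOpen (U i) ∧ IsCompact (U i))
    (hdir : ∀ i j, ∃ k, U k ⊆ U i ∩ U j) :
    ∀ V : Set X, IsOpen V → (⋂ i, U i) ⊆ V → ∃ i, U i ⊆ V := by
  classical
  intro V hV hsub
  by_contra hcon
  push_neg at hcon
  -- directedness for finite families
  have hfin : ∀ s : Finset I, ∃ k, ∀ i ∈ s, U k ⊆ U i := by
    intro s
    induction s using Finset.induction_on with
    | empty => exact ⟨Classical.arbitrary I, by simp⟩
    | insert a s _ ih =>
      obtain ⟨k, hk⟩ := ih
      obtain ⟨l, hl⟩ := hdir k a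
      refine ⟨l, fun i hi => ?_⟩
      rcases Finset.mem_insert.mp hi with rfl | hi
      · exact hl.trans Set.inter_subset_right
      · exact (hl.trans Set.inter_subset_left).trans (hk i hi)
  let Z : Option I → Set X := fun o => o.elim Vᶜ U
  have hZ : ∀ o, @IsClosed X (constructibleTopology X) (Z o) := by
    rintro (_ | i)
    · exact Groth.Agent.Lib.Helper10.Spectral.isClosed_constr_of_isClosed hV.isClosed_compl
    · exact Groth.Agent.Lib.Helper10.Spectral.isClosed_constr_of_isCompact_isOpen (hU i).1 (hU i).2
  have hne : ∀ s : Finset (Option I), (⋂ o ∈ s, Z o).Nonempty := by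
    intro s
    obtain ⟨k, hk⟩ := hfin (s.preimage some (Option.some_injective _).injOn)
    obtain ⟨x, hxU, hxV⟩ := Set.not_subset.mp (hcon k)
    refine ⟨x, ?_⟩
    simp only [Set.mem_iInter]
    rintro (_ | i) hi
    · exact hxV
    · exact hk i (by simpa using hi) hxU
  obtain ⟨x, hx⟩ := Groth.Agent.Lib.Helper10.Spectral.nonempty_iInter_of_isClosed_constr Z hZ hne
  rw [Set.mem_iInter] at hx
  have h1 : x ∈ ⋂ i, U i := Set.mem_iInter.mpr fun i => hx (some i)
  exact hx none (hsub h1)

end Groth.Agent.S7540
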