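import Groth.Statements.S7541
import Groth.Agent.Lib.Helper10Spectral
-- import your own Groth.Agent.* helpers here

set_option autoImplicit false
universe u
open SpecSp

namespace Groth.Agent.S7541

/-- Let X be a spectral space, E ⊆ X a constructible subset and W the set of points of X that specialize
to a point of E. Then the subspace W minus E is a spectral space. (The description of W minus E as a
limit of the U_i minus E is not recorded here.) -/
theorem result {X : Type u} [TopologicalSpace X] [SpectralSpace X]
    (E : Set X) (hE : Topology.IsConstructible E) :
    SpectralSpace ↥({x : X | ∃ e ∈ E, x ⤳ e} \ E) := by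
  apply Groth.Agent.Lib.Helper10.Spectral.spectralSpace_of_isClosed_constr
  have hEclopen := Groth.Agent.Lib.Helper10.Spectral.isClopen_constr_of_isConstructible hE
  have hEc : IsCompact E := Groth.Agent.Lib.Helper10.Spectral.isCompact_of_isClosed_constr hEclopen.1
  rw [Groth.Agent.Lib.Helper10.Spectral.generalizations_eq_sInter hEc, Set.diff_eq]
  apply Groth.Agent.Lib.Helper10.Spectral.isClosed_constr_inter
  · rw [Set.sInter_eq_iInter]
    exact Groth.Agent.Lib.Helper10.Spectral.isClosed_constr_iInter fun s =>
      Groth.Agent.Lib.Helper10.Spectral.isClosed_constr_of_isCompact_isOpen s.2.1 s.2.2.1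
  · rw [@isClosed_compl_iff _ (constructibleTopology X)]
    exact hEclopen.2

end Groth.Agent.S7541
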