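import Groth.Statements.S7544
-- import your own Groth.Agent.* helpers here

set_option autoImplicit false
universe u
open ConstrTop

namespace Groth.Agent.S7544

/-- Let X be a quasi-compact topological space whose quasi-compact opens form a basis and are closed
under pairwise intersection. Take T ⊆ X to be locally closed, quasi-compact, and with retrocompact
complement. Then T is constructible in X. -/
theorem result {X : Type u} [TopologicalSpace X]
    [CompactSpace X] [PrespectralSpace X] [QuasiSeparatedSpace X]
    (T : Set X) (hT : IsLocallyClosed T) (hTc : IsCompact T) (hTr : IsRetrocompact Tᶜ) :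
    Topology.IsConstructible T := by
  classical
  -- T is open in its closure: T = O ∩ closure T
  obtain ⟨O, hO, hOT⟩ : ∃ O : Set X, IsOpen O ∧ T = O ∩ closure T := by
    have h := hT.isOpen_preimage_val_closure
    obtain ⟨O, hO, hOeq⟩ := isOpen_induced_iff.mp h
    refine ⟨O, hO, ?_⟩
    have := congrArg (fun s => (Subtype.val : closure T → X) '' s) hOeq
    simp only [Subtype.image_preimage_coe] at this
    rw [Set.inter_eq_right.mpr subset_closure] at this
    rw [Set.inter_comm]; exact this.symm
  -- cover T by compact opens inside O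
  have hcov : T ⊆ ⋃ U : {U : Set X // IsOpen U ∧ IsCompact U ∧ U ⊆ O}, U.1 := by
    intro x hx
    have hxO : x ∈ O := (hOT.le hx).1
    obtain ⟨V, ⟨hVo, hVc⟩, hxV, hVO⟩ :=
      PrespectralSpace.isTopologicalBasis.exists_subset_of_mem_open hxO hO
    exact Set.mem_iUnion.mpr ⟨⟨V, hVo, hVc, hVO⟩, hxV⟩
  obtain ⟨t, ht⟩ := hTc.elim_finite_subcover _ (fun U => U.2.1) hcov
  set U : Set X := ⋃ U ∈ t, U.1 with hUdef
  have hUo : IsOpen U := isOpen_biUnion fun U _ => U.2.1
  have hUc : IsCompact U := t.isCompact_biUnion fun U _ => U.2.2.1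
  have hUO : U ⊆ O := Set.iUnion₂_subset fun U _ => U.2.2.2
  have hTU : T ⊆ U := ht
  have hTeq : T = U ∩ closure T := by
    apply subset_antisymm
    · exact fun x hx => ⟨hTU hx, subset_closure hx⟩
    · exact fun x hx => hOT.ge ⟨hUO hx.1, hx.2⟩
  -- V = U \ T is compact open
  have hVeq : U \ T = U ∩ (closure T)ᶜ := by
    ext x
    constructor
    · rintro ⟨hxU, hxT⟩
      refine ⟨hxU, fun hxc => hxT ?_⟩
      rw [hTeq]; exact ⟨hxU, hxc⟩
    · rintro ⟨hxU, hxc⟩
      exact ⟨hxU, fun hxT => hxc (subset_closure hxT)⟩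
  have hVo : IsOpen (U \ T) := by
    rw [hVeq]; exact hUo.inter isClosed_closure.isOpen_compl
  have hVc : IsCompact (U \ T) := by
    have := hTr hUc hUo
    rwa [Set.inter_comm, ← Set.sdiff_eq] at this
  have hfin : T = U \ (U \ T) := by
    rw [Set.sdiff_sdiff_right_self, Set.inter_eq_right.mpr hTU]
  rw [hfin]
  exact (hUc.isConstructible hUo).sdiff (hVc.isConstructible hVo)

end Groth.Agent.S7544
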