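import Groth.Statements.S7546
import Groth.Agent.Lib.Helper2Constr

set_option autoImplicit false
universe u
open ConstrTop

namespace Groth.Agent.S7546

/-- On `Y`, the set `E` or its complement contains a nonempty relatively open subset of `Y`. -/
def Tr {X : Type u} [TopologicalSpace X] (Y E : Set X) : Prop :=
  ∃ O : Set X, IsOpen O ∧ (O ∩ Y).Nonempty ∧ (O ∩ Y ⊆ E ∨ O ∩ Y ⊆ Eᶜ)

lemma tr_empty {X : Type u} [TopologicalSpace X] {Y : Set X} (hY : IsIrreducible Y) : Tr Y ∅ :=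
  ⟨Set.univ, isOpen_univ, by rw [Set.univ_inter]; exact hY.1, Or.inr (by simp)⟩

lemma tr_union {X : Type u} [TopologicalSpace X] {Y s t : Set X} (hY : IsIrreducible Y)
    (hs : Tr Y s) (ht : Tr Y t) : Tr Y (s ∪ t) := by
  obtain ⟨Us, hUs, hne_s, hs'⟩ := hs
  obtain ⟨Ut, hUt, hne_t, ht'⟩ := ht
  have hne : (Y ∩ (Us ∩ Ut)).Nonempty :=
    hY.2 Us Ut hUs hUt (by rwa [Set.inter_comm]) (by rwa [Set.inter_comm])
  refine ⟨Us ∩ Ut, hUs.inter hUt, by rwa [Set.inter_comm], ?_⟩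
  rcases hs' with hs' | hs'
  · left
    intro y hy
    exact Or.inl (hs' ⟨hy.1.1, hy.2⟩)
  · rcases ht' with ht' | ht'
    · left
      intro y hy
      exact Or.inr (ht' ⟨hy.1.2, hy.2⟩)
    · right
      intro y hy
      rw [Set.compl_union]
      exact ⟨hs' ⟨hy.1.1, hy.2⟩, ht' ⟨hy.1.2, hy.2⟩⟩

lemma tr_locallyClosed {X : Type u} [TopologicalSpace X] {Y L : Set X} (hY : IsIrreducible Y)
    (hL : IsLocallyClosed L) : Tr Y L := by
  obtain ⟨U, C, hU, hC, rfl⟩ := hL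
  by_cases h1 : (U ∩ Y).Nonempty
  · by_cases h2 : Y ⊆ C
    · exact ⟨U, hU, h1, Or.inl (fun y hy => ⟨hy.1, h2 hy.2⟩)⟩
    · obtain ⟨y, hyY, hyC⟩ := Set.not_subset.mp h2
      exact ⟨Cᶜ, hC.isOpen_compl, ⟨y, hyC, hyY⟩, Or.inr (fun z hz hzL => hz.1 hzL.2)⟩
  · refine ⟨Set.univ, isOpen_univ, by rw [Set.univ_inter]; exact hY.1, Or.inr ?_⟩
    rw [Set.univ_inter]
    intro y hy hyL
    exact h1 ⟨y, hyL.1, hy⟩

lemma tr_iUnion {X : Type u} [TopologicalSpace X] {Y : Set X} (hY : IsIrreducible Y) :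
    ∀ (n : ℕ) (L : Fin n → Set X), (∀ i, IsLocallyClosed (L i)) → Tr Y (⋃ i, L i) := by
  intro n
  induction n with
  | zero =>
    intro L _
    have : (⋃ i, L i) = ∅ := by
      ext z; simp only [Set.mem_iUnion, Set.mem_empty_iff_false, iff_false]
      rintro ⟨i, _⟩; exact i.elim0
    rw [this]; exact tr_empty hY
  | succ n ih =>
    intro L hL
    have : (⋃ i, L i) = (⋃ i : Fin n, L i.castSucc) ∪ L (Fin.last n) := by
      ext z
      simp only [Set.mem_iUnion, Set.mem_union]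
      constructor
      · rintro ⟨i, hi⟩
        refine Fin.lastCases (fun h => Or.inr h) (fun j h => Or.inl ⟨j, h⟩) i hi
      · rintro (⟨j, hj⟩ | h)
        · exact ⟨j.castSucc, hj⟩
        · exact ⟨Fin.last n, h⟩
    rw [this]
    exact tr_union hY (ih _ (fun i => hL _)) (tr_locallyClosed hY (hL _))

lemma open_of_tr {X : Type u} [TopologicalSpace X] {Y E : Set X} (h : Tr Y E)
    (hd : Y ⊆ closure (E ∩ Y)) :
    ∃ U : Set X, IsOpen U ∧ (U ∩ Y).Nonempty ∧ U ∩ Y ⊆ E := by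
  obtain ⟨U, hU, hne, h | h⟩ := h
  · exact ⟨U, hU, hne, h⟩
  · exfalso
    have h1 : E ∩ Y ⊆ Uᶜ := by
      intro y hy hyU
      exact h ⟨hyU, hy.2⟩ hy.1
    have h2 : closure (E ∩ Y) ⊆ Uᶜ := closure_minimal h1 hU.isClosed_compl
    obtain ⟨y, hyU, hyY⟩ := hne
    exact h2 (hd hyY) hyU

/-- Let X be a topological space, Z ⊆ X irreducible and E ⊆ X a finite union of locally closed subsets
(for instance a constructible set). Then E ∩ Z is dense in Z if and only if E ∩ Z contains a subset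
of the form U ∩ Z, U open in X, which is dense in Z. If moreover ξ ∈ Z is a generic point of Z,
these conditions are equivalent to ξ ∈ E. -/
theorem result {X : Type u} [TopologicalSpace X] (Z : Set X) (hZ : IsIrreducible Z)
    {n : ℕ} (L : Fin n → Set X) (hL : ∀ i, IsLocallyClosed (L i)) (E : Set X) (hE : E = ⋃ i, L i) :
    (Z ⊆ closure (E ∩ Z) ↔ ∃ U : Set X, IsOpen U ∧ U ∩ Z ⊆ E ∧ Z ⊆ closure (U ∩ Z)) ∧
    (∀ ξ : X, ξ ∈ Z → Z ⊆ closure {ξ} → (Z ⊆ closure (E ∩ Z) ↔ ξ ∈ E)) := by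
  subst hE
  have htr : Tr Z (⋃ i, L i) := tr_iUnion hZ n L hL
  refine ⟨⟨fun hd => ?_, ?_⟩, ?_⟩
  · obtain ⟨U, hU, hne, hsub⟩ := open_of_tr htr hd
    exact ⟨U, hU, hsub, Groth.Agent.Lib.Helper2.Constr.subset_closure_of_open_inter hZ hU hne⟩
  · rintro ⟨U, _, hsub, hd⟩
    exact hd.trans (closure_mono (fun z hz => ⟨hsub hz, hz.2⟩))
  · intro ξ hξZ hξ
    constructor
    · intro hd
      obtain ⟨U, hU, ⟨z, hzU, hzZ⟩, hsub⟩ := open_of_tr htr hd
      have hz : z ∈ closure ({ξ} : Set X) := hξ hzZ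
      obtain ⟨w, hwU, hw⟩ := mem_closure_iff.mp hz U hU hzU
      rw [Set.mem_singleton_iff] at hw
      subst hw
      exact hsub ⟨hwU, hξZ⟩
    · intro hξE
      refine hξ.trans (closure_mono ?_)
      intro w hw
      rw [Set.mem_singleton_iff] at hw
      subst hw
      exact ⟨hξE, hξZ⟩

end Groth.Agent.S7546
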