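import Groth.Statements.S7547
-- import your own Groth.Agent.* helpers here

set_option autoImplicit false
universe u
open PtTop

namespace Groth.Agent.S7547

/-- Let X be a Kolmogorov topological space whose quasi-compact opens form a basis for the topology. If
X is not Jacobson, there is a point x ∈ X which is not closed but such that {x} is locally closed. -/
theorem result {X : Type u} [TopologicalSpace X]
    [T0Space X] [PrespectralSpace X] (hX : ¬ JacobsonSpace X) :
    ∃ x : X, ¬ IsClosed ({x} : Set X) ∧ IsLocallyClosed ({x} : Set X) := by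
  classical
  rw [jacobsonSpace_iff_locallyClosed] at hX
  push_neg at hX
  obtain ⟨Z, ⟨z, hz⟩, hZ, hZe⟩ := hX
  obtain ⟨U, C, hU, hC, rfl⟩ := hZ
  -- shrink U to a compact open neighbourhood of z
  obtain ⟨V, ⟨hVo, hVc⟩, hzV, hVU⟩ :=
    PrespectralSpace.isTopologicalBasis.exists_subset_of_mem_open hz.1 hU
  have : CompactSpace V := isCompact_iff_compactSpace.mp hVc
  have hS : IsClosed ((Subtype.val : V → X) ⁻¹' C) := hC.preimage continuous_subtype_val
  obtain ⟨x, hxC, hxcl⟩ := hS.exists_closed_singleton ⟨⟨z, hzV⟩, hz.2⟩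
  refine ⟨x.1, ?_, ?_⟩
  · intro hcl
    have : x.1 ∈ U ∩ C ∩ closedPoints X := ⟨⟨hVU x.2, hxC⟩, hcl⟩
    rw [hZe] at this
    exact this
  · -- {x} = V ∩ closure {x}
    have heq : ({x.1} : Set X) = V ∩ closure {x.1} := by
      apply subset_antisymm
      · rintro _ rfl
        exact ⟨x.2, subset_closure rfl⟩
      · rintro y ⟨hyV, hycl⟩
        have h1 : (⟨y, hyV⟩ : V) ∈ closure ({x} : Set V) := by
          rw [Topology.IsInducing.subtypeVal.closure_eq_preimage_closure_image, Set.image_singleton]
          exact hycl
        rw [hxcl.closure_eq] at h1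
        exact congrArg Subtype.val h1
    rw [heq]
    exact ⟨V, closure {x.1}, hVo, isClosed_closure, rfl⟩

end Groth.Agent.S7547
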