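import Groth.Statements.S7548
-- import your own Groth.Agent.* helpers here

set_option autoImplicit false
universe u
open PtTop

namespace Groth.Agent.S7548

/-- Let X be a Jacobson space and let T = ⋃ T_i be a union of subsets T_i ⊆ X each locally closed in X
(open, closed, locally closed and constructible subsets are of this form). Then T is Jacobson and
every point of T closed in T is closed in X. -/
theorem result {X : Type u} [TopologicalSpace X] [JacobsonSpace X]
    {ι : Type u} (T : ι → Set X) (hT : ∀ i, IsLocallyClosed (T i)) :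
    JacobsonSpace ↥(⋃ i, T i) ∧
      closedPoints ↥(⋃ i, T i) ⊆ (Subtype.val : ↥(⋃ i, T i) → X) ⁻¹' closedPoints X := by
  classical
  set T' : Set X := ⋃ i, T i with hT'
  -- closed points of T' are closed in X
  have hcl : ∀ x : T', IsClosed ({x} : Set T') → IsClosed ({x.1} : Set X) := by
    intro x hx
    obtain ⟨i, hi⟩ := Set.mem_iUnion.mp x.2
    apply isClosed_singleton_of_isLocallyClosed_singleton
    have heq : ({x.1} : Set X) = closure {x.1} ∩ T i := by
      apply subset_antisymm
      · rintro _ rfl; exact ⟨subset_closure rfl, hi⟩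
      · rintro y ⟨hycl, hyT⟩
        have hyT' : y ∈ T' := Set.mem_iUnion.mpr ⟨i, hyT⟩
        have h1 : (⟨y, hyT'⟩ : T') ∈ closure ({x} : Set T') := by
          rw [Topology.IsInducing.subtypeVal.closure_eq_preimage_closure_image, Set.image_singleton]
          exact hycl
        rw [hx.closure_eq] at h1
        exact congrArg Subtype.val h1
    rw [heq]
    exact isClosed_closure.isLocallyClosed.inter (hT i)
  refine ⟨?_, fun x hx => hcl x hx⟩
  rw [jacobsonSpace_iff_locallyClosed]
  rintro Z ⟨z, hz⟩ hZ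
  obtain ⟨U, C, hU, hC, rfl⟩ := hZ
  obtain ⟨U', hU', rfl⟩ := isOpen_induced_iff.mp hU
  obtain ⟨C', hC', rfl⟩ := isClosed_induced_iff.mp hC
  obtain ⟨i, hi⟩ := Set.mem_iUnion.mp z.2
  have hL : IsLocallyClosed (U' ∩ C' ∩ T i) :=
    (hU'.isLocallyClosed.inter hC'.isLocallyClosed).inter (hT i)
  have hne : (U' ∩ C' ∩ T i).Nonempty := ⟨z.1, ⟨hz.1, hz.2⟩, hi⟩
  obtain ⟨x, ⟨⟨hxU, hxC⟩, hxT⟩, hxcl⟩ := nonempty_inter_closedPoints hne hL
  have hxT' : x ∈ T' := Set.mem_iUnion.mpr ⟨i, hxT⟩
  refine ⟨⟨x, hxT'⟩, ⟨hxU, hxC⟩, ?_⟩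
  have : ({(⟨x, hxT'⟩ : T')} : Set T') = (Subtype.val : T' → X) ⁻¹' {x} := by
    ext y
    simp [Subtype.ext_iff]
  change IsClosed ({(⟨x, hxT'⟩ : T')} : Set T')
  rw [this]
  exact IsClosed.preimage continuous_subtype_val hxcl

end Groth.Agent.S7548
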