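import Groth.Statements.S7550
-- import your own Groth.Agent.* helpers here

set_option autoImplicit false
universe u
open PtTop

namespace Groth.Agent.S7550

/-- Let f : X → Y be a continuous and open map of topological spaces, with X Noetherian, every
irreducible closed subset of X having a generic point, and Y Kolmogorov. Then generalizations lift
along f. (Part (1), closed maps are specializing, is a library fact.) -/
theorem result {X Y : Type u} [TopologicalSpace X] [TopologicalSpace Y]
    [TopologicalSpace.NoetherianSpace X] [QuasiSober X] [T0Space Y]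
    (f : X → Y) (hf : Continuous f) (hfo : IsOpenMap f) :
    GeneralizingMap f := by
  classical
  intro x y' hy'
  -- T = f⁻¹{y'}
  set T : Set X := f ⁻¹' {y'} with hT
  -- x ∈ closure T
  have hxT : x ∈ closure T := by
    rw [mem_closure_iff]
    intro U hU hxU
    have hfU : IsOpen (f '' U) := hfo U hU
    have : y' ∈ f '' U := hy'.mem_open hfU ⟨x, hxU, rfl⟩
    obtain ⟨u, huU, hu⟩ := this
    exact ⟨u, huU, hu⟩
  -- minimal closed Z with x ∈ closure (T ∩ Z)
  let 𝒮 : Set (TopologicalSpace.Closeds X) := {Z | x ∈ closure (T ∩ (Z : Set X))}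
  have h𝒮 : 𝒮.Nonempty := ⟨⊤, by simpa [𝒮] using hxT⟩
  obtain ⟨Z, hZ𝒮, hZmin⟩ := wellFounded_lt.has_min 𝒮 h𝒮
  have hZx : x ∈ closure (T ∩ (Z : Set X)) := hZ𝒮
  have hclsub : closure (T ∩ (Z : Set X)) ⊆ (Z : Set X) :=
    closure_minimal Set.inter_subset_right Z.isClosed
  -- minimality: any closed Z' ⊆ Z with x ∈ closure (T ∩ Z') equals Z
  have hmin : ∀ Z' : Set X, IsClosed Z' → Z' ⊆ (Z : Set X) → x ∈ closure (T ∩ Z') →
      (Z : Set X) ⊆ Z' := by
    intro Z' hZ'cl hZ'Z hxZ'
    by_contra hnot
    have hlt : (⟨Z', hZ'cl⟩ : TopologicalSpace.Closeds X) < Z := by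
      refine lt_of_le_of_ne hZ'Z ?_
      intro heq
      apply hnot
      rw [← heq]
      exact subset_rfl
    exact hZmin ⟨Z', hZ'cl⟩ hxZ' hlt
  -- closure (T ∩ Z) = Z
  have hdense : closure (T ∩ (Z : Set X)) = (Z : Set X) := by
    apply subset_antisymm hclsub
    apply hmin _ isClosed_closure hclsub
    apply closure_mono _ hZx
    exact fun t ht => ⟨ht.1, subset_closure ht⟩
  -- Z is irreducible
  have hZirr : IsIrreducible (Z : Set X) := by
    refine ⟨⟨x, hclsub hZx⟩, ?_⟩
    rw [isPreirreducible_iff_isClosed_union_isClosed]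
    intro z₁ z₂ hz₁ hz₂ hsub
    have hx12 : x ∈ closure (T ∩ (z₁ ∩ Z)) ∪ closure (T ∩ (z₂ ∩ Z)) := by
      rw [← closure_union]
      apply closure_mono _ hZx
      rintro t ⟨htT, htZ⟩
      rcases hsub htZ with h | h
      · exact Or.inl ⟨htT, h, htZ⟩
      · exact Or.inr ⟨htT, h, htZ⟩
    rcases hx12 with h | h
    · left
      exact (hmin _ (hz₁.inter Z.isClosed) Set.inter_subset_right h).trans Set.inter_subset_left
    · right
      exact (hmin _ (hz₂.inter Z.isClosed) Set.inter_subset_right h).trans Set.inter_subset_left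
  have hgen := hZirr.isGenericPoint_genericPoint Z.isClosed
  set ξ := hZirr.genericPoint with hξ
  refine ⟨ξ, hgen.specializes (hclsub hZx), ?_⟩
  -- f ξ = y'
  have hne : (T ∩ (Z : Set X)).Nonempty := by
    rw [← closure_nonempty_iff]; exact ⟨x, hZx⟩
  obtain ⟨t, htT, htZ⟩ := hne
  have h1 : f ξ ⤳ y' := by
    have : ξ ⤳ t := hgen.specializes htZ
    have h2 := this.map hf
    rwa [show f t = y' from htT] at h2
  have h2 : y' ⤳ f ξ := by
    rw [specializes_iff_mem_closure]
    have hsub : (Z : Set X) ⊆ f ⁻¹' closure {y'} := by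
      rw [← hdense]
      apply closure_minimal _ (isClosed_closure.preimage hf)
      rintro s ⟨hsT, _⟩
      have : f s = y' := hsT
      simp only [Set.mem_preimage, this]
      exact subset_closure rfl
    exact hsub hgen.mem
  exact (h1.antisymm h2).eq

end Groth.Agent.S7550
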