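import Groth.Statements.S7551
import Groth.Agent.Lib.Helper10Shrink
-- import your own Groth.Agent.* helpers here

set_option autoImplicit false
universe u
open PtTop

namespace Groth.Agent.S7551

/-- Let s, t : R → U and π : U → X be continuous maps between topological spaces satisfying: (1) π is an
open map, (2) U is a sober space, (3) s and t have finite fibres, (4) generalizations lift along s
and along t, and (5) the image of (t, s) : R → U × U is an equivalence relation on U and π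
identifies X, as a set, with the quotient of U by it. Then X is Kolmogorov. -/
theorem result {R U X : Type u}
    [TopologicalSpace R] [TopologicalSpace U] [TopologicalSpace X] [QuasiSober U] [T0Space U]
    (s t : R → U) (π : U → X) (hs : Continuous s) (ht : Continuous t) (hπ : Continuous π)
    (hπo : IsOpenMap π) (hsf : ∀ u, (s ⁻¹' {u}).Finite) (htf : ∀ u, (t ⁻¹' {u}).Finite)
    (hsg : GeneralizingMap s) (htg : GeneralizingMap t)
    (hE : Equivalence fun u u' : U => ∃ r, t r = u ∧ s r = u')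
    (hπs : Function.Surjective π) (hπq : ∀ u u' : U, π u = π u' ↔ ∃ r, t r = u ∧ s r = u') :
    T0Space X := by
  classical
  have hfin : ∀ u, {v | ∃ r, t r = u ∧ s r = v}.Finite := by
    intro u
    apply ((htf u).image s).subset
    rintro v ⟨r, hr, rfl⟩
    exact ⟨r, hr, rfl⟩
  -- Claim A
  have hA : ∀ u u' v', u ⤳ u' → (∃ r, t r = u' ∧ s r = v') →
      ∃ v, (∃ r, t r = u ∧ s r = v) ∧ v ⤳ v' := by
    intro u u' v' huu' hE'
    obtain ⟨r', hr't, hr's⟩ := hE.symm hE'
    obtain ⟨r, hrr', hrs⟩ := hsg (show u ⤳ s r' from hr's ▸ huu')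
    refine ⟨t r, hE.symm ⟨r, rfl, hrs⟩, ?_⟩
    rw [← hr't]
    exact hrr'.map ht
  -- Claim B
  have hB : ∀ u u', π u ⤳ π u' → ∃ v, (∃ r, t r = u ∧ s r = v) ∧ v ⤳ u' := by
    intro u u' hsp
    let C : Set U := ⋃ v ∈ {v | ∃ r, t r = u ∧ s r = v}, closure {v}
    have hCc : IsClosed C := (hfin u).isClosed_biUnion fun v _ => isClosed_closure
    have hCsat : ∀ w w', w ∈ C → (∃ r, t r = w ∧ s r = w') → w' ∈ C := by
      intro w w' hw hww'
      obtain ⟨v, hv, hwv⟩ := Set.mem_iUnion₂.mp hw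
      obtain ⟨v', hvv', hv'w'⟩ := hA v w w' (specializes_iff_mem_closure.mpr hwv) hww'
      exact Set.mem_iUnion₂.mpr ⟨v', hE.trans hv hvv', specializes_iff_mem_closure.mp hv'w'⟩
    have hopen : IsOpen (π '' Cᶜ) := hπo _ hCc.isOpen_compl
    by_contra hcon
    push Not at hcon
    have hu' : u' ∉ C := by
      intro hu'
      obtain ⟨v, hv, hu'v⟩ := Set.mem_iUnion₂.mp hu'
      exact hcon v hv (specializes_iff_mem_closure.mpr hu'v)
    have h1 : π u' ∈ π '' Cᶜ := ⟨u', hu', rfl⟩
    have h2 : π u ∈ π '' Cᶜ := hsp.mem_open hopen h1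
    obtain ⟨w, hw, hwu⟩ := h2
    have hwE : ∃ r, t r = w ∧ s r = u := (hπq w u).mp hwu
    have huC : u ∈ C := Set.mem_iUnion₂.mpr ⟨u, hE.refl u, subset_closure rfl⟩
    exact hw (hCsat u w huC (hE.symm hwE))
  refine ⟨fun x x' hxx' => ?_⟩
  obtain ⟨u, rfl⟩ := hπs x
  obtain ⟨u', rfl⟩ := hπs x'
  letI := specializationPreorder U
  have hSfin : ({v | ∃ r, t r = u ∧ s r = v} ∪ {v | ∃ r, t r = u' ∧ s r = v}).Finite :=
    (hfin u).union (hfin u')
  obtain ⟨m, hmS, hmax⟩ := hSfin.exists_maximal ⟨u, Or.inl (hE.refl u)⟩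
  have key : ∀ a b : U, π a ⤳ π b → π b ⤳ π a → (∃ r, t r = a ∧ s r = m) →
      (∀ v, (∃ r, t r = b ∧ s r = v) → v ⤳ m → m ⤳ v) → π a = π b := by
    intro a b hab hba ham hmx
    have hπm : π a = π m := (hπq a m).mpr ham
    obtain ⟨v, hbv, hvm⟩ := hB b m (hπm ▸ hba)
    have hmv := hmx v hbv hvm
    have hvm' : v = m := (hvm.antisymm hmv).eq
    subst hvm'
    exact (hπq a b).mpr (hE.trans ham (hE.symm hbv))
  rcases hmS with hm | hm
  · exact key u u' hxx'.specializes hxx'.specializes' hm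
      (fun v hv hvm => hmax (Or.inr hv) hvm)
  · exact (key u' u hxx'.specializes' hxx'.specializes hm
      (fun v hv hvm => hmax (Or.inl hv) hvm)).symm

end Groth.Agent.S7551
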