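import Groth.Statements.S7552
import Groth.Agent.Lib.Helper10KrullLift
-- import your own Groth.Agent.* helpers here

set_option autoImplicit false
universe u
open PtTop

namespace Groth.Agent.S7552

/-- Let f : X → Y be a continuous surjective map of topological spaces with Y sober, and assume that
specializations lift along f or that generalizations lift along f. Then dim X ≥ dim Y (Krull
dimensions as suprema of lengths of chains of irreducible closed subsets). -/
theorem result {X Y : Type u}
    [TopologicalSpace X] [TopologicalSpace Y] [QuasiSober Y] [T0Space Y]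
    (f : X → Y) (hf : Continuous f) (hsurj : Function.Surjective f)
    (hlift : SpecializingMap f ∨ GeneralizingMap f) :
    topologicalKrullDim Y ≤ topologicalKrullDim X := by
  classical
  refine le_trans ?_ Groth.Agent.Lib.Helper10.KrullLift.krullDim_specOrd_le
  unfold topologicalKrullDim
  let g : Groth.Agent.Lib.Helper10.KrullLift.SpecOrd X → TopologicalSpace.IrreducibleCloseds Y :=
    fun a => ⟨closure {f a.pt}, isIrreducible_singleton.closure, isClosed_closure⟩
  have hgen : ∀ a : TopologicalSpace.IrreducibleCloseds Y, ∃ η : Y, closure {η} = (a : Set Y) := by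
    intro a
    obtain ⟨η, hη⟩ := QuasiSober.sober a.isIrreducible a.isClosed
    exact ⟨η, hη.def⟩
  have hgs : Function.Surjective g := by
    intro a
    obtain ⟨η, hη⟩ := hgen a
    obtain ⟨x, rfl⟩ := hsurj η
    exact ⟨⟨x⟩, TopologicalSpace.IrreducibleCloseds.ext hη⟩
  rcases hlift with hs | hg
  · apply Groth.Agent.Lib.Helper10.KrullLift.krullDim_le_of_liftDown g hgs
    intro b a hab
    obtain ⟨η, hη⟩ := hgen a
    have hle : (a : Set Y) ⊆ closure {f b.pt} := hab.le
    have hspec : f b.pt ⤳ η := by
      rw [specializes_iff_mem_closure]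
      apply hle
      rw [← hη]; exact subset_closure rfl
    obtain ⟨x', hx', hfx'⟩ := hs hspec
    refine ⟨⟨x'⟩, ⟨hx', fun hcon => ?_⟩, ?_⟩
    · have h1 : f x' ⤳ f b.pt := hcon.map hf
      rw [hfx'] at h1
      have h2 : closure {f b.pt} ⊆ (a : Set Y) := by
        rw [← hη]; exact h1.closure_subset
      exact hab.not_ge h2
    · apply TopologicalSpace.IrreducibleCloseds.ext
      change closure {f x'} = (a : Set Y)
      rw [hfx', hη]
  · apply Groth.Agent.Lib.Helper10.KrullLift.krullDim_le_of_liftUp g hgs
    intro b a hab
    obtain ⟨η, hη⟩ := hgen a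
    have hle : closure {f b.pt} ⊆ (a : Set Y) := hab.le
    have hspec : η ⤳ f b.pt := by
      rw [specializes_iff_mem_closure, hη]
      exact hle (subset_closure rfl)
    obtain ⟨x', hx', hfx'⟩ := hg hspec
    refine ⟨⟨x'⟩, ⟨hx', fun hcon => ?_⟩, ?_⟩
    · have h1 : f b.pt ⤳ f x' := Specializes.map hcon hf
      rw [hfx'] at h1
      have h2 : (a : Set Y) ⊆ closure {f b.pt} := by
        rw [← hη]; exact h1.closure_subset
      exact hab.not_ge h2
    · apply TopologicalSpace.IrreducibleCloseds.ext
      change closure {f x'} = (a : Set Y)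
      rw [hfx', hη]

end Groth.Agent.S7552
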