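import Groth.Statements.S7553
import Groth.Agent.Lib.Helper2Constr
import Groth.Agent.S2399

set_option autoImplicit false
universe u
open ConstrTop

namespace Groth.Agent.S7553

theorem open_of_gen {X : Type u} [TopologicalSpace X]
    [TopologicalSpace.NoetherianSpace X] [QuasiSober X] (E : Set X)
    (hE : Topology.IsConstructible E) (hg : StableUnderGeneralization E) : IsOpen E := by
  rw [Groth.Agent.S2399.result E]
  intro Y hY hYirr hne
  obtain ⟨η, hη⟩ := QuasiSober.sober hYirr hY
  have hηY : η ∈ Y := by
    have : η ∈ closure ({η} : Set X) := subset_closure rfl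
    rwa [hη.def] at this
  obtain ⟨z, hzE, hzY⟩ := hne
  have hspec : η ⤳ z := by
    rw [specializes_iff_mem_closure, hη.def]; exact hzY
  have hηE : η ∈ E := hg hspec hzE
  have hd : Y ⊆ closure (E ∩ Y) := by
    intro w hw
    have hw' : w ∈ closure ({η} : Set X) := by rw [hη.def]; exact hw
    refine closure_mono ?_ hw'
    intro v hv
    rw [Set.mem_singleton_iff] at hv
    subst hv
    exact ⟨hηE, hηY⟩
  exact Groth.Agent.Lib.Helper2.Constr.exists_open_subset_of_dense hE hYirr hd

/-- Let X be a Noetherian sober topological space and E ⊆ X. (1) A constructible E that is closed under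
specialization is a closed subset. (2) A constructible E that is closed under generalization is an
open subset. -/
theorem result {X : Type u} [TopologicalSpace X]
    [TopologicalSpace.NoetherianSpace X] [QuasiSober X] [T0Space X] (E : Set X) (hE : Topology.IsConstructible E) :
    (StableUnderSpecialization E → IsClosed E) ∧ (StableUnderGeneralization E → IsOpen E) := by
  refine ⟨fun hs => ?_, fun hg => open_of_gen E hE hg⟩
  have h1 : IsOpen Eᶜ := open_of_gen Eᶜ hE.compl (stableUnderGeneralization_compl_iff.mpr hs)
  exact isOpen_compl_iff.mp h1

end Groth.Agent.S7553
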