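import Groth.Statements.S7554
-- import your own Groth.Agent.* helpers here

set_option autoImplicit false
universe u
open PtTop

namespace Groth.Agent.S7554

/-- Let X be a topological space with an open covering X = ⋃ U_i and let T ⊆ X. If T ∩ U_i is nowhere
dense in U_i (with the induced topology) for every i, then T is nowhere dense in X. -/
theorem result {X : Type u} [TopologicalSpace X] {ι : Type u}
    (U : ι → Set X) (hU : ∀ i, IsOpen (U i)) (hcov : ⋃ i, U i = Set.univ) (T : Set X)
    (hT : ∀ i, IsNowhereDense ((Subtype.val : U i → X) ⁻¹' T)) :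
    IsNowhereDense T := by
  unfold IsNowhereDense at hT ⊢
  rw [Set.eq_empty_iff_forall_notMem]
  intro x hx
  have hxu : x ∈ ⋃ i, U i := hcov ▸ Set.mem_univ x
  obtain ⟨i, hi⟩ := Set.mem_iUnion.mp hxu
  have hemb : Topology.IsOpenEmbedding (Subtype.val : U i → X) := (hU i).isOpenEmbedding_subtypeVal
  have h1 : interior (closure ((Subtype.val : U i → X) ⁻¹' T)) =
      (Subtype.val : U i → X) ⁻¹' interior (closure T) := by
    rw [← hemb.isOpenMap.preimage_closure_eq_closure_preimage hemb.continuous,
      ← hemb.isOpenMap.preimage_interior_eq_interior_preimage hemb.continuous]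
  have h2 : (⟨x, hi⟩ : U i) ∈ interior (closure ((Subtype.val : U i → X) ⁻¹' T)) := by
    rw [h1]; exact hx
  rw [hT i] at h2
  exact h2

end Groth.Agent.S7554
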