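import Groth.Statements.S7556
import Mathlib

set_option autoImplicit false
universe u
open PtTop

namespace Groth.Agent.S7556

/-- A discrete copy of a type. -/
structure Discr (X : Type u) where
  /-- underlying point -/
  val : X

instance (X : Type u) : TopologicalSpace (Discr X) := ⊥
instance (X : Type u) : DiscreteTopology (Discr X) := ⟨rfl⟩

/-- A continuous self-map of a Hausdorff space over an irreducible surjection is the identity. -/
theorem eq_id_of_irreducible {E A : Type u} [TopologicalSpace E] [TopologicalSpace A]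
    [T2Space E] [CompactSpace E] [T2Space A]
    (ρ : E → A) (hρ : Continuous ρ) (hρs : Function.Surjective ρ)
    (hirr : ∀ E₀ : Set E, IsClosed E₀ → E₀ ≠ Set.univ → ρ '' E₀ ≠ Set.univ)
    (ψ : E → E) (hψ : Continuous ψ) (hψρ : ρ ∘ ψ = ρ) : ψ = id := by
  classical
  -- ψ is surjective
  have hsurj : Function.Surjective ψ := by
    rw [← Set.range_eq_univ]
    by_contra hne
    have hcl : IsClosed (Set.range ψ) := (isCompact_range hψ).isClosed
    apply hirr _ hcl hne
    rw [← Set.range_comp, hψρ]
    exact Set.range_eq_univ.mpr hρs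
  by_contra hne
  obtain ⟨x, hx⟩ : ∃ x, ψ x ≠ x := by
    by_contra h
    push_neg at h
    exact hne (funext h)
  obtain ⟨U, V, hU, hV, hxU, hfxV, hUV⟩ := t2_separation hx.symm
  set U' := U ∩ ψ ⁻¹' V with hU'
  have hU'o : IsOpen U' := hU.inter (hV.preimage hψ)
  have hF1 : U'ᶜ ≠ Set.univ := by
    intro h
    have : x ∈ U'ᶜ := h ▸ Set.mem_univ x
    exact this ⟨hxU, hfxV⟩
  have hF2 : U'ᶜ ∪ ψ '' U'ᶜ = Set.univ := by
    rw [Set.eq_univ_iff_forall]
    intro y
    by_cases hy : y ∈ U'
    · right
      obtain ⟨z, rfl⟩ := hsurj y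
      refine ⟨z, ?_, rfl⟩
      intro hz
      exact Set.disjoint_left.mp hUV hy.1 hz.2
    · left; exact hy
  apply hirr _ hU'o.isClosed_compl hF1
  have h3 : ρ '' (U'ᶜ ∪ ψ '' U'ᶜ) = Set.univ := by
    rw [hF2, Set.image_univ]; exact Set.range_eq_univ.mpr hρs
  rw [Set.image_union, ← Set.image_comp, hψρ, Set.union_self] at h3
  exact h3

/-- Let X be a quasi-compact Hausdorff space. There is a continuous surjection p : X' → X with X'
quasi-compact, Hausdorff and extremally disconnected such that no proper closed subset of X' maps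
onto X; and if q : X'' → X is a second cover with the same properties, there is a homeomorphism X' ≃
X'' compatible with p and q. -/
theorem result (X : Type u) [TopologicalSpace X] [CompactSpace X] [T2Space X] :
    (∃ (X' : Type u) (_ : TopologicalSpace X') (_ : CompactSpace X') (_ : T2Space X') (_ : ExtremallyDisconnected X')
        (p : X' → X), Continuous p ∧ Function.Surjective p ∧
        ∀ E : Set X', IsClosed E → E ≠ Set.univ → p '' E ≠ Set.univ) ∧
    (∀ (X' X'' : Type u) [TopologicalSpace X'] [CompactSpace X'] [T2Space X'] [ExtremallyDisconnected X']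
        [TopologicalSpace X''] [CompactSpace X''] [T2Space X''] [ExtremallyDisconnected X'']
        (p : X' → X) (q : X'' → X),
        Continuous p → Function.Surjective p → (∀ E : Set X', IsClosed E → E ≠ Set.univ → p '' E ≠ Set.univ) →
        Continuous q → Function.Surjective q → (∀ E : Set X'', IsClosed E → E ≠ Set.univ → q '' E ≠ Set.univ) →
        ∃ h : X' ≃ₜ X'', q ∘ h = p) := by
  constructor
  · -- existence
    let D := StoneCech (Discr X)
    have hval : Continuous (Discr.val : Discr X → X) := continuous_of_discreteTopology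
    let π : D → X := stoneCechExtend hval
    have hπ : Continuous π := continuous_stoneCechExtend hval
    have hπs : Function.Surjective π := fun x =>
      ⟨stoneCechUnit ⟨x⟩, stoneCechExtend_stoneCechUnit hval ⟨x⟩⟩
    obtain ⟨E, hEc, hEonto, hEmin⟩ := exists_compact_surjective_zorn_subset hπ hπs
    let ρ : E → X := E.domRestrict π
    have hρ : Continuous ρ := hπ.continuousOn.domRestrict
    have hρs : Function.Surjective ρ := fun a => by
      rcases (hEonto ▸ Set.mem_univ a : a ∈ π '' E) with ⟨d, hd, rfl⟩
      exact ⟨⟨d, hd⟩, rfl⟩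
    have hirr : ∀ E₀ : Set E, IsClosed E₀ → E₀ ≠ Set.univ → ρ '' E₀ ≠ Set.univ :=
      fun E₀ h1 h2 => hEmin E₀ h2 h1
    -- retraction D → E
    have hDproj : CompactT2.Projective D := StoneCech.projective
    obtain ⟨φ, hφ, hφπ⟩ := hDproj (f := π) (g := ρ) hπ hρ hρs
    have hψ : φ ∘ (Subtype.val : E → D) = id := by
      apply eq_id_of_irreducible ρ hρ hρs hirr _ (hφ.comp continuous_subtype_val)
      rw [← Function.comp_assoc, hφπ]
      rfl
    have hEproj : CompactT2.Projective E := by
      intro Y Z _ _ _ _ _ _ f g hf hg hgs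
      obtain ⟨h, hh, hgh⟩ := hDproj (f := f ∘ φ) (g := g) (hf.comp hφ) hg hgs
      refine ⟨h ∘ Subtype.val, hh.comp continuous_subtype_val, ?_⟩
      rw [← Function.comp_assoc, hgh, Function.comp_assoc, hψ]
      rfl
    exact ⟨E, inferInstance, hEc, inferInstance, hEproj.extremallyDisconnected, ρ, hρ, hρs, hirr⟩
  · -- uniqueness
    intro X' X'' _ _ _ _ _ _ _ _ p q hp hps hpirr hq hqs hqirr
    have hproj : CompactT2.Projective X' := CompactT2.ExtremallyDisconnected.projective
    obtain ⟨h, hh, hqh⟩ := hproj (f := p) (g := q) hp hq hqs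
    have hsurj : Function.Surjective h := by
      rw [← Set.range_eq_univ]
      by_contra hne
      have hcl : IsClosed (Set.range h) := (isCompact_range hh).isClosed
      apply hqirr _ hcl hne
      rw [← Set.range_comp, hqh]
      exact Set.range_eq_univ.mpr hps
    have hzorn : ∀ E₀ : Set X', E₀ ≠ Set.univ → IsClosed E₀ → h '' E₀ ≠ Set.univ := by
      intro E₀ h1 h2 h3
      apply hpirr E₀ h2 h1
      rw [← hqh, Set.image_comp, h3, Set.image_univ]
      exact Set.range_eq_univ.mpr hqs
    refine ⟨ExtremallyDisconnected.homeoCompactToT2 hh hsurj hzorn, ?_⟩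
    rw [← hqh]
    rfl

end Groth.Agent.S7556
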