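import Groth.Statements.S7558
import Groth.Agent.Lib.Helper10TopRing
-- import your own Groth.Agent.* helpers here

set_option autoImplicit false
universe u
open CategoryTheory CategoryTheory.Limits
open PtTop

namespace Groth.Agent.S7558

/-- The category of topological rings (commutative, with continuous ring homomorphisms) has colimits,
and colimits commute with the forgetful functor to rings. -/
theorem result :
    HasColimits TopCommRingCat.{u} ∧
    PreservesColimits (forget₂ TopCommRingCat.{u} CommRingCat.{u}) := by
  refine ⟨⟨fun J _ => ⟨fun F => ?_⟩⟩, ⟨fun {J} _ => ⟨fun {F} => ?_⟩⟩⟩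
  · exact Groth.Agent.Lib.Helper10.TopRing.hasColimit F
  · exact Groth.Agent.Lib.Helper10.TopRing.preservesColimit F

end Groth.Agent.S7558
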