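import Groth.Statements.S7559
import Groth.Agent.Lib.Helper10Strat
-- import your own Groth.Agent.* helpers here

set_option autoImplicit false
universe u
open PtTop

namespace Groth.Agent.S7559

/-- Let X be a topological space and X = ∐ P_k a finite partition into locally closed parts. Then there
is a finite stratification of X refining it: a finite partially ordered index set I and pairwise
disjoint locally closed strata S_i covering X with closure(S_j) ⊆ ⋃_{i ≤ j} S_i, such that every
part P_k is a union of strata. -/
theorem result {X : Type u} [TopologicalSpace X]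
    {n : ℕ} (P : Fin n → Set X) (hP : ∀ k, IsLocallyClosed (P k)) (hcov : ⋃ k, P k = Set.univ)
    (hdisj : ∀ k k', k ≠ k' → Disjoint (P k) (P k')) :
    ∃ (I : Type) (_ : Fintype I) (_ : PartialOrder I) (S : I → Set X),
      (∀ i, IsLocallyClosed (S i)) ∧ (⋃ i, S i = Set.univ) ∧ (∀ i j, i ≠ j → Disjoint (S i) (S j)) ∧
      (∀ j, closure (S j) ⊆ ⋃ i ∈ Set.Iic j, S i) ∧
      (∀ i k, (S i ∩ P k).Nonempty → S i ⊆ P k) := by
  classical
  let C : Fin n × Bool → Set X := fun kb =>
    if kb.2 then closure (P kb.1) \ P kb.1 else closure (P kb.1)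
  have hC : ∀ kb, IsClosed (C kb) := by
    rintro ⟨k, b⟩
    cases b
    · exact isClosed_closure
    · have := (hP k).isOpen_coborder
      rw [coborder, isOpen_compl_iff] at this
      exact this
  obtain ⟨I, hI1, hI2, S, hS1, hS2, hS3, hS4, -, hS6⟩ :=
    Groth.Agent.Lib.Helper10.Strat.exists_stratification C hC
  refine ⟨I, hI1, hI2, S, hS1, hS2, hS3, hS4, fun i k h => ?_⟩
  refine hS6 (P k) ?_ i h
  intro x y hxy hx
  have h1 : y ∈ closure (P k) := (hxy (k, false)).mp (subset_closure hx)
  have h2 : y ∉ closure (P k) \ P k := fun hy => ((hxy (k, true)).mpr hy).2 hx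
  by_contra hy
  exact h2 ⟨h1, hy⟩

end Groth.Agent.S7559
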