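import Groth.Statements.S7563
-- import your own Groth.Agent.* helpers here

set_option autoImplicit false
universe u
open PtTop

namespace Groth.Agent.S7563

/-- Let X be a topological space and X = X_1 ∪ … ∪ X_n with each X_i irreducible and closed and no X_i
contained in the union of the others. Then the irreducible components of X are precisely the sets
X_1, …, X_n. -/
theorem result {X : Type u} [TopologicalSpace X]
    {n : ℕ} (Z : Fin n → Set X) (hZ : ∀ i, IsIrreducible (Z i) ∧ IsClosed (Z i))
    (hcov : ⋃ i, Z i = Set.univ) (hirr : ∀ i, ¬ Z i ⊆ ⋃ j ∈ ({i}ᶜ : Set (Fin n)), Z j) :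
    irreducibleComponents X = Set.range Z := by
  classical
  -- any irreducible set lies in some Z j
  have hsub : ∀ W : Set X, IsIrreducible W → ∃ j, W ⊆ Z j := by
    intro W hW
    have := isIrreducible_iff_sUnion_isClosed.mp hW (Finset.univ.image Z)
      (by
        intro z hz
        obtain ⟨j, _, rfl⟩ := Finset.mem_image.mp hz
        exact (hZ j).2)
      (by
        intro x _
        have hx : x ∈ ⋃ i, Z i := hcov ▸ Set.mem_univ x
        obtain ⟨j, hj⟩ := Set.mem_iUnion.mp hx
        exact Set.mem_sUnion.mpr ⟨Z j, by simp, hj⟩)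
    obtain ⟨z, hz, hWz⟩ := this
    obtain ⟨j, _, rfl⟩ := Finset.mem_image.mp hz
    exact ⟨j, hWz⟩
  have hmax : ∀ i, Z i ∈ irreducibleComponents X := by
    intro i
    refine ⟨(hZ i).1, fun W hW hle => ?_⟩
    obtain ⟨j, hj⟩ := hsub W hW
    have hij : j = i := by
      by_contra hne
      apply hirr i
      intro x hx
      exact Set.mem_iUnion₂.mpr ⟨j, hne, hj (hle hx)⟩
    rw [hij] at hj
    exact hj
  apply subset_antisymm
  · intro W hW
    obtain ⟨j, hj⟩ := hsub W hW.1
    have := hW.2 (hZ j).1 hj
    exact ⟨j, subset_antisymm this hj⟩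
  · rintro _ ⟨i, rfl⟩
    exact hmax i

end Groth.Agent.S7563
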