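import Groth.Statements.S7564
-- import your own Groth.Agent.* helpers here

set_option autoImplicit false
universe u
open PtTop

namespace Groth.Agent.S7564

/-- For a continuous surjection f : X → Y, if X has finitely many irreducible components, say n of them,
then Y has at most n irreducible components. -/
theorem result {X Y : Type u} [TopologicalSpace X] [TopologicalSpace Y]
    (f : X → Y) (hf : Continuous f) (hs : Function.Surjective f) (hfin : (irreducibleComponents X).Finite) :
    (irreducibleComponents Y).Finite ∧ (irreducibleComponents Y).ncard ≤ (irreducibleComponents X).ncard := by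
  classical
  have hsub : irreducibleComponents Y ⊆ (fun C => closure (f '' C)) '' irreducibleComponents X := by
    intro W hW
    have hcov : W ⊆ ⋃₀ ((hfin.image (fun C => closure (f '' C))).toFinset : Set (Set Y)) := by
      intro y _
      obtain ⟨x, rfl⟩ := hs y
      refine Set.mem_sUnion.mpr ⟨closure (f '' irreducibleComponent x), ?_, ?_⟩
      · simp only [Set.Finite.coe_toFinset]
        exact ⟨irreducibleComponent x, irreducibleComponent_mem_irreducibleComponents x, rfl⟩
      · exact subset_closure ⟨x, mem_irreducibleComponent, rfl⟩
    obtain ⟨z, hz, hWz⟩ := isIrreducible_iff_sUnion_isClosed.mp hW.1 _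
      (by
        intro z hz
        simp only [Set.Finite.mem_toFinset] at hz
        obtain ⟨C, _, rfl⟩ := hz
        exact isClosed_closure) hcov
    simp only [Set.Finite.mem_toFinset] at hz
    obtain ⟨C, hC, rfl⟩ := hz
    refine ⟨C, hC, ?_⟩
    have hirr : IsIrreducible (closure (f '' C)) :=
      (hC.1.image f hf.continuousOn).closure
    exact subset_antisymm (hW.2 hirr hWz) hWz
  have hfinY : (irreducibleComponents Y).Finite := (hfin.image _).subset hsub
  refine ⟨hfinY, ?_⟩
  calc (irreducibleComponents Y).ncard
      ≤ ((fun C => closure (f '' C)) '' irreducibleComponents X).ncard :=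
        Set.ncard_le_ncard hsub (hfin.image _)
    _ ≤ (irreducibleComponents X).ncard := Set.ncard_image_le hfin

end Groth.Agent.S7564
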