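import Groth.Statements.S7565
-- import your own Groth.Agent.* helpers here

set_option autoImplicit false
universe u
open PtTop

namespace Groth.Agent.S7565

/-- Let f : X → Y be a continuous open map of topological spaces and assume every point of X has a
Noetherian neighbourhood. Then every point of f(X) (with the induced topology) has a Noetherian
neighbourhood. The published statement also asserts that a continuous image of a Noetherian space is
Noetherian; this row states the part about open maps and locally Noetherian spaces. -/
theorem result {X Y : Type u} [TopologicalSpace X] [TopologicalSpace Y]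
    (f : X → Y) (hf : Continuous f) (hfo : IsOpenMap f)
    (hX : ∀ x : X, ∃ E ∈ nhds x, TopologicalSpace.NoetherianSpace E) :
    ∀ y : Set.range f, ∃ E : Set (Set.range f), E ∈ nhds y ∧ TopologicalSpace.NoetherianSpace E := by
  rintro ⟨y, x, rfl⟩
  obtain ⟨E, hE, hEN⟩ := hX x
  have hE' : TopologicalSpace.NoetherianSpace (interior E) :=
    TopologicalSpace.NoetherianSpace.of_subset interior_subset
  have hxE' : x ∈ interior E := mem_interior_iff_mem_nhds.mpr hE
  have hopen : IsOpen (f '' interior E) := hfo _ isOpen_interior
  let N : Set (Set.range f) := (Subtype.val : Set.range f → Y) ⁻¹' (f '' interior E)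
  refine ⟨N, ?_, ?_⟩
  · apply (hopen.preimage continuous_subtype_val).mem_nhds
    exact ⟨x, hxE', rfl⟩
  · let g : interior E → N := fun z => ⟨⟨f z.1, z.1, rfl⟩, z.1, z.2, rfl⟩
    have hg : Continuous g :=
      ((hf.comp continuous_subtype_val).subtype_mk _).subtype_mk _
    have hgs : Function.Surjective g := by
      rintro ⟨⟨y, hy⟩, z, hz, hzy⟩
      refine ⟨⟨z, hz⟩, ?_⟩
      apply Subtype.ext
      apply Subtype.ext
      exact hzy
    exact TopologicalSpace.noetherianSpace_of_surjective g hg hgs

end Groth.Agent.S7565
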