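import Groth.Statements.S7567
import Groth.Agent.Lib.Helper10ConnComp
-- import your own Groth.Agent.* helpers here

set_option autoImplicit false
universe u
open PtTop

namespace Groth.Agent.S7567

/-- Let X be a quasi-compact topological space whose quasi-compact opens form a basis, any two of them
meeting in a quasi-compact set. For a subset T ⊆ X these two conditions are equivalent: (a) T can be
written as an intersection of clopen subsets of X; (b) T is closed and is a union of connected
components of X. -/
theorem result {X : Type u} [TopologicalSpace X]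
    [CompactSpace X] [PrespectralSpace X] [QuasiSeparatedSpace X] (T : Set X) :
    (∃ S : Set (Set X), (∀ Z ∈ S, IsClopen Z) ∧ T = ⋂₀ S) ↔
      (IsClosed T ∧ ∀ x ∈ T, connectedComponent x ⊆ T) := by
  constructor
  · rintro ⟨S, hS, rfl⟩
    refine ⟨isClosed_sInter fun Z hZ => (hS Z hZ).1, fun x hx y hy Z hZ => ?_⟩
    exact (hS Z hZ).connectedComponent_subset (hx Z hZ) hy
  · rintro ⟨hTcl, hTcc⟩
    refine ⟨{W | IsClopen W ∧ T ⊆ W}, fun Z hZ => hZ.1, ?_⟩
    apply subset_antisymm
    · exact fun y hy W hW => hW.2 hy
    · intro x hx
      by_contra hxT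
      -- the connected component of x misses T
      have hdisj : T ∩ ⋂₀ {Z : Set X | IsClopen Z ∧ x ∈ Z} = ∅ := by
        rw [← Groth.Agent.Lib.Helper10.ConnComp.connectedComponent_eq_sInter_isClopen x,
          Set.eq_empty_iff_forall_notMem]
        rintro y ⟨hyT, hyC⟩
        have h1 : connectedComponent y = connectedComponent x :=
          (connectedComponent_eq hyC).symm
        have h2 : x ∈ connectedComponent y := h1 ▸ mem_connectedComponent
        exact hxT (hTcc y hyT h2)
      obtain ⟨Z, hZ, hxZ, hTZ⟩ :=
        Groth.Agent.Lib.Helper10.ConnComp.exists_isClopen_disjoint hTcl.isCompact hdisj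
      have hW : Zᶜ ∈ {W | IsClopen W ∧ T ⊆ W} := by
        refine ⟨hZ.compl, fun y hy hyZ => ?_⟩
        have : y ∈ T ∩ Z := ⟨hy, hyZ⟩
        rw [hTZ] at this; exact this
      exact hx Zᶜ hW hxZ

end Groth.Agent.S7567
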