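import Groth.Statements.S7568
import Groth.Agent.Lib.Helper10Shrink
-- import your own Groth.Agent.* helpers here

set_option autoImplicit false
universe u
open PtTop

namespace Groth.Agent.S7568

/-- Let X be a Hausdorff quasi-compact space, X = ⋃ U_i an open covering, p ≥ 0 an integer, and for
every (p+1)-tuple (i_0, …, i_p) an open covering of U_{i_0} ∩ … ∩ U_{i_p} by opens W_{i_0…i_p,k}.
Then there are an open covering X = ⋃_{j ∈ J} V_j and a map α : J → I with closure(V_j) ⊆ U_{α(j)}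
such that each V_{j_0} ∩ … ∩ V_{j_p} is contained in W_{α(j_0)…α(j_p),k} for some k. The published
statement allows a covering of an empty intersection to have no members; this row requires every
covering W_{i_0…i_p} to have at least one member (possibly empty), without which the conclusion
fails. -/
theorem result {X : Type u} [TopologicalSpace X] [CompactSpace X] [T2Space X]
    {ι : Type u} (U : ι → Set X) (hU : ∀ i, IsOpen (U i)) (hcov : ⋃ i, U i = Set.univ) (p : ℕ)
    (W : (Fin (p + 1) → ι) → Set (Set X)) (hWo : ∀ t, ∀ w ∈ W t, IsOpen w)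
    (hWc : ∀ t, ⋃₀ W t = ⋂ l, U (t l)) (hWne : ∀ t, (W t).Nonempty) :
    ∃ (J : Type u) (V : J → Set X) (α : J → ι), (∀ j, IsOpen (V j)) ∧ (⋃ j, V j = Set.univ) ∧
      (∀ j, closure (V j) ⊆ U (α j)) ∧
      (∀ t : Fin (p + 1) → J, ∃ w ∈ W (α ∘ t), (⋂ l, V (t l)) ⊆ w) := by
  classical
  -- Step 1: a finite refinement with closures inside the `U i`.
  have hloc : ∀ x : X, ∃ (i : ι) (A : Set X), IsOpen A ∧ x ∈ A ∧ closure A ⊆ U i := by
    intro x
    have hx : x ∈ ⋃ i, U i := by rw [hcov]; trivial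
    obtain ⟨i, hi⟩ := Set.mem_iUnion.mp hx
    obtain ⟨C, hCn, hCc, hCU⟩ := exists_mem_nhds_isClosed_subset ((hU i).mem_nhds hi)
    refine ⟨i, interior C, isOpen_interior, mem_interior_iff_mem_nhds.mpr hCn, ?_⟩
    exact (closure_minimal interior_subset hCc).trans hCU
  choose i A hAo hxA hAU using hloc
  obtain ⟨s, hs⟩ := isCompact_univ.elim_nhds_subcover A fun x _ => (hAo x).mem_nhds (hxA x)
  -- finite index type
  let ι' : Type u := ↥s
  let v : ι' → Set X := fun k => A k.1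
  let β : ι' → ι := fun k => i k.1
  have hvo : ∀ k, IsOpen (v k) := fun k => hAo k.1
  have hvU : ∀ k, closure (v k) ⊆ U (β k) := fun k => hAU k.1
  have hvcov : ∀ x : X, ∃ k : ι', x ∈ v k := by
    intro x
    obtain ⟨y, hy, hxy⟩ := Set.mem_iUnion₂.mp (hs.2 (Set.mem_univ x))
    exact ⟨⟨y, hy⟩, hxy⟩
  choose κ hκ using hvcov
  -- Step 2: the choice of members of the coverings `W`.
  have hw : ∀ (x : X) (σ : Fin (p + 1) → ι'), ∃ w ∈ W (β ∘ σ),
      (∀ l, x ∈ closure (v (σ l))) → x ∈ w := by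
    intro x σ
    by_cases h : ∀ l, x ∈ closure (v (σ l))
    · have hx : x ∈ ⋃₀ W (β ∘ σ) := by
        rw [hWc]
        exact Set.mem_iInter.mpr fun l => hvU (σ l) (h l)
      obtain ⟨w, hwW, hxw⟩ := hx
      exact ⟨w, hwW, fun _ => hxw⟩
    · obtain ⟨w, hwW⟩ := hWne (β ∘ σ)
      exact ⟨w, hwW, fun h' => absurd h' h⟩
  choose w hwW hxw using hw
  -- Step 3: the neighbourhoods.
  let N : X → Set X := fun x =>
    (⋂ σ ∈ {σ : Fin (p + 1) → ι' | ∀ l, x ∈ closure (v (σ l))}, w x σ) ∩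
      ⋂ k ∈ {k : ι' | x ∉ closure (v k)}, (closure (v k))ᶜ
  have hNo : ∀ x, IsOpen (N x) := by
    intro x
    refine IsOpen.inter ?_ ?_
    · exact (Set.toFinite _).isOpen_biInter fun σ _ => hWo _ _ (hwW x σ)
    · exact (Set.toFinite _).isOpen_biInter fun k _ => isClosed_closure.isOpen_compl
  have hxN : ∀ x, x ∈ N x := by
    intro x
    refine ⟨?_, ?_⟩
    · exact Set.mem_iInter₂.mpr fun σ hσ => hxw x σ hσ
    · exact Set.mem_iInter₂.mpr fun k hk => hk
  refine ⟨X, fun x => N x ∩ v (κ x), fun x => β (κ x), fun x => (hNo x).inter (hvo _), ?_,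
    fun x => ?_, fun τ => ?_⟩
  · exact Set.eq_univ_of_forall fun x => Set.mem_iUnion.mpr ⟨x, hxN x, hκ x⟩
  · exact (closure_mono Set.inter_subset_right).trans (hvU (κ x))
  · by_cases h : ∀ l, τ 0 ∈ closure (v (κ (τ l)))
    · refine ⟨w (τ 0) (κ ∘ τ), hwW (τ 0) (κ ∘ τ), ?_⟩
      intro y hy
      have hy0 := (Set.mem_iInter.mp hy 0).1.1
      exact Set.mem_iInter₂.mp hy0 (κ ∘ τ) h
    · push Not at h
      obtain ⟨l, hl⟩ := h
      obtain ⟨w', hw'⟩ := hWne ((fun x => β (κ x)) ∘ τ)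
      refine ⟨w', hw', ?_⟩
      intro y hy
      exfalso
      have hy0 := (Set.mem_iInter.mp hy 0).1.2
      have hyl := (Set.mem_iInter.mp hy l).2
      have := Set.mem_iInter₂.mp hy0 (κ (τ l)) hl
      exact this (subset_closure hyl)

end Groth.Agent.S7568
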