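import Groth.Statements.S7569
import Groth.Agent.Lib.Helper10Shrink
-- import your own Groth.Agent.* helpers here

set_option autoImplicit false
universe u
open PtTop

namespace Groth.Agent.S7569

/-- Let X be a Hausdorff, locally quasi-compact space and Z ⊆ X a quasi-compact subset. Let p ≥ 0, let
U_i ⊆ X be opens with Z ⊆ ⋃ U_i, and for every (p+1)-tuple (i_0, …, i_p) let W_{i_0…i_p} ⊆ U_{i_0} ∩
… ∩ U_{i_p} be an open with W_{i_0…i_p} ∩ Z = U_{i_0} ∩ … ∩ U_{i_p} ∩ Z. Then there are opens V_i ⊆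
X with Z ⊆ ⋃ V_i, closure(V_i) ⊆ U_i for all i, and V_{i_0} ∩ … ∩ V_{i_p} ⊆ W_{i_0…i_p} for all
(p+1)-tuples. -/
theorem result {X : Type u} [TopologicalSpace X]
    [T2Space X] [LocallyCompactSpace X] (Z : Set X) (hZ : IsCompact Z)
    {ι : Type u} (U : ι → Set X) (hU : ∀ i, IsOpen (U i)) (hcov : Z ⊆ ⋃ i, U i) (p : ℕ)
    (W : (Fin (p + 1) → ι) → Set X) (hWo : ∀ t, IsOpen (W t)) (hWU : ∀ t, W t ⊆ ⋂ l, U (t l))
    (hWZ : ∀ t, W t ∩ Z = (⋂ l, U (t l)) ∩ Z) :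
    ∃ V : ι → Set X, (∀ i, IsOpen (V i)) ∧ (Z ⊆ ⋃ i, V i) ∧ (∀ i, closure (V i) ⊆ U i) ∧
      (∀ t : Fin (p + 1) → ι, (⋂ l, V (t l)) ⊆ W t) := by
  classical
  have hloc : ∀ z ∈ Z, ∃ (i : ι) (A : Set X), IsOpen A ∧ z ∈ A ∧ closure A ⊆ U i := by
    intro z hz
    obtain ⟨i, hi⟩ := Set.mem_iUnion.mp (hcov hz)
    obtain ⟨C, hCn, hCc, hCU⟩ := exists_mem_nhds_isClosed_subset ((hU i).mem_nhds hi)
    refine ⟨i, interior C, isOpen_interior, mem_interior_iff_mem_nhds.mpr hCn, ?_⟩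
    exact (closure_minimal interior_subset hCc).trans hCU
  have hP : ∀ i (s : Finset X) (A : X → Set X),
      (∀ z ∈ s, closure (A z) ⊆ U i) → closure (⋃ z ∈ s, A z) ⊆ U i := by
    intro i s A hA
    rw [Finset.closure_biUnion]
    exact Set.iUnion₂_subset hA
  obtain ⟨V0, hV0o, hfin, hV0cov, hV0P⟩ :=
    Groth.Agent.Lib.Helper10.Shrink.exists_finite_support_cover hZ U
      (fun i A => closure A ⊆ U i) hP hloc
  obtain ⟨V, hVo, hVcov, hVV0, hVW⟩ :=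
    Groth.Agent.Lib.Helper10.Shrink.refine_cover Z U p W hWo hWZ V0 hV0o hfin hV0cov
      (fun i => Set.inter_subset_left.trans (hV0P i))
  exact ⟨V, hVo, hVcov, fun i => (closure_mono (hVV0 i)).trans (hV0P i), hVW⟩

end Groth.Agent.S7569
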