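import Groth.Statements.S7570
import Groth.Agent.Lib.Helper10Shrink
-- import your own Groth.Agent.* helpers here

set_option autoImplicit false
universe u
open PtTop

namespace Groth.Agent.S7570

/-- Let X be a topological space and Z ⊆ X a quasi-compact subset such that any two distinct points of Z
have disjoint open neighbourhoods in X. Let p ≥ 0, let U_i ⊆ X be opens with Z ⊆ ⋃ U_i, and for
every (p+1)-tuple let W_{i_0…i_p} ⊆ U_{i_0} ∩ … ∩ U_{i_p} be an open with W_{i_0…i_p} ∩ Z = U_{i_0}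
∩ … ∩ U_{i_p} ∩ Z. Then there are opens V_i with (1) Z ⊆ ⋃ V_i, (2) V_i ⊆ U_i, (3) closure(V_i) ∩ Z
⊆ U_i, and (4) V_{i_0} ∩ … ∩ V_{i_p} ⊆ W_{i_0…i_p} for all (p+1)-tuples. -/
theorem result {X : Type u} [TopologicalSpace X]
    (Z : Set X) (hZ : IsCompact Z)
    (hZsep : ∀ z ∈ Z, ∀ z' ∈ Z, z ≠ z' → ∃ A B : Set X, IsOpen A ∧ IsOpen B ∧ z ∈ A ∧ z' ∈ B ∧ Disjoint A B)
    {ι : Type u} (U : ι → Set X) (hU : ∀ i, IsOpen (U i)) (hcov : Z ⊆ ⋃ i, U i) (p : ℕ)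
    (W : (Fin (p + 1) → ι) → Set X) (hWo : ∀ t, IsOpen (W t)) (hWU : ∀ t, W t ⊆ ⋂ l, U (t l))
    (hWZ : ∀ t, W t ∩ Z = (⋂ l, U (t l)) ∩ Z) :
    ∃ V : ι → Set X, (∀ i, IsOpen (V i)) ∧ (Z ⊆ ⋃ i, V i) ∧ (∀ i, V i ⊆ U i) ∧
      (∀ i, closure (V i) ∩ Z ⊆ U i) ∧ (∀ t : Fin (p + 1) → ι, (⋂ l, V (t l)) ⊆ W t) := by
  classical
  have hloc : ∀ z ∈ Z, ∃ (i : ι) (A : Set X), IsOpen A ∧ z ∈ A ∧
      (A ⊆ U i ∧ closure A ∩ Z ⊆ U i) := by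
    intro z hz
    obtain ⟨i, hi⟩ := Set.mem_iUnion.mp (hcov hz)
    have hK : IsCompact (Z \ U i) := hZ.diff (hU i)
    obtain ⟨A, B, hA, hB, hzA, hKB, hAB⟩ :=
      Groth.Agent.Lib.Helper10.Shrink.exists_open_disjoint_of_relT2 hZsep hK
        Set.diff_subset hz (fun h => h.2 hi)
    refine ⟨i, A ∩ U i, hA.inter (hU i), ⟨hzA, hi⟩, Set.inter_subset_right, ?_⟩
    rintro x ⟨hxcl, hxZ⟩
    by_contra hxU
    have hxB : x ∈ B := hKB ⟨hxZ, hxU⟩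
    have hcl : closure (A ∩ U i) ⊆ Bᶜ := by
      apply closure_minimal _ hB.isClosed_compl
      intro y hy
      exact fun hyB => Set.disjoint_left.mp hAB hy.1 hyB
    exact hcl hxcl hxB
  have hP : ∀ i (s : Finset X) (A : X → Set X),
      (∀ z ∈ s, (A z ⊆ U i ∧ closure (A z) ∩ Z ⊆ U i)) →
      ((⋃ z ∈ s, A z) ⊆ U i ∧ closure (⋃ z ∈ s, A z) ∩ Z ⊆ U i) := by
    intro i s A hA
    refine ⟨Set.iUnion₂_subset fun z hz => (hA z hz).1, ?_⟩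
    rw [Finset.closure_biUnion]
    rintro x ⟨hx, hxZ⟩
    obtain ⟨z, hz, hxz⟩ := Set.mem_iUnion₂.mp hx
    exact (hA z hz).2 ⟨hxz, hxZ⟩
  obtain ⟨V0, hV0o, hfin, hV0cov, hV0P⟩ :=
    Groth.Agent.Lib.Helper10.Shrink.exists_finite_support_cover hZ U
      (fun i A => A ⊆ U i ∧ closure A ∩ Z ⊆ U i) hP hloc
  obtain ⟨V, hVo, hVcov, hVV0, hVW⟩ :=
    Groth.Agent.Lib.Helper10.Shrink.refine_cover Z U p W hWo hWZ V0 hV0o hfin hV0cov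
      (fun i => (hV0P i).2)
  refine ⟨V, hVo, hVcov, fun i => (hVV0 i).trans (hV0P i).1, fun i => ?_, hVW⟩
  exact (Set.inter_subset_inter_left _ (closure_mono (hVV0 i))).trans (hV0P i).2

end Groth.Agent.S7570
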