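import Groth.Statements.S7571
import Mathlib
-- import your own Groth.Agent.* helpers here

set_option autoImplicit false
universe u
open CategoryTheory CategoryTheory.Limits
open PtTop

namespace Groth.Agent.S7571

/-- Let j ↦ X_j be a diagram of topological spaces over a cofiltered category with limit X and
projections f_j. (1) Every open of X is a union of subsets of the form f_j⁻¹(U_j) with U_j ⊆ X_j
open. (2) Every quasi-compact open of X equals f_i⁻¹(U_i) for some i and some open U_i ⊆ X_i. -/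
theorem result {J : Type u} [SmallCategory J] [IsCofiltered J]
    (F : J ⥤ TopCat.{u}) (c : Cone F) (hc : IsLimit c) :
    (∀ W : Set c.pt, IsOpen W →
      ∃ S : Set (Σ j, Set (F.obj j)), (∀ s ∈ S, IsOpen s.2) ∧ W = ⋃ s ∈ S, c.π.app s.1 ⁻¹' s.2) ∧
    (∀ W : Set c.pt, IsOpen W → IsCompact W →
      ∃ (i : J) (Ui : Set (F.obj i)), IsOpen Ui ∧ W = c.π.app i ⁻¹' Ui) := by
  classical
  have hbasis := TopCat.isTopologicalBasis_cofiltered_limit.{u, u, u} F c hc
    (fun j => {V | IsOpen V})
    (fun j => TopologicalSpace.isTopologicalBasis_opens)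
    (fun j => isOpen_univ)
    (fun j U1 U2 h1 h2 => h1.inter h2)
    (fun i j f V hV => hV.preimage (F.map f).hom.continuous)
  have hcompat : ∀ {i j : J} (a : i ⟶ j) (x : c.pt), F.map a (c.π.app i x) = c.π.app j x := by
    intro i j a x
    exact ConcreteCategory.congr_hom (c.w a) x
  constructor
  · intro W hW
    refine ⟨{s | IsOpen s.2 ∧ c.π.app s.1 ⁻¹' s.2 ⊆ W}, fun s hs => hs.1, ?_⟩
    apply subset_antisymm
    · intro x hx
      obtain ⟨_, ⟨j, V, hV, rfl⟩, hxV, hVW⟩ := hbasis.exists_subset_of_mem_open hx hW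
      exact Set.mem_iUnion₂.mpr ⟨⟨j, V⟩, ⟨hV, hVW⟩, hxV⟩
    · exact Set.iUnion₂_subset fun s hs => hs.2
  · intro W hWo hWc
    let b : (Σ j, {V : Set (F.obj j) // IsOpen V}) → Set c.pt := fun t => c.π.app t.1 ⁻¹' t.2.1
    have hb : TopologicalSpace.IsTopologicalBasis (Set.range b) := by
      convert hbasis using 1
      ext U
      simp only [Set.mem_range, Sigma.exists, Subtype.exists, b, Set.mem_ofPred_eq]
      constructor
      · rintro ⟨j, V, hV, rfl⟩; exact ⟨j, V, hV, rfl⟩
      · rintro ⟨j, V, hV, rfl⟩; exact ⟨j, V, hV, rfl⟩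
    obtain ⟨s, hs, rfl⟩ := eq_finite_iUnion_of_isTopologicalBasis_of_isCompact_open b hb W hWc hWo
    clear hWo hWc
    induction s, hs using Set.Finite.induction_on with
    | empty =>
      obtain ⟨k⟩ := IsCofiltered.nonempty (C := J)
      exact ⟨k, ∅, isOpen_empty, by simp⟩
    | @insert t s _ _ ih =>
      obtain ⟨i, Ui, hUio, hUi⟩ := ih
      let k := IsCofiltered.min t.1 i
      let a : k ⟶ t.1 := IsCofiltered.minToLeft t.1 i
      let a' : k ⟶ i := IsCofiltered.minToRight t.1 i
      refine ⟨k, F.map a ⁻¹' t.2.1 ∪ F.map a' ⁻¹' Ui,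
        (t.2.2.preimage (F.map a).hom.continuous).union (hUio.preimage (F.map a').hom.continuous), ?_⟩
      rw [Set.biUnion_insert, hUi]
      ext x
      simp only [Set.mem_union, Set.mem_preimage, b]
      rw [hcompat a x, hcompat a' x]

end Groth.Agent.S7571
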