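import Groth.Statements.S7573
import Mathlib
import Groth.Agent.Lib.Helper16ClosedEmbType
-- import your own Groth.Agent.* helpers here

set_option autoImplicit false
set_option linter.style.haveILetI false
set_option linter.unusedSectionVars false
universe u
open CategoryTheory TopologicalSpace
open ShSp

namespace Groth.Agent.S7573
open Groth.Agent.Lib.Helper16.ClosedEmbType


/-- Let i : Z → X be the inclusion of a closed subset (a closed embedding). Then i_* : Sh(Z) → Sh(X) on
sheaves of sets is fully faithful, and its essential image consists exactly of the sheaves G whose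
stalk G_x is a one-point set for every x ∈ X not in Z. -/
theorem result {Z X : TopCat.{u}} (i : Z ⟶ X) (hi : Topology.IsClosedEmbedding i) :
    (TopCat.Sheaf.pushforward (Type u) i).Full ∧ (TopCat.Sheaf.pushforward (Type u) i).Faithful ∧
    ∀ G : X.Sheaf (Type u), (TopCat.Sheaf.pushforward (Type u) i).essImage G ↔
      ∀ x : X, x ∉ Set.range i → Nonempty (Unique (G.presheaf.stalk x)) := by
  refine ⟨pushC_full i hi, pushC_faithful i hi, fun G => ⟨?_, essImage_of_stalksT i hi G⟩⟩
  rintro ⟨H, ⟨e⟩⟩ x hx
  obtain ⟨hu⟩ := unique_stalk_push i hi H x hx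
  let e' := (TopCat.Presheaf.stalkFunctor (Type u) x).mapIso
    ((sheafToPresheaf (Opens.grothendieckTopology X) (Type u)).mapIso e)
  exact ⟨@Equiv.unique _ _ hu e'.toEquiv.symm⟩

end Groth.Agent.S7573
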