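import Groth.Statements.S7574
import Mathlib
-- import your own Groth.Agent.* helpers here

set_option autoImplicit false
set_option linter.style.haveILetI false
set_option linter.unusedSectionVars false
universe u
open CategoryTheory TopologicalSpace
open ShSp

namespace Groth.Agent.S7574
open Opposite Topology

variable {X : TopCat.{u}} (U : Opens X)

/-- the inclusion as a morphism of TopCat -/
abbrev jmap : TopCat.of U ⟶ X := TopCat.ofHom ⟨_, continuous_subtype_val⟩

lemma jOE : IsOpenEmbedding (TopCat.Hom.hom (jmap U)) := U.isOpenEmbedding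

abbrev jF : Opens (TopCat.of U) ⥤ Opens X := (jOE U).isOpenMap.functor

instance : (jF U).IsContinuous (Opens.grothendieckTopology (TopCat.of U)) (Opens.grothendieckTopology X) :=
  (jOE U).functor_isContinuous

instance : (jF U).IsCocontinuous (Opens.grothendieckTopology (TopCat.of U)) (Opens.grothendieckTopology X) := by
  rw [(jOE U).isOpenMap.adjunction.isCocontinuous_iff_coverPreserving]
  exact coverPreserving_opens_map _

instance : (jF U).Full := by
  have : Mono (jmap U) := (TopCat.mono_iff_injective _).mpr (jOE U).injective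
  exact IsOpenMap.functorFullOfMono _

noncomputable def adj2 : U.sheafRestrict (C := Type u) ⊣ (jF U).sheafPushforwardCocontinuous (Type u) _ _ :=
  (jF U).sheafAdjunctionCocontinuous (Type u) _ _

instance adj2_counit_iso : IsIso (adj2 U).counit := by
  have : ∀ F, IsIso ((adj2 U).counit.app F) := by
    intro F
    have : IsIso ((sheafToPresheaf _ _).map ((adj2 U).counit.app F)) := by
      change IsIso ((adj2 U).counit.app F).hom
      have e : IsIso (((jF U).op.ranAdjunction (Type u)).counit.app F.obj) := inferInstance
      have h := Functor.sheafAdjunctionCocontinuous_counit_app_hom (jF U) (Type u)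
        (Opens.grothendieckTopology (TopCat.of U)) (Opens.grothendieckTopology X) F
      rw [adj2, h]
      exact e
    exact isIso_of_fully_faithful (sheafToPresheaf _ (Type u)) _
  exact NatIso.isIso_of_isIso_app _

lemma jF_le (W : Opens (TopCat.of U)) : (jF U).obj W ≤ U := by
  rintro _ ⟨x, _, rfl⟩
  exact x.2

lemma eq_jF_of_le {V : Opens X} (h : V ≤ U) : ∃ W : Opens (TopCat.of U), V = (jF U).obj W := by
  refine ⟨(Opens.map (jmap U)).obj V, ?_⟩
  ext x
  constructor
  · intro hx
    exact ⟨⟨x, h hx⟩, hx, rfl⟩
  · rintro ⟨y, hy, rfl⟩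
    exact hy

/-- The subterminal sheaf represented by `U`. -/
def hU : X.Sheaf (Type u) where
  obj := yoneda.obj U
  property := by
    rw [isSheaf_iff_isSheaf_of_type]
    intro V S hS x hx
    have hVU : V ≤ U := by
      intro p hp
      obtain ⟨W, f, hf, hpW⟩ := hS p hp
      exact (x f hf).le hpW
    refine ⟨homOfLE hVU, ?_, ?_⟩
    · intro W f hf
      exact Subsingleton.elim (α := (W ⟶ U)) _ _
    · intro y _
      exact Subsingleton.elim (α := (V ⟶ U)) _ _

variable {U}
variable {L : (TopCat.of U).Sheaf (Type u) ⥤ X.Sheaf (Type u)} (adj : L ⊣ U.sheafRestrict (C := Type u))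

include adj in
lemma unit_iso : IsIso adj.unit := by
  let t : Adjunction.Triple L (U.sheafRestrict (C := Type u)) _ := ⟨adj, adj2 U⟩
  exact t.isIso_unit_iff_isIso_counit.mpr (adj2_counit_iso U)

/-- The map `L F ⟶ h_U`. -/
noncomputable def toHU (F : (TopCat.of U).Sheaf (Type u)) : L.obj F ⟶ hU U :=
  (adj.homEquiv F (hU U)).symm
    ⟨{ app := fun W => TypeCat.ofHom (fun _ => homOfLE (jF_le U W.unop))
       naturality := by
        intro W W' f
        ext s
        exact Subsingleton.elim (α := ((jF U).obj W'.unop ⟶ U)) _ _ }⟩

include adj in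
lemma le_of_section (F : (TopCat.of U).Sheaf (Type u)) (V : Opens X)
    (s : (L.obj F).obj.obj (op V)) : V ≤ U :=
  (((toHU adj F).hom.app (op V)) s).le

include adj in
lemma forward (G : X.Sheaf (Type u)) (hG : L.essImage G) (x : X) (hx : x ∉ U) :
    IsEmpty (G.presheaf.stalk x) := by
  obtain ⟨F, ⟨e⟩⟩ := hG
  constructor
  intro t
  obtain ⟨V, hxV, s, rfl⟩ := TopCat.Presheaf.exists_germ_eq G.presheaf t
  exact hx (le_of_section adj F V (e.inv.hom.app (op V) s) hxV)

include adj in
lemma backward (G : X.Sheaf (Type u))
    (hG : ∀ x : X, x ∉ U → IsEmpty (G.presheaf.stalk x)) : L.essImage G := by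
  have hu := unit_iso adj
  have hu' : IsIso (adj.unit.app ((U.sheafRestrict (C := Type u)).obj G)) :=
    NatIso.isIso_app_of_isIso adj.unit _
  have h1 : IsIso ((U.sheafRestrict (C := Type u)).map (adj.counit.app G)) := by
    have h := adj.right_triangle_components G
    exact @IsIso.of_isIso_fac_left _ _ _ _ _ _ _ _ hu' (IsIso.id _) h
  have h2 : ∀ W : Opens (TopCat.of U),
      Function.Bijective ((adj.counit.app G).hom.app (op ((jF U).obj W))) := by
    intro W
    have : IsIso (((U.sheafRestrict (C := Type u)).map (adj.counit.app G)).hom.app (op W)) := by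
      have : IsIso ((sheafToPresheaf _ _).map
        ((U.sheafRestrict (C := Type u)).map (adj.counit.app G))) := inferInstance
      change IsIso (((sheafToPresheaf _ _).map
        ((U.sheafRestrict (C := Type u)).map (adj.counit.app G))).app (op W))
      infer_instance
    exact (isIso_iff_bijective _).mp this
  have h3 : ∀ V : Opens X, Function.Bijective ((adj.counit.app G).hom.app (op V)) := by
    intro V
    by_cases hV : V ≤ U
    · obtain ⟨W, rfl⟩ := eq_jF_of_le U hV
      exact h2 W
    · have hE : IsEmpty (G.obj.obj (op V)) := by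
        constructor
        intro s
        rw [SetLike.not_le_iff_exists] at hV
        obtain ⟨x, hxV, hxU⟩ := hV
        exact (hG x hxU).false (G.presheaf.germ V x hxV s)
      constructor
      · intro a
        exact (hE.false ((adj.counit.app G).hom.app (op V) a)).elim
      · intro b
        exact (hE.false b).elim
  have h4 : IsIso (adj.counit.app G) := by
    have : IsIso ((sheafToPresheaf _ _).map (adj.counit.app G)) := by
      have : ∀ V, IsIso (((sheafToPresheaf _ _).map (adj.counit.app G)).app V) := by
        intro V
        exact (isIso_iff_bijective _).mpr (h3 V.unop)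
      exact NatIso.isIso_of_isIso_app _
    exact isIso_of_fully_faithful (sheafToPresheaf _ (Type u)) _
  exact ⟨_, ⟨asIso (adj.counit.app G)⟩⟩


/-- Let X be a topological space, U ⊆ X open and j_! : Sh(U) → Sh(X) a left adjoint of restriction of
sheaves of sets to U. Then j_! is fully faithful, and a sheaf G on X lies in its essential image if
and only if G_x = ∅ for all x ∈ X not in U. -/
theorem result {X : TopCat.{u}} (U : Opens X)
    (L : (TopCat.of U).Sheaf (Type u) ⥤ X.Sheaf (Type u)) (adj : L ⊣ U.sheafRestrict (C := Type u)) :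
    L.Full ∧ L.Faithful ∧
    ∀ G : X.Sheaf (Type u), L.essImage G ↔ ∀ x : X, x ∉ U → IsEmpty (G.presheaf.stalk x) := by
  haveI := unit_iso adj
  refine ⟨adj.fullyFaithfulLOfIsIsoUnit.full, adj.fullyFaithfulLOfIsIsoUnit.faithful, ?_⟩
  intro G
  exact ⟨fun h x hx => forward adj G h x hx, backward adj G⟩

end Groth.Agent.S7574
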