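import Groth.Statements.S7579
import Groth.Agent.Lib.Helper10Spectral
-- import your own Groth.Agent.* helpers here

set_option autoImplicit false
universe u
open SpecSp

namespace Groth.Agent.S7579

/-- Let X be a spectral space. Then X with its constructible topology is Hausdorff and totally
disconnected. The published statement also asserts that the constructible topology is quasi-compact;
this row states the Hausdorff and totally disconnected parts. -/
theorem result (X : Type u) [TopologicalSpace X] [SpectralSpace X] :
    T2Space (WithConstructibleTopology X) ∧ TotallyDisconnectedSpace (WithConstructibleTopology X) := by
  have : TotallySeparatedSpace (WithConstructibleTopology X) :=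
    Groth.Agent.Lib.Helper10.Spectral.totallySeparatedSpace_withConstructibleTopology
  exact ⟨inferInstance, inferInstance⟩

end Groth.Agent.S7579
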