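import Groth.Statements.S7580
-- import your own Groth.Agent.* helpers here

set_option autoImplicit false
universe u
open PtTop

namespace Groth.Agent.S7580

/-- Let f : X → Y be a continuous map of topological spaces with f(X) dense in Y and Y Hausdorff. Then
the cardinality of Y is at most that of the double power set of X. -/
theorem result {X Y : Type u} [TopologicalSpace X] [TopologicalSpace Y] [T2Space Y]
    (f : X → Y) (hf : Continuous f) (hd : DenseRange f) :
    Cardinal.mk Y ≤ (2 : Cardinal.{u}) ^ ((2 : Cardinal.{u}) ^ Cardinal.mk X) := by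
  classical
  let φ : Y → Set (Set X) := fun y => {A | ∃ U ∈ nhds y, A = f ⁻¹' U}
  have hφ : Function.Injective φ := by
    intro y y' hyy'
    by_contra hne
    obtain ⟨U, U', hU, hU', hyU, hyU', hdisj⟩ := t2_separation hne
    have h1 : f ⁻¹' U ∈ φ y := ⟨U, hU.mem_nhds hyU, rfl⟩
    rw [hyy'] at h1
    obtain ⟨V', hV', hVeq⟩ := h1
    have hmem : V' ∩ U' ∈ nhds y' := Filter.inter_mem hV' (hU'.mem_nhds hyU')
    obtain ⟨O, hOsub, hO, hyO⟩ := mem_nhds_iff.mp hmem
    obtain ⟨a, ha⟩ := hd.exists_mem_open hO ⟨y', hyO⟩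
    have ha' := hOsub ha
    have : a ∈ f ⁻¹' U := by rw [hVeq]; exact ha'.1
    exact Set.disjoint_left.mp hdisj this ha'.2
  calc Cardinal.mk Y ≤ Cardinal.mk (Set (Set X)) := Cardinal.mk_le_of_injective hφ
    _ = 2 ^ ((2 : Cardinal.{u}) ^ Cardinal.mk X) := by rw [Cardinal.mk_set, Cardinal.mk_set]

end Groth.Agent.S7580
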