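import Groth.Statements.S7581
import Mathlib
import Groth.Agent.Lib.Helper10Catenary
-- import your own Groth.Agent.* helpers here

set_option autoImplicit false
universe u
open PtTop

namespace Groth.Agent.S7581

/-- Let X be a topological space. Then X is catenary if and only if for every pair of irreducible closed
subsets Y ⊆ Y' the codimension codim(Y, Y') is finite and for every triple Y ⊆ Y' ⊆ Y'' of
irreducible closed subsets codim(Y, Y'') = codim(Y, Y') + codim(Y', Y''). -/
theorem result (X : Type u) [TopologicalSpace X] :
    PtTop.IsCatenarySpace X ↔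
      (∀ Y Y' : TopologicalSpace.IrreducibleCloseds X, Y ≤ Y' → PtTop.codim Y (Y' : Set X) ≠ ⊤) ∧
      (∀ Y Y' Y'' : TopologicalSpace.IrreducibleCloseds X, Y ≤ Y' → Y' ≤ Y'' →
        PtTop.codim Y (Y'' : Set X) = PtTop.codim Y (Y' : Set X) + PtTop.codim Y' (Y'' : Set X)) := by
  classical
  have codim_le : ∀ {T : TopologicalSpace.IrreducibleCloseds X} {T' : Set X} {c : ℕ∞},
      (∀ s : LTSeries (TopologicalSpace.IrreducibleCloseds X), s.head = T →
        (s.last : Set X) ⊆ T' → (s.length : ℕ∞) ≤ c) → PtTop.codim T T' ≤ c :=
    fun h => iSup₂_le fun s hs => h s hs.1 hs.2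
  constructor
  · intro hX
    refine ⟨fun Y Y' h => (hX Y Y' h).1, fun Y Y' Y'' h1 h2 => ?_⟩
    obtain ⟨s₁, h1h, h1l, h1n, h1c⟩ :=
      Groth.Agent.Lib.Helper10.Catenary.exists_series_of_codim_ne_top h1 (hX Y Y' h1).1
    obtain ⟨s₂, h2h, h2l, h2n, h2c⟩ :=
      Groth.Agent.Lib.Helper10.Catenary.exists_series_of_codim_ne_top h2 (hX Y' Y'' h2).1
    let t₁ : RelSeries {(a, b) : TopologicalSpace.IrreducibleCloseds X ×
        TopologicalSpace.IrreducibleCloseds X | a ⋖ b} := ⟨s₁.length, s₁.toFun, h1c⟩
    let t₂ : RelSeries {(a, b) : TopologicalSpace.IrreducibleCloseds X ×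
        TopologicalSpace.IrreducibleCloseds X | a ⋖ b} := ⟨s₂.length, s₂.toFun, h2c⟩
    have hconn : t₁.last = t₂.head := h1l.trans h2h.symm
    let t := RelSeries.smash t₁ t₂ hconn
    let r : LTSeries (TopologicalSpace.IrreducibleCloseds X) := t.ofLE (fun _ h => CovBy.lt h)
    have hr := (hX Y Y'' (h1.trans h2)).2 r
      (by show t.head = Y; rw [RelSeries.head_smash]; exact h1h)
      (by show t.last = Y''; rw [RelSeries.last_smash]; exact h2l)
      (fun i => t.step i)
    have hlen : r.length = s₁.length + s₂.length := RelSeries.smash_length t₁ t₂ hconn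
    rw [← hr, ← h1n, ← h2n, hlen]
    push_cast
    rfl
  · rintro ⟨hfin, hadd⟩ T T' hTT'
    refine ⟨hfin T T' hTT', fun s hh hl hcov => ?_⟩
    have hzero : ∀ a : TopologicalSpace.IrreducibleCloseds X, PtTop.codim a (a : Set X) = 0 := by
      intro a
      have h1 := hadd a a a le_rfl le_rfl
      have h2 := hfin a a le_rfl
      obtain ⟨n, hn⟩ := ENat.ne_top_iff_exists.mp h2
      rw [← hn] at h1 ⊢
      have : n = n + n := by exact_mod_cast h1
      have : n = 0 := by omega
      simp [this]
    have hone : ∀ a b : TopologicalSpace.IrreducibleCloseds X, a ⋖ b →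
        PtTop.codim a (b : Set X) = 1 := by
      intro a b hab
      apply le_antisymm
      · refine codim_le fun r hrh hrl => ?_
        by_contra hlt
        push Not at hlt
        have h2 : 2 ≤ r.length := by
          have : (1 : ℕ∞) < (r.length : ℕ∞) := hlt
          have : 1 < r.length := by exact_mod_cast this
          omega
        let j : Fin (r.length + 1) := ⟨1, by omega⟩
        have hj0 : r 0 < r j := r.strictMono (by simp [j, Fin.lt_def])
        have hjl : r j < r (Fin.last _) := r.strictMono (by simp [j, Fin.lt_def]; omega)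
        have hrl' : r (Fin.last _) ≤ b := hrl
        have hr0 : r 0 = a := hrh
        rw [hr0] at hj0
        exact hab.2 hj0 (lt_of_lt_of_le hjl hrl')
      · let r : LTSeries (TopologicalSpace.IrreducibleCloseds X) :=
          { length := 1
            toFun := ![a, b]
            step := fun i => by
              fin_cases i
              exact hab.lt }
        have := Groth.Agent.Lib.Helper10.Catenary.length_le_codim (T := a) (T' := (b : Set X)) r
          rfl (le_of_eq rfl)
        exact_mod_cast this
    have key : ∀ i : Fin (s.length + 1), PtTop.codim (s 0) (s i : Set X) = (i : ℕ) := by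
      intro i
      induction i using Fin.induction with
      | zero => simpa using hzero (s 0)
      | succ i ih =>
        have h1 := hadd (s 0) (s i.castSucc) (s i.succ) (s.head_le _) (s.step i).le
        rw [h1, ih, hone _ _ (hcov i)]
        simp
    have := key (Fin.last _)
    rw [show s 0 = T from hh, show s (Fin.last _) = T' from hl] at this
    rw [this]
    simp

end Groth.Agent.S7581
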