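import Groth.Statements.S7589
import Mathlib
import Groth.Agent.Lib.Helper3CompDim
import Groth.Agent.Lib.Helper4VarDim5
import Groth.Agent.Lib.Helper28FlatNormal
import Groth.Agent.S5341

set_option autoImplicit false
universe u
open CategoryTheory CategoryTheory.Limits AlgebraicGeometry
attribute [local instance] Curv2.stalkAlgebra Curv2.resAlgebra
open Variety

namespace Groth.Agent.S7589


/-- Let X be locally of finite type over a field k, K an extension field of k, y a point of the base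
change X_K and x its image in X; write a = trdeg_k κ(x) and a' = trdeg_K κ(y). Then dim O_{X_K, y} +
a' = dim O_{X, x} + a, and the fibre ring O_{X_K, y} / m_x O_{X_K, y} has Krull dimension a - a' (in
particular a' ≤ a); dimensions in WithBot ℕ∞. -/
theorem result (k : Type u) [Field k] (X : Scheme.{u}) [X.Over (Spec (CommRingCat.of k))] [LocallyOfFiniteType (X ↘ (Spec (CommRingCat.of k)))]
    (K : Type u) [Field K] [Algebra k K] (y : ↥(Curv2.bc k X K)) (a a' : ℕ)
    (ha : Algebra.trdeg k (X.residueField (Curv2.bcFst k X K y)) = a)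
    (ha' : letI : (Curv2.bc k X K).Over (Spec (CommRingCat.of K)) := ⟨Curv2.bcSnd k X K⟩
      Algebra.trdeg K ((Curv2.bc k X K).residueField y) = a') :
    ringKrullDim ((Curv2.bc k X K).presheaf.stalk y) + (a' : WithBot ℕ∞) =
        ringKrullDim (X.presheaf.stalk (Curv2.bcFst k X K y)) + (a : WithBot ℕ∞) ∧
      ringKrullDim (↥((Curv2.bc k X K).presheaf.stalk y) ⧸ Ideal.map ((Curv2.bcFst k X K).stalkMap y).hom (IsLocalRing.maximalIdeal ↥(X.presheaf.stalk (Curv2.bcFst k X K y)))) + (a' : WithBot ℕ∞) =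
        (a : WithBot ℕ∞) := by
  letI iK : (Curv2.bc k X K).Over (Spec (CommRingCat.of K)) := ⟨Curv2.bcSnd k X K⟩
  haveI hlft : LocallyOfFiniteType ((Curv2.bc k X K) ↘ Spec (CommRingCat.of K)) := by
    show LocallyOfFiniteType (Curv2.bcSnd k X K)
    exact MorphismProperty.pullback_snd _ _ inferInstance
  obtain ⟨b, hb⟩ := Groth.Agent.Lib.Helper4.VarDim.exists_ringKrullDim_stalk_eq k X (Curv2.bcFst k X K y)
  obtain ⟨b', hb'⟩ := Groth.Agent.Lib.Helper4.VarDim.exists_ringKrullDim_stalk_eq K (Curv2.bc k X K) y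
  have h1 := Groth.Agent.Lib.Helper4.VarDim.localDim_eq_add k X (Curv2.bcFst k X K y) a b ha hb
  have h2 := Groth.Agent.Lib.Helper4.VarDim.localDim_eq_add K (Curv2.bc k X K) y a' b' ha' hb'
  haveI : Subsingleton ↥(Spec (CommRingCat.of k)) :=
    Groth.Agent.Lib.Helper3.CompDim.subsingleton_Spec_of_isField (K := CommRingCat.of k) (Field.toIsField k)
  haveI : Subsingleton ↥(Spec (CommRingCat.of K)) :=
    Groth.Agent.Lib.Helper3.CompDim.subsingleton_Spec_of_isField (K := CommRingCat.of K) (Field.toIsField K)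
  have h3 : FlatMor.localDim (Curv2.bc k X K) y = FlatMor.localDim X (Curv2.bcFst k X K y) := by
    rw [← Groth.Agent.S5341.fibreDimAt_eq_localDim_of_subsingleton (Curv2.bcSnd k X K),
      ← Groth.Agent.S5341.fibreDimAt_eq_localDim_of_subsingleton (X ↘ Spec (CommRingCat.of k))]
    exact Groth.Agent.Lib.Helper3.LocDimBC.fibreDimAt_eq_of_isPullback (X ↘ Spec (CommRingCat.of k))
      (Spec.map (CommRingCat.ofHom (algebraMap k K))) (Curv2.bcFst k X K) (Curv2.bcSnd k X K)
      (IsPullback.of_hasPullback _ _) y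
  have hab : a' + b' = a + b := by
    have h4 : ((a' + b' : ℕ) : WithBot ℕ∞) = ((a + b : ℕ) : WithBot ℕ∞) := by
      rw [← h1, ← h2, h3]
    exact_mod_cast h4
  -- flat dimension formula
  haveI : IsLocallyNoetherian X := LocallyOfFiniteType.isLocallyNoetherian (X ↘ Spec (CommRingCat.of k))
  haveI : IsLocallyNoetherian (Curv2.bc k X K) := LocallyOfFiniteType.isLocallyNoetherian (Curv2.bcSnd k X K)
  haveI : Flat (Curv2.bcFst k X K) := MorphismProperty.pullback_fst _ _ inferInstance
  letI : Algebra (X.presheaf.stalk (Curv2.bcFst k X K y)) ((Curv2.bc k X K).presheaf.stalk y) :=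
    ((Curv2.bcFst k X K).stalkMap y).hom.toAlgebra
  haveI : IsLocalHom (algebraMap (X.presheaf.stalk (Curv2.bcFst k X K y)) ((Curv2.bc k X K).presheaf.stalk y)) :=
    inferInstanceAs (IsLocalHom ((Curv2.bcFst k X K).stalkMap y).hom)
  haveI : Module.Flat (X.presheaf.stalk (Curv2.bcFst k X K y)) ((Curv2.bc k X K).presheaf.stalk y) :=
    Flat.stalkMap (Curv2.bcFst k X K) y
  have h5 := Groth.Agent.Lib.Helper28.ringKrullDim_eq_add_of_flat
    (R := X.presheaf.stalk (Curv2.bcFst k X K y)) (S := (Curv2.bc k X K).presheaf.stalk y)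
    (Ideal.map ((Curv2.bcFst k X K).stalkMap y).hom (IsLocalRing.maximalIdeal ↥(X.presheaf.stalk (Curv2.bcFst k X K y)))) rfl
  rw [hb, hb'] at h5
  rw [hb, hb']
  obtain ⟨c, hc⟩ : ∃ c, c = ringKrullDim (↥((Curv2.bc k X K).presheaf.stalk y) ⧸ Ideal.map ((Curv2.bcFst k X K).stalkMap y).hom (IsLocalRing.maximalIdeal ↥(X.presheaf.stalk (Curv2.bcFst k X K y)))) := ⟨_, rfl⟩
  rw [← hc] at h5 ⊢
  refine ⟨by exact_mod_cast (by omega : b' + a' = b + a), ?_⟩
  induction c using WithBot.recBotCoe with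
  | bot => simp at h5
  | coe c =>
    induction c using ENat.recTopCoe with
    | top =>
      exfalso
      have : ((b' : ℕ∞) : WithBot ℕ∞) = ((⊤ : ℕ∞) : WithBot ℕ∞) := by
        rw [show ((b' : ℕ∞) : WithBot ℕ∞) = (b' : WithBot ℕ∞) from rfl, h5]
        rw [show ((b : ℕ) : WithBot ℕ∞) = ((b : ℕ∞) : WithBot ℕ∞) from rfl, ← WithBot.coe_add, top_add]
      have := WithBot.coe_injective this
      exact ENat.coe_ne_top _ this
    | coe n =>
      have h6 : b' = n + b := by
        have : ((b' : ℕ) : WithBot ℕ∞) = ((n + b : ℕ) : WithBot ℕ∞) := by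
          rw [h5]; push_cast; rfl
        exact_mod_cast this
      have h7 : n + a' = a := by omega
      have : (((n + a' : ℕ)) : WithBot ℕ∞) = ((a : ℕ) : WithBot ℕ∞) := by rw [h7]
      rw [← this]; push_cast; rfl

end Groth.Agent.S7589
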