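import Groth.Statements.S7605
import Groth.Agent.Lib.Helper6BcNoeth

set_option autoImplicit false
universe u
open CategoryTheory CategoryTheory.Limits AlgebraicGeometry
open Variety

namespace Groth.Agent.S7605

/-- For a scheme X over a field k and a finitely generated field extension k' of k, local Noetherianity
of X is equivalent to local Noetherianity of its base change X_{k'}. -/
theorem result (k : Type u) [Field k] (X : Scheme.{u}) [X.Over (Spec (CommRingCat.of k))] (k' : Type u) [Field k'] [Algebra k k']
    (hfg : (⊤ : IntermediateField k k').FG) :
    IsLocallyNoetherian X ↔ IsLocallyNoetherian (Curv2.bc k X k') := by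
  haveI : Algebra.EssFiniteType k k' :=
    (Algebra.EssFiniteType.iff_of_algEquiv (IntermediateField.topEquiv (F := k) (E := k'))).mp
      (IntermediateField.essFiniteType_iff.mpr hfg)
  exact Groth.Agent.Lib.Helper6.BcNoeth.isLocallyNoetherian_bc_iff k X k'

end Groth.Agent.S7605
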