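import Groth.Statements.S7607
import Mathlib
import Groth.Agent.Lib.Helper6SepCl
import Groth.Agent.Lib.Helper6FinLevel
import Groth.Agent.Lib.Helper28RegLoc
import Groth.Agent.Lib.Helper28DepthFlat3
-- import your own Groth.Agent.* helpers here

set_option autoImplicit false
set_option linter.style.haveILetI false
set_option linter.unusedSectionVars false
universe u
open CategoryTheory CategoryTheory.Limits AlgebraicGeometry
open Variety

namespace Groth.Agent.S7607

open CategoryTheory.Limits Groth.Agent.Lib.Helper6.SepCl Groth.Agent.Lib.Helper6.FinLevel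

section

variable (k : Type u) [Field k] (X : Scheme.{u}) [X.Over (Spec (CommRingCat.of k))]

/-- flat descent of regularity along `X_K → X_E`. -/
theorem regular_of_bcTower (E : Type u) [Field E] [Algebra k E] (K : Type u) [Field K]
    [Algebra E K] [Algebra k K] [IsScalarTower k E K] (w : Curv2.bc k X K)
    (hw : IsRegularLocalRing ((Curv2.bc k X K).presheaf.stalk w)) :
    IsRegularLocalRing ((Curv2.bc k X E).presheaf.stalk (bcTower k X E K w)) := by
  letI : (Curv2.bc k X E).Over (Spec (CommRingCat.of E)) := ⟨Curv2.bcSnd k X E⟩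
  haveI : Flat (Spec.map (CommRingCat.ofHom (algebraMap E K))) := by
    rw [Flat.SpecMap_iff]
    change (algebraMap E K).Flat
    exact RingHom.flat_algebraMap_iff.mpr inferInstance
  haveI hfl : Flat (bcTower k X E K) := by
    unfold bcTower
    infer_instance
  set π := bcTower k X E K with hπ
  letI : Algebra ((Curv2.bc k X E).presheaf.stalk (π w)) ((Curv2.bc k X K).presheaf.stalk w) :=
    (π.stalkMap w).hom.toAlgebra
  haveI : Module.Flat ((Curv2.bc k X E).presheaf.stalk (π w))
      ((Curv2.bc k X K).presheaf.stalk w) := Flat.stalkMap π w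
  haveI : IsLocalHom (algebraMap ((Curv2.bc k X E).presheaf.stalk (π w))
      ((Curv2.bc k X K).presheaf.stalk w)) :=
    inferInstanceAs (IsLocalHom (π.stalkMap w).hom)
  haveI := hw
  haveI : Module.FaithfullyFlat ((Curv2.bc k X E).presheaf.stalk (π w))
      ((Curv2.bc k X K).presheaf.stalk w) := Module.FaithfullyFlat.of_flat_of_isLocalHom
  haveI : IsNoetherianRing ((Curv2.bc k X K).presheaf.stalk w) := inferInstance
  haveI : IsNoetherianRing ((Curv2.bc k X E).presheaf.stalk (π w)) :=
    Groth.Agent.Lib.Helper28.isNoetherianRing_of_faithfullyFlat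
      (R := (Curv2.bc k X E).presheaf.stalk (π w)) (S := (Curv2.bc k X K).presheaf.stalk w)
  exact Groth.Agent.Lib.Helper28.isRegularLocalRing_of_flat_of_isLocalHom
    ((Curv2.bc k X E).presheaf.stalk (π w)) ((Curv2.bc k X K).presheaf.stalk w)


/-- regularity at a point of `X_K` from geometric regularity of `X_{k'}` at its image. -/
theorem regular_of_geomRegular (k' : Type u) [Field k'] [Algebra k k'] (K : Type u) [Field K]
    [Algebra k' K] [Algebra k K] [IsScalarTower k k' K]
    (hfg : (⊤ : IntermediateField k' K).FG) (w : Curv2.bc k X K)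
    (h : @Curv2.IsGeomRegularAt k' _ (Curv2.bc k X k') ⟨Curv2.bcSnd k X k'⟩
      (bcTower k X k' K w)) :
    IsRegularLocalRing ((Curv2.bc k X K).presheaf.stalk w) := by
  letI : (Curv2.bc k X k').Over (Spec (CommRingCat.of k')) := ⟨Curv2.bcSnd k X k'⟩
  haveI h1 : IsRegularLocalRing ((Curv2.bc k' (Curv2.bc k X k') K).presheaf.stalk
      ((bcBcIso k X k' K).inv w)) := h K hfg ((bcBcIso k X k' K).inv w) rfl
  let e : (Curv2.bc k' (Curv2.bc k X k') K).presheaf.stalk ((bcBcIso k X k' K).inv w) ≃+*
      (Curv2.bc k X K).presheaf.stalk w :=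
    (asIso ((bcBcIso k X k' K).inv.stalkMap w)).commRingCatIsoToRingEquiv
  exact IsRegularLocalRing.of_ringEquiv e


/-- a common finitely generated extension together with a point, from a field-valued point. -/
theorem exists_common_of_field (k' : Type u) [Field k'] [Algebra k k'] (k'' : Type u) [Field k'']
    [Algebra k k''] (hfg'' : (⊤ : IntermediateField k k'').FG) (Ω : Type u) [Field Ω]
    (a' : Spec (CommRingCat.of Ω) ⟶ Curv2.bc k X k')
    (a'' : Spec (CommRingCat.of Ω) ⟶ Curv2.bc k X k'')
    (hcond : a' ≫ Curv2.bcFst k X k' = a'' ≫ Curv2.bcFst k X k'') :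
    ∃ (K : Type u) (_ : Field K) (_ : Algebra k K) (_ : Algebra k' K) (_ : Algebra k'' K)
      (_ : IsScalarTower k k' K) (_ : IsScalarTower k k'' K),
      (⊤ : IntermediateField k' K).FG ∧
      ∃ w : Curv2.bc k X K, bcTower k X k' K w = a' (IsLocalRing.closedPoint Ω) ∧
        bcTower k X k'' K w = a'' (IsLocalRing.closedPoint Ω) := by
  let ψ' : CommRingCat.of k' ⟶ CommRingCat.of Ω := Spec.preimage (a' ≫ Curv2.bcSnd k X k')
  let ψ'' : CommRingCat.of k'' ⟶ CommRingCat.of Ω := Spec.preimage (a'' ≫ Curv2.bcSnd k X k'')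
  have hψ' : Spec.map ψ' = a' ≫ Curv2.bcSnd k X k' := Spec.map_preimage _
  have hψ'' : Spec.map ψ'' = a'' ≫ Curv2.bcSnd k X k'' := Spec.map_preimage _
  have c1 : Curv2.bcSnd k X k' ≫ Spec.map (CommRingCat.ofHom (algebraMap k k')) =
      Curv2.bcFst k X k' ≫ (X ↘ Spec (CommRingCat.of k)) := pullback.condition.symm
  have c2 : Curv2.bcSnd k X k'' ≫ Spec.map (CommRingCat.ofHom (algebraMap k k'')) =
      Curv2.bcFst k X k'' ≫ (X ↘ Spec (CommRingCat.of k)) := pullback.condition.symm
  have hψ : CommRingCat.ofHom (algebraMap k k') ≫ ψ' =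
      CommRingCat.ofHom (algebraMap k k'') ≫ ψ'' := by
    apply Spec.map_injective
    rw [Spec.map_comp, Spec.map_comp, hψ', hψ'', Category.assoc, Category.assoc, c1, c2,
      ← Category.assoc, hcond, Category.assoc]
  letI : Algebra k' Ω := ψ'.hom.toAlgebra
  letI : Algebra k'' Ω := ψ''.hom.toAlgebra
  letI : Algebra k Ω := (ψ'.hom.comp (algebraMap k k')).toAlgebra
  haveI : IsScalarTower k k' Ω := IsScalarTower.of_algebraMap_eq (fun _ => rfl)
  haveI : IsScalarTower k k'' Ω := IsScalarTower.of_algebraMap_eq (fun c => by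
    have := congrArg (fun φ => φ.hom c) hψ
    exact this)
  obtain ⟨S, hS⟩ := hfg''
  let K : IntermediateField k' Ω :=
    IntermediateField.adjoin k' ((algebraMap k'' Ω) '' (S : Set k''))
  have hrange : ∀ y : k'', algebraMap k'' Ω y ∈ K := by
    intro y
    have hy : y ∈ IntermediateField.adjoin k (S : Set k'') := by rw [hS]; trivial
    have h1 : (IsScalarTower.toAlgHom k k'' Ω) y ∈
        (IntermediateField.adjoin k (S : Set k'')).map (IsScalarTower.toAlgHom k k'' Ω) :=
      ⟨y, hy, rfl⟩
    rw [IntermediateField.adjoin_map] at h1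
    have h2 : IntermediateField.adjoin k ((IsScalarTower.toAlgHom k k'' Ω) '' (S : Set k'')) ≤
        K.restrictScalars k := by
      rw [IntermediateField.adjoin_le_iff]
      intro t ht
      exact IntermediateField.subset_adjoin k' _ ht
    exact h2 h1
  letI : Algebra k'' K := (RingHom.codRestrict (algebraMap k'' Ω) K hrange).toAlgebra
  haveI : IsScalarTower k k'' K := IsScalarTower.of_algebraMap_eq (fun c => Subtype.ext (by
    exact IsScalarTower.algebraMap_apply k k'' Ω c))
  haveI : IsScalarTower k'' K Ω := IsScalarTower.of_algebraMap_eq (fun _ => rfl)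
  haveI : IsScalarTower k K Ω := IsScalarTower.of_algebraMap_eq (fun _ => rfl)
  have hKfg : K.FG := IntermediateField.fg_adjoin_of_finite ((S.finite_toSet).image _)
  haveI : Algebra.EssFiniteType k' K := IntermediateField.essFiniteType_iff.mpr hKfg
  refine ⟨K, inferInstance, inferInstance, inferInstance, inferInstance, inferInstance,
    inferInstance, IntermediateField.fg_top k' K, ?_⟩
  have hkΩ : CommRingCat.ofHom (algebraMap k Ω) = CommRingCat.ofHom (algebraMap k k') ≫ ψ' := rfl
  have comm : (a' ≫ Curv2.bcFst k X k') ≫ (X ↘ Spec (CommRingCat.of k)) =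
      Spec.map (CommRingCat.ofHom (algebraMap K Ω)) ≫
        Spec.map (CommRingCat.ofHom (algebraMap k K)) := by
    rw [← Spec.map_comp, ← CommRingCat.ofHom_comp, ← IsScalarTower.algebraMap_eq, hkΩ,
      Spec.map_comp, hψ', Category.assoc, Category.assoc, c1]
  let b : Spec (CommRingCat.of Ω) ⟶ Curv2.bc k X K :=
    pullback.lift (a' ≫ Curv2.bcFst k X k') (Spec.map (CommRingCat.ofHom (algebraMap K Ω))) comm
  have hb1 : b ≫ Curv2.bcFst k X K = a' ≫ Curv2.bcFst k X k' := pullback.lift_fst _ _ _
  have hb2 : b ≫ Curv2.bcSnd k X K = Spec.map (CommRingCat.ofHom (algebraMap K Ω)) :=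
    pullback.lift_snd _ _ _
  have hb' : b ≫ bcTower k X k' K = a' := by
    apply pullback.hom_ext
    · rw [Category.assoc]
      change b ≫ bcTower k X k' K ≫ Curv2.bcFst k X k' = a' ≫ Curv2.bcFst k X k'
      rw [bcTower_fst, hb1]
    · rw [Category.assoc]
      change b ≫ bcTower k X k' K ≫ Curv2.bcSnd k X k' = a' ≫ Curv2.bcSnd k X k'
      rw [bcTower_snd, ← Category.assoc, hb2, ← Spec.map_comp, ← CommRingCat.ofHom_comp,
        ← IsScalarTower.algebraMap_eq, ← hψ']
      rfl
  have hb'' : b ≫ bcTower k X k'' K = a'' := by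
    apply pullback.hom_ext
    · rw [Category.assoc]
      change b ≫ bcTower k X k'' K ≫ Curv2.bcFst k X k'' = a'' ≫ Curv2.bcFst k X k''
      rw [bcTower_fst, hb1, hcond]
    · rw [Category.assoc]
      change b ≫ bcTower k X k'' K ≫ Curv2.bcSnd k X k'' = a'' ≫ Curv2.bcSnd k X k''
      rw [bcTower_snd, ← Category.assoc, hb2, ← Spec.map_comp, ← CommRingCat.ofHom_comp,
        ← IsScalarTower.algebraMap_eq, ← hψ'']
      rfl
  refine ⟨b (IsLocalRing.closedPoint Ω), ?_, ?_⟩
  · change (b ≫ bcTower k X k' K) (IsLocalRing.closedPoint Ω) = _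
    rw [hb']
  · change (b ≫ bcTower k X k'' K) (IsLocalRing.closedPoint Ω) = _
    rw [hb'']

end


/-- (2) ⇒ (1): let X be a scheme over a field k, k' a finitely generated field extension of k and x' a
point of X_{k'} with image x in X. If X_{k'} is geometrically regular at x' over k', then X is
geometrically regular at x over k. (The published setting defines geometric regularity only for
locally Noetherian schemes; this row allows any scheme X over k.) -/
theorem result (k : Type u) [Field k] (X : Scheme.{u}) [X.Over (Spec (CommRingCat.of k))] (k' : Type u) [Field k'] [Algebra k k'] (hfg : (⊤ : IntermediateField k k').FG)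
    (x' : ↥(Curv2.bc k X k'))
    (h : @Curv2.IsGeomRegularAt k' _ (Curv2.bc k X k') ⟨Curv2.bcSnd k X k'⟩ x') :
    Curv2.IsGeomRegularAt k X (Curv2.bcFst k X k' x') := by
  intro k'' _ _ hfg'' x'' hx''
  obtain ⟨z, hz1, hz2⟩ := Scheme.Pullback.exists_preimage_pullback
    (f := Curv2.bcFst k X k') (g := Curv2.bcFst k X k'') x' x'' hx''.symm
  obtain ⟨K, _, _, _, _, _, _, hKfg, w, hw1, hw2⟩ := exists_common_of_field k X k' k'' hfg''
    ((pullback (Curv2.bcFst k X k') (Curv2.bcFst k X k'')).residueField z)
    ((pullback (Curv2.bcFst k X k') (Curv2.bcFst k X k'')).fromSpecResidueField z ≫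
      pullback.fst (Curv2.bcFst k X k') (Curv2.bcFst k X k''))
    ((pullback (Curv2.bcFst k X k') (Curv2.bcFst k X k'')).fromSpecResidueField z ≫
      pullback.snd (Curv2.bcFst k X k') (Curv2.bcFst k X k''))
    (by rw [Category.assoc, Category.assoc, pullback.condition])
  have hw1' : Groth.Agent.Lib.Helper6.SepCl.bcTower k X k' K w = x' := by
    refine hw1.trans ?_
    exact (congrArg (fun y => (pullback.fst (Curv2.bcFst k X k') (Curv2.bcFst k X k'')) y)
      (Scheme.fromSpecResidueField_apply z _)).trans hz1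
  have hw2' : Groth.Agent.Lib.Helper6.SepCl.bcTower k X k'' K w = x'' := by
    refine hw2.trans ?_
    exact (congrArg (fun y => (pullback.snd (Curv2.bcFst k X k') (Curv2.bcFst k X k'')) y)
      (Scheme.fromSpecResidueField_apply z _)).trans hz2
  have hreg := regular_of_geomRegular k X k' K hKfg w (by rw [hw1']; exact h)
  have := regular_of_bcTower k X k'' K w hreg
  rw [hw2'] at this
  exact this

end Groth.Agent.S7607
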