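import Groth.Statements.S7610
import Groth.Agent.Lib.Helper3CompDim
import Mathlib

set_option autoImplicit false
universe u
open CategoryTheory CategoryTheory.Limits AlgebraicGeometry
open Variety

namespace Groth.Agent.S7610

theorem aux (k : Type u) [Field k] {X Y : Scheme.{u}} (pX : X ⟶ Spec (CommRingCat.of k))
    (pY : Y ⟶ Spec (CommRingCat.of k)) [LocallyOfFiniteType pX] [LocallyOfFiniteType pY]
    (z : ↥(pullback pX pY)) :
    FlatMor.localDim ↥(pullback pX pY) z =
      FlatMor.localDim ↥X (pullback.fst pX pY z) + FlatMor.localDim ↥Y (pullback.snd pX pY z) := by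
  have hK : IsField (CommRingCat.of k) := Field.toIsField k
  haveI : Flat pY := inferInstance
  haveI : Flat (pullback.fst pX pY) := MorphismProperty.pullback_fst _ _ inferInstance
  haveI : LocallyOfFiniteType (pullback.fst pX pY) := MorphismProperty.pullback_fst _ _ inferInstance
  have h1 := (Groth.Agent.Lib.Helper3.CompDim.localDim_le_add_of_field hK (pullback.fst pX pY) pX z).2
    (Flat.stalkMap _ z)
  rw [h1, add_comm]
  congr 1
  rw [Groth.Agent.Lib.Helper3.LocDimBC.fibreDimAt_eq_of_isPullback pY pX (pullback.snd pX pY)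
    (pullback.fst pX pY) (IsPullback.of_hasPullback pX pY).flip z]
  exact Groth.Agent.S5341.fibreDimAt_eq_localDim_of_subsingleton pY _

/-- Let X and Y be schemes locally of finite type over a field k and z a point of X ×_k Y lying over x
in X and y in Y. Then dim_z(X ×_k Y) = dim_x X + dim_y Y (local dimensions of the underlying
topological spaces, in WithBot ℕ∞). -/
theorem result (k : Type u) [Field k] (X : Scheme.{u}) [X.Over (Spec (CommRingCat.of k))] [LocallyOfFiniteType (X ↘ (Spec (CommRingCat.of k)))]
    (Y : Scheme.{u}) [Y.Over (Spec (CommRingCat.of k))] [LocallyOfFiniteType (Y ↘ (Spec (CommRingCat.of k)))]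
    (z : ↥(pullback (X ↘ (Spec (CommRingCat.of k))) (Y ↘ (Spec (CommRingCat.of k))))) :
    FlatMor.localDim ↥(pullback (X ↘ (Spec (CommRingCat.of k))) (Y ↘ (Spec (CommRingCat.of k)))) z =
      FlatMor.localDim ↥X (pullback.fst (X ↘ (Spec (CommRingCat.of k))) (Y ↘ (Spec (CommRingCat.of k))) z) +
        FlatMor.localDim ↥Y (pullback.snd (X ↘ (Spec (CommRingCat.of k))) (Y ↘ (Spec (CommRingCat.of k))) z) := by
  exact aux k _ _ z

end Groth.Agent.S7610
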