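import Groth.Statements.S7614
import Groth.Agent.Lib.Helper12QuasiAffineDescent

set_option autoImplicit false
universe u
open CategoryTheory CategoryTheory.Limits AlgebraicGeometry
open Variety

namespace Groth.Agent.S7614

/-- Let X be a scheme over a field k and K an extension field of k. If X_K is quasi-affine, then X is
quasi-affine. -/
theorem result (k : Type u) [Field k] (X : Scheme.{u}) [X.Over (Spec (CommRingCat.of k))] (K : Type u) [Field K] [Algebra k K]
    [(Curv2.bc k X K).IsQuasiAffine] : X.IsQuasiAffine := by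
  let g : X ⟶ Spec (CommRingCat.of k) := X ↘ Spec (CommRingCat.of k)
  let φ : Spec (CommRingCat.of K) ⟶ Spec (CommRingCat.of k) :=
    Spec.map (CommRingCat.ofHom (algebraMap k K))
  have hsub : Subsingleton (Spec (CommRingCat.of k)) :=
    inferInstanceAs (Subsingleton (PrimeSpectrum k))
  have hne : Nonempty (Spec (CommRingCat.of K)) := inferInstanceAs (Nonempty (PrimeSpectrum K))
  have hφs : Surjective φ := ⟨fun x => ⟨Classical.arbitrary _, Subsingleton.elim _ _⟩⟩
  have hφf : Flat φ := inferInstance
  have hφq : QuasiCompact φ := inferInstance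
  have h : IsPullback (Curv2.bcSnd k X K) (Curv2.bcFst k X K) φ g :=
    (IsPullback.of_hasPullback g φ).flip
  have hfs : Surjective (Curv2.bcFst k X K) :=
    MorphismProperty.of_isPullback (P := @Surjective) h hφs
  have hcpt : CompactSpace X := (Curv2.bcFst k X K).surjective.compactSpace
    (Curv2.bcFst k X K).continuous
  have hqs1 : QuasiSeparated (Curv2.bcSnd k X K) := inferInstance
  have hgqs : QuasiSeparated g :=
    (Groth.Agent.Lib.Helper12.descendsAlong_quasiSeparated).of_isPullback h
      ⟨⟨hφs, hφf⟩, hφq⟩ hqs1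
  have hqs : QuasiSeparatedSpace X := quasiSeparatedSpace_of_quasiSeparated g
  refine Groth.Agent.Lib.Helper12.isQuasiAffine_of_isPullback h ?_
  intro W hW
  have hqc : QuasiCompact (Curv2.bcSnd k X K) := inferInstance
  have : CompactSpace ((Curv2.bcSnd k X K) ⁻¹ᵁ W : Scheme.{u}) :=
    isCompact_iff_compactSpace.mp ((Curv2.bcSnd k X K).isCompact_preimage hW.isCompact)
  exact Scheme.IsQuasiAffine.of_isImmersion ((Curv2.bcSnd k X K) ⁻¹ᵁ W).ι

end Groth.Agent.S7614
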