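import Groth.Statements.S7615
import Groth.Agent.Lib.Helper6H0Field

set_option autoImplicit false
universe u
open CategoryTheory CategoryTheory.Limits AlgebraicGeometry
open Variety

namespace Groth.Agent.S7615

/-- Let X be a proper variety over a field k (integral, separated, of finite type and proper over k) and
K = H^0(X, O_X), a k-algebra via the structure morphism. Then K is a field, finite over k; K/k is
separable when X is geometrically reduced over k, and purely inseparable when X is geometrically
irreducible over k. -/
theorem result (k : Type u) [Field k] (X : Scheme.{u}) [X.Over (Spec (CommRingCat.of k))] [IsIntegral X] [IsProper (X ↘ (Spec (CommRingCat.of k)))] :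
    letI := ((X ↘ (Spec (CommRingCat.of k))).appTop.hom.comp (Scheme.ΓSpecIso (CommRingCat.of k)).inv.hom : k →+* Γ(X, ⊤)).toAlgebra
    IsField ↑Γ(X, ⊤) ∧ Module.Finite k ↑Γ(X, ⊤) ∧
      (GeometricallyReduced (X ↘ (Spec (CommRingCat.of k))) → Algebra.IsSeparable k ↑Γ(X, ⊤)) ∧
      (GeometricallyIrreducible (X ↘ (Spec (CommRingCat.of k))) → IsPurelyInseparable k ↑Γ(X, ⊤)) := by
  refine ⟨isField_of_universallyClosed k (X ↘ (Spec (CommRingCat.of k))),
    Groth.Agent.Lib.Helper6.H0Field.finite_gsMap k (X ↘ (Spec (CommRingCat.of k))),
    fun h => ?_, fun h => ?_⟩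
  · haveI := h
    exact Groth.Agent.Lib.Helper6.H0Field.isSeparable_globalSections k
      (X ↘ (Spec (CommRingCat.of k)))
  · haveI := h
    exact Groth.Agent.Lib.Helper6.H0Field.isPurelyInseparable_globalSections k X

end Groth.Agent.S7615
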