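import Groth.Statements.S7618
import Mathlib

set_option autoImplicit false
universe u
open CategoryTheory CategoryTheory.Limits AlgebraicGeometry
open Variety

namespace Groth.Agent.S7618

theorem isUnit_of_basicOpen_eq_top (X : Scheme.{u}) (f : Γ(X, ⊤)) (h : X.basicOpen f = ⊤) :
    IsUnit f := by
  apply X.toRingedSpace.isUnit_of_isUnit_germ ⊤ f
  intro x hx
  have : x ∈ X.basicOpen f := by rw [h]; trivial
  exact (X.mem_basicOpen f x hx).mp this

theorem idem_trivial (X : Scheme.{u}) [ConnectedSpace ↥X] (e : Γ(X, ⊤)) (he : e * e = e) :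
    e = 0 ∨ e = 1 := by
  have he' : (1 - e) * (1 - e) = 1 - e := by
    have : (1 - e) * (1 - e) = 1 - e - e + e * e := by ring
    rw [this, he]; ring
  have hdisj : X.basicOpen e ⊓ X.basicOpen (1 - e) = ⊥ := by
    rw [← Scheme.basicOpen_mul]
    have : e * (1 - e) = 0 := by
      have : e * (1 - e) = e - e * e := by ring
      rw [this, he, sub_self]
    rw [this, Scheme.basicOpen_zero]
  have hcov : ∀ x : X, x ∈ X.basicOpen e ∨ x ∈ X.basicOpen (1 - e) := by
    intro x
    rw [X.mem_basicOpen_top, X.mem_basicOpen_top]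
    have h1 : X.presheaf.germ ⊤ x trivial e + X.presheaf.germ ⊤ x trivial (1 - e) = 1 := by
      rw [← map_add]; simp
    exact IsLocalRing.isUnit_or_isUnit_of_add_one h1
  have hclopen : IsClopen ((X.basicOpen e : Set X)) := by
    refine ⟨?_, (X.basicOpen e).2⟩
    have : ((X.basicOpen e : Set X))ᶜ = (X.basicOpen (1 - e) : Set X) := by
      ext x
      constructor
      · intro hx
        exact (hcov x).resolve_left hx
      · intro hx hx'
        have : x ∈ X.basicOpen e ⊓ X.basicOpen (1 - e) := ⟨hx', hx⟩
        rw [hdisj] at this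
        exact this
    rw [← isOpen_compl_iff, this]
    exact (X.basicOpen (1 - e)).2
  rcases isClopen_iff.mp hclopen with h | h
  · left
    have h2 : X.basicOpen (1 - e) = ⊤ := by
      ext x
      simp only [TopologicalSpace.Opens.coe_top, Set.mem_univ, iff_true]
      rcases hcov x with hx | hx
      · exfalso
        have : x ∈ (X.basicOpen e : Set X) := hx
        rw [h] at this
        exact this
      · exact hx
    have hu := isUnit_of_basicOpen_eq_top X (1 - e) h2
    obtain ⟨u, hu'⟩ := hu
    have : (1 - e) = 1 := by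
      have h3 : (↑u⁻¹ : Γ(X, ⊤)) * ((1 - e) * (1 - e)) = ↑u⁻¹ * (1 - e) := by rw [he']
      rw [← hu', ← mul_assoc, Units.inv_mul, one_mul] at h3
      rw [← hu']; exact h3
    have : e = 0 := by
      have h4 : e = 1 - (1 - e) := by ring
      rw [h4, this, sub_self]
    exact this
  · right
    have h2 : X.basicOpen e = ⊤ := by
      ext x
      simp only [TopologicalSpace.Opens.coe_top]
      rw [h]
    have hu := isUnit_of_basicOpen_eq_top X e h2
    obtain ⟨u, hu'⟩ := hu
    have h3 : (↑u⁻¹ : Γ(X, ⊤)) * (e * e) = ↑u⁻¹ * e := by rw [he]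
    rw [← hu', ← mul_assoc, Units.inv_mul, one_mul] at h3
    rw [← hu']; exact h3


theorem isField_integralClosure_of (k R : Type*) [Field k] [CommRing R] [Algebra k R]
    [IsReduced R] [Nontrivial R]
    (hidem : ∀ e : R, e * e = e → e = 0 ∨ e = 1) : IsField (integralClosure k R) := by
  refine ⟨⟨0, 1, ?_⟩, mul_comm, ?_⟩
  · intro h
    have : ((0 : integralClosure k R) : R) = ((1 : integralClosure k R) : R) := congrArg _ h
    simp at this
  · intro b hb0
    have hb0' : (b : R) ≠ 0 := fun h => hb0 (Subtype.ext h)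
    have hbint : IsIntegral k (b : R) := b.2
    set S := Algebra.adjoin k {(b : R)} with hS
    haveI : Module.Finite k S :=
      Module.Finite.iff_fg.mpr (hbint.fg_adjoin_singleton)
    haveI : IsArtinianRing S := IsArtinianRing.of_finite k S
    let b' : S := ⟨(b : R), Algebra.subset_adjoin rfl⟩
    obtain ⟨n, y, hy⟩ := IsArtinian.exists_pow_succ_smul_dvd b' (1 : S)
    have hSle : S ≤ integralClosure k R := by
      rw [hS, Algebra.adjoin_le_iff]
      intro x hx
      rw [Set.mem_singleton_iff] at hx
      rw [hx]; exact hbint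
    have hyint : (y : R) ∈ integralClosure k R := hSle y.2
    -- relation in R: b^(n+1) * y = b^n
    have hrel : (b : R) ^ (n + 1) * (y : R) = (b : R) ^ n := by
      have := congrArg (fun s : S => (s : R)) hy
      simpa [b'] using this
    -- upgrade: with m = n+1
    set c : R := (y : R) with hc
    have hrel' : (b : R) ^ (n + 1) = (c * b) * (b : R) ^ (n + 1) := by
      have : (c * b) * (b : R) ^ (n + 1) = b * ((b : R) ^ (n + 1) * c) := by ring
      rw [this, hrel, ← pow_succ']
    have hiter : ∀ j : ℕ, (b : R) ^ (n + 1) = (c * b) ^ j * (b : R) ^ (n + 1) := by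
      intro j
      induction j with
      | zero => simp
      | succ j ih =>
        calc (b : R) ^ (n + 1) = (c * b) ^ j * (b : R) ^ (n + 1) := ih
          _ = (c * b) ^ j * ((c * b) * (b : R) ^ (n + 1)) := by rw [← hrel']
          _ = (c * b) ^ (j + 1) * (b : R) ^ (n + 1) := by ring
    have hidem' : ((c * b) ^ (n + 1)) * ((c * b) ^ (n + 1)) = (c * b) ^ (n + 1) := by
      have h1 : (c * b) ^ (n + 1) * (c * b) ^ (n + 1) =
          c ^ (n + 1) * ((c * b) ^ (n + 1) * (b : R) ^ (n + 1)) := by
        rw [mul_pow]; ring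
      rw [h1, ← hiter (n + 1), ← mul_pow]
    rcases hidem _ hidem' with h0 | h1
    · exfalso
      apply hb0'
      have : (b : R) ^ (n + 1) = 0 := by
        rw [hiter (n + 1), h0, zero_mul]
      exact IsReduced.eq_zero _ ⟨n + 1, this⟩
    · refine ⟨⟨c * (c * b) ^ n, ?_⟩, ?_⟩
      · exact Subalgebra.mul_mem _ hyint
          (Subalgebra.pow_mem _ (Subalgebra.mul_mem _ hyint b.2) n)
      · apply Subtype.ext
        show (b : R) * (c * (c * b) ^ n) = 1
        rw [← h1, pow_succ]
        ring



/-- Let X be a connected reduced scheme over a field k. Then the global functions on X that are integral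
over k form a field. -/
theorem result (k : Type u) [Field k] (X : Scheme.{u}) [X.Over (Spec (CommRingCat.of k))] [ConnectedSpace ↥X] [IsReduced X] :
    letI := ((X ↘ (Spec (CommRingCat.of k))).appTop.hom.comp (Scheme.ΓSpecIso (CommRingCat.of k)).inv.hom : k →+* Γ(X, ⊤)).toAlgebra
    IsField ↥(integralClosure k ↑Γ(X, ⊤)) := by
  letI := ((X ↘ (Spec (CommRingCat.of k))).appTop.hom.comp (Scheme.ΓSpecIso (CommRingCat.of k)).inv.hom : k →+* Γ(X, ⊤)).toAlgebra
  haveI : Nontrivial Γ(X, ⊤) := by
    obtain ⟨x⟩ := (inferInstance : Nonempty ↥X)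
    refine nontrivial_of_ne (0 : Γ(X, ⊤)) 1 (fun h => ?_)
    have h1 := congrArg (X.presheaf.germ ⊤ x trivial) h
    rw [map_zero, map_one] at h1
    exact zero_ne_one h1
  exact isField_integralClosure_of k Γ(X, ⊤) (idem_trivial X)

end Groth.Agent.S7618
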