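import Groth.Statements.S7624
import Groth.Agent.Lib.Helper3DomFibDim
import Groth.Agent.Lib.Helper4DimFormulaT
import Mathlib

set_option autoImplicit false
universe u
open CategoryTheory CategoryTheory.Limits AlgebraicGeometry
open Variety

namespace Groth.Agent.S7624

/-- Let R be a valuation ring, X an irreducible scheme and f : X → Spec R a surjective morphism locally
of finite type. Then each irreducible component of the fibre of f over the closed point of Spec R
has Krull dimension equal to that of the fibre of f over the generic point. -/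
theorem result (R : Type u) [CommRing R] [IsDomain R] [ValuationRing R]
    (X : Scheme.{u}) [IrreducibleSpace ↥X] (f : X ⟶ Spec (CommRingCat.of R)) [LocallyOfFiniteType f] [Surjective f]
    (Z : Set ↥(f.fiber (IsLocalRing.closedPoint R))) (hZ : Z ∈ irreducibleComponents ↥(f.fiber (IsLocalRing.closedPoint R))) :
    topologicalKrullDim ↥Z = topologicalKrullDim ↥(f.fiber (⟨⊥, Ideal.bot_prime⟩ : PrimeSpectrum R)) := by
  have hgen : genericPoint (Spec (CommRingCat.of R)) = (⟨⊥, Ideal.bot_prime⟩ : PrimeSpectrum R) :=
    genericPoint_eq_bot_of_affine (CommRingCat.of R)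
  rw [← hgen]
  apply le_antisymm
  · refine (topologicalKrullDim_subspace_le _ Z).trans ?_
    exact Groth.Agent.Lib.Helper3.DomFibDim.dim_fiber_le_dim_genericFibre f
      (fun M _ _ h => Module.Flat.flat_iff_torsion_eq_bot_of_isBezout.mpr h) _
  · obtain ⟨x, hxs, hmax, hdim⟩ :=
      Groth.Agent.Lib.Helper4.DimFormula.exists_point_of_mem_irreducibleComponents f _ Z hZ
    rw [hdim, ← Groth.Agent.Lib.Helper4.DimFormula.fibreDimAt_eq_ptTrdeg_of_maximal f x hmax]
    exact Groth.Agent.Lib.Helper3.DomFibDim.dim_genericFibre_le_fibreDimAt f x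

end Groth.Agent.S7624
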