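import Groth.Statements.S7627
import Mathlib
import Groth.Agent.Lib.Helper4VarDim5
import Groth.Agent.Lib.Helper28FlatNormal
import Groth.Agent.Lib.Helper10FibStalk

set_option autoImplicit false
universe u
open CategoryTheory CategoryTheory.Limits AlgebraicGeometry
attribute [local instance] Curv2.resAlgebra
open scoped TensorProduct
open Variety

namespace Groth.Agent.S7627

open TensorProduct in
theorem specMap_resMap (k : Type u) [Field k] (X : Scheme.{u}) [X.Over (Spec (CommRingCat.of k))] (x : X) :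
    Spec.map (CommRingCat.ofHom (Curv2.resMap k X x)) =
      X.fromSpecResidueField x ≫ (X ↘ Spec (CommRingCat.of k)) := by
  have hψ : CommRingCat.ofHom (Curv2.resMap k X x) =
      (Scheme.ΓSpecIso (CommRingCat.of k)).inv ≫ (X ↘ Spec (CommRingCat.of k)).appTop ≫
        X.presheaf.germ ⊤ x trivial ≫ X.residue x := rfl
  rw [hψ]
  apply ext_of_isAffine
  rw [← cancel_mono (Scheme.ΓSpecIso (X.residueField x)).hom, Scheme.ΓSpecIso_naturality]
  unfold Scheme.fromSpecResidueField
  rw [Scheme.Hom.comp_appTop, Scheme.Hom.comp_appTop, Scheme.fromSpecStalk_appTop]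
  simp only [Category.assoc]
  rw [Scheme.ΓSpecIso_naturality]
  simp

open TensorProduct in
/-- the fibre of `X_K → X` over `s` is `Spec (κ(s) ⊗ K)`, hence reduced if the ring is -/
theorem isReduced_fiber (k : Type u) [Field k] (X : Scheme.{u}) [X.Over (Spec (CommRingCat.of k))]
    (K : Type u) [Field K] [Algebra k K] (s : X)
    (hred : _root_.IsReduced (X.residueField s ⊗[k] K)) :
    IsReduced ((Curv2.bcFst k X K).fiber s) := by
  have sq1 : IsPullback ((Curv2.bcFst k X K).fiberι s) ((Curv2.bcFst k X K).fiberToSpecResidueField s)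
      (Curv2.bcFst k X K) (X.fromSpecResidueField s) := IsPullback.of_hasPullback _ _
  have sq2 : IsPullback (Curv2.bcSnd k X K) (Curv2.bcFst k X K)
      (Spec.map (CommRingCat.ofHom (algebraMap k K))) (X ↘ Spec (CommRingCat.of k)) :=
    (IsPullback.of_hasPullback _ _).flip
  have sq := sq1.paste_horiz sq2
  rw [← specMap_resMap] at sq
  let e := sq.flip.isoPullback ≪≫ pullbackSpecIso k (X.residueField s) K
  haveI : IsReduced (Spec (CommRingCat.of (X.residueField s ⊗[k] K))) := inferInstance
  exact isReduced_of_isOpenImmersion e.hom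


/-- Let X be locally of finite type over a field k, K an extension field of k, y a point of X_K with
image x in X. Assume dim O_{X, x} = dim O_{X_K, y} and that κ(x) ⊗_k K is reduced (for instance
κ(x)/k separable or K/k separable). Then m_x O_{X_K, y} = m_y. -/
theorem result (k : Type u) [Field k] (X : Scheme.{u}) [X.Over (Spec (CommRingCat.of k))] [LocallyOfFiniteType (X ↘ (Spec (CommRingCat.of k)))]
    (K : Type u) [Field K] [Algebra k K] (y : ↥(Curv2.bc k X K))
    (hdim : ringKrullDim ↥(X.presheaf.stalk (Curv2.bcFst k X K y)) = ringKrullDim ↥((Curv2.bc k X K).presheaf.stalk y))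
    (hred : _root_.IsReduced (X.residueField (Curv2.bcFst k X K y) ⊗[k] K)) :
    Ideal.map ((Curv2.bcFst k X K).stalkMap y).hom (IsLocalRing.maximalIdeal ↥(X.presheaf.stalk (Curv2.bcFst k X K y))) =
      IsLocalRing.maximalIdeal ↥((Curv2.bc k X K).presheaf.stalk y) := by
  letI iK : (Curv2.bc k X K).Over (Spec (CommRingCat.of K)) := ⟨Curv2.bcSnd k X K⟩
  haveI hlft : LocallyOfFiniteType ((Curv2.bc k X K) ↘ Spec (CommRingCat.of K)) := by
    show LocallyOfFiniteType (Curv2.bcSnd k X K)
    exact MorphismProperty.pullback_snd _ _ inferInstance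
  obtain ⟨b, hb⟩ := Groth.Agent.Lib.Helper4.VarDim.exists_ringKrullDim_stalk_eq k X (Curv2.bcFst k X K y)
  -- reducedness of the fibre ring
  have hredF : ∀ (s : X) (z : (Curv2.bcFst k X K).fiber s), _root_.IsReduced (X.residueField s ⊗[k] K) →
      _root_.IsReduced (↥((Curv2.bc k X K).presheaf.stalk ((Curv2.bcFst k X K).fiberι s z)) ⧸
        Ideal.map ((Curv2.bcFst k X K).stalkMap ((Curv2.bcFst k X K).fiberι s z)).hom
          (IsLocalRing.maximalIdeal ↥(X.presheaf.stalk (Curv2.bcFst k X K ((Curv2.bcFst k X K).fiberι s z))))) := by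
    intro s z hr
    haveI := isReduced_fiber k X K s hr
    have hsurj : Function.Surjective (((Curv2.bcFst k X K).fiberι s).stalkMap z).hom :=
      ((Curv2.bcFst k X K).fiberι s).stalkMap_surjective z
    have hker := Groth.Agent.Lib.Helper10.FibStalk.ker_eq_map (Curv2.bcFst k X K) s z
    exact isReduced_of_injective _
      ((Ideal.quotEquivOfEq hker.symm).trans (RingHom.quotientKerEquivOfSurjective hsurj)).injective
  have hredy : _root_.IsReduced (↥((Curv2.bc k X K).presheaf.stalk y) ⧸
      Ideal.map ((Curv2.bcFst k X K).stalkMap y).hom (IsLocalRing.maximalIdeal ↥(X.presheaf.stalk (Curv2.bcFst k X K y)))) := by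
    have h0 := hredF (Curv2.bcFst k X K y) ((Curv2.bcFst k X K).asFiber y) hred
    have aux : ∀ w : ↥(Curv2.bc k X K), w = y → _root_.IsReduced (↥((Curv2.bc k X K).presheaf.stalk w) ⧸
        Ideal.map ((Curv2.bcFst k X K).stalkMap w).hom (IsLocalRing.maximalIdeal ↥(X.presheaf.stalk (Curv2.bcFst k X K w)))) →
        _root_.IsReduced (↥((Curv2.bc k X K).presheaf.stalk y) ⧸
          Ideal.map ((Curv2.bcFst k X K).stalkMap y).hom (IsLocalRing.maximalIdeal ↥(X.presheaf.stalk (Curv2.bcFst k X K y)))) := by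
      rintro w rfl h
      exact h
    exact aux _ ((Curv2.bcFst k X K).fiberι_asFiber y) h0
  -- flat dimension formula
  haveI : IsLocallyNoetherian X := LocallyOfFiniteType.isLocallyNoetherian (X ↘ Spec (CommRingCat.of k))
  haveI : IsLocallyNoetherian (Curv2.bc k X K) := LocallyOfFiniteType.isLocallyNoetherian (Curv2.bcSnd k X K)
  haveI : Flat (Curv2.bcFst k X K) := MorphismProperty.pullback_fst _ _ inferInstance
  letI : Algebra (X.presheaf.stalk (Curv2.bcFst k X K y)) ((Curv2.bc k X K).presheaf.stalk y) :=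
    ((Curv2.bcFst k X K).stalkMap y).hom.toAlgebra
  haveI : IsLocalHom (algebraMap (X.presheaf.stalk (Curv2.bcFst k X K y)) ((Curv2.bc k X K).presheaf.stalk y)) :=
    inferInstanceAs (IsLocalHom ((Curv2.bcFst k X K).stalkMap y).hom)
  haveI : Module.Flat (X.presheaf.stalk (Curv2.bcFst k X K y)) ((Curv2.bc k X K).presheaf.stalk y) :=
    Flat.stalkMap (Curv2.bcFst k X K) y
  have h5 := Groth.Agent.Lib.Helper28.ringKrullDim_eq_add_of_flat
    (R := X.presheaf.stalk (Curv2.bcFst k X K y)) (S := (Curv2.bc k X K).presheaf.stalk y)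
    (Ideal.map ((Curv2.bcFst k X K).stalkMap y).hom (IsLocalRing.maximalIdeal ↥(X.presheaf.stalk (Curv2.bcFst k X K y)))) rfl
  rw [← hdim, hb] at h5
  obtain ⟨J, hJ⟩ : ∃ J : Ideal ((Curv2.bc k X K).presheaf.stalk y), J = Ideal.map ((Curv2.bcFst k X K).stalkMap y).hom (IsLocalRing.maximalIdeal ↥(X.presheaf.stalk (Curv2.bcFst k X K y))) := ⟨_, rfl⟩
  rw [← hJ] at h5 hredy ⊢
  have hJle : J ≤ IsLocalRing.maximalIdeal ((Curv2.bc k X K).presheaf.stalk y) := by
    rw [hJ, Ideal.map_le_iff_le_comap]
    have hcm : (IsLocalRing.maximalIdeal ((Curv2.bc k X K).presheaf.stalk y)).comap ((Curv2.bcFst k X K).stalkMap y).hom =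
        IsLocalRing.maximalIdeal (X.presheaf.stalk (Curv2.bcFst k X K y)) :=
      have hl : IsLocalHom ((Curv2.bcFst k X K).stalkMap y).hom := inferInstance
      ((IsLocalRing.local_hom_TFAE ((Curv2.bcFst k X K).stalkMap y).hom).out 0 4).mp hl
    exact hcm.ge
  have hJne : J ≠ ⊤ := fun h => (IsLocalRing.maximalIdeal.isMaximal _).ne_top (top_le_iff.mp (h ▸ hJle))
  haveI : Nontrivial (↥((Curv2.bc k X K).presheaf.stalk y) ⧸ J) := Ideal.Quotient.nontrivial_iff.mpr hJne
  haveI : IsLocalRing (↥((Curv2.bc k X K).presheaf.stalk y) ⧸ J) :=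
    IsLocalRing.of_surjective' (Ideal.Quotient.mk J) Ideal.Quotient.mk_surjective
  have hc0 : ringKrullDim (↥((Curv2.bc k X K).presheaf.stalk y) ⧸ J) ≤ 0 := by
    obtain ⟨c, hc⟩ : ∃ c, c = ringKrullDim (↥((Curv2.bc k X K).presheaf.stalk y) ⧸ J) := ⟨_, rfl⟩
    rw [← hc] at h5 ⊢
    induction c using WithBot.recBotCoe with
    | bot => exact bot_le
    | coe c =>
      induction c using ENat.recTopCoe with
      | top =>
        exfalso
        have : ((b : ℕ∞) : WithBot ℕ∞) = ((⊤ : ℕ∞) : WithBot ℕ∞) := by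
          rw [show ((b : ℕ∞) : WithBot ℕ∞) = (b : WithBot ℕ∞) from rfl, h5]
          rw [show ((b : ℕ) : WithBot ℕ∞) = ((b : ℕ∞) : WithBot ℕ∞) from rfl, ← WithBot.coe_add, top_add]
        have := WithBot.coe_injective this
        exact ENat.natCast_ne_top _ this
      | coe n =>
        have h6 : b = n + b := by
          have : ((b : ℕ) : WithBot ℕ∞) = ((n + b : ℕ) : WithBot ℕ∞) := by
            rw [h5]; push_cast; rfl
          exact_mod_cast this
        have h7 : n = 0 := by omega
        subst h7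
        exact le_refl _
  haveI : Ring.KrullDimLE 0 (↥((Curv2.bc k X K).presheaf.stalk y) ⧸ J) := Ring.krullDimLE_iff.mpr (by exact_mod_cast hc0)
  have hfield : IsField (↥((Curv2.bc k X K).presheaf.stalk y) ⧸ J) := Ring.KrullDimLE.isField_of_isReduced
  have hmax : J.IsMaximal := Ideal.Quotient.maximal_of_isField J hfield
  exact IsLocalRing.eq_maximalIdeal hmax

end Groth.Agent.S7627
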