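import Groth.Statements.S7628
-- import your own Groth.Agent.* helpers here
import Mathlib
import Groth.Agent.Lib.Helper26FGR

set_option autoImplicit false
universe u
open CategoryTheory CategoryTheory.Limits AlgebraicGeometry
open Variety

namespace Groth.Agent.S7628

open Groth.Agent.Lib.Helper26.FGR Opposite

section
variable (k : Type u) [CommRing k] (A : Type u) [CommRing A] [Algebra k A] {X : Scheme.{u}}
  (x : X ⟶ Spec (CommRingCat.of k))

/-- legs of the cone of spectra, with clean types. -/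
noncomputable def πA (i : (FGSub k A)ᵒᵖ) : (specCone k A).pt ⟶ (specDiagram k A).obj i :=
  (specCone k A).π.app i

noncomputable def aA : (specCone k A).pt ⟶ Spec (CommRingCat.of k) :=
  Spec.map (CommRingCat.ofHom (algebraMap k A))

lemma πA_map {i j : (FGSub k A)ᵒᵖ} (f : i ⟶ j) : πA k A i ≫ (specDiagram k A).map f = πA k A j :=
  (specCone k A).w f

lemma πA_toBase (i : (FGSub k A)ᵒᵖ) : πA k A i ≫ toBase k A i = aA k A := π_toBase k A i

lemma hom_extA {Z : Scheme.{u}} (f g : Z ⟶ (specCone k A).pt)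
    (h : ∀ i, f ≫ πA k A i = g ≫ πA k A i) : f = g :=
  (specIsLimit k A).hom_ext h

/-- stages of the base change. -/
noncomputable def bcObj (i : (FGSub k A)ᵒᵖ) : Scheme.{u} := pullback x (toBase k A i)

noncomputable def oFst (i : (FGSub k A)ᵒᵖ) : bcObj k A x i ⟶ X := pullback.fst _ _

noncomputable def oSnd (i : (FGSub k A)ᵒᵖ) : bcObj k A x i ⟶ (specDiagram k A).obj i :=
  pullback.snd _ _

lemma o_cond (i : (FGSub k A)ᵒᵖ) : oFst k A x i ≫ x = oSnd k A x i ≫ toBase k A i :=
  pullback.condition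

noncomputable def oLift {Z : Scheme.{u}} (i : (FGSub k A)ᵒᵖ) (a : Z ⟶ X)
    (b : Z ⟶ (specDiagram k A).obj i) (h : a ≫ x = b ≫ toBase k A i) : Z ⟶ bcObj k A x i :=
  pullback.lift a b h

lemma oLift_fst {Z : Scheme.{u}} (i : (FGSub k A)ᵒᵖ) (a : Z ⟶ X)
    (b : Z ⟶ (specDiagram k A).obj i) (h : a ≫ x = b ≫ toBase k A i) :
    oLift k A x i a b h ≫ oFst k A x i = a := pullback.lift_fst _ _ _

lemma oLift_snd {Z : Scheme.{u}} (i : (FGSub k A)ᵒᵖ) (a : Z ⟶ X)
    (b : Z ⟶ (specDiagram k A).obj i) (h : a ≫ x = b ≫ toBase k A i) :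
    oLift k A x i a b h ≫ oSnd k A x i = b := pullback.lift_snd _ _ _

lemma o_hom_ext {Z : Scheme.{u}} {i : (FGSub k A)ᵒᵖ} {f g : Z ⟶ bcObj k A x i}
    (h1 : f ≫ oFst k A x i = g ≫ oFst k A x i) (h2 : f ≫ oSnd k A x i = g ≫ oSnd k A x i) :
    f = g := pullback.hom_ext h1 h2

lemma map_cond {i j : (FGSub k A)ᵒᵖ} (f : i ⟶ j) :
    oFst k A x i ≫ x = (oSnd k A x i ≫ (specDiagram k A).map f) ≫ toBase k A j := by
  rw [Category.assoc, map_toBase]
  exact o_cond k A x i

/-- the base change of the system of spectra of finitely generated subalgebras. -/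
noncomputable def bcD : (FGSub k A)ᵒᵖ ⥤ Scheme.{u} where
  obj i := bcObj k A x i
  map {i j} f := oLift k A x j (oFst k A x i) (oSnd k A x i ≫ (specDiagram k A).map f)
    (map_cond k A x f)
  map_id i := by
    apply o_hom_ext
    · rw [oLift_fst, Category.id_comp]
    · rw [oLift_snd, Category.id_comp, CategoryTheory.Functor.map_id, Category.comp_id]
  map_comp f g := by
    apply o_hom_ext
    · rw [oLift_fst, Category.assoc, oLift_fst, oLift_fst]
    · rw [oLift_snd, Category.assoc, oLift_snd, ← Category.assoc, oLift_snd,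
        CategoryTheory.Functor.map_comp, Category.assoc]

noncomputable def dFst (i : (FGSub k A)ᵒᵖ) : (bcD k A x).obj i ⟶ X := oFst k A x i

noncomputable def dSnd (i : (FGSub k A)ᵒᵖ) : (bcD k A x).obj i ⟶ (specDiagram k A).obj i :=
  oSnd k A x i

lemma d_cond (i : (FGSub k A)ᵒᵖ) : dFst k A x i ≫ x = dSnd k A x i ≫ toBase k A i :=
  o_cond k A x i

lemma map_dFst {i j : (FGSub k A)ᵒᵖ} (f : i ⟶ j) :
    (bcD k A x).map f ≫ dFst k A x j = dFst k A x i := oLift_fst k A x j _ _ _

lemma map_dSnd {i j : (FGSub k A)ᵒᵖ} (f : i ⟶ j) :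
    (bcD k A x).map f ≫ dSnd k A x j = dSnd k A x i ≫ (specDiagram k A).map f :=
  oLift_snd k A x j _ _ _

lemma d_hom_ext {Z : Scheme.{u}} {i : (FGSub k A)ᵒᵖ} {f g : Z ⟶ (bcD k A x).obj i}
    (h1 : f ≫ dFst k A x i = g ≫ dFst k A x i) (h2 : f ≫ dSnd k A x i = g ≫ dSnd k A x i) :
    f = g := o_hom_ext k A x h1 h2

/-- the point of the cone. -/
noncomputable def bcPt : Scheme.{u} := pullback x (Spec.map (CommRingCat.ofHom (algebraMap k A)))

noncomputable def pFst : bcPt k A x ⟶ X := pullback.fst _ _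

noncomputable def pSnd : bcPt k A x ⟶ (specCone k A).pt := pullback.snd _ _

lemma p_cond : pFst k A x ≫ x = pSnd k A x ≫ aA k A := pullback.condition

lemma p_hom_ext {Z : Scheme.{u}} {f g : Z ⟶ bcPt k A x}
    (h1 : f ≫ pFst k A x = g ≫ pFst k A x) (h2 : f ≫ pSnd k A x = g ≫ pSnd k A x) :
    f = g := pullback.hom_ext h1 h2

noncomputable def pLift {Z : Scheme.{u}} (a : Z ⟶ X) (b : Z ⟶ (specCone k A).pt)
    (h : a ≫ x = b ≫ aA k A) : Z ⟶ bcPt k A x := pullback.lift a b h

lemma pLift_fst {Z : Scheme.{u}} (a : Z ⟶ X) (b : Z ⟶ (specCone k A).pt)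
    (h : a ≫ x = b ≫ aA k A) : pLift k A x a b h ≫ pFst k A x = a := pullback.lift_fst _ _ _

lemma pLift_snd {Z : Scheme.{u}} (a : Z ⟶ X) (b : Z ⟶ (specCone k A).pt)
    (h : a ≫ x = b ≫ aA k A) : pLift k A x a b h ≫ pSnd k A x = b := pullback.lift_snd _ _ _

lemma bcπ_cond (i : (FGSub k A)ᵒᵖ) :
    pFst k A x ≫ x = (pSnd k A x ≫ πA k A i) ≫ toBase k A i := by
  rw [Category.assoc, πA_toBase]
  exact p_cond k A x

/-- the projection of `X_A` to a stage. -/
noncomputable def bcπ (i : (FGSub k A)ᵒᵖ) : bcPt k A x ⟶ (bcD k A x).obj i :=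
  oLift k A x i (pFst k A x) (pSnd k A x ≫ πA k A i) (bcπ_cond k A x i)

lemma bcπ_fst (i : (FGSub k A)ᵒᵖ) : bcπ k A x i ≫ dFst k A x i = pFst k A x :=
  oLift_fst k A x i _ _ _

lemma bcπ_snd (i : (FGSub k A)ᵒᵖ) : bcπ k A x i ≫ dSnd k A x i = pSnd k A x ≫ πA k A i :=
  oLift_snd k A x i _ _ _

lemma bcπ_map {i j : (FGSub k A)ᵒᵖ} (f : i ⟶ j) :
    bcπ k A x i ≫ (bcD k A x).map f = bcπ k A x j := by
  apply d_hom_ext
  · rw [Category.assoc, map_dFst, bcπ_fst, bcπ_fst]
  · rw [Category.assoc, map_dSnd, ← Category.assoc, bcπ_snd, Category.assoc, πA_map, bcπ_snd]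

noncomputable def bcC : Cone (bcD k A x) where
  pt := bcPt k A x
  π :=
    { app := fun i => bcπ k A x i
      naturality := by
        intro i j f
        exact (Category.id_comp _).trans (bcπ_map k A x f).symm }

/-- the smallest stage. -/
noncomputable def i₀ : (FGSub k A)ᵒᵖ := op ⟨⊥, Subalgebra.fg_bot⟩

noncomputable def toI₀ (j : (FGSub k A)ᵒᵖ) : j ⟶ i₀ k A :=
  (homOfLE (show (⟨⊥, Subalgebra.fg_bot⟩ : FGSub k A) ≤ j.unop from
    (bot_le : (⊥ : Subalgebra k A) ≤ j.unop.1))).op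

variable {k A x}

/-- legs of a cone, with clean types. -/
noncomputable def sπ (s : Cone (bcD k A x)) (i : (FGSub k A)ᵒᵖ) : s.pt ⟶ (bcD k A x).obj i :=
  s.π.app i

lemma sπ_map (s : Cone (bcD k A x)) {i j : (FGSub k A)ᵒᵖ} (f : i ⟶ j) :
    sπ s i ≫ (bcD k A x).map f = sπ s j := s.w f

lemma cone_fst_eq (s : Cone (bcD k A x)) (j : (FGSub k A)ᵒᵖ) :
    sπ s j ≫ dFst k A x j = sπ s (i₀ k A) ≫ dFst k A x (i₀ k A) := by
  rw [← sπ_map s (toI₀ k A j), Category.assoc, map_dFst]

/-- the induced cone over the spectra. -/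
noncomputable def sndCone (s : Cone (bcD k A x)) : Cone (specDiagram k A) where
  pt := s.pt
  π :=
    { app := fun i => sπ s i ≫ dSnd k A x i
      naturality := by
        intro i j f
        refine (Category.id_comp _).trans ?_
        rw [Category.assoc, ← map_dSnd, ← Category.assoc, sπ_map] }

noncomputable def liftA (s : Cone (bcD k A x)) : s.pt ⟶ (specCone k A).pt :=
  (specIsLimit k A).lift (sndCone s)

lemma liftA_πA (s : Cone (bcD k A x)) (i : (FGSub k A)ᵒᵖ) :
    liftA s ≫ πA k A i = sπ s i ≫ dSnd k A x i :=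
  (specIsLimit k A).fac (sndCone s) i

lemma lift_cond (s : Cone (bcD k A x)) :
    (sπ s (i₀ k A) ≫ dFst k A x (i₀ k A)) ≫ x = liftA s ≫ aA k A := by
  rw [← πA_toBase k A (i₀ k A), ← Category.assoc, liftA_πA, Category.assoc, Category.assoc,
    d_cond]

variable (k A x)

noncomputable def bcIsLimit : IsLimit (bcC k A x) where
  lift s := pLift k A x (sπ s (i₀ k A) ≫ dFst k A x (i₀ k A)) (liftA s) (lift_cond s)
  fac s j := by
    change pLift k A x _ _ _ ≫ bcπ k A x j = sπ s j
    apply d_hom_ext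
    · rw [Category.assoc, bcπ_fst, pLift_fst, cone_fst_eq s j]
    · rw [Category.assoc, bcπ_snd, ← Category.assoc, pLift_snd, liftA_πA]
  uniq s m hm := by
    have key : ∀ (m : s.pt ⟶ bcPt k A x), (∀ j, m ≫ bcπ k A x j = sπ s j) →
        m = pLift k A x (sπ s (i₀ k A) ≫ dFst k A x (i₀ k A)) (liftA s) (lift_cond s) := by
      intro m hm'
      apply p_hom_ext
      · rw [pLift_fst, ← hm' (i₀ k A), Category.assoc, bcπ_fst]
      · rw [pLift_snd]
        apply hom_extA
        intro j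
        rw [liftA_πA, ← hm' j, Category.assoc, Category.assoc, bcπ_snd]
    exact key m hm

lemma isAffineHom_map {i j : (FGSub k A)ᵒᵖ} (f : i ⟶ j) : IsAffineHom ((bcD k A x).map f) := by
  have hbig : IsPullback (dSnd k A x i) ((bcD k A x).map f ≫ dFst k A x j)
      ((specDiagram k A).map f ≫ toBase k A j) x := by
    rw [map_dFst, map_toBase]
    exact (IsPullback.of_hasPullback x (toBase k A i)).flip
  have hsq : IsPullback (dSnd k A x i) ((bcD k A x).map f)
      ((specDiagram k A).map f) (dSnd k A x j) :=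
    IsPullback.of_bot hbig (map_dSnd k A x f).symm
      (IsPullback.of_hasPullback x (toBase k A j)).flip
  exact MorphismProperty.of_isPullback (P := @IsAffineHom) hsq inferInstance

end

/-- Let X be a scheme over a field k, A a k-algebra and V ⊆ X_A = X ×_k Spec A a quasi-compact open
subset. Then there are a finitely generated k-subalgebra A' ⊆ A and a quasi-compact open subset V' ⊆
X_{A'} such that V is the inverse image of V' under the transition morphism X_A → X_{A'} (any
morphism compatible with the projections to X and with Spec A → Spec A'; it is unique). -/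
theorem result (k : Type u) [Field k] (X : Scheme.{u}) [X.Over (Spec (CommRingCat.of k))] (A : Type u) [CommRing A] [Algebra k A]
    (V : Set ↥(pullback (X ↘ (Spec (CommRingCat.of k))) (Spec.map (CommRingCat.ofHom (algebraMap k A))))) (hV : IsOpen V) (hVc : IsCompact V) :
    ∃ (A' : Subalgebra k A), A'.FG ∧
      ∃ (V' : Set ↥(pullback (X ↘ (Spec (CommRingCat.of k))) (Spec.map (CommRingCat.ofHom (algebraMap k ↥A'))))), IsOpen V' ∧ IsCompact V' ∧
        ∀ π : pullback (X ↘ (Spec (CommRingCat.of k))) (Spec.map (CommRingCat.ofHom (algebraMap k A))) ⟶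
            pullback (X ↘ (Spec (CommRingCat.of k))) (Spec.map (CommRingCat.ofHom (algebraMap k ↥A'))),
          π ≫ pullback.fst _ _ = pullback.fst _ _ →
          π ≫ pullback.snd _ _ = pullback.snd _ _ ≫ Spec.map (CommRingCat.ofHom A'.val.toRingHom) →
            π.base ⁻¹' V' = V := by
  haveI : ∀ {i j : (FGSub k A)ᵒᵖ} (f : i ⟶ j),
      IsAffineHom ((bcD k A (X ↘ (Spec (CommRingCat.of k)))).map f) :=
    fun f => isAffineHom_map k A _ f
  obtain ⟨i, V', hV'c, hV'⟩ := exists_preimage_eq (bcD k A (X ↘ (Spec (CommRingCat.of k))))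
    (bcC k A (X ↘ (Spec (CommRingCat.of k)))) (bcIsLimit k A (X ↘ (Spec (CommRingCat.of k))))
    (⟨V, hV⟩ : (bcC k A (X ↘ (Spec (CommRingCat.of k)))).pt.Opens) hVc
  refine ⟨i.unop.1, i.unop.2, V'.carrier, V'.is_open', hV'c, ?_⟩
  intro π h1 h2
  have hπ : π = bcπ k A (X ↘ (Spec (CommRingCat.of k))) i := by
    apply pullback.hom_ext
    · rw [h1]
      exact (bcπ_fst k A _ i).symm
    · rw [h2]
      have h : CommRingCat.ofHom i.unop.1.val.toRingHom =
          CommRingCat.ofHom (algebraMap i.unop.1 A) := by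
        ext a
        rfl
      rw [h]
      exact (bcπ_snd k A _ i).symm
  rw [hπ]
  exact congrArg TopologicalSpace.Opens.carrier hV'

end Groth.Agent.S7628
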