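import Groth.Statements.S7629
import Mathlib
import Groth.Agent.Lib.Helper4BirIso

set_option autoImplicit false
universe u
open CategoryTheory CategoryTheory.Limits AlgebraicGeometry
open Variety

namespace Groth.Agent.S7629


/-- (2) ⇒ (3): let X and Y be varieties over a field k (integral, separated, of finite type) and suppose
the function fields k(X) and k(Y) are isomorphic as k-algebras. Then there are nonempty open
subschemes U ⊆ X and V ⊆ Y which are isomorphic as schemes over k. -/
theorem result (k : Type u) [Field k] (X : Scheme.{u}) [X.Over (Spec (CommRingCat.of k))] [IsIntegral X] [IsSeparated (X ↘ (Spec (CommRingCat.of k)))] [LocallyOfFiniteType (X ↘ (Spec (CommRingCat.of k)))] [QuasiCompact (X ↘ (Spec (CommRingCat.of k)))]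
    (Y : Scheme.{u}) [Y.Over (Spec (CommRingCat.of k))] [IsIntegral Y] [IsSeparated (Y ↘ (Spec (CommRingCat.of k)))] [LocallyOfFiniteType (Y ↘ (Spec (CommRingCat.of k)))] [QuasiCompact (Y ↘ (Spec (CommRingCat.of k)))]
    (e : X.functionField ≅ Y.functionField)
    (he : e.hom.hom.comp (Curv2.stalkMap k X (genericPoint X)) = Curv2.stalkMap k Y (genericPoint Y)) :
    ∃ (U : X.Opens) (V : Y.Opens), (U : Set ↥X).Nonempty ∧
      ∃ φ : (U : Scheme.{u}) ≅ (V : Scheme.{u}), φ.hom ≫ V.ι ≫ (Y ↘ (Spec (CommRingCat.of k))) = U.ι ≫ (X ↘ (Spec (CommRingCat.of k))) := by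
  obtain ⟨sX, hsX⟩ : ∃ sX : X ⟶ Spec (CommRingCat.of k), sX = X ↘ Spec (CommRingCat.of k) := ⟨_, rfl⟩
  obtain ⟨sY, hsY⟩ : ∃ sY : Y ⟶ Spec (CommRingCat.of k), sY = Y ↘ Spec (CommRingCat.of k) := ⟨_, rfl⟩
  haveI : LocallyOfFiniteType sX := hsX ▸ inferInstance
  haveI : LocallyOfFiniteType sY := hsY ▸ inferInstance
  have hs : sX (genericPoint X) = sY (genericPoint Y) := Subsingleton.elim _ _
  have hθ : sY.stalkMap (genericPoint Y) ≫ e.inv =
      (Spec (CommRingCat.of k)).presheaf.stalkSpecializes (Inseparable.of_eq hs).specializes ≫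
        sX.stalkMap (genericPoint X) := by
    have key : sX.appTop ≫ X.presheaf.germ ⊤ (genericPoint X) trivial ≫ e.hom =
        sY.appTop ≫ Y.presheaf.germ ⊤ (genericPoint Y) trivial := by
      rw [← cancel_epi (Scheme.ΓSpecIso (CommRingCat.of k)).inv]
      ext c
      have h2 := congrArg (fun φ => φ c) he
      subst hsX hsY
      exact h2
    refine TopCat.Presheaf.stalk_hom_ext _ fun U hU => ?_
    obtain rfl : U = ⊤ := by
      ext z
      simp only [TopologicalSpace.Opens.coe_top, Set.mem_univ, iff_true]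
      rw [Subsingleton.elim z (sY (genericPoint Y))]
      exact hU
    rw [TopCat.Presheaf.germ_stalkSpecializes_assoc]
    erw [Scheme.Hom.germ_stalkMap_assoc, Scheme.Hom.germ_stalkMap]
    have key2 : sY.appTop ≫ Y.presheaf.germ ⊤ (genericPoint Y) trivial ≫ e.inv =
        sX.appTop ≫ X.presheaf.germ ⊤ (genericPoint X) trivial := by
      have key3 := congrArg (· ≫ e.inv) key
      simp only [Category.assoc, Iso.hom_inv_id, Category.comp_id] at key3
      exact key3.symm
    exact key2
  obtain ⟨P, hP⟩ := Groth.Agent.Lib.Helper4.BirIso.birationalOver_of_stalk_iso sX sY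
    (genericPoint X) (genericPoint Y) hs e.symm hθ
  subst hsX hsY
  exact ⟨P.source, P.target, P.dense_source.nonempty, P.iso, hP⟩

end Groth.Agent.S7629
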