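import Groth.Statements.S7646
import Mathlib
import Groth.Agent.S1627
import Groth.Agent.Lib.Helper11CurveAffA
import Groth.Agent.Lib.Helper7TopDim
import Groth.Agent.Lib.Helper10RedInd
import Groth.Agent.Lib.Helper4CurveDegT
import Groth.Agent.Lib.Helper27ProjSpaceFibres

set_option autoImplicit false
universe u
open CategoryTheory CategoryTheory.Limits AlgebraicGeometry
open Variety

namespace Groth.Agent.S7646


/-- Let X be separated and of finite type over a field k with dim X ≤ 1, and assume that no irreducible
component of X of dimension one, given its reduced induced structure, is proper over k. Then X is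
affine. -/
theorem result (k : Type u) [Field k] (X : Scheme.{u}) [X.Over (Spec (CommRingCat.of k))]
    [IsSeparated (X ↘ (Spec (CommRingCat.of k)))] [LocallyOfFiniteType (X ↘ (Spec (CommRingCat.of k)))]
    [IsNoetherian X] (hdim : topologicalKrullDim X ≤ 1)
    (h : ∀ (C : Set X) (hC : C ∈ irreducibleComponents (X : Type u)), topologicalKrullDim C = 1 →
      ¬ IsProper ((X.irreducibleComponentIdeal C hC).radical.subschemeι ≫ (X ↘ (Spec (CommRingCat.of k))))) :
    IsAffine X := by
  classical
  refine Groth.Agent.Lib.Helper11.CurveAff.isAffine_of_components (fun C hC => ?_)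
  set J := (X.irreducibleComponentIdeal C hC).radical with hJ
  haveI : IrreducibleSpace J.subscheme := Subtype.irreducibleSpace hC.1
  haveI : IsReduced J.subscheme := by
    rw [hJ, ← Scheme.IdealSheafData.vanishingIdeal_support]
    exact Groth.Agent.Lib.Helper10.RedInd.isReduced_subscheme_vanishingIdeal _
  haveI : IsIntegral J.subscheme := isIntegral_of_irreducibleSpace_of_isReduced _
  by_cases hd : topologicalKrullDim C = 1
  · letI : J.subscheme.Over (Spec (CommRingCat.of k)) :=
      ⟨J.subschemeι ≫ (X ↘ (Spec (CommRingCat.of k)))⟩
    haveI : IsSeparated (J.subscheme ↘ (Spec (CommRingCat.of k))) := by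
      change IsSeparated (J.subschemeι ≫ (X ↘ (Spec (CommRingCat.of k))))
      infer_instance
    haveI : LocallyOfFiniteType (J.subscheme ↘ (Spec (CommRingCat.of k))) := by
      change LocallyOfFiniteType (J.subschemeι ≫ (X ↘ (Spec (CommRingCat.of k))))
      infer_instance
    haveI : IsLocallyNoetherian J.subscheme := LocallyOfFiniteType.isLocallyNoetherian J.subschemeι
    haveI : CompactSpace J.subscheme := QuasiCompact.compactSpace_of_compactSpace J.subschemeι
    haveI : IsNoetherian J.subscheme := { }
    haveI : QuasiCompact (J.subscheme ↘ (Spec (CommRingCat.of k))) := inferInstance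
    rcases Groth.Agent.S1627.result k J.subscheme hd with h1 | ⟨d, c, hc, hcs⟩
    · exact h1
    · exfalso
      apply h C hC hd
      haveI := hc
      haveI : IsProper (CohB1.ProjSpace.toSpec d k) :=
        Groth.Agent.Lib.Helper27ProjSpaceFibres.isProper_projSpace_toSpec d k
      have e : J.subschemeι ≫ (X ↘ (Spec (CommRingCat.of k))) = c ≫ CohB1.ProjSpace.toSpec d k :=
        hcs.symm
      rw [e]
      infer_instance
  · have h1 : topologicalKrullDim C ≤ 1 := (topologicalKrullDim_subspace_le X _).trans hdim
    have h2 : topologicalKrullDim C < 1 := lt_of_le_of_ne h1 hd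
    have h3 : topologicalKrullDim J.subscheme ≤ 0 :=
      (Groth.Agent.Lib.Helper4.CurveDegT.lt_one_iff _).1 h2
    -- a single point
    set η := genericPoint J.subscheme with hη
    obtain ⟨U, hU, hηU, -⟩ := exists_isAffineOpen_mem_and_subset (x := η) (U := ⊤) trivial
    have hcl := Groth.Agent.Lib.Helper7.TopDim.isClosed_singleton_of_dim_le_zero h3 η
    have hUtop : U = ⊤ := by
      rw [eq_top_iff]
      intro z _
      have hz : z ∈ closure ({η} : Set J.subscheme) := by
        rw [(genericPoint_spec J.subscheme).def]
        trivial
      rw [hcl.closure_eq] at hz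
      rw [Set.mem_singleton_iff.1 hz]
      exact hηU
    rw [hUtop] at hU
    haveI : IsAffine (⊤ : J.subscheme.Opens).toScheme := hU
    exact .of_isIso J.subscheme.topIso.inv

end Groth.Agent.S7646
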