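import Groth.Statements.S7651
import Groth.Agent.Lib.Helper14DimOne

set_option autoImplicit false
universe u
open CategoryTheory CategoryTheory.Limits AlgebraicGeometry
open Variety

namespace Groth.Agent.S7651

/-- Let (A, m) be a Noetherian local ring of dimension one and f ∈ m. Then (1) m = √(f), (2) f lies in
no minimal prime of A, and (3) A_f ≅ ∏_{p minimal} A_p as A-algebras, are equivalent; such an f
exists; if A has depth one, for instance if A is reduced, they are also equivalent to (4) f is a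
nonzerodivisor and to (5) A → A_f is the localization of A at all its nonzerodivisors; and if A is
reduced they are also equivalent to (6) A_f ≅ ∏_{p minimal} κ(p) as A-algebras. -/
theorem result (A : Type u) [CommRing A] [IsLocalRing A]
    [IsNoetherianRing A] (hdim : ringKrullDim A = 1) :
    (∃ f ∈ IsLocalRing.maximalIdeal A, ∀ p ∈ minimalPrimes A, f ∉ p) ∧
    ∀ f ∈ IsLocalRing.maximalIdeal A,
      ((IsLocalRing.maximalIdeal A = (Ideal.span {f}).radical) ↔ (∀ p ∈ minimalPrimes A, f ∉ p)) ∧
      ((∀ p ∈ minimalPrimes A, f ∉ p) ↔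
        Nonempty (Localization.Away f ≃ₐ[A] (∀ p : {p : PrimeSpectrum A // p.asIdeal ∈ minimalPrimes A}, Localization.AtPrime p.1.asIdeal))) ∧
      ((LocCoh.depth A A = 1 ∨ IsReduced A) →
        ((∀ p ∈ minimalPrimes A, f ∉ p) ↔ f ∈ nonZeroDivisors A) ∧
        ((∀ p ∈ minimalPrimes A, f ∉ p) ↔ IsLocalization (nonZeroDivisors A) (Localization.Away f))) ∧
      (IsReduced A →
        ((∀ p ∈ minimalPrimes A, f ∉ p) ↔
          Nonempty (Localization.Away f ≃ₐ[A] (∀ p : {p : PrimeSpectrum A // p.asIdeal ∈ minimalPrimes A}, p.1.asIdeal.ResidueField)))) := by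
  refine ⟨Groth.Agent.Lib.Helper14.DimOne.exists_notMem_minimalPrimes hdim, fun f hf => ?_⟩
  refine ⟨Groth.Agent.Lib.Helper14.DimOne.radical_span_eq_iff hdim hf, ⟨?_, ?_⟩, ?_, ?_⟩
  · exact fun h => Groth.Agent.Lib.Helper14.DimOne.nonempty_algEquiv_pi_localization hdim hf h
  · rintro ⟨e⟩
    exact Groth.Agent.Lib.Helper14.DimOne.notMem_of_algEquiv_pi_localization e
  · intro hd
    refine ⟨⟨?_, ?_⟩, Groth.Agent.Lib.Helper14.DimOne.isLocalization_nonZeroDivisors_iff hdim hd hf⟩
    · exact Groth.Agent.Lib.Helper14.DimOne.mem_nonZeroDivisors_of_notMem_minimalPrimes hdim hd hf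
    · exact Groth.Agent.Lib.Helper14.DimOne.notMem_minimalPrimes_of_mem_nonZeroDivisors
  · intro hred
    constructor
    · intro h
      obtain ⟨e⟩ := Groth.Agent.Lib.Helper14.DimOne.nonempty_algEquiv_pi_localization hdim hf h
      exact Groth.Agent.Lib.Helper14.DimOne.nonempty_algEquiv_pi_residueField e
    · rintro ⟨e⟩
      exact Groth.Agent.Lib.Helper14.DimOne.notMem_of_algEquiv_pi_residueField e

end Groth.Agent.S7651
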