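import Groth.Statements.S7656
import Groth.Agent.Lib.Helper3FldBCf
import Groth.Agent.Lib.Helper3FibBrB
import Groth.Agent.Lib.Helper6BcBridge
import Mathlib

set_option autoImplicit false
universe u
open CategoryTheory CategoryTheory.Limits AlgebraicGeometry
open Variety

namespace Groth.Agent.S7656

/-- For X locally of finite type over a field k, a field extension K/k and a point y of X_K over x ∈ X,
the local rings of X at x and of X_K at y have the same number of geometric branches. -/
theorem result (k : Type u) [Field k] (X : Scheme.{u}) [X.Over (Spec (CommRingCat.of k))]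
    [LocallyOfFiniteType (X ↘ (Spec (CommRingCat.of k)))] (K : Type u) [Field K] [Algebra k K]
    (y : ↥(Curv2.bc k X K)) :
    Brnch.numGeomBranchesAt X ((Curv2.bcFst k X K).base y) =
      Brnch.numGeomBranchesAt (Curv2.bc k X K) y := by
  generalize hx : (Curv2.bcFst k X K).base y = x
  obtain ⟨R, _, _, ι, _, hι, z, hz⟩ := Groth.Agent.Lib.Helper6.BcBridge.exists_chart k X x
  subst hz
  obtain ⟨Q, hQz, ⟨eQ⟩⟩ :=
    Groth.Agent.Lib.Helper6.BcBridge.exists_prime_of_point_left k X K ι hι y z hx.symm
  haveI : Q.asIdeal.LiesOver z.asIdeal := ⟨by rw [← hQz]; rfl⟩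
  unfold Brnch.numGeomBranchesAt
  rw [Groth.Agent.Lib.Helper3.FibBr.numGeomBranches_congr eQ,
    Groth.Agent.Lib.Helper3.FibBr.numGeomBranches_congr
      (Groth.Agent.Lib.Helper6.BcBridge.stalkEquivSpec ι z)]
  exact Groth.Agent.Lib.Helper3.FldBC.numGeomBranches_fieldBC k R K Q.asIdeal z.asIdeal

end Groth.Agent.S7656
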