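import Groth.Statements.S7657
import Groth.Agent.Lib.Helper4NormBranchSch

set_option autoImplicit false
universe u
open CategoryTheory CategoryTheory.Limits AlgebraicGeometry
open Variety

namespace Groth.Agent.S7657

/-- For an integral scheme X with normalization ν : X^ν → X and a point x: (1) X has as many branches at
x as there are points of X^ν lying over x; (2) counted geometrically, the branches of X at x number
Σ_{ν(x') = x} [κ(x') : κ(x)]_s, the separable degree being counted as the number of κ(x)-embeddings
of κ(x') into an algebraic closure. (The published statement allows any scheme each of whose
quasi-compact opens meets only finitely many irreducible components; this row takes X integral.) -/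
theorem result (X : Scheme.{u}) [IsIntegral X]
    [QuasiCompact (X.fromSpecStalk (genericPoint X))] [QuasiSeparated (X.fromSpecStalk (genericPoint X))]
    (x : X) :
    Brnch.numBranchesAt X x =
        ENat.card {x' : ↥(Curv2.normalization X) // (Curv2.normalizationι X).base x' = x} ∧
      Brnch.numGeomBranchesAt X x =
        ∑' x' : {x' : ↥(Curv2.normalization X) // (Curv2.normalizationι X).base x' = x},
          (letI := ((Curv2.normalizationι X).residueFieldMap x'.1).hom.toAlgebra
           ENat.card (Field.Emb (X.residueField ((Curv2.normalizationι X).base x'.1))
             ((Curv2.normalization X).residueField x'.1))) := by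
  have key : ∀ (g : Spec (CommRingCat.of X.functionField) ⟶ X)
      (hg : g = Groth.Agent.Lib.Helper4.NormCurve.gen X X.functionField (RingHom.id _))
      [QuasiCompact g] [QuasiSeparated g],
      Brnch.numBranchesAt X x =
        ENat.card {x' : ↥g.normalization // g.fromNormalization.base x' = x} ∧
      Brnch.numGeomBranchesAt X x =
        ∑' x' : {x' : ↥g.normalization // g.fromNormalization.base x' = x},
          (letI := (g.fromNormalization.residueFieldMap x'.1).hom.toAlgebra
           ENat.card (Field.Emb (X.residueField (g.fromNormalization.base x'.1))
             (g.normalization.residueField x'.1))) := by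
    intro g hg _ _
    subst hg
    exact Groth.Agent.Lib.Helper4.NormBranch.numBranchesAt_eq x
  exact key _ Groth.Agent.Lib.Helper4.NormCurve.fromSpecStalk_eq_gen

end Groth.Agent.S7657
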