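import Groth.Statements.S7666
import Groth.Agent.Lib.Helper11Dim1

set_option autoImplicit false
universe u
open CategoryTheory CategoryTheory.Limits AlgebraicGeometry
open Variety

namespace Groth.Agent.S7666

open Groth.Agent.Lib.Helper11

/-- Let A be a one-dimensional Noetherian local ring and L = ∏ A_p, the product over the minimal primes
of A. If a_1, a_2 ∈ m_A have the same image in L, then a_1 and a_2 have equal n-th powers for some
positive integer n. -/
theorem result (A : Type u) [CommRing A]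
    [IsLocalRing A] [IsNoetherianRing A] (hdim : ringKrullDim A = 1)
    (a₁ a₂ : A) (h₁ : a₁ ∈ IsLocalRing.maximalIdeal A) (h₂ : a₂ ∈ IsLocalRing.maximalIdeal A)
    (heq : ∀ p : {p : PrimeSpectrum A // p.asIdeal ∈ minimalPrimes A},
      algebraMap A (Localization.AtPrime p.1.asIdeal) a₁ = algebraMap A (Localization.AtPrime p.1.asIdeal) a₂) :
    ∃ n : ℕ, 0 < n ∧ a₁ ^ n = a₂ ^ n := by
  obtain ⟨N, hN⟩ := exists_pow_maximalIdeal_mul_minLocKer hdim
  have hd : a₁ - a₂ ∈ minLocKer A := by
    apply mem_minLocKer_of_algebraMap_eq_zero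
    intro p
    rw [map_sub, heq p, sub_self]
  refine ⟨N + 1, Nat.succ_pos N, ?_⟩
  have hsum : (∑ i ∈ Finset.range (N + 1), a₁ ^ i * a₂ ^ (N + 1 - 1 - i)) ∈
      (IsLocalRing.maximalIdeal A) ^ N := by
    refine Ideal.sum_mem _ (fun i hi => ?_)
    have hiN : i ≤ N := Nat.lt_succ_iff.mp (Finset.mem_range.mp hi)
    have hpow : (IsLocalRing.maximalIdeal A) ^ N =
        (IsLocalRing.maximalIdeal A) ^ i * (IsLocalRing.maximalIdeal A) ^ (N + 1 - 1 - i) := by
      rw [← pow_add]; congr 1; omega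
    rw [hpow]
    exact Ideal.mul_mem_mul (Ideal.pow_mem_pow h₁ i) (Ideal.pow_mem_pow h₂ _)
  have h := geom_sum₂_mul a₁ a₂ (N + 1)
  have h0 := hN _ hsum _ hd
  rw [h0] at h
  exact (sub_eq_zero.mp h.symm)

end Groth.Agent.S7666
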