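import Groth.Statements.S7667
import Groth.Agent.Lib.Helper11Dim1
import Mathlib

set_option autoImplicit false
universe u
open CategoryTheory CategoryTheory.Limits AlgebraicGeometry
open Variety

namespace Groth.Agent.S7667
open Groth.Agent.Lib.Helper11

variable {A : Type u} [CommRing A]

abbrev MinP (A : Type u) [CommRing A] := {p : PrimeSpectrum A // p.asIdeal ∈ minimalPrimes A}
abbrev LL (A : Type u) [CommRing A] := ∀ p : MinP A, Localization.AtPrime p.1.asIdeal

theorem nilp_of_mem (q : MinP A) (x : A) (hx : x ∈ q.1.asIdeal) :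
    ∃ e : ℕ, (algebraMap A (Localization.AtPrime q.1.asIdeal) x) ^ e = 0 := by
  have h := IsLocalization.AtPrime.radical_map_of_mem_minimalPrimes
    (A := Localization.AtPrime q.1.asIdeal) q.1.asIdeal ⊥ q.2
  have h1 : algebraMap A (Localization.AtPrime q.1.asIdeal) x ∈
      q.1.asIdeal.map (algebraMap A (Localization.AtPrime q.1.asIdeal)) :=
    Ideal.mem_map_of_mem _ hx
  rw [← h, Ideal.map_bot] at h1
  obtain ⟨e, he⟩ := h1
  exact ⟨e, by simpa using he⟩

theorem finite_minP [IsNoetherianRing A] : Finite (MinP A) := by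
  have hfin : (minimalPrimes A).Finite := minimalPrimes.finite_of_isNoetherianRing A
  haveI : Finite (minimalPrimes A) := hfin.to_subtype
  refine Finite.of_injective (fun p : MinP A => (⟨p.1.asIdeal, p.2⟩ : minimalPrimes A)) ?_
  intro p q h
  apply Subtype.ext
  apply PrimeSpectrum.ext
  exact congrArg Subtype.val h

theorem clear_at [IsNoetherianRing A] (l : LL A) (p : MinP A) :
    ∃ y : A, y ∉ p.1.asIdeal ∧ algebraMap A (LL A) y * l ∈ (algebraMap A (LL A)).range := by
  classical
  haveI : Finite (MinP A) := finite_minP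
  haveI : Fintype (MinP A) := Fintype.ofFinite _
  have hex : ∀ q : MinP A, ∃ t : A, q ≠ p → (t ∈ q.1.asIdeal ∧ t ∉ p.1.asIdeal) := by
    intro q
    by_cases hqp : q = p
    · exact ⟨0, fun h => absurd hqp h⟩
    · have hnle : ¬ q.1.asIdeal ≤ p.1.asIdeal := by
        intro hle
        apply hqp
        apply Subtype.ext
        apply PrimeSpectrum.ext
        exact le_antisymm hle (p.2.2 ⟨q.1.isPrime, bot_le⟩ hle)
      obtain ⟨t, ht1, ht2⟩ := Set.not_subset.mp hnle
      exact ⟨t, fun _ => ⟨ht1, ht2⟩⟩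
  choose tq htq using hex
  set t : A := ∏ q ∈ Finset.univ.erase p, tq q with ht
  have htp : t ∉ p.1.asIdeal := by
    rw [ht, Ideal.IsPrime.prod_mem_iff]
    rintro ⟨q, hq, hmem⟩
    exact (htq q (Finset.ne_of_mem_erase hq)).2 hmem
  have htq' : ∀ q : MinP A, q ≠ p → t ∈ q.1.asIdeal := by
    intro q hq
    exact Ideal.prod_mem _ (Finset.mem_erase.mpr ⟨hq, Finset.mem_univ _⟩) (htq q hq).1
  have hnil : ∀ q : MinP A, ∃ e : ℕ, q ≠ p →
      (algebraMap A (Localization.AtPrime q.1.asIdeal) t) ^ e = 0 := by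
    intro q
    by_cases hqp : q = p
    · exact ⟨0, fun h => absurd hqp h⟩
    · obtain ⟨e, he⟩ := nilp_of_mem q t (htq' q hqp)
      exact ⟨e, fun _ => he⟩
  choose eq heq using hnil
  set e : ℕ := ∑ q, eq q with he
  have hnil' : ∀ q : MinP A, q ≠ p →
      (algebraMap A (Localization.AtPrime q.1.asIdeal) t) ^ e = 0 := by
    intro q hq
    exact pow_eq_zero_of_le (Finset.single_le_sum (fun _ _ => Nat.zero_le _) (Finset.mem_univ q))
      (heq q hq)
  obtain ⟨x, s, hxs⟩ := IsLocalization.exists_mk'_eq p.1.asIdeal.primeCompl (l p)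
  refine ⟨s.1 * t ^ e, ?_, ⟨t ^ e * x, ?_⟩⟩
  · intro hmem
    rcases p.1.isPrime.mem_or_mem hmem with h | h
    · exact s.2 h
    · exact htp (p.1.isPrime.mem_of_pow_mem _ h)
  · funext r
    rw [Pi.mul_apply, Pi.algebraMap_apply, Pi.algebraMap_apply]
    by_cases hrp : r = p
    · subst hrp
      rw [← hxs, map_mul, map_mul, mul_comm (algebraMap A _ s.1), mul_assoc,
        IsLocalization.mk'_spec']
    · rw [map_mul, map_mul, map_pow, hnil' r hrp]
      simp


theorem exists_pow_mul_mem [IsLocalRing A] [IsNoetherianRing A] (hdim : ringKrullDim A = 1)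
    (a : A) (ha : a ∈ IsLocalRing.maximalIdeal A) (l : LL A) :
    ∃ N : ℕ, algebraMap A (LL A) a ^ N * l ∈ (algebraMap A (LL A)).range := by
  let J : Ideal A :=
    { carrier := {y | algebraMap A (LL A) y * l ∈ (algebraMap A (LL A)).range}
      zero_mem' := by
        show algebraMap A (LL A) 0 * l ∈ (algebraMap A (LL A)).range
        rw [map_zero, zero_mul]; exact Subring.zero_mem _
      add_mem' := by
        intro y z hy hz
        show algebraMap A (LL A) (y + z) * l ∈ (algebraMap A (LL A)).range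
        rw [map_add, add_mul]; exact Subring.add_mem _ hy hz
      smul_mem' := by
        intro c y hy
        show algebraMap A (LL A) (c • y) * l ∈ (algebraMap A (LL A)).range
        rw [smul_eq_mul, map_mul, mul_assoc]
        exact Subring.mul_mem _ ⟨c, rfl⟩ hy }
  have hrad : IsLocalRing.maximalIdeal A ≤ J.radical := by
    rw [Ideal.radical_eq_sInf]
    refine le_sInf ?_
    rintro q ⟨hJq, hq⟩
    have hnot : q ∉ minimalPrimes A := by
      intro hmin
      obtain ⟨y, hy1, hy2⟩ := clear_at l (⟨⟨q, hq⟩, hmin⟩ : MinP A)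
      exact hy1 (hJq hy2)
    rw [eq_maximalIdeal_of_not_mem_minimalPrimes hdim q hnot]
  obtain ⟨N, hN⟩ := hrad ha
  refine ⟨N, ?_⟩
  have : algebraMap A (LL A) (a ^ N) * l ∈ (algebraMap A (LL A)).range := hN
  rwa [map_pow] at this

theorem main [IsLocalRing A] [IsNoetherianRing A] (hdim : ringKrullDim A = 1)
    (a : A) (ha : a ∈ IsLocalRing.maximalIdeal A) (i : LL A)
    (hi : i ∈ (nilradical A).map (algebraMap A (LL A))) :
    ∃ n : ℕ, 0 < n ∧ (i + algebraMap A (LL A) a) ^ n ∈ (algebraMap A (LL A)).range := by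
  classical
  -- i is nilpotent
  obtain ⟨e, he⟩ := IsNoetherianRing.isNilpotent_nilradical A
  have hie : i ^ e = 0 := by
    have h1 : i ^ e ∈ ((nilradical A).map (algebraMap A (LL A))) ^ e := Ideal.pow_mem_pow hi e
    rw [← Ideal.map_pow, he] at h1
    have h2 : Ideal.map (algebraMap A (LL A)) (0 : Ideal A) = ⊥ := Ideal.map_bot
    rw [h2] at h1
    exact h1
  -- exponents
  have hN : ∀ k : ℕ, ∃ N : ℕ, algebraMap A (LL A) a ^ N * i ^ k ∈ (algebraMap A (LL A)).range :=
    fun k => exists_pow_mul_mem hdim a ha (i ^ k)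
  choose Nk hNk using hN
  set N : ℕ := ∑ k ∈ Finset.range e, Nk k with hNdef
  refine ⟨N + e + 1, Nat.succ_pos _, ?_⟩
  rw [add_pow]
  refine Subring.sum_mem _ (fun k hk => ?_)
  by_cases hke : e ≤ k
  · rw [pow_eq_zero_of_le hke hie, zero_mul, zero_mul]
    exact Subring.zero_mem _
  · have hke' : k < e := not_le.mp hke
    have hNk_le : Nk k ≤ N :=
      Finset.single_le_sum (f := Nk) (fun _ _ => Nat.zero_le _) (Finset.mem_range.mpr hke')
    obtain ⟨M, hM⟩ : ∃ M : ℕ, N + e + 1 - k = M + Nk k := ⟨N + e + 1 - k - Nk k, by omega⟩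
    have h1 : i ^ k * algebraMap A (LL A) a ^ (N + e + 1 - k) =
        algebraMap A (LL A) a ^ M * (algebraMap A (LL A) a ^ Nk k * i ^ k) := by
      rw [hM, pow_add]
      ring
    rw [h1]
    refine Subring.mul_mem _ (Subring.mul_mem _ ?_ (hNk k)) ?_
    · rw [← map_pow]; exact ⟨_, rfl⟩
    · exact ⟨(Nat.choose (N + e + 1) k : A), by simp⟩



/-- Let A be a one-dimensional Noetherian local ring, L the product of the localizations A_p over its
minimal primes p, and I the intersection of those primes (the nilradical of A). If f ∈ L equals i +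
a with a in the maximal ideal of A and i ∈ I·L, then for some positive integer n, f^n belongs to the
subring of L obtained as the image of the structure map from A. -/
theorem result (A : Type u) [CommRing A]
    [IsLocalRing A] [IsNoetherianRing A] (hdim : ringKrullDim A = 1)
    (a : A) (ha : a ∈ IsLocalRing.maximalIdeal A)
    (i : ∀ p : {p : PrimeSpectrum A // p.asIdeal ∈ minimalPrimes A}, Localization.AtPrime p.1.asIdeal)
    (hi : i ∈ (nilradical A).map (algebraMap A (∀ p : {p : PrimeSpectrum A // p.asIdeal ∈ minimalPrimes A}, Localization.AtPrime p.1.asIdeal))) :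
    ∃ n : ℕ, 0 < n ∧ (i + algebraMap A (∀ p : {p : PrimeSpectrum A // p.asIdeal ∈ minimalPrimes A}, Localization.AtPrime p.1.asIdeal) a) ^ n ∈
      (algebraMap A (∀ p : {p : PrimeSpectrum A // p.asIdeal ∈ minimalPrimes A}, Localization.AtPrime p.1.asIdeal)).range := by
  exact main hdim a ha i hi

end Groth.Agent.S7667
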