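import Groth.Statements.S7668
import Mathlib

set_option autoImplicit false
universe u
open CategoryTheory CategoryTheory.Limits AlgebraicGeometry
open Variety

namespace Groth.Agent.S7668

/-- Let A be a ring, p_1, …, p_r primes of A and S = A ∖ ⋃ p_i. Then S is a multiplicative subset, S⁻¹A
is semi-local, and contraction to A is a bijection from the maximal ideals of S⁻¹A onto the maximal
elements of {p_1, …, p_r}. -/
theorem result (A : Type u) [CommRing A]
    (r : ℕ) (p : Fin r → PrimeSpectrum A) :
    Finite (MaximalSpectrum (Localization (⨅ i, (p i).asIdeal.primeCompl))) ∧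
      Set.BijOn (fun m : Ideal (Localization (⨅ i, (p i).asIdeal.primeCompl)) =>
          m.comap (algebraMap A (Localization (⨅ i, (p i).asIdeal.primeCompl))))
        {m | m.IsMaximal}
        {q | q ∈ Set.range (fun i => (p i).asIdeal) ∧
          ∀ j, q ≤ (p j).asIdeal → q = (p j).asIdeal} := by
  classical
  set S : Submonoid A := ⨅ i, (p i).asIdeal.primeCompl with hS
  set L := Localization S with hL
  have memS : ∀ x : A, x ∈ S ↔ ∀ i, x ∉ (p i).asIdeal := by
    intro x
    rw [hS, Submonoid.mem_iInf]
    rfl
  -- each p i is disjoint from S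
  have hdisj : ∀ i, Disjoint (S : Set A) ((p i).asIdeal : Set A) := by
    intro i
    rw [Set.disjoint_left]
    intro x hx hxp
    exact (memS x).mp hx i hxp
  -- primes disjoint from S lie in some p i
  have hF2 : ∀ q : Ideal A, q.IsPrime → Disjoint (S : Set A) (q : Set A) →
      ∃ i, q ≤ (p i).asIdeal := by
    intro q hq hd
    rcases Nat.eq_zero_or_pos r with hr | hr
    · exfalso
      subst hr
      have h0 : (0 : A) ∈ S := (memS 0).mpr (fun i => i.elim0)
      exact Set.disjoint_left.mp hd h0 q.zero_mem
    · have hsub : (q : Set A) ⊆ ⋃ i ∈ ((Finset.univ : Finset (Fin r)) : Set (Fin r)),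
          ((p i).asIdeal : Set A) := by
        intro x hx
        by_contra hcon
        simp only [Finset.coe_univ, Set.mem_univ, Set.iUnion_true, Set.mem_iUnion,
          SetLike.mem_coe, not_exists] at hcon
        exact Set.disjoint_left.mp hd ((memS x).mpr hcon) hx
      obtain ⟨i, -, hi⟩ := (Ideal.subset_union_prime (f := fun i => (p i).asIdeal)
        (⟨0, hr⟩ : Fin r) ⟨0, hr⟩ (fun i _ _ _ => (p i).2)).mp hsub
      exact ⟨i, hi⟩
  -- comap of a maximal ideal
  have hmaps : ∀ m : Ideal L, m.IsMaximal → ∃ i, m.comap (algebraMap A L) = (p i).asIdeal ∧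
      ∀ j, m.comap (algebraMap A L) ≤ (p j).asIdeal → m.comap (algebraMap A L) = (p j).asIdeal := by
    intro m hm
    have hmp : m.IsPrime := hm.isPrime
    obtain ⟨hqp, hqd⟩ := (IsLocalization.isPrime_iff_isPrime_disjoint S L m).mp hmp
    have key : ∀ j, m.comap (algebraMap A L) ≤ (p j).asIdeal →
        m.comap (algebraMap A L) = (p j).asIdeal := by
      intro j hj
      have hm'prime := IsLocalization.isPrime_of_isPrime_disjoint S L (p j).asIdeal (p j).2 (hdisj j)
      have hm'comap := IsLocalization.under_map_of_isPrime_disjoint S L (p j).2 (hdisj j)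
      have hle : m ≤ (p j).asIdeal.map (algebraMap A L) := by
        rw [← IsLocalization.under_le_under_iff S L, hm'comap]
        exact hj
      have heq : m = (p j).asIdeal.map (algebraMap A L) := hm.eq_of_le hm'prime.ne_top hle
      rw [heq]
      exact hm'comap
    obtain ⟨i, hi⟩ := hF2 _ hqp hqd
    exact ⟨i, key i hi, key⟩
  refine ⟨?_, ?_, ?_, ?_⟩
  · -- finiteness
    choose f hf using fun m : MaximalSpectrum L => hmaps m.asIdeal m.isMaximal
    refine Finite.of_injective f ?_
    intro m m' hmm'
    have h1 := (hf m).1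
    have h2 := (hf m').1
    rw [hmm'] at h1
    have h3 : m.asIdeal.comap (algebraMap A L) = m'.asIdeal.comap (algebraMap A L) := h1.trans h2.symm
    have h4 : m.asIdeal = m'.asIdeal := by
      rw [← IsLocalization.map_under S L m.asIdeal, ← IsLocalization.map_under S L m'.asIdeal]
      exact congrArg _ h3
    exact MaximalSpectrum.ext h4
  · -- maps to
    intro m hm
    obtain ⟨i, hi, hkey⟩ := hmaps m hm
    exact ⟨⟨i, hi.symm⟩, hkey⟩
  · -- injective
    intro m _ m' _ hmm'
    have h3 : m.comap (algebraMap A L) = m'.comap (algebraMap A L) := hmm'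
    rw [← IsLocalization.map_under S L m, ← IsLocalization.map_under S L m']
    exact congrArg _ h3
  · -- surjective
    rintro q ⟨⟨i, rfl⟩, hmax⟩
    have hmprime := IsLocalization.isPrime_of_isPrime_disjoint S L (p i).asIdeal (p i).2 (hdisj i)
    have hmcomap := IsLocalization.under_map_of_isPrime_disjoint S L (p i).2 (hdisj i)
    refine ⟨(p i).asIdeal.map (algebraMap A L), ?_, hmcomap⟩
    obtain ⟨m', hm', hle⟩ := Ideal.exists_le_maximal _ hmprime.ne_top
    obtain ⟨j, hj, _⟩ := hmaps m' hm'
    have h1 : (p i).asIdeal ≤ (p j).asIdeal := by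
      rw [← hj, ← hmcomap]
      exact Ideal.comap_mono hle
    have h2 : (p i).asIdeal = (p j).asIdeal := hmax j h1
    have h3 : m' ≤ (p i).asIdeal.map (algebraMap A L) := by
      rw [← IsLocalization.under_le_under_iff S L, hmcomap]
      show m'.comap (algebraMap A L) ≤ _
      rw [hj, h2]
    have h4 : (p i).asIdeal.map (algebraMap A L) = m' := le_antisymm hle h3
    show ((p i).asIdeal.map (algebraMap A L)).IsMaximal
    rw [h4]; exact hm'

end Groth.Agent.S7668
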