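import Groth.Statements.S7674
import Groth.Agent.Lib.Helper4SoberDim
import Groth.Agent.Lib.Helper4DiagDim
import Groth.Agent.Lib.Helper28Hartshorne

set_option autoImplicit false
set_option linter.style.haveILetI false
universe u
open CategoryTheory CategoryTheory.Limits AlgebraicGeometry
open Variety

namespace Groth.Agent.S7674

/-- Let k be a field, n ≥ 0, and X, Y ⊆ A^n_k closed subsets which are equidimensional of dimensions r
and s. Then each irreducible component Z of the intersection X ∩ Y satisfies dim Z ≥ r + s − n. -/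
theorem result (k : Type u) [Field k] (n r s : ℕ)
    (X Y : Set ↥(𝔸(ULift.{u} (Fin n); Spec (CommRingCat.of k)))) (hX : IsClosed X) (hY : IsClosed Y)
    (hXr : ∀ Z ∈ irreducibleComponents X, topologicalKrullDim Z = r)
    (hYs : ∀ Z ∈ irreducibleComponents Y, topologicalKrullDim Z = s)
    (Z : Set ↥(X ∩ Y)) (hZ : Z ∈ irreducibleComponents ↥(X ∩ Y)) :
    ((r + s : ℕ) : WithBot ℕ∞) ≤ topologicalKrullDim Z + (n : WithBot ℕ∞) := by
  classical
  let θ : ↥(𝔸(ULift.{u} (Fin n); Spec (CommRingCat.of k))) ≃ₜ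
      PrimeSpectrum (MvPolynomial (ULift.{u} (Fin n)) k) :=
    Scheme.homeoOfIso (AffineSpace.SpecIso (ULift.{u} (Fin n)) (CommRingCat.of k))
  letI instW : PartialOrder ↥(𝔸(ULift.{u} (Fin n); Spec (CommRingCat.of k))) :=
    PartialOrder.lift θ θ.injective
  have hle : ∀ a b : ↥(𝔸(ULift.{u} (Fin n); Spec (CommRingCat.of k))),
      a ⤳ b ↔ @LE.le _ instW.toLE a b := by
    intro a b
    change a ⤳ b ↔ θ a ≤ θ b
    rw [PrimeSpectrum.le_iff_specializes, θ.isInducing.specializes_iff]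
  let e : @OrderIso ↥(𝔸(ULift.{u} (Fin n); Spec (CommRingCat.of k)))
      (PrimeSpectrum (MvPolynomial (ULift.{u} (Fin n)) k)) instW.toLE _ :=
    { toEquiv := θ.toEquiv, map_rel_iff' := Iff.rfl }
  have hdim : ∀ w : ↥(𝔸(ULift.{u} (Fin n); Spec (CommRingCat.of k))),
      ringKrullDim (MvPolynomial (ULift.{u} (Fin n)) k ⧸ (θ w).asIdeal) =
        ((@Order.coheight _ instW.toPreorder w : ℕ∞) : WithBot ℕ∞) := by
    intro w
    rw [Groth.Agent.Lib.Helper28.ringKrullDim_quotient_asIdeal_eq_coheight]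
    congr 1
    exact @Order.coheight_orderIso _ _ instW.toPreorder _ e w
  obtain ⟨z, hzXY, hzmin, _, hzdim⟩ :=
    Groth.Agent.Lib.Helper4.SoberDim.exists_minimal_of_mem_irreducibleComponents hle (X ∩ Y)
      (hX.inter hY) Z hZ
  obtain ⟨C1, x, hC1, hxX, hxz, hxdim⟩ :=
    Groth.Agent.Lib.Helper4.SoberDim.exists_component_le hle X hX z hzXY.1
  obtain ⟨C2, y, hC2, hyY, hyz, hydim⟩ :=
    Groth.Agent.Lib.Helper4.SoberDim.exists_component_le hle Y hY z hzXY.2
  have hxr := hXr C1 hC1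
  have hys := hYs C2 hC2
  rw [hxdim] at hxr
  rw [hydim] at hys
  have hP : (θ z).asIdeal ∈ ((θ x).asIdeal ⊔ (θ y).asIdeal).minimalPrimes := by
    refine ⟨⟨(θ z).isPrime, sup_le hxz hyz⟩, ?_⟩
    intro P' hP' hle'
    have hz' : θ (θ.symm ⟨P', hP'.1⟩) = ⟨P', hP'.1⟩ := θ.apply_symm_apply _
    have hxz' : @LE.le _ instW.toLE x (θ.symm ⟨P', hP'.1⟩) := by
      change θ x ≤ θ (θ.symm ⟨P', hP'.1⟩)
      rw [hz']
      exact le_sup_left.trans hP'.2
    have hyz' : @LE.le _ instW.toLE y (θ.symm ⟨P', hP'.1⟩) := by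
      change θ y ≤ θ (θ.symm ⟨P', hP'.1⟩)
      rw [hz']
      exact le_sup_right.trans hP'.2
    have hz'z : @LE.le _ instW.toLE (θ.symm ⟨P', hP'.1⟩) z := by
      change θ (θ.symm ⟨P', hP'.1⟩) ≤ θ z
      rw [hz']
      exact hle'
    have h1 := hzmin _ ⟨Groth.Agent.Lib.Helper4.SoberDim.mem_of_le_of_isClosed hle X hX hxX hxz',
      Groth.Agent.Lib.Helper4.SoberDim.mem_of_le_of_isClosed hle Y hY hyY hyz'⟩ hz'z
    rw [← h1, hz']
  have hgen : Algebra.adjoin k (Set.range (fun i : Fin n =>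
      (MvPolynomial.X (ULift.up i) : MvPolynomial (ULift.{u} (Fin n)) k))) = ⊤ := by
    have h2 : Set.range (fun i : Fin n =>
        (MvPolynomial.X (ULift.up i) : MvPolynomial (ULift.{u} (Fin n)) k)) =
        Set.range (MvPolynomial.X : ULift.{u} (Fin n) → MvPolynomial (ULift.{u} (Fin n)) k) := by
      ext f
      constructor
      · rintro ⟨i, rfl⟩
        exact ⟨⟨i⟩, rfl⟩
      · rintro ⟨⟨i⟩, rfl⟩
        exact ⟨i, rfl⟩
    rw [h2]
    exact MvPolynomial.adjoin_range_X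
  haveI : (θ x).asIdeal.IsPrime := (θ x).isPrime
  haveI : (θ y).asIdeal.IsPrime := (θ y).isPrime
  have hadt := Groth.Agent.Lib.Helper4.DiagDim.ringKrullDim_add_le (k := k) n
    (fun i : Fin n => (MvPolynomial.X (ULift.up i) : MvPolynomial (ULift.{u} (Fin n)) k)) hgen
    (θ x).asIdeal (θ y).asIdeal (θ z).asIdeal hP
  rw [hdim, hdim, hdim, hxr, hys] at hadt
  rw [hzdim]
  exact_mod_cast hadt

end Groth.Agent.S7674
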