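import Groth.Statements.S7678
import Mathlib
import Groth.Agent.Lib.Helper11FrobRed
import Groth.Agent.Lib.Helper6BcRed

set_option autoImplicit false
universe u
open CategoryTheory CategoryTheory.Limits AlgebraicGeometry
open Variety

namespace Groth.Agent.S7678

open Groth.Agent.Lib.Helper11FrobRed Groth.Agent.Lib.Helper6.BcRed TensorProduct

attribute [local instance] Curv2.stalkAlgebra


/-- For a field k of positive characteristic p and a k-scheme X, the base change of X along the p-th
power map of k is a reduced scheme exactly when X is geometrically reduced over k. -/
theorem result (k : Type u) [Field k] (X : Scheme.{u}) [X.Over (Spec (CommRingCat.of k))]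
    (p : ℕ) [Fact p.Prime] [CharP k p] :
    GeometricallyReduced (X ↘ (Spec (CommRingCat.of k))) ↔
      IsReduced ↑(pullback (X ↘ (Spec (CommRingCat.of k))) (Spec.map (CommRingCat.ofHom (frobenius k p)))) := by
  constructor
  · intro h
    exact pullback_of_geometrically h.1 k _
  · intro h
    have hF : AlgebraicGeometry.IsReduced (Curv2.bc k X (FrobAlg k p)) := h
    have hst : ∀ x : X, Algebra.IsGeometricallyReduced k (X.presheaf.stalk x) := by
      intro x
      apply isGeometricallyReduced_of_isReduced_frobAlg p
      exact isReduced_tensor_stalk_of_forall k X (FrobAlg k p) x (fun x' => inferInstance)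
    rw [geometricallyReduced_iff, geometrically_iff_of_commRing_of_isClosedUnderIsomorphisms]
    intro K _ _
    have : ∀ y : Curv2.bc k X K, _root_.IsReduced ((Curv2.bc k X K).presheaf.stalk y) := fun y => by
      have := hst (Curv2.bcFst k X K y)
      exact reduced_stalk_of_isReduced_tensor k X K y _ rfl
        (Groth.Agent.Lib.Helper14.GeomRed.isReduced_tensor_of_isGeometricallyReduced K)
    exact isReduced_of_isReduced_stalk _

end Groth.Agent.S7678
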