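import Groth.Statements.S7689
import Groth.Agent.Lib.Helper4NormDelta
import Groth.Agent.Lib.Helper14Japanese

set_option autoImplicit false
set_option linter.style.haveILetI false
universe u
open CategoryTheory CategoryTheory.Limits AlgebraicGeometry
open Variety

namespace Groth.Agent.S7689

/-- For an integral X: let X be an integral Nagata scheme of dimension one (every affine open has a
Nagata coordinate ring) with normalization ν : X^ν → X. Then ν is finite and birational (an
isomorphism over a dense open), O_X ⊆ ν_*O_{X^ν}, and the quotient ν_*O_{X^ν}/O_X is supported at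
closed points, its stalk at a closed point x having length equal to the δ-invariant of O_{X,x}. (The
published statement is for reduced Nagata schemes of dimension one; it also says that ν is
surjective and that the quotient is nonzero exactly at the singular points, and it describes the
stalk A' of ν_*O_{X^ν} at x, namely the integral closure of O_{X,x} in its total fraction ring, a
semi-local ring that is a finite product of Dedekind domains, together with the completions of
O_{X,x} and A'. This row takes X integral, does not restate surjectivity, which holds for the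
normalization of every integral scheme, and keeps the finiteness, birationality, injectivity and
length clauses.) -/
theorem result (X : Scheme.{u}) [IsIntegral X]
    [QuasiCompact (X.fromSpecStalk (genericPoint X))] [QuasiSeparated (X.fromSpecStalk (genericPoint X))]
    (hN : ∀ U : X.affineOpens, CAlg.IsNagata Γ(X, (U : X.Opens))) (hdim : topologicalKrullDim X = 1) :
    IsFinite (Curv2.normalizationι X) ∧
      (∃ U : X.Opens, Dense ((U : Set X)) ∧ IsIso (Curv2.normalizationι X ∣_ U)) ∧
      Mono (ClSub.unitToPush (Curv2.normalizationι X)) ∧
      (∀ x : X, IsClosed ({x} : Set X) →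
        Module.length (X.presheaf.stalk x) ((cokernel (ClSub.unitToPush (Curv2.normalizationι X))).presheaf.stalk x) =
          Curv2.deltaInv (X.presheaf.stalk x)) ∧
      (∀ x : X, ¬ IsClosed ({x} : Set X) →
        Subsingleton ((cokernel (ClSub.unitToPush (Curv2.normalizationι X))).presheaf.stalk x)) := by
  have key : ∀ (g : Spec (CommRingCat.of X.functionField) ⟶ X)
      (hg : g = Groth.Agent.Lib.Helper4.NormCurve.gen X X.functionField (RingHom.id _))
      [QuasiCompact g] [QuasiSeparated g],
      IsFinite g.fromNormalization ∧
      (∃ U : X.Opens, Dense ((U : Set X)) ∧ IsIso (g.fromNormalization ∣_ U)) ∧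
      Mono (ClSub.unitToPush g.fromNormalization) ∧
      (∀ x : X, IsClosed ({x} : Set X) →
        Module.length (X.presheaf.stalk x)
          ((cokernel (ClSub.unitToPush g.fromNormalization)).presheaf.stalk x) =
          Curv2.deltaInv (X.presheaf.stalk x)) ∧
      (∀ x : X, ¬ IsClosed ({x} : Set X) →
        Subsingleton ((cokernel (ClSub.unitToPush g.fromNormalization)).presheaf.stalk x)) := by
    intro g hg _ _
    have hN2 : ∀ (U : X.Opens), IsAffineOpen U → ∀ (hne : Nonempty ↥U),
        @CAlg.IsN2 Γ(X, U) _ (@IsIntegral.component_integral X _ U hne) := by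
      intro U hU hne
      letI : IsDomain Γ(X, U) := @IsIntegral.component_integral X _ U hne
      have h1 := (hN ⟨U, hU⟩).2 (⊥ : Ideal Γ(X, U))
      exact Groth.Agent.Lib.Helper14.isN2_of_ringEquiv (RingEquiv.quotientBot Γ(X, U)) h1
    have hN1 : ∀ (U : X.Opens), IsAffineOpen U → ∀ (hne : Nonempty ↥U),
        @CAlg.IsN1 Γ(X, U) _ (@IsIntegral.component_integral X _ U hne) := by
      intro U hU hne
      exact @Groth.Agent.Lib.Helper14.IsN2.isN1 Γ(X, U) _
        (@IsIntegral.component_integral X _ U hne) (hN2 U hU hne)
    refine ⟨?_, ?_, ?_, ?_, ?_⟩
    · exact Groth.Agent.Lib.Helper4.NormCurve.isFinite_fromNormalization_of_eq X.functionField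
        (RingHom.id _) g hg (RingHom.Finite.id _) hN2
    · obtain ⟨V, hVne, hV⟩ :=
        Groth.Agent.Lib.Helper4.NormCurve.exists_isIso_morphismRestrict_of_eq g hg hN1
      exact ⟨V, V.isOpen.dense hVne, hV⟩
    · subst hg
      exact Groth.Agent.Lib.Helper4.NormDelta.mono_unitToPush X.functionField (RingHom.id _)
    · subst hg
      intro x _
      exact Groth.Agent.Lib.Helper4.NormDelta.length_stalk_cokernel x
    · subst hg
      intro x hx
      exact Groth.Agent.Lib.Helper4.NormDelta.subsingleton_stalk_cokernel_of_isField x
        (Groth.Agent.Lib.Helper4.NormDelta.isField_stalk_of_not_isClosed hdim.le x hx)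
  exact key _ Groth.Agent.Lib.Helper4.NormCurve.fromSpecStalk_eq_gen

end Groth.Agent.S7689
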