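import Groth.Statements.S7690
import Mathlib
import Groth.Agent.S0034
import Groth.Agent.Lib.Helper27QProjCover2
import Groth.Agent.Lib.Helper27TwistCoh
import Groth.Agent.Lib.Helper23TensorQCoh
set_option maxHeartbeats 400000
-- import your own Groth.Agent.* helpers here

set_option autoImplicit false
universe u
open CategoryTheory CategoryTheory.Limits AlgebraicGeometry
open Variety

namespace Groth.Agent.S7690

/-- Let k'/k be a field extension (k' in the universe of k), n ≥ 0, F a coherent module on P^n_k with
pullback F' to P^n_{k'}. For every integer m, F is m-regular exactly when F' is. Here P^n_{k'} is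
taken as the base change P^n_k ×_k Spec k' and the m-regularity of F' is spelled out as the
vanishing of H^i(P^n_{k'}, (F(m − i))') for 1 ≤ i ≤ n, (F(m − i))' being the pullback of F ⊗ O(m −
i). -/
theorem result (k : Type u) [Field k] (n : ℕ)
    (k' : Type u) [Field k'] [Algebra k k'] (F : (CohB1.ProjSpace n k).Modules) (hF : Coh.IsCoh F) (m : ℤ) :
    Curv2.IsMRegular k n F m ↔
      ∀ i : ℕ, 1 ≤ i → i ≤ n →
        Subsingleton (Coh.HH (Curv2.bc k (CohB1.ProjSpace n k) k')
          ((Scheme.Modules.pullback (Curv2.bcFst k (CohB1.ProjSpace n k) k')).obj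
            (CohB1.tensorMod F (Twist.twistProjSpace n k (m - i)))) i) := by
  let _ : (Curv2.bc k (CohB1.ProjSpace n k) k').Over (Spec (CommRingCat.of k')) :=
    ⟨Curv2.bcSnd k (CohB1.ProjSpace n k) k'⟩
  have hp := Groth.Agent.Lib.Helper27ProjSpaceFibres.isProper_projSpace_toSpec n k
  have : CompactSpace (CohB1.ProjSpace n k) :=
    QuasiCompact.compactSpace_of_compactSpace (CohB1.ProjSpace.toSpec n k)
  have : QuasiSeparatedSpace (CohB1.ProjSpace n k) :=
    quasiSeparatedSpace_of_quasiSeparated (CohB1.ProjSpace.toSpec n k)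
  have hpb : IsPullback (Curv2.bcFst k (CohB1.ProjSpace n k) k')
      ((Curv2.bc k (CohB1.ProjSpace n k) k') ↘ Spec (CommRingCat.of k'))
      ((CohB1.ProjSpace n k) ↘ Spec (CommRingCat.of k))
      (Spec.map (CommRingCat.ofHom (algebraMap k k'))) :=
    IsPullback.of_hasPullback _ _
  have key : ∀ (G : (CohB1.ProjSpace n k).Modules) [Coh.IsQCoh G] (i : ℕ),
      Subsingleton (Coh.HH (CohB1.ProjSpace n k) G i) ↔
      Subsingleton (Coh.HH (Curv2.bc k (CohB1.ProjSpace n k) k')
        ((Scheme.Modules.pullback (Curv2.bcFst k (CohB1.ProjSpace n k) k')).obj G) i) := by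
    intro G _ i
    obtain ⟨e⟩ := Groth.Agent.S0034.result k k' (CohB1.ProjSpace n k)
      (Curv2.bc k (CohB1.ProjSpace n k) k') (Curv2.bcFst k (CohB1.ProjSpace n k) k') hpb G i
    rw [← e.toEquiv.subsingleton_congr]
    exact (Module.FaithfullyFlat.subsingleton_tensorProduct_iff_right k k').symm
  unfold Curv2.IsMRegular
  refine forall_congr' fun i => forall_congr' fun _ => forall_congr' fun _ => ?_
  have hq : Coh.IsQCoh (CohB1.tensorMod F (Twist.twistProjSpace n k (m - i))) := by
    have h1 : F.IsQuasicoherent := hF.1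
    have h2 : (Twist.twistProjSpace n k (m - i)).IsQuasicoherent :=
      (Groth.Agent.Lib.Helper27TwistCoh.isCoh_twist n k (m - i)).1
    exact Groth.Agent.Lib.Helper23.TensorQCoh.isQuasicoherent_tensorMod F _
  exact key _ i

end Groth.Agent.S7690
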