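import Groth.Statements.S9841
import Mathlib
import Groth.Agent.Lib.Helper6ReducedSmooth
import Groth.Agent.S9840

set_option autoImplicit false
open CategoryTheory CategoryTheory.Limits AlgebraicGeometry Opposite
universe u
open Desc

namespace Groth.Agent.S9841


/-- Smooth over reduced is reduced. -/
lemma isReduced_of_smooth {X Y : Scheme.{u}} (f : X ⟶ Y) (hsm : Smooth f)
    (hYr : AlgebraicGeometry.IsReduced Y) : AlgebraicGeometry.IsReduced X := by
  wlog hY : ∃ R, Y = Spec R generalizing X Y
  · apply +allowSynthFailures @IsReduced.of_openCover (𝒰 := Y.affineCover.pullback₁ f)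
    intro i
    have hred : AlgebraicGeometry.IsReduced (Y.affineCover.X i) :=
      isReduced_of_isOpenImmersion (Y.affineCover.f i)
    have hsm' : Smooth (pullback.snd f (Y.affineCover.f i)) :=
      MorphismProperty.pullback_snd (P := @Smooth) f (Y.affineCover.f i) hsm
    exact this (pullback.snd f (Y.affineCover.f i)) hsm' hred ⟨_, rfl⟩
  obtain ⟨R, rfl⟩ := hY
  wlog hX : ∃ S, X = Spec S generalizing X
  · apply +allowSynthFailures @IsReduced.of_openCover (𝒰 := X.affineCover)
    intro i
    have hsm' : Smooth (X.affineCover.f i ≫ f) := by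
      haveI := hsm
      infer_instance
    exact this (X.affineCover.f i ≫ f) hsm' ⟨_, rfl⟩
  obtain ⟨S, rfl⟩ := hX
  obtain ⟨φ, rfl⟩ := Spec.map_surjective f
  have hφ : φ.hom.Smooth := (HasRingHomProperty.Spec_iff (P := @Smooth)).mp hsm
  algebraize [φ.hom]
  have h1 : _root_.IsReduced R := (affine_isReduced_iff R).mp hYr
  have h2 := Groth.Agent.Lib.Helper6.isReduced_of_smooth R S
  exact (affine_isReduced_iff S).mpr h2



/-- Being reduced is local in the smooth topology: for a jointly surjective family of smooth morphisms f
i : X i ⟶ S, the scheme S is reduced if and only if every X i is reduced. -/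
theorem result {ι : Type u} {S : Scheme.{u}} {X : ι → Scheme.{u}} (f : ∀ i, X i ⟶ S)
    (hf : Presieve.ofArrows X f ∈ Scheme.precoverage @Smooth S) :
    IsReduced S ↔ ∀ i, IsReduced (X i) := by
  obtain ⟨hs, hsm⟩ := (Scheme.ofArrows_mem_precoverage_iff (P := @Smooth)).mp hf
  constructor
  · intro h i
    have := hsm i
    exact isReduced_of_smooth (f i) (hsm i) h
  · intro h
    haveI : ∀ y : S, _root_.IsReduced (S.presheaf.stalk y) := by
      intro y
      obtain ⟨i, x, rfl⟩ := hs y
      have := hsm i
      have := h i
      exact isReduced_of_injective _ (Groth.Agent.S9840.stalkMap_injective (f i) x)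
    exact isReduced_of_isReduced_stalk S

end Groth.Agent.S9841
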