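import Groth.Statements.S8256
import Groth.Agent.Lib.Helper13QCAlgPO
-- import your own Groth.Agent.* helpers here

set_option autoImplicit false
universe u
open CategoryTheory CategoryTheory.Limits AlgebraicGeometry Opposite TopologicalSpace
open EGA2

namespace Groth.Agent.S8256

theorem eqToHom_eq_map {Y : Scheme.{u}} (V W : Y.Opens) (e : W = V)
    (e' : Y.presheaf.obj (op V) = Y.presheaf.obj (op W)) (hle : W ≤ V) :
    eqToHom e' = Y.presheaf.map (homOfLE hle).op := by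
  subst e
  rw [show (homOfLE hle).op = 𝟙 _ from Subsingleton.elim _ _, Y.presheaf.map_id]
  rfl

theorem algHom_app {X Y S : Scheme.{u}} (f : X ⟶ S) (g : Y ⟶ S) (h : Y ⟶ X) (w : h ≫ f = g)
    (U : S.Opens) (hle : g ⁻¹ᵁ U ≤ h ⁻¹ᵁ f ⁻¹ᵁ U) :
    (AffAlg.algHom f g h w).app (op U) = h.appLE (f ⁻¹ᵁ U) (g ⁻¹ᵁ U) hle := by
  subst w
  unfold AffAlg.algHom
  rw [NatTrans.comp_app, eqToHom_app, Scheme.Hom.appLE]
  congr 1
  exact eqToHom_eq_map _ _ rfl _ _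

/-- Let Y be affine over S (g : Y → S affine) and X, X' affine over Y (f, f' affine), and let Z = X ×_Y
X' with projections p : Z → X, p' : Z → X'. Then Z is affine over Y and over S, and its direct-image
algebra on S is the tensor product: the square of quasi-coherent O_S-algebras A(Y) → A(X), A(Y) →
A(X'), A(X) → A(Z), A(X') → A(Z), whose maps are induced by f, f', p, p', is a pushout square in the
category of quasi-coherent O_S-algebras. -/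
theorem result {X X' Y Z S : Scheme.{u}} (g : Y ⟶ S) [IsAffineHom g]
    (f : X ⟶ Y) [IsAffineHom f] (f' : X' ⟶ Y) [IsAffineHom f'] (p : Z ⟶ X) (p' : Z ⟶ X') [IsAffineHom p]
    (hZ : IsPullback p p' f f') :
    IsPushout
      (C := RelSpec.QCAlg S)
      (⟨AffAlg.algHom g (f ≫ g) f rfl, AffAlg.algHom_comm g (f ≫ g) f rfl⟩ :
        RelSpec.QCAlg.directImage g ⟶ RelSpec.QCAlg.directImage (f ≫ g))
      (⟨AffAlg.algHom g (f' ≫ g) f' rfl, AffAlg.algHom_comm g (f' ≫ g) f' rfl⟩ :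
        RelSpec.QCAlg.directImage g ⟶ RelSpec.QCAlg.directImage (f' ≫ g))
      (⟨AffAlg.algHom (f ≫ g) (p ≫ f ≫ g) p rfl, AffAlg.algHom_comm (f ≫ g) (p ≫ f ≫ g) p rfl⟩ :
        RelSpec.QCAlg.directImage (f ≫ g) ⟶ RelSpec.QCAlg.directImage (p ≫ f ≫ g))
      (⟨AffAlg.algHom (f' ≫ g) (p ≫ f ≫ g) p'
          ((Category.assoc p' f' g).symm.trans ((congrArg (· ≫ g) hZ.w.symm).trans (Category.assoc p f g))),
        AffAlg.algHom_comm (f' ≫ g) (p ≫ f ≫ g) p'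
          ((Category.assoc p' f' g).symm.trans ((congrArg (· ≫ g) hZ.w.symm).trans (Category.assoc p f g)))⟩ :
        RelSpec.QCAlg.directImage (f' ≫ g) ⟶ RelSpec.QCAlg.directImage (p ≫ f ≫ g)) := by
  apply Groth.Agent.Helper13QCAlgPO.isPushout_of_forall_affine
  intro U hU
  have hW : IsAffineOpen (g ⁻¹ᵁ U) := hU.preimage g
  have e : p' ⁻¹ᵁ (f' ⁻¹ᵁ (g ⁻¹ᵁ U)) = p ⁻¹ᵁ (f ⁻¹ᵁ (g ⁻¹ᵁ U)) := by
    change (p' ≫ f') ⁻¹ᵁ (g ⁻¹ᵁ U) = (p ≫ f) ⁻¹ᵁ (g ⁻¹ᵁ U)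
    rw [hZ.w]
  have hUY : (p ≫ f ≫ g) ⁻¹ᵁ U = p ⁻¹ᵁ (f ⁻¹ᵁ (g ⁻¹ᵁ U)) ⊓ p' ⁻¹ᵁ (f' ⁻¹ᵁ (g ⁻¹ᵁ U)) := by
    rw [e, inf_idem]
    rfl
  have h1 := (isIso_pushoutSection_iff hZ (US := g ⁻¹ᵁ U) (UT := f' ⁻¹ᵁ (g ⁻¹ᵁ U))
    (UX := f ⁻¹ᵁ (g ⁻¹ᵁ U)) le_rfl le_rfl (UY := (p ≫ f ≫ g) ⁻¹ᵁ U) hUY).mp
    (isIso_pushoutSection_of_isAffineOpen hZ _ _ _ hW (hW.preimage f') (hW.preimage f))
  have w' : p' ≫ f' ≫ g = p ≫ f ≫ g :=
    (Category.assoc p' f' g).symm.trans ((congrArg (· ≫ g) hZ.w.symm).trans (Category.assoc p f g))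
  change IsPushout ((AffAlg.algHom g (f ≫ g) f rfl).app (op U))
    ((AffAlg.algHom g (f' ≫ g) f' rfl).app (op U))
    ((AffAlg.algHom (f ≫ g) (p ≫ f ≫ g) p rfl).app (op U))
    ((AffAlg.algHom (f' ≫ g) (p ≫ f ≫ g) p' w').app (op U))
  rw [algHom_app g (f ≫ g) f rfl U le_rfl, algHom_app g (f' ≫ g) f' rfl U le_rfl,
    algHom_app (f ≫ g) (p ≫ f ≫ g) p rfl U le_rfl,
    algHom_app (f' ≫ g) (p ≫ f ≫ g) p' w' U (le_of_eq e.symm)]
  exact h1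

end Groth.Agent.S8256
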