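import Groth.Statements.S8260
import Mathlib
-- import your own Groth.Agent.* helpers here

set_option autoImplicit false
universe u
open CategoryTheory CategoryTheory.Limits AlgebraicGeometry Opposite TopologicalSpace
open scoped HomogeneousIdeal
open EGA2

namespace Groth.Agent.S8260

open CategoryTheory CategoryTheory.Limits AlgebraicGeometry Opposite TopologicalSpace in
theorem restrict_eq {Y P : Scheme.{u}} (𝒮 : RelProj.QCGrAlg Y) (p : P ⟶ Y)
    (chart : ∀ (U : Y.Opens) (hU : IsAffineOpen U), (((p ⁻¹ᵁ U : P.Opens) : Scheme.{u}) ≅ Proj (𝒮.deg U hU)))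
    (hP : RelProj.IsRelProj 𝒮 p chart) (U : Y.Opens) (hU : IsAffineOpen U) :
    p ∣_ U = (chart U hU).hom ≫ Proj.toSpecZero (𝒮.deg U hU) ≫ Spec.map (𝒮.strZero U hU) ≫
      hU.isoSpec.inv := by
  rw [← cancel_mono U.ι, morphismRestrict_ι, ← hP.chart_over U hU]
  simp only [Category.assoc, IsAffineOpen.isoSpec_inv_ι]

open CategoryTheory CategoryTheory.Limits AlgebraicGeometry Opposite TopologicalSpace in
theorem finiteType_aux {Y : Scheme.{u}} (𝒮 : RelProj.QCGrAlg Y) (U : Y.Opens) (hU : IsAffineOpen U)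
    (hft : (𝒮.str.app (op U)).hom.FiniteType) :
    Algebra.FiniteType (𝒮.deg U hU 0) (𝒮.presheaf.obj (op U)) ∧ (𝒮.strZero U hU).hom.FiniteType := by
  constructor
  · have h1 : (algebraMap (𝒮.deg U hU 0) (𝒮.presheaf.obj (op U))).comp (𝒮.strZero U hU).hom =
        (𝒮.str.app (op U)).hom := by
      ext r; rfl
    have h2 : (algebraMap (𝒮.deg U hU 0) (𝒮.presheaf.obj (op U))).FiniteType := by
      apply RingHom.FiniteType.of_comp_finiteType (f := (𝒮.strZero U hU).hom)
      rw [h1]; exact hft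
    exact h2
  · have h1 : (GradedRing.projZeroRingHom' (𝒮.deg U hU)).comp (𝒮.str.app (op U)).hom =
        (𝒮.strZero U hU).hom := by
      refine RingHom.ext fun r => ?_
      have := GradedRing.projZeroRingHom'_apply_coe (𝒮.deg U hU) ((𝒮.strZero U hU).hom r)
      exact this
    rw [← h1]
    exact RingHom.FiniteType.comp
      (RingHom.FiniteType.of_surjective _ (GradedRing.projZeroRingHom'_surjective _)) hft

/-- If the quasi-coherent positively graded O_Y-algebra 𝒮 is of finite type (over every affine open U of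
Y the ring 𝒮(U) is a finitely generated O_Y(U)-algebra), then its relative homogeneous spectrum
Proj(𝒮) is of finite type over Y. -/
theorem result {Y P : Scheme.{u}} (𝒮 : RelProj.QCGrAlg Y)
    (hft : ∀ (U : Y.Opens) (hU : IsAffineOpen U), (𝒮.str.app (op U)).hom.FiniteType)
    (p : P ⟶ Y)
    (chart : ∀ (U : Y.Opens) (hU : IsAffineOpen U), (((p ⁻¹ᵁ U : P.Opens) : Scheme.{u}) ≅ Proj (𝒮.deg U hU)))
    (hP : RelProj.IsRelProj 𝒮 p chart) : LocallyOfFiniteType p ∧ QuasiCompact p := by
  constructor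
  · rw [IsZariskiLocalAtTarget.iff_of_iSup_eq_top (P := @LocallyOfFiniteType)
      (fun i : Y.affineOpens => (i : Y.Opens)) (iSup_affineOpens_eq_top Y)]
    rintro ⟨U, hU⟩
    obtain ⟨h1, h2⟩ := finiteType_aux 𝒮 U hU (hft U hU)
    haveI := h1
    haveI : LocallyOfFiniteType (Spec.map (𝒮.strZero U hU)) :=
      (HasRingHomProperty.Spec_iff (P := @LocallyOfFiniteType)).mpr h2
    change LocallyOfFiniteType (p ∣_ U)
    rw [restrict_eq 𝒮 p chart hP U hU]
    infer_instance
  · rw [IsZariskiLocalAtTarget.iff_of_iSup_eq_top (P := @QuasiCompact)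
      (fun i : Y.affineOpens => (i : Y.Opens)) (iSup_affineOpens_eq_top Y)]
    rintro ⟨U, hU⟩
    obtain ⟨h1, h2⟩ := finiteType_aux 𝒮 U hU (hft U hU)
    haveI := h1
    change QuasiCompact (p ∣_ U)
    rw [restrict_eq 𝒮 p chart hP U hU]
    infer_instance

end Groth.Agent.S8260
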