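import Groth.Statements.S8261
import Groth.Agent.Lib.Helper13RelProjB
-- import your own Groth.Agent.* helpers here

set_option autoImplicit false
universe u
open CategoryTheory CategoryTheory.Limits AlgebraicGeometry Opposite TopologicalSpace
open scoped HomogeneousIdeal
open EGA2

namespace Groth.Agent.S8261

/-- Let 𝒮 be a quasi-coherent positively graded O_Y-algebra generated by 𝒮_1 with 𝒮_1 of finite type
over O_Y. Then Proj(𝒮) is of finite type over Y. -/
theorem result {Y P : Scheme.{u}} (𝒮 : RelProj.QCGrAlg Y)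
    (hgen : 𝒮.IsGenDegOne) (hft : 𝒮.IsFTDeg 1) (p : P ⟶ Y)
    (chart : ∀ (U : Y.Opens) (hU : IsAffineOpen U), (((p ⁻¹ᵁ U : P.Opens) : Scheme.{u}) ≅ Proj (𝒮.deg U hU)))
    (hP : RelProj.IsRelProj 𝒮 p chart) : LocallyOfFiniteType p ∧ QuasiCompact p := by
  have key : ∀ (U : Y.Opens) (hU : IsAffineOpen U),
      LocallyOfFiniteType (Proj.toSpecZero (𝒮.deg U hU) ≫ Spec.map (𝒮.strZero U hU)) ∧
        QuasiCompact (Proj.toSpecZero (𝒮.deg U hU) ≫ Spec.map (𝒮.strZero U hU)) := by
    intro U hU
    obtain ⟨T, hT, hspan⟩ := hft U hU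
    exact Groth.Agent.Helper13RelProj.loft_qc_toSpecZero_comp (𝒮.strZero U hU) T
      (fun t ht => hT ht) hspan (hgen U hU)
  constructor
  · rw [IsZariskiLocalAtTarget.iff_of_iSup_eq_top (P := @LocallyOfFiniteType)
      (fun i : Y.affineOpens => (i : Y.Opens)) (iSup_affineOpens_eq_top Y)]
    rintro ⟨U, hU⟩
    haveI := (key U hU).1
    change LocallyOfFiniteType (p ∣_ U)
    rw [Groth.Agent.Helper13RelProj.restrict_eq 𝒮 p chart hP U hU]
    rw [← Category.assoc (Proj.toSpecZero _), ← Category.assoc (chart U hU).hom]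
    have : LocallyOfFiniteType ((chart U hU).hom ≫ Proj.toSpecZero (𝒮.deg U hU) ≫
        Spec.map (𝒮.strZero U hU)) := inferInstance
    infer_instance
  · rw [IsZariskiLocalAtTarget.iff_of_iSup_eq_top (P := @QuasiCompact)
      (fun i : Y.affineOpens => (i : Y.Opens)) (iSup_affineOpens_eq_top Y)]
    rintro ⟨U, hU⟩
    haveI := (key U hU).2
    change QuasiCompact (p ∣_ U)
    rw [Groth.Agent.Helper13RelProj.restrict_eq 𝒮 p chart hP U hU]
    rw [← Category.assoc (Proj.toSpecZero _), ← Category.assoc (chart U hU).hom]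
    have : QuasiCompact ((chart U hU).hom ≫ Proj.toSpecZero (𝒮.deg U hU) ≫
        Spec.map (𝒮.strZero U hU)) := inferInstance
    infer_instance

end Groth.Agent.S8261
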