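import Groth.Statements.S8267
import Groth.Agent.Lib.Helper13SymAlgLocal
import Groth.Agent.Lib.Helper13RelSpecLocal
import Groth.Agent.Lib.Helper13SymFT
import Groth.Agent.Lib.Helper23FinType2
-- import your own Groth.Agent.* helpers here

set_option autoImplicit false
universe u
open CategoryTheory CategoryTheory.Limits AlgebraicGeometry Opposite TopologicalSpace
open EGA2

namespace Groth.Agent.S8267

/-- Let E be a quasi-coherent O_S-module of finite type and A (through j : E → A) its symmetric algebra.
Then the vector bundle V(E) = Spec(A) is of finite type over S, i.e. its (affine) structure morphism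
is locally of finite type. -/
theorem result {S : Scheme.{u}} (E : S.Modules) (hE : Coh.IsCoh E)
    (A : RelSpec.QCAlg S) (j : E ⟶ A.toModule) (hA : RelSpec.IsSymAlg E A j) :
    LocallyOfFiniteType A.π := by
  haveI : E.IsQuasicoherent := hE.1
  haveI : SheafOfModules.IsFiniteType (R := S.ringCatSheaf) E := hE.2
  apply Groth.Agent.Helper13RelSpecLocal.locallyOfFiniteType_π
  intro U hU
  haveI hfin : Module.Finite Γ(S, U) Γ(E, U) :=
    Groth.Agent.Lib.Helper23.FinType.finite_of_isFiniteType E hU
  have hbij := Groth.Agent.Helper13SymAlg.bijective_σ E U hU hA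
  have h1 : (A.str.app (op U)).hom = (Groth.Agent.Helper13SymAlg.σ E A j U).comp
      (algebraMap Γ(S, U) (SymmetricAlgebra Γ(S, U) Γ(E, U))) := by
    refine RingHom.ext fun a => ?_
    rw [RingHom.comp_apply]
    unfold Groth.Agent.Helper13SymAlg.σ
    rw [Groth.Agent.Helper13SymLoc.symLift_algebraMap]
  rw [h1]
  exact (RingHom.FiniteType.of_surjective _ hbij.2).comp
    Groth.Agent.Helper13SymLoc.finiteType_algebraMap_symmetricAlgebra

end Groth.Agent.S8267
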