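import Groth.Statements.S8268
import Groth.Agent.Lib.Helper13SymAlgLocal
import Groth.Agent.Lib.Helper13RelSpecLocal
import Groth.Agent.Lib.Helper13SymFT
import Groth.Agent.Lib.Helper23FinTypeLocal
-- import your own Groth.Agent.* helpers here

set_option autoImplicit false
universe u
open CategoryTheory CategoryTheory.Limits AlgebraicGeometry Opposite TopologicalSpace
open EGA2

namespace Groth.Agent.S8268

open Groth.Agent.Helper13SymAlg Groth.Agent.Helper13SymLoc in
theorem σ_precomp {S : Scheme.{u}} (E F : S.Modules) [E.IsQuasicoherent] [F.IsQuasicoherent]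
    (u : E ⟶ F) (B : RelSpec.QCAlg S) (k : F ⟶ B.toModule) (U : S.Opens) :
    σ E B (u ≫ k) U = (σ F B k U).comp
      (symMap (RingHom.id Γ(S, U)) (u.app U).hom (fun a m => u.app_smul a m)) := by
  refine ringHom_ext (fun a => ?_) (fun m => ?_)
  · unfold σ
    rw [RingHom.comp_apply, symLift_algebraMap, symMap_algebraMap, symLift_algebraMap]
    rfl
  · unfold σ
    rw [RingHom.comp_apply, symLift_ι, symMap_ι, symLift_ι]
    rfl

/-- A surjective homomorphism E → F of quasi-coherent O_S-modules induces a closed immersion V(F) → V(E)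
of the associated vector bundles (relative spectra of the symmetric algebras; the algebra map A → B
is the one extending E → F). -/
theorem result {S : Scheme.{u}} (E F : S.Modules) (hE : Coh.IsQCoh E)
    (hF : Coh.IsQCoh F) (u : E ⟶ F) [Epi u]
    (A B : RelSpec.QCAlg S) (j : E ⟶ A.toModule) (k : F ⟶ B.toModule)
    (hA : RelSpec.IsSymAlg E A j) (hB : RelSpec.IsSymAlg F B k)
    (ψ : A ⟶ B) (hψ : j ≫ RelSpec.QCAlg.Hom.toModuleMap ψ = u ≫ k) :
    IsClosedImmersion (RelSpec.QCAlg.specMap ψ) := by
  haveI : E.IsQuasicoherent := hE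
  haveI : F.IsQuasicoherent := hF
  refine Groth.Agent.Helper13RelSpecLocal.specMap_of_target_local ψ @IsClosedImmersion
    fun U hU => ?_
  apply IsClosedImmersion.spec_of_surjective
  have e1 := Groth.Agent.Helper13SymAlg.σ_comp E j ψ U
  rw [hψ, σ_precomp E F u B k U] at e1
  have hs : Function.Surjective ((Groth.Agent.Helper13SymAlg.σ F B k U).comp
      (Groth.Agent.Helper13SymLoc.symMap (RingHom.id Γ(S, U)) (u.app U).hom
        (fun a m => u.app_smul a m))) := by
    rw [RingHom.coe_comp]
    exact (Groth.Agent.Helper13SymAlg.bijective_σ F U hU hB).2.comp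
      (Groth.Agent.Helper13SymLoc.symMap_surjective _ _ _ Function.surjective_id
        (Groth.Agent.Lib.Helper23.FinType.surjective_app_of_epi u hU))
  rw [e1, RingHom.coe_comp] at hs
  exact Function.Surjective.of_comp hs

end Groth.Agent.S8268
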