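import Groth.Statements.S8275
import Mathlib
import Groth.Agent.Lib.Helper6Graded
-- import your own Groth.Agent.* helpers here

set_option autoImplicit false
universe u
open EGA2

namespace Groth.Agent.S8275

section aux
open DirectSum Polynomial

variable {R A B : Type u} [CommRing R] [CommRing A] [Algebra R A]
    (𝒜 : ℕ → Submodule R A) [GradedAlgebra 𝒜] [CommRing B] [Algebra R B]
    (ℬ : ℕ → Submodule R B) [GradedAlgebra ℬ]
    (φ : B →ₐ[R] Polynomial A) (hφ : Function.Injective φ)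
    (hdeg : ∀ n : ℕ, Submodule.map φ.toLinearMap (ℬ n) =
      Submodule.map ((Polynomial.monomial n : A →ₗ[A] Polynomial A).restrictScalars R)
        (⨆ (m : ℕ) (_ : n ≤ m), 𝒜 m))

include hdeg in
theorem exists_of_mem_ge {n : ℕ} {a : A} (ha : a ∈ ⨆ (m : ℕ) (_ : n ≤ m), 𝒜 m) :
    ∃ b ∈ ℬ n, φ b = Polynomial.monomial n a := by
  have : Polynomial.monomial n a ∈ Submodule.map φ.toLinearMap (ℬ n) := by
    rw [hdeg]
    exact ⟨a, ha, rfl⟩
  obtain ⟨b, hb, hb'⟩ := this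
  exact ⟨b, hb, hb'⟩

include hdeg in
theorem exists_of_mem {n m : ℕ} (hnm : n ≤ m) {a : A} (ha : a ∈ 𝒜 m) :
    ∃ b ∈ ℬ n, φ b = Polynomial.monomial n a :=
  exists_of_mem_ge 𝒜 ℬ φ hdeg
    (Submodule.mem_iSup_of_mem m (Submodule.mem_iSup_of_mem hnm ha))

include hdeg in
theorem exists_of_mem_ℬ {n : ℕ} {b : B} (hb : b ∈ ℬ n) :
    ∃ a ∈ ⨆ (m : ℕ) (_ : n ≤ m), 𝒜 m, φ b = Polynomial.monomial n a := by
  have : φ b ∈ Submodule.map φ.toLinearMap (ℬ n) := ⟨b, hb, rfl⟩
  rw [hdeg] at this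
  obtain ⟨a, ha, ha'⟩ := this
  exact ⟨a, ha, ha'.symm⟩

include hφ hdeg in
theorem mem_ℬ_of_eq {n : ℕ} {b : B} {a : A} (ha : a ∈ ⨆ (m : ℕ) (_ : n ≤ m), 𝒜 m)
    (h : φ b = Polynomial.monomial n a) : b ∈ ℬ n := by
  obtain ⟨b', hb', h'⟩ := exists_of_mem_ge 𝒜 ℬ φ hdeg ha
  have : b = b' := hφ (h.trans h'.symm)
  rw [this]; exact hb'

/-- induction principle for `S_{≥ n}` -/
theorem ge_induction {n : ℕ} {C : A → Prop} (h0 : C 0) (hadd : ∀ x y, C x → C y → C (x + y))
    (hmem : ∀ m, n ≤ m → ∀ a ∈ 𝒜 m, C a) {a : A} (ha : a ∈ ⨆ (m : ℕ) (_ : n ≤ m), 𝒜 m) : C a := by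
  refine Submodule.iSup_induction _ (motive := C) ha (fun m x hx => ?_) h0 hadd
  by_cases hnm : n ≤ m
  · simp only [hnm, iSup_pos] at hx
    exact hmem m hnm x hx
  · rw [iSup_neg hnm, Submodule.mem_bot] at hx
    rw [hx]; exact h0

theorem ge_one_le_irrelevant {a : A} (ha : a ∈ ⨆ (m : ℕ) (_ : 1 ≤ m), 𝒜 m) :
    a ∈ (HomogeneousIdeal.irrelevant 𝒜).toIdeal := by
  refine ge_induction 𝒜 (C := fun a => a ∈ (HomogeneousIdeal.irrelevant 𝒜).toIdeal)
    (Ideal.zero_mem _) (fun x y hx hy => Ideal.add_mem _ hx hy) (fun m hm a ha => ?_) ha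
  exact HomogeneousIdeal.mem_irrelevant_of_mem _ (Nat.lt_of_lt_of_le Nat.zero_lt_one hm) ha

theorem irrelevant_le_ge_one {a : A} (ha : a ∈ (HomogeneousIdeal.irrelevant 𝒜).toIdeal) :
    a ∈ ⨆ (m : ℕ) (_ : 1 ≤ m), 𝒜 m := by
  classical
  have h0 : (DirectSum.decompose 𝒜 a 0 : A) = 0 := ha
  rw [← DirectSum.sum_support_decompose 𝒜 a]
  refine Submodule.sum_mem _ (fun i hi => ?_)
  rcases Nat.eq_zero_or_pos i with rfl | h
  · rw [h0]; exact Submodule.zero_mem _
  · exact Submodule.mem_iSup_of_mem i (Submodule.mem_iSup_of_mem h (SetLike.coe_mem _))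

theorem ge_zero_eq_top : (⨆ (m : ℕ) (_ : 0 ≤ m), 𝒜 m) = ⊤ := by
  classical
  rw [eq_top_iff]
  rintro a -
  rw [← DirectSum.sum_support_decompose 𝒜 a]
  refine Submodule.sum_mem _ (fun i hi => ?_)
  exact Submodule.mem_iSup_of_mem i (Submodule.mem_iSup_of_mem (Nat.zero_le i) (SetLike.coe_mem _))

include hdeg in
/-- the constant coefficient of `φ b` vanishes for `b` in the irrelevant ideal -/
theorem coeff_zero_of_mem_irrelevant {b : B}
    (hb : b ∈ (HomogeneousIdeal.irrelevant ℬ).toIdeal) : (φ b).coeff 0 = 0 := by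
  classical
  have h0 : (DirectSum.decompose ℬ b 0 : B) = 0 := hb
  rw [← DirectSum.sum_support_decompose ℬ b, map_sum, Polynomial.finsetSum_coeff]
  refine Finset.sum_eq_zero (fun i hi => ?_)
  rcases Nat.eq_zero_or_pos i with rfl | h
  · rw [h0, map_zero, Polynomial.coeff_zero]
  · obtain ⟨a, -, ha⟩ := exists_of_mem_ℬ 𝒜 ℬ φ hdeg (SetLike.coe_mem (DirectSum.decompose ℬ b i))
    rw [ha, Polynomial.coeff_monomial, if_neg (Nat.ne_of_gt h)]

include hdeg in
theorem coeff_one_mem_irrelevant (b : B) :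
    (φ b).coeff 1 ∈ (HomogeneousIdeal.irrelevant 𝒜).toIdeal := by
  classical
  rw [← DirectSum.sum_support_decompose ℬ b, map_sum, Polynomial.finsetSum_coeff]
  refine Ideal.sum_mem _ (fun i hi => ?_)
  obtain ⟨a, ha1, ha⟩ := exists_of_mem_ℬ 𝒜 ℬ φ hdeg (SetLike.coe_mem (DirectSum.decompose ℬ b i))
  rw [ha, Polynomial.coeff_monomial]
  split_ifs with h
  · subst h
    exact ge_one_le_irrelevant 𝒜 ha1
  · exact Ideal.zero_mem _

include hdeg in
theorem finiteType_A_of_B (hB : Algebra.FiniteType (ℬ 0) B) : Algebra.FiniteType (𝒜 0) A := by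
  classical
  rw [← Groth.Agent.Lib.Helper6.irrelevant_fg_iff_finiteType] at hB ⊢
  obtain ⟨T, hT⟩ := hB
  refine ⟨T.image (fun b => (φ b).coeff 1), ?_⟩
  apply le_antisymm
  · rw [Ideal.span_le]
    intro a ha
    simp only [Finset.coe_image, Set.mem_image, Finset.mem_coe] at ha
    obtain ⟨b, -, rfl⟩ := ha
    exact coeff_one_mem_irrelevant 𝒜 ℬ φ hdeg b
  · intro a ha
    obtain ⟨b, hb1, hb⟩ := exists_of_mem_ge 𝒜 ℬ φ hdeg (irrelevant_le_ge_one 𝒜 ha)
    have hbirr : b ∈ (HomogeneousIdeal.irrelevant ℬ).toIdeal :=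
      HomogeneousIdeal.mem_irrelevant_of_mem _ Nat.zero_lt_one hb1
    rw [← hT] at hbirr
    obtain ⟨c, -, hc⟩ := Submodule.mem_span_finset.1 hbirr
    have ha' : a = (φ b).coeff 1 := by rw [hb, Polynomial.coeff_monomial, if_pos rfl]
    rw [ha', ← hc, map_sum, Polynomial.finsetSum_coeff]
    refine Ideal.sum_mem _ (fun t ht => ?_)
    have ht0 : (φ t).coeff 0 = 0 := by
      apply coeff_zero_of_mem_irrelevant 𝒜 ℬ φ hdeg
      rw [← hT]; exact Ideal.subset_span ht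
    rw [smul_eq_mul, map_mul, Polynomial.mul_coeff_one, ht0, mul_zero, add_zero]
    apply Ideal.mul_mem_left
    apply Ideal.subset_span
    simp only [Finset.coe_image, Set.mem_image, Finset.mem_coe]
    exact ⟨t, ht, rfl⟩

include hφ hdeg in
theorem finiteType_B_of_A (hA : Algebra.FiniteType (𝒜 0) A) : Algebra.FiniteType (ℬ 0) B := by
  classical
  obtain ⟨s, hs, hs'⟩ := GradedAlgebra.exists_finset_adjoin_eq_top_and_homogeneous_ne_zero 𝒜
  choose! d hd0 hd using hs'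
  have hspan : (HomogeneousIdeal.irrelevant 𝒜).toIdeal = Ideal.span (s : Set A) :=
    Groth.Agent.Lib.Helper6.irrelevant_eq_span_of_adjoin_eq_top 𝒜 _
      (fun e he => ⟨d e, Nat.pos_of_ne_zero (hd0 e he), hd e he⟩) hs
  let G : Set B := {b | ∃ f ∈ s, ∃ j : ℕ, 1 ≤ j ∧ j ≤ d f ∧ φ b = Polynomial.monomial j f}
  have hGfin : G.Finite := by
    let F : Finset (Polynomial A) :=
      s.biUnion (fun f => (Finset.range (d f + 1)).image (fun j => Polynomial.monomial j f))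
    have : G ⊆ φ ⁻¹' (F : Set (Polynomial A)) := by
      rintro b ⟨f, hf, j, -, hj, hb⟩
      simp only [F, Set.mem_preimage, Finset.coe_biUnion, Set.mem_iUnion, Finset.coe_image,
        Set.mem_image, Finset.mem_coe, Finset.mem_range]
      exact ⟨f, hf, j, Nat.lt_succ_of_le hj, hb.symm⟩
    exact (Set.Finite.preimage (hφ.injOn) F.finite_toSet).subset this
  have key : ∀ m : ℕ, ∀ a ∈ 𝒜 m, ∀ n ≤ m, ∀ b : B, φ b = Polynomial.monomial n a →
      b ∈ Algebra.adjoin (ℬ 0) G := by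
    intro m
    induction m using Nat.strong_induction_on with
    | _ m ih =>
    intro a ha n hnm b hb
    rcases Nat.eq_zero_or_pos n with rfl | hn
    · have hb0 : b ∈ ℬ 0 := mem_ℬ_of_eq 𝒜 ℬ φ hφ hdeg
        (Submodule.mem_iSup_of_mem m (Submodule.mem_iSup_of_mem hnm ha)) hb
      exact Subalgebra.algebraMap_mem (Algebra.adjoin (ℬ 0) G) (⟨b, hb0⟩ : ℬ 0)
    · have hm : 0 < m := Nat.lt_of_lt_of_le hn hnm
      have hairr : a ∈ Ideal.span (s : Set A) := by
        rw [← hspan]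
        exact HomogeneousIdeal.mem_irrelevant_of_mem _ hm ha
      obtain ⟨c, -, hc⟩ := Submodule.mem_span_finset.1 hairr
      -- homogeneous component
      have ha2 : a = ∑ f ∈ s, (if d f ≤ m then (DirectSum.decompose 𝒜 (c f) (m - d f) : A) * f
          else 0) := by
        have h1 : (DirectSum.decompose 𝒜 a m : A) = a := DirectSum.decompose_of_mem_same 𝒜 ha
        rw [← h1, ← hc, DirectSum.decompose_sum, DFinsupp.finsetSum_apply,
          AddSubmonoidClass.coe_finsetSum]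
        refine Finset.sum_congr rfl (fun f hf => ?_)
        rw [smul_eq_mul]
        exact DirectSum.coe_decompose_mul_of_right_mem 𝒜 m (hd f hf)
      -- for each f choose the pieces
      have hterm : ∀ f ∈ s, ∃ y ∈ Algebra.adjoin (ℬ 0) G, φ y = Polynomial.monomial n
          (if d f ≤ m then (DirectSum.decompose 𝒜 (c f) (m - d f) : A) * f else 0) := by
        intro f hf
        split_ifs with hle
        · have hdf : 0 < d f := Nat.pos_of_ne_zero (hd0 f hf)
          obtain ⟨j, hj1, hj2, hj3, hn1⟩ :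
              ∃ j : ℕ, 1 ≤ j ∧ j ≤ d f ∧ j ≤ n ∧ n - j ≤ m - d f := by
            rcases le_total n (d f) with h | h
            · exact ⟨n, hn, h, le_rfl, by omega⟩
            · exact ⟨d f, hdf, le_rfl, h, by omega⟩
          obtain ⟨b₁, -, hb₁⟩ := exists_of_mem 𝒜 ℬ φ hdeg hn1
            (SetLike.coe_mem (DirectSum.decompose 𝒜 (c f) (m - d f)))
          obtain ⟨g, -, hg⟩ := exists_of_mem 𝒜 ℬ φ hdeg hj2 (hd f hf)
          have hlt : m - d f < m := Nat.sub_lt hm hdf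
          have hb₁mem : b₁ ∈ Algebra.adjoin (ℬ 0) G :=
            ih (m - d f) hlt _ (SetLike.coe_mem _) (n - j) hn1 b₁ hb₁
          have hgmem : g ∈ Algebra.adjoin (ℬ 0) G :=
            Algebra.subset_adjoin ⟨f, hf, j, hj1, hj2, hg⟩
          refine ⟨b₁ * g, Subalgebra.mul_mem _ hb₁mem hgmem, ?_⟩
          rw [map_mul, hb₁, hg, Polynomial.monomial_mul_monomial, Nat.sub_add_cancel hj3]
        · exact ⟨0, Subalgebra.zero_mem _, by simp⟩
      choose! y hy1 hy2 using hterm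
      have : b = ∑ f ∈ s, y f := by
        apply hφ
        rw [hb, map_sum, ha2, map_sum]
        exact Finset.sum_congr rfl (fun f hf => (hy2 f hf).symm)
      rw [this]
      exact Subalgebra.sum_mem _ hy1
  refine ⟨Subalgebra.fg_def.2 ⟨G, hGfin, ?_⟩⟩
  apply Groth.Agent.Lib.Helper6.subalgebra_eq_top_of_forall_le ℬ
  intro n x hx
  obtain ⟨a, ha, hxa⟩ := exists_of_mem_ℬ 𝒜 ℬ φ hdeg hx
  have hC : ∃ x' ∈ Algebra.adjoin (ℬ 0) G, φ x' = Polynomial.monomial n a := by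
    refine ge_induction 𝒜 (n := n)
      (C := fun a => ∃ x' ∈ Algebra.adjoin (ℬ 0) G, φ x' = Polynomial.monomial n a)
      ?_ ?_ ?_ ha
    · exact ⟨0, Subalgebra.zero_mem _, by simp⟩
    · rintro a₁ a₂ ⟨x₁, h1, h1'⟩ ⟨x₂, h2, h2'⟩
      exact ⟨x₁ + x₂, Subalgebra.add_mem _ h1 h2, by rw [map_add, h1', h2', map_add]⟩
    · intro m hm a ha
      obtain ⟨b, -, hb⟩ := exists_of_mem 𝒜 ℬ φ hdeg hm ha
      exact ⟨b, key m a ha n hm b hb, hb⟩
  obtain ⟨x', hx', hx'a⟩ := hC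
  have : x = x' := hφ (hxa.trans hx'a.symm)
  rw [this]; exact hx'
end aux

/-- For a positively graded ring S and the graded ring S♮ with S♮_n = S_{≥ n} = ⊕_{m ≥ n} S_m (presented
here as a graded ring S' with an injective algebra homomorphism φ : S' → S[X] carrying S'_n onto
S_{≥ n}·X^n for every n, so that S'_0 is identified with S): S♮ is of finite type over S♮_0 = S if
and only if S is of finite type over S_0. -/
theorem result {R A B : Type u} [CommRing R] [CommRing A] [Algebra R A]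
    (𝒜 : ℕ → Submodule R A) [GradedAlgebra 𝒜] [CommRing B] [Algebra R B] (ℬ : ℕ → Submodule R B) [GradedAlgebra ℬ]
    (φ : B →ₐ[R] Polynomial A) (hφ : Function.Injective φ)
    (hdeg : ∀ n : ℕ, Submodule.map φ.toLinearMap (ℬ n) =
      Submodule.map ((Polynomial.monomial n : A →ₗ[A] Polynomial A).restrictScalars R) (⨆ (m : ℕ) (_ : n ≤ m), 𝒜 m)) :
    Algebra.FiniteType (ℬ 0) B ↔ Algebra.FiniteType (𝒜 0) A := by
  exact ⟨finiteType_A_of_B 𝒜 ℬ φ hdeg, finiteType_B_of_A 𝒜 ℬ φ hφ hdeg⟩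

end Groth.Agent.S8275
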