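import Groth.Statements.S8276
import Mathlib
import Groth.Agent.Lib.Helper6Graded
import Groth.Agent.S8275
-- import your own Groth.Agent.* helpers here

set_option autoImplicit false
universe u
open EGA2

namespace Groth.Agent.S8276

/-- For a positively graded ring S and the graded ring S♮ with S♮_n = S_{≥ n} = ⊕_{m ≥ n} S_m (presented
here as a graded ring S' with an injective algebra homomorphism φ : S' → S[X] carrying S'_n onto
S_{≥ n}·X^n for every n, so that S'_0 is identified with S): S♮ is Noetherian if and only if S is. -/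
theorem result {R A B : Type u} [CommRing R] [CommRing A] [Algebra R A]
    (𝒜 : ℕ → Submodule R A) [GradedAlgebra 𝒜] [CommRing B] [Algebra R B] (ℬ : ℕ → Submodule R B) [GradedAlgebra ℬ]
    (φ : B →ₐ[R] Polynomial A) (hφ : Function.Injective φ)
    (hdeg : ∀ n : ℕ, Submodule.map φ.toLinearMap (ℬ n) =
      Submodule.map ((Polynomial.monomial n : A →ₗ[A] Polynomial A).restrictScalars R) (⨆ (m : ℕ) (_ : n ≤ m), 𝒜 m)) :
    IsNoetherianRing B ↔ IsNoetherianRing A := by
  classical
  -- the ring hom ε : B → A, constant coefficient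
  let ε : B →+* A := (Polynomial.constantCoeff).comp (φ : B →+* Polynomial A)
  have hεsurj0 : ∀ a : A, ∃ b ∈ ℬ 0, φ b = Polynomial.monomial 0 a := by
    intro a
    apply Groth.Agent.S8275.exists_of_mem_ge 𝒜 ℬ φ hdeg
    rw [Groth.Agent.S8275.ge_zero_eq_top]
    trivial
  constructor
  · intro hB
    refine isNoetherianRing_of_surjective B A ε ?_
    intro a
    obtain ⟨b, -, hb⟩ := hεsurj0 a
    refine ⟨b, ?_⟩
    show Polynomial.constantCoeff (φ b) = a
    rw [hb]
    simp
  · intro hA
    have hft : Algebra.FiniteType (𝒜 0) A :=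
      ((Groth.Agent.Lib.Helper6.isNoetherianRing_iff_gradeZero_and_finiteType 𝒜).1 hA).2
    have hftB : Algebra.FiniteType (ℬ 0) B :=
      Groth.Agent.S8275.finiteType_B_of_A 𝒜 ℬ φ hφ hdeg hft
    let ε₀ : (ℬ 0) →+* A := ε.comp (algebraMap (ℬ 0) B)
    have hbij : Function.Bijective ε₀ := by
      constructor
      · rw [injective_iff_map_eq_zero]
        intro x hx
        obtain ⟨a, -, ha⟩ := Groth.Agent.S8275.exists_of_mem_ℬ 𝒜 ℬ φ hdeg x.2
        have hx' : Polynomial.constantCoeff (φ (x : B)) = 0 := hx
        rw [ha] at hx'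
        simp at hx'
        rw [hx', map_zero] at ha
        have : (x : B) = 0 := hφ (by rw [ha, map_zero])
        exact Subtype.ext this
      · intro a
        obtain ⟨b, hb0, hb⟩ := hεsurj0 a
        refine ⟨⟨b, hb0⟩, ?_⟩
        show Polynomial.constantCoeff (φ b) = a
        rw [hb]
        simp
    haveI : IsNoetherianRing (ℬ 0) :=
      isNoetherianRing_of_ringEquiv A (RingEquiv.ofBijective ε₀ hbij).symm
    exact Algebra.FiniteType.isNoetherianRing (ℬ 0) B

end Groth.Agent.S8276
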