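import Groth.Statements.S8300
import Mathlib
import Groth.Agent.Lib.Helper27Cone3
import Groth.Agent.S8299

set_option autoImplicit false
universe u
open CategoryTheory CategoryTheory.Limits AlgebraicGeometry Opposite TopologicalSpace
open scoped HomogeneousIdeal
noncomputable section
open EGA2

namespace Groth.Agent.S8300

/-- Let q : Y' → Y be a morphism of schemes, 𝒮 and 𝒮' quasi-coherent positively graded algebras over O_Y
and O_{Y'} with 𝒮_0 = O_Y and 𝒮'_0 = O_{Y'}, and φ : 𝒮 → q_*𝒮' a graded q-morphism (a map of sheaves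
of rings compatible with the structure maps through q^♯, whose components 𝒮(U) → 𝒮'(U') for affine
opens U' ⊆ q⁻¹(U) preserve degrees, recorded as graded ring homomorphisms); let C = Spec(𝒮), C' =
Spec(𝒮') be the affine cones and Φ : C' → C the morphism Spec(φ), i.e. the morphism which on the
charts over affine opens U' ⊆ q⁻¹(U) is Spec of 𝒮(U) → 𝒮'(U'); let E ⊆ C and E' ⊆ C' be the pointed
affine cones (defined chart by chart as the complements of V(𝒮(U)_+), resp. V(𝒮'(U')_+)). Then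
Proj(φ) is everywhere defined, which here means that for all affine opens U' ⊆ q⁻¹(U) the open of
Proj 𝒮'(U') where the morphism induced by 𝒮(U) → 𝒮'(U') is defined (the complement of V_+ of the
ideal generated by the image of the irrelevant ideal of 𝒮(U)) is the whole of Proj 𝒮'(U'), if and
only if the inverse image of E under Φ equals E'. -/
theorem result {Y Y' : Scheme.{u}} (q : Y' ⟶ Y) (𝒮 : RelProj.QCGrAlg Y) (𝒮' : RelProj.QCGrAlg Y')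
    (h0 : RelCone.StrZeroBij 𝒮) (h0' : RelCone.StrZeroBij 𝒮')
    (u : 𝒮.presheaf ⟶ q.base _* 𝒮'.presheaf)
    (hu : 𝒮.str ≫ u = q.c ≫ (TopCat.Presheaf.pushforward CommRingCat.{u} q.base).map 𝒮'.str)
    (φ : ∀ (U : Y.Opens) (hU : IsAffineOpen U) (U' : Y'.Opens) (hU' : IsAffineOpen U') (_ : U' ≤ q ⁻¹ᵁ U),
      𝒮.deg U hU →+*ᵍ 𝒮'.deg U' hU')
    (hφ : ∀ (U : Y.Opens) (hU : IsAffineOpen U) (U' : Y'.Opens) (hU' : IsAffineOpen U') (hle : U' ≤ q ⁻¹ᵁ U),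
      (φ U hU U' hU' hle).toRingHom =
        ((u.app (op U) : 𝒮.presheaf.obj (op U) ⟶ 𝒮'.presheaf.obj (op (q ⁻¹ᵁ U))) ≫
          𝒮'.presheaf.map (homOfLE hle).op).hom)
    (Φ : 𝒮'.toQCAlg.spec ⟶ 𝒮.toQCAlg.spec)
    (hΦ : ∀ (U : Y.Opens) (hU : IsAffineOpen U) (U' : Y'.Opens) (hU' : IsAffineOpen U') (hle : U' ≤ q ⁻¹ᵁ U),
      𝒮'.toQCAlg.ι U' hU' ≫ Φ =
        Spec.map ((u.app (op U) : 𝒮.presheaf.obj (op U) ⟶ 𝒮'.presheaf.obj (op (q ⁻¹ᵁ U))) ≫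
          𝒮'.presheaf.map (homOfLE hle).op) ≫ 𝒮.toQCAlg.ι U hU) :
    (∀ (U : Y.Opens) (hU : IsAffineOpen U) (U' : Y'.Opens) (hU' : IsAffineOpen U') (hle : U' ≤ q ⁻¹ᵁ U),
        RelCone.domOpen (φ U hU U' hU' hle) = ⊤) ↔
      Φ ⁻¹ᵁ RelCone.pointedCone 𝒮 = RelCone.pointedCone 𝒮' := by
  have hpair : ∀ c' : 𝒮'.toQCAlg.spec, ∃ (U : Y.Opens) (hU : IsAffineOpen U) (U' : Y'.Opens)
      (hU' : IsAffineOpen U') (hle : U' ≤ q ⁻¹ᵁ U) (𝔭' : Spec (𝒮'.presheaf.obj (op U'))),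
      (𝒮'.toQCAlg.ι U' hU') 𝔭' = c' := by
    intro c'
    obtain ⟨U, hU, hyU, -⟩ :=
      exists_isAffineOpen_mem_and_subset (x := q (𝒮'.toQCAlg.π c')) (U := ⊤) trivial
    obtain ⟨U', hU', hyU', hsub⟩ :=
      exists_isAffineOpen_mem_and_subset (x := 𝒮'.toQCAlg.π c') (U := q ⁻¹ᵁ U) hyU
    have hle : U' ≤ q ⁻¹ᵁ U := hsub
    have : c' ∈ 𝒮'.toQCAlg.π ⁻¹ᵁ U' := hyU'
    rw [𝒮'.toQCAlg.π_preimage U' hU'] at this
    obtain ⟨𝔭', h𝔭'⟩ := this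
    exact ⟨U, hU, U', hU', hle, 𝔭', h𝔭'⟩
  have e1 : ∀ (U : Y.Opens) (hU : IsAffineOpen U) (U' : Y'.Opens) (hU' : IsAffineOpen U')
      (hle : U' ≤ q ⁻¹ᵁ U) (𝔭' : Spec (𝒮'.presheaf.obj (op U'))),
      Φ ((𝒮'.toQCAlg.ι U' hU') 𝔭') =
        (𝒮.toQCAlg.ι U hU) ((Spec.map ((u.app (op U) : 𝒮.presheaf.obj (op U) ⟶
          𝒮'.presheaf.obj (op (q ⁻¹ᵁ U))) ≫ 𝒮'.presheaf.map (homOfLE hle).op)) 𝔭') :=
    fun U hU U' hU' hle 𝔭' =>
      congrArg (fun φ : Spec (𝒮'.presheaf.obj (op U')) ⟶ 𝒮.toQCAlg.spec => φ 𝔭')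
        (hΦ U hU U' hU' hle)
  have h3 : ∀ (U : Y.Opens) (hU : IsAffineOpen U) (U' : Y'.Opens) (hU' : IsAffineOpen U')
      (hle : U' ≤ q ⁻¹ᵁ U) (f : 𝒮.presheaf.obj (op U)), (φ U hU U' hU' hle) f =
      ((u.app (op U) : 𝒮.presheaf.obj (op U) ⟶ 𝒮'.presheaf.obj (op (q ⁻¹ᵁ U))) ≫
        𝒮'.presheaf.map (homOfLE hle).op).hom f :=
    fun U hU U' hU' hle f => congrArg (fun ψ : _ →+* _ => ψ f) (hφ U hU U' hU' hle)
  constructor
  · intro hdom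
    apply le_antisymm (Groth.Agent.S8299.result q 𝒮 𝒮' h0 h0' u hu φ hφ Φ hΦ)
    intro c' hc'
    obtain ⟨U, hU, U', hU', hle, 𝔭', rfl⟩ := hpair c'
    rw [Groth.Agent.Lib.Helper27Cone.ι_mem_pointedCone_iff,
      Groth.Agent.Lib.Helper27Cone.mem_vertexCompl_iff] at hc'
    obtain ⟨f, hf, hfp⟩ := (Groth.Agent.Lib.Helper27Cone.domOpen_eq_top_iff _).mp
      (hdom U hU U' hU' hle) 𝔭'.asIdeal 𝔭'.isPrime hc'
    change Φ ((𝒮'.toQCAlg.ι U' hU') 𝔭') ∈ RelCone.pointedCone 𝒮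
    rw [e1 U hU U' hU' hle, Groth.Agent.Lib.Helper27Cone.ι_mem_pointedCone_iff,
      Groth.Agent.Lib.Helper27Cone.mem_vertexCompl_iff]
    intro hle'
    apply hfp
    rw [h3]
    exact hle' hf
  · intro heq U hU U' hU' hle
    rw [Groth.Agent.Lib.Helper27Cone.domOpen_eq_top_iff]
    intro 𝔭 h𝔭 hirr
    let 𝔭' : Spec (𝒮'.presheaf.obj (op U')) := ⟨𝔭, h𝔭⟩
    have hc' : (𝒮'.toQCAlg.ι U' hU') 𝔭' ∈ RelCone.pointedCone 𝒮' := by
      rw [Groth.Agent.Lib.Helper27Cone.ι_mem_pointedCone_iff,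
        Groth.Agent.Lib.Helper27Cone.mem_vertexCompl_iff]
      exact hirr
    rw [← heq] at hc'
    have hc'' : Φ ((𝒮'.toQCAlg.ι U' hU') 𝔭') ∈ RelCone.pointedCone 𝒮 := hc'
    rw [e1 U hU U' hU' hle, Groth.Agent.Lib.Helper27Cone.ι_mem_pointedCone_iff,
      Groth.Agent.Lib.Helper27Cone.mem_vertexCompl_iff] at hc''
    by_contra hcon
    push Not at hcon
    apply hc''
    intro f hf
    have := hcon f hf
    rw [h3] at this
    exact this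

end Groth.Agent.S8300
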