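import Groth.Statements.S8302
import Groth.Agent.Lib.Helper13RestrictBC
import Groth.Agent.Lib.Helper13ModBasis
-- import your own Groth.Agent.* helpers here

set_option autoImplicit false
universe u
open CategoryTheory CategoryTheory.Limits AlgebraicGeometry Opposite TopologicalSpace
noncomputable section
open EGA2

namespace Groth.Agent.S8302

open Groth.Agent.Helper13RestrictBC Groth.Agent.Helper13ModBasis

/-- locally equal sections are equal -/
theorem section_ext_local {X : Scheme.{u}} (M : X.Modules) {U : X.Opens} (s t : Γ(M, U))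
    (h : ∀ x ∈ U, ∃ (W : X.Opens) (hle : W ≤ U), x ∈ W ∧
      M.presheaf.map (homOfLE hle).op s = M.presheaf.map (homOfLE hle).op t) : s = t := by
  refine TopCat.Sheaf.eq_of_locally_eq' ⟨M.presheaf, M.isSheaf⟩
    (fun W : {W : X.Opens // ∃ hle : W ≤ U,
      M.presheaf.map (homOfLE hle).op s = M.presheaf.map (homOfLE hle).op t} => W.1) U
    (fun W => homOfLE W.2.choose) ?_ s t (fun W => W.2.choose_spec)
  intro x hx
  obtain ⟨W, hle, hxW, hW⟩ := h x hx
  exact Opens.mem_iSup.mpr ⟨⟨W, hle, hW⟩, hxW⟩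

theorem res_res {X : Scheme.{u}} (M : X.Modules) {A B C : X.Opens} (h1 : B ≤ A) (h2 : C ≤ B)
    (x : Γ(M, A)) :
    M.presheaf.map (homOfLE h2).op (M.presheaf.map (homOfLE h1).op x) =
      M.presheaf.map (homOfLE (h2.trans h1)).op x := by
  rw [← ConcreteCategory.comp_apply, ← Functor.map_comp]
  rfl

variable {X S : Scheme.{u}} (f : X ⟶ S) [IsAffineHom f] (F G : X.Modules)
  (w : (AMod.dirImg f).obj F ⟶ (AMod.dirImg f).obj G)

/-- sections of `w` over `U`, as an additive map -/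
def wU (U : S.Opens) : Γ(F, f ⁻¹ᵁ U) →+ Γ(G, f ⁻¹ᵁ U) :=
  (w.val.app (op U)).hom.toAddMonoidHom

theorem wU_smul (U : S.Opens) (r : Γ(X, f ⁻¹ᵁ U)) (x : Γ(F, f ⁻¹ᵁ U)) :
    wU f F G w U (r • x) = r • wU f F G w U x :=
  (w.val.app (op U)).hom.map_smul r x

theorem wU_res {U U' : S.Opens} (h : U' ≤ U) (x : Γ(F, f ⁻¹ᵁ U)) :
    wU f F G w U' (F.presheaf.map (homOfLE (f.preimage_mono h)).op x) =
      G.presheaf.map (homOfLE (f.preimage_mono h)).op (wU f F G w U x) :=
  PresheafOfModules.naturality_apply w.val (homOfLE h).op x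

section loc
variable [F.IsQuasicoherent] {U : S.Opens} (hU : IsAffineOpen U) {W : X.Opens} (hW : IsAffineOpen W)
  (hle : W ≤ f ⁻¹ᵁ U)

/-- the semilinear map `x ↦ w(x)|_W` -/
def lMap : Γ(F, f ⁻¹ᵁ U) →+ Γ(G, W) :=
  (G.presheaf.map (homOfLE hle).op).hom.comp (wU f F G w U)

theorem lMap_smul (r : Γ(X, f ⁻¹ᵁ U)) (x : Γ(F, f ⁻¹ᵁ U)) :
    lMap f F G w hle (r • x) =
      (X.presheaf.map (homOfLE hle).op r : Γ(X, W)) • lMap f F G w hle x := by
  unfold lMap
  rw [AddMonoidHom.comp_apply, AddMonoidHom.comp_apply, wU_smul]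
  exact Scheme.Modules.map_smul G (homOfLE hle) r _

include hU hW in
theorem exists_eLoc : ∃! l' : Γ(F, W) →ₗ[Γ(X, W)] Γ(G, W),
    ∀ x : Γ(F, f ⁻¹ᵁ U), l' (F.presheaf.map (homOfLE hle).op x) = lMap f F G w hle x :=
  existsUnique_restrict_lift F (hU.preimage f) hW hle Γ(G, W) (lMap f F G w hle)
    (lMap_smul f F G w hle)

/-- the local map `F(W) → G(W)` induced by `w` over `U` -/
def eLoc : Γ(F, W) →ₗ[Γ(X, W)] Γ(G, W) := (exists_eLoc f F G w hU hW hle).choose

theorem eLoc_spec (x : Γ(F, f ⁻¹ᵁ U)) :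
    eLoc f F G w hU hW hle (F.presheaf.map (homOfLE hle).op x) =
      G.presheaf.map (homOfLE hle).op (wU f F G w U x) :=
  (exists_eLoc f F G w hU hW hle).choose_spec.1 x

include hU hW in
/-- semilinear maps out of `F(W)` agreeing on restrictions from `f⁻¹U` are equal -/
theorem ext_of_restrict {N : Type u} [AddCommGroup N] (a₁ a₂ : Γ(F, W) →+ N)
    (ρ : Γ(X, W) → N → N)
    (h₁ : ∀ (r : Γ(X, W)) (y : Γ(F, W)), a₁ (r • y) = ρ r (a₁ y))
    (h₂ : ∀ (r : Γ(X, W)) (y : Γ(F, W)), a₂ (r • y) = ρ r (a₂ y))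
    (h : ∀ x : Γ(F, f ⁻¹ᵁ U), a₁ (F.presheaf.map (homOfLE hle).op x) =
      a₂ (F.presheaf.map (homOfLE hle).op x)) (y : Γ(F, W)) : a₁ y = a₂ y := by
  have hy : y ∈ Submodule.span Γ(X, W) (Set.range (F.presheaf.map (homOfLE hle).op).hom) := by
    rw [span_restrict_eq_top F (hU.preimage f) hW hle]
    trivial
  induction hy using Submodule.span_induction with
  | mem y hy =>
    obtain ⟨x, rfl⟩ := hy
    exact h x
  | zero => rw [map_zero, map_zero]
  | add y y' _ _ h1 h2 => rw [map_add, map_add, h1, h2]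
  | smul r y _ h1 => rw [h₁, h₂, h1]

end loc

section claims
variable [F.IsQuasicoherent] {U U' : S.Opens} (hU : IsAffineOpen U) (hU' : IsAffineOpen U')
  {W W' : X.Opens} (hW : IsAffineOpen W) (hW' : IsAffineOpen W')
  (hle : W ≤ f ⁻¹ᵁ U) (hle' : W' ≤ f ⁻¹ᵁ U')

/-- compatibility of the local maps with restriction, for `U' ≤ U` -/
theorem eLoc_res_of_le (hUU : U' ≤ U) (hWW : W' ≤ W) (y : Γ(F, W)) :
    G.presheaf.map (homOfLE hWW).op (eLoc f F G w hU hW hle y) =
      eLoc f F G w hU' hW' hle' (F.presheaf.map (homOfLE hWW).op y) := by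
  refine ext_of_restrict f F hU hW hle (N := Γ(G, W'))
    ((G.presheaf.map (homOfLE hWW).op).hom.comp (eLoc f F G w hU hW hle).toAddMonoidHom)
    ((eLoc f F G w hU' hW' hle').toAddMonoidHom.comp (F.presheaf.map (homOfLE hWW).op).hom)
    (fun r n => (X.presheaf.map (homOfLE hWW).op r : Γ(X, W')) • n) (fun r y => ?_) (fun r y => ?_)
    (fun x => ?_) y
  · rw [AddMonoidHom.comp_apply, AddMonoidHom.comp_apply, LinearMap.toAddMonoidHom_coe, map_smul]
    exact Scheme.Modules.map_smul G (homOfLE hWW) r _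
  · rw [AddMonoidHom.comp_apply, AddMonoidHom.comp_apply, LinearMap.toAddMonoidHom_coe]
    have e : (F.presheaf.map (homOfLE hWW).op).hom (r • y) =
        (X.presheaf.map (homOfLE hWW).op r : Γ(X, W')) • (F.presheaf.map (homOfLE hWW).op).hom y :=
      Scheme.Modules.map_smul F (homOfLE hWW) r y
    rw [e, map_smul]
  · rw [AddMonoidHom.comp_apply, AddMonoidHom.comp_apply, LinearMap.toAddMonoidHom_coe,
      LinearMap.toAddMonoidHom_coe]
    have e1 := eLoc_spec f F G w hU hW hle x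
    have e2 : (F.presheaf.map (homOfLE hWW).op).hom ((F.presheaf.map (homOfLE hle).op).hom x) =
        F.presheaf.map (homOfLE hle').op
          (F.presheaf.map (homOfLE (f.preimage_mono hUU)).op x) := by
      rw [res_res, res_res]
    have e3 := eLoc_spec f F G w hU' hW' hle' (F.presheaf.map (homOfLE (f.preimage_mono hUU)).op x)
    rw [wU_res f F G w hUU x] at e3
    rw [e2, e3]
    refine (congrArg (G.presheaf.map (homOfLE hWW).op).hom e1).trans ?_
    exact (res_res G hle hWW _).trans (res_res G (f.preimage_mono hUU) hle' _).symm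

/-- the local map does not depend on the affine open of `S` -/
theorem eLoc_indep (hle₂ : W ≤ f ⁻¹ᵁ U') :
    eLoc f F G w hU hW hle = eLoc f F G w hU' hW hle₂ := by
  refine LinearMap.ext fun y => ?_
  refine section_ext_local G _ _ fun p hp => ?_
  have hfp : f p ∈ U ⊓ U' := ⟨hle hp, hle₂ hp⟩
  obtain ⟨U'', hU'', hpU'', hU''le⟩ :=
    exists_isAffineOpen_mem_and_subset (x := f p) (U := U ⊓ U') hfp
  obtain ⟨W'', hW'', hpW'', hW''le⟩ :=
    exists_isAffineOpen_mem_and_subset (x := p) (U := W ⊓ f ⁻¹ᵁ U'') ⟨hp, hpU''⟩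
  have hWW : W'' ≤ W := hW''le.trans inf_le_left
  have hle'' : W'' ≤ f ⁻¹ᵁ U'' := hW''le.trans inf_le_right
  refine ⟨W'', hWW, hpW'', ?_⟩
  rw [eLoc_res_of_le f F G w hU hU'' hW hW'' hle hle'' (hU''le.trans inf_le_left) hWW,
    eLoc_res_of_le f F G w hU' hU'' hW hW'' hle₂ hle'' (hU''le.trans inf_le_right) hWW]

/-- naturality of the local maps -/
theorem eLoc_res (hWW : W' ≤ W) (y : Γ(F, W)) :
    G.presheaf.map (homOfLE hWW).op (eLoc f F G w hU hW hle y) =
      eLoc f F G w hU' hW' hle' (F.presheaf.map (homOfLE hWW).op y) := by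
  rw [eLoc_indep f F G w hU' hU hW' hle' (hWW.trans hle)]
  exact eLoc_res_of_le f F G w hU hU hW hW' hle (hWW.trans hle) le_rfl hWW y

end claims


theorem res_self {X : Scheme.{u}} (M : X.Modules) {A : X.Opens} (h : A ≤ A) (x : Γ(M, A)) :
    M.presheaf.map (homOfLE h).op x = x := by
  have : (homOfLE h).op = 𝟙 (op A) := rfl
  rw [this, M.presheaf.map_id]
  rfl

section glob
variable [F.IsQuasicoherent]

/-- the index type of the basis of small affine opens -/
abbrev Idx : Type u :=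
  {W : X.Opens // IsAffineOpen W ∧ ∃ U : S.Opens, IsAffineOpen U ∧ W ≤ f ⁻¹ᵁ U}

/-- the basis of small affine opens -/
abbrev Bf : Idx f → X.Opens := fun i => i.1

theorem isBasis_Bf : Opens.IsBasis (Set.range (Bf f)) := by
  rw [Opens.isBasis_iff_nbhd]
  intro W₀ p hp
  obtain ⟨U, hU, hpU, -⟩ := exists_isAffineOpen_mem_and_subset (x := f p) (U := ⊤) trivial
  obtain ⟨W, hW, hpW, hWle⟩ :=
    exists_isAffineOpen_mem_and_subset (x := p) (U := W₀ ⊓ f ⁻¹ᵁ U) ⟨hp, hpU⟩
  exact ⟨W, ⟨⟨W, hW, U, hU, hWle.trans inf_le_right⟩, rfl⟩, hpW, hWle.trans inf_le_left⟩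

/-- the local maps indexed by the basis -/
def dI (i : Idx f) : Γ(F, Bf f i) ⟶ Γ(G, Bf f i) :=
  AddCommGrpCat.ofHom
    (eLoc f F G w i.2.2.choose_spec.1 i.2.1 i.2.2.choose_spec.2).toAddMonoidHom

theorem dI_eq (i : Idx f) {U : S.Opens} (hU : IsAffineOpen U) (hle : i.1 ≤ f ⁻¹ᵁ U)
    (y : Γ(F, Bf f i)) : dI f F G w i y = eLoc f F G w hU i.2.1 hle y := by
  unfold dI
  rw [eLoc_indep f F G w i.2.2.choose_spec.1 hU i.2.1 i.2.2.choose_spec.2 hle]
  rfl

/-- the glued morphism -/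
def uHom : F ⟶ G :=
  homOfBasis (Bf f) (isBasis_Bf f) (dI f F G w)
    (fun i i' h => by
      ext y
      rw [ConcreteCategory.comp_apply, ConcreteCategory.comp_apply,
        dI_eq f F G w i' i'.2.2.choose_spec.1 i'.2.2.choose_spec.2,
        dI_eq f F G w i i.2.2.choose_spec.1 i.2.2.choose_spec.2]
      exact (eLoc_res f F G w i.2.2.choose_spec.1 i'.2.2.choose_spec.1 i.2.1 i'.2.1
        i.2.2.choose_spec.2 i'.2.2.choose_spec.2 h y).symm)
    (fun i a m => by
      rw [dI_eq f F G w i i.2.2.choose_spec.1 i.2.2.choose_spec.2,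
        dI_eq f F G w i i.2.2.choose_spec.1 i.2.2.choose_spec.2]
      exact (eLoc f F G w i.2.2.choose_spec.1 i.2.1 i.2.2.choose_spec.2).map_smul a m)

theorem uHom_app (i : Idx f) : (uHom f F G w).app (Bf f i) = dI f F G w i :=
  homOfBasis_app _ _ _ _ _ i

theorem uHom_spec (U : S.Opens) (x : Γ(F, f ⁻¹ᵁ U)) :
    (uHom f F G w).app (f ⁻¹ᵁ U) x = wU f F G w U x := by
  refine section_ext_local G _ _ fun p hp => ?_
  obtain ⟨U', hU', hpU', hU'le⟩ :=
    exists_isAffineOpen_mem_and_subset (x := f p) (U := U) hp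
  have hV' : IsAffineOpen (f ⁻¹ᵁ U') := hU'.preimage f
  refine ⟨f ⁻¹ᵁ U', f.preimage_mono hU'le, hpU', ?_⟩
  let i : Idx f := ⟨f ⁻¹ᵁ U', hV', U', hU', le_rfl⟩
  have n : G.presheaf.map (homOfLE (f.preimage_mono hU'le)).op ((uHom f F G w).app (f ⁻¹ᵁ U) x) =
      (uHom f F G w).app (f ⁻¹ᵁ U') (F.presheaf.map (homOfLE (f.preimage_mono hU'le)).op x) :=
    (CategoryTheory.congr_fun
      ((uHom f F G w).mapPresheaf.naturality (homOfLE (f.preimage_mono hU'le)).op) x).symm
  rw [n]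
  have e1 : ∀ y : Γ(F, f ⁻¹ᵁ U'), (uHom f F G w).app (f ⁻¹ᵁ U') y =
      eLoc f F G w hU' hV' le_rfl y := fun y =>
    (CategoryTheory.congr_fun (uHom_app f F G w i) y).trans (dI_eq f F G w i hU' le_rfl y)
  rw [e1]
  have e2 := eLoc_spec f F G w hU' hV' le_rfl
    (F.presheaf.map (homOfLE (f.preimage_mono hU'le)).op x)
  rw [res_self, res_self] at e2
  rw [← wU_res f F G w hU'le x]
  exact e2

end glob


/-- The case of a single scheme X affine over S and the identity morphism of X: let f : X → S be an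
affine morphism and F, G quasi-coherent O_X-modules. Then the direct image u ↦ f_*(u) is a bijection
from the set of O_X-module homomorphisms F → G onto the set of homomorphisms f_*F → f_*G of modules
over the direct-image algebra f_*O_X. -/
theorem result {X S : Scheme.{u}} (f : X ⟶ S) [IsAffineHom f]
    (F G : X.Modules) (hF : Coh.IsQCoh F) (hG : Coh.IsQCoh G) :
    Function.Bijective
      ((AMod.dirImg f).map : (F ⟶ G) → ((AMod.dirImg f).obj F ⟶ (AMod.dirImg f).obj G)) := by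
  haveI : F.IsQuasicoherent := hF
  constructor
  · intro u u' h
    have h1 : ∀ (U : S.Opens) (x : Γ(F, f ⁻¹ᵁ U)),
        u.app (f ⁻¹ᵁ U) x = u'.app (f ⁻¹ᵁ U) x := fun U x =>
      congrArg (fun t : (AMod.dirImg f).obj F ⟶ (AMod.dirImg f).obj G =>
        (t.val.app (op U)).hom x) h
    refine hom_ext_basis (Bf f) (isBasis_Bf f) u u' fun i => ?_
    ext y
    obtain ⟨W, hW, U, hU, hle⟩ := i
    refine ext_of_restrict f F hU hW hle (N := Γ(G, W)) (u.app W).hom (u'.app W).hom
      (fun r n => r • n) (fun r y => u.app_smul r y) (fun r y => u'.app_smul r y) (fun x => ?_) y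
    have n1 : (u.app W).hom (F.presheaf.map (homOfLE hle).op x) =
        G.presheaf.map (homOfLE hle).op (u.app (f ⁻¹ᵁ U) x) :=
      CategoryTheory.congr_fun (u.mapPresheaf.naturality (homOfLE hle).op) x
    have n2 : (u'.app W).hom (F.presheaf.map (homOfLE hle).op x) =
        G.presheaf.map (homOfLE hle).op (u'.app (f ⁻¹ᵁ U) x) :=
      CategoryTheory.congr_fun (u'.mapPresheaf.naturality (homOfLE hle).op) x
    rw [n1, n2, h1]
  · intro w
    refine ⟨uHom f F G w, ?_⟩
    apply SheafOfModules.hom_ext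
    apply PresheafOfModules.hom_ext
    intro U
    apply ModuleCat.hom_ext
    apply LinearMap.ext
    intro x
    exact uHom_spec f F G w U.unop x


end Groth.Agent.S8302
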