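import Groth.Statements.S8303
import Mathlib
import Groth.Agent.Lib.Helper20QCohAlgFT

set_option autoImplicit false
universe u
open CategoryTheory CategoryTheory.Limits AlgebraicGeometry Opposite TopologicalSpace
noncomputable section
open EGA2

namespace Groth.Agent.S8303
open CategoryTheory CategoryTheory.Limits AlgebraicGeometry Opposite TopologicalSpace
open EGA2
open Groth.Agent.Lib.Helper20.RestrictScalars Groth.Agent.Lib.Helper20.QCohAlg
  Groth.Agent.Lib.Helper20.FreeSec Groth.Agent.Lib.Helper20.QCohAlgFP Groth.Agent.Lib.Helper20.QCohAlgFT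

section
variable {X S : Scheme.{u}} (f : X ⟶ S) [IsAffineHom f]

noncomputable abbrev Bq := RelSpec.QCAlg.directImage f
noncomputable abbrev B' : Sheaf (Opens.grothendieckTopology S) CommRingCat.{u} :=
  ⟨(Bq f).presheaf, (Bq f).isSheaf⟩
noncomputable abbrev φ' : S.sheaf ⟶ B' f := ⟨(Bq f).str⟩

theorem isOpenCover_affine_le {ι : Type*} (W : ι → S.Opens) (hW : IsOpenCover W) :
    IsOpenCover (fun p : {p : S.affineOpens × ι // p.1.1 ≤ W p.2} => p.1.1.1) := by
  rw [IsOpenCover, eq_top_iff]
  intro x _
  have hx : x ∈ (⨆ i, W i : S.Opens) := by rw [hW.iSup_eq_top]; trivial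
  obtain ⟨i, hxi⟩ := Opens.mem_iSup.1 hx
  obtain ⟨W', hW', hxW, hWi⟩ := exists_isAffineOpen_mem_and_subset (x := x) (U := W i) hxi
  exact Opens.mem_iSup.2 ⟨⟨(⟨W', hW'⟩, i), hWi⟩, hxW⟩

end


/-- For the algebra f_*O_X of a scheme X affine over S: let f : X → S be an affine morphism and F a
quasi-coherent O_X-module. Then F is of finite type (locally on X generated by finitely many
sections) if and only if the direct image f_*F is of finite type as a module over the sheaf of rings
f_*O_X (locally on S generated by finitely many sections over f_*O_X). -/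
theorem result {X S : Scheme.{u}} (f : X ⟶ S) [IsAffineHom f]
    (F : X.Modules) (hF : Coh.IsQCoh F) :
    SheafOfModules.IsFiniteType.{u} (R := X.ringCatSheaf) F ↔
      SheafOfModules.IsFiniteType.{u} (R := AMod.ringSheaf (RelSpec.QCAlg.directImage f)) ((AMod.dirImg f).obj F) := by
  haveI : F.IsQuasicoherent := hF
  have hB : (modOf (B' f) (φ' f)).IsQuasicoherent :=
    Groth.Agent.Lib.Helper23.QCohLocal.isQuasicoherent_pushforward f (SheafOfModules.unit X.ringCatSheaf)
  let N : SheafOfModules.{u} (RB (B' f)) := (AMod.dirImg f).obj F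
  have hN : ((ρ (B' f) (φ' f)).obj N).IsQuasicoherent :=
    Groth.Agent.Lib.Helper23.QCohLocal.isQuasicoherent_pushforward f F
  have key : ∀ V : S.Opens, Module.Finite (((RB (B' f)).over V).obj.obj (op (T' V)))
      ((N.over V).val.obj (op (T' V))) ↔ Module.Finite Γ(X, f ⁻¹ᵁ V) Γ(F, f ⁻¹ᵁ V) := by
    intro V
    have h : f ⁻¹ᵁ (T' V).left = f ⁻¹ᵁ V := by rw [T'_left]
    exact Groth.Agent.Lib.Helper23.FinType.finite_iff_of_eq F h
  constructor
  · intro hFT
    haveI := hFT
    have hg : ∀ V : S.affineOpens, ∃ g : (N.over V.1).GeneratingSections, g.IsFiniteType := fun V =>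
      exists_finite_gens_over (B' f) (φ' f) V.1 hB N hN V.2
        ((key V.1).2 (Groth.Agent.Lib.Helper23.FinType.finite_of_isFiniteType F (V.2.preimage f)))
    let σ : SheafOfModules.LocalGeneratorsData.{u, u, u, u} N :=
      { I := S.affineOpens
        X := fun V => V.1
        coversTop := (Opens.coversTop_iff _ _).2 (iSup_affineOpens_eq_top S)
        generators := fun V => (hg V).choose }
    exact SheafOfModules.IsFiniteType.mk.{u, u, u} ⟨σ,
      SheafOfModules.LocalGeneratorsData.IsFiniteType.mk.{u, u, u, u} (fun V => (hg V).choose_spec)⟩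
  · intro hFT
    haveI : SheafOfModules.IsFiniteType.{u, u, u} N := hFT
    obtain ⟨σ, hσ⟩ := SheafOfModules.IsFiniteType.exists_localGeneratorsData.{u, u, u} N
    have hcov := isOpenCover_affine_le σ.X ((Opens.coversTop_iff _ σ.X).1 σ.coversTop)
    refine Groth.Agent.Lib.Helper23.FinType.isFiniteType_of_finite F
      (fun p : {p : S.affineOpens × σ.I // p.1.1 ≤ σ.X p.2} => f ⁻¹ᵁ p.1.1.1) ?_
      (fun p => p.1.1.2.preimage f) (fun p => ?_)
    · rw [IsOpenCover, eq_top_iff]
      intro x _
      have hx : f.base x ∈ (⨆ p : {p : S.affineOpens × σ.I // p.1.1 ≤ σ.X p.2}, p.1.1.1 : S.Opens) := by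
        rw [hcov.iSup_eq_top]; trivial
      obtain ⟨p, hp⟩ := Opens.mem_iSup.1 hx
      exact Opens.mem_iSup.2 ⟨p, hp⟩
    · haveI := hσ.isFiniteType p.1.2
      exact (key _).1 (finite_of_gens_over (B' f) (φ' f) p.1.1.1 hB N hN p.1.1.2
        (gensRestrict (B' f) N (homOfLE p.2) (σ.generators p.1.2)))

end Groth.Agent.S8303
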