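import Groth.Statements.S8304
import Groth.Agent.Lib.Helper13QCAlgPO
import Groth.Agent.Lib.Helper13ModAffine
-- import your own Groth.Agent.* helpers here

set_option autoImplicit false
universe u
open CategoryTheory CategoryTheory.Limits AlgebraicGeometry Opposite TopologicalSpace
open scoped HomogeneousIdeal
noncomputable section
open EGA2

namespace Groth.Agent.S8304

open Groth.Agent.Helper13QCAlgPO Groth.Agent.Helper13ModAffine

variable {Y : Scheme.{u}} {𝒮 𝒮h : RelProj.QCGrAlg Y}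
  {ι : 𝒮.toQCAlg ⟶ 𝒮h.toQCAlg} {z : 𝒮h.presheaf.obj (op ⊤)} (hz : RelCone.IsPolyOver 𝒮 𝒮h ι z)

theorem restrictTop_res {U V : Y.Opens} (h : V ≤ U) :
    (𝒮h.presheaf.map (homOfLE h).op).hom (RelCone.restrictTop 𝒮h z U) =
      RelCone.restrictTop 𝒮h z V := by
  unfold RelCone.restrictTop
  rw [← CommRingCat.comp_apply, ← Functor.map_comp]
  rfl

include hz in
theorem ringHom_ext_poly (U : Y.Opens) (hU : IsAffineOpen U) {R : Type u} [CommRing R]
    (g₁ g₂ : 𝒮h.presheaf.obj (op U) →+* R)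
    (h1 : ∀ a, g₁ ((ι.hom.app (op U)).hom a) = g₂ ((ι.hom.app (op U)).hom a))
    (h2 : g₁ (RelCone.restrictTop 𝒮h z U) = g₂ (RelCone.restrictTop 𝒮h z U)) : g₁ = g₂ := by
  have h3 : g₁.comp (Polynomial.eval₂RingHom (ι.hom.app (op U)).hom (RelCone.restrictTop 𝒮h z U)) =
      g₂.comp (Polynomial.eval₂RingHom (ι.hom.app (op U)).hom (RelCone.restrictTop 𝒮h z U)) := by
    refine Polynomial.ringHom_ext (fun a => ?_) ?_
    · simp only [RingHom.comp_apply, Polynomial.coe_eval₂RingHom, Polynomial.eval₂_C]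
      exact h1 a
    · simp only [RingHom.comp_apply, Polynomial.coe_eval₂RingHom, Polynomial.eval₂_X]
      exact h2
  refine RingHom.ext fun x => ?_
  obtain ⟨p, rfl⟩ := (hz.bij U hU).2 x
  exact RingHom.congr_fun h3 p

section build

variable (B : RelSpec.QCAlg Y) (ψ₁ : 𝒮.toQCAlg ⟶ B) (b : ∀ U : Y.Opens, B.presheaf.obj (op U))
  (hb : ∀ {U V : Y.Opens} (h : V ≤ U), (B.presheaf.map (homOfLE h).op).hom (b U) = b V)

/-- the extension over an affine open: `eval₂ ψ₁ b` through the polynomial presentation -/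
def dAff (U : Y.Opens) (hU : IsAffineOpen U) :
    𝒮h.presheaf.obj (op U) ⟶ B.presheaf.obj (op U) :=
  CommRingCat.ofHom ((Polynomial.eval₂RingHom (ψ₁.hom.app (op U)).hom (b U)).comp
    (hz.polyEquiv U hU).symm.toRingHom)

theorem dAff_poly (U : Y.Opens) (hU : IsAffineOpen U) (p : Polynomial (𝒮.presheaf.obj (op U))) :
    (dAff hz B ψ₁ b U hU).hom
      (Polynomial.eval₂ (ι.hom.app (op U)).hom (RelCone.restrictTop 𝒮h z U) p) =
      Polynomial.eval₂ (ψ₁.hom.app (op U)).hom (b U) p := by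
  rw [← RelCone.IsPolyOver.polyEquiv_apply hz U hU]
  unfold dAff
  rw [CommRingCat.hom_ofHom, RingHom.comp_apply]
  change Polynomial.eval₂RingHom _ _ ((hz.polyEquiv U hU).symm (hz.polyEquiv U hU p)) = _
  rw [RingEquiv.symm_apply_apply]
  rfl

theorem dAff_ι (U : Y.Opens) (hU : IsAffineOpen U) (a : 𝒮.presheaf.obj (op U)) :
    (dAff hz B ψ₁ b U hU).hom ((ι.hom.app (op U)).hom a) = (ψ₁.hom.app (op U)).hom a := by
  have := dAff_poly hz B ψ₁ b U hU (Polynomial.C a)
  rwa [Polynomial.eval₂_C, Polynomial.eval₂_C] at this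

theorem dAff_z (U : Y.Opens) (hU : IsAffineOpen U) :
    (dAff hz B ψ₁ b U hU).hom (RelCone.restrictTop 𝒮h z U) = b U := by
  have := dAff_poly hz B ψ₁ b U hU Polynomial.X
  rwa [Polynomial.eval₂_X, Polynomial.eval₂_X] at this

include hb in
theorem dAff_nat (U V : Y.Opens) (hU : IsAffineOpen U) (hV : IsAffineOpen V) (h : V ≤ U) :
    𝒮h.presheaf.map (homOfLE h).op ≫ dAff hz B ψ₁ b V hV =
      dAff hz B ψ₁ b U hU ≫ B.presheaf.map (homOfLE h).op := by
  ext1
  refine ringHom_ext_poly hz U hU _ _ (fun a => ?_) ?_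
  · rw [CommRingCat.hom_comp, CommRingCat.hom_comp, RingHom.comp_apply, RingHom.comp_apply, dAff_ι]
    have n1 := congrArg (fun t : 𝒮.presheaf.obj (op U) ⟶ _ => t.hom a)
      (ι.hom.naturality (homOfLE h).op)
    simp only [CommRingCat.hom_comp, RingHom.comp_apply] at n1
    rw [← n1, dAff_ι]
    have n2 := congrArg (fun t : 𝒮.presheaf.obj (op U) ⟶ _ => t.hom a)
      (ψ₁.hom.naturality (homOfLE h).op)
    simp only [CommRingCat.hom_comp, RingHom.comp_apply] at n2
    exact n2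
  · rw [CommRingCat.hom_comp, CommRingCat.hom_comp, RingHom.comp_apply, RingHom.comp_apply, dAff_z,
      restrictTop_res, dAff_z, hb]

/-- the extension as a map of presheaves -/
def ψHom : 𝒮h.presheaf ⟶ B.presheaf :=
  extendAffine B (fun U hU => dAff hz B ψ₁ b U hU)
    (fun U V hU hV h => dAff_nat hz B ψ₁ b hb U V hU hV h)

theorem ψHom_app (U : Y.Opens) (hU : IsAffineOpen U) :
    (ψHom hz B ψ₁ b hb).app (op U) = dAff hz B ψ₁ b U hU :=
  extendAffine_app B _ _ U hU

theorem ψHom_comm : 𝒮h.str ≫ ψHom hz B ψ₁ b hb = B.str := by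
  apply presheaf_hom_ext_affine B
  intro U hU
  rw [NatTrans.comp_app, ψHom_app hz B ψ₁ b hb U hU]
  ext1
  refine RingHom.ext fun r => ?_
  rw [CommRingCat.hom_comp, RingHom.comp_apply]
  have c1 := congrArg (fun t : Γ(Y, U) ⟶ _ => t.hom r) (NatTrans.congr_app ι.comm (op U))
  have c2 := congrArg (fun t : Γ(Y, U) ⟶ _ => t.hom r) (NatTrans.congr_app ψ₁.comm (op U))
  change (dAff hz B ψ₁ b U hU).hom ((𝒮h.toQCAlg.str.app (op U)).hom r) = _
  rw [← c1]
  change (dAff hz B ψ₁ b U hU).hom ((ι.hom.app (op U)).hom ((𝒮.toQCAlg.str.app (op U)).hom r)) = _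
  rw [dAff_ι, ← c2]
  rfl

/-- the extension as a homomorphism of quasi-coherent algebras -/
def ψ : 𝒮h.toQCAlg ⟶ B := ⟨ψHom hz B ψ₁ b hb, ψHom_comm hz B ψ₁ b hb⟩

theorem ι_ψ : ι ≫ ψ hz B ψ₁ b hb = ψ₁ := by
  apply RelSpec.QCAlg.hom_ext
  apply presheaf_hom_ext_affine B
  intro U hU
  change ι.hom.app (op U) ≫ (ψHom hz B ψ₁ b hb).app (op U) = _
  rw [ψHom_app hz B ψ₁ b hb U hU]
  ext1
  refine RingHom.ext fun a => ?_
  rw [CommRingCat.hom_comp, RingHom.comp_apply, dAff_ι]

theorem ψ_z (U : Y.Opens) (hU : IsAffineOpen U) :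
    ((ψ hz B ψ₁ b hb).hom.app (op U)).hom (RelCone.restrictTop 𝒮h z U) = b U := by
  change ((ψHom hz B ψ₁ b hb).app (op U)).hom _ = _
  rw [ψHom_app hz B ψ₁ b hb U hU, dAff_z]

include hz in
theorem ψ_unique (ψ' : 𝒮h.toQCAlg ⟶ B) (h1 : ι ≫ ψ' = ψ₁)
    (h2 : ∀ (U : Y.Opens) (_ : IsAffineOpen U),
      (ψ'.hom.app (op U)).hom (RelCone.restrictTop 𝒮h z U) = b U) :
    ψ' = ψ hz B ψ₁ b hb := by
  apply RelSpec.QCAlg.hom_ext
  apply presheaf_hom_ext_affine B
  intro U hU
  change ψ'.hom.app (op U) = (ψHom hz B ψ₁ b hb).app (op U)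
  rw [ψHom_app hz B ψ₁ b hb U hU]
  ext1
  refine ringHom_ext_poly hz U hU _ _ (fun a => ?_) ?_
  · rw [dAff_ι, ← h1]
    rfl
  · rw [dAff_z, h2 U hU]

end build

theorem unit_hom_ext {M : Y.Modules} (α β : Coh.structureModule Y ⟶ M)
    (h : ∀ (U : Y.Opens) (_ : IsAffineOpen U),
      (α.app U).hom (1 : Γ(Y, U)) = (β.app U).hom (1 : Γ(Y, U))) : α = β := by
  apply hom_ext_affine
  intro U hU
  ext r
  have e : (show Γ(Y, U) from r) • (show Γ(Coh.structureModule Y, U) from (1 : Γ(Y, U))) = r :=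
    mul_one (show Γ(Y, U) from r)
  have e1 := α.app_smul (show Γ(Y, U) from r) (show Γ(Coh.structureModule Y, U) from (1 : Γ(Y, U)))
  have e2 := β.app_smul (show Γ(Y, U) from r) (show Γ(Coh.structureModule Y, U) from (1 : Γ(Y, U)))
  rw [e] at e1 e2
  exact e1.trans ((congrArg _ (h U hU)).trans e2.symm)


/-- At the level of graded algebras: let E be a quasi-coherent O_Y-module and 𝒮 = Sym(E) its graded
symmetric algebra (j : E → 𝒮 landing in degree one), and let Ŝ = 𝒮[z] be given through a graded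
homomorphism ι : 𝒮 → Ŝ and a global section z of degree one with 𝒮(U)[X] → Ŝ(U), X ↦ z, bijective
over every affine open U. If k : O_Y → Ŝ is a module homomorphism sending the unit section to z over
every open, then Ŝ together with the map E ⊕ O_Y → Ŝ whose components are j followed by ι, and k, is
the graded symmetric algebra of E ⊕ O_Y. Consequently the projective cone of V(E) = Spec(Sym E),
which is Proj(Ŝ), is the projective bundle P(E ⊕ O_Y), and its locus at infinity Proj(𝒮) is P(E). -/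
theorem result {Y : Scheme.{u}} (E : Y.Modules) (hE : Coh.IsQCoh E)
    (𝒮 𝒮h : RelProj.QCGrAlg Y) (j : E ⟶ 𝒮.toModule) (hS : RelProj.IsGrSymAlg E 𝒮 j)
    (ι : 𝒮.toQCAlg ⟶ 𝒮h.toQCAlg) (z : 𝒮h.presheaf.obj (op ⊤)) (hz : RelCone.IsPolyOver 𝒮 𝒮h ι z)
    (k : Coh.structureModule Y ⟶ 𝒮h.toModule)
    (hk : ∀ U : Y.Opens, (k.app U) (1 : Γ(Y, U)) = RelCone.restrictTop 𝒮h z U) :
    RelProj.IsGrSymAlg (E ⊞ Coh.structureModule Y) 𝒮h
      (biprod.desc (j ≫ RelSpec.QCAlg.Hom.toModuleMap ι) k) := by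
  obtain ⟨hsym, hdeg⟩ := hS
  refine ⟨?_, ?_⟩
  · intro B φ
    obtain ⟨ψ₁, hψ₁, uψ₁⟩ := hsym B (biprod.inl ≫ φ)
    let b : ∀ U : Y.Opens, B.presheaf.obj (op U) :=
      fun U => ((biprod.inr ≫ φ).app U).hom (1 : Γ(Y, U))
    have hb : ∀ {U V : Y.Opens} (h : V ≤ U),
        (B.presheaf.map (homOfLE h).op).hom (b U) = b V := by
      intro U V h
      have n : ((biprod.inr ≫ φ).app V).hom
          (((Coh.structureModule Y).presheaf.map (homOfLE h).op).hom (1 : Γ(Y, U))) =
          (B.toModule.presheaf.map (homOfLE h).op).hom (((biprod.inr ≫ φ).app U).hom (1 : Γ(Y, U))) :=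
        CategoryTheory.congr_fun
          ((biprod.inr ≫ φ).mapPresheaf.naturality (homOfLE h).op) (1 : Γ(Y, U))
      have e1 : ((Coh.structureModule Y).presheaf.map (homOfLE h).op).hom (1 : Γ(Y, U)) =
          (1 : Γ(Y, V)) := map_one (Y.presheaf.map (homOfLE h).op).hom
      exact n.symm.trans (congrArg ((biprod.inr ≫ φ).app V).hom e1)
    refine ⟨ψ hz B ψ₁ b hb, ?_, ?_⟩
    · apply biprod.hom_ext'
      · rw [biprod.inl_desc_assoc, ← hψ₁, Category.assoc]
        congr 1
        have e : RelSpec.QCAlg.Hom.toModuleMap ι ≫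
            RelSpec.QCAlg.Hom.toModuleMap (ψ hz B ψ₁ b hb) =
            RelSpec.QCAlg.Hom.toModuleMap (ι ≫ ψ hz B ψ₁ b hb) := rfl
        rw [e, ι_ψ hz B ψ₁ b hb]
      · rw [biprod.inr_desc_assoc]
        apply unit_hom_ext
        intro U hU
        change ((ψ hz B ψ₁ b hb).hom.app (op U)).hom ((k.app U).hom (1 : Γ(Y, U))) = b U
        rw [← ψ_z hz B ψ₁ b hb U hU]
        congr 1
        exact hk U
    · intro ψ' hψ'
      apply ψ_unique hz B ψ₁ b hb ψ'
      · apply uψ₁
        rw [← hψ', biprod.inl_desc_assoc, Category.assoc]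
        rfl
      · intro U hU
        have e := congrArg (fun t : E ⊞ Coh.structureModule Y ⟶ B.toModule =>
          ((biprod.inr ≫ t).app U).hom (1 : Γ(Y, U))) hψ'
        simp only [biprod.inr_desc_assoc] at e
        rw [← hk U]
        exact e
  · intro U hU x
    have hx : ((biprod.inl : E ⟶ E ⊞ Coh.structureModule Y).app U).hom
          (((biprod.fst : E ⊞ Coh.structureModule Y ⟶ E).app U).hom x) +
        ((biprod.inr : Coh.structureModule Y ⟶ E ⊞ Coh.structureModule Y).app U).hom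
          (((biprod.snd : E ⊞ Coh.structureModule Y ⟶ Coh.structureModule Y).app U).hom x) = x :=
      congrArg (fun t : E ⊞ Coh.structureModule Y ⟶ E ⊞ Coh.structureModule Y => (t.app U).hom x)
        (biprod.total (X := E) (Y := Coh.structureModule Y))
    rw [← hx, map_add]
    refine AddSubgroup.add_mem _ ?_ ?_
    · have e : ((biprod.desc (j ≫ RelSpec.QCAlg.Hom.toModuleMap ι) k).app U).hom
          (((biprod.inl : E ⟶ E ⊞ Coh.structureModule Y).app U).hom
            (((biprod.fst : E ⊞ Coh.structureModule Y ⟶ E).app U).hom x)) =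
          (ι.hom.app (op U)).hom ((j.app U).hom
            (((biprod.fst : E ⊞ Coh.structureModule Y ⟶ E).app U).hom x)) :=
        congrArg (fun t : E ⟶ 𝒮h.toModule =>
          (t.app U).hom (((biprod.fst : E ⊞ Coh.structureModule Y ⟶ E).app U).hom x))
          (biprod.inl_desc (j ≫ RelSpec.QCAlg.Hom.toModuleMap ι) k)
      refine (congrArg (· ∈ 𝒮h.deg U hU 1) e).mpr ?_
      exact hz.graded U hU 1 _ (hdeg U hU _)
    · obtain ⟨c, hc⟩ : ∃ c : Γ(Y, U), c =
          ((biprod.snd : E ⊞ Coh.structureModule Y ⟶ Coh.structureModule Y).app U).hom x := ⟨_, rfl⟩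
      have e : ((biprod.desc (j ≫ RelSpec.QCAlg.Hom.toModuleMap ι) k).app U).hom
          (((biprod.inr : Coh.structureModule Y ⟶ E ⊞ Coh.structureModule Y).app U).hom
            (((biprod.snd : E ⊞ Coh.structureModule Y ⟶ Coh.structureModule Y).app U).hom x)) =
          (𝒮h.str.app (op U)).hom c * RelCone.restrictTop 𝒮h z U := by
        have e0 : ((biprod.desc (j ≫ RelSpec.QCAlg.Hom.toModuleMap ι) k).app U).hom
            (((biprod.inr : Coh.structureModule Y ⟶ E ⊞ Coh.structureModule Y).app U).hom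
              (((biprod.snd : E ⊞ Coh.structureModule Y ⟶ Coh.structureModule Y).app U).hom x)) =
            (k.app U).hom
              (((biprod.snd : E ⊞ Coh.structureModule Y ⟶ Coh.structureModule Y).app U).hom x) :=
          congrArg (fun t : Coh.structureModule Y ⟶ 𝒮h.toModule =>
            (t.app U).hom
              (((biprod.snd : E ⊞ Coh.structureModule Y ⟶ Coh.structureModule Y).app U).hom x))
            (biprod.inr_desc (j ≫ RelSpec.QCAlg.Hom.toModuleMap ι) k)
        rw [e0, ← hc]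
        have e1 : c • (show Γ(Coh.structureModule Y, U) from (1 : Γ(Y, U))) = c := mul_one c
        have e2 := k.app_smul c (show Γ(Coh.structureModule Y, U) from (1 : Γ(Y, U)))
        rw [e1] at e2
        refine e2.trans ?_
        have e3 : (k.app U).hom (show Γ(Coh.structureModule Y, U) from (1 : Γ(Y, U))) =
            RelCone.restrictTop 𝒮h z U := hk U
        rw [e3]
        rfl
      refine (congrArg (· ∈ 𝒮h.deg U hU 1) e).mpr ?_
      have := SetLike.mul_mem_graded (𝒮h.str_mem U hU c) (hz.deg_z U hU)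
      rwa [zero_add] at this


end Groth.Agent.S8304
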