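import Groth.Statements.S8305
import Groth.Agent.Lib.Helper13QCohIso
-- import your own Groth.Agent.* helpers here

set_option autoImplicit false
universe u
open CategoryTheory CategoryTheory.Limits AlgebraicGeometry Opposite TopologicalSpace
noncomputable section
open EGA2

namespace Groth.Agent.S8305

open Groth.Agent.Helper13QCohIso

theorem algHom_app {X Y S : Scheme.{u}} (gX : X ⟶ S) (h : Y ⟶ X) (U : S.Opens) :
    (AffAlg.algHom gX (h ≫ gX) h rfl).app (op U) = h.app (gX ⁻¹ᵁ U) := by
  simp [AffAlg.algHom]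
  rfl

theorem isIso_app_of_eq {X Y : Scheme.{u}} (h : Y ⟶ X) {W V : X.Opens} (e : W = V)
    (hi : IsIso (h.app V)) : IsIso (h.app W) := by
  subst e; exact hi

set_option backward.isDefEq.respectTransparency false in
theorem result_aux {X Y S : Scheme.{u}} (gX : X ⟶ S) [IsAffineHom gX]
    (gY : Y ⟶ S) [IsAffineHom gY] (h : Y ⟶ X) (hh : h ≫ gX = gY)
    (F : X.Modules) (G : Y.Modules) (hF : Coh.IsQCoh F) (hG : Coh.IsQCoh G)
    (v : F ⟶ (Scheme.Modules.pushforward h).obj G) :
    (IsIso h ∧ IsIso v) ↔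
      (IsIso (AffAlg.algHom gX gY h hh) ∧ IsIso ((Scheme.Modules.pushforward gX).map v)) := by
  subst hh
  haveI hF' : F.IsQuasicoherent := hF
  haveI hG' : G.IsQuasicoherent := hG
  constructor
  · rintro ⟨h1, h2⟩
    refine ⟨?_, inferInstance⟩
    rw [NatTrans.isIso_iff_isIso_app]
    intro U
    rw [show U = op U.unop from rfl, algHom_app]
    infer_instance
  · rintro ⟨h1, h2⟩
    have hiso : IsIso h := by
      refine HasAffineProperty.of_iSup_eq_top (P := MorphismProperty.isomorphisms Scheme)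
        (fun i : S.affineOpens => (⟨gX ⁻¹ᵁ i.1, i.2.preimage gX⟩ : X.affineOpens)) ?_
        (fun i => ⟨?_, ?_⟩)
      · simp only
        rw [← Scheme.Hom.preimage_iSup, iSup_affineOpens_eq_top, Scheme.Hom.preimage_top]
      · exact i.2.preimage (h ≫ gX)
      · simp only [Opens.map_top, morphismRestrict_app]
        refine IsIso.comp_isIso' ?_ inferInstance
        refine isIso_app_of_eq h (V := gX ⁻¹ᵁ i.1) (by simp) ?_
        rw [← algHom_app]
        infer_instance
    refine ⟨hiso, ?_⟩
    have : ((Scheme.Modules.pushforward h).obj G).IsQuasicoherent :=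
      Groth.Agent.Lib.Helper23.QCohLocal.isQuasicoherent_pushforward h G
    let ι : Type u := {W : X.Opens // ∃ U : S.Opens, IsAffineOpen U ∧ W ≤ gX ⁻¹ᵁ U}
    refine Groth.Agent.Helper13AffBC.isIso_of_bijective_on_basis v (fun i : ι => i.1) ?_ ?_
    · rw [Opens.isBasis_iff_nbhd]
      intro W x hxW
      obtain ⟨U, hU, hxU, -⟩ := exists_isAffineOpen_mem_and_subset (x := gX x) (U := ⊤) trivial
      exact ⟨W ⊓ gX ⁻¹ᵁ U, ⟨⟨W ⊓ gX ⁻¹ᵁ U, U, hU, inf_le_right⟩, rfl⟩, ⟨hxW, hxU⟩, inf_le_left⟩
    · rintro ⟨W, U, hU, hle⟩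
      refine bijective_app_of_le (hU.preimage gX) F _ v ?_ W hle
      have h3 := (Scheme.Modules.Hom.isIso_iff_isIso_app
        (φ := (Scheme.Modules.pushforward gX).map v)).1 h2 U
      rw [ConcreteCategory.isIso_iff_bijective] at h3
      exact h3


/-- Let X and Y be schemes affine over S with structure morphisms gX and gY, h : Y → X a morphism over
S, F a quasi-coherent O_X-module, G a quasi-coherent O_Y-module and v : F → h_*G a homomorphism of
O_X-modules, so that (h, v) is a morphism of pairs (Y, G) → (X, F). Then h and v are isomorphisms if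
and only if the direct-image algebra homomorphism A(h) : gX_*O_X → gY_*O_Y and the direct image A(v)
= gX_*(v) : gX_*F → gX_*h_*G are isomorphisms (the pair (A(h), A(v)) is a di-isomorphism). -/
theorem result {X Y S : Scheme.{u}} (gX : X ⟶ S) [IsAffineHom gX]
    (gY : Y ⟶ S) [IsAffineHom gY] (h : Y ⟶ X) (hh : h ≫ gX = gY)
    (F : X.Modules) (G : Y.Modules) (hF : Coh.IsQCoh F) (hG : Coh.IsQCoh G)
    (v : F ⟶ (Scheme.Modules.pushforward h).obj G) :
    (IsIso h ∧ IsIso v) ↔
      (IsIso (AffAlg.algHom gX gY h hh) ∧ IsIso ((Scheme.Modules.pushforward gX).map v)) := result_aux gX gY h hh F G hF hG v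

end Groth.Agent.S8305
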