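import Groth.Statements.S8312
import Mathlib

set_option autoImplicit false
universe u
open scoped HomogeneousIdeal
open EGA2

namespace Groth.Agent.S8312

section Dev
open DirectSum

variable {R A B : Type u} [CommRing R] [CommRing A] [Algebra R A]
    (𝒜 : ℕ → Submodule R A) [GradedAlgebra 𝒜] [CommRing B] [Algebra R B] (ℬ : ℕ → Submodule R B) [GradedAlgebra ℬ]
    (φ : B →ₐ[R] Polynomial A) (hφ : Function.Injective φ)
    (hdeg : ∀ n : ℕ, Submodule.map φ.toLinearMap (ℬ n) =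
      Submodule.map ((Polynomial.monomial n : A →ₗ[A] Polynomial A).restrictScalars R) (⨆ (m : ℕ) (_ : n ≤ m), 𝒜 m))
    {ι : Type u} (d : ι → ℕ) (hd : ∀ a, 0 < d a) (f : ι → A) (hf : ∀ a, f a ∈ 𝒜 (d a))
    (hrad : ∀ g ∈ (HomogeneousIdeal.irrelevant 𝒜).toIdeal, ∃ n : ℕ, 0 < n ∧ g ^ n ∈ Ideal.span (Set.range f))
    (fn : ι → B) (hfn : ∀ a, φ (fn a) = Polynomial.monomial (d a) (f a))

include hdeg in
/-- elements `e X^n` with `e ∈ 𝒜 m`, `n ≤ m` lift to `ℬ n`. -/
theorem exists_lift {n m : ℕ} (hnm : n ≤ m) {e : A} (he : e ∈ 𝒜 m) :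
    ∃ b ∈ ℬ n, φ b = Polynomial.monomial n e := by
  have : Polynomial.monomial n e ∈ Submodule.map φ.toLinearMap (ℬ n) := by
    rw [hdeg]
    refine ⟨e, ?_, rfl⟩
    exact Submodule.mem_iSup_of_mem m (Submodule.mem_iSup_of_mem hnm he)
  obtain ⟨b, hb, hbe⟩ := this
  exact ⟨b, hb, hbe⟩

include hφ hdeg hf hrad hfn in
theorem bihom {n m : ℕ} (hn : 0 < n) (hnm : n ≤ m) {s : A} (hs : s ∈ 𝒜 m) :
    ∃ b ∈ (Ideal.span (Set.range fn)).radical, φ b = Polynomial.monomial n s := by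
  classical
  obtain ⟨b, -, hb⟩ := exists_lift 𝒜 ℬ φ hdeg hnm hs
  refine ⟨b, ?_, hb⟩
  have hsirr : s ∈ (HomogeneousIdeal.irrelevant 𝒜).toIdeal :=
    HomogeneousIdeal.mem_irrelevant_of_mem 𝒜 (lt_of_lt_of_le hn hnm) hs
  obtain ⟨N, hN, hsN⟩ := hrad s hsirr
  obtain ⟨c, hc⟩ := Finsupp.mem_ideal_span_range_iff_exists_finsupp.mp hsN
  set T := c.support with hT
  set D := T.sup d with hD
  set E := N * (D + 1) with hE
  have hNE : N ≤ E := Nat.le_mul_of_pos_right N (Nat.succ_pos D)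
  have hDE : D < n * E := by
    have h1 : D + 1 ≤ E := Nat.le_mul_of_pos_left (D + 1) hN
    have h2 : E ≤ n * E := Nat.le_mul_of_pos_left E hn
    omega
  have hdα : ∀ α ∈ T, d α ≤ n * E := fun α hα =>
    (Finset.le_sup (f := d) hα).trans hDE.le
  have hnmE : n * E ≤ m * E := Nat.mul_le_mul_right E hnm
  -- s^E = Σ (s^(E-N) c α) f α
  have h1 : s ^ E = ∑ α ∈ T, (s ^ (E - N) * c α) * f α := by
    have : s ^ E = s ^ (E - N) * s ^ N := by rw [← pow_add, Nat.sub_add_cancel hNE]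
    rw [this, ← hc, Finsupp.sum, Finset.mul_sum]
    exact Finset.sum_congr rfl (fun α _ => by ring)
  have hsE : s ^ E ∈ 𝒜 (m * E) := by
    have := SetLike.pow_mem_graded E hs
    rwa [smul_eq_mul, mul_comm] at this
  -- project onto degree m * E
  have h2 : s ^ E = ∑ α ∈ T, (decompose 𝒜 (s ^ (E - N) * c α) (m * E - d α) : A) * f α := by
    have h3 := congrArg (fun x => GradedRing.proj 𝒜 (m * E) x) h1
    simp only [map_sum, GradedRing.proj_apply] at h3
    rw [decompose_of_mem_same 𝒜 hsE] at h3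
    rw [h3]
    refine Finset.sum_congr rfl (fun α hα => ?_)
    exact coe_decompose_mul_of_right_mem_of_le 𝒜 (hf α) ((hdα α hα).trans hnmE)
  -- lift each coefficient
  have h4 : ∀ α ∈ T, ∃ β : B, φ β =
      Polynomial.monomial (n * E - d α) (decompose 𝒜 (s ^ (E - N) * c α) (m * E - d α) : A) := by
    intro α _
    obtain ⟨β, -, hβ⟩ := exists_lift 𝒜 ℬ φ hdeg (n := n * E - d α) (m := m * E - d α)
      (Nat.sub_le_sub_right hnmE _) (SetLike.coe_mem _)
    exact ⟨β, hβ⟩
  choose! β hβ using h4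
  have h5 : b ^ E = ∑ α ∈ T, β α * fn α := by
    apply hφ
    rw [map_pow, hb, Polynomial.monomial_pow, map_sum, h2, map_sum]
    refine Finset.sum_congr rfl (fun α hα => ?_)
    rw [map_mul φ, hβ α hα, hfn, Polynomial.monomial_mul_monomial,
      Nat.sub_add_cancel (hdα α hα)]
  refine ⟨E, ?_⟩
  rw [h5]
  exact Ideal.sum_mem _ (fun α _ => Ideal.mul_mem_left _ _ (Ideal.subset_span ⟨α, rfl⟩))

include hφ hdeg hf hrad hfn in
theorem main : ∀ g ∈ (HomogeneousIdeal.irrelevant ℬ).toIdeal,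
    ∃ n : ℕ, 0 < n ∧ g ^ n ∈ Ideal.span (Set.range fn) := by
  have hle : (HomogeneousIdeal.irrelevant ℬ).toIdeal ≤ (Ideal.span (Set.range fn)).radical := by
    rw [HomogeneousIdeal.toIdeal_irrelevant_le]
    intro n hn b hb
    show b ∈ (Ideal.span (Set.range fn)).radical
    -- φ b = monomial n s with s in the sup
    have hb' : φ b ∈ Submodule.map φ.toLinearMap (ℬ n) := ⟨b, hb, rfl⟩
    rw [hdeg] at hb'
    obtain ⟨s, hs, hsb⟩ := hb'
    -- induction on s
    have key : ∀ s ∈ (⨆ (m : ℕ) (_ : n ≤ m), 𝒜 m),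
        ∃ b' ∈ (Ideal.span (Set.range fn)).radical, φ b' = Polynomial.monomial n s := by
      intro s hs
      refine Submodule.iSup_induction _ (motive := fun s =>
        ∃ b' ∈ (Ideal.span (Set.range fn)).radical, φ b' = Polynomial.monomial n s) hs ?_ ?_ ?_
      · intro m s hs
        refine Submodule.iSup_induction _ (motive := fun s =>
          ∃ b' ∈ (Ideal.span (Set.range fn)).radical, φ b' = Polynomial.monomial n s) hs ?_ ?_ ?_
        · intro hnm s hs
          exact bihom 𝒜 ℬ φ hφ hdeg d f hf hrad fn hfn hn hnm hs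
        · exact ⟨0, Ideal.zero_mem _, by simp⟩
        · rintro x y ⟨bx, hbx, hx⟩ ⟨by', hby, hy⟩
          exact ⟨bx + by', Ideal.add_mem _ hbx hby, by rw [map_add, hx, hy, map_add]⟩
      · exact ⟨0, Ideal.zero_mem _, by simp⟩
      · rintro x y ⟨bx, hbx, hx⟩ ⟨by', hby, hy⟩
        exact ⟨bx + by', Ideal.add_mem _ hbx hby, by rw [map_add, hx, hy, map_add]⟩
    obtain ⟨b', hb'rad, hb'φ⟩ := key s hs
    have : b' = b := hφ (by rw [hb'φ]; exact hsb)
    rw [← this]; exact hb'rad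
  intro g hg
  obtain ⟨k, hk⟩ := hle hg
  refine ⟨k + 1, Nat.succ_pos k, ?_⟩
  rw [pow_succ]
  exact Ideal.mul_mem_right _ _ hk


end Dev

/-- Let S be a positively graded ring (an ℕ-graded R-algebra) and S♮ the graded ring with S♮_n = S_[n] =
⊕_{m ≥ n} S_m, presented as a graded ring S' with an injective algebra homomorphism φ : S' → S[X]
carrying S'_n onto S_[n]·X^n; for a homogeneous f ∈ S_d write f♮ for the element of S' with φ(f♮) =
f·X^d (f placed in degree d of S♮). If (f_α) is a family of homogeneous elements of S of positive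
degrees such that every element of the irrelevant ideal S_+ has a positive power in the ideal
generated by the f_α (that is, S_+ is the radical in S_+ of that ideal), then every element of the
irrelevant ideal S'_+ has a positive power in the ideal of S' generated by the f_α♮. -/
theorem result {R A B : Type u} [CommRing R] [CommRing A] [Algebra R A]
    (𝒜 : ℕ → Submodule R A) [GradedAlgebra 𝒜] [CommRing B] [Algebra R B] (ℬ : ℕ → Submodule R B) [GradedAlgebra ℬ]
    (φ : B →ₐ[R] Polynomial A) (hφ : Function.Injective φ)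
    (hdeg : ∀ n : ℕ, Submodule.map φ.toLinearMap (ℬ n) =
      Submodule.map ((Polynomial.monomial n : A →ₗ[A] Polynomial A).restrictScalars R) (⨆ (m : ℕ) (_ : n ≤ m), 𝒜 m))
    {ι : Type u} (d : ι → ℕ) (hd : ∀ a, 0 < d a) (f : ι → A) (hf : ∀ a, f a ∈ 𝒜 (d a))
    (hrad : ∀ g ∈ (HomogeneousIdeal.irrelevant 𝒜).toIdeal, ∃ n : ℕ, 0 < n ∧ g ^ n ∈ Ideal.span (Set.range f))
    (fn : ι → B) (hfn : ∀ a, φ (fn a) = Polynomial.monomial (d a) (f a)) :
    ∀ g ∈ (HomogeneousIdeal.irrelevant ℬ).toIdeal, ∃ n : ℕ, 0 < n ∧ g ^ n ∈ Ideal.span (Set.range fn) := by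
  exact main 𝒜 ℬ φ hφ hdeg d f hf hrad fn hfn

end Groth.Agent.S8312
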