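import Groth.Statements.S8329
import Groth.Agent.Lib.Helper2RelTildeGlue

set_option autoImplicit false
universe u
open CategoryTheory CategoryTheory.Limits AlgebraicGeometry Opposite TopologicalSpace
open scoped HomogeneousIdeal
noncomputable section
open EGA2

namespace Groth.Agent.S8329

theorem locMap_locModMap {Y : Scheme.{u}} {𝒮 : RelProj.QCGrAlg Y} (ℳ 𝒩 : RelProj.GrModule 𝒮)
    (u : ℳ.mod ⟶ 𝒩.mod) (U : Y.Opens) (hU : IsAffineOpen U) (r : Γ(Y, U))
    (y' : ProjectiveSpectrum (𝒮.deg (Y.basicOpen r) (hU.basicOpen r)))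
    (q : GrMod.LocMod (𝒮.deg U hU) (M := ℳ.mod.val.obj (op U)) (ProjectiveSpectrum.comap
      (𝒮.res hU (hU.basicOpen r) (Y.basicOpen_le r)) (𝒮.irrelevant_le_map U hU r) y')) :
    GrMod.locMap (show ℳ.mod.val.obj (op (Y.basicOpen r)) →ₗ[𝒮.presheaf.obj (op (Y.basicOpen r))]
        𝒩.mod.val.obj (op (Y.basicOpen r)) from (u.val.app (op (Y.basicOpen r))).hom) y'
      (GrMod.locModMap (𝒮.res hU (hU.basicOpen r) (Y.basicOpen_le r)) (𝒮.irrelevant_le_map U hU r)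
        (ℳ.res hU (hU.basicOpen r) (Y.basicOpen_le r)) y' q) =
    GrMod.locModMap (𝒮.res hU (hU.basicOpen r) (Y.basicOpen_le r)) (𝒮.irrelevant_le_map U hU r)
        (𝒩.res hU (hU.basicOpen r) (Y.basicOpen_le r)) y'
      (GrMod.locMap (show ℳ.mod.val.obj (op U) →ₗ[𝒮.presheaf.obj (op U)] 𝒩.mod.val.obj (op U) from
        (u.val.app (op U)).hom) _ q) := by
  induction q using LocalizedModule.induction_on with
  | h m s =>
    rw [GrMod.locModMap_mk, GrMod.locMap_mk, GrMod.locMap_mk, GrMod.locModMap_mk]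
    congr 1
    exact PresheafOfModules.naturality_apply u.val (homOfLE (Y.basicOpen_le r)).op m

/-- A degree-preserving homomorphism u : ℳ → 𝒩 of quasi-coherent graded 𝒮-modules induces exactly one
O_P-module map ũ : (ℳ(n))~ → (𝒩(n))~ on P = Proj(𝒮) that agrees, under the chartwise identifications
over every affine open U of Y, with the morphism of modules on Proj 𝒮(U) induced by u(U). -/
theorem result {Y P : Scheme.{u}} (𝒮 : RelProj.QCGrAlg Y) (p : P ⟶ Y)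
    (chart : ∀ (U : Y.Opens) (hU : IsAffineOpen U), (((p ⁻¹ᵁ U : P.Opens) : Scheme.{u}) ≅ Proj (𝒮.deg U hU)))
    (hP : RelProj.IsRelProj 𝒮 p chart) (ℳ 𝒩 : RelProj.GrModule 𝒮)
    (hℳ : Coh.IsQCoh ((AMod.toOS 𝒮.toQCAlg).obj ℳ.mod)) (h𝒩 : Coh.IsQCoh ((AMod.toOS 𝒮.toQCAlg).obj 𝒩.mod))
    (u : ℳ.mod ⟶ 𝒩.mod) (hu : RelProj.IsGrModHom u) (n : ℤ) (F : P.Modules)
    (lam : ∀ (U : Y.Opens) (hU : IsAffineOpen U),
      F ⟶ (Scheme.Modules.pushforward (RelProj.emb p chart U hU)).obj (GrMod.tilde (𝒮.deg U hU) (ℳ.deg U hU) n))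
    (hF : RelProj.IsRelTilde 𝒮 p chart ℳ n F lam) (G : P.Modules)
    (lam' : ∀ (U : Y.Opens) (hU : IsAffineOpen U),
      G ⟶ (Scheme.Modules.pushforward (RelProj.emb p chart U hU)).obj (GrMod.tilde (𝒮.deg U hU) (𝒩.deg U hU) n))
    (hG : RelProj.IsRelTilde 𝒮 p chart 𝒩 n G lam') :
    ∃! ut : F ⟶ G, ∀ (U : Y.Opens) (hU : IsAffineOpen U),
      ut ≫ lam' U hU =
        lam U hU ≫ (Scheme.Modules.pushforward (RelProj.emb p chart U hU)).map
          (GrMod.map (𝒮.deg U hU)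
            (show ℳ.mod.val.obj (op U) →ₗ[𝒮.presheaf.obj (op U)] 𝒩.mod.val.obj (op U) from (u.val.app (op U)).hom)
            (hu U hU) n) := by
  refine Groth.Agent.Lib.Helper2.RelTildeGlue.existsUnique_glue p chart ℳ 𝒩 n F G lam lam'
    (fun U hU => GrMod.map (𝒮.deg U hU)
      (show ℳ.mod.val.obj (op U) →ₗ[𝒮.presheaf.obj (op U)] 𝒩.mod.val.obj (op U) from (u.val.app (op U)).hom)
      (hu U hU) n) hF hG ?_ h𝒩 hP
  intro U hU r O O' s s' y' hy' hy h
  rw [GrMod.map_app_val, GrMod.map_app_val, h]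
  exact locMap_locModMap ℳ 𝒩 u U hU r y' _

end Groth.Agent.S8329
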