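import Groth.Statements.S8340
import Groth.Agent.Lib.Helper2RelTwistInv

set_option autoImplicit false
universe u
open CategoryTheory CategoryTheory.Limits AlgebraicGeometry Opposite TopologicalSpace
open scoped HomogeneousIdeal
noncomputable section
open EGA2

namespace Groth.Agent.S8340

open Groth.Agent.Lib.Helper2.RelTildeQCoh Groth.Agent.Lib.Helper23.SecTw Groth.Agent.Lib.Helper6
  Groth.Agent.Lib.Helper2.Push Groth.Agent.Lib.Helper2.RelTwistGen Groth.Agent.Lib.Helper2.IsGenCover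
  Groth.Agent.Lib.Helper2.RelTwistTriv Groth.Agent.Lib.Helper2.RelTwistTensor RelProj in
theorem aux {Y X : Scheme.{u}} (𝒮 : RelProj.QCGrAlg Y) (q : X ⟶ Y)
    (chart : ∀ (U : Y.Opens) (hU : IsAffineOpen U), (((q ⁻¹ᵁ U : X.Opens) : Scheme.{u}) ≅ Proj (𝒮.deg U hU)))
    (x : X) : ∃ (V : Y.affineOpens) (d : ℕ) (f : 𝒮.presheaf.obj (op V.1)), 0 < d ∧
      f ∈ 𝒮.deg V.1 V.2 d ∧
      x ∈ (RelProj.emb q chart V.1 V.2) ''ᵁ (Proj.basicOpen (𝒮.deg V.1 V.2) f) := by
  obtain ⟨V, hxV⟩ := exists_affine_mem_preimage q x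
  obtain ⟨y, hy⟩ := le_opensRange_emb q chart V.1 V.2 hxV
  have hy' : (RelProj.emb q chart V.1 V.2) y = x := hy
  obtain ⟨d, f, hd, hf, hfy⟩ :=
    Groth.Agent.Lib.Helper2GrModSect.exists_homogeneous_pos_not_mem (𝒮.deg V.1 V.2) y
  exact ⟨V, d, f, hd, hf, ⟨y, (ProjectiveSpectrum.mem_basicOpen _ f y).mpr hfy, hy'⟩⟩

/-- For a quasi-compact open U of X = Proj(𝒮), 𝒮 any quasi-coherent positively graded O_Y-algebra, there
is d > 0 such that for every n divisible by d the module O_X(−n)|U is an inverse of O_X(n)|U: the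
tensor product O_X(n)|U ⊗ O_X(−n)|U is isomorphic to O_U (existence of an isomorphism; the twisting
sheaves are given through their chartwise identifications). -/
theorem result {Y X : Scheme.{u}} (𝒮 : RelProj.QCGrAlg Y) (q : X ⟶ Y)
    (chart : ∀ (U : Y.Opens) (hU : IsAffineOpen U), (((q ⁻¹ᵁ U : X.Opens) : Scheme.{u}) ≅ Proj (𝒮.deg U hU)))
    (hX : RelProj.IsRelProj 𝒮 q chart) (U : X.Opens) (hU : IsCompact (U : Set X)) :
    ∃ d : ℕ, 0 < d ∧ ∀ (n : ℤ), (d : ℤ) ∣ n →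
      ∀ (L : X.Modules)
        (lam : ∀ (V : Y.Opens) (hV : IsAffineOpen V),
          L ⟶ (Scheme.Modules.pushforward (RelProj.emb q chart V hV)).obj (GrTwist.twist (𝒮.deg V hV) n)),
        RelProj.IsRelTwist 𝒮 q chart n L lam →
      ∀ (L' : X.Modules)
        (lam' : ∀ (V : Y.Opens) (hV : IsAffineOpen V),
          L' ⟶ (Scheme.Modules.pushforward (RelProj.emb q chart V hV)).obj (GrTwist.twist (𝒮.deg V hV) (-n))),
        RelProj.IsRelTwist 𝒮 q chart (-n) L' lam' →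
          Nonempty (CohB1.tensorMod (L.restrict U.ι) (L'.restrict U.ι) ≅ Coh.structureModule (U : Scheme.{u})) := by
  choose V d f hd hf hx using aux 𝒮 q chart
  obtain ⟨t, ht⟩ := hU.elim_finite_subcover
    (fun x => (((RelProj.emb q chart (V x).1 (V x).2) ''ᵁ
      (Proj.basicOpen (𝒮.deg (V x).1 (V x).2) (f x)) : X.Opens) : Set X))
    (fun x => ((RelProj.emb q chart (V x).1 (V x).2) ''ᵁ
      (Proj.basicOpen (𝒮.deg (V x).1 (V x).2) (f x))).2)
    (fun z _ => Set.mem_iUnion.mpr ⟨z, hx z⟩)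
  refine ⟨∏ x ∈ t, d x, Finset.prod_pos (fun x _ => hd x), ?_⟩
  intro n hn L lam hL L' lam' hL'
  apply Groth.Agent.Lib.Helper2.RelTwistInv.nonempty_restrict_tensor_iso q chart n L lam hL L' lam' hL' hX U
  intro z hz
  obtain ⟨x, hxt, hzx⟩ : ∃ x ∈ t, z ∈ (RelProj.emb q chart (V x).1 (V x).2) ''ᵁ
      (Proj.basicOpen (𝒮.deg (V x).1 (V x).2) (f x)) := by
    have := ht hz
    simp only [Set.mem_iUnion] at this
    obtain ⟨x, hxt, hzx⟩ := this
    exact ⟨x, hxt, hzx⟩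
  have hdn : (d x : ℤ) ∣ n :=
    dvd_trans (by exact_mod_cast Finset.dvd_prod_of_mem d hxt) hn
  obtain ⟨m, hm⟩ := hdn
  exact ⟨V x, d x, f x, m, hf x, by rw [hm, mul_comm], hzx⟩

end Groth.Agent.S8340
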