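import Groth.Statements.S8345
import Groth.Agent.Lib.Helper2Constr

set_option autoImplicit false
universe u
open ConstrTop

namespace Groth.Agent.S8345

open TopologicalSpace in
/-- Suppose X is a topological space that is Noetherian. Then a subset s of X is constructible exactly
when s can be written as the union of finitely many locally closed subsets of X. -/
theorem result {X : Type u} [TopologicalSpace X]
    [NoetherianSpace X] (s : Set X) :
    Topology.IsConstructible s ↔
      ∃ (n : ℕ) (Z : Fin n → Set X), (∀ i, IsLocallyClosed (Z i)) ∧ s = ⋃ i, Z i := by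
  constructor
  · intro hs
    refine Groth.Agent.Lib.Helper2.Constr.sdiff_union_induction
      (P := fun s => ∃ (n : ℕ) (Z : Fin n → Set X), (∀ i, IsLocallyClosed (Z i)) ∧ s = ⋃ i, Z i)
      ?_ ?_ hs
    · intro U V hU _ hV _
      refine ⟨1, fun _ => U \ V, fun _ => ?_, ?_⟩
      · rw [Set.sdiff_eq]
        exact hU.isLocallyClosed.inter hV.isClosed_compl.isLocallyClosed
      · ext z; simp
    · rintro s t ⟨n₁, Z₁, h1, rfl⟩ ⟨n₂, Z₂, h2, rfl⟩
      refine ⟨n₁ + n₂, Fin.append Z₁ Z₂, ?_, ?_⟩
      · intro i
        refine Fin.addCases (fun j => ?_) (fun j => ?_) i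
        · rw [Fin.append_left]; exact h1 j
        · rw [Fin.append_right]; exact h2 j
      · ext z
        simp only [Set.mem_union, Set.mem_iUnion]
        constructor
        · rintro (⟨j, hj⟩ | ⟨j, hj⟩)
          · exact ⟨Fin.castAdd n₂ j, by rw [Fin.append_left]; exact hj⟩
          · exact ⟨Fin.natAdd n₁ j, by rw [Fin.append_right]; exact hj⟩
        · rintro ⟨i, hi⟩
          revert hi
          refine Fin.addCases (fun j => ?_) (fun j => ?_) i
          · rw [Fin.append_left]; exact fun hj => Or.inl ⟨j, hj⟩
          · rw [Fin.append_right]; exact fun hj => Or.inr ⟨j, hj⟩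
  · rintro ⟨n, Z, hZ, rfl⟩
    apply Topology.IsConstructible.iUnion
    intro i
    obtain ⟨U, C, hU, hC, hUC⟩ := hZ i
    rw [hUC]
    exact (Groth.Agent.Lib.Helper2.Constr.isConstructible_of_isOpen hU).inter
      (Groth.Agent.Lib.Helper2.Constr.isConstructible_of_isClosed hC)

end Groth.Agent.S8345
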