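import Groth.Statements.S8346
import Groth.Agent.Lib.Helper2Constr

set_option autoImplicit false
universe u
open ConstrTop

namespace Groth.Agent.S8346

open TopologicalSpace in
/-- Let X be a topological space admitting a basis of open subsets which are retrocompact in X. Then
every locally constructible subset T of X is retrocompact in X. -/
theorem result {X : Type u} [TopologicalSpace X]
    {B : Set (Set X)} (hB : IsTopologicalBasis B) (hBr : ∀ U ∈ B, IsRetrocompact U) {T : Set X}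
    (hT : Topology.IsLocallyConstructible T) : IsRetrocompact T := by
  intro W hWc hWo
  -- local pieces
  have hloc : ∀ x : W, ∃ V : Set X, V ∈ B ∧ (x : X) ∈ V ∧ V ⊆ W ∧ IsCompact (T ∩ V) := by
    rintro ⟨x, hxW⟩
    obtain ⟨U, hUx, hUo, hUc⟩ := hT x
    obtain ⟨V, hVB, hxV, hVsub⟩ := hB.exists_subset_of_mem_open
      (⟨mem_of_mem_nhds hUx, hxW⟩ : x ∈ U ∩ W) (hUo.inter hWo)
    have hVU : V ⊆ U := hVsub.trans Set.inter_subset_left
    have hVW : V ⊆ W := hVsub.trans Set.inter_subset_right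
    refine ⟨V, hVB, hxV, hVW, ?_⟩
    have hVo : IsOpen V := hB.isOpen hVB
    have hVc : IsCompact V := by
      have := hBr V hVB hWc hWo
      rwa [Set.inter_eq_left.mpr hVW] at this
    have hr : IsRetrocompact (Subtype.val ⁻¹' T : Set U) :=
      Groth.Agent.Lib.Helper2.Constr.isRetrocompact_of_isConstructible hUc
    have hVUc : IsCompact (Subtype.val ⁻¹' V : Set U) :=
      (Topology.IsInducing.subtypeVal.isCompact_preimage_iff
        (by rw [Subtype.range_coe]; exact hVU)).mpr hVc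
    have hVUo : IsOpen (Subtype.val ⁻¹' V : Set U) := hVo.preimage continuous_subtype_val
    have hcomp := (hr hVUc hVUo).image continuous_subtype_val
    have heq : Subtype.val '' ((Subtype.val ⁻¹' T : Set U) ∩ (Subtype.val ⁻¹' V : Set U)) = T ∩ V := by
      ext z
      constructor
      · rintro ⟨y, ⟨hyT, hyV⟩, rfl⟩
        exact ⟨hyT, hyV⟩
      · rintro ⟨hzT, hzV⟩
        exact ⟨⟨z, hVU hzV⟩, ⟨hzT, hzV⟩, rfl⟩
    rwa [heq] at hcomp
  choose V hVB hxV hVW hVc using hloc
  obtain ⟨t, ht⟩ := hWc.elim_finite_subcover (fun x : W => V x) (fun x => hB.isOpen (hVB x))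
    (fun x hx => Set.mem_iUnion.mpr ⟨⟨x, hx⟩, hxV ⟨x, hx⟩⟩)
  have heq : T ∩ W = ⋃ i ∈ t, (T ∩ V i) := by
    ext z
    simp only [Set.mem_inter_iff, Set.mem_iUnion, exists_prop]
    constructor
    · rintro ⟨hzT, hzW⟩
      obtain ⟨i, hi, hzi⟩ := Set.mem_iUnion₂.mp (ht hzW)
      exact ⟨i, hi, hzT, hzi⟩
    · rintro ⟨i, _, hzT, hzi⟩
      exact ⟨hzT, hVW i hzi⟩
  rw [heq]
  exact t.isCompact_biUnion (fun i _ => hVc i)

end Groth.Agent.S8346
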