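import Groth.Statements.S8348
import Mathlib.Algebra.Homology.HomologicalComplexLimits
import Mathlib.CategoryTheory.Abelian.Basic
import Mathlib.CategoryTheory.Preadditive.Injective.Basic
-- import your own Groth.Agent.* helpers here

set_option autoImplicit false
universe v u
open CategoryTheory CategoryTheory.Limits
open HomAlg3

namespace Groth.Agent.S8348

section

variable {C : Type u} [Category.{v} C] [Abelian C] (Q : CochainComplex C ℕ)

/-- if `H^{i+1}(Q) = 0` then `Q^i ⟶ Z^{i+1}(Q)` is an epimorphism -/
lemma epi_toCycles (i : ℕ) (h : IsZero (Q.homology (i + 1))) : Epi (Q.toCycles i (i + 1)) :=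
  Preadditive.epi_of_isZero_cokernel' _ (Q.homologyIsCokernel i (i + 1) (CochainComplex.prev_nat_succ i)) h

lemma iCycles_toCycles (i : ℕ) : Q.iCycles i ≫ Q.toCycles i (i + 1) = 0 := by
  rw [← cancel_mono (Q.iCycles (i + 1)), Category.assoc, HomologicalComplex.toCycles_i,
    HomologicalComplex.iCycles_d, zero_comp]

/-- the section `Z^{i+1} ⟶ Q^i` complementary to a retraction `r` of `Z^i ⟶ Q^i` -/
lemma exists_section (i : ℕ) (h : IsZero (Q.homology (i + 1))) (r : Q.X i ⟶ Q.cycles i)
    (hr : Q.iCycles i ≫ r = 𝟙 _) :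
    ∃ s : Q.cycles (i + 1) ⟶ Q.X i, Q.toCycles i (i + 1) ≫ s = 𝟙 _ - r ≫ Q.iCycles i ∧
      s ≫ Q.toCycles i (i + 1) = 𝟙 _ := by
  have := epi_toCycles Q i h
  have hk : kernel.ι (Q.toCycles i (i + 1)) ≫ (𝟙 _ - r ≫ Q.iCycles i) = 0 := by
    have h1 : kernel.ι (Q.toCycles i (i + 1)) ≫ Q.d i (i + 1) = 0 := by
      rw [← HomologicalComplex.toCycles_i, ← Category.assoc, kernel.condition, zero_comp]
    have h2 : kernel.ι (Q.toCycles i (i + 1)) =
        Q.liftCycles (kernel.ι (Q.toCycles i (i + 1))) (i + 1) (CochainComplex.next ℕ i) h1 ≫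
          Q.iCycles i := (HomologicalComplex.liftCycles_i _ _ _ _ _).symm
    rw [h2, Category.assoc, Preadditive.comp_sub, Category.comp_id, ← Category.assoc (Q.iCycles i),
      hr, Category.id_comp, sub_self, comp_zero]
  refine ⟨Abelian.epiDesc _ _ hk, Abelian.comp_epiDesc _ _ hk, ?_⟩
  rw [← cancel_epi (Q.toCycles i (i + 1)), ← Category.assoc, Abelian.comp_epiDesc,
    Preadditive.sub_comp, Category.id_comp, Category.comp_id, Category.assoc, iCycles_toCycles,
    comp_zero, sub_zero]

end

/-- Let C be an abelian category and Q a cochain complex of objects of C in degrees 0, 1, 2, ... such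
that every Q^i is injective, every homology object H^i(Q) with i ≥ 1 is zero, and every inclusion of
the cycles Z^i(Q) into Q^i (i ≥ 0) is a split monomorphism. Then Q is an injective object of the
category of cochain complexes of C indexed by the natural numbers. (The published statement is for
the narrower class of complexes with Z^i(Q) = B^i(Q) for every i ≥ 0, which in degree 0, where there
is no incoming differential, forces Z^0(Q) = 0; this row allows a nonzero Z^0(Q), so that it pairs
with the embedding of an arbitrary complex into such a Q. Such a Q is the direct sum of Z^0(Q)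
placed in degree 0 and of the two-term complexes with Z^{i+1}(Q) in degrees i and i+1 and the
identity as differential, and the published argument carries over with Z^i(Q) in place of B^i(Q) as
the first summand of Q^i.) -/
theorem result {C : Type u} [Category.{v} C] [Abelian C]
    (Q : CochainComplex C ℕ) (hinj : ∀ i : ℕ, Injective (Q.X i)) (hac : ∀ i : ℕ, IsZero (Q.homology (i + 1)))
    (hsplit : ∀ i : ℕ, IsSplitMono (Q.iCycles i)) : Injective Q := by
  -- retractions and sections
  let r : ∀ i, Q.X i ⟶ Q.cycles i := fun i => haveI := hsplit i; retraction (Q.iCycles i)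
  have hr : ∀ i, Q.iCycles i ≫ r i = 𝟙 _ := fun i => by
    have := hsplit i
    exact IsSplitMono.id (Q.iCycles i)
  choose s hs1 hs2 using fun i => exists_section Q i (hac i) (r i) (hr i)
  have hsd : ∀ i, s i ≫ Q.d i (i + 1) = Q.iCycles (i + 1) := fun i => by
    rw [← HomologicalComplex.toCycles_i, ← Category.assoc, hs2, Category.id_comp]
  refine ⟨fun {A B} g ι _ => ?_⟩
  -- extend the components `a i = g i ≫ r i`
  let a' : ∀ i, B.X i ⟶ Q.cycles i := fun i =>
    haveI := hinj i
    Injective.factorThru (g.f i) (ι.f i) ≫ r i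
  have ha' : ∀ i, ι.f i ≫ a' i = g.f i ≫ r i := fun i => by
    have := hinj i
    rw [← Category.assoc, Injective.comp_factorThru]
  refine ⟨{ f := fun i => a' i ≫ Q.iCycles i + B.d i (i + 1) ≫ a' (i + 1) ≫ s i
            comm' := ?_ }, ?_⟩
  · intro i j hij
    obtain rfl : i + 1 = j := hij
    simp only [Preadditive.add_comp, Preadditive.comp_add, Category.assoc,
      HomologicalComplex.iCycles_d, comp_zero, zero_add, hsd, HomologicalComplex.d_comp_d_assoc,
      zero_comp, add_zero]
  · ext i
    have hgt : g.f i ≫ Q.toCycles i (i + 1) = A.d i (i + 1) ≫ g.f (i + 1) ≫ r (i + 1) := by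
      have h1 : g.f i ≫ Q.toCycles i (i + 1) ≫ Q.iCycles (i + 1) = A.d i (i + 1) ≫ g.f (i + 1) := by
        rw [HomologicalComplex.toCycles_i, g.comm]
      calc g.f i ≫ Q.toCycles i (i + 1)
          = (g.f i ≫ Q.toCycles i (i + 1) ≫ Q.iCycles (i + 1)) ≫ r (i + 1) := by
            simp only [Category.assoc, hr, Category.comp_id]
        _ = _ := by rw [h1, Category.assoc]
    have hdec : g.f i = (g.f i ≫ r i) ≫ Q.iCycles i + (g.f i ≫ Q.toCycles i (i + 1)) ≫ s i := by
      rw [Category.assoc, Category.assoc, hs1, Preadditive.comp_sub, Category.comp_id]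
      abel
    change ι.f i ≫ (a' i ≫ Q.iCycles i + B.d i (i + 1) ≫ a' (i + 1) ≫ s i) = g.f i
    have h3 : ι.f i ≫ B.d i (i + 1) ≫ a' (i + 1) ≫ s i =
        A.d i (i + 1) ≫ (g.f (i + 1) ≫ r (i + 1)) ≫ s i := by
      rw [← Category.assoc, ι.comm, Category.assoc, ← Category.assoc (ι.f (i + 1)), ha']
    rw [Preadditive.comp_add, ← Category.assoc, ha', h3]
    conv_rhs => rw [hdec, hgt]
    simp only [Category.assoc]

end Groth.Agent.S8348
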