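import Groth.Statements.S8349
import Mathlib.Algebra.Homology.HomologicalComplexLimits
import Mathlib.CategoryTheory.Abelian.Refinements
import Mathlib.CategoryTheory.Preadditive.Injective.Basic
import Mathlib.Algebra.Homology.ShortComplex.HomologicalComplex
-- import your own Groth.Agent.* helpers here

set_option autoImplicit false
universe v u
open CategoryTheory CategoryTheory.Limits
open HomAlg3

namespace Groth.Agent.S8349

section

variable {C : Type u} [Category.{v} C] [Abelian C] (I : ℕ → C)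

/-- the differential `(x, y) ↦ (y, 0)` on `I i ⊞ I (i+1)` -/
noncomputable def dd (i : ℕ) : (I i ⊞ I (i + 1)) ⟶ (I (i + 1) ⊞ I (i + 1 + 1)) :=
  biprod.snd ≫ biprod.inl

lemma dd_dd (i : ℕ) : dd I i ≫ dd I (i + 1) = 0 := by
  simp [dd]

/-- the split acyclic complex with terms `I i ⊞ I (i+1)` -/
noncomputable def QQ : CochainComplex C ℕ :=
  CochainComplex.of (fun i => I i ⊞ I (i + 1)) (dd I) (dd_dd I)

noncomputable def p1 (i : ℕ) : (QQ I).X i ⟶ I i := (biprod.fst : I i ⊞ I (i + 1) ⟶ I i)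
noncomputable def p2 (i : ℕ) : (QQ I).X i ⟶ I (i + 1) := (biprod.snd : I i ⊞ I (i + 1) ⟶ I (i + 1))
noncomputable def j1 (i : ℕ) : I i ⟶ (QQ I).X i := (biprod.inl : I i ⟶ I i ⊞ I (i + 1))
noncomputable def j2 (i : ℕ) : I (i + 1) ⟶ (QQ I).X i := (biprod.inr : I (i + 1) ⟶ I i ⊞ I (i + 1))

@[reassoc (attr := simp)] lemma j1_p1 (i : ℕ) : j1 I i ≫ p1 I i = 𝟙 _ := biprod.inl_fst
@[reassoc (attr := simp)] lemma j1_p2 (i : ℕ) : j1 I i ≫ p2 I i = 0 := biprod.inl_snd
@[reassoc (attr := simp)] lemma j2_p1 (i : ℕ) : j2 I i ≫ p1 I i = 0 := biprod.inr_fst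
@[reassoc (attr := simp)] lemma j2_p2 (i : ℕ) : j2 I i ≫ p2 I i = 𝟙 _ := biprod.inr_snd
lemma total (i : ℕ) : p1 I i ≫ j1 I i + p2 I i ≫ j2 I i = 𝟙 _ := biprod.total

instance (i : ℕ) : Mono (j1 I i) := mono_of_mono_fac (j1_p1 I i)

lemma QQ_d (i : ℕ) : (QQ I).d i (i + 1) = p2 I i ≫ j1 I (i + 1) := by
  change CochainComplex.of.d (fun i => I i ⊞ I (i + 1)) (dd I) i (i + 1) = _
  rw [CochainComplex.of_d]
  rfl

lemma hom_ext' {A : C} {i : ℕ} (x y : A ⟶ (QQ I).X i) (h1 : x ≫ p1 I i = y ≫ p1 I i)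
    (h2 : x ≫ p2 I i = y ≫ p2 I i) : x = y := by
  have hx : x = x ≫ (p1 I i ≫ j1 I i + p2 I i ≫ j2 I i) := by rw [total, Category.comp_id]
  have hy : y = y ≫ (p1 I i ≫ j1 I i + p2 I i ≫ j2 I i) := by rw [total, Category.comp_id]
  rw [hx, hy, Preadditive.comp_add, Preadditive.comp_add, ← Category.assoc, ← Category.assoc,
    ← Category.assoc, ← Category.assoc, h1, h2]

lemma isZero_homology (i : ℕ) : IsZero ((QQ I).homology (i + 1)) := by
  rw [← HomologicalComplex.exactAt_iff_isZero_homology,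
    HomologicalComplex.exactAt_iff' _ i (i + 1) (i + 1 + 1) (CochainComplex.prev_nat_succ i)
      (CochainComplex.next ℕ (i + 1)),
    ShortComplex.exact_iff_exact_up_to_refinements]
  intro A (x₂ : A ⟶ (QQ I).X (i + 1)) hx₂
  change x₂ ≫ (QQ I).d (i + 1) (i + 1 + 1) = 0 at hx₂
  rw [QQ_d, ← Category.assoc] at hx₂
  have h1 : x₂ ≫ p2 I (i + 1) = 0 := by
    rw [← cancel_mono (j1 I (i + 1 + 1)), hx₂, zero_comp]
  refine ⟨A, 𝟙 A, inferInstance, (x₂ ≫ p1 I (i + 1)) ≫ j2 I i, ?_⟩
  change 𝟙 A ≫ x₂ = ((x₂ ≫ p1 I (i + 1)) ≫ j2 I i) ≫ (QQ I).d i (i + 1)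
  rw [QQ_d, Category.id_comp]
  apply hom_ext'
  · simp
  · simp [h1]

lemma isSplitMono_iCycles (i : ℕ) : IsSplitMono ((QQ I).iCycles i) := by
  have h0 : (p1 I i ≫ j1 I i) ≫ (QQ I).d i (i + 1) = 0 := by
    rw [QQ_d]
    simp
  have h1 : (QQ I).iCycles i ≫ p2 I i = 0 := by
    have := (QQ I).iCycles_d i (i + 1)
    rw [QQ_d, ← Category.assoc] at this
    rw [← cancel_mono (j1 I (i + 1)), zero_comp]
    exact this
  refine ⟨⟨⟨(QQ I).liftCycles (p1 I i ≫ j1 I i) (i + 1) (CochainComplex.next ℕ i) h0, ?_⟩⟩⟩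
  rw [← cancel_mono ((QQ I).iCycles i), Category.assoc, HomologicalComplex.liftCycles_i,
    Category.id_comp]
  apply hom_ext'
  · simp
  · simp [h1]

end

/-- Let C be an abelian category in which every object embeds in an injective object, and let A be a
cochain complex of objects of C in degrees 0, 1, 2, .... Then there are a cochain complex Q, with
every Q^i injective, H^i(Q) = 0 for every i ≥ 1 and every cycle inclusion Z^i(Q) ⟶ Q^i (i ≥ 0) a
split monomorphism, and a monomorphism of complexes A ⟶ Q. (The published statement asks Z^i(Q) =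
B^i(Q) for every i ≥ 0; in degree 0, where there is no incoming differential, this makes Z^0(Q) = 0,
and then no complex with nonzero degree-0 cycles, for instance a nonzero object placed in degree 0,
embeds in such a Q, because the degree-0 component of a chain map into Q factors through Z^0(Q).
This row asks vanishing homology in positive degrees only; the published construction, which embeds
each A^i in an injective I^i and takes Q^i = I^i ⊕ I^{i+1}, proves that version once an injective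
I^0 containing A^0 is used in degree 0 as well.) -/
theorem result {C : Type u} [Category.{v} C] [Abelian C]
    [EnoughInjectives C] (A : CochainComplex C ℕ) :
    ∃ (Q : CochainComplex C ℕ) (f : A ⟶ Q), Mono f ∧ (∀ i : ℕ, Injective (Q.X i)) ∧
      (∀ i : ℕ, IsZero (Q.homology (i + 1))) ∧ ∀ i : ℕ, IsSplitMono (Q.iCycles i) := by
  let I : ℕ → C := fun i => Injective.under (A.X i)
  let e : ∀ i, A.X i ⟶ I i := fun i => Injective.ι (A.X i)
  let f : A ⟶ QQ I :=
    { f := fun i => e i ≫ j1 I i + (A.d i (i + 1) ≫ e (i + 1)) ≫ j2 I i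
      comm' := by
        intro i j hij
        obtain rfl : i + 1 = j := hij
        rw [QQ_d]
        apply hom_ext'
        · simp
        · simp }
  refine ⟨QQ I, f, ?_, ?_, isZero_homology I, isSplitMono_iCycles I⟩
  · apply HomologicalComplex.mono_of_mono_f
    intro i
    have h : f.f i ≫ p1 I i = e i := by
      change (e i ≫ j1 I i + (A.d i (i + 1) ≫ e (i + 1)) ≫ j2 I i) ≫ p1 I i = e i
      simp
    have : Mono (f.f i ≫ p1 I i) := by
      rw [h]
      infer_instance
    exact mono_of_mono (f.f i) (p1 I i)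
  · intro i
    change Injective (I i ⊞ I (i + 1))
    infer_instance

end Groth.Agent.S8349
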