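import Groth.Statements.S8351
import Groth.Agent.Lib.Helper17Hyp34
import Groth.Agent.S12229
-- import your own Groth.Agent.* helpers here

set_option autoImplicit false
universe u
open CategoryTheory CategoryTheory.Limits TopologicalSpace
open CohCx

namespace Groth.Agent.S8351

/-- For abelian sheaves on topological spaces and a complex bounded below. Let f : X ⟶ Y be a continuous
map and K a bounded below complex of abelian sheaves on X. For every p, the p-th cohomology sheaf of
the derived direct image R f_*(K) (bounded below right derived functor of f_*, computed with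
injective resolutions) is isomorphic to the sheaf associated with the presheaf U ↦ H^p(f⁻¹(U), K) on
Y, where H^p(V, K) denotes hypercohomology (morphisms from the free abelian sheaf on V to K[p] in
the derived category). (The published statement is for modules over arbitrary ringed spaces,
complexes unbounded via Cartan-Eilenberg resolutions, and a canonical isomorphism; here only the
existence of an isomorphism is asserted, and the derived categories are assumed to exist with
morphism types in the universe of X and Y.) -/
theorem result {X Y : TopCat.{u}} (f : X ⟶ Y)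
    [HasDerivedCategory.{u} (CohTop.Ab X)] [HasDerivedCategory.{u} (CohTop.Ab Y)]
    (K : CochainComplex.Plus (CohTop.Ab X)) (p : ℤ) :
    Nonempty ((DerivedCategory.Plus.homologyFunctor (CohTop.Ab Y) p).obj
        ((CohTop.push f).rightDerivedFunctorPlus.obj
          (DerivedCategory.Plus.Qh.obj ((HomotopyCategory.Plus.quotient (CohTop.Ab X)).obj K))) ≅
      (presheafToSheaf (Opens.grothendieckTopology Y) AddCommGrpCat.{u}).obj
        ((Opens.map f).op ⋙ CohCx.HDUPresheaf (DerivedCategory.Q.obj K.obj) p)) := by
  classical
  obtain ⟨n, hn⟩ := K.property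
  obtain ⟨Jc, q, hqm, hq, hJ, hJb⟩ :=
    CochainComplex.Plus.modelCategoryQuillen.exists_mono_quasiIso_injective K.obj (n - 1) n
  haveI : Jc.IsKInjective := CochainComplex.isKInjective_of_injective Jc (n - 1)
  haveI : Limits.PreservesFiniteLimits (Groth.Agent.Lib.Helper21.PushAcyc.pull
      (Opens.grothendieckTopology X) (Opens.grothendieckTopology Y) (Opens.map f)) :=
    CategoryTheory.Functor.SmallCategories.instPreservesFiniteLimitsSheafSheafPullbackOfRepresentablyFlat
      (Opens.map f) AddCommGrpCat.{u} (Opens.grothendieckTopology Y) (Opens.grothendieckTopology X)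
  obtain ⟨e⟩ := Groth.Agent.Lib.Helper17.Hyp.nonempty_sheafify_iso_homology_push
    (Opens.grothendieckTopology X) (Opens.grothendieckTopology Y) (Opens.map f) K.obj Jc q p
  let a : K ⟶ ⟨Jc, n - 1, hJb⟩ := ObjectProperty.homMk q
  haveI := Groth.Agent.S12229.isIso_τ (CohTop.push f) Jc (n - 1) hJb hJ
  haveI := Groth.Agent.S12229.isIso_Qh_map a hq
  let i1 := DerivedCategory.Plus.ι.mapIso ((CohTop.push f).rightDerivedFunctorPlus.mapIso
    (asIso (DerivedCategory.Plus.Qh.map ((HomotopyCategory.Plus.quotient (CohTop.Ab X)).map a))))
  let i2 := asIso (Groth.Agent.S12229.τ (CohTop.push f) ⟨Jc, n - 1, hJb⟩)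
  let i3 := (DerivedCategory.homologyFunctorFactors (CohTop.Ab Y) p).app
    (((CohTop.push f).mapHomologicalComplex (ComplexShape.up ℤ)).obj Jc)
  exact ⟨(DerivedCategory.homologyFunctor (CohTop.Ab Y) p).mapIso (i1 ≪≫ i2.symm) ≪≫ i3 ≪≫ e.symm⟩

end Groth.Agent.S8351
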