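import Groth.Statements.S8361
import Mathlib
-- import your own Groth.Agent.* helpers here

set_option autoImplicit false
universe u
open CategoryTheory MonObj AlgebraicGeometry
open LieS

namespace Groth.Agent.S8361

/-- `fst ∘ fst : B[ε][ε'] → B`. -/
noncomputable def piHom (B : Type u) [CommRing B] : D2 B →+* B :=
  (TrivSqZeroExt.fstHom B B B).toRingHom.comp
    (TrivSqZeroExt.fstHom (DualNumber B) (DualNumber B) (DualNumber B)).toRingHom

theorem piHom_comp_mulHom (B : Type u) [CommRing B] :
    (piHom B).comp (mulHom B) = (TrivSqZeroExt.fstHom B B B).toRingHom :=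
  RingHom.ext fun x => by
    simp [piHom, mulHom, TrivSqZeroExt.algebraMap_eq_inl']

theorem fstHom_homeo (B : Type u) [CommRing B] :
    IsHomeomorph (PrimeSpectrum.comap (TrivSqZeroExt.fstHom B B B).toRingHom) := by
  apply PrimeSpectrum.isHomeomorph_comap
  · intro x
    exact ⟨1, one_pos, TrivSqZeroExt.inl x, by simp⟩
  · intro x hx
    rw [RingHom.mem_ker] at hx
    rw [mem_nilradical]
    refine ⟨2, ?_⟩
    have hx' : x.fst = 0 := hx
    ext <;> simp [pow_two, hx']

theorem mulHom_injective (B : Type u) [CommRing B] : Function.Injective (mulHom B) := by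
  intro x y h
  have h1 := congrArg (fun z => z.fst.fst) h
  have h2 := congrArg (fun z => z.snd.snd) h
  simp [mulHom, TrivSqZeroExt.algebraMap_eq_inl'] at h1 h2
  ext
  · exact h1
  · exact h2

theorem piHom_homeo (B : Type u) [CommRing B] :
    IsHomeomorph (PrimeSpectrum.comap (R := D2 B) (S := B) (piHom B)) := by
  have h1 := fstHom_homeo B
  have h2 := fstHom_homeo (DualNumber B)
  have : PrimeSpectrum.comap (R := D2 B) (S := B) (piHom B) =
      PrimeSpectrum.comap (TrivSqZeroExt.fstHom (DualNumber B) (DualNumber B) (DualNumber B)).toRingHom ∘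
        PrimeSpectrum.comap (TrivSqZeroExt.fstHom B B B).toRingHom := by
    funext p
    rfl
  rw [this]
  exact h2.comp h1

theorem mulHom_homeo (B : Type u) [CommRing B] :
    IsHomeomorph (PrimeSpectrum.comap (R := DualNumber B) (S := D2 B) (mulHom B)) := by
  have h1 := fstHom_homeo B
  have h2 := piHom_homeo B
  have e : PrimeSpectrum.comap (R := DualNumber B) (S := D2 B) (mulHom B) ∘ PrimeSpectrum.comap (R := D2 B) (S := B) (piHom B) =
      PrimeSpectrum.comap (TrivSqZeroExt.fstHom B B B).toRingHom := by
    funext p
    rw [← piHom_comp_mulHom]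
    rfl
  let H2 := h2.homeomorph
  have : PrimeSpectrum.comap (R := DualNumber B) (S := D2 B) (mulHom B) =
      PrimeSpectrum.comap (TrivSqZeroExt.fstHom B B B).toRingHom ∘ H2.symm := by
    funext p
    rw [← e]
    simp only [Function.comp_apply]
    congr 1
    exact (H2.apply_symm_apply p).symm
  rw [this]
  exact h1.comp H2.symm.isHomeomorph

theorem epi_specMap_mulHom (B : Type u) [CommRing B] :
    Epi (Spec.map (CommRingCat.ofHom (R := DualNumber B) (S := D2 B) (mulHom B))) := by
  have hh := mulHom_homeo B
  have hbase : ⇑(Spec.map (CommRingCat.ofHom (R := DualNumber B) (S := D2 B) (mulHom B))).base =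
      PrimeSpectrum.comap (R := DualNumber B) (S := D2 B) (mulHom B) := rfl
  apply CategoryTheory.Functor.epi_of_epi_map (Scheme.forgetToLocallyRingedSpace)
  apply CategoryTheory.Functor.epi_of_epi_map (LocallyRingedSpace.forgetToSheafedSpace)
  apply SheafedSpace.epi_of_base_surjective_of_stalk_mono _ hh.surjective
  intro p
  apply ConcreteCategory.mono_of_injective
  refine stalkMap_injective_of_isOpenMap_of_injective
    (f := Spec.map (CommRingCat.ofHom (R := DualNumber B) (S := D2 B) (mulHom B)))
    hh.isOpenMap hh.injective ?_ p
  set φ := CommRingCat.ofHom (R := DualNumber B) (S := D2 B) (mulHom B) with hφ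
  have hnat := Scheme.ΓSpecIso_naturality φ
  have e1 : (Spec.map φ).appTop =
      (Scheme.ΓSpecIso _).hom ≫ φ ≫ (Scheme.ΓSpecIso _).inv := by
    rw [← Category.assoc, ← hnat, Category.assoc, Iso.hom_inv_id, Category.comp_id]
  have i1 : Function.Injective (Scheme.ΓSpecIso (CommRingCat.of (DualNumber B))).hom :=
    (ConcreteCategory.bijective_of_isIso _).1
  have i2 : Function.Injective (Scheme.ΓSpecIso (CommRingCat.of (D2 B))).inv :=
    (ConcreteCategory.bijective_of_isIso _).1
  intro a b hab
  apply i1
  apply mulHom_injective B
  apply i2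
  have hab' := hab
  rw [e1] at hab'
  exact hab'

/-- Uniqueness of the bracket: for a group scheme G over a scheme S and an affine S-scheme T = Spec B:
an element of Lie(G/S)(T) is determined by its pull-back along the coordinate-multiplying map from
the iterated dual numbers over T to the dual numbers over T; in particular the bracket of x and y,
the element whose pull-back is the commutator of x read in the second dual coordinate with y read in
the first, is unique when it exists. -/
theorem result (S : Scheme.{u}) (G : Over S) [GrpObj G] (B : Type u) [CommRing B]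
    (f : Spec (CommRingCat.of B) ⟶ S) (x y z z' : LieS.Lie G B f)
    (h : LieS.IsBracket G B f x y z) (h' : LieS.IsBracket G B f x y z') : z = z' := by
  have hepi := epi_specMap_mulHom B
  have e : mulMap B f ≫ z.1 = mulMap B f ≫ z'.1 := h.trans h'.symm
  have e' := congrArg (fun t => t.left) e
  simp only [Over.comp_left] at e'
  have e'' : z.1.left = z'.1.left := by
    exact (cancel_epi (Spec.map (CommRingCat.ofHom (R := DualNumber B) (S := D2 B) (mulHom B)))).1 e'
  apply Subtype.ext
  exact Over.OverMorphism.ext e''

end Groth.Agent.S8361
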