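import Groth.Statements.S8362
import Mathlib

set_option autoImplicit false
universe u
open CategoryTheory AlgebraicGeometry
open SGA3

namespace Groth.Agent.S8362


open Limits

theorem ring_lemma {R A : Type u} [CommRing R] [CommRing A] (ψ : R →+* A) (J : Ideal R)
    (hJ : J * J = ⊥) (φ : A →+* A) (hφψ : φ.comp ψ = ψ) (hφ : ∀ a, φ a - a ∈ J.map ψ) :
    Function.Bijective φ := by
  have hJA : J.map ψ * J.map ψ = ⊥ := by rw [← Ideal.map_mul, hJ, Ideal.map_bot]
  have hfix : ∀ x ∈ J.map ψ, φ x = x := by
    intro x hx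
    induction hx using Submodule.span_induction with
    | mem x hx =>
      obtain ⟨j, _, rfl⟩ := hx
      exact congrArg (fun f => f j) hφψ
    | zero => simp
    | add x y _ _ hx hy => rw [map_add, hx, hy]
    | smul a x hx ih =>
      rw [smul_eq_mul, map_mul, ih]
      have h1 : (φ a - a) * x ∈ J.map ψ * J.map ψ := Ideal.mul_mem_mul (hφ a) hx
      rw [hJA, Ideal.mem_bot] at h1
      linear_combination h1
  have h2 : ∀ a, φ (φ a - a) = φ a - a := fun a => hfix _ (hφ a)
  refine Function.bijective_iff_has_inverse.mpr ⟨fun a => a - (φ a - a), fun a => ?_, fun a => ?_⟩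
  · have := h2 a
    rw [map_sub] at this
    simp only
    linear_combination (-1 : A) * this
  · have := h2 a
    simp only
    rw [map_sub, this]
    ring

open PrimeSpectrum in
theorem surjective_SpecMap_mk {R : Type u} [CommRing R] (J : Ideal R) (hJ : J * J = ⊥) :
    Surjective (Spec.map (CommRingCat.ofHom (Ideal.Quotient.mk J))) := by
  constructor
  intro x
  let x' : PrimeSpectrum R := x
  have h1 : Set.range (PrimeSpectrum.comap (Ideal.Quotient.mk J)) =
      PrimeSpectrum.zeroLocus (RingHom.ker (Ideal.Quotient.mk J)) :=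
    range_comap_of_surjective _ _ Ideal.Quotient.mk_surjective
  have h2 : x' ∈ PrimeSpectrum.zeroLocus (RingHom.ker (Ideal.Quotient.mk J) : Set R) := by
    rw [Ideal.mk_ker, PrimeSpectrum.mem_zeroLocus]
    intro j hj
    have : j * j ∈ J * J := Ideal.mul_mem_mul hj hj
    rw [hJ, Ideal.mem_bot] at this
    have h3 : j * j ∈ x'.asIdeal := by rw [this]; exact zero_mem _
    exact (x'.isPrime.mem_or_mem h3).elim id id
  rw [← h1] at h2
  obtain ⟨y, hy⟩ := h2
  exact ⟨y, hy⟩

/-- local step -/
theorem isIso_of_lift {R : Type u} [CommRing R] (J : Ideal R) (hJ : J * J = ⊥) {X : Scheme.{u}}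
    (p : X ⟶ Spec (.of R)) (v : X ⟶ X) (hv : v ≫ p = p)
    (hK : pullback.fst p (Spec.map (CommRingCat.ofHom (Ideal.Quotient.mk J))) ≫ v =
      pullback.fst p (Spec.map (CommRingCat.ofHom (Ideal.Quotient.mk J))))
    (A : CommRingCat.{u}) (j : Spec A ⟶ X) [IsOpenImmersion j] (uV : Spec A ⟶ Spec A)
    (huV : uV ≫ j = j ≫ v) : IsIso uV := by
  obtain ⟨ψ, hψ⟩ := Spec.map_surjective (j ≫ p)
  obtain ⟨φ, rfl⟩ := Spec.map_surjective uV
  rw [isIso_SpecMap_iff]
  have hlin : ψ ≫ φ = ψ := by
    apply Spec.map_injective
    rw [Spec.map_comp, hψ, ← Category.assoc, huV, Category.assoc, hv]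
  apply ring_lemma ψ.hom J hJ φ.hom
  · have := congrArg CommRingCat.Hom.hom hlin
    simpa using this
  · intro a
    set JA := J.map ψ.hom with hJA
    let q : A ⟶ CommRingCat.of (A ⧸ JA) := CommRingCat.ofHom (Ideal.Quotient.mk JA)
    let ψ' : CommRingCat.of (R ⧸ J) ⟶ CommRingCat.of (A ⧸ JA) :=
      CommRingCat.ofHom (Ideal.quotientMap JA ψ.hom Ideal.le_comap_map)
    have hcomm : CommRingCat.ofHom (Ideal.Quotient.mk J) ≫ ψ' = ψ ≫ q := by
      ext r
      simp [ψ', q]
    have hq : Spec.map q ≫ Spec.map φ = Spec.map q := by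
      let l : Spec (CommRingCat.of (A ⧸ JA)) ⟶
          pullback p (Spec.map (CommRingCat.ofHom (Ideal.Quotient.mk J))) :=
        pullback.lift (Spec.map q ≫ j) (Spec.map ψ') (by
          rw [Category.assoc, ← hψ, ← Spec.map_comp, ← Spec.map_comp, hcomm])
      have hl : l ≫ pullback.fst p _ = Spec.map q ≫ j := pullback.lift_fst _ _ _
      rw [← cancel_mono j, Category.assoc, huV, ← Category.assoc, ← hl, Category.assoc, hK]
    have hq' : φ ≫ q = q := by
      apply Spec.map_injective
      rw [Spec.map_comp, hq]
    have := congrArg (fun f => f.hom a) hq'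
    simp only [CommRingCat.hom_comp, RingHom.coe_comp, Function.comp_apply, q,
      CommRingCat.hom_ofHom] at this
    exact Ideal.Quotient.eq.mp this



/-- Over an affine base S = Spec R with S₀ = Spec (R/J) for an ideal J of square zero: for an arbitrary
S-scheme X, every S-endomorphism of X inducing the identity on X ×_S S₀ is an automorphism. (The
published statement is over an arbitrary base scheme with a quasi-coherent ideal of square zero;
this row is its case of an affine base, to which it reduces since being an isomorphism is local on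
the base.) -/
theorem result (R : Type u) [CommRing R] (J : Ideal R) (hJ : J * J = ⊥)
    (X : Over (Spec (CommRingCat.of R))) (u : X ⟶ X)
    (h : (Over.pullback (Spec.map (CommRingCat.ofHom (Ideal.Quotient.mk J)))).map u = 𝟙 _) :
    IsIso u := by
  set f₀ := Spec.map (CommRingCat.ofHom (Ideal.Quotient.mk J)) with hf₀
  -- (K)
  have hK : pullback.fst X.hom f₀ ≫ u.left = pullback.fst X.hom f₀ := by
    have h1 := congrArg (fun m => m.left ≫ pullback.fst X.hom f₀) h
    simp only [Over.pullback_map_left, Over.id_left, Category.id_comp] at h1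
    rw [pullback.lift_fst] at h1
    exact h1
  -- identity on points
  haveI : Surjective f₀ := surjective_SpecMap_mk J hJ
  have hid : ∀ x : X.left, u.left x = x := by
    intro x
    obtain ⟨y, rfl⟩ := (pullback.fst X.hom f₀).surjective x
    rw [← Scheme.Hom.comp_apply, hK]
  have hiso : IsIso u.left := by
    let 𝒰 := X.left.affineOpenCover
    have hloc : ∀ i, IsIso (pullback.snd u.left (𝒰.openCover.f i)) := by
      intro i
      let j : Spec (𝒰.X i) ⟶ X.left := 𝒰.f i
      have hrange : Set.range (j ≫ u.left) ⊆ Set.range j := by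
        rintro _ ⟨y, rfl⟩
        rw [Scheme.Hom.comp_apply, hid]
        exact ⟨y, rfl⟩
      let uV : Spec (𝒰.X i) ⟶ Spec (𝒰.X i) := IsOpenImmersion.lift j (j ≫ u.left) hrange
      have huV : uV ≫ j = j ≫ u.left := IsOpenImmersion.lift_fac _ _ _
      haveI : IsIso uV := isIso_of_lift J hJ X.hom u.left (Over.w u) hK (𝒰.X i) j uV huV
      have hpre : u.left ⁻¹ᵁ j.opensRange = j.opensRange := by
        ext x
        show u.left x ∈ j.opensRange ↔ x ∈ j.opensRange
        rw [hid]
      have sq : IsPullback uV j j u.left := IsOpenImmersion.isPullback uV j j u.left huV.symm hpre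
      have : pullback.snd u.left j = sq.flip.isoPullback.inv ≫ uV := by simp
      show IsIso (pullback.snd u.left j)
      rw [this]
      infer_instance
    exact (IsZariskiLocalAtTarget.iff_of_openCover (P := MorphismProperty.isomorphisms Scheme.{u})
      𝒰.openCover).mpr hloc
  haveI : IsIso ((Over.forget (Spec (CommRingCat.of R))).map u) := hiso
  exact isIso_of_reflects_iso u (Over.forget _)

end Groth.Agent.S8362
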