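import Groth.Statements.S8364
import Mathlib.RingTheory.Smooth.Basic
-- import your own Groth.Agent.* helpers here

set_option autoImplicit false
universe u
open SGA3

namespace Groth.Agent.S8364

/-- An `R`-algebra endomorphism of `A` congruent to the identity modulo `J·A`, `J² = 0`, is
bijective. -/
theorem bijective_of_sub_mem {R A : Type*} [CommRing R] [CommRing A] [Algebra R A]
    (J : Ideal R) (hJ : J * J = ⊥) (θ : A →ₐ[R] A)
    (hθ : ∀ a, θ a - a ∈ Ideal.map (algebraMap R A) J) : Function.Bijective θ := by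
  have hI : ∀ x : A, x ∈ Ideal.map (algebraMap R A) J ↔ x ∈ (J • ⊤ : Submodule R A) := by
    intro x
    rw [Ideal.smul_top_eq_map]
    rfl
  have hkill : ∀ y ∈ (J • ⊤ : Submodule R A), ∀ j ∈ J, j • y = 0 := by
    intro y hy j hj
    refine Submodule.smul_induction_on hy ?_ ?_
    · intro j' hj' a _
      rw [← mul_smul]
      have : j * j' ∈ J * J := Ideal.mul_mem_mul hj hj'
      rw [hJ] at this
      rw [(Submodule.mem_bot R).mp this, zero_smul]
    · intro x y hx hy
      rw [smul_add, hx, hy, add_zero]
  -- δ vanishes on I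
  have hδ : ∀ x ∈ Ideal.map (algebraMap R A) J, θ x = x := by
    intro x hx
    rw [hI] at hx
    refine Submodule.smul_induction_on hx ?_ ?_
    · intro j hj a _
      have h1 : θ (j • a) - j • a = j • (θ a - a) := by rw [map_smul, smul_sub]
      have h2 : j • (θ a - a) = 0 := hkill _ ((hI _).mp (hθ a)) j hj
      rw [h2, sub_eq_zero] at h1
      exact h1
    · intro x y hx hy
      rw [map_add, hx, hy]
  constructor
  · rw [injective_iff_map_eq_zero]
    intro c hc
    have h1 : c ∈ Ideal.map (algebraMap R A) J := by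
      have := hθ c
      rw [hc, zero_sub] at this
      simpa using (Ideal.neg_mem_iff _).mp this
    rw [hδ c h1] at hc
    exact hc
  · intro a
    refine ⟨a - (θ a - a), ?_⟩
    rw [map_sub, hδ _ (hθ a)]
    ring

/-- For a commutative ring R, an ideal J of R of square zero, a smooth R-algebra A and the extended
ideal I = J·A, every R-algebra automorphism of A/I lifts to an R-algebra automorphism of A. (The
published statement concerns the automorphism functor of a smooth affine S-scheme E and affine test
schemes Y; this row is the case Y = S = Spec R, E = Spec A, which gives the general one after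
replacing R by the ring of Y.) -/
theorem result (R A : Type u) [CommRing R] [CommRing A] [Algebra R A]
    [Algebra.Smooth R A] (J : Ideal R) (hJ : J * J = ⊥)
    (φ₀ : (A ⧸ Ideal.map (algebraMap R A) J) ≃ₐ[R] (A ⧸ Ideal.map (algebraMap R A) J)) :
    ∃ φ : A ≃ₐ[R] A,
      (Ideal.Quotient.mkₐ R (Ideal.map (algebraMap R A) J)).comp φ.toAlgHom =
        φ₀.toAlgHom.comp (Ideal.Quotient.mkₐ R (Ideal.map (algebraMap R A) J)) := by
  have hI2 : (Ideal.map (algebraMap R A) J) ^ 2 = ⊥ := by
    rw [pow_two, ← Ideal.map_mul, hJ, Ideal.map_bot]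
  have hIn : IsNilpotent (Ideal.map (algebraMap R A) J) := ⟨2, hI2⟩
  let φ : A →ₐ[R] A := Algebra.FormallySmooth.lift (Ideal.map (algebraMap R A) J) hIn (φ₀.toAlgHom.comp (Ideal.Quotient.mkₐ R (Ideal.map (algebraMap R A) J)))
  let ψ : A →ₐ[R] A :=
    Algebra.FormallySmooth.lift (Ideal.map (algebraMap R A) J) hIn (φ₀.symm.toAlgHom.comp (Ideal.Quotient.mkₐ R (Ideal.map (algebraMap R A) J)))
  have hφ : ∀ a, Ideal.Quotient.mk (Ideal.map (algebraMap R A) J) (φ a) = φ₀ (Ideal.Quotient.mk (Ideal.map (algebraMap R A) J) a) := fun a =>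
    Algebra.FormallySmooth.mk_lift (Ideal.map (algebraMap R A) J) hIn _ a
  have hψ : ∀ a, Ideal.Quotient.mk (Ideal.map (algebraMap R A) J) (ψ a) = φ₀.symm (Ideal.Quotient.mk (Ideal.map (algebraMap R A) J) a) := fun a =>
    Algebra.FormallySmooth.mk_lift (Ideal.map (algebraMap R A) J) hIn _ a
  have h1 : Function.Bijective (φ.comp ψ) := by
    apply bijective_of_sub_mem J hJ
    intro a
    rw [← Ideal.Quotient.eq]
    change Ideal.Quotient.mk (Ideal.map (algebraMap R A) J) (φ (ψ a)) = _
    rw [hφ, hψ, AlgEquiv.apply_symm_apply]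
  have h2 : Function.Bijective (ψ.comp φ) := by
    apply bijective_of_sub_mem J hJ
    intro a
    rw [← Ideal.Quotient.eq]
    change Ideal.Quotient.mk (Ideal.map (algebraMap R A) J) (ψ (φ a)) = _
    rw [hψ, hφ, AlgEquiv.symm_apply_apply]
  have hbij : Function.Bijective φ := by
    constructor
    · have : Function.Injective (ψ ∘ φ) := h2.1
      exact this.of_comp
    · have : Function.Surjective (φ ∘ ψ) := h1.2
      exact this.of_comp
  refine ⟨AlgEquiv.ofBijective φ hbij, ?_⟩
  ext a
  change Ideal.Quotient.mk (Ideal.map (algebraMap R A) J) (φ a) = φ₀ (Ideal.Quotient.mk (Ideal.map (algebraMap R A) J) a)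
  exact hφ a

end Groth.Agent.S8364
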