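import Groth.Statements.S8365
import Mathlib
import Groth.Agent.Lib.Helper11LieAdd

set_option autoImplicit false
universe u
open CategoryTheory MonObj AlgebraicGeometry
open LieS

namespace Groth.Agent.S8365


/-- For a monoid scheme X over a scheme S (an associative unital monoid object in S-schemes) and an
affine S-scheme T = Spec B, a point of X with values in the dual numbers over T is invertible if and
only if its restriction along the zero section ε = 0 is invertible in X(T); in particular every such
point restricting to the unit section is invertible. (The published statement is for monoid-valued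
functors satisfying a tangent-space exactness condition, which every representable functor
satisfies, and its special case where the restriction is the unit section allows unital composition
laws that need not be associative; this row treats monoid schemes only.) -/
theorem result (S : Scheme.{u}) (X : Over S) [MonObj X] (B : Type u) [CommRing B]
    (f : Spec (CommRingCat.of B) ⟶ S) (v : LieS.dpt B f ⟶ X) :
    IsUnit v ↔ IsUnit (LieS.zeroSec B f ≫ v) := by
  constructor
  · intro h
    exact h.map ((yonedaMonObj X).map (zeroSec B f).op).hom
  · rintro ⟨u₀, hu₀⟩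
    -- w restricts to 1 along the zero section
    obtain ⟨w, hwdef⟩ : ∃ w : dpt B f ⟶ X, w = (proj B f ≫ (↑u₀⁻¹ : pt B f ⟶ X)) * v := ⟨_, rfl⟩
    have hw : zeroSec B f ≫ w = 1 := by
      rw [hwdef, MonObj.comp_mul, ← Category.assoc, zeroSec_proj, Category.id_comp, ← hu₀]
      exact u₀.inv_mul
    have h0 : scale B f 0 ≫ w = 1 := by
      rw [Groth.Agent.Lib.Helper11.LieAdd.scale_zero, Category.assoc, hw, MonObj.comp_one]
    have h1 : w * (scale B f (-1) ≫ w) = 1 := by
      have := Groth.Agent.Lib.Helper11.LieAdd.scale_add_comp f w hw 1 (-1)
      rw [add_neg_cancel, h0, Groth.Agent.Lib.Helper11.LieAdd.scale_one, Category.id_comp] at this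
      exact this.symm
    have h2 : (scale B f (-1) ≫ w) * w = 1 := by
      have := Groth.Agent.Lib.Helper11.LieAdd.scale_add_comp f w hw (-1) 1
      rw [neg_add_cancel, h0, Groth.Agent.Lib.Helper11.LieAdd.scale_one, Category.id_comp] at this
      exact this.symm
    have hwu : IsUnit w := ⟨⟨w, scale B f (-1) ≫ w, h1, h2⟩, rfl⟩
    have hpu : IsUnit (proj B f ≫ (↑u₀ : pt B f ⟶ X)) :=
      (u₀.isUnit).map ((yonedaMonObj X).map (proj B f).op).hom
    have hv : v = (proj B f ≫ (↑u₀ : pt B f ⟶ X)) * w := by
      rw [hwdef, ← _root_.mul_assoc, ← MonObj.comp_mul, u₀.mul_inv, MonObj.comp_one, _root_.one_mul]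
    rw [hv]
    exact hpu.mul hwu

end Groth.Agent.S8365
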