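import Groth.Statements.S8369
import Mathlib.RingTheory.Smooth.Quotient
-- import your own Groth.Agent.* helpers here

set_option autoImplicit false
universe u v
open SGA3

namespace Groth.Agent.S8369

theorem le_sup_pow_smul {A : Type*} [CommRing A] (J : Ideal A) {M : Type*} [AddCommGroup M]
    [Module A M] (N N' : Submodule A M) (h : N ≤ N' ⊔ J • N) (k : ℕ) : N ≤ N' ⊔ J ^ k • N := by
  induction k with
  | zero => simp
  | succ k ih =>
    refine ih.trans (sup_le le_sup_left ?_)
    calc J ^ k • N ≤ J ^ k • (N' ⊔ J • N) := Submodule.smul_mono le_rfl h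
      _ = J ^ k • N' ⊔ J ^ k • J • N := Submodule.smul_sup _ _ _
      _ ≤ N' ⊔ J ^ (k + 1) • N := by
        refine sup_le_sup Submodule.smul_le_right ?_
        rw [← Submodule.mul_smul, ← pow_succ]

/-- Let A be a commutative ring, J a nilpotent ideal, N ⊆ M A-modules with M/N flat over A. If elements
of N have images generating the image of N in M/JM, then they generate N. (The published statement
takes finitely many elements; this row allows an arbitrary set, which the same argument permits.) -/
theorem result (A : Type u) [CommRing A] (J : Ideal A) (hJ : IsNilpotent J)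
    (M : Type v) [AddCommGroup M] [Module A M] (N : Submodule A M) [Module.Flat A (M ⧸ N)] (s : Set M)
    (hs : s ⊆ N)
    (hgen : (Submodule.span A s).map (J • (⊤ : Submodule A M)).mkQ = N.map (J • (⊤ : Submodule A M)).mkQ) :
    Submodule.span A s = N := by
  have hle : Submodule.span A s ≤ N := Submodule.span_le.mpr hs
  refine le_antisymm hle ?_
  have hflat : N ⊓ J • (⊤ : Submodule A M) = J • N := by
    have := LinearMap.ker_inf_smul_top_eq_smul_of_flat J N.mkQ N.mkQ_surjective
    rwa [Submodule.ker_mkQ] at this
  have h1 : N ≤ Submodule.span A s ⊔ J • (⊤ : Submodule A M) := by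
    have := congrArg (Submodule.comap (J • (⊤ : Submodule A M)).mkQ) hgen
    rw [Submodule.comap_map_mkQ, Submodule.comap_map_mkQ] at this
    calc N ≤ J • (⊤ : Submodule A M) ⊔ N := le_sup_right
      _ = J • (⊤ : Submodule A M) ⊔ Submodule.span A s := this.symm
      _ = _ := sup_comm _ _
  have h2 : N ≤ Submodule.span A s ⊔ J • N := by
    intro n hn
    obtain ⟨n', hn', x, hx, rfl⟩ := Submodule.mem_sup.mp (h1 hn)
    have hxN : x ∈ N := by
      have := N.sub_mem hn (hle hn')
      simpa using this
    have : x ∈ J • N := hflat ▸ (⟨hxN, hx⟩ : x ∈ N ⊓ J • (⊤ : Submodule A M))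
    exact Submodule.mem_sup.mpr ⟨n', hn', x, this, rfl⟩
  obtain ⟨k, hk⟩ := hJ
  have := le_sup_pow_smul J N (Submodule.span A s) h2 k
  rw [hk] at this
  simpa using this

end Groth.Agent.S8369
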