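import Groth.Statements.S8370
import Mathlib

set_option autoImplicit false
universe u
open CategoryTheory MonObj AlgebraicGeometry
open LieS

namespace Groth.Agent.S8370

section Aux
variable {S : Scheme.{u}} {G K : Over S} [GrpObj G] [GrpObj K] (i : K ⟶ G)
  {B : Type u} [CommRing B] (f : Spec (CommRingCat.of B) ⟶ S) (x : LieS.Lie G B f)

lemma sq_zero_of_eps {B'' : Type u} [CommRing B''] (φ : DualNumber B →+* B'') :
    φ DualNumber.eps * φ DualNumber.eps = 0 := by
  rw [← map_mul, LieS.eps_sq, map_zero]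

lemma dualHom_comp_bcHom {B'' : Type u} [CommRing B''] (φ : DualNumber B →+* B'') :
    (dualHom (RingHom.id B'') (φ DualNumber.eps) (sq_zero_of_eps φ)).comp
      (bcHom (φ.comp (algebraMap B (DualNumber B)))) = φ := by
  ext z
  · simp [bcHom, TrivSqZeroExt.algebraMap_eq_inl']
  · simp [bcHom, TrivSqZeroExt.algebraMap_eq_inl']

/-- the section `T'' ⟶ I_{T''}` given by a square-zero element -/
noncomputable def sec {B'' : Type u} [CommRing B''] (f'' : Spec (CommRingCat.of B'') ⟶ S) (c : B'')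
    (hc : c * c = 0) : pt B'' f'' ⟶ dpt B'' f'' :=
  Over.homMk (Spec.map (CommRingCat.ofHom (dualHom (RingHom.id B'') c hc))) (by
    change Spec.map _ ≫ Spec.map _ ≫ f'' = f''
    rw [← Category.assoc, specMap_comp, dualHom_comp_algebraMap, CommRingCat.ofHom_id]
    erw [Spec.map_id]; exact Category.id_comp f'')

lemma sec_proj {B'' : Type u} [CommRing B''] (f'' : Spec (CommRingCat.of B'') ⟶ S) (c : B'')
    (hc : c * c = 0) : sec f'' c hc ≫ proj B'' f'' = 𝟙 _ := by
  ext; change Spec.map _ ≫ Spec.map _ = 𝟙 _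
  rw [specMap_comp, dualHom_comp_algebraMap, CommRingCat.ofHom_id]; erw [Spec.map_id]

/-- the point of `I_T` defined by a ring map `B[ε] → B''` -/
noncomputable def yOf {B'' : Type u} [CommRing B''] (φ : DualNumber B →+* B'') :
    pt B'' (Spec.map (CommRingCat.ofHom (φ.comp (algebraMap B (DualNumber B)))) ≫ f) ⟶ dpt B f :=
  Over.homMk (Spec.map (CommRingCat.ofHom φ)) (by
    change Spec.map _ ≫ Spec.map _ ≫ f = Spec.map _ ≫ f
    rw [← Category.assoc, specMap_comp])

lemma sec_dptMap {B'' : Type u} [CommRing B''] (φ : DualNumber B →+* B'') :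
    sec (Spec.map (CommRingCat.ofHom (φ.comp (algebraMap B (DualNumber B)))) ≫ f)
      (φ DualNumber.eps) (sq_zero_of_eps φ) ≫ dptMap f (φ.comp (algebraMap B (DualNumber B)))
      = yOf f φ := by
  ext; change Spec.map _ ≫ Spec.map _ = Spec.map _
  rw [specMap_comp, dualHom_comp_bcHom]

lemma key (hA : ∀ (B' : Type u) [CommRing B'] (h : B →+* B')
      (k : LieS.pt B' (Spec.map (CommRingCat.ofHom h) ≫ f) ⟶ K),
      LieS.Ad G B' (Spec.map (CommRingCat.ofHom h) ≫ f) (k ≫ i) (LieS.pull G f h x) = LieS.pull G f h x)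
    {B'' : Type u} [CommRing B''] (φ : DualNumber B →+* B'')
    (k : pt B'' (Spec.map (CommRingCat.ofHom (φ.comp (algebraMap B (DualNumber B)))) ≫ f) ⟶ K) :
    (yOf f φ ≫ x.1) * (k ≫ i) = (k ≫ i) * (yOf f φ ≫ x.1) := by
  have h1 := congrArg Subtype.val (hA B'' (φ.comp (algebraMap B (DualNumber B))) k)
  have h2 : (proj B'' (Spec.map (CommRingCat.ofHom (φ.comp (algebraMap B (DualNumber B)))) ≫ f)
        ≫ k ≫ i) * (dptMap f (φ.comp (algebraMap B (DualNumber B))) ≫ x.1) *
      (proj B'' (Spec.map (CommRingCat.ofHom (φ.comp (algebraMap B (DualNumber B)))) ≫ f) ≫ k ≫ i)⁻¹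
      = dptMap f (φ.comp (algebraMap B (DualNumber B))) ≫ x.1 := h1
  have h3 := mul_inv_eq_iff_eq_mul.mp h2
  have h4 := congrArg (fun m => sec (Spec.map (CommRingCat.ofHom
    (φ.comp (algebraMap B (DualNumber B)))) ≫ f) (φ DualNumber.eps) (sq_zero_of_eps φ) ≫ m) h3
  simp only [MonObj.comp_mul] at h4
  have e1 : sec (Spec.map (CommRingCat.ofHom (φ.comp (algebraMap B (DualNumber B)))) ≫ f)
      (φ DualNumber.eps) (sq_zero_of_eps φ) ≫
      dptMap f (φ.comp (algebraMap B (DualNumber B))) ≫ x.1 = yOf f φ ≫ x.1 := by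
    rw [← Category.assoc, sec_dptMap]
  have e2 : sec (Spec.map (CommRingCat.ofHom (φ.comp (algebraMap B (DualNumber B)))) ≫ f)
      (φ DualNumber.eps) (sq_zero_of_eps φ) ≫
      proj B'' (Spec.map (CommRingCat.ofHom (φ.comp (algebraMap B (DualNumber B)))) ≫ f) ≫ k ≫ i
      = k ≫ i := by
    rw [← Category.assoc, sec_proj, Category.id_comp]
  rw [e1, e2] at h4
  exact h4.symm

lemma affine_local (hA : ∀ (B' : Type u) [CommRing B'] (h : B →+* B')
      (k : LieS.pt B' (Spec.map (CommRingCat.ofHom h) ≫ f) ⟶ K),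
      LieS.Ad G B' (Spec.map (CommRingCat.ofHom h) ≫ f) (k ≫ i) (LieS.pull G f h x) = LieS.pull G f h x)
    (X' : Over S) (y : X' ⟶ LieS.dpt B f) (h : X' ⟶ K)
    (B'' : Type u) [CommRing B''] (e : Spec (CommRingCat.of B'') ⟶ X'.left) :
    e ≫ ((y ≫ x.1) * (h ≫ i)).left = e ≫ ((h ≫ i) * (y ≫ x.1)).left := by
  let yl : X'.left ⟶ Spec (CommRingCat.of (DualNumber B)) := y.left
  obtain ⟨φ, hφ⟩ : ∃ φ : DualNumber B →+* B'', Spec.map (CommRingCat.ofHom φ) = e ≫ yl := by
    refine ⟨(Spec.preimage (e ≫ yl)).hom, ?_⟩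
    rw [CommRingCat.ofHom_hom, Spec.map_preimage]
  have h1 : yl ≫ (Spec.map (CommRingCat.ofHom (algebraMap B (DualNumber B))) ≫ f) = X'.hom :=
    Over.w y
  have hw : e ≫ X'.hom
      = Spec.map (CommRingCat.ofHom (φ.comp (algebraMap B (DualNumber B)))) ≫ f := by
    rw [← h1, ← Category.assoc, ← hφ, ← Category.assoc, specMap_comp]
  let J : pt B'' (Spec.map (CommRingCat.ofHom (φ.comp (algebraMap B (DualNumber B)))) ≫ f) ⟶ X' :=
    Over.homMk e hw
  have hJy : J ≫ y = yOf f φ := by
    ext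
    change e ≫ yl = Spec.map _
    rw [hφ]
  have h3 := key i f x hA φ (J ≫ h)
  rw [← hJy, Category.assoc, Category.assoc, ← MonObj.comp_mul, ← MonObj.comp_mul] at h3
  have h4 := congrArg (fun m => m.left) h3
  exact h4

end Aux


/-- For a group scheme G over a scheme S (the group law of the Lie algebra functor of a group scheme is
commutative, which the published statement assumes), a sub-group-scheme K of G given by a
monomorphic homomorphism i, and an affine S-scheme T = Spec B: an element x of Lie(G/S)(T) belongs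
to the Lie algebra of the centraliser of K, i.e. the point x of G with values in the dual numbers
I_T commutes with every point of K with values in any scheme over I_T, if and only if x is fixed by
the adjoint action of every point of K with values in an affine scheme T' = Spec B' over T (acting
on the restriction of x to T'). -/
theorem result (S : Scheme.{u}) (G K : Over S) [GrpObj G] [GrpObj K] (i : K ⟶ G)
    [IsMonHom i] [Mono i] (B : Type u) [CommRing B] (f : Spec (CommRingCat.of B) ⟶ S) (x : LieS.Lie G B f) :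
    (∀ (X' : Over S) (y : X' ⟶ LieS.dpt B f) (h : X' ⟶ K), (y ≫ x.1) * (h ≫ i) = (h ≫ i) * (y ≫ x.1)) ↔
    (∀ (B' : Type u) [CommRing B'] (h : B →+* B')
      (k : LieS.pt B' (Spec.map (CommRingCat.ofHom h) ≫ f) ⟶ K),
      LieS.Ad G B' (Spec.map (CommRingCat.ofHom h) ≫ f) (k ≫ i) (LieS.pull G f h x) = LieS.pull G f h x) := by
  constructor
  · intro H B' _ h k
    apply Subtype.ext
    have h1 := H (dpt B' (Spec.map (CommRingCat.ofHom h) ≫ f)) (dptMap f h)
      (proj B' (Spec.map (CommRingCat.ofHom h) ≫ f) ≫ k)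
    show (proj B' (Spec.map (CommRingCat.ofHom h) ≫ f) ≫ k ≫ i) * (dptMap f h ≫ x.1) *
      (proj B' (Spec.map (CommRingCat.ofHom h) ≫ f) ≫ k ≫ i)⁻¹ = dptMap f h ≫ x.1
    rw [Category.assoc] at h1
    rw [mul_inv_eq_iff_eq_mul]
    exact h1.symm
  · intro hA X' y h
    apply Over.OverMorphism.ext
    apply Scheme.Cover.hom_ext X'.left.affineCover
    intro j
    have h1 := affine_local i f x hA X' y h Γ(X'.left.affineCover.X j, ⊤)
      ((X'.left.affineCover.X j).isoSpec.inv ≫ X'.left.affineCover.f j)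
    rw [Category.assoc, Category.assoc] at h1
    exact (cancel_epi _).mp h1

end Groth.Agent.S8370
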