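import Groth.Statements.S8371
-- import your own Groth.Agent.* helpers here

set_option autoImplicit false
universe u
open CategoryTheory MonObj AlgebraicGeometry
open LieS

namespace Groth.Agent.S8371

theorem map_val {S : Scheme.{u}} {G H : Over S} [GrpObj G] [GrpObj H] (B : Type u) [CommRing B]
    (f : Spec (CommRingCat.of B) ⟶ S) (φ : G ⟶ H) [IsMonHom φ] (v : LieS.Lie G B f) :
    (LieS.map B f φ v).1 = v.1 ≫ φ := rfl

theorem comp_one' {S : Scheme.{u}} {G : Over S} [GrpObj G] {X Y : Over S} (g : X ⟶ Y) :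
    g ≫ (1 : Y ⟶ G) = 1 :=
  ((yonedaGrpObj G).map g.op).hom.map_one

theorem one_comp' {S : Scheme.{u}} {G H : Over S} [GrpObj G] [GrpObj H] (φ : G ⟶ H) [IsMonHom φ]
    (X : Over S) : (1 : X ⟶ G) ≫ φ = 1 :=
  (IsMonHom.monoidHom φ X).map_one

/-- The sequence of Lie algebras, with M = O_S: if 1 → G' → G → G'' → 1 is a sequence of homomorphisms
of group schemes over a scheme S which is exact on points with values in every S-scheme, then for
every affine S-scheme T = Spec B the derived morphisms give an exact sequence 1 → Lie(G'/S)(T) →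
Lie(G/S)(T) → Lie(G''/S)(T) → 1: the first is injective, the second surjective, and the kernel of
the second is the image of the first. -/
theorem result (S : Scheme.{u}) (G' G G'' : Over S) [GrpObj G'] [GrpObj G] [GrpObj G'']
    (i : G' ⟶ G) [IsMonHom i] (q : G ⟶ G'') [IsMonHom q]
    (hex : ∀ T : Over S, Function.Injective (fun a : T ⟶ G' => a ≫ i) ∧
      Function.Surjective (fun b : T ⟶ G => b ≫ q) ∧ ∀ b : T ⟶ G, b ≫ q = 1 ↔ ∃ a : T ⟶ G', a ≫ i = b)
    (B : Type u) [CommRing B] (f : Spec (CommRingCat.of B) ⟶ S) :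
    Function.Injective (LieS.map B f i) ∧ Function.Surjective (LieS.map B f q) ∧
      ∀ v : LieS.Lie G B f, LieS.map B f q v = 1 ↔ ∃ w : LieS.Lie G' B f, LieS.map B f i w = v := by
  refine ⟨?_, ?_, ?_⟩
  · intro v w hvw
    have h1 : v.1 ≫ i = w.1 ≫ i := congrArg Subtype.val hvw
    exact Subtype.ext ((hex (dpt B f)).1 h1)
  · intro v
    obtain ⟨b, hb⟩ := (hex (dpt B f)).2.1 v.1
    have hb : b ≫ q = v.1 := hb
    have hv : zeroSec B f ≫ v.1 = 1 := v.2
    set c : dpt B f ⟶ G := proj B f ≫ zeroSec B f ≫ b with hc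
    have hcq : c ≫ q = 1 := by
      rw [hc, Category.assoc, Category.assoc, hb, hv, comp_one']
    have hres : res G B f (b * c⁻¹) = 1 := by
      rw [map_mul, map_inv, res_apply, res_apply, hc, ← Category.assoc, zeroSec_proj,
        Category.id_comp, mul_inv_cancel]
    refine ⟨⟨b * c⁻¹, hres⟩, Subtype.ext ?_⟩
    rw [map_val]
    change (IsMonHom.monoidHom q (dpt B f)) (b * c⁻¹) = v.1
    rw [map_mul, map_inv]
    change (b ≫ q) * (c ≫ q)⁻¹ = v.1
    rw [hcq, hb, inv_one, _root_.mul_one]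
  · intro v
    constructor
    · intro hv
      have h1 : v.1 ≫ q = 1 := congrArg Subtype.val hv
      obtain ⟨a, ha⟩ := ((hex (dpt B f)).2.2 v.1).mp h1
      have ha0 : zeroSec B f ≫ a = 1 := by
        apply (hex (pt B f)).1
        change (zeroSec B f ≫ a) ≫ i = (1 : pt B f ⟶ G') ≫ i
        rw [Category.assoc, ha, one_comp']
        exact v.2
      exact ⟨⟨a, ha0⟩, Subtype.ext ha⟩
    · rintro ⟨w, rfl⟩
      apply Subtype.ext
      rw [map_val, map_val]
      exact ((hex (dpt B f)).2.2 _).mpr ⟨w.1, rfl⟩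

end Groth.Agent.S8371
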