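import Groth.Statements.S8383
import Mathlib.RingTheory.TensorProduct.Free
import Mathlib.LinearAlgebra.Multilinear.Basis
import Mathlib.Data.Nat.Choose.Sum
import Mathlib.LinearAlgebra.Dual.Basis
import Mathlib.LinearAlgebra.FreeModule.Finite.Basic

set_option autoImplicit false
universe u
open scoped TensorProduct
open SGA3t2b

namespace Groth.Agent.S8383

open Finset in
theorem polar {K : Type*} [CommRing K] {ι : Type*} [Fintype ι] [DecidableEq ι] (a : ι → ι → K) :
    ∑ S : Finset ι, (-1 : K) ^ (Finset.card Sᶜ) * ∏ i, ∑ j ∈ S, a i j =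
      ∑ τ : Equiv.Perm ι, ∏ i, a i (τ i) := by
  classical
  -- inner alternating sum
  have inner : ∀ f : ι → ι,
      (∑ S : Finset ι, if (∀ i, f i ∈ S) then (-1 : K) ^ (Finset.card Sᶜ) else 0) =
        if Function.Surjective f then 1 else 0 := by
    intro f
    set T : Finset ι := (Finset.univ.image f)ᶜ with hT
    have h1 : (∑ S : Finset ι, if (∀ i, f i ∈ S) then (-1 : K) ^ (Finset.card Sᶜ) else 0) =
        ∑ S' ∈ T.powerset, (-1 : K) ^ (Finset.card S') := by
      rw [← Finset.sum_filter]
      refine Finset.sum_bij' (fun S _ => Sᶜ) (fun S' _ => S'ᶜ) ?_ ?_ ?_ ?_ ?_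
      · intro S hS
        rw [Finset.mem_filter] at hS
        rw [Finset.mem_powerset, hT]
        intro x hx
        rw [Finset.mem_compl] at hx ⊢
        intro hx'
        rw [Finset.mem_image] at hx'
        obtain ⟨i, _, rfl⟩ := hx'
        exact hx (hS.2 i)
      · intro S' hS'
        rw [Finset.mem_powerset, hT] at hS'
        rw [Finset.mem_filter]
        refine ⟨Finset.mem_univ _, fun i => ?_⟩
        rw [Finset.mem_compl]
        intro hi
        have := hS' hi
        rw [Finset.mem_compl] at this
        exact this (Finset.mem_image_of_mem f (Finset.mem_univ i))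
      · intro S _; exact compl_compl S
      · intro S' _; exact compl_compl S'
      · intro S _; rfl
    rw [h1]
    have h2 := Finset.sum_powerset_neg_one_pow_card (x := T)
    have h3 : (∑ S' ∈ T.powerset, (-1 : K) ^ (Finset.card S')) =
        ((∑ S' ∈ T.powerset, (-1 : ℤ) ^ (Finset.card S') : ℤ) : K) := by
      push_cast; rfl
    rw [h3, h2]
    have h4 : T = ∅ ↔ Function.Surjective f := by
      rw [hT, Finset.compl_eq_empty_iff, ← Finset.coe_eq_univ]
      rw [Finset.coe_image, Finset.coe_univ, Set.image_univ, Set.range_eq_univ]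
    by_cases hf : Function.Surjective f
    · rw [if_pos (h4.2 hf), if_pos hf]; simp
    · rw [if_neg (fun h => hf (h4.1 h)), if_neg hf]; simp
  calc ∑ S : Finset ι, (-1 : K) ^ (Finset.card Sᶜ) * ∏ i, ∑ j ∈ S, a i j
      = ∑ S : Finset ι, ∑ f : ι → ι,
          (if (∀ i, f i ∈ S) then (-1 : K) ^ (Finset.card Sᶜ) else 0) * ∏ i, a i (f i) := by
        refine Finset.sum_congr rfl fun S _ => ?_
        rw [Finset.prod_univ_sum, Finset.mul_sum]
        rw [← Finset.sum_subset (Finset.subset_univ (Fintype.piFinset fun _ => S))]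
        · refine Finset.sum_congr rfl fun f hf => ?_
          rw [Fintype.mem_piFinset] at hf
          rw [if_pos hf]
        · intro f _ hf
          rw [Fintype.mem_piFinset] at hf
          rw [if_neg hf, zero_mul]
    _ = ∑ f : ι → ι, (if Function.Surjective f then 1 else 0) * ∏ i, a i (f i) := by
        rw [Finset.sum_comm]
        refine Finset.sum_congr rfl fun f _ => ?_
        rw [← Finset.sum_mul, inner]
    _ = ∑ τ : Equiv.Perm ι, ∏ i, a i (τ i) := by
        rw [← Finset.sum_subset (Finset.subset_univ (Finset.univ.filter (fun f : ι → ι => Function.Bijective f)))]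
        · refine Finset.sum_bij' (fun f hf => Equiv.ofBijective f (Finset.mem_filter.1 hf).2)
            (fun τ _ => ⇑τ) ?_ ?_ ?_ ?_ ?_
          · intro f _; exact Finset.mem_univ _
          · intro τ _
            rw [Finset.mem_filter]
            exact ⟨Finset.mem_univ _, τ.bijective⟩
          · intro f _; rfl
          · intro τ _; ext i; rfl
          · intro f hf
            rw [if_pos (Finset.mem_filter.1 hf).2.surjective, one_mul]
            rfl
        · intro f _ hf
          rw [Finset.mem_filter, not_and] at hf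
          have : ¬ Function.Surjective f := fun hs =>
            hf (Finset.mem_univ _) (Finite.surjective_iff_bijective.1 hs)
          rw [if_neg this, zero_mul]

/-- Let k be a finite field with algebraic closure K, V a finite-dimensional vector space over k, and
θ₁, …, θₙ a basis of the dual of the K-vector space K ⊗ V. Then there is x ∈ V with θᵢ(1 ⊗ x) ≠ 0
for every i. -/
theorem result (k : Type u) [Field k] [Finite k]
    (V : Type u) [AddCommGroup V] [Module k V] [Module.Finite k V] {ι : Type} [Fintype ι]
    (θ : Module.Basis ι (AlgebraicClosure k) (Module.Dual (AlgebraicClosure k) (AlgebraicClosure k ⊗[k] V))) :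
    ∃ x : V, ∀ i : ι, θ i ((1 : AlgebraicClosure k) ⊗ₜ[k] x) ≠ 0 := by
  classical
  by_contra hcon
  have hcon' : ∀ x : V, ∃ i : ι, θ i ((1 : AlgebraicClosure k) ⊗ₜ[k] x) = 0 := by
    intro x
    by_contra hx
    apply hcon
    refine ⟨x, fun i hi => hx ⟨i, hi⟩⟩
  have hprod : ∀ x : V, ∏ i, θ i ((1 : AlgebraicClosure k) ⊗ₜ[k] x) = 0 := by
    intro x
    obtain ⟨i, hi⟩ := hcon' x
    exact Finset.prod_eq_zero (Finset.mem_univ i) hi
  -- the symmetrized multilinear map
  let M₀ : MultilinearMap (AlgebraicClosure k) (fun _ : ι => AlgebraicClosure k ⊗[k] V) (AlgebraicClosure k) :=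
    (MultilinearMap.mkPiAlgebra (AlgebraicClosure k) ι (AlgebraicClosure k)).compLinearMap (fun i => θ i)
  let M : MultilinearMap (AlgebraicClosure k) (fun _ : ι => AlgebraicClosure k ⊗[k] V) (AlgebraicClosure k) :=
    ∑ τ : Equiv.Perm ι, M₀.domDomCongr τ
  have hMapply : ∀ y : ι → AlgebraicClosure k ⊗[k] V, M y = ∑ τ : Equiv.Perm ι, ∏ i, θ i (y (τ i)) := by
    intro y
    simp only [M, M₀, sum_apply, MultilinearMap.domDomCongr_apply,
      MultilinearMap.compLinearMap_apply, MultilinearMap.mkPiAlgebra_apply]
  -- M vanishes on pure tensors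
  have hMpure : ∀ xs : ι → V, M (fun i => (1 : AlgebraicClosure k) ⊗ₜ[k] xs i) = 0 := by
    intro xs
    rw [hMapply, ← polar (fun i j => θ i ((1 : AlgebraicClosure k) ⊗ₜ[k] xs j))]
    refine Finset.sum_eq_zero fun S _ => ?_
    have : ∀ i, ∑ j ∈ S, θ i ((1 : AlgebraicClosure k) ⊗ₜ[k] xs j) =
        θ i ((1 : AlgebraicClosure k) ⊗ₜ[k] (∑ j ∈ S, xs j)) := by
      intro i
      rw [TensorProduct.tmul_sum, map_sum]
    simp only [this]
    rw [hprod, mul_zero]
  have hM0 : M = 0 := by
    let b := Module.finBasis k V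
    let B := Algebra.TensorProduct.basis (AlgebraicClosure k) b
    apply Module.Basis.ext_multilinear (fun _ => B)
    intro v
    have : (fun i => B (v i)) = fun i => (1 : AlgebraicClosure k) ⊗ₜ[k] b (v i) := by
      funext i
      exact Algebra.TensorProduct.basis_apply _ _
    rw [this, hMpure]
    rfl
  -- dual vectors
  let y : ι → AlgebraicClosure k ⊗[k] V := fun j =>
    (Module.evalEquiv (AlgebraicClosure k) (AlgebraicClosure k ⊗[k] V)).symm (θ.dualBasis j)
  have hy : ∀ i j, θ i (y j) = if i = j then 1 else 0 := by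
    intro i j
    have h1 : Module.evalEquiv (AlgebraicClosure k) (AlgebraicClosure k ⊗[k] V) (y j) = θ.dualBasis j :=
      LinearEquiv.apply_symm_apply _ _
    have h2 : Module.evalEquiv (AlgebraicClosure k) (AlgebraicClosure k ⊗[k] V) (y j) (θ i) = θ i (y j) := by
      simp [Module.evalEquiv]
    rw [← h2, h1, Module.Basis.dualBasis_apply_self]
  have hMy : M y = 1 := by
    rw [hMapply]
    rw [Finset.sum_eq_single (1 : Equiv.Perm ι)]
    · simp [hy]
    · intro τ _ hτ
      obtain ⟨i, hi⟩ : ∃ i, τ i ≠ i := by
        by_contra hall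
        apply hτ
        ext i
        by_contra hi
        exact hall ⟨i, hi⟩
      apply Finset.prod_eq_zero (Finset.mem_univ i)
      rw [hy, if_neg (Ne.symm hi)]
    · intro h; exact absurd (Finset.mem_univ _) h
  rw [hM0] at hMy
  simp at hMy

end Groth.Agent.S8383
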