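import Groth.Statements.S8384
import Mathlib

set_option autoImplicit false
universe u
open CategoryTheory MonoidalCategory CartesianMonoidalCategory MonObj GrpObj AlgebraicGeometry
open SGA3x

namespace Groth.Agent.S8384

/-- a morphism from an affine scheme landing in an affine open comes from a ring map -/
theorem exists_factor_affine {X : Scheme.{u}} (U : X.Opens) (hU : IsAffineOpen U)
    {B : CommRingCat.{u}} (v : Spec B ⟶ X) (hv : Set.range v.base ⊆ (U : Set X)) :
    ∃ ψ : Γ(X, U) ⟶ B, v = Spec.map ψ ≫ hU.isoSpec.inv ≫ U.ι := by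
  have hr : Set.range v.base ⊆ Set.range U.ι.base := by
    rw [Scheme.Opens.range_ι]
    exact hv
  refine ⟨Spec.preimage (IsOpenImmersion.lift U.ι v hr ≫ hU.isoSpec.hom), ?_⟩
  rw [Spec.map_preimage, Category.assoc, Iso.hom_inv_id_assoc, IsOpenImmersion.lift_fac]

theorem factor_affine_inj {X : Scheme.{u}} (U : X.Opens) (hU : IsAffineOpen U)
    {B : CommRingCat.{u}} (ψ ψ' : Γ(X, U) ⟶ B)
    (h : Spec.map ψ ≫ hU.isoSpec.inv ≫ U.ι = Spec.map ψ' ≫ hU.isoSpec.inv ≫ U.ι) : ψ = ψ' := by
  apply Spec.map_injective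
  rw [← cancel_mono (hU.isoSpec.inv ≫ U.ι)]
  exact h

/-- every point of `Spec (A/m^(n+1))` lies over the closed point -/
theorem j_apply (A : Type u) [CommRing A] [IsLocalRing A] (n : ℕ)
    (y : ↥(Spec (CommRingCat.of (A ⧸ (IsLocalRing.maximalIdeal A) ^ (n + 1))))) :
    (Spec.map (CommRingCat.ofHom (Ideal.Quotient.mk
      ((IsLocalRing.maximalIdeal A) ^ (n + 1))))).base y = IsLocalRing.closedPoint A := by
  apply PrimeSpectrum.ext
  change Ideal.comap (Ideal.Quotient.mk _) y.asIdeal = IsLocalRing.maximalIdeal A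
  have hp : (Ideal.comap (Ideal.Quotient.mk (IsLocalRing.maximalIdeal A ^ (n + 1)))
      y.asIdeal).IsPrime := Ideal.comap_isPrime _ _
  have hle : IsLocalRing.maximalIdeal A ≤
      Ideal.comap (Ideal.Quotient.mk (IsLocalRing.maximalIdeal A ^ (n + 1))) y.asIdeal := by
    intro a ha
    have : a ^ (n + 1) ∈ Ideal.comap (Ideal.Quotient.mk (IsLocalRing.maximalIdeal A ^ (n + 1)))
        y.asIdeal := by
      rw [Ideal.mem_comap, Ideal.Quotient.eq_zero_iff_mem.mpr (Ideal.pow_mem_pow ha (n + 1))]
      exact zero_mem _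
    exact hp.mem_of_pow_mem _ this
  exact ((IsLocalRing.maximalIdeal.isMaximal A).eq_of_le hp.ne_top hle).symm

theorem subsingleton_spec (A : Type u) [CommRing A] [IsLocalRing A] (n : ℕ) :
    Subsingleton ↥(Spec (CommRingCat.of (A ⧸ (IsLocalRing.maximalIdeal A) ^ (n + 1)))) := by
  refine ⟨fun y z => ?_⟩
  have h := (j_apply A n y).trans (j_apply A n z).symm
  exact PrimeSpectrum.comap_injective_of_surjective _ Ideal.Quotient.mk_surjective h

theorem nonempty_spec (A : Type u) [CommRing A] [IsLocalRing A] (n : ℕ) :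
    Nonempty ↥(Spec (CommRingCat.of (A ⧸ (IsLocalRing.maximalIdeal A) ^ (n + 1)))) := by
  have hne : (IsLocalRing.maximalIdeal A) ^ (n + 1) ≠ ⊤ := by
    intro h
    have h1 : (IsLocalRing.maximalIdeal A) ^ (n + 1) ≤ IsLocalRing.maximalIdeal A :=
      Ideal.pow_le_self (Nat.succ_ne_zero n)
    rw [h] at h1
    exact (IsLocalRing.maximalIdeal.isMaximal A).ne_top (top_le_iff.mp h1)
  have : Nontrivial (A ⧸ (IsLocalRing.maximalIdeal A) ^ (n + 1)) :=
    Ideal.Quotient.nontrivial_iff.mpr hne
  change Nonempty (PrimeSpectrum (A ⧸ (IsLocalRing.maximalIdeal A) ^ (n + 1)))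
  infer_instance


/-- Let A be a local ring, separated and complete for the topology defined by its maximal ideal m, S =
Spec A and Sₙ = Spec(A/mⁿ). Then for every scheme X the canonical map Hom(S, X) → lim Hom(Sₙ, X) is
bijective: two morphisms S → X that agree on every Sₙ are equal, and every family of morphisms Sₙ →
X compatible with the closed immersions Sₙ → Sₙ₊₁ is induced by a morphism S → X. -/
theorem result (A : Type u) [CommRing A] [IsLocalRing A]
    [IsAdicComplete (IsLocalRing.maximalIdeal A) A] (X : Scheme.{u}) :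
    (∀ f g : (Spec (CommRingCat.of A)) ⟶ X,
      (∀ n : ℕ, (Spec.map (CommRingCat.ofHom (Ideal.Quotient.mk ((IsLocalRing.maximalIdeal A) ^ n)))) ≫ f = (Spec.map (CommRingCat.ofHom (Ideal.Quotient.mk ((IsLocalRing.maximalIdeal A) ^ n)))) ≫ g) → f = g) ∧
    (∀ u : (n : ℕ) → (Spec (CommRingCat.of (A ⧸ (IsLocalRing.maximalIdeal A) ^ n)) ⟶ X),
      (∀ n : ℕ, (Spec.map (CommRingCat.ofHom (Ideal.Quotient.factor
          (Ideal.pow_le_pow_right (I := (IsLocalRing.maximalIdeal A)) (Nat.le_succ n))))) ≫ u (n + 1) = u n) →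
      ∃ f : (Spec (CommRingCat.of A)) ⟶ X, ∀ n : ℕ, (Spec.map (CommRingCat.ofHom (Ideal.Quotient.mk ((IsLocalRing.maximalIdeal A) ^ n)))) ≫ f = u n) := by
  refine ⟨?_, ?_⟩
  · intro f g hfg
    obtain ⟨x, hx⟩ : ∃ x : X, x = f.base (IsLocalRing.closedPoint A) := ⟨_, rfl⟩
    obtain ⟨_, ⟨U, hU : IsAffineOpen U, rfl⟩, hxU, -⟩ :=
      X.isBasis_affineOpens.exists_subset_of_mem_open (Set.mem_univ x) isOpen_univ
    have hgx : g.base (IsLocalRing.closedPoint A) = x := by
      obtain ⟨y⟩ := nonempty_spec A 0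
      have hy := j_apply A 0 y
      have h1 := congrArg (fun φ => φ.base y) (hfg (0 + 1))
      simp only [Scheme.Hom.comp_base, TopCat.comp_app] at h1
      rw [hy] at h1
      rw [hx, h1]
    have hrange : ∀ (h : Spec (CommRingCat.of A) ⟶ X), h.base (IsLocalRing.closedPoint A) ∈ U →
        Set.range h.base ⊆ (U : Set X) := by
      intro h hh
      have h1 : (h ⁻¹ᵁ U) = ⊤ := (IsLocalRing.closedPoint_mem_iff (h ⁻¹ᵁ U)).mp hh
      rintro _ ⟨y, rfl⟩
      have h2 : y ∈ h ⁻¹ᵁ U := by
        rw [h1]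
        trivial
      exact h2
    obtain ⟨α, hα⟩ := exists_factor_affine U hU f (hrange f (hx ▸ hxU))
    obtain ⟨β, hβ⟩ := exists_factor_affine U hU g (hrange g (hgx ▸ hxU))
    have hαβ : α = β := by
      ext r
      have hmem : ∀ n : ℕ, α.hom r - β.hom r ∈ (IsLocalRing.maximalIdeal A) ^ n := by
        intro n
        have h1 : Spec.map (α ≫ CommRingCat.ofHom (Ideal.Quotient.mk
            ((IsLocalRing.maximalIdeal A) ^ n))) ≫ hU.isoSpec.inv ≫ Scheme.Opens.ι U =
            Spec.map (β ≫ CommRingCat.ofHom (Ideal.Quotient.mk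
            ((IsLocalRing.maximalIdeal A) ^ n))) ≫ hU.isoSpec.inv ≫ Scheme.Opens.ι U := by
          rw [Spec.map_comp, Spec.map_comp, Category.assoc, Category.assoc, ← hα, ← hβ]
          exact hfg n
        have h2 := factor_affine_inj U hU _ _ h1
        have h3 := congrArg (fun φ => φ.hom r) h2
        exact Ideal.Quotient.eq.mp h3
      have h0 := IsHausdorff.haus (inferInstance : IsHausdorff (IsLocalRing.maximalIdeal A) A)
        (α.hom r - β.hom r) (fun n => by
          rw [smul_eq_mul, Ideal.mul_top, SModEq.zero]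
          exact hmem n)
      exact sub_eq_zero.mp h0
    rw [hα, hβ, hαβ]
  · intro v hv
    have hcomp : ∀ (a b : ℕ) (hab : a ≤ b), Spec.map (CommRingCat.ofHom
        (Ideal.Quotient.factorPow (IsLocalRing.maximalIdeal A) hab)) ≫ v b = v a := by
      intro a b hab
      induction b, hab using Nat.le_induction with
      | base =>
        have : Ideal.Quotient.factorPow (IsLocalRing.maximalIdeal A) (le_refl a) = RingHom.id _ :=
          Ideal.Quotient.factor_eq
        rw [this]
        simp
      | succ b hab ih =>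
        have hfac : Ideal.Quotient.factorPow (IsLocalRing.maximalIdeal A) (Nat.le_succ_of_le hab) =
            (Ideal.Quotient.factorPow (IsLocalRing.maximalIdeal A) hab).comp
              (Ideal.Quotient.factor (Ideal.pow_le_pow_right (Nat.le_succ b))) :=
          (Ideal.Quotient.factor_comp _ _).symm
        rw [hfac, CommRingCat.ofHom_comp, Spec.map_comp, Category.assoc, hv b, ih]
    obtain ⟨pt⟩ := nonempty_spec A 0
    obtain ⟨_, ⟨U, hU : IsAffineOpen U, rfl⟩, hxU, -⟩ :=
      X.isBasis_affineOpens.exists_subset_of_mem_open (Set.mem_univ ((v (0 + 1)).base pt)) isOpen_univ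
    have hrange : ∀ n, Set.range (v n).base ⊆ (U : Set X) := by
      intro n
      rcases n with _ | n
      · rintro _ ⟨y, rfl⟩
        have hs : Subsingleton (A ⧸ (IsLocalRing.maximalIdeal A) ^ 0) := by
          rw [Ideal.Quotient.subsingleton_iff, pow_zero, Ideal.one_eq_top]
        have he : IsEmpty (PrimeSpectrum (A ⧸ (IsLocalRing.maximalIdeal A) ^ 0)) := inferInstance
        exact (he.false y).elim
      · rintro _ ⟨y, rfl⟩
        have hsub := subsingleton_spec A n
        have hy : y = (Spec.map (CommRingCat.ofHom (Ideal.Quotient.factorPow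
            (IsLocalRing.maximalIdeal A) (Nat.succ_le_succ (Nat.zero_le n))))).base pt :=
          Subsingleton.elim _ _
        have h1 := congrArg (fun φ => φ.base pt) (hcomp (0 + 1) (n + 1) (Nat.succ_le_succ (Nat.zero_le n)))
        simp only [Scheme.Hom.comp_base, TopCat.comp_app] at h1
        rw [hy, h1]
        exact hxU
    choose ψ hψ using fun n => exists_factor_affine U hU (v n) (hrange n)
    have hψc : ∀ {a b : ℕ} (hab : a ≤ b),
        (Ideal.Quotient.factorPow (IsLocalRing.maximalIdeal A) hab).comp (ψ b).hom = (ψ a).hom := by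
      intro a b hab
      have h1 : Spec.map (ψ b ≫ CommRingCat.ofHom (Ideal.Quotient.factorPow
          (IsLocalRing.maximalIdeal A) hab)) ≫ hU.isoSpec.inv ≫ Scheme.Opens.ι U =
          Spec.map (ψ a) ≫ hU.isoSpec.inv ≫ Scheme.Opens.ι U := by
        rw [Spec.map_comp, Category.assoc, ← hψ a, ← hψ b]
        exact hcomp a b hab
      have h2 := factor_affine_inj U hU _ _ h1
      exact congrArg CommRingCat.Hom.hom h2
    obtain ⟨φ, hφ⟩ : ∃ φ : Γ(X, U) →+* A, ∀ n,
        (Ideal.Quotient.mk ((IsLocalRing.maximalIdeal A) ^ n)).comp φ = (ψ n).hom := by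
      refine ⟨((AdicCompletion.ofAlgEquiv (IsLocalRing.maximalIdeal A)).symm :
        AdicCompletion (IsLocalRing.maximalIdeal A) A →+* A).comp
        (AdicCompletion.liftRingHom (IsLocalRing.maximalIdeal A) (fun n => (ψ n).hom) hψc), ?_⟩
      intro n
      ext r
      simp only [RingHom.comp_apply]
      erw [AdicCompletion.mk_ofAlgEquiv_symm, AdicCompletion.evalₐ_liftRingHom]
    refine ⟨Spec.map (CommRingCat.ofHom φ) ≫ hU.isoSpec.inv ≫ Scheme.Opens.ι U, fun n => ?_⟩
    rw [hψ n, ← Category.assoc, ← Spec.map_comp, ← CommRingCat.ofHom_comp, hφ n,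
      CommRingCat.ofHom_hom]

end Groth.Agent.S8384
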