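import Groth.Statements.S8392
import Mathlib
import Groth.Agent.Lib.Helper11MultGaB

set_option autoImplicit false
universe u
open CategoryTheory MonoidalCategory CartesianMonoidalCategory MonObj GrpObj AlgebraicGeometry
open SGA3x

namespace Groth.Agent.S8392


/-- Let H be an S-group scheme of multiplicative type. Then every homomorphism of S-groups H → 𝔾_a is
trivial. (Stated for H of multiplicative type and of finite type, the class of multiplicative groups
available here; the published statement allows any group of multiplicative type.) -/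
theorem result (S : Scheme.{u}) (H : Over S) [GrpObj H] (hH : SGA3x.IsMultTypeFT H)
    (u : H ⟶ Red.Ga S) [IsMonHom u] : u = 1 := by
  obtain ⟨S', f, hflat, hsurj, -, hloc⟩ := hH
  choose V hV M instM hFG φ using hloc
  -- the flat covering family of `H`
  have key : ∀ s' : S', Limits.pullback.fst H.hom ((V s').ι ≫ f) ≫ u.left =
      Limits.pullback.fst H.hom ((V s').ι ≫ f) ≫ (1 : H ⟶ Red.Ga S).left := by
    intro s'
    letI := instM s'
    obtain ⟨e⟩ := φ s'
    haveI : IsIso e.inv.hom.hom := by
      refine ⟨e.hom.hom.hom, ?_, ?_⟩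
      · have := congrArg (fun k => k.hom.hom) e.inv_hom_id
        exact this
      · have := congrArg (fun k => k.hom.hom) e.hom_inv_id
        exact this
    exact Groth.Agent.Lib.Helper11MultGa.fst_comp_eq H u ((V s').ι ≫ f) (M s') e.inv.hom.hom
  haveI : ∀ s' : S', Flat (Limits.pullback.fst H.hom ((V s').ι ≫ f)) := fun s' =>
    MorphismProperty.pullback_fst _ _ inferInstance
  obtain ⟨π, hπ⟩ : ∃ π : (∐ fun s' : S' => Limits.pullback H.hom ((V s').ι ≫ f)) ⟶ H.left,
      π = Limits.Sigma.desc (fun s' : S' => Limits.pullback.fst H.hom ((V s').ι ≫ f)) := ⟨_, rfl⟩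
  haveI : Flat π := by
    rw [hπ]
    exact IsZariskiLocalAtSource.sigmaDesc (fun s' => inferInstance)
  haveI : Surjective π := by
    refine ⟨fun h => ?_⟩
    obtain ⟨s', hs'⟩ := hsurj.surj (H.hom h)
    obtain ⟨z, hz, -⟩ := Scheme.Pullback.exists_preimage_pullback (f := H.hom)
      (g := (V s').ι ≫ f) h ⟨s', hV s'⟩ (by
        rw [Scheme.Hom.comp_apply]
        exact hs'.symm)
    refine ⟨(Limits.Sigma.ι (fun s' : S' => Limits.pullback H.hom ((V s').ι ≫ f)) s') z, ?_⟩
    rw [← Scheme.Hom.comp_apply, hπ, Limits.Sigma.ι_desc]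
    exact hz
  haveI : Epi π := Flat.epi_of_flat_of_surjective π
  apply Over.OverMorphism.ext
  rw [← cancel_epi π, hπ]
  apply Limits.Sigma.hom_ext
  intro s'
  rw [Limits.Sigma.ι_desc_assoc, Limits.Sigma.ι_desc_assoc]
  exact key s'

end Groth.Agent.S8392
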