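import Groth.Statements.S8441
import Mathlib.Tactic
import Mathlib.LinearAlgebra.Dimension.OrzechProperty

set_option autoImplicit false
universe u v w
open SGA3t2b

namespace Groth.Agent.S8441

section Helper

variable {ι : Type u} {M : Type v} {N : Type w} {R : Type*} [CommRing R] [Nontrivial R]
    [AddCommGroup M] [Module R M]
    [AddCommGroup N] [Module R N] (P : RootPairing ι R M N) {n : ℕ} (c : Fin n → ι)

/-- the span of the later simple roots -/
def V (i : Fin n) : Submodule R M := Submodule.span R ((fun j => P.root (c j)) '' {j | i < j})

lemma fold_mem (i : Fin n) (L : List (Fin n)) (hL : ∀ j ∈ L, i < j) (x : M)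
    (hx : x - P.root (c i) ∈ V P c i) :
    L.foldl (fun x j => P.reflection (c j) x) x - P.root (c i) ∈ V P c i := by
  induction L generalizing x with
  | nil => simpa using hx
  | cons j L ih =>
    rw [List.foldl_cons]
    apply ih (fun k hk => hL k (List.mem_cons_of_mem _ hk))
    rw [RootPairing.reflection_apply]
    rw [sub_right_comm]
    apply Submodule.sub_mem _ hx
    apply Submodule.smul_mem
    apply Submodule.subset_span
    exact ⟨j, hL j (List.mem_cons_self), rfl⟩

/-- the elements θᵢ -/
def theta (i : Fin n) : M :=
  ((List.finRange n).filter (fun j => i < j)).foldl (fun x j => P.reflection (c j) x) (P.root (c i))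

lemma theta_sub_mem (i : Fin n) : theta P c i - P.root (c i) ∈ V P c i := by
  apply fold_mem
  · intro j hj
    simpa using (List.mem_filter.mp hj).2
  · simp

lemma V_le (i : Fin n) : V P c i ≤ Submodule.span R (Set.range fun j => P.root (c j)) := by
  apply Submodule.span_mono
  rintro _ ⟨j, _, rfl⟩
  exact ⟨j, rfl⟩

lemma span_theta : Submodule.span R (Set.range (theta P c)) =
    Submodule.span R (Set.range fun j => P.root (c j)) := by
  apply le_antisymm
  · rw [Submodule.span_le]
    rintro _ ⟨i, rfl⟩
    have h1 := V_le P c i (theta_sub_mem P c i)
    have h2 : P.root (c i) ∈ Submodule.span R (Set.range fun j => P.root (c j)) :=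
      Submodule.subset_span ⟨i, rfl⟩
    have := Submodule.add_mem _ h1 h2
    simpa using this
  · rw [Submodule.span_le]
    have key : ∀ m : ℕ, ∀ i : Fin n, n - (i : ℕ) ≤ m →
        P.root (c i) ∈ Submodule.span R (Set.range (theta P c)) := by
      intro m
      induction m with
      | zero =>
        intro i hi
        have := i.2
        omega
      | succ m ih =>
        intro i hi
        have h1 : V P c i ≤ Submodule.span R (Set.range (theta P c)) := by
          unfold V
          rw [Submodule.span_le]
          rintro _ ⟨j, hj, rfl⟩
          apply ih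
          have hj' : (i : ℕ) < j := hj
          have := j.2
          omega
        have h2 : theta P c i ∈ Submodule.span R (Set.range (theta P c)) :=
          Submodule.subset_span ⟨i, rfl⟩
        have := Submodule.sub_mem _ h2 (h1 (theta_sub_mem P c i))
        simpa using this
    rintro _ ⟨i, rfl⟩
    exact key n i (Nat.sub_le _ _)

lemma linIndep_theta (hli : LinearIndependent R (fun j => P.root (c j))) :
    LinearIndependent R (theta P c) := by
  set W := Submodule.span R (Set.range fun j => P.root (c j)) with hW
  let B : Module.Basis (Fin n) R W := Module.Basis.span hli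
  have hmem : ∀ i, theta P c i ∈ W := fun i => by
    rw [hW, ← span_theta]
    exact Submodule.subset_span ⟨i, rfl⟩
  let θ' : Fin n → W := fun i => ⟨theta P c i, hmem i⟩
  have hθ : theta P c = W.subtype ∘ θ' := rfl
  have hspan : ⊤ ≤ Submodule.span R (Set.range θ') := by
    rw [top_le_iff]
    apply Submodule.map_injective_of_injective W.injective_subtype
    rw [Submodule.map_span, ← Set.range_comp, ← hθ, span_theta, Submodule.map_top,
      Submodule.range_subtype]
  have hli' : LinearIndependent R θ' := by
    apply linearIndependent_of_top_le_span_of_card_eq_finrank hspan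
    rw [Module.finrank_eq_card_basis B]
  rw [hθ]
  exact hli'.map' W.subtype (Submodule.ker_subtype W)

end Helper

/-- Let R be a root system with a system of simple roots a₁, …, aₙ and simple reflections rᵢ, and put θᵢ
= rₙ ⋯ rᵢ₊₁(aᵢ). Then the θᵢ form a basis of the group generated by the roots. Stated for a root
pairing over ℤ (Mathlib) with a base whose support is enumerated by Fin n: the θᵢ are ℤ-linearly
independent and their ℤ-span is the ℤ-span of all roots. -/
theorem result {ι : Type u} {M : Type v} {N : Type w} [AddCommGroup M] [Module ℤ M]
    [AddCommGroup N] [Module ℤ N] (P : RootPairing ι ℤ M N) (b : P.Base) (n : ℕ) (e : Fin n ≃ ↥b.support) :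
    LinearIndependent ℤ (fun i : Fin n =>
      ((List.finRange n).filter (fun j => i < j)).foldl (fun x j => P.reflection (e j : ι) x) (P.root (e i : ι))) ∧
    Submodule.span ℤ (Set.range (fun i : Fin n =>
      ((List.finRange n).filter (fun j => i < j)).foldl (fun x j => P.reflection (e j : ι) x) (P.root (e i : ι)))) =
      Submodule.span ℤ (Set.range P.root) := by
  have hli : LinearIndependent ℤ (fun j : Fin n => P.root ((e j : ι))) := by
    have h1 : LinearIndependent ℤ (fun i : b.support => P.root i) := b.linearIndepOn_root
    exact h1.comp e e.injective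
  have hrange : (Set.range fun j : Fin n => P.root ((e j : ι))) = P.root '' b.support := by
    ext x
    constructor
    · rintro ⟨j, rfl⟩
      exact ⟨(e j : ι), (e j).2, rfl⟩
    · rintro ⟨k, hk, rfl⟩
      exact ⟨e.symm ⟨k, hk⟩, by simp⟩
  refine ⟨linIndep_theta P (fun j => (e j : ι)) hli, ?_⟩
  have := span_theta P (fun j : Fin n => (e j : ι))
  rw [hrange, b.span_root_support] at this
  exact this

end Groth.Agent.S8441
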