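import Groth.Statements.S8476
import Mathlib.Tactic
import Groth.Agent.Lib.Helper27RankOneBridge

set_option autoImplicit false
universe u
open CategoryTheory MonoidalCategory CartesianMonoidalCategory MonObj GrpObj AlgebraicGeometry CategoryTheory.Limits
open Red

namespace Groth.Agent.S8476

open Groth.Agent.Lib.Helper27.GaGm Groth.Agent.Lib.Helper27.RankOne
  Groth.Agent.Lib.Helper27.RankOneBridge

/-- The product of two elements of the big cell: Let G be an S-group scheme, i : T ⟶ G a torus of G (a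
monomorphism of groups), α : T ⟶ 𝔾_m and α^* : 𝔾_m ⟶ T homomorphisms with α ∘ α^* the squaring map,
and p₊, p₋ : 𝔾_a ⟶ G homomorphisms normalised by T with multipliers α and α⁻¹ which satisfy the
rank-one commutation rule: whenever 1 + xy is invertible, p₊(x) p₋(y) = p₋(y/(1+xy)) · i(α^*(1+xy))
· p₊(x/(1+xy)) (the situation of any reductive group of semisimple rank 1 with trivialised root
groups, where α^* is the coroot). Let y, t, x, y', t', x' be points (of 𝔾_a, T, 𝔾_a, ...) with u = 1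
+ x y' invertible. Then p₋(y) i(t) p₊(x) · p₋(y') i(t') p₊(x') = p₋(y + y'/(u α(t))) · i(t α^*(u)
t') · p₊(x/(u α(t')) + x'). (The published statement is for a reductive group of semisimple rank one
with a maximal torus and a root, and also asserts that the product lies in the big cell only if u is
invertible; this row assumes only the commutation rule, the normalisation of p₊, p₋ by T and α ∘ α^*
the squaring map, which is all the published proof uses for the product formula, and does not assert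
the converse membership statement.) -/
theorem result (S : Scheme.{u}) (G T : Over S) [GrpObj G] [GrpObj T] (i : T ⟶ G) [IsMonHom i] [Mono i] (hT : Red.IsTorus T)
    (α : T ⟶ Red.Gm S) [IsMonHom α]
    (pp pm : Red.Ga S ⟶ G) [IsMonHom pp] [IsMonHom pm]
    (hpp : ∀ (X : Over S) (t : X ⟶ T) (x : X ⟶ Red.Ga S), ∃ x' : X ⟶ Red.Ga S,
      x' ≫ pp = (t ≫ i) * (x ≫ pp) * (t ≫ i)⁻¹ ∧ Red.gaFn x' = Red.gmFn (t ≫ α) * Red.gaFn x)
    (hpm : ∀ (X : Over S) (t : X ⟶ T) (y : X ⟶ Red.Ga S), ∃ y' : X ⟶ Red.Ga S,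
      y' ≫ pm = (t ≫ i) * (y ≫ pm) * (t ≫ i)⁻¹ ∧ Red.gaFn y' * Red.gmFn (t ≫ α) = Red.gaFn y)
    (av : Red.Gm S ⟶ T) [IsMonHom av] (h2 : av ≫ α = (𝟙 (Red.Gm S)) ^ 2)
    (hF : ∀ (X : Over S) (x y : X ⟶ Red.Ga S), IsUnit (1 + Red.gaFn x * Red.gaFn y) →
      ∃ (x' y' : X ⟶ Red.Ga S) (z : X ⟶ Red.Gm S), Red.gmFn z = 1 + Red.gaFn x * Red.gaFn y ∧
        Red.gaFn x' * Red.gmFn z = Red.gaFn x ∧ Red.gaFn y' * Red.gmFn z = Red.gaFn y ∧
        (x ≫ pp) * (y ≫ pm) = (y' ≫ pm) * (z ≫ av ≫ i) * (x' ≫ pp))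
    (X : Over S) (x y x' y' y₂ x₂ : X ⟶ Red.Ga S) (t t' : X ⟶ T) (z : X ⟶ Red.Gm S)
    (hz : Red.gmFn z = 1 + Red.gaFn x * Red.gaFn y')
    (hy₂ : (Red.gaFn y₂ - Red.gaFn y) * Red.gmFn z * Red.gmFn (t ≫ α) = Red.gaFn y')
    (hx₂ : (Red.gaFn x₂ - Red.gaFn x') * Red.gmFn z * Red.gmFn (t' ≫ α) = Red.gaFn x) :
    ((y ≫ pm) * (t ≫ i) * (x ≫ pp)) * ((y' ≫ pm) * (t' ≫ i) * (x' ≫ pp)) =
      (y₂ ≫ pm) * ((t * (z ≫ av) * t') ≫ i) * (x₂ ≫ pp) := by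
  set D := sys i α pp pm hpp hpm av h2 hF X with hD
  have hu : ((gmUnit z : Γ(X.left, ⊤)ˣ) : Γ(X.left, ⊤)) = 1 + Red.gaFn x * Red.gaFn y' := hz
  have key := D.bigCell_mul (Red.gaFn x) (Red.gaFn y) (Red.gaFn x') (Red.gaFn y') (gmUnit z)
    (gmUnit (t ≫ α)) (gmUnit (t' ≫ α)) (t ≫ i) (t' ≫ i) hu
    (fun b => sys_conj_Q i α pp pm hpp hpm av h2 hF t b)
    (fun a => sys_conj_P i α pp pm hpp hpm av h2 hF t' a)
  have e1 : Red.gaFn y + (((gmUnit (t ≫ α))⁻¹ : Γ(X.left, ⊤)ˣ) : Γ(X.left, ⊤)) *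
      ((((gmUnit z)⁻¹ : Γ(X.left, ⊤)ˣ) : Γ(X.left, ⊤)) * Red.gaFn y') = Red.gaFn y₂ := by
    rw [← hy₂]
    have h1 : (Red.gaFn y₂ - Red.gaFn y) * Red.gmFn z * Red.gmFn (t ≫ α) =
        ((gmUnit z : Γ(X.left, ⊤)ˣ) : Γ(X.left, ⊤)) *
          (((gmUnit (t ≫ α) : Γ(X.left, ⊤)ˣ) : Γ(X.left, ⊤)) * (Red.gaFn y₂ - Red.gaFn y)) := by
      rw [coe_gmUnit, coe_gmUnit]; ring
    rw [h1, Units.inv_mul_cancel_left, Units.inv_mul_cancel_left]; ring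
  have e2 : (((gmUnit (t' ≫ α))⁻¹ : Γ(X.left, ⊤)ˣ) : Γ(X.left, ⊤)) *
      ((((gmUnit z)⁻¹ : Γ(X.left, ⊤)ˣ) : Γ(X.left, ⊤)) * Red.gaFn x) + Red.gaFn x' = Red.gaFn x₂ := by
    rw [← hx₂]
    have h1 : (Red.gaFn x₂ - Red.gaFn x') * Red.gmFn z * Red.gmFn (t' ≫ α) =
        ((gmUnit z : Γ(X.left, ⊤)ˣ) : Γ(X.left, ⊤)) *
          (((gmUnit (t' ≫ α) : Γ(X.left, ⊤)ˣ) : Γ(X.left, ⊤)) * (Red.gaFn x₂ - Red.gaFn x')) := by
      rw [coe_gmUnit, coe_gmUnit]; ring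
    rw [h1, Units.inv_mul_cancel_left, Units.inv_mul_cancel_left]; ring
  rw [e1, e2] at key
  rw [hD, sys_Q_gaFn, sys_Q_gaFn, sys_Q_gaFn, sys_P_gaFn, sys_P_gaFn, sys_P_gaFn, sys_H_gmUnit] at key
  rw [key, MonObj.mul_comp, MonObj.mul_comp, Category.assoc]

end Groth.Agent.S8476
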