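import Groth.Statements.S8483
import Mathlib.Tactic
import Groth.Agent.Lib.Helper27RankOneBridge
import Groth.Agent.Lib.Helper27RankOneExt

set_option autoImplicit false
universe u
open CategoryTheory MonoidalCategory CartesianMonoidalCategory MonObj GrpObj AlgebraicGeometry CategoryTheory.Limits
open Red

namespace Groth.Agent.S8483

open Groth.Agent.Lib.Helper27.GaGm Groth.Agent.Lib.Helper27.RankOne
  Groth.Agent.Lib.Helper27.RankOneBridge Groth.Agent.Lib.Helper27.RankOneExt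

/-- the three identities over a base carrying `b` with `b (3 - b) = 1`. -/
lemma of_b {S : Scheme.{u}} {G T : Over S} [GrpObj G] [GrpObj T] (i : T ⟶ G) [IsMonHom i]
    (α : T ⟶ Red.Gm S) [IsMonHom α]
    (pp pm : Red.Ga S ⟶ G) [IsMonHom pp] [IsMonHom pm]
    (hpp : ∀ (X : Over S) (t : X ⟶ T) (x : X ⟶ Red.Ga S), ∃ x' : X ⟶ Red.Ga S,
      x' ≫ pp = (t ≫ i) * (x ≫ pp) * (t ≫ i)⁻¹ ∧ Red.gaFn x' = Red.gmFn (t ≫ α) * Red.gaFn x)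
    (hpm : ∀ (X : Over S) (t : X ⟶ T) (y : X ⟶ Red.Ga S), ∃ y' : X ⟶ Red.Ga S,
      y' ≫ pm = (t ≫ i) * (y ≫ pm) * (t ≫ i)⁻¹ ∧ Red.gaFn y' * Red.gmFn (t ≫ α) = Red.gaFn y)
    (av : Red.Gm S ⟶ T) [IsMonHom av] (h2 : av ≫ α = (𝟙 (Red.Gm S)) ^ 2)
    (hF : ∀ (X : Over S) (x y : X ⟶ Red.Ga S), IsUnit (1 + Red.gaFn x * Red.gaFn y) →
      ∃ (x' y' : X ⟶ Red.Ga S) (z : X ⟶ Red.Gm S), Red.gmFn z = 1 + Red.gaFn x * Red.gaFn y ∧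
        Red.gaFn x' * Red.gmFn z = Red.gaFn x ∧ Red.gaFn y' * Red.gmFn z = Red.gaFn y ∧
        (x ≫ pp) * (y ≫ pm) = (y' ≫ pm) * (z ≫ av ≫ i) * (x' ≫ pp))
    (X : Over S) (b : Γ(X.left, ⊤)) (hb : b * (3 - b) = 1)
    (x x' nx nx' y y' : X ⟶ Red.Ga S) (hx : Red.gaFn x' * Red.gaFn x = -1)
    (hnx : Red.gaFn nx = - Red.gaFn x)
    (hnx' : Red.gaFn nx' = - Red.gaFn x') (hy : Red.gaFn y' * Red.gaFn y = -1) (z : X ⟶ Red.Gm S)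
    (hz : Red.gmFn z = Red.gaFn x * Red.gaFn y) :
    (nx' ≫ pm) * (nx ≫ pp) * (nx' ≫ pm) = ((x ≫ pp) * (x' ≫ pm) * (x ≫ pp))⁻¹ ∧
      (nx ≫ pp) * (nx' ≫ pm) * (nx ≫ pp) = ((x ≫ pp) * (x' ≫ pm) * (x ≫ pp))⁻¹ ∧
      ((x ≫ pp) * (x' ≫ pm) * (x ≫ pp)) * ((y ≫ pm) * (y' ≫ pp) * (y ≫ pm)) = z ≫ av ≫ i := by
  set D := sys i α pp pm hpp hpm av h2 hF X with hD
  have hW := sys_W i α pp pm hpp hpm av h2 hF x x' hx
  rw [← hD] at hW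
  -- braid for x
  have hbr := D.W_eq_of_braid _ (D.braid (unitOf (Red.gaFn x) (Red.gaFn x') hx) b hb)
  rw [coe_unitOf, coe_inv_unitOf, neg_neg, hW, hD, sys_P_gaFn, sys_Q_gaFn] at hbr
  -- negatives
  have hnP : nx ≫ pp = (x ≫ pp)⁻¹ := by
    rw [← sys_P_gaFn i α pp pm hpp hpm av h2 hF nx, hnx, Sys.P_neg, sys_P_gaFn]
  have hnQ : nx' ≫ pm = (x' ≫ pm)⁻¹ := by
    rw [← sys_Q_gaFn i α pp pm hpp hpm av h2 hF nx', hnx', Sys.Q_neg, sys_Q_gaFn]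
  -- braid for y'
  have hy' : Red.gaFn y * Red.gaFn y' = -1 := by rw [mul_comm]; exact hy
  have hWy := sys_W i α pp pm hpp hpm av h2 hF y' y hy'
  rw [← hD] at hWy
  have hbry := D.W_eq_of_braid _ (D.braid (unitOf (Red.gaFn y') (Red.gaFn y) hy') b hb)
  rw [coe_unitOf, coe_inv_unitOf, neg_neg, hD, sys_P_gaFn, sys_Q_gaFn, ← hD] at hbry
  refine ⟨?_, ?_, ?_⟩
  · rw [hnP, hnQ, hbr]; group
  · rw [hnP, hnQ]; group
  · rw [← hW, ← hbry, D.W_mul_W]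
    have hu : -(unitOf (Red.gaFn x) (Red.gaFn x') hx * (unitOf (Red.gaFn y') (Red.gaFn y) hy')⁻¹) =
        gmUnit z := by
      apply Units.ext
      rw [Units.val_neg, Units.val_mul, coe_unitOf, coe_inv_unitOf, coe_gmUnit, hz]; ring
    rw [hu, hD, sys_H_gmUnit]

/-- Let G be a reductive S-group, i : T ⟶ G a maximal torus, α a character of T non-trivial on every
geometric fibre, p₊, p₋ : 𝔾_a ⟶ G monomorphisms of groups normalised by T with multipliers α and α⁻¹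
whose cell map (y, t, x) ↦ p₋(y) i(t) p₊(x) is an open immersion 𝔾_a ×_S T ×_S 𝔾_a ⟶ G, and α^* :
𝔾_m ⟶ T the coroot: α ∘ α^* is the squaring map and p₊(x) p₋(y) = p₋(y/(1+xy)) · i(α^*(1+xy)) ·
p₊(x/(1+xy)) whenever 1 + xy is invertible (so p₊ and p₋ are dual to each other). For points x, y of
𝔾_a with invertible coordinates put w(x) = p₊(x) p₋(-x⁻¹) p₊(x) and w₋(y) = p₋(y) p₊(-y⁻¹) p₋(y).
Then w₋(x⁻¹) = w(x)⁻¹ = w(-x), and w(x) w₋(y) = i(α^*(x y)). -/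
theorem result (S : Scheme.{u}) (G T : Over S) [GrpObj G] [GrpObj T] (i : T ⟶ G) [IsMonHom i] [Mono i] (hG : Red.IsReductive G) (hTm : Red.IsMaximalTorus i)
    (α : T ⟶ Red.Gm S) [IsMonHom α] (hα : ∀ s : S, (Over.pullback (Red.geomPt s)).map α ≠ 1)
    (pp pm : Red.Ga S ⟶ G) [IsMonHom pp] [Mono pp] [IsMonHom pm] [Mono pm]
    (hpp : ∀ (X : Over S) (t : X ⟶ T) (x : X ⟶ Red.Ga S), ∃ x' : X ⟶ Red.Ga S,
      x' ≫ pp = (t ≫ i) * (x ≫ pp) * (t ≫ i)⁻¹ ∧ Red.gaFn x' = Red.gmFn (t ≫ α) * Red.gaFn x)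
    (hpm : ∀ (X : Over S) (t : X ⟶ T) (y : X ⟶ Red.Ga S), ∃ y' : X ⟶ Red.Ga S,
      y' ≫ pm = (t ≫ i) * (y ≫ pm) * (t ≫ i)⁻¹ ∧ Red.gaFn y' * Red.gmFn (t ≫ α) = Red.gaFn y)
    (hΩ : IsOpenImmersion (((pm ⊗ₘ i) ⊗ₘ pp) ≫ (μ[G] ▷ G) ≫ μ[G]).left)
    (av : Red.Gm S ⟶ T) [IsMonHom av] (h2 : av ≫ α = (𝟙 (Red.Gm S)) ^ 2)
    (hF : ∀ (X : Over S) (x y : X ⟶ Red.Ga S), IsUnit (1 + Red.gaFn x * Red.gaFn y) →
      ∃ (x' y' : X ⟶ Red.Ga S) (z : X ⟶ Red.Gm S), Red.gmFn z = 1 + Red.gaFn x * Red.gaFn y ∧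
        Red.gaFn x' * Red.gmFn z = Red.gaFn x ∧ Red.gaFn y' * Red.gmFn z = Red.gaFn y ∧
        (x ≫ pp) * (y ≫ pm) = (y' ≫ pm) * (z ≫ av ≫ i) * (x' ≫ pp))
    (X : Over S) (x x' nx nx' y y' : X ⟶ Red.Ga S) (hx : Red.gaFn x' * Red.gaFn x = -1) (hnx : Red.gaFn nx = - Red.gaFn x)
    (hnx' : Red.gaFn nx' = - Red.gaFn x') (hy : Red.gaFn y' * Red.gaFn y = -1) (z : X ⟶ Red.Gm S)
    (hz : Red.gmFn z = Red.gaFn x * Red.gaFn y) :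
    (nx' ≫ pm) * (nx ≫ pp) * (nx' ≫ pm) = ((x ≫ pp) * (x' ≫ pm) * (x ≫ pp))⁻¹ ∧
      (nx ≫ pp) * (nx' ≫ pm) * (nx ≫ pp) = ((x ≫ pp) * (x' ≫ pm) * (x ≫ pp))⁻¹ ∧
      ((x ≫ pp) * (x' ≫ pm) * (x ≫ pp)) * ((y ≫ pm) * (y' ≫ pp) * (y ≫ pm)) = z ≫ av ≫ i := by
  have hx' : Red.gaFn (πext X ≫ x') * Red.gaFn (πext X ≫ x) = -1 := by
    rw [gaFn_comp, gaFn_comp, ← map_mul, hx, map_neg, map_one]
  have hy' : Red.gaFn (πext X ≫ y') * Red.gaFn (πext X ≫ y) = -1 := by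
    rw [gaFn_comp, gaFn_comp, ← map_mul, hy, map_neg, map_one]
  have hnxe : Red.gaFn (πext X ≫ nx) = - Red.gaFn (πext X ≫ x) := by
    rw [gaFn_comp, gaFn_comp, hnx, map_neg]
  have hnxe' : Red.gaFn (πext X ≫ nx') = - Red.gaFn (πext X ≫ x') := by
    rw [gaFn_comp, gaFn_comp, hnx', map_neg]
  have hze : Red.gmFn (πext X ≫ z) = Red.gaFn (πext X ≫ x) * Red.gaFn (πext X ≫ y) := by
    rw [gmFn_comp, gaFn_comp, gaFn_comp, hz, map_mul]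
  obtain ⟨h1, h3, h4⟩ := of_b i α pp pm hpp hpm av h2 hF (Xext X) (bext X) (bext_mul X)
    (πext X ≫ x) (πext X ≫ x') (πext X ≫ nx) (πext X ≫ nx') (πext X ≫ y) (πext X ≫ y')
    hx' hnxe hnxe' hy' (πext X ≫ z) hze
  refine ⟨?_, ?_, ?_⟩
  · rw [← cancel_epi (πext X)]
    simp only [MonObj.comp_mul, GrpObj.comp_inv, ← Category.assoc]
    exact h1
  · rw [← cancel_epi (πext X)]
    simp only [MonObj.comp_mul, GrpObj.comp_inv, ← Category.assoc]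
    exact h3
  · rw [← cancel_epi (πext X)]
    simp only [MonObj.comp_mul, GrpObj.comp_inv, ← Category.assoc]
    exact h4

end Groth.Agent.S8483
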