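import Groth.Statements.S8509
import Groth.Agent.Lib.Helper3HensFE
import Groth.Agent.Lib.Helper20SmoothSec
import Mathlib

set_option autoImplicit false
set_option linter.style.haveILetI false
open CategoryTheory MonoidalCategory CartesianMonoidalCategory MonObj GrpObj AlgebraicGeometry
universe u
open RedSub

namespace Groth.Agent.S8509

open IsLocalRing Limits

-- smoothness passes from the group to its torsors
theorem smooth_of_isTorsor {S : Scheme.{u}} {G P : Over S} [GrpObj G] [Smooth G.hom]
    (a : AlgGrp.Action G P) (ha : RedSub.IsTorsor a) : Smooth P.hom := by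
  obtain ⟨hsurj, hflat, hlfp, hiso⟩ := ha
  have h1 : (lift a.act (snd G P)).left ≫ pullback.snd P.hom P.hom = pullback.snd G.hom P.hom := by
    have := congrArg (fun t => Over.Hom.left t) (lift_snd a.act (snd G P))
    rw [Over.comp_left] at this
    exact this
  haveI := hiso
  haveI : IsIso (lift a.act (snd G P)).left :=
    inferInstanceAs (IsIso ((Over.forget S).map (lift a.act (snd G P))))
  have h2 : Smooth (pullback.snd P.hom P.hom) := by
    have h3 : pullback.snd P.hom P.hom =
        inv (lift a.act (snd G P)).left ≫ pullback.snd G.hom P.hom := by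
      rw [← h1, IsIso.inv_hom_id_assoc]
    rw [h3]
    infer_instance
  exact MorphismProperty.of_pullback_snd_of_descendsAlong (P := @Smooth)
    (Q := @Surjective ⊓ @Flat ⊓ @LocallyOfFinitePresentation) (f := P.hom) (g := P.hom)
    ⟨⟨hsurj, hflat⟩, hlfp⟩ h2

/-- Let A be a henselian local ring, S = Spec A, and G an S-group scheme which is smooth and affine over
S. Then every torsor P under G (a representable principal homogeneous bundle) is isotrivial: there
is a finite etale surjective morphism S' ⟶ S such that P_{S'} has a section. (The published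
statement asks only that every finite set of points of G lie in an affine open; this row takes G
affine over S.) -/
theorem result (A : Type u) [CommRing A] [HenselianLocalRing A]
    {G P : Over (Spec (CommRingCat.of A))} [GrpObj G] [Smooth G.hom] [IsAffineHom G.hom] (a : AlgGrp.Action G P)
    (ha : RedSub.IsTorsor a) :
    ∃ (S' : Scheme.{u}) (f : S' ⟶ Spec (CommRingCat.of A)), IsFinite f ∧ Etale f ∧ Surjective f ∧
      RedSub.HasSection (Red.bc f P) := by
  haveI := smooth_of_isTorsor a ha
  haveI : Surjective P.hom := ha.1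
  obtain ⟨x, hx⟩ := P.hom.surjective (closedPoint A)
  obtain ⟨S'', g, s', hg, hgs, h, hh⟩ :=
    Groth.Agent.Lib.Helper20.SmoothSec.exists_etale_section_of_smooth P.hom x
  obtain ⟨_, ⟨U, hU : IsAffineOpen U, rfl⟩, hsU, -⟩ :=
    S''.isBasis_affineOpens.exists_subset_of_mem_open (Set.mem_univ s') isOpen_univ
  obtain ⟨α, hα⟩ : ∃ α : CommRingCat.of A ⟶ Γ(S'', U), Spec.map α = hU.fromSpec ≫ g :=
    ⟨Spec.preimage (hU.fromSpec ≫ g), Spec.map_preimage _⟩
  have hEt : Etale (Spec.map α) := by rw [hα]; infer_instance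
  have hEt' : α.hom.Etale := (HasRingHomProperty.Spec_iff (P := @Etale)).mp hEt
  letI : Algebra A Γ(S'', U) := α.hom.toAlgebra
  haveI hB : Algebra.Etale A Γ(S'', U) := hEt'
  obtain ⟨q, hq⟩ : ∃ q : PrimeSpectrum Γ(S'', U), q = hU.primeIdealOf ⟨s', hsU⟩ := ⟨_, rfl⟩
  have hq1 : hU.fromSpec q = s' := by rw [hq]; exact hU.fromSpec_primeIdealOf ⟨s', hsU⟩
  have hq2 : (Spec.map α) q = closedPoint A := by
    rw [hα, Scheme.Hom.comp_apply, hq1, hgs, hx]
  have hq3 : q.asIdeal.LiesOver (maximalIdeal A) := ⟨by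
    have := congrArg PrimeSpectrum.asIdeal hq2
    exact this.symm⟩
  obtain ⟨e, he, hfin, het, hff⟩ := Groth.Agent.Lib.Helper3.HensFE.exists_finite_etale_factor A Γ(S'', U) q.asIdeal hq3
  let f : Spec (CommRingCat.of (Γ(S'', U) ⧸ Ideal.span ({1 - e} : Set Γ(S'', U)))) ⟶
      Spec (CommRingCat.of A) := Spec.map (CommRingCat.ofHom (algebraMap A _))
  let σ : Spec (CommRingCat.of (Γ(S'', U) ⧸ Ideal.span ({1 - e} : Set Γ(S'', U)))) ⟶ P.left :=
    Spec.map (CommRingCat.ofHom (Ideal.Quotient.mk (Ideal.span ({1 - e} : Set Γ(S'', U))))) ≫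
      hU.fromSpec ≫ h
  have hσ : σ ≫ P.hom = f := by
    simp only [σ, Category.assoc, hh]
    rw [← hα, ← Spec.map_comp]
    rfl
  refine ⟨_, f, ?_, ?_, ?_, ?_⟩
  · rw [IsFinite.SpecMap_iff]
    exact RingHom.finite_algebraMap.mpr hfin
  · rw [HasRingHomProperty.Spec_iff (P := @Etale)]
    exact RingHom.etale_algebraMap.mpr het
  · exact ⟨PrimeSpectrum.comap_surjective_of_faithfullyFlat⟩
  · exact ⟨Over.homMk (pullback.lift σ (𝟙 _) (by rw [hσ]; simp)) (by
      show pullback.lift σ (𝟙 _) _ ≫ pullback.snd P.hom f = 𝟙 _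
      exact pullback.lift_snd _ _ _)⟩

end Groth.Agent.S8509
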