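import Groth.Statements.S8517
import Mathlib
-- import your own Groth.Agent.* helpers here

set_option autoImplicit false
set_option linter.style.haveILetI false
set_option linter.unusedSectionVars false
open CategoryTheory MonoidalCategory CartesianMonoidalCategory MonObj GrpObj AlgebraicGeometry
universe u
open RedSub

namespace Groth.Agent.S8517

variable {idx M N : Type} [AddCommGroup M] [AddCommGroup N] (P : RootPairing idx ℤ M N)

/-- index of the opposite root -/
abbrev ng (i : idx) : idx := P.reflectionPerm i i

lemma root_ng (i : idx) : P.root (ng P i) = - P.root i := by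
  simp [ng]

lemma ng_ng (i : idx) : ng P (ng P i) = i := by
  apply P.root.injective
  rw [root_ng, root_ng, neg_neg]

include P in
lemma torsionFreeM : IsAddTorsionFree M := by
  have : Module.IsReflexive ℤ M := .of_isPerfPair P.toLinearMap
  exact .of_isTorsionFree ℤ M

include P in
lemma torsionFreeN : IsAddTorsionFree N := by
  have : Module.IsReflexive ℤ N := .of_isPerfPair P.flip.toLinearMap
  exact .of_isTorsionFree ℤ N

/-- natural-number expansions of elements of the closure -/
lemma exists_nat_expansion (S : Finset idx) (m : M)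
    (hm : m ∈ AddSubmonoid.closure (P.root '' (S : Set idx))) :
    ∃ f : idx → ℕ, m = ∑ j ∈ S, f j • P.root j := by
  classical
  refine AddSubmonoid.closure_induction ?_ ⟨0, by simp⟩ ?_ hm
  · rintro - ⟨j, hj, rfl⟩
    refine ⟨Pi.single j 1, ?_⟩
    rw [Finset.sum_eq_single j]
    · simp
    · intro k _ hk
      simp [hk]
    · intro hj'
      exact absurd hj hj'
  · intro _ _ _ _ ⟨f, hf'⟩ ⟨g, hg'⟩
    exact ⟨f + g, by simp [hf', hg', add_smul, Finset.sum_add_distrib]⟩

variable [Finite idx]

section Pos
variable (b : P.Base)

theorem mem_posRoots_iff (c : idx) : c ∈ posRoots P b ↔ b.IsPos c := by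
  constructor
  · intro hc
    obtain ⟨f, hf'⟩ := exists_nat_expansion P b.support _ hc
    have heq : P.root c = ∑ j ∈ b.support, ((fun j => (f j : ℤ)) j) • P.root j := by
      rw [hf']
      refine Finset.sum_congr rfl fun j _ => ?_
      simp
    have hh : b.height c = ∑ j ∈ b.support, (f j : ℤ) := b.height_eq_sum heq
    have hpos : 0 ≤ b.height c := by
      rw [hh]
      exact Finset.sum_nonneg fun j _ => Int.natCast_nonneg _
    exact (b.isPos_iff').mpr hpos
  · intro hc
    rcases b.root_mem_or_neg_mem c with h | h
    · exact h
    · exfalso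
      obtain ⟨f, hf'⟩ := exists_nat_expansion P b.support _ h
      have heq : P.root c = ∑ j ∈ b.support, ((fun j => -(f j : ℤ)) j) • P.root j := by
        rw [← neg_neg (P.root c), hf', ← Finset.sum_neg_distrib]
        refine Finset.sum_congr rfl fun j _ => ?_
        simp
      have hh := b.height_eq_sum heq
      have hle : b.height c ≤ 0 := by
        rw [hh]
        exact Finset.sum_nonpos fun j _ => by simp
      rw [RootPairing.Base.isPos_iff] at hc
      omega

lemma ng_mem_posRoots_iff (c : idx) : ng P c ∈ posRoots P b ↔ c ∉ posRoots P b := by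
  rw [mem_posRoots_iff, mem_posRoots_iff]
  exact RootPairing.Base.IsPos.neg_iff_not b c

lemma mem_or_ng_mem (c : idx) : c ∈ posRoots P b ∨ ng P c ∈ posRoots P b := by
  by_cases h : c ∈ posRoots P b
  · exact Or.inl h
  · exact Or.inr ((ng_mem_posRoots_iff P b c).mpr h)

/-- the simple reflection permutes the positive roots other than the simple root -/
lemma refl_mem_posRoots {α c : idx} (hα : α ∈ b.support) (hc : c ∈ posRoots P b) (hne : c ≠ α) :
    P.reflectionPerm α c ∈ posRoots P b := by
  classical
  rcases b.root_mem_or_neg_mem (P.reflectionPerm α c) with h | h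
  · exact h
  exfalso
  obtain ⟨f, hf⟩ := exists_nat_expansion P b.support _ hc
  obtain ⟨g, hg⟩ := exists_nat_expansion P b.support _ h
  rw [P.root_reflectionPerm, P.reflection_apply_root] at hg
  set n : ℤ := P.pairing c α with hn
  -- the linear relation
  have hrel : ∑ j ∈ b.support, (((f j : ℤ) + (g j : ℤ))) • P.root j =
      ∑ j ∈ b.support, ((Pi.single α n : idx → ℤ) j) • P.root j := by
    have h1 : ∑ j ∈ b.support, ((Pi.single α n : idx → ℤ) j) • P.root j = n • P.root α := by
      rw [Finset.sum_eq_single_of_mem α hα]
      · simp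
      · intro k _ hk
        simp [hk]
    rw [h1]
    simp_rw [add_smul, Finset.sum_add_distrib, natCast_zsmul]
    rw [← hf, ← hg]
    abel
  have hli := b.linearIndepOn_root
  have hcoef : ∀ j ∈ b.support, (f j : ℤ) + (g j : ℤ) = (Pi.single α n : idx → ℤ) j := by
    intro j hj
    rw [b.support.sum_subtype (p := (· ∈ b.support)) (by simp) (F := inferInstance),
      b.support.sum_subtype (p := (· ∈ b.support)) (by simp) (F := inferInstance)] at hrel
    have aux := Fintype.linearIndependent_iffₛ.mp hli
      (fun j : b.support => (f j : ℤ) + (g j : ℤ)) (fun j : b.support => (Pi.single α n : idx → ℤ) j)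
      (by simpa using hrel) ⟨j, hj⟩
    simpa using aux
  have hf0 : ∀ j ∈ b.support, j ≠ α → f j = 0 := by
    intro j hj hjα
    have := hcoef j hj
    rw [Pi.single_apply, if_neg hjα] at this
    omega
  have hroot : P.root c = (f α : ℤ) • P.root α := by
    rw [hf, Finset.sum_eq_single_of_mem α hα]
    · simp
    · intro k hk hkα
      simp [hf0 k hk hkα]
  haveI := torsionFreeM P
  haveI := torsionFreeN P
  have h1 := b.eq_one_or_neg_one_of_mem_support_of_smul_mem α hα (f α : ℤ) ⟨c, hroot⟩
  have h2 : (f α : ℤ) = 1 := by
    rcases h1 with h1 | h1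
    · exact h1
    · have : (0 : ℤ) ≤ (f α : ℤ) := Int.natCast_nonneg _
      omega
  rw [h2, one_smul] at hroot
  exact hne (P.root.injective hroot)

end Pos

section Refl
variable (b : P.Base) (α : idx)

/-- the base reflected in the root `α` -/
noncomputable def reflBase : P.Base where
  support := b.support.map (P.reflectionPerm α).toEmbedding
  linearIndepOn_root := by
    rw [Finset.coe_map]
    apply LinearIndepOn.image_of_comp
    have h1 : P.root ∘ (P.reflectionPerm α).toEmbedding = (P.reflection α) ∘ P.root := by
      ext j
      simp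
    rw [h1]
    exact b.linearIndepOn_root.map_injOn (P.reflection α).toLinearMap
      ((P.reflection α).injective.injOn)
  linearIndepOn_coroot := by
    rw [Finset.coe_map]
    apply LinearIndepOn.image_of_comp
    have h1 : P.coroot ∘ (P.reflectionPerm α).toEmbedding = (P.coreflection α) ∘ P.coroot := by
      ext j
      simp
    rw [h1]
    exact b.linearIndepOn_coroot.map_injOn (P.coreflection α).toLinearMap
      ((P.coreflection α).injective.injOn)
  root_mem_or_neg_mem i := by
    rw [Finset.coe_map]
    have hcl : AddSubmonoid.closure (P.root '' ((P.reflectionPerm α).toEmbedding '' (b.support : Set idx))) =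
        (AddSubmonoid.closure (P.root '' (b.support : Set idx))).map
          ((P.reflection α).toLinearMap.toAddMonoidHom) := by
      rw [AddMonoidHom.map_mclosure, ← Set.image_comp, ← Set.image_comp]
      congr 1
      apply Set.image_congr
      intro j _
      simp
    rw [hcl]
    rcases b.root_mem_or_neg_mem (P.reflectionPerm α i) with h | h
    · left
      refine ⟨_, h, ?_⟩
      simp
    · right
      refine ⟨_, h, ?_⟩
      simp
  coroot_mem_or_neg_mem i := by
    rw [Finset.coe_map]
    have hcl : AddSubmonoid.closure (P.coroot '' ((P.reflectionPerm α).toEmbedding '' (b.support : Set idx))) =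
        (AddSubmonoid.closure (P.coroot '' (b.support : Set idx))).map
          ((P.coreflection α).toLinearMap.toAddMonoidHom) := by
      rw [AddMonoidHom.map_mclosure, ← Set.image_comp, ← Set.image_comp]
      congr 1
      apply Set.image_congr
      intro j _
      simp
    rw [hcl]
    rcases b.coroot_mem_or_neg_mem (P.reflectionPerm α i) with h | h
    · left
      refine ⟨_, h, ?_⟩
      simp
    · right
      refine ⟨_, h, ?_⟩
      simp

lemma mem_posRoots_reflBase (c : idx) :
    c ∈ posRoots P (reflBase P b α) ↔ P.reflectionPerm α c ∈ posRoots P b := by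
  have hcl : AddSubmonoid.closure (P.root '' (((reflBase P b α).support : Finset idx) : Set idx)) =
      (AddSubmonoid.closure (P.root '' (b.support : Set idx))).map
        ((P.reflection α).toLinearMap.toAddMonoidHom) := by
    change AddSubmonoid.closure (P.root ''
      ((b.support.map (P.reflectionPerm α).toEmbedding : Finset idx) : Set idx)) = _
    rw [Finset.coe_map, AddMonoidHom.map_mclosure, ← Set.image_comp, ← Set.image_comp]
    congr 1
    apply Set.image_congr
    intro j _
    simp
  change P.root c ∈ AddSubmonoid.closure (P.root '' (((reflBase P b α).support : Finset idx) : Set idx))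
    ↔ P.root (P.reflectionPerm α c) ∈ AddSubmonoid.closure (P.root '' (b.support : Set idx))
  rw [hcl]
  constructor
  · rintro ⟨y, hy, hyc⟩
    have : y = P.root (P.reflectionPerm α c) := by
      rw [P.root_reflectionPerm, ← hyc]
      simp
    rw [← this]
    exact hy
  · intro h
    refine ⟨_, h, ?_⟩
    simp

end Refl


/-- Let R be the set of roots of a root pairing over ℤ with finitely many roots, and R₁, R₂ two closed
subsets of R (if a, b ∈ Rᵢ and root a + root b is a root c then c ∈ Rᵢ), each containing a system of
positive roots (the positive roots of some base). If R₁ ∪ R₂ = R, then R₁ ∩ (−R₂) (the roots of R₁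
whose negative is a root in R₂) contains a system of positive roots. -/
theorem result {idx M N : Type} [Finite idx] [AddCommGroup M] [AddCommGroup N] (P : RootPairing idx ℤ M N) (R₁ R₂ : Set idx)
    (h₁ : ∀ a b c : idx, a ∈ R₁ → b ∈ R₁ → P.root a + P.root b = P.root c → c ∈ R₁)
    (h₂ : ∀ a b c : idx, a ∈ R₂ → b ∈ R₂ → P.root a + P.root b = P.root c → c ∈ R₂)
    (hb₁ : ∃ b : P.Base, RedSub.posRoots P b ⊆ R₁) (hb₂ : ∃ b : P.Base, RedSub.posRoots P b ⊆ R₂)
    (hunion : R₁ ∪ R₂ = Set.univ) :
    ∃ b : P.Base, RedSub.posRoots P b ⊆ {a | a ∈ R₁ ∧ ∃ c ∈ R₂, P.root a = -P.root c} := by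
  classical
  obtain ⟨b₂, hb₂⟩ := hb₂
  -- Step 1: a base with positive roots in R₁ whose negated simple roots are in R₂
  have key : ∀ n : ℕ, ∀ b : P.Base, posRoots P b ⊆ R₁ →
      (posRoots P b ∩ posRoots P b₂).ncard = n →
      ∃ b' : P.Base, posRoots P b' ⊆ R₁ ∧ ∀ α ∈ b'.support, ng P α ∈ R₂ := by
    intro n
    induction n using Nat.strong_induction_on with
    | _ n ih =>
      intro b hb hn
      by_cases hall : ∀ α ∈ b.support, ng P α ∈ R₂
      · exact ⟨b, hb, hall⟩
      push Not at hall
      obtain ⟨α, hα, hαR₂⟩ := hall
      have hαR₁ : ng P α ∈ R₁ := by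
        have : ng P α ∈ R₁ ∪ R₂ := hunion ▸ Set.mem_univ _
        exact this.resolve_right hαR₂
      have hαpos₂ : α ∈ posRoots P b₂ := by
        rcases mem_or_ng_mem P b₂ α with h | h
        · exact h
        · exact absurd (hb₂ h) hαR₂
      have hαpos : α ∈ posRoots P b := by
        rw [mem_posRoots_iff]
        exact RootPairing.Base.isPos_of_mem_support hα
      -- the reflected base
      have hb'sub : ∀ c, c ∈ posRoots P (reflBase P b α) → c ≠ ng P α → c ∈ posRoots P b := by
        intro c hc hcne
        rw [mem_posRoots_reflBase] at hc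
        have hne : P.reflectionPerm α c ≠ α := by
          intro h
          apply hcne
          have h' := congrArg (P.reflectionPerm α) h
          rw [P.reflectionPerm_self] at h'
          exact h'
        have := refl_mem_posRoots P b hα hc hne
        rwa [P.reflectionPerm_self] at this
      have hb' : posRoots P (reflBase P b α) ⊆ R₁ := by
        intro c hc
        by_cases hcne : c = ng P α
        · rw [hcne]; exact hαR₁
        · exact hb (hb'sub c hc hcne)
      have hαnot : α ∉ posRoots P (reflBase P b α) := by
        rw [mem_posRoots_reflBase]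
        change ng P α ∉ posRoots P b
        rw [ng_mem_posRoots_iff]
        exact fun h => h hαpos
      have hss : posRoots P (reflBase P b α) ∩ posRoots P b₂ ⊂ posRoots P b ∩ posRoots P b₂ := by
        refine ⟨?_, ?_⟩
        · rintro c ⟨hc1, hc2⟩
          refine ⟨hb'sub c hc1 ?_, hc2⟩
          intro h
          exact hαR₂ (hb₂ (h ▸ hc2))
        · intro hsub
          exact hαnot (hsub ⟨hαpos, hαpos₂⟩).1
      have hlt := Set.ncard_lt_ncard hss (Set.toFinite _)
      exact ih _ (hn ▸ hlt) (reflBase P b α) hb' rfl
  obtain ⟨b₁, hb₁⟩ := hb₁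
  obtain ⟨b, hb, hsimple⟩ := key _ b₁ hb₁ rfl
  refine ⟨b, fun a ha => ⟨hb ha, ng P a, ?_, by rw [root_ng, neg_neg]⟩⟩
  -- Step 2: negatives of all positive roots are in R₂
  have hapos : b.IsPos a := (mem_posRoots_iff P b a).mp ha
  refine hapos.induction_on_add (p := fun c => ng P c ∈ R₂) hsimple ?_
  intro i j k hk hi hj
  refine h₂ (ng P i) (ng P j) (ng P k) hi (hsimple j hj) ?_
  rw [root_ng, root_ng, root_ng, hk]
  abel

end Groth.Agent.S8517
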