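import Groth.Statements.S8524
import Groth.Agent.Lib.Helper4EtTors

set_option autoImplicit false
universe u
open CategoryTheory CategoryTheory.Limits AlgebraicGeometry Opposite
open EtAcyc

namespace Groth.Agent.S8524

/-- For the small etale site of a scheme and abelian sheaves: let L be a set of primes, F an abelian
L-torsion sheaf on the small etale site of a scheme X, and U an etale X-scheme with quasi-compact
underlying space. Then every section of F over U is killed by some positive integer all of whose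
prime factors lie in L. -/
theorem result {X : Scheme.{u}} (L : Set ℕ) (F : EtCoh.Ab X)
    (hF : EtAcyc.IsLTorsion L F) (U : X.Etale) [CompactSpace U.left] (s : EtCoh.sect F U) :
    ∃ m : ℕ, EtAcyc.PrimesIn L m ∧ m • s = 0 := by
  choose V g m hv hm hkill using fun x => hF U s x
  have hopen : ∀ x, IsOpen (Set.range (g x).left) := fun x => (g x).left.isOpenMap.isOpen_range
  have hcov : (Set.univ : Set U.left) ⊆ ⋃ x, Set.range (g x).left := by
    intro x _
    obtain ⟨v, hv'⟩ := hv x
    exact Set.mem_iUnion.mpr ⟨x, v, hv'⟩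
  obtain ⟨t, ht⟩ := isCompact_univ.elim_finite_subcover _ hopen hcov
  refine ⟨∏ x ∈ t, m x, Groth.Agent.Lib.Helper4.EtTors.primesIn_prod L t m (fun x _ => hm x), ?_⟩
  have hsieve : Sieve.ofArrows _ (fun i : t => g i.1) ∈ X.smallEtaleTopology U := by
    rw [Scheme.ofArrows_mem_smallEtaleTopology_iff]
    apply Set.eq_univ_of_univ_subset
    intro x hx
    obtain ⟨i, hi⟩ := Set.mem_iUnion.mp (ht hx)
    obtain ⟨hit, hi'⟩ := Set.mem_iUnion.mp hi
    exact Set.mem_iUnion.mpr ⟨⟨i, hit⟩, hi'⟩
  apply Sheaf.isSeparated F U _ hsieve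
  rintro Y f ⟨Z, a, b, ⟨i⟩, rfl⟩
  rw [map_zero, map_nsmul]
  have : F.obj.map (a ≫ g i.1).op s = F.obj.map a.op (F.obj.map (g i.1).op s) := by
    rw [op_comp, F.obj.map_comp]; rfl
  rw [this]
  obtain ⟨c, hc⟩ := Finset.dvd_prod_of_mem m i.2
  rw [hc, mul_comm, mul_smul, ← map_nsmul, hkill, map_zero, smul_zero]

end Groth.Agent.S8524
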