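import Groth.Statements.S8539
import Groth.Agent.Lib.Helper3ShFTb
import Groth.Agent.Lib.Helper3ShFTc
import Groth.Agent.Lib.Helper3Branch
import Mathlib

set_option autoImplicit false
universe u
open CategoryTheory CategoryTheory.Limits AlgebraicGeometry Opposite
open EtCd

namespace Groth.Agent.S8539

/-- Let X be a scheme of finite type over a field k, x a point of X and A a strict henselization of the
local ring of X at x. Then there are a separably closed field k', a scheme X' of finite type over k'
and a closed point x' of X' such that A is (isomorphic to) a strict henselization of the local ring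
of X' at x': some local algebra structure over that local ring makes A a strict henselization of it. -/
theorem result (k : Type u) [Field k] {X : Scheme.{u}}
    (f : X ⟶ Spec (CommRingCat.of k)) [LocallyOfFiniteType f] [QuasiCompact f] (x : X)
    (A : Type u) [CommRing A] [IsLocalRing A] [Algebra (X.presheaf.stalk x) A]
    [IsLocalHom (algebraMap (X.presheaf.stalk x) A)] [Hensel.IsStrictHenselization (X.presheaf.stalk x) A] :
    ∃ (k' : Type u) (_ : Field k') (_ : IsSepClosed k') (X' : Scheme.{u}) (f' : X' ⟶ Spec (CommRingCat.of k'))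
      (_ : LocallyOfFiniteType f') (_ : QuasiCompact f') (x' : X') (_ : IsClosed ({x'} : Set X'))
      (_ : Algebra (X'.presheaf.stalk x') A) (_ : IsLocalHom (algebraMap (X'.presheaf.stalk x') A)),
      Hensel.IsStrictHenselization (X'.presheaf.stalk x') A := by
  have hx : f.base x = ((IsLocalRing.closedPoint k : PrimeSpectrum k) :
      ↥(Spec (CommRingCat.of k))) := by
    show (f.base x : PrimeSpectrum k) = _
    exact Subsingleton.elim _ _
  obtain ⟨ι, H⟩ := Groth.Agent.Lib.Helper3.ShFT.exists_scheme_model k f x hx A
  have h1 : (IsLocalRing.maximalIdeal k).map (MvPolynomial.C : k →+* MvPolynomial ι k) = ⊥ := by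
    rw [IsLocalRing.maximalIdeal_eq_bot, Ideal.map_bot]
  have hG : IsLocalRing.maximalIdeal (Localization.AtPrime
      ((IsLocalRing.maximalIdeal k).map (MvPolynomial.C : k →+* MvPolynomial ι k))) = ⊥ := by
    calc IsLocalRing.maximalIdeal _ = Ideal.map (algebraMap (MvPolynomial ι k) (Localization.AtPrime
          ((IsLocalRing.maximalIdeal k).map (MvPolynomial.C : k →+* MvPolynomial ι k))))
          ((IsLocalRing.maximalIdeal k).map (MvPolynomial.C : k →+* MvPolynomial ι k)) :=
          (IsLocalization.AtPrime.map_eq_maximalIdeal _ _).symm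
      _ = Ideal.map (algebraMap (MvPolynomial ι k) (Localization.AtPrime
          ((IsLocalRing.maximalIdeal k).map (MvPolynomial.C : k →+* MvPolynomial ι k)))) ⊥ :=
          congrArg _ h1
      _ = ⊥ := Ideal.map_bot
  obtain ⟨T₀, _, _, _, _, _⟩ := Groth.Agent.Lib.Helper3.Branch.exists_isStrictHenselization
    (Localization.AtPrime
      ((IsLocalRing.maximalIdeal k).map (MvPolynomial.C : k →+* MvPolynomial ι k)))
  obtain ⟨hfld, hsep⟩ := Groth.Agent.Lib.Helper3.ShFT.sh_isField _ hG T₀
  obtain ⟨X', f', h1, h2, x', h3, -, h5, h6, h7⟩ := H T₀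
  exact ⟨T₀, hfld.toField, hsep, X', f', h1, h2, x', h3, h5, h6, h7⟩

end Groth.Agent.S8539
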