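import Groth.Statements.S8540
import Mathlib
import Groth.Agent.Lib.Helper23ConstrSub
import Groth.Agent.Lib.Helper23ConstrColim3
import Groth.Agent.S0142
-- import your own Groth.Agent.* helpers here

set_option autoImplicit false
set_option backward.isDefEq.respectTransparency.types false
universe u
open CategoryTheory CategoryTheory.Limits AlgebraicGeometry Opposite
open EtPBC

namespace Groth.Agent.S8540


open Groth.Agent.Lib.Helper23ConstrSub Groth.Agent.Lib.Helper23ConstrGen
  Groth.Agent.Lib.Helper23ConstrTors Groth.Agent.Lib.Helper23ConstrColim

/-- Let X be a Noetherian scheme and F a torsion abelian sheaf on the small etale site of X. Then F is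
constructible if and only if F is a Noetherian object of the category of abelian etale sheaves on X
(ascending chain condition on subsheaves). -/
theorem result (X : Scheme.{u}) [IsNoetherian X] (F : EtCoh.Ab X)
    (hF : EtCoh.IsTorsion F) :
    EtPBC.IsConstructible F ↔ IsNoetherianObject F := by
  constructor
  · intro hc
    rw [isNoetherianObject_iff_monotone_chain_condition]
    intro c
    obtain ⟨N, hN⟩ := Groth.Agent.S0142.result X F hc c
    exact ⟨N, fun m hm => (hN m hm).symm⟩
  · intro hN
    let im : J F → Subobject F := fun j => imageSubobject (JObj.over F j).hom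
    have hmono : ∀ {j j' : J F} (m : j ⟶ j'), im j ≤ im j' := by
      intro j j' m
      have h : (JObj.over F j).hom = m.hom.left ≫ (JObj.over F j').hom := (Over.w m.hom).symm
      change imageSubobject _ ≤ _
      rw [h]
      exact imageSubobject_comp_le _ _
    obtain ⟨M, ⟨j₀, rfl⟩, hmax⟩ := WellFounded.has_min (wellFounded_gt (α := Subobject F))
      (Set.range im) ⟨_, ⟨(IsFiltered.nonempty (C := J F)).some, rfl⟩⟩
    have hle : ∀ j, im j ≤ im j₀ := by
      intro j
      have h1 := hmono (IsFiltered.leftToMax j₀ j)
      have h2 := hmono (IsFiltered.rightToMax j₀ j)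
      have h3 : im (IsFiltered.max j₀ j) = im j₀ := by
        by_contra hne
        exact hmax (im (IsFiltered.max j₀ j)) ⟨_, rfl⟩ (lt_of_le_of_ne h1 (Ne.symm hne))
      exact h3 ▸ h2
    -- `θ F` factors through the maximal image
    let cc : Cocone (DF F) :=
      { pt := (im j₀ : EtCoh.Ab X)
        ι := { app := fun j => factorThruImageSubobject (JObj.over F j).hom ≫
                  Subobject.ofLE _ _ (hle j)
               naturality := fun j j' m => by
                 rw [← cancel_mono (im j₀).arrow]
                 simp [DF, im] } }
    have hfac : colimit.desc (DF F) cc ≫ (im j₀).arrow = θ F := by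
      apply colimit.hom_ext
      intro j
      rw [colimit.ι_desc_assoc]
      change _ = ιJ F j ≫ θ F
      rw [ιJ_θ]
      simp [cc, im]
      exact imageSubobject_arrow_comp _
    haveI := epi_desc F hF
    haveI : Epi ((im j₀).arrow) := by
      haveI : Epi (colimit.desc (DF F) cc ≫ (im j₀).arrow) := by rw [hfac]; infer_instance
      exact epi_of_epi (colimit.desc (DF F) cc) _
    haveI : Epi (JObj.over F j₀).hom := by
      rw [← imageSubobject_arrow_comp (JObj.over F j₀).hom]
      exact epi_comp _ _
    obtain ⟨n, hn, hkn⟩ := exists_killedBy_of_isConstructible _ (isConstructible_J F j₀)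
    exact isConstructible_of_epi (JObj.over F j₀).hom n hn hkn (isConstructible_J F j₀)

end Groth.Agent.S8540
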