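import Groth.Statements.S8561
import Mathlib
import Groth.Agent.Lib.Helper23ExtZeroFun
import Groth.Agent.Lib.Helper23FinEtPush
import Groth.Agent.Lib.Helper10RedInd
import Groth.Agent.S0128
import Groth.Agent.S0648
import Groth.Agent.S0651
import Groth.Agent.S0654
-- import your own Groth.Agent.* helpers here

set_option autoImplicit false
set_option backward.isDefEq.respectTransparency.types false
universe u
open CategoryTheory CategoryTheory.Limits AlgebraicGeometry Opposite
open EtPBC

namespace Groth.Agent.S8561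


attribute [local instance] Groth.Agent.Lib.Helper9.JContAll.jCont

section Chain

variable {X : Scheme.{u}}

/-- one step of the filtration -/
def GoodStep {A B : EtCoh.Ab X} (ι : A ⟶ B) : Prop :=
  ∃ (U W : Scheme.{u}) (j : U ⟶ X) (_ : IsOpenImmersion j) (c : W ⟶ U)
    (_ : IsClosedImmersion c) (G : EtCoh.Ab W)
    (π : B ⟶ (EtShriek.extZero j).obj ((EtCoh.push c).obj G)) (hz : ι ≫ π = 0),
    Topology.IsConstructible (Set.range (c ≫ j)) ∧ EtCoh.IsFiniteLocallyConstant G ∧
    (ShortComplex.mk ι π hz).ShortExact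

lemma GoodStep.precomp_iso {A' A B : EtCoh.Ab X} (e : A' ≅ A) {ι : A ⟶ B} (h : GoodStep ι) :
    GoodStep (e.hom ≫ ι) := by
  obtain ⟨U, W, j, hj, c, hc, G, π, hz, h1, h2, h3⟩ := h
  refine ⟨U, W, j, hj, c, hc, G, π, by rw [Category.assoc, hz, comp_zero], h1, h2, ?_⟩
  refine ShortComplex.shortExact_of_iso ?_ h3
  exact ShortComplex.isoMk e.symm (Iso.refl _) (Iso.refl _) (by simp) (by simp)

lemma GoodStep.postcomp_iso {A B B' : EtCoh.Ab X} (e : B ≅ B') {ι : A ⟶ B} (h : GoodStep ι) :
    GoodStep (ι ≫ e.hom) := by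
  obtain ⟨U, W, j, hj, c, hc, G, π, hz, h1, h2, h3⟩ := h
  refine ⟨U, W, j, hj, c, hc, G, e.inv ≫ π, by simp [hz], h1, h2, ?_⟩
  refine ShortComplex.shortExact_of_iso ?_ h3
  exact ShortComplex.isoMk (Iso.refl _) e (Iso.refl _) (by simp) (by simp)

/-- chains of good steps -/
inductive Chain : EtCoh.Ab X → EtCoh.Ab X → Prop
  | refl {A B : EtCoh.Ab X} (e : A ≅ B) : Chain A B
  | cons {A B C : EtCoh.Ab X} (ι : A ⟶ B) (h : GoodStep ι) (t : Chain B C) : Chain A C

lemma Chain.of_iso_left {A A' C : EtCoh.Ab X} (e : A' ≅ A) (h : Chain A C) : Chain A' C := by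
  cases h with
  | refl e' => exact Chain.refl (e ≪≫ e')
  | cons ι g t => exact Chain.cons (e.hom ≫ ι) (g.precomp_iso e) t

lemma Chain.trans {A B C : EtCoh.Ab X} (h₁ : Chain A B) (h₂ : Chain B C) : Chain A C := by
  induction h₁ with
  | refl e => exact h₂.of_iso_left e
  | cons ι g _ ih => exact Chain.cons ι g (ih h₂)

lemma Chain.of_iso_right {A C C' : EtCoh.Ab X} (e : C ≅ C') (h : Chain A C) : Chain A C' :=
  h.trans (Chain.refl e)

/-- `ℕ`-indexed form -/
def HasFilt (A C : EtCoh.Ab X) : Prop :=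
  ∃ (n : ℕ) (E : ℕ → EtCoh.Ab X) (ι : ∀ k, E k ⟶ E (k + 1)),
    Nonempty (E 0 ≅ A) ∧ Nonempty (E n ≅ C) ∧ ∀ k, k < n → GoodStep (ι k)

lemma Chain.hasFilt {A C : EtCoh.Ab X} (h : Chain A C) : HasFilt A C := by
  induction h with
  | @refl A B e => exact ⟨0, fun _ => A, fun _ => 𝟙 A, ⟨Iso.refl _⟩, ⟨e⟩, fun k hk => absurd hk (by omega)⟩
  | @cons A B C ι g _ ih =>
    obtain ⟨n, E, ι', ⟨e0⟩, ⟨en⟩, hg⟩ := ih
    let E' : ℕ → EtCoh.Ab X := fun k => match k with
      | 0 => A
      | k + 1 => E k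
    let ι'' : ∀ k, E' k ⟶ E' (k + 1) := fun k => match k with
      | 0 => ι ≫ e0.inv
      | k + 1 => ι' k
    refine ⟨n + 1, E', ι'', ⟨Iso.refl _⟩, ⟨en⟩, ?_⟩
    intro k hk
    match k with
    | 0 => exact g.postcomp_iso e0.symm
    | k + 1 => exact hg k (by omega)

end Chain

section EJ

open Groth.Agent.Lib.Helper23ExtZeroFun

variable {X : Scheme.{u}} (F : EtCoh.Ab X)

/-- `j_! j⁻¹ F` -/
noncomputable def EJ {U : Scheme.{u}} (j : U ⟶ X) [Etale j] : EtCoh.Ab X :=
  (EtShriek.extZero j).obj ((EtShriek.restrAlong j).obj F)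

/-- restriction along an isomorphism is an equivalence -/
noncomputable def restrEquiv {U₁ U₂ : Scheme.{u}} (φ : U₁ ≅ U₂) : EtCoh.Ab U₂ ≌ EtCoh.Ab U₁ :=
  CategoryTheory.Equivalence.mk (EtShriek.restrAlong φ.hom) (EtShriek.restrAlong φ.inv)
    ((restrAlongComp φ.inv φ.hom) ≪≫ restrAlongCongr φ.inv_hom_id ≪≫ restrAlongId U₂).symm
    ((restrAlongComp φ.hom φ.inv) ≪≫ restrAlongCongr φ.hom_inv_id ≪≫ restrAlongId U₁)

instance isEquivalence_restrAlong {U₁ U₂ : Scheme.{u}} (φ : U₁ ≅ U₂) :
    (EtShriek.restrAlong φ.hom).IsEquivalence :=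
  (restrEquiv φ).isEquivalence_functor

/-- the counit of `φ_! ⊣ φ⁻¹` is invertible for an isomorphism `φ` -/
lemma isIso_counit_of_iso {U₁ U₂ : Scheme.{u}} (φ : U₁ ≅ U₂) (G : EtCoh.Ab U₂) :
    IsIso ((EtShriek.extZeroAdj φ.hom).counit.app G) := by
  haveI : IsIso (EtShriek.extZeroAdj φ.hom).counit :=
    (EtShriek.extZeroAdj φ.hom).counit_isIso_of_R_fully_faithful
  infer_instance

/-- `EJ` only depends on the open immersion up to isomorphism -/
noncomputable def EJIso {U₁ U₂ : Scheme.{u}} (j₁ : U₁ ⟶ X) (j₂ : U₂ ⟶ X) [Etale j₁] [Etale j₂]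
    (φ : U₁ ≅ U₂) (h : φ.hom ≫ j₂ = j₁) : EJ F j₁ ≅ EJ F j₂ := by
  haveI := isIso_counit_of_iso φ ((EtShriek.restrAlong j₂).obj F)
  exact (extZeroCongr h.symm).app _ ≪≫
    (EtShriek.extZero (φ.hom ≫ j₂)).mapIso ((restrAlongCongr h.symm).app F) ≪≫
    ((extZeroComp φ.hom j₂).app _).symm ≪≫
    (EtShriek.extZero j₂).mapIso ((EtShriek.extZero φ.hom).mapIso
      (((restrAlongComp φ.hom j₂).app F).symm) ≪≫
      asIso ((EtShriek.extZeroAdj φ.hom).counit.app ((EtShriek.restrAlong j₂).obj F)))

/-- `EJ` along the identity -/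
noncomputable def EJId : EJ F (𝟙 X) ≅ F :=
  (extZeroId X).app _ ≪≫ (restrAlongId X).app F

end EJ

section Step

open Groth.Agent.Lib.Helper23ExtZeroFun Groth.Agent.Lib.Helper23FlcSerre
  Groth.Agent.Lib.Helper23FlcExt Groth.Agent.Lib.Helper23Constr Groth.Agent.Lib.Helper23LCPull
  Groth.Agent.Lib.Helper10.RedInd
open Scheme.IdealSheafData

variable {X : Scheme.{u}} (F : EtCoh.Ab X)

/-- restriction along an etale morphism is the inverse image -/
noncomputable def restrPullIso {U : Scheme.{u}} (j : U ⟶ X) [Etale j] :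
    EtShriek.restrAlong j ≅ EtCoh.pull j :=
  Adjunction.leftAdjointUniq (Groth.Agent.S0651.restrPushAdj j) (EtCoh.pullPushAdj j)

theorem chain_step (W W' : X.Opens) (hle : W ≤ W')
    (hcons : Topology.IsConstructible ((W' : Set X) \ (W : Set X)))
    (hflc : ∀ (R : Scheme.{u}) (r : R ⟶ X) [IsImmersion r] [IsReduced R],
      Set.range r = (W' : Set X) \ (W : Set X) →
        EtCoh.IsFiniteLocallyConstant ((EtCoh.pull r).obj F)) :
    Chain (EJ F W.ι) (EJ F W'.ι) := by
  let j' : (W' : Scheme.{u}) ⟶ X := W'.ι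
  let U : (W' : Scheme.{u}).Opens := j' ⁻¹ᵁ W
  let Zc : TopologicalSpace.Closeds (W' : Scheme.{u}) := ⟨(U : Set (W' : Scheme.{u}))ᶜ, U.2.isClosed_compl⟩
  let I := vanishingIdeal Zc
  let c : I.subscheme ⟶ (W' : Scheme.{u}) := I.subschemeι
  haveI : IsReduced I.subscheme := isReduced_subscheme_vanishingIdeal Zc
  have hrange : Set.range c = (U : Set (W' : Scheme.{u}))ᶜ := by
    rw [range_subschemeι, coe_support_vanishingIdeal]
    rfl
  have hU : (U : Set (W' : Scheme.{u})) = (Set.range c.base)ᶜ := by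
    rw [hrange, compl_compl]
  have hrange' : Set.range (c ≫ j') = (W' : Set X) \ (W : Set X) := by
    rw [Scheme.Hom.comp_base, TopCat.coe_comp, Set.range_comp, hrange]
    ext x
    constructor
    · rintro ⟨y, hy, rfl⟩
      exact ⟨y.2, fun h => hy h⟩
    · rintro ⟨h1, h2⟩
      exact ⟨⟨x, h1⟩, fun h => h2 h, rfl⟩
  let F' := (EtShriek.restrAlong j').obj F
  obtain ⟨w, hS⟩ := Groth.Agent.S0654.result c U hU F'
  haveI : PreservesFiniteLimits (EtShriek.extZero j') := Groth.Agent.S0648.result j'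
  haveI : (EtShriek.extZero j').Additive := (EtShriek.extZeroAdj j').left_adjoint_additive
  haveI : PreservesFiniteColimits (EtShriek.extZero j') := by
    have := (EtShriek.extZeroAdj j').leftAdjoint_preservesColimits
    infer_instance
  have hS' := hS.map_of_exact (EtShriek.extZero j')
  have hG : EtCoh.IsFiniteLocallyConstant ((EtCoh.pull c).obj F') := by
    have h1 := hflc I.subscheme (c ≫ j') hrange'
    have e : (EtCoh.pull (c ≫ j')).obj F ≅ (EtCoh.pull c).obj F' :=
      (EtCore.pullComp c j').app F ≪≫ (EtCoh.pull c).mapIso ((restrPullIso j').app F).symm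
    exact isFiniteLocallyConstant_of_iso e h1
  have hgood : GoodStep ((EtShriek.extZero j').map ((EtShriek.extZeroAdj U.ι).counit.app F')) := by
    refine ⟨(W' : Scheme.{u}), I.subscheme, j', inferInstance, c, inferInstance,
      (EtCoh.pull c).obj F', (EtShriek.extZero j').map ((EtCoh.pullPushAdj c).unit.app F'), ?_,
      ?_, hG, ?_⟩
    · rw [← Functor.map_comp, w, Functor.map_zero]
    · rw [hrange']; exact hcons
    · exact hS'
  have hr : Set.range (U.ι ≫ j') = Set.range W.ι := by
    rw [Scheme.Hom.comp_base, TopCat.coe_comp, Set.range_comp, Scheme.Opens.range_ι,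
      Scheme.Opens.range_ι]
    ext x
    constructor
    · rintro ⟨y, hy, rfl⟩
      exact hy
    · intro hx
      exact ⟨⟨x, hle hx⟩, hx, rfl⟩
  let φ : (U : Scheme.{u}) ≅ (W : Scheme.{u}) := IsOpenImmersion.isoOfRangeEq (U.ι ≫ j') W.ι hr
  have hφ : φ.hom ≫ W.ι = U.ι ≫ j' := IsOpenImmersion.isoOfRangeEq_hom_fac _ _ _
  have e1 : (EtShriek.extZero j').obj ((EtShriek.extZero U.ι).obj ((EtShriek.restrAlong U.ι).obj F')) ≅
      EJ F W.ι :=
    (extZeroComp U.ι j').app _ ≪≫
      (EtShriek.extZero (U.ι ≫ j')).mapIso ((restrAlongComp U.ι j').app F) ≪≫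
      EJIso F (U.ι ≫ j') W.ι φ hφ
  exact Chain.of_iso_left e1.symm (Chain.cons _ hgood (Chain.refl (Iso.refl _)))

end Step

section Induct

open Groth.Agent.Lib.Helper23FlcSerre
  Groth.Agent.Lib.Helper23FlcExt Groth.Agent.Lib.Helper23Constr Groth.Agent.Lib.Helper23LCPull
  Groth.Agent.Lib.Helper23Strata

variable {X : Scheme.{u}}

/-- `S` is inside or disjoint from every member of `l` -/
def Sat (l : List X.Opens) (S : Set X) : Prop :=
  ∀ A ∈ l, S ⊆ (A : Set X) ∨ Disjoint S (A : Set X)

/-- the hypothesis of the induction -/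
def Hyp (F : EtCoh.Ab X) (l : List X.Opens) (W W' : X.Opens) : Prop :=
  ∀ (R : Scheme.{u}) (r : R ⟶ X) [IsImmersion r] [IsReduced R],
    Set.range r ⊆ (W' : Set X) \ (W : Set X) → Sat l (Set.range r) →
      EtCoh.IsFiniteLocallyConstant ((EtCoh.pull r).obj F)

variable [CompactSpace X] [QuasiSeparatedSpace X]

theorem chain_of_hyp (F : EtCoh.Ab X) : ∀ (l : List X.Opens), (∀ A ∈ l, IsCompact (A : Set X)) →
    ∀ (W W' : X.Opens), IsCompact (W : Set X) → IsCompact (W' : Set X) → W ≤ W' →
      Hyp F l W W' → Chain (EJ F W.ι) (EJ F W'.ι)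
  | [], _, W, W', hW, hW', hle, H =>
    chain_step F W W' hle ((hW'.isConstructible W'.2).sdiff (hW.isConstructible W.2))
      (fun R r _ _ hr => H R r hr.le (fun A hA => absurd hA List.not_mem_nil))
  | A :: l, hl, W, W', hW, hW', hle, H => by
    let W₁ : X.Opens := W ⊔ (W' ⊓ A)
    have hA : IsCompact (A : Set X) := hl A List.mem_cons_self
    have hW₁ : IsCompact (W₁ : Set X) :=
      hW.union (QuasiSeparatedSpace.inter_isCompact _ _ W'.2 hW' A.2 hA)
    have hl' : ∀ B ∈ l, IsCompact (B : Set X) := fun B hB => hl B (List.mem_cons_of_mem _ hB)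
    have h1 : Chain (EJ F W.ι) (EJ F W₁.ι) := by
      refine chain_of_hyp F l hl' W W₁ hW hW₁ le_sup_left ?_
      intro R r _ _ hr hs
      refine H R r ?_ ?_
      · intro x hx
        obtain ⟨h1, h2⟩ := hr hx
        rcases h1 with h1 | h1
        · exact absurd h1 h2
        · exact ⟨h1.1, h2⟩
      · intro B hB
        rcases List.mem_cons.1 hB with rfl | hB
        · left
          intro x hx
          obtain ⟨h1, h2⟩ := hr hx
          rcases h1 with h1 | h1
          · exact absurd h1 h2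
          · exact h1.2
        · exact hs B hB
    have h2 : Chain (EJ F W₁.ι) (EJ F W'.ι) := by
      refine chain_of_hyp F l hl' W₁ W' hW₁ hW' (sup_le hle inf_le_left) ?_
      intro R r _ _ hr hs
      refine H R r ?_ ?_
      · intro x hx
        obtain ⟨h1, h2⟩ := hr hx
        exact ⟨h1, fun h => h2 (Or.inl h)⟩
      · intro B hB
        rcases List.mem_cons.1 hB with rfl | hB
        · right
          rw [Set.disjoint_left]
          intro x hx hxB
          obtain ⟨h1, h2⟩ := hr hx
          exact h2 (Or.inr ⟨h1, hxB⟩)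
        · exact hs B hB
    exact h1.trans h2

omit [QuasiSeparatedSpace X] in
/-- a constructible set is a union of atoms of a finite family of quasi-compact opens -/
lemma exists_list_of_isConstructible {s : Set X} (hs : Topology.IsConstructible s) :
    ∃ l : List X.Opens, (∀ A ∈ l, IsCompact (A : Set X)) ∧
      ∀ S : Set X, Sat l S → S ⊆ s ∨ Disjoint S s := by
  induction hs using Topology.IsConstructible.empty_union_induction with
  | open_retrocompact U hUo hUc =>
    refine ⟨[⟨U, hUo⟩], ?_, ?_⟩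
    · intro A hA
      rw [List.mem_singleton] at hA
      subst hA
      exact hUc.isCompact
    · intro S hS
      exact hS ⟨U, hUo⟩ (List.mem_singleton.2 rfl)
  | union s hs t ht hs' ht' =>
    obtain ⟨l₁, hl₁, h₁⟩ := hs'
    obtain ⟨l₂, hl₂, h₂⟩ := ht'
    refine ⟨l₁ ++ l₂, ?_, ?_⟩
    · intro A hA
      rcases List.mem_append.1 hA with h | h
      · exact hl₁ A h
      · exact hl₂ A h
    · intro S hS
      have hS₁ : Sat l₁ S := fun A hA => hS A (List.mem_append.2 (Or.inl hA))
      have hS₂ : Sat l₂ S := fun A hA => hS A (List.mem_append.2 (Or.inr hA))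
      rcases h₁ S hS₁ with h | h
      · exact Or.inl (h.trans Set.subset_union_left)
      · rcases h₂ S hS₂ with h' | h'
        · exact Or.inl (h'.trans Set.subset_union_right)
        · exact Or.inr (Set.disjoint_union_right.2 ⟨h, h'⟩)
  | compl s hs hs' =>
    obtain ⟨l, hl, h⟩ := hs'
    refine ⟨l, hl, ?_⟩
    intro S hS
    rcases h S hS with h' | h'
    · exact Or.inr (Set.disjoint_compl_right_iff_subset.2 h')
    · exact Or.inl (Set.subset_compl_iff_disjoint_right.2 h')

end Induct

section Final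

open Groth.Agent.Lib.Helper23FlcSerre Groth.Agent.Lib.Helper23FinEtPush
  Groth.Agent.Lib.Helper23FlcExt Groth.Agent.Lib.Helper23Constr Groth.Agent.Lib.Helper23LCPull
  Groth.Agent.Lib.Helper23Strata Groth.Agent.Lib.Helper16.EtGlue

/-- a morphism from a reduced scheme with image inside the image of an immersion factors through it -/
lemma exists_fac_of_reduced {R T X : Scheme.{u}} (r : R ⟶ X) (g : T ⟶ X) [IsImmersion g]
    [IsReduced R] (h : Set.range r ⊆ Set.range g) : ∃ r' : R ⟶ T, r' ≫ g = r := by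
  let p := pullback.fst r g
  haveI : IsImmersion p := inferInstance
  have hsurj : Function.Surjective p := by
    intro x
    obtain ⟨t, ht⟩ := h ⟨x, rfl⟩
    obtain ⟨z, hz1, -⟩ := Scheme.Pullback.exists_preimage_pullback (f := r) (g := g) x t ht.symm
    exact ⟨z, hz1⟩
  haveI : Surjective p := ⟨hsurj⟩
  haveI : IsClosedImmersion p := by
    apply IsClosedImmersion.of_isPreimmersion
    rw [hsurj.range_eq]
    exact isClosed_univ
  haveI : IsIso p := isIso_of_isClosedImmersion_of_surjective p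
  refine ⟨inv p ≫ pullback.snd r g, ?_⟩
  rw [Category.assoc, ← pullback.condition, IsIso.inv_hom_id_assoc]

/-- abelian sheaves on the empty scheme vanish -/
lemma isZero_of_isEmpty {R : Scheme.{u}} [IsEmpty R] (G : EtCoh.Ab R) : IsZero G := by
  rw [IsZero.iff_id_eq_zero]
  apply Sheaf.hom_ext
  ext W s
  haveI : IsEmpty W.unop.left := ⟨fun w => (IsEmpty.false (α := R) (W.unop.hom w))⟩
  haveI := subsingleton_of_isEmpty
    (G.obj ⋙ forget AddCommGrpCat.{u + 1})
    ((isSheaf_iff_isSheaf_of_type _ _).1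
      ((Presheaf.isSheaf_iff_isSheaf_forget _ G.obj
        (forget AddCommGrpCat.{u + 1})).1 G.property))
    W.unop
  exact Subsingleton.elim (α := (G.obj ⋙ forget AddCommGrpCat.{u + 1}).obj (op W.unop)) _ _

/-- Let X be a quasi-compact and quasi-separated scheme and F a constructible abelian sheaf on the small
etale site of X (every affine open has a finite partition into constructible locally closed strata
along which F is finite locally constant). Then F has a finite filtration whose successive quotients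
are extensions by zero of finite locally constant sheaves on constructible locally closed
subschemes: there are abelian sheaves 0 = E₀, E₁, …, E_n with E_n ≅ F and short exact sequences 0 →
E_k → E_{k+1} → j_!(c_* G) → 0, where j : U ⟶ X is an open immersion, c : W ⟶ U a closed immersion
with the image of c ≫ j constructible in X, and G a finite locally constant abelian sheaf on W. (The
refinement with irreducible strata for X Noetherian is not stated.) -/
theorem result {X : Scheme.{u}} [CompactSpace X]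
    [QuasiSeparatedSpace X] (F : EtCoh.Ab X) (hF : EtPBC.IsConstructible F) :
    ∃ (n : ℕ) (E : Fin (n + 1) → EtCoh.Ab X) (ι : ∀ k : Fin n, E k.castSucc ⟶ E k.succ),
      IsZero (E 0) ∧ Nonempty (E (Fin.last n) ≅ F) ∧
      ∀ k : Fin n, ∃ (U W : Scheme.{u}) (j : U ⟶ X) (_ : IsOpenImmersion j) (c : W ⟶ U)
        (_ : IsClosedImmersion c) (G : EtCoh.Ab W)
        (π : E k.succ ⟶ (EtShriek.extZero j).obj ((EtCoh.push c).obj G)) (hz : ι k ≫ π = 0),
        Topology.IsConstructible (Set.range (c ≫ j)) ∧ EtCoh.IsFiniteLocallyConstant G ∧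
        (ShortComplex.mk (ι k) π hz).ShortExact := by
  classical
  obtain ⟨ι, hι, T, g, h1, h2, h3, h4, h5⟩ :=
    (adaptedStrata_univ_iff F).1 ((Groth.Agent.S0128.result X F).1 hF)
  choose L hL1 hL2 using fun i => exists_list_of_isConstructible (h2 i)
  haveI := Fintype.ofFinite ι
  let l : List X.Opens := (Finset.univ : Finset ι).toList.flatMap L
  have hl : ∀ A ∈ l, IsCompact (A : Set X) := by
    intro A hA
    obtain ⟨i, -, hi⟩ := List.mem_flatMap.1 hA
    exact hL1 i A hi
  have hsat : ∀ S : Set X, Sat l S → ∀ i, Sat (L i) S := by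
    intro S hS i A hA
    exact hS A (List.mem_flatMap.2 ⟨i, Finset.mem_toList.2 (Finset.mem_univ i), hA⟩)
  have H : Hyp F l ⊥ ⊤ := by
    intro R r _ _ hr hs
    by_cases hR : IsEmpty R
    · exact isFlc_of_isZero _ (isZero_of_isEmpty _)
    · rw [not_isEmpty_iff] at hR
      obtain ⟨x⟩ := hR
      have hx : r x ∈ ⋃ i, Set.range (g i) := by rw [h4]; trivial
      obtain ⟨i, hi⟩ := Set.mem_iUnion.1 hx
      have hsub : Set.range r ⊆ Set.range (g i) := by
        rcases hL2 i _ (hsat _ hs i) with h | h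
        · exact h
        · exact absurd hi (Set.disjoint_left.1 h ⟨x, rfl⟩)
      haveI := h1 i
      obtain ⟨r', hr'⟩ := exists_fac_of_reduced r (g i) hsub
      have h6 : EtCoh.IsFiniteLocallyConstant ((EtCoh.pull (g i)).obj F) := h5 i
      exact isFiniteLocallyConstant_of_iso
        (((EtCore.pullComp r' (g i)).app F).symm ≪≫ (EtCore.pullCongr hr').app F)
        (isFiniteLocallyConstant_pull r' _ h6)
  have hchain := chain_of_hyp F l hl ⊥ ⊤ (by simp) (by simpa using isCompact_univ) bot_le H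
  have eTop : EJ F (⊤ : X.Opens).ι ≅ F :=
    EJIso F (⊤ : X.Opens).ι (𝟙 X) (Scheme.topIso X) (by simp) ≪≫ EJId F
  obtain ⟨n, E, ι', ⟨e0⟩, ⟨en⟩, hg⟩ := (hchain.of_iso_right eTop).hasFilt
  refine ⟨n, fun k => E k.val, fun k => ι' k.val, ?_, ⟨en⟩, fun k => hg k.val k.2⟩
  refine IsZero.of_iso ?_ e0
  haveI : (EtShriek.extZero (⊥ : X.Opens).ι).Additive :=
    (EtShriek.extZeroAdj (⊥ : X.Opens).ι).left_adjoint_additive
  haveI : IsEmpty ↥((⊥ : X.Opens) : Scheme.{u}) := ⟨fun x => x.2⟩
  exact (EtShriek.extZero (⊥ : X.Opens).ι).map_isZero (isZero_of_isEmpty _)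

end Final

end Groth.Agent.S8561
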