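import Groth.Statements.S8567
import Groth.Agent.Lib.Helper19PullM

set_option autoImplicit false
open CategoryTheory TopologicalSpace Opposite
universe u
open CohTop

namespace Groth.Agent.S8567

/-- Let X be a topological space, K ⊆ X a compact subset such that any two distinct points of K have
disjoint neighbourhoods in X, and F a flasque abelian sheaf on X. Then the inverse image F|K of F on
the subspace K is a soft sheaf: for every closed subset A of K, every section of (F|K)|A over A is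
the restriction of a section of F|K over K (the restriction map is the unit of the inverse image /
direct image adjunction for the inclusion A → K, taken on global sections). -/
theorem result {X : TopCat.{u}} {K : Set X} (hK : IsCompact K)
    (hsep : ∀ x ∈ K, ∀ y ∈ K, x ≠ y → ∃ U V : Set X, IsOpen U ∧ IsOpen V ∧ x ∈ U ∧ y ∈ V ∧ Disjoint U V)
    (F : CohTop.Ab X) [TopCat.Sheaf.IsFlasque F] {A : Set K} (hA : IsClosed A) :
    Function.Surjective
      ((((TopCat.Sheaf.pullbackPushforwardAdjunction AddCommGrpCat.{u}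
        (TopCat.ofHom ⟨((↑) : A → K), continuous_subtype_val⟩ : TopCat.of A ⟶ TopCat.of K)).unit.app
        ((CohTop.pull (TopCat.ofHom ⟨((↑) : K → X), continuous_subtype_val⟩ : TopCat.of K ⟶ X)).obj F)).hom.app
        (op ⊤)).hom) := by
  classical
  have hsep' : Groth.Agent.Lib.Helper19Pull.Sep K := by
    intro x hx x' hx' hne
    obtain ⟨U, V, hU, hV, hxU, hxV, hUV⟩ := hsep x hx x' hx' hne
    refine ⟨⟨U, hU⟩, ⟨V, hV⟩, hxU, hxV, ?_⟩
    rw [Groth.Agent.Lib.Helper19Pull.disjoint_iff_forall]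
    intro z hzU hzV
    exact Set.disjoint_left.1 hUV hzU hzV
  haveI := Groth.Agent.Lib.Helper19Pull.compactSpace_of K hK
  haveI := Groth.Agent.Lib.Helper19Pull.t2Space_of K hsep'
  let G : CohTop.Ab (TopCat.of K) :=
    (CohTop.pull (Groth.Agent.Lib.Helper19Pull.incl K)).obj F
  have hG : Groth.Agent.Lib.Helper19Pull.NSoft G :=
    Groth.Agent.Lib.Helper19Pull.nsoft_pull K hK hsep' F
  have hsepA : Groth.Agent.Lib.Helper19Pull.Sep (X := TopCat.of K) A := by
    intro a _ a' _ hne
    obtain ⟨U, V, hU, hV, haU, haV, hUV⟩ := t2_separation hne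
    refine ⟨⟨U, hU⟩, ⟨V, hV⟩, haU, haV, ?_⟩
    rw [Groth.Agent.Lib.Helper19Pull.disjoint_iff_forall]
    intro z hzU hzV
    exact Set.disjoint_left.1 hUV hzU hzV
  intro t
  obtain ⟨O, hO, hAO, s, hs⟩ := Groth.Agent.Lib.Helper19Pull.surjHd (X := TopCat.of K) A G A
    hA.isCompact hsepA subset_rfl ⊤ (Set.subset_univ _) t
  obtain ⟨D', hD', hAD', s', hs'⟩ := hG A hA O hAO s
  refine ⟨s', ?_⟩
  change Groth.Agent.Lib.Helper19Pull.ηs (Groth.Agent.Lib.Helper19Pull.incl A) G ⊤ s' = t
  have h1 : (TopologicalSpace.Opens.map (Groth.Agent.Lib.Helper19Pull.incl (X := TopCat.of K) A)).obj D' ≤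
      (TopologicalSpace.Opens.map (Groth.Agent.Lib.Helper19Pull.incl (X := TopCat.of K) A)).obj (⊤ : TopologicalSpace.Opens (TopCat.of K)) :=
    Groth.Agent.Lib.Helper19Pull.map_mono (Groth.Agent.Lib.Helper19Pull.incl (X := TopCat.of K) A) (le_top : D' ≤ ⊤)
  have h2 : (TopologicalSpace.Opens.map (Groth.Agent.Lib.Helper19Pull.incl (X := TopCat.of K) A)).obj (⊤ : TopologicalSpace.Opens (TopCat.of K)) ≤
      (TopologicalSpace.Opens.map (Groth.Agent.Lib.Helper19Pull.incl (X := TopCat.of K) A)).obj D' :=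
    fun z _ => hAD' z.2
  have key : Groth.Agent.Lib.Helper19Pull.rs
      ((CohTop.pull (Groth.Agent.Lib.Helper19Pull.incl A)).obj G) h1
      (Groth.Agent.Lib.Helper19Pull.ηs (Groth.Agent.Lib.Helper19Pull.incl A) G ⊤ s') =
      Groth.Agent.Lib.Helper19Pull.rs
      ((CohTop.pull (Groth.Agent.Lib.Helper19Pull.incl A)).obj G) h1 t := by
    rw [← Groth.Agent.Lib.Helper19Pull.ηs_rs (Groth.Agent.Lib.Helper19Pull.incl (X := TopCat.of K) A) G
      (le_top : D' ≤ ⊤) s', hs', Groth.Agent.Lib.Helper19Pull.ηs_rs, hs,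
      Groth.Agent.Lib.Helper19Pull.rs_rs]
  have := congrArg (Groth.Agent.Lib.Helper19Pull.rs
      ((CohTop.pull (Groth.Agent.Lib.Helper19Pull.incl A)).obj G) h2) key
  rw [Groth.Agent.Lib.Helper19Pull.rs_rs, Groth.Agent.Lib.Helper19Pull.rs_self,
    Groth.Agent.Lib.Helper19Pull.rs_rs, Groth.Agent.Lib.Helper19Pull.rs_self] at this
  exact this

end Groth.Agent.S8567
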