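import Groth.Statements.S8579
import Groth.Agent.Lib.Helper19SecDescB
import Groth.Agent.Lib.Helper19SecDescF

set_option autoImplicit false
open CategoryTheory CategoryTheory.Limits TopologicalSpace
universe u
open CohTop

namespace Groth.Agent.S8579

/-- In the setting of topological spaces and abelian sheaves (where every continuous map is flat for the
inverse image of sheaves), let f : X → S be a continuous map with a continuous section s, f ∘ s =
id, and F an abelian sheaf on S. Then f is of universal cohomological descent, and the descent
spectral sequence reads, in existence form: there is a bounded spectral sequence of abelian groups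
starting at page one with E_1^{p,q} isomorphic, for p, q ≥ 0, to H^q(X_p, F|X_p), where X_p is the
(p+1)-fold fibre product of X over S and F|X_p the inverse image of F along its projection to S, and
zero otherwise, together with abutment data whose filtrations are finite on H^n(S, F) for n ≥ 0
(zero for n < 0). (The E_1 identifications and the abutment isomorphisms are asserted to exist only;
the differentials are not part of this statement.) -/
theorem result {X S : TopCat.{u}} (f : X ⟶ S) (s : S ⟶ X)
    (hs : s ≫ f = 𝟙 S) (F : CohTop.Ab S) :
    ∃ (E : CohomologicalSpectralSequence AddCommGrpCat.{u} 1)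
      (a : SpSeq.Abutment E (fun n : ℤ =>
        if 0 ≤ n then AddCommGrpCat.of (CohTop.H F n.toNat) else AddCommGrpCat.of PUnit.{u + 1})),
      (∀ n, a.IsFinite n) ∧ SpSeq.IsBounded E ∧
      ∀ p q : ℤ, Nonempty ((E.page 1 le_rfl).X (p, q) ≅
        (if 0 ≤ p ∧ 0 ≤ q then
          AddCommGrpCat.of (CohTop.H ((CohTop.pull
            (WidePullback.base (fun _ : Fin (p.toNat + 1) => f) :
              widePullback S (fun _ : Fin (p.toNat + 1) => X) (fun _ => f) ⟶ S)).obj F) q.toNat)
         else AddCommGrpCat.of PUnit.{u + 1})) := by
  classical
  -- the section of the zeroth stage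
  have h0 : ∀ q : ℕ, ∃ (a : CohTop.H F q →+
      CohTop.H ((CohTop.pull (WidePullback.base (fun _ : Fin (0 + 1) => f) :
        widePullback S (fun _ : Fin (0 + 1) => X) (fun _ => f) ⟶ S)).obj F) q)
      (b : CohTop.H ((CohTop.pull (WidePullback.base (fun _ : Fin (0 + 1) => f) :
        widePullback S (fun _ : Fin (0 + 1) => X) (fun _ => f) ⟶ S)).obj F) q →+ CohTop.H F q),
      ∀ x, b (a x) = x := by
    intro q
    exact Groth.Agent.Lib.Helper19.SecDesc.H_retract
      (WidePullback.lift (𝟙 S) (fun _ : Fin (0 + 1) => s) (fun _ => hs))
      (WidePullback.base (fun _ : Fin (0 + 1) => f))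
      (WidePullback.lift_base _ _ _ _) F q
  have hstep : ∀ (p q : ℕ), ∃ (a : CohTop.H ((CohTop.pull (WidePullback.base (fun _ : Fin (p + 1) => f) :
        widePullback S (fun _ : Fin (p + 1) => X) (fun _ => f) ⟶ S)).obj F) q →+
      CohTop.H ((CohTop.pull (WidePullback.base (fun _ : Fin (p + 1 + 1) => f) :
        widePullback S (fun _ : Fin (p + 1 + 1) => X) (fun _ => f) ⟶ S)).obj F) q)
      (b : CohTop.H ((CohTop.pull (WidePullback.base (fun _ : Fin (p + 1 + 1) => f) :
        widePullback S (fun _ : Fin (p + 1 + 1) => X) (fun _ => f) ⟶ S)).obj F) q →+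
      CohTop.H ((CohTop.pull (WidePullback.base (fun _ : Fin (p + 1) => f) :
        widePullback S (fun _ : Fin (p + 1) => X) (fun _ => f) ⟶ S)).obj F) q),
      ∀ x, b (a x) = x := by
    intro p q
    -- forget the last coordinate
    let r : widePullback S (fun _ : Fin (p + 1 + 1) => X) (fun _ => f) ⟶
        widePullback S (fun _ : Fin (p + 1) => X) (fun _ => f) :=
      WidePullback.lift (WidePullback.base _) (fun j : Fin (p + 1) => WidePullback.π _ (Fin.castSucc j))
        (fun j => WidePullback.π_arrow _ _)
    -- append the section
    let i : widePullback S (fun _ : Fin (p + 1) => X) (fun _ => f) ⟶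
        widePullback S (fun _ : Fin (p + 1 + 1) => X) (fun _ => f) :=
      WidePullback.lift (WidePullback.base _)
        (fun j : Fin (p + 1 + 1) => Fin.lastCases (WidePullback.base (fun _ : Fin (p + 1) => f) ≫ s)
          (fun j' => WidePullback.π (fun _ : Fin (p + 1) => f) j') j)
        (fun j => by
          refine Fin.lastCases ?_ (fun j' => ?_) j
          · rw [Fin.lastCases_last, Category.assoc, hs, Category.comp_id]
          · rw [Fin.lastCases_castSucc, WidePullback.π_arrow])
    have hir : i ≫ r = 𝟙 _ := by
      apply WidePullback.hom_ext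
      · intro j
        rw [Category.assoc, WidePullback.lift_π, WidePullback.lift_π, Fin.lastCases_castSucc,
          Category.id_comp]
      · rw [Category.assoc, WidePullback.lift_base, WidePullback.lift_base, Category.id_comp]
    exact Groth.Agent.Lib.Helper19.SecDesc.H_retract_base i r hir
      (WidePullback.base (fun _ : Fin (p + 1) => f))
      (WidePullback.base (fun _ : Fin (p + 1 + 1) => f))
      (WidePullback.lift_base _ _ _ _).symm F q
  exact Groth.Agent.Lib.Helper19.SecDesc.exists_SS_of_retracts
    (A := fun p q => CohTop.H ((CohTop.pull (WidePullback.base (fun _ : Fin (p + 1) => f) :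
        widePullback S (fun _ : Fin (p + 1) => X) (fun _ => f) ⟶ S)).obj F) q)
    (B := fun q => CohTop.H F q) h0 hstep

end Groth.Agent.S8579
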