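import Groth.Statements.S8580
import Groth.Agent.Lib.Helper19SecDescG
import Groth.Agent.Lib.Helper19SecDescF

set_option autoImplicit false
open CategoryTheory CategoryTheory.Limits AlgebraicGeometry
universe u
open EtDesc

namespace Groth.Agent.S8580

/-- In the setting of schemes and abelian sheaves on their small etale sites (where every morphism is
flat for the inverse image of sheaves), let f : X → Y be a morphism of schemes with a section s, s
followed by f being the identity, and F any abelian sheaf on the small etale site of Y. Then f is of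
universal cohomological descent, and the descent spectral sequence reads, in existence form: there
is a bounded spectral sequence of abelian groups starting at page one with E_1^{p,q} isomorphic, for
p, q ≥ 0, to the etale cohomology group H^q(X_p, F|X_p), where X_p is the (p+1)-fold fibre product
of X over Y and F|X_p the inverse image of F along its projection to Y, and zero otherwise, together
with abutment data whose filtrations are finite on H^n(Y_et, F) for n ≥ 0 (zero for n < 0). (The E_1
identifications and the abutment isomorphisms are asserted to exist only; the differentials are not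
part of this statement.) -/
theorem result {X Y : Scheme.{u}} (f : X ⟶ Y) (s : Y ⟶ X)
    (hs : s ≫ f = 𝟙 Y) (F : EtCoh.Ab Y) :
    ∃ (E : CohomologicalSpectralSequence AddCommGrpCat.{u + 1} 1)
      (a : SpSeq.Abutment E (fun n : ℤ =>
        if 0 ≤ n then AddCommGrpCat.of (EtCoh.H Y F n.toNat) else AddCommGrpCat.of PUnit.{u + 2})),
      (∀ n, a.IsFinite n) ∧ SpSeq.IsBounded E ∧
      ∀ p q : ℤ, Nonempty ((E.page 1 le_rfl).X (p, q) ≅
        (if 0 ≤ p ∧ 0 ≤ q then
          AddCommGrpCat.of (EtCoh.H (widePullback Y (fun _ : Fin (p.toNat + 1) => X) (fun _ => f))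
            ((EtCoh.pull (WidePullback.base (fun _ : Fin (p.toNat + 1) => f) :
              widePullback Y (fun _ : Fin (p.toNat + 1) => X) (fun _ => f) ⟶ Y)).obj F) q.toNat)
         else AddCommGrpCat.of PUnit.{u + 2})) := by
  classical
  -- the section of the zeroth stage
  have h0 : ∀ q : ℕ, ∃ (a : EtCoh.H Y F q →+
      EtCoh.H (widePullback Y (fun _ : Fin (0 + 1) => X) (fun _ => f))
        ((EtCoh.pull (WidePullback.base (fun _ : Fin (0 + 1) => f) :
        widePullback Y (fun _ : Fin (0 + 1) => X) (fun _ => f) ⟶ Y)).obj F) q)
      (b : EtCoh.H (widePullback Y (fun _ : Fin (0 + 1) => X) (fun _ => f))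
        ((EtCoh.pull (WidePullback.base (fun _ : Fin (0 + 1) => f) :
        widePullback Y (fun _ : Fin (0 + 1) => X) (fun _ => f) ⟶ Y)).obj F) q →+ EtCoh.H Y F q),
      ∀ x, b (a x) = x := by
    intro q
    exact Groth.Agent.Lib.Helper19.SecDescEt.H_retract
      (WidePullback.lift (𝟙 Y) (fun _ : Fin (0 + 1) => s) (fun _ => hs))
      (WidePullback.base (fun _ : Fin (0 + 1) => f))
      (WidePullback.lift_base _ _ _ _) F q
  have hstep : ∀ (p q : ℕ), ∃ (a : EtCoh.H (widePullback Y (fun _ : Fin (p + 1) => X) (fun _ => f))
        ((EtCoh.pull (WidePullback.base (fun _ : Fin (p + 1) => f) :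
        widePullback Y (fun _ : Fin (p + 1) => X) (fun _ => f) ⟶ Y)).obj F) q →+
      EtCoh.H (widePullback Y (fun _ : Fin (p + 1 + 1) => X) (fun _ => f))
        ((EtCoh.pull (WidePullback.base (fun _ : Fin (p + 1 + 1) => f) :
        widePullback Y (fun _ : Fin (p + 1 + 1) => X) (fun _ => f) ⟶ Y)).obj F) q)
      (b : EtCoh.H (widePullback Y (fun _ : Fin (p + 1 + 1) => X) (fun _ => f))
        ((EtCoh.pull (WidePullback.base (fun _ : Fin (p + 1 + 1) => f) :
        widePullback Y (fun _ : Fin (p + 1 + 1) => X) (fun _ => f) ⟶ Y)).obj F) q →+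
      EtCoh.H (widePullback Y (fun _ : Fin (p + 1) => X) (fun _ => f))
        ((EtCoh.pull (WidePullback.base (fun _ : Fin (p + 1) => f) :
        widePullback Y (fun _ : Fin (p + 1) => X) (fun _ => f) ⟶ Y)).obj F) q),
      ∀ x, b (a x) = x := by
    intro p q
    -- forget the last coordinate
    let r : widePullback Y (fun _ : Fin (p + 1 + 1) => X) (fun _ => f) ⟶
        widePullback Y (fun _ : Fin (p + 1) => X) (fun _ => f) :=
      WidePullback.lift (WidePullback.base _) (fun j : Fin (p + 1) => WidePullback.π _ (Fin.castSucc j))
        (fun j => WidePullback.π_arrow _ _)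
    -- append the section
    let i : widePullback Y (fun _ : Fin (p + 1) => X) (fun _ => f) ⟶
        widePullback Y (fun _ : Fin (p + 1 + 1) => X) (fun _ => f) :=
      WidePullback.lift (WidePullback.base _)
        (fun j : Fin (p + 1 + 1) => Fin.lastCases (WidePullback.base (fun _ : Fin (p + 1) => f) ≫ s)
          (fun j' => WidePullback.π (fun _ : Fin (p + 1) => f) j') j)
        (fun j => by
          refine Fin.lastCases ?_ (fun j' => ?_) j
          · rw [Fin.lastCases_last, Category.assoc, hs, Category.comp_id]
          · rw [Fin.lastCases_castSucc, WidePullback.π_arrow])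
    have hir : i ≫ r = 𝟙 _ := by
      apply WidePullback.hom_ext
      · intro j
        rw [Category.assoc, WidePullback.lift_π, WidePullback.lift_π, Fin.lastCases_castSucc,
          Category.id_comp]
      · rw [Category.assoc, WidePullback.lift_base, WidePullback.lift_base, Category.id_comp]
    exact Groth.Agent.Lib.Helper19.SecDescEt.H_retract_base i r hir
      (WidePullback.base (fun _ : Fin (p + 1) => f))
      (WidePullback.base (fun _ : Fin (p + 1 + 1) => f))
      (WidePullback.lift_base _ _ _ _).symm F q
  exact Groth.Agent.Lib.Helper19.SecDesc.exists_SS_of_retracts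
    (A := fun p q => EtCoh.H (widePullback Y (fun _ : Fin (p + 1) => X) (fun _ => f))
        ((EtCoh.pull (WidePullback.base (fun _ : Fin (p + 1) => f) :
        widePullback Y (fun _ : Fin (p + 1) => X) (fun _ => f) ⟶ Y)).obj F) q)
    (B := fun q => EtCoh.H Y F q) h0 hstep

end Groth.Agent.S8580
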