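import Groth.Statements.S8586
import Mathlib
-- import your own Groth.Agent.* helpers here

set_option autoImplicit false
universe u
open CAlg

namespace Groth.Agent.S8586

section Helpers

variable {A : Type u} [CommRing A] [IsNoetherianRing A] [IsLocalRing A]

lemma radical_insert_ge (s : Set A) (x w : A) (hx : x ∈ IsLocalRing.maximalIdeal A)
    (hs : s ⊆ IsLocalRing.maximalIdeal A)
    (hrad : IsLocalRing.maximalIdeal A ≤ (Ideal.span (insert x s)).radical)
    (hwp : ∀ p ∈ (Ideal.span s).minimalPrimes, p ≠ IsLocalRing.maximalIdeal A → w ∉ p) :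
    IsLocalRing.maximalIdeal A ≤ (Ideal.span (insert w s)).radical := by
  rw [Ideal.radical_eq_sInf]
  apply le_sInf
  rintro P ⟨hP, hPprime⟩
  by_contra hmP
  have hPlt : P < IsLocalRing.maximalIdeal A :=
    lt_of_le_of_ne (IsLocalRing.le_maximalIdeal hPprime.ne_top) (fun h => hmP h.ge)
  have hm_min : IsLocalRing.maximalIdeal A ∈ (Ideal.span (insert x s)).minimalPrimes := by
    refine ⟨⟨inferInstance, Ideal.span_le.mpr (Set.insert_subset hx hs)⟩, ?_⟩
    rintro Q ⟨hQprime, hQ⟩ _
    exact hrad.trans (hQprime.radical_le_iff.mpr hQ)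
  have hsP : s ⊆ P := fun y hy => hP (Ideal.subset_span (Set.mem_insert_of_mem _ hy))
  have hPmin : P ∈ (Ideal.span s).minimalPrimes :=
    Ideal.mem_minimalPrimes_span_of_mem_minimalPrimes_span_insert hPlt x s hm_min s hsP
      (fun y hy => Ideal.le_radical (Ideal.subset_span (Set.mem_insert_of_mem _ hy)))
  exact hwp P hPmin hPlt.ne (hP (Ideal.subset_span (Set.mem_insert _ _)))

lemma exists_avoid (s₁ s₂ : Set A) : ∃ w ∈ IsLocalRing.maximalIdeal A,
    (∀ p ∈ (Ideal.span s₁).minimalPrimes, p ≠ IsLocalRing.maximalIdeal A → w ∉ p) ∧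
    (∀ p ∈ (Ideal.span s₂).minimalPrimes, p ≠ IsLocalRing.maximalIdeal A → w ∉ p) := by
  classical
  have hfin : ((Ideal.span s₁).minimalPrimes ∪ (Ideal.span s₂).minimalPrimes).Finite :=
    (Ideal.finite_minimalPrimes_of_isNoetherianRing A _).union
      (Ideal.finite_minimalPrimes_of_isNoetherianRing A _)
  set T : Finset (Ideal A) := hfin.toFinset.erase (IsLocalRing.maximalIdeal A) with hT
  have hTprop : ∀ P ∈ T, P.IsPrime ∧ P ≠ IsLocalRing.maximalIdeal A := by
    intro P hP
    rw [hT, Finset.mem_erase, Set.Finite.mem_toFinset] at hP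
    obtain ⟨hne, h | h⟩ := hP
    · exact ⟨h.1.1, hne⟩
    · exact ⟨h.1.1, hne⟩
  have hb : ∃ b ∈ IsLocalRing.maximalIdeal A, ∀ P ∈ T, b ∉ P := by
    by_contra hcon
    push Not at hcon
    have hsub : (IsLocalRing.maximalIdeal A : Set A) ⊆
        ⋃ P ∈ (T : Set (Ideal A)), ((id P : Ideal A) : Set A) := by
      intro x hx
      obtain ⟨P, hPT, hxP⟩ := hcon x hx
      exact Set.mem_biUnion hPT hxP
    obtain ⟨P, hPT, hpP⟩ := (Ideal.subset_union_prime (f := id) (IsLocalRing.maximalIdeal A)
      (IsLocalRing.maximalIdeal A) (fun P hP _ _ => (hTprop P hP).1)).mp hsub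
    obtain ⟨hPprime, hPne⟩ := hTprop P hPT
    exact hPne (le_antisymm (IsLocalRing.le_maximalIdeal hPprime.ne_top) hpP)
  obtain ⟨b, hbm, hbT⟩ := hb
  refine ⟨b, hbm, ?_, ?_⟩
  · intro p hp hne
    apply hbT
    rw [hT, Finset.mem_erase, Set.Finite.mem_toFinset]
    exact ⟨hne, Or.inl hp⟩
  · intro p hp hne
    apply hbT
    rw [hT, Finset.mem_erase, Set.Finite.mem_toFinset]
    exact ⟨hne, Or.inr hp⟩

lemma range_update {d : ℕ} (u : Fin d → A) (i0 : Fin d) (w : A) :
    Set.range (Function.update u i0 w) = insert w (u '' {i | i ≠ i0}) := by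
  ext y
  constructor
  · rintro ⟨i, rfl⟩
    by_cases hi : i = i0
    · subst hi
      rw [Function.update_self]
      exact Set.mem_insert _ _
    · rw [Function.update_of_ne hi]
      exact Set.mem_insert_of_mem _ ⟨i, hi, rfl⟩
  · rintro (rfl | ⟨i, hi, rfl⟩)
    · exact ⟨i0, Function.update_self _ _ _⟩
    · exact ⟨i, Function.update_of_ne hi _ _⟩

/-- being a system of parameters (of any length) -/
def IsSop {d : ℕ} (w : Fin d → A) : Prop :=
  (∀ i, w i ∈ IsLocalRing.maximalIdeal A) ∧
    IsLocalRing.maximalIdeal A ≤ (Ideal.span (Set.range w)).radical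

/-- one step -/
def Step {d : ℕ} (w w' : Fin d → A) : Prop :=
  IsSop w ∧ IsSop w' ∧ ∃ i : Fin d, ∀ i' : Fin d, i' ≠ i → w i' = w' i'

lemma isSop_update {d : ℕ} (u : Fin d → A) (hu : IsSop u) (i0 : Fin d) (w : A)
    (hw : w ∈ IsLocalRing.maximalIdeal A)
    (hwp : ∀ p ∈ (Ideal.span (u '' {i | i ≠ i0})).minimalPrimes,
      p ≠ IsLocalRing.maximalIdeal A → w ∉ p) :
    IsSop (Function.update u i0 w) := by
  refine ⟨fun i => ?_, ?_⟩
  · by_cases hi : i = i0
    · subst hi; rw [Function.update_self]; exact hw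
    · rw [Function.update_of_ne hi]; exact hu.1 i
  · rw [range_update]
    apply radical_insert_ge (u '' {i | i ≠ i0}) (u i0) w (hu.1 i0)
    · rintro _ ⟨i, _, rfl⟩
      exact hu.1 i
    · have : insert (u i0) (u '' {i | i ≠ i0}) = Set.range u := by
        have := range_update u i0 (u i0)
        rw [Function.update_eq_self] at this
        exact this.symm
      rw [this]
      exact hu.2
    · exact hwp

open Classical in
lemma reflTransGen_step {d : ℕ} : ∀ (n : ℕ) (u v : Fin d → A), IsSop u → IsSop v →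
    (Finset.univ.filter (fun i => u i ≠ v i)).card = n → Relation.ReflTransGen Step u v := by
  classical
  intro n
  induction n with
  | zero =>
    intro u v _ _ hcard
    have : u = v := by
      funext i
      by_contra hne
      have : i ∈ Finset.univ.filter (fun i => u i ≠ v i) := by simp [hne]
      rw [Finset.card_eq_zero.mp hcard] at this
      simp at this
    rw [this]
  | succ n ih =>
    intro u v hu hv hcard
    have hne : (Finset.univ.filter (fun i => u i ≠ v i)).Nonempty := by
      rw [← Finset.card_pos, hcard]; exact Nat.succ_pos n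
    obtain ⟨i0, hi0⟩ := hne
    obtain ⟨w, hwm, hw1, hw2⟩ := exists_avoid (u '' {i | i ≠ i0}) (v '' {i | i ≠ i0})
    have hu' := isSop_update u hu i0 w hwm hw1
    have hv' := isSop_update v hv i0 w hwm hw2
    have hstep1 : Step u (Function.update u i0 w) :=
      ⟨hu, hu', i0, fun i' hi' => (Function.update_of_ne hi' _ _).symm⟩
    have hstep2 : Step (Function.update v i0 w) v :=
      ⟨hv', hv, i0, fun i' hi' => Function.update_of_ne hi' _ _⟩
    have hcard' : (Finset.univ.filter
        (fun i => Function.update u i0 w i ≠ Function.update v i0 w i)).card = n := by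
      have : Finset.univ.filter
          (fun i => Function.update u i0 w i ≠ Function.update v i0 w i) =
          (Finset.univ.filter (fun i => u i ≠ v i)).erase i0 := by
        ext i
        simp only [Finset.mem_filter, Finset.mem_univ, true_and, Finset.mem_erase]
        by_cases hi : i = i0
        · subst hi
          simp
        · rw [Function.update_of_ne hi, Function.update_of_ne hi]
          simp [hi]
      rw [this, Finset.card_erase_of_mem hi0, hcard]
      rfl
    exact (Relation.ReflTransGen.head hstep1 (ih _ _ hu' hv' hcard')).tail hstep2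

lemma chain_of_reflTransGen {α : Type*} {r : α → α → Prop} {a b : α}
    (h : Relation.ReflTransGen r a b) :
    ∃ (m : ℕ) (w : Fin (m + 1) → α), w 0 = a ∧ w (Fin.last m) = b ∧
      ∀ k : Fin m, r (w k.castSucc) (w k.succ) := by
  induction h with
  | refl => exact ⟨0, fun _ => a, rfl, rfl, fun k => k.elim0⟩
  | @tail b c _ hbc ih =>
    obtain ⟨m, w, h0, hlast, hstep⟩ := ih
    refine ⟨m + 1, Fin.snoc w c, ?_, ?_, ?_⟩
    · have : (0 : Fin (m + 2)) = Fin.castSucc (0 : Fin (m + 1)) := rfl
      rw [this, Fin.snoc_castSucc, h0]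
    · rw [Fin.snoc_last]
    · intro k
      refine Fin.lastCases ?_ (fun k' => ?_) k
      · rw [Fin.snoc_castSucc, Fin.succ_last, Fin.snoc_last, hlast]
        exact hbc
      · rw [Fin.snoc_castSucc, ← Fin.castSucc_succ, Fin.snoc_castSucc]
        exact hstep k'

end Helpers

/-- Suppose A is a Cohen–Macaulay local ring whose Krull dimension is d, and consider two systems of
parameters u = (u_1, ..., u_d) and v = (v_1, ..., v_d) of A (that is, d-tuples of elements of the
maximal ideal m such that the ideal they generate has radical m). Then one can find a finite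
sequence w_0 = u, w_1, ..., w_m = v, each term a system of parameters of A, where w_{k+1} arises
from w_k by altering just one coordinate. -/
theorem result (A : Type u) [CommRing A] [LocCoh.IsCohenMacaulayLocalRing A]
    (d : ℕ) (hd : ringKrullDim A = d) (u v : Fin d → A)
    (hu : ∀ i, u i ∈ IsLocalRing.maximalIdeal A) (hu' : IsLocalRing.maximalIdeal A ≤ (Ideal.span (Set.range u)).radical)
    (hv : ∀ i, v i ∈ IsLocalRing.maximalIdeal A) (hv' : IsLocalRing.maximalIdeal A ≤ (Ideal.span (Set.range v)).radical) :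
    ∃ (m : ℕ) (w : Fin (m + 1) → Fin d → A), w 0 = u ∧ w (Fin.last m) = v ∧
      (∀ k : Fin (m + 1), (∀ i, w k i ∈ IsLocalRing.maximalIdeal A) ∧
        IsLocalRing.maximalIdeal A ≤ (Ideal.span (Set.range (w k))).radical) ∧
      (∀ k : Fin m, ∃ i : Fin d, ∀ i' : Fin d, i' ≠ i → w k.castSucc i' = w k.succ i') := by
  have hU : IsSop u := ⟨hu, hu'⟩
  have hV : IsSop v := ⟨hv, hv'⟩
  obtain ⟨m, w, h0, hlast, hstep⟩ := chain_of_reflTransGen (reflTransGen_step _ u v hU hV rfl)
  refine ⟨m, w, h0, hlast, ?_, ?_⟩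
  · intro k
    refine Fin.lastCases ?_ (fun k' => ?_) k
    · rw [hlast]; exact hV
    · exact (hstep k').1
  · intro k
    exact (hstep k).2.2

end Groth.Agent.S8586
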