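import Groth.Statements.S8591
import Mathlib

set_option autoImplicit false
universe u
open CAlg

namespace Groth.Agent.S8591


open Polynomial Matrix

/-- split case -/
lemma det_aeval_split {K : Type*} [Field K] (P : K[X]) (hP : P.Splits) (n : ℕ)
    (A : Matrix (Fin n) (Fin n) K) (d : ℕ) (hd : P.natDegree ≤ d) :
    (aeval A P).det = resultant A.charpoly P n d := by
  have hχ : A.charpoly.natDegree = n := by simp
  have hcoeff : A.charpoly.coeff n = 1 := by
    have := A.charpoly_monic; rw [Monic, leadingCoeff, hχ] at this; exact this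
  obtain ⟨k, rfl⟩ := Nat.exists_eq_add_of_le hd
  rw [resultant_add_right_deg _ _ _ _ _ le_rfl, hcoeff, one_pow, one_mul, resultant_comm,
    resultant_eq_prod_eval P A.charpoly n hχ.le hP]
  let φ : K[X] →* K := (Matrix.detMonoidHom).comp
    ((aeval A : K[X] →ₐ[K] Matrix (Fin n) (Fin n) K) : K[X] →* Matrix (Fin n) (Fin n) K)
  have hφ : ∀ Q : K[X], φ Q = (aeval A Q).det := fun _ => rfl
  have h1 : φ (C P.leadingCoeff) = P.leadingCoeff ^ n := by
    rw [hφ, aeval_C]
    simp [Matrix.algebraMap_eq_diagonal]
  have h2 : ∀ μ : K, φ (X - C μ) = (-1) ^ n * A.charpoly.eval μ := by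
    intro μ
    rw [hφ, eval_charpoly, map_sub, aeval_X, aeval_C, ← neg_sub, det_neg]
    simp [Matrix.algebraMap_eq_diagonal, Matrix.scalar_apply]
    rfl
  calc (aeval A P).det = φ P := rfl
    _ = φ (C P.leadingCoeff * (P.roots.map (X - C ·)).prod) := by rw [← hP.eq_prod_roots]
    _ = _ := by
      rw [map_mul, map_multiset_prod, Multiset.map_map, h1]
      simp only [Function.comp_def, h2]
      rw [Multiset.prod_map_mul, Multiset.map_const', Multiset.prod_replicate,
        ← hP.natDegree_eq_card_roots, ← pow_mul]
      ring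

/-- the predicate -/
def Pred {R : Type u} [CommRing R] (P : R[X]) : Prop :=
  ∀ (n : ℕ) (A : Matrix (Fin n) (Fin n) R) (d : ℕ), P.natDegree ≤ d →
    (aeval A P).det = resultant A.charpoly P n d

lemma aeval_map_matrix {R S : Type*} [CommRing R] [CommRing S] (φ : R →+* S) (n : ℕ)
    (A : Matrix (Fin n) (Fin n) R) (P : R[X]) :
    aeval (A.map φ) (P.map φ) = (aeval A P).map φ := by
  have : aeval (φ.mapMatrix A) (P.map φ) = φ.mapMatrix (aeval A P) := by
    rw [aeval_def, aeval_def, eval₂_map, hom_eval₂]
    congr 1
    ext r i j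
    by_cases hij : i = j <;> simp [Matrix.algebraMap_eq_diagonal, hij]
  exact this

theorem pred_all {R : Type u} [CommRing R] (P : R[X]) : Pred P := by
  refine induction_of_Splits_of_injective_of_surjective P (fun {R} _ P => Pred P) ?_ ?_ ?_
  · intro K _ P hP n A d hd
    exact det_aeval_split P hP n A d hd
  · intro R S _ _ φ hφ P IH n A d hd
    apply hφ
    have := IH n (A.map φ) d (natDegree_map_le.trans hd)
    rw [aeval_map_matrix, charpoly_map, resultant_map_map] at this
    rw [← this, RingHom.map_det]
    rfl
  · intro R S _ _ φ hφ p IH n A d hd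
    obtain ⟨q, rfl, hq⟩ := exists_degree_eq_of_mem_lifts (mem_lifts_of_surjective hφ p)
    obtain ⟨A', rfl⟩ : ∃ A' : Matrix (Fin n) (Fin n) R, A'.map φ = A :=
      ⟨fun i j => (hφ (A i j)).choose, by ext i j; exact (hφ (A i j)).choose_spec⟩
    have := IH q n A' d (by rw [natDegree_eq_of_degree_eq hq]; exact hd)
    rw [aeval_map_matrix, charpoly_map, resultant_map_map, ← this, RingHom.map_det]
    rfl

lemma minpoly_root_of_monic {R : Type*} [CommRing R] (g : R[X]) (hg : g.Monic) :
    minpoly R (AdjoinRoot.root g) = g := by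
  refine (minpoly.unique' R _ hg ?_ ?_).symm
  · rw [AdjoinRoot.aeval_eq, AdjoinRoot.mk_self]
  · intro q hq
    by_cases hq0 : q = 0
    · exact Or.inl hq0
    · right
      rw [AdjoinRoot.aeval_eq, Ne, AdjoinRoot.mk_eq_zero]
      exact hg.not_dvd_of_degree_lt hq0 hq



/-- Let k be a commutative ring, M a finite free k-module, u an endomorphism of M with characteristic
polynomial χ, and P a polynomial over k. Then the norm, from the k-algebra k[T]/(χ) (free of rank
the rank of M) down to k, of the class of P(T) equals det(P(u)). (The published statement writes the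
quotient by det(u - T), which generates the same ideal as χ(T) = det(T - u).) -/
theorem result (k : Type u) [CommRing k] (M : Type u) [AddCommGroup M] [Module k M]
    [Module.Free k M] [Module.Finite k M] (u : M →ₗ[k] M) (P : Polynomial k) :
    Algebra.norm k (AdjoinRoot.mk u.charpoly P) = LinearMap.det (Polynomial.aeval u P) := by
  nontriviality k
  have hmon : u.charpoly.Monic := u.charpoly_monic
  have hdeg : u.charpoly.natDegree = Module.finrank k M := u.charpoly_natDegree
  -- the right-hand side
  let b := Module.finBasis k M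
  have e1 : LinearMap.toMatrix b b (aeval u P) = aeval (LinearMap.toMatrix b b u) P :=
    (aeval_algHom_apply (LinearMap.toMatrixAlgEquiv b) u P).symm
  have hR : LinearMap.det (aeval u P) =
      resultant u.charpoly P (Module.finrank k M) P.natDegree := by
    rw [← LinearMap.det_toMatrix b, e1, pred_all P _ _ _ le_rfl, LinearMap.charpoly_toMatrix]
  -- the left-hand side
  let pb := AdjoinRoot.powerBasis' hmon
  have e2 : Algebra.leftMulMatrix pb.basis (AdjoinRoot.mk u.charpoly P) =
      aeval (Algebra.leftMulMatrix pb.basis (AdjoinRoot.root u.charpoly)) P := by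
    rw [← AdjoinRoot.aeval_eq]
    exact (aeval_algHom_apply (Algebra.leftMulMatrix pb.basis) _ P).symm
  have e3 : (Algebra.leftMulMatrix pb.basis (AdjoinRoot.root u.charpoly)).charpoly =
      u.charpoly := by
    have := charpoly_leftMulMatrix pb
    rw [AdjoinRoot.powerBasis'_gen, minpoly_root_of_monic _ hmon] at this
    exact this
  rw [Algebra.norm_eq_matrix_det pb.basis, e2, pred_all P _ _ _ le_rfl, e3, hR]
  congr 1

end Groth.Agent.S8591
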