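import Groth.Statements.S8596
import Mathlib
import Groth.Agent.Lib.Helper13Devissage
import Groth.Agent.Lib.Helper13TorColim
-- import your own Groth.Agent.* helpers here

set_option autoImplicit false
universe u
open CategoryTheory CategoryTheory.Limits
open CAlg

namespace Groth.Agent.S8596

/-- Case of a complex reduced to a single module in degree 0: let A be a commutative Noetherian ring, M
an A-module (not necessarily finitely generated) and n ≥ 0. Then M has tor-dimension at most n —
Tor_i^A(N, M) = 0 for every A-module N and every i > n, the Tor being the left derived functors of N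
⊗ - evaluated at M — if and only if Tor_i^A(k(x), M) = 0 for every prime ideal x of A, with residue
field k(x), and every i > n. (The published statement gives the equivalence for bounded-above
complexes K and the derived tensor product K ⊗^L k(x); this is the case K = M[0].) -/
theorem result (A : Type u) [CommRing A] [IsNoetherianRing A]
    (M : ModuleCat.{u} A) (n : ℕ) :
    (∀ (N : ModuleCat.{u} A) (i : ℕ), n < i → IsZero (((Tor (ModuleCat.{u} A) i).obj N).obj M)) ↔
    (∀ (x : Ideal A) [x.IsPrime] (i : ℕ), n < i →
      IsZero (((Tor (ModuleCat.{u} A) i).obj (ModuleCat.of A x.ResidueField)).obj M)) := by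
  constructor
  · intro h x _ i hi
    exact h _ i hi
  · intro h N
    refine Groth.Agent.Helper13Devissage.devissage
      (fun N => ∀ i : ℕ, n < i → IsZero (((Tor (ModuleCat.{u} A) i).obj N).obj M))
      ?_ ?_ ?_ ?_ ?_ (fun p _ => h p) N
    · intro N N' e hN i hi
      exact IsZero.of_iso (hN i hi) (((Tor (ModuleCat.{u} A) i).mapIso e).app M).symm
    · intro N hN i hi
      have : Subsingleton N := ModuleCat.subsingleton_of_isZero hN
      have : Module.Flat A N := inferInstance
      exact Groth.Agent.Helper13Tor.isZero_tor_of_flat M N i (by omega)
    · intro S hS h₁ h₃ i hi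
      exact Groth.Agent.Helper13Tor.isZero_tor_X₂ S hS M i (h₁ i hi) (h₃ i hi)
    · intro S hS h₂ h₃ i hi
      exact Groth.Agent.Helper13Tor.isZero_tor_X₁ S hS M i (h₃ (i + 1) (by omega)) (h₂ i hi)
    · intro N hN i hi
      exact Groth.Agent.Helper13Devissage.isZero_of_fg ((Tor (ModuleCat.{u} A) i).flip.obj M)
        (fun J _ _ => Groth.Agent.Helper13Tor.preservesColimitsOfShape_tor_flip M i J) N
        (fun N' hN' => hN N' hN' i hi)

end Groth.Agent.S8596
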