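import Groth.Statements.S8597
import Mathlib
import Groth.Agent.Lib.Helper13Devissage
import Groth.Agent.Lib.Helper13TorColim
-- import your own Groth.Agent.* helpers here

set_option autoImplicit false
universe u
open CategoryTheory CategoryTheory.Limits
open CAlg

namespace Groth.Agent.S8597

open Groth.Agent.Helper13Tor MonoidalCategory

variable {A : Type u} [CommRing A]

/-- abstract five lemma for functors `ModuleCat ⥤ ModuleCat`. -/
theorem five {T₁ T₂ T₃ T₄ T₅ : ModuleCat.{u} A ⥤ ModuleCat.{u} A} (a : T₁ ⟶ T₂) (b : T₂ ⟶ T₃)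
    (c : T₃ ⟶ T₄) (d : T₄ ⟶ T₅)
    (hab : ∀ Y, Function.Exact (a.app Y).hom (b.app Y).hom)
    (hbc : ∀ Y, Function.Exact (b.app Y).hom (c.app Y).hom)
    (hcd : ∀ Y, Function.Exact (c.app Y).hom (d.app Y).hom)
    {M N : ModuleCat.{u} A} (u : M ⟶ N)
    (h₁ : IsIso (T₁.map u)) (h₂ : IsIso (T₂.map u))
    (h₄ : IsIso (T₄.map u)) (h₅ : Function.Injective (T₅.map u).hom) :
    IsIso (T₃.map u) := by
  rw [ConcreteCategory.isIso_iff_bijective] at h₁ h₂ h₄ ⊢
  refine LinearMap.bijective_of_surjective_of_bijective_of_bijective_of_injective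
    (a.app M).hom (b.app M).hom (c.app M).hom (d.app M).hom
    (a.app N).hom (b.app N).hom (c.app N).hom (d.app N).hom
    (T₁.map u).hom (T₂.map u).hom (T₃.map u).hom (T₄.map u).hom (T₅.map u).hom
    ?_ ?_ ?_ ?_ (hab M) (hbc M) (hcd M) (hab N) (hbc N) (hcd N) h₁.2 h₂ h₄ h₅
  · rw [← ModuleCat.hom_comp, ← ModuleCat.hom_comp, a.naturality]
  · rw [← ModuleCat.hom_comp, ← ModuleCat.hom_comp, b.naturality]
  · rw [← ModuleCat.hom_comp, ← ModuleCat.hom_comp, c.naturality]
  · rw [← ModuleCat.hom_comp, ← ModuleCat.hom_comp, d.naturality]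

theorem exact_hom {X Y Z : ModuleCat.{u} A} {f : X ⟶ Y} {g : Y ⟶ Z} (w : f ≫ g = 0)
    (h : (ShortComplex.mk f g w).Exact) : Function.Exact f.hom g.hom :=
  (ShortComplex.ShortExact.moduleCat_exact_iff_function_exact _).1 h

theorem epi_tor_zero (S : ShortComplex (ModuleCat.{u} A)) (hS : S.ShortExact) (Y : ModuleCat.{u} A) :
    Epi (((Tor (ModuleCat.{u} A) 0).map S.g).app Y) := by
  have := hS.epi_g
  have h1 : ((Tor (ModuleCat.{u} A) 0).map S.g).app Y ≫ (torZeroIso.hom.app S.X₃).app Y =
      (torZeroIso.hom.app S.X₂).app Y ≫ (S.g ▷ Y) :=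
    congrArg (fun t => t.app Y) (torZeroIso.hom.naturality S.g)
  have h2 : Epi (S.g ▷ Y) := by
    rw [ModuleCat.epi_iff_surjective]
    show Function.Surjective (LinearMap.rTensor Y S.g.hom)
    exact LinearMap.rTensor_surjective Y ((ModuleCat.epi_iff_surjective _).1 this)
  have h4 : (torZeroIso.hom.app S.X₃).app Y ≫ (torZeroIso.inv.app S.X₃).app Y = 𝟙 _ := by
    rw [← NatTrans.comp_app, Iso.hom_inv_id_app]
    rfl
  have h3 : ((Tor (ModuleCat.{u} A) 0).map S.g).app Y =
      ((torZeroIso.hom.app S.X₂).app Y ≫ (S.g ▷ Y)) ≫ (torZeroIso.inv.app S.X₃).app Y := by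
    rw [← h1, Category.assoc, h4, Category.comp_id]
  rw [h3]
  infer_instance

/-- the property used in the dévissage. -/
def PP {M N : ModuleCat.{u} A} (u : M ⟶ N) (X : ModuleCat.{u} A) : Prop :=
  ∀ i : ℕ, IsIso (((Tor (ModuleCat.{u} A) i).obj X).map u)

theorem PP_X₂ {M N : ModuleCat.{u} A} (u : M ⟶ N) (S : ShortComplex (ModuleCat.{u} A))
    (hS : S.ShortExact) (h1 : PP u S.X₁) (h3 : PP u S.X₃) : PP u S.X₂ := by
  intro i
  cases i with
  | zero =>
    refine five (torδ S hS 0) ((Tor (ModuleCat.{u} A) 0).map S.f) ((Tor (ModuleCat.{u} A) 0).map S.g)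
      (0 : _ ⟶ (Functor.const _).obj (ModuleCat.of A PUnit.{u + 1}))
      (fun Y => exact_hom _ (δQ_exact₁ S hS (projectiveResolution Y) 0))
      (fun Y => exact_hom _ (tor_exact₂ S hS Y 0))
      (fun Y => ?_) u (h3 1) (h1 0) (h3 0) (fun x y _ => Subsingleton.elim (α := PUnit.{u + 1}) x y)
    have := epi_tor_zero S hS Y
    have hsurj : Function.Surjective (((Tor (ModuleCat.{u} A) 0).map S.g).app Y).hom :=
      (ModuleCat.epi_iff_surjective _).1 this
    intro y
    constructor
    · intro _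
      exact hsurj y
    · intro _
      exact Subsingleton.elim (α := PUnit.{u + 1}) _ _
  | succ i =>
    exact five (torδ S hS (i + 1)) ((Tor (ModuleCat.{u} A) (i + 1)).map S.f)
      ((Tor (ModuleCat.{u} A) (i + 1)).map S.g) (torδ S hS i)
      (fun Y => exact_hom _ (δQ_exact₁ S hS (projectiveResolution Y) (i + 1)))
      (fun Y => exact_hom _ (tor_exact₂ S hS Y (i + 1)))
      (fun Y => exact_hom _ (δQ_exact₃ S hS (projectiveResolution Y) i))
      u (h3 (i + 2)) (h1 (i + 1)) (h3 (i + 1))
      ((ConcreteCategory.isIso_iff_bijective _).1 (h1 i)).1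

theorem PP_X₁ {M N : ModuleCat.{u} A} (u : M ⟶ N) (S : ShortComplex (ModuleCat.{u} A))
    (hS : S.ShortExact) (h2 : PP u S.X₂) (h3 : PP u S.X₃) : PP u S.X₁ := by
  intro i
  exact five ((Tor (ModuleCat.{u} A) (i + 1)).map S.g) (torδ S hS i)
    ((Tor (ModuleCat.{u} A) i).map S.f) ((Tor (ModuleCat.{u} A) i).map S.g)
    (fun Y => exact_hom _ (δQ_exact₃ S hS (projectiveResolution Y) i))
    (fun Y => exact_hom _ (δQ_exact₁ S hS (projectiveResolution Y) i))
    (fun Y => exact_hom _ (tor_exact₂ S hS Y i))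
    u (h2 (i + 1)) (h3 (i + 1)) (h2 i)
    ((ConcreteCategory.isIso_iff_bijective _).1 (h3 i)).1


/-- Case of modules placed in degree 0: let A be a commutative Noetherian ring and u : M -> N a
homomorphism of A-modules such that for every prime ideal x of A, with residue field k(x), and every
i ≥ 0, the induced map Tor_i^A(k(x), M) -> Tor_i^A(k(x), N) (left derived functors of k(x) ⊗ -) is
an isomorphism. Then u is an isomorphism. (The published statement is for a morphism of
bounded-above complexes and the derived tensor products with k(x); this is the case of two modules.) -/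
theorem result (A : Type u) [CommRing A] [IsNoetherianRing A]
    {M N : ModuleCat.{u} A} (u : M ⟶ N)
    (h : ∀ (x : Ideal A) [x.IsPrime] (i : ℕ),
      IsIso (((Tor (ModuleCat.{u} A) i).obj (ModuleCat.of A x.ResidueField)).map u)) :
    IsIso u := by
  have key : ∀ X : ModuleCat.{u} A, PP u X := by
    refine Groth.Agent.Helper13Devissage.devissage (PP u) ?_ ?_ ?_ ?_ ?_ (fun p _ => h p)
    · intro X X' e hX i
      exact (NatIso.isIso_map_iff ((Tor (ModuleCat.{u} A) i).mapIso e) u).1 (hX i)
    · intro X hX i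
      have : Subsingleton X := ModuleCat.subsingleton_of_isZero hX
      have : Module.Flat A X := inferInstance
      have hz : ∀ Y : ModuleCat.{u} A, IsZero (((Tor (ModuleCat.{u} A) i).obj X).obj Y) := by
        intro Y
        cases i with
        | zero =>
          refine IsZero.of_iso ?_ ((torZeroIso.app X).app Y)
          have : Subsingleton (((tensoringLeft (ModuleCat.{u} A)).obj X).obj Y) :=
            inferInstanceAs (Subsingleton (TensorProduct A X Y))
          exact ModuleCat.isZero_of_subsingleton _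
        | succ i => exact isZero_tor_of_flat Y X (i + 1) (by omega)
      exact ⟨⟨(hz N).to_ _, (hz M).eq_of_src _ _, (hz N).eq_of_src _ _⟩⟩
    · intro S hS h1 h3
      exact PP_X₂ u S hS h1 h3
    · intro S hS h2 h3
      exact PP_X₁ u S hS h2 h3
    · intro X hX i
      exact Groth.Agent.Helper13Devissage.isIso_of_fg ((Tor (ModuleCat.{u} A) i).flip.map u)
        (fun J _ _ => preservesColimitsOfShape_tor_flip M i J)
        (fun J _ _ => preservesColimitsOfShape_tor_flip N i J) X
        (fun X' hX' => hX X' hX' i)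
  have h0 := key (𝟙_ (ModuleCat.{u} A)) 0
  have e : (Tor (ModuleCat.{u} A) 0).obj (𝟙_ (ModuleCat.{u} A)) ≅ 𝟭 _ :=
    torZeroIso.app _ ≪≫ leftUnitorNatIso _
  exact (NatIso.isIso_map_iff e u).1 h0

end Groth.Agent.S8597
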