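import Groth.Statements.S8598
import Mathlib
import Groth.Agent.Lib.Helper21EtOpen
-- import your own Groth.Agent.* helpers here

set_option autoImplicit false
set_option backward.isDefEq.respectTransparency.types false
universe u
open CategoryTheory CategoryTheory.Limits AlgebraicGeometry Opposite
open EtDl

namespace Groth.Agent.S8598

open Groth.Agent.Lib.Helper21.EtOpen

/-- restriction along a surjective étale morphism is faithful -/
theorem restrAlong_faithful {X Y : Scheme.{u}} (u : X ⟶ Y) [Etale u] [Surjective u]
    [EtShriek.JCont u] : (EtShriek.restrAlong u).Faithful where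
  map_injective {F G} φ ψ h := by
    apply Sheaf.hom_ext
    apply NatTrans.ext
    funext V
    induction V using Opposite.rec with | _ V => ?_
    apply AddCommGrpCat.hom_ext
    ext s
    refine Sheaf.isSeparated G V (Presheaf.equalizerSieve (F := G.obj) (X := op V)
      ((φ.hom.app (op V)).hom s) ((ψ.hom.app (op V)).hom s)) ?_ _ _ (fun Z f hf => hf)
    rw [mem_smallEtale_iff]
    intro v
    -- the cover V ×_Y X → V
    let T : X.Etale := (EtCoh.bc u).obj V
    let W : Y.Etale := (EtShriek.compEtale u).obj T
    let p : W ⟶ V := MorphismProperty.Over.homMk (pullback.fst V.hom u) pullback.condition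
    obtain ⟨x, hx⟩ := Surjective.surj (f := u) (V.hom v)
    obtain ⟨w, hw, -⟩ := Scheme.Pullback.exists_preimage_pullback v x hx.symm
    refine ⟨W, p, w, ?_, hw⟩
    change G.obj.map p.op ((φ.hom.app (op V)).hom s) = G.obj.map p.op ((ψ.hom.app (op V)).hom s)
    have n1 := ConcreteCategory.congr_hom (φ.hom.naturality p.op) s
    have n2 := ConcreteCategory.congr_hom (ψ.hom.naturality p.op) s
    have h1 : φ.hom.app (op W) = ψ.hom.app (op W) :=
      congrArg (fun m => m.hom.app (op T)) h
    refine n1.symm.trans (Eq.trans ?_ n2)
    change (φ.hom.app (op W)).hom _ = (ψ.hom.app (op W)).hom _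
    rw [h1]

/-- Let u : X -> Y be an etale, separated morphism of finite type that is surjective, and F an abelian
sheaf on Y_et. The sheaves F_n = (u_n)_! u_n^* F built from the iterated fibre powers of X over Y
form a left resolution of F; in particular (the part stated here) the augmentation u_! u^* F -> F,
which is the counit of the adjunction between extension by zero u_! and restriction u^*, is an
epimorphism. (The continuity of V ↦ (V -> X -> Y) between the small etale sites is carried as an
instance hypothesis, the prelude's convention for extension by zero along an etale morphism.) -/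
theorem result {X Y : Scheme.{u}} (u : X ⟶ Y) [Etale u] [IsSeparated u]
    [LocallyOfFiniteType u] [QuasiCompact u] [Surjective u] [EtShriek.JCont u] (F : EtCoh.Ab Y) :
    Epi ((EtShriek.extZeroAdj u).counit.app F) := by
  haveI := restrAlong_faithful u
  exact Adjunction.counit_epi_of_R_faithful (EtShriek.extZeroAdj u) F

end Groth.Agent.S8598
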