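import Groth.Statements.S8603
-- import your own Groth.Agent.* helpers here

set_option autoImplicit false
universe u
open CategoryTheory CategoryTheory.Limits AlgebraicGeometry Opposite
open DEt

namespace Groth.Agent.S8603

/-- The domination half of 'the category of compactifications of f is cofiltering': let f : X -> Y be a
morphism of quasi-compact quasi-separated schemes and let (Xbar_1, j_1, fbar_1), (Xbar_2, j_2,
fbar_2) be two compactifications of f (j_i : X -> Xbar_i open immersions, fbar_i : Xbar_i -> Y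
proper, fbar_i ∘ j_i = f). Then there are a compactification (Xbar, j, fbar) of f and proper
morphisms p_i : Xbar -> Xbar_i (i = 1, 2) with p_i ∘ j = j_i and fbar_i ∘ p_i = fbar, i.e. a
compactification mapping to both by morphisms of compactifications. (The published statement also
includes the equalizing axiom: two morphisms of compactifications are equalized by a third; only
domination is stated here.) -/
theorem result {X Y : Scheme.{u}} [CompactSpace ↥X] [QuasiSeparatedSpace ↥X]
    [CompactSpace ↥Y] [QuasiSeparatedSpace ↥Y] {f : X ⟶ Y} (c₁ c₂ : DEt.Compactification f) :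
    ∃ (c : DEt.Compactification f) (p₁ : c.Xbar ⟶ c₁.Xbar) (p₂ : c.Xbar ⟶ c₂.Xbar),
      IsProper p₁ ∧ IsProper p₂ ∧ c.j ≫ p₁ = c₁.j ∧ c.j ≫ p₂ = c₂.j ∧
        p₁ ≫ c₁.fbar = c.fbar ∧ p₂ ≫ c₂.fbar = c.fbar := by
  classical
  let pr₁ := pullback.fst c₁.fbar c₂.fbar
  let pr₂ := pullback.snd c₁.fbar c₂.fbar
  let h : X ⟶ pullback c₁.fbar c₂.fbar :=
    pullback.lift c₁.j c₂.j (by rw [c₁.fac, c₂.fac])
  have h1 : h ≫ pr₁ = c₁.j := pullback.lift_fst _ _ _
  have h2 : h ≫ pr₂ = c₂.j := pullback.lift_snd _ _ _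
  haveI : IsImmersion (h ≫ pr₁) := by rw [h1]; infer_instance
  haveI : IsImmersion h := IsImmersion.of_comp h pr₁
  haveI : QuasiSeparatedSpace ↥c₁.Xbar := quasiSeparatedSpace_of_quasiSeparated c₁.fbar
  haveI : QuasiCompact (h ≫ pr₁) := by rw [h1]; infer_instance
  haveI : QuasiCompact h := QuasiCompact.of_comp h pr₁
  haveI : IsOpenImmersion h.toImage := inferInstance
  haveI : IsProper pr₁ := inferInstance
  haveI : IsProper pr₂ := inferInstance
  haveI : IsProper h.imageι := inferInstance
  refine ⟨{ Xbar := h.image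
            j := h.toImage
            fbar := h.imageι ≫ pr₁ ≫ c₁.fbar
            isOpenImmersion := inferInstance
            isProper := inferInstance
            fac := by rw [Scheme.Hom.toImage_imageι_assoc, ← Category.assoc, h1, c₁.fac] },
    h.imageι ≫ pr₁, h.imageι ≫ pr₂, inferInstance, inferInstance, ?_, ?_, ?_, ?_⟩
  · change h.toImage ≫ h.imageι ≫ pr₁ = c₁.j
    rw [Scheme.Hom.toImage_imageι_assoc, h1]
  · change h.toImage ≫ h.imageι ≫ pr₂ = c₂.j
    rw [Scheme.Hom.toImage_imageι_assoc, h2]
  · change (h.imageι ≫ pr₁) ≫ c₁.fbar = h.imageι ≫ pr₁ ≫ c₁.fbar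
    rw [Category.assoc]
  · change (h.imageι ≫ pr₂) ≫ c₂.fbar = h.imageι ≫ pr₁ ≫ c₁.fbar
    rw [Category.assoc, pullback.condition]

end Groth.Agent.S8603
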