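import Groth.Statements.S8607
-- import your own Groth.Agent.* helpers here

set_option autoImplicit false
universe u
open CategoryTheory CategoryTheory.Limits AlgebraicGeometry Opposite
open DEt

namespace Groth.Agent.S8607

/-- The equalizing half of 'the category of compactifications of f is cofiltering': let f : X -> Y be a
morphism of quasi-compact quasi-separated schemes, (Xbar_1, j_1, fbar_1) and (Xbar_2, j_2, fbar_2)
two compactifications of f, and r, s : Xbar_1 -> Xbar_2 two morphisms of compactifications (r ∘ j_1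
= j_2 = s ∘ j_1 and fbar_2 ∘ r = fbar_1 = fbar_2 ∘ s). Then there are a compactification (Xbar, j,
fbar) of f and a proper morphism t : Xbar -> Xbar_1 of compactifications (t ∘ j = j_1, fbar_1 ∘ t =
fbar) with r ∘ t = s ∘ t. -/
theorem result {X Y : Scheme.{u}} [CompactSpace ↥X] [QuasiSeparatedSpace ↥X]
    [CompactSpace ↥Y] [QuasiSeparatedSpace ↥Y] {f : X ⟶ Y} (c₁ c₂ : DEt.Compactification f)
    (r s : c₁.Xbar ⟶ c₂.Xbar) (hr : c₁.j ≫ r = c₂.j) (hs : c₁.j ≫ s = c₂.j)
    (hr' : r ≫ c₂.fbar = c₁.fbar) (hs' : s ≫ c₂.fbar = c₁.fbar) :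
    ∃ (c : DEt.Compactification f) (t : c.Xbar ⟶ c₁.Xbar), IsProper t ∧ c.j ≫ t = c₁.j ∧ t ≫ c₁.fbar = c.fbar ∧
      t ≫ r = t ≫ s := by
  classical
  let X₁ : Over Y := Over.mk c₁.fbar
  let X₂ : Over Y := Over.mk c₂.fbar
  let r' : X₁ ⟶ X₂ := Over.homMk r hr'
  let s' : X₁ ⟶ X₂ := Over.homMk s hs'
  haveI : IsSeparated X₂.hom := inferInstanceAs (IsSeparated c₂.fbar)
  let ιE : (equalizer r' s').left ⟶ c₁.Xbar := (equalizer.ι r' s').left
  haveI : IsClosedImmersion ιE := isClosedImmersion_equalizer_ι_left r' s'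
  let j₁' : Over.mk f ⟶ X₁ := Over.homMk c₁.j c₁.fac
  have hj : j₁' ≫ r' = j₁' ≫ s' := by
    ext
    change c₁.j ≫ r = c₁.j ≫ s
    rw [hr, hs]
  let h : X ⟶ (equalizer r' s').left := (equalizer.lift j₁' hj).left
  have h1 : h ≫ ιE = c₁.j := by
    change (equalizer.lift j₁' hj).left ≫ (equalizer.ι r' s').left = c₁.j
    rw [← Over.comp_left, equalizer.lift_ι]
    rfl
  have hcond : ιE ≫ r = ιE ≫ s := by
    have := congrArg CommaMorphism.left (equalizer.condition r' s')
    exact this
  haveI : IsImmersion (h ≫ ιE) := by rw [h1]; infer_instance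
  haveI : IsImmersion h := IsImmersion.of_comp h ιE
  haveI : QuasiSeparatedSpace ↥c₁.Xbar := quasiSeparatedSpace_of_quasiSeparated c₁.fbar
  haveI : QuasiCompact (h ≫ ιE) := by rw [h1]; infer_instance
  haveI : QuasiCompact h := QuasiCompact.of_comp h ιE
  haveI : IsOpenImmersion h.toImage := inferInstance
  haveI : IsProper h.imageι := inferInstance
  haveI : IsProper ιE := inferInstance
  refine ⟨{ Xbar := h.image
            j := h.toImage
            fbar := h.imageι ≫ ιE ≫ c₁.fbar
            isOpenImmersion := inferInstance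
            isProper := inferInstance
            fac := by rw [Scheme.Hom.toImage_imageι_assoc, ← Category.assoc, h1, c₁.fac] },
    h.imageι ≫ ιE, inferInstance, ?_, ?_, ?_⟩
  · change h.toImage ≫ h.imageι ≫ ιE = c₁.j
    rw [Scheme.Hom.toImage_imageι_assoc, h1]
  · change (h.imageι ≫ ιE) ≫ c₁.fbar = h.imageι ≫ ιE ≫ c₁.fbar
    rw [Category.assoc]
  · change (h.imageι ≫ ιE) ≫ r = (h.imageι ≫ ιE) ≫ s
    rw [Category.assoc, Category.assoc, hcond]

end Groth.Agent.S8607
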