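import Groth.Statements.S8609
import Mathlib
import Groth.Agent.Lib.Helper16MM
import Groth.Agent.Lib.Helper16MM2
import Groth.Agent.Lib.Helper16MM3
-- import your own Groth.Agent.* helpers here

set_option autoImplicit false
set_option linter.style.haveILetI false
set_option linter.unusedSectionVars false
universe u
open CategoryTheory
open SGA4h

namespace Groth.Agent.S8609

open TensorProduct PiTensorProduct Polynomial in
open Groth.Agent.Lib.Helper16MM in


open TensorProduct PiTensorProduct Polynomial in
/-- The case of a module placed in degree 0: let A be a commutative ring, M a finite free A-module and u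
an endomorphism of M. For each n let Γ^n M be the submodule of the n-fold tensor power of M fixed by
all permutations of the factors (symmetric tensors) and γ_n the endomorphism of Γ^n M induced by the
n-fold tensor power of u. Then the power series Σ_n Tr(γ_n) t^n is the inverse of the polynomial
det(1 - u t, M): their product is 1 in A[[t]]. (The published statement allows M projective of
finite type; this row takes M free, where the trace of Γ^n M is the usual one.) -/
theorem result {A : Type u} [CommRing A] (M : Type u) [AddCommGroup M]
    [Module A M] [Module.Free A M] [Module.Finite A M] (u : M →ₗ[A] M)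
    (γ : ∀ n : ℕ, ↥(⨅ σ : Equiv.Perm (Fin n),
        LinearMap.eqLocus ((PiTensorProduct.reindex A (fun _ : Fin n => M) σ).toLinearMap) LinearMap.id) →ₗ[A]
      ↥(⨅ σ : Equiv.Perm (Fin n),
        LinearMap.eqLocus ((PiTensorProduct.reindex A (fun _ : Fin n => M) σ).toLinearMap) LinearMap.id))
    (hγ : ∀ (n : ℕ) (x : ↥(⨅ σ : Equiv.Perm (Fin n),
        LinearMap.eqLocus ((PiTensorProduct.reindex A (fun _ : Fin n => M) σ).toLinearMap) LinearMap.id)),
      (↑(γ n x) : ⨂[A] _i : Fin n, M) = PiTensorProduct.map (fun _ : Fin n => u) (↑x : ⨂[A] _i : Fin n, M)) :
    (↑(SGA4h.detOneSub (ModuleCat.of A M) (ModuleCat.ofHom u)) : PowerSeries A) *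
      PowerSeries.mk (fun n => LinearMap.trace A _ (γ n)) = 1 := by
  classical
  rcases subsingleton_or_nontrivial A with hA | hA
  · exact Subsingleton.elim _ _
  · let b : Module.Basis (Fin (Fintype.card (Module.Free.ChooseBasisIndex A M))) A M :=
      (Module.Free.chooseBasis A M).reindex (Fintype.equivFin _)
    have h1 : SGA4h.detOneSub (ModuleCat.of A M) (ModuleCat.ofHom u) =
        detPoly (LinearMap.toMatrix b b u) := by
      rw [detOneSub, detPoly, ← det_baseChange b u]
      rfl
    have h2 : (fun n => LinearMap.trace A _ (γ n)) =
        fun n => PP n (LinearMap.toMatrix b b u) := by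
      funext n
      exact trace_gamma b u n (γ n) (hγ n)
    rw [h1, h2]
    exact MMstmt_all (LinearMap.toMatrix b b u)

end Groth.Agent.S8609
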