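import Groth.Statements.S8611
import Groth.Agent.Lib.Helper9DeltaIso

set_option autoImplicit false
universe w v u
open CategoryTheory CategoryTheory.Limits
open SGA4h

namespace Groth.Agent.S8611

/-- Let C be an abelian category, T and T' cohomological delta-functors on C in degrees ≥ 0 with values
in abelian groups, both left exact in degree 0, with T effaceable in every degree q > 0 (every
element of T^q(A) is killed by T^q(u) for some monomorphism u : A → M, depending on the element),
and φ : T → T' a morphism of delta-functors. Let E be a class of objects such that every object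
admits a monomorphism into a member of E. Then the following are equivalent: (i) φ^q(A) is bijective
for all q and all A; (ii) φ^0(M) is bijective and φ^q(M) is surjective for q > 0, for all M in E;
(iii) φ^0(A) is bijective for all A and T' is effaceable in every degree > 0 (in the same
element-wise sense). Stated as (i) ⇔ (ii) together with (i) ⇔ (iii). -/
theorem result {C : Type u} [Category.{v} C] [Abelian C]
    (T T' : DeltaF.CohDeltaFunctor C AddCommGrpCat.{w} ℕ) (hT0 : T.ZeroMono) (hT'0 : T'.ZeroMono)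
    (hT : ∀ (q : ℕ) (A : C) (α : (T.F (q + 1)).obj A),
      ∃ (M : C) (u : A ⟶ M), Mono u ∧ (T.F (q + 1)).map u α = 0)
    (φ : T ⟶ T') (E : ObjectProperty C)
    (hE : ∀ A : C, ∃ (M : C) (i : A ⟶ M), Mono i ∧ E M) :
    ((∀ (q : ℕ) (A : C), IsIso ((φ.app q).app A)) ↔
      ((∀ M : C, E M → IsIso ((φ.app 0).app M)) ∧
        ∀ (q : ℕ) (M : C), E M → Epi ((φ.app (q + 1)).app M))) ∧
    ((∀ (q : ℕ) (A : C), IsIso ((φ.app q).app A)) ↔
      ((∀ A : C, IsIso ((φ.app 0).app A)) ∧
        ∀ (q : ℕ) (A : C) (α : (T'.F (q + 1)).obj A),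
          ∃ (M : C) (u : A ⟶ M), Mono u ∧ (T'.F (q + 1)).map u α = 0)) := by
  have bij_iff : ∀ (q : ℕ) (A : C), IsIso ((φ.app q).app A) ↔ Function.Bijective ((φ.app q).app A) :=
    fun q A => ConcreteCategory.isIso_iff_bijective _
  have ind : (∀ A, Function.Bijective ((φ.app 0).app A)) →
      (∀ q, (∀ A, Function.Bijective ((φ.app q).app A)) →
        ∀ A, Function.Surjective ((φ.app (q + 1)).app A)) →
      ∀ (q : ℕ) (A : C), IsIso ((φ.app q).app A) := by
    intro h0 hs q
    induction q with
    | zero => exact fun A => (bij_iff 0 A).2 (h0 A)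
    | succ q ih =>
      intro A
      have hq : ∀ A, Function.Bijective ((φ.app q).app A) := fun A => (bij_iff q A).1 (ih A)
      exact (bij_iff (q + 1) A).2
        ⟨Groth.Agent.Lib.Helper9.DeltaIso.inj_step φ hT q hq A, hs q hq A⟩
  refine ⟨⟨fun h => ⟨fun M _ => h 0 M, fun q M _ => ?_⟩, fun h => ?_⟩,
    ⟨fun h => ⟨fun A => h 0 A, fun q A α' => ?_⟩, fun h => ?_⟩⟩
  · haveI := h (q + 1) M
    infer_instance
  · refine ind (Groth.Agent.Lib.Helper9.DeltaIso.zero_step φ hT0 hT'0 E hE
      (fun M hM => (bij_iff 0 M).1 (h.1 M hM))) (fun q hq A => ?_)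
    exact Groth.Agent.Lib.Helper9.DeltaIso.surj_step_E φ E hE q hq
      (Groth.Agent.Lib.Helper9.DeltaIso.inj_step φ hT q hq)
      (fun M hM => (AddCommGrpCat.epi_iff_surjective _).1 (h.2 q M hM)) A
  · obtain ⟨α, rfl⟩ := ((bij_iff (q + 1) A).1 (h (q + 1) A)).2 α'
    obtain ⟨M, u, hu, hα⟩ := hT q A α
    refine ⟨M, u, hu, ?_⟩
    rw [← Groth.Agent.Lib.Helper9.DeltaIso.app_nat, hα, map_zero]
  · exact ind (fun A => (bij_iff 0 A).1 (h.1 A))
      (fun q hq A => Groth.Agent.Lib.Helper9.DeltaIso.surj_step_eff φ h.2 q hq A)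

end Groth.Agent.S8611
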