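import Groth.Statements.S8618
import Mathlib
import Groth.Agent.S8604
import Groth.Agent.Lib.Helper16Lang
-- import your own Groth.Agent.* helpers here

set_option autoImplicit false
set_option linter.style.haveILetI false
set_option linter.unusedSectionVars false
universe u
open SGA4h

namespace Groth.Agent.S8618
open TensorProduct

section Setup

variable {p : ℕ} [hp : Fact p.Prime] (k : Type u) [Field k] [Fintype k]
    [CharP k p] (f : ℕ) (hq : Fintype.card k = p ^ f) (K : Type u) [Field K] [Algebra k K]
    (V : Type u) [AddCommGroup V] [Module k V]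
    (φ : V →ₛₗ[frobenius k p] V) (F : V →ₗ[k] V) (hF : ∀ x, F x = (⇑φ)^[f] x)
    (φK : K ⊗[k] V →+ K ⊗[k] V) (hφK : ∀ (μ : K) (v : V), φK (μ ⊗ₜ[k] v) = (μ ^ p) ⊗ₜ[k] φ v)

include hφK in
lemma phiK_smul (a : K) (y : K ⊗[k] V) : φK (a • y) = a ^ p • φK y := by
  induction y using TensorProduct.induction_on with
  | zero => simp
  | tmul μ v =>
    rw [TensorProduct.smul_tmul', hφK, hφK, smul_eq_mul, mul_pow, TensorProduct.smul_tmul',
      smul_eq_mul]
  | add x y hx hy => rw [smul_add, map_add, hx, hy, map_add, smul_add]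

include hF hφK in
lemma phiK_comm (y : K ⊗[k] V) : φK (F.baseChange K y) = F.baseChange K (φK y) := by
  induction y using TensorProduct.induction_on with
  | zero => simp
  | tmul μ v =>
    rw [LinearMap.baseChange_tmul, hφK, hφK, LinearMap.baseChange_tmul, hF, hF,
      ← Function.iterate_succ_apply, Function.iterate_succ_apply']
  | add x y hx hy => rw [map_add, map_add, hx, hy, map_add, map_add]

include hF hφK in
lemma phiK_iter_comm (m : ℕ) (y : K ⊗[k] V) :
    (⇑φK)^[m] (F.baseChange K y) = F.baseChange K ((⇑φK)^[m] y) := by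
  induction m generalizing y with
  | zero => rfl
  | succ m ih =>
    rw [Function.iterate_succ_apply, Function.iterate_succ_apply,
      phiK_comm k f K V φ F hF φK hφK, ih]

/-- the `q`-power map on `K`, as a `k`-linear map -/
noncomputable def psiQ [CharP K p] : K →ₗ[k] K where
  toFun := fun μ => μ ^ (p ^ f)
  map_add' := fun a b => add_pow_char_pow a b p f
  map_smul' := fun c μ => by
    simp only [RingHom.id_apply, Algebra.smul_def, mul_pow, ← map_pow]
    congr 2
    rw [← hq]
    exact FiniteField.pow_card c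

variable [CharP K p]

/-- `Θ = (μ ↦ μ^q) ⊗ id` -/
noncomputable def Theta : K ⊗[k] V →ₗ[k] K ⊗[k] V := (psiQ (p := p) k f hq K).rTensor V

lemma Theta_tmul (μ : K) (v : V) :
    Theta k f hq K V (μ ⊗ₜ[k] v) = (μ ^ (p ^ f)) ⊗ₜ[k] v := rfl

lemma Theta_injective : Function.Injective (Theta (p := p) k f hq K V) := by
  apply Module.Flat.rTensor_preserves_injective_linearMap
  intro a b hab
  change a ^ (p ^ f) = b ^ (p ^ f) at hab
  have := iterateFrobenius_def (R := K) p f
  have hinj : Function.Injective (iterateFrobenius K p f) := (iterateFrobenius K p f).injective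
  apply hinj
  rw [iterateFrobenius_def, iterateFrobenius_def]
  exact hab

include hφK in
lemma phiK_iter_tmul (m : ℕ) (μ : K) (v : V) :
    (⇑φK)^[m] (μ ⊗ₜ[k] v) = (μ ^ (p ^ m)) ⊗ₜ[k] (⇑φ)^[m] v := by
  induction m generalizing μ v with
  | zero => simp
  | succ m ih =>
    rw [Function.iterate_succ_apply', ih, hφK, Function.iterate_succ_apply', ← pow_mul, pow_succ]

include hF hφK in
lemma phiK_iter_f (y : K ⊗[k] V) :
    (⇑φK)^[f] y = Theta k f hq K V (F.baseChange K y) := by
  induction y using TensorProduct.induction_on with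
  | zero => simp [iterate_map_zero]
  | tmul μ v =>
    rw [phiK_iter_tmul k K V φ φK hφK, LinearMap.baseChange_tmul, Theta_tmul, hF]
  | add x y hx hy => rw [iterate_map_add, hx, hy, map_add, map_add]

lemma Theta_comm (y : K ⊗[k] V) :
    Theta (p := p) k f hq K V (F.baseChange K y) = F.baseChange K (Theta k f hq K V y) := by
  induction y using TensorProduct.induction_on with
  | zero => simp
  | tmul μ v => rw [LinearMap.baseChange_tmul, Theta_tmul, Theta_tmul, LinearMap.baseChange_tmul]
  | add x y hx hy => rw [map_add, map_add, hx, hy, map_add, map_add]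

include hF hφK in
lemma phiK_iter_mul (m : ℕ) (y : K ⊗[k] V) :
    (⇑φK)^[f * m] y = (⇑(Theta (p := p) k f hq K V))^[m] ((⇑(F.baseChange K))^[m] y) := by
  induction m generalizing y with
  | zero => simp
  | succ m ih =>
    rw [Nat.mul_succ, Function.iterate_add_apply, phiK_iter_f k f hq K V φ F hF φK hφK, ih,
      Function.iterate_succ_apply', Function.iterate_succ_apply']
    -- Θ^m F^m Θ F y = Θ (Θ^m (F (F^m y)))
    have hcomm1 : ∀ (j : ℕ) (z : K ⊗[k] V), (⇑(F.baseChange K))^[j] (Theta k f hq K V z) =
        Theta (p := p) k f hq K V ((⇑(F.baseChange K))^[j] z) := by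
      intro j
      induction j with
      | zero => intro z; rfl
      | succ j ihj =>
        intro z
        rw [Function.iterate_succ_apply', ihj, ← Theta_comm, Function.iterate_succ_apply']
    rw [hcomm1, ← Function.iterate_succ_apply, Function.iterate_succ_apply',
      ← Function.iterate_succ_apply' (⇑(F.baseChange K)), Function.iterate_succ_apply]

include hF hφK hq in
/-- vectors killed by an iterate of `φ_K` are killed by a power of `F_K`. -/
lemma FK_pow_eq_zero_of_nil (y : K ⊗[k] V) (m : ℕ) (hm : (⇑φK)^[m] y = 0) :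
    (⇑(F.baseChange K))^[m] y = 0 := by
  have hf1 : 1 ≤ f := by
    by_contra h
    have h0 : f = 0 := by omega
    rw [h0, pow_zero] at hq
    have := Fintype.one_lt_card (α := k)
    omega
  have h1 : (⇑φK)^[f * m] y = 0 := by
    have : f * m = (f * m - m) + m := by
      have : m ≤ f * m := Nat.le_mul_of_pos_left m hf1
      omega
    rw [this, Function.iterate_add_apply, hm, iterate_map_zero]
  rw [phiK_iter_mul k f hq K V φ F hF φK hφK] at h1
  have hinj : Function.Injective (⇑(Theta (p := p) k f hq K V))^[m] :=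
    Function.Injective.iterate (Theta_injective k f hq K V) m
  apply hinj
  rw [h1, iterate_map_zero]

end Setup

open TensorProduct in

open TensorProduct in
/-- Let k be a finite field with q = p^f elements, F₀ ⊂ k its prime field, K an algebraically closed
extension of k, V a finite-dimensional k-vector space and φ a p-linear endomorphism of V (φ(λx) =
λ^p φ(x)); let F = φ^f, a k-linear endomorphism, F_K its K-linear extension to K ⊗_k V and φ_K the
p-linear extension of φ (φ_K(μ ⊗ v) = μ^p ⊗ φ(v)). Then F_K preserves the F₀-subspace W = Ker(φ_K -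
1) of K ⊗_k V, W is finite-dimensional over F₀, and the trace of F_K on W (an element of F₀) equals
the trace of F on V. -/
theorem result {p : ℕ} [Fact p.Prime] (k : Type u) [Field k] [Fintype k]
    [CharP k p] (f : ℕ) (hq : Fintype.card k = p ^ f) (K : Type u) [Field K] [Algebra k K] [IsAlgClosed K]
    (V : Type u) [AddCommGroup V] [Module k V] [FiniteDimensional k V]
    (φ : V →ₛₗ[frobenius k p] V) (F : V →ₗ[k] V) (hF : ∀ x, F x = (⇑φ)^[f] x)
    (φK : K ⊗[k] V →+ K ⊗[k] V) (hφK : ∀ (μ : K) (v : V), φK (μ ⊗ₜ[k] v) = (μ ^ p) ⊗ₜ[k] φ v)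
    (W : Submodule (↥(⊥ : Subfield k)) (K ⊗[k] V)) (hW : ∀ y, y ∈ W ↔ φK y = y) :
    (∀ y, φK y = y → φK (F.baseChange K y) = F.baseChange K y) ∧
    Module.Finite (↥(⊥ : Subfield k)) ↥W ∧
    ∀ (G : ↥W →ₗ[↥(⊥ : Subfield k)] ↥W), (∀ y : ↥W, (↑(G y) : K ⊗[k] V) = F.baseChange K ↑y) →
      algebraMap k K (algebraMap (↥(⊥ : Subfield k)) k (LinearMap.trace (↥(⊥ : Subfield k)) ↥W G)) =
        algebraMap k K (LinearMap.trace k V F) := by
  classical
  haveI : CharP K p := charP_of_injective_algebraMap (algebraMap k K).injective p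
  have hΦ := phiK_smul k K V φ φK hφK
  have hcomm := phiK_comm k f K V φ F hF φK hφK
  have hnil := FK_pow_eq_zero_of_nil k f hq K V φ F hF φK hφK
  refine ⟨fun y hy => by rw [hcomm, hy], ?_, ?_⟩
  · exact Groth.Agent.Lib.Helper16Lang.finite_W k K (K ⊗[k] V) φK hΦ W hW
  · intro G hG
    rw [Groth.Agent.Lib.Helper16Lang.trace_core k K (K ⊗[k] V) φK hΦ W hW (F.baseChange K)
      hcomm hnil G hG, LinearMap.trace_baseChange]

end Groth.Agent.S8618
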