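import Groth.Statements.S8625
import Mathlib.Tactic.Group

set_option autoImplicit false
universe u
open SGA4h

namespace Groth.Agent.S8625

section
variable {G : Type u} [Group G] (F : G →* G)

lemma fix_b (g : G) (h : F (F g * g⁻¹) = F g * g⁻¹) : F (g⁻¹ * F g) = g⁻¹ * F g := by
  have h1 : F (F g) = F g * g⁻¹ * F g := by
    have := h
    rw [map_mul, map_inv] at this
    calc F (F g) = F (F g) * (F g)⁻¹ * F g := by group
      _ = F g * g⁻¹ * F g := by rw [this]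
  rw [map_mul, map_inv, h1]
  group

lemma conj_b_of_conj_a (g g' c : G) (hc : F c = c)
    (hcc : c * (F g * g⁻¹) * c⁻¹ = F g' * g'⁻¹) :
    F (g'⁻¹ * c * g) = g'⁻¹ * c * g ∧
      (g'⁻¹ * c * g) * (g⁻¹ * F g) * (g'⁻¹ * c * g)⁻¹ = g'⁻¹ * F g' := by
  have hX' : F g' = c * F g * g⁻¹ * c⁻¹ * g' := by
    calc F g' = F g' * g'⁻¹ * g' := by group
      _ = _ := by rw [← hcc]; group
  constructor
  · rw [map_mul, map_mul, map_inv, hc, hX']
    group
  · rw [hX']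
    group

lemma conj_a_of_conj_b (g g' d : G) (hd : F d = d)
    (hdd : d * (g⁻¹ * F g) * d⁻¹ = g'⁻¹ * F g') :
    F (g' * d * g⁻¹) = g' * d * g⁻¹ ∧
      (g' * d * g⁻¹) * (F g * g⁻¹) * (g' * d * g⁻¹)⁻¹ = F g' * g'⁻¹ := by
  have hX' : F g' = g' * d * g⁻¹ * F g * d⁻¹ := by
    calc F g' = g' * (g'⁻¹ * F g') := by group
      _ = _ := by rw [← hdd]; group
  constructor
  · rw [map_mul, map_mul, map_inv, hd, hX']
    group
  · rw [hX']
    group

end

/-- Let G be a group with an endomorphism F, and assume the Lang map g ↦ F(g)g⁻¹ is surjective (for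
instance the geometric points of a connected algebraic group over F_q with its Frobenius, where the
surjectivity is the classical result of Lang; the other Lang map g ↦ g⁻¹F(g) is then surjective too,
by g ↦ g⁻¹). Let G^F be the subgroup of fixed points of F. (i) If F(g)g⁻¹ is fixed by F then so is
g⁻¹F(g). (ii), (iii) There is a bijection of the set of conjugacy classes of G^F with itself
sending, for every g with F(g)g⁻¹ ∈ G^F, the class of F(g)g⁻¹ to the class of g⁻¹F(g) (in particular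
the latter class depends only on the former). -/
theorem result {G : Type u} [Group G] (F : G →* G)
    (hL : Function.Surjective fun g : G => F g * g⁻¹) :
    (∀ g : G, F (F g * g⁻¹) = F g * g⁻¹ → F (g⁻¹ * F g) = g⁻¹ * F g) ∧
    ∃ φ : ConjClasses ↥(F.eqLocus (MonoidHom.id G)) → ConjClasses ↥(F.eqLocus (MonoidHom.id G)),
      Function.Bijective φ ∧
      ∀ (g : G) (h : F (F g * g⁻¹) = F g * g⁻¹) (h' : F (g⁻¹ * F g) = g⁻¹ * F g),
        φ (ConjClasses.mk (⟨F g * g⁻¹, h⟩ : ↥(F.eqLocus (MonoidHom.id G)))) =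
          ConjClasses.mk (⟨g⁻¹ * F g, h'⟩ : ↥(F.eqLocus (MonoidHom.id G))) := by
  refine ⟨fun g h => fix_b F g h, ?_⟩
  classical
  have hch : ∀ a : ↥(F.eqLocus (MonoidHom.id G)), ∃ g : G, F g * g⁻¹ = (a : G) := fun a => hL a
  choose γ hγ using hch
  have hfixa : ∀ a : ↥(F.eqLocus (MonoidHom.id G)), F (a : G) = a := fun a => a.2
  have hβmem : ∀ a : ↥(F.eqLocus (MonoidHom.id G)),
      F ((γ a)⁻¹ * F (γ a)) = (γ a)⁻¹ * F (γ a) := fun a =>
    fix_b F (γ a) (by rw [hγ a]; exact hfixa a)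
  let β : ↥(F.eqLocus (MonoidHom.id G)) → ↥(F.eqLocus (MonoidHom.id G)) :=
    fun a => ⟨(γ a)⁻¹ * F (γ a), hβmem a⟩
  -- general comparison
  have hcomp : ∀ (g g' : G) (h : F (F g * g⁻¹) = F g * g⁻¹) (h' : F (F g' * g'⁻¹) = F g' * g'⁻¹)
      (k : F (g⁻¹ * F g) = g⁻¹ * F g) (k' : F (g'⁻¹ * F g') = g'⁻¹ * F g'),
      IsConj (⟨F g * g⁻¹, h⟩ : ↥(F.eqLocus (MonoidHom.id G))) ⟨F g' * g'⁻¹, h'⟩ ↔
      IsConj (⟨g⁻¹ * F g, k⟩ : ↥(F.eqLocus (MonoidHom.id G))) ⟨g'⁻¹ * F g', k'⟩ := by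
    intro g g' h h' k k'
    constructor
    · intro hc
      obtain ⟨c, hc⟩ := isConj_iff.mp hc
      have hc' : (c : G) * (F g * g⁻¹) * (c : G)⁻¹ = F g' * g'⁻¹ := congrArg Subtype.val hc
      obtain ⟨e1, e2⟩ := conj_b_of_conj_a F g g' c (hfixa c) hc'
      exact isConj_iff.mpr ⟨⟨g'⁻¹ * c * g, e1⟩, Subtype.ext e2⟩
    · intro hd
      obtain ⟨d, hd⟩ := isConj_iff.mp hd
      have hd' : (d : G) * (g⁻¹ * F g) * (d : G)⁻¹ = g'⁻¹ * F g' := congrArg Subtype.val hd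
      obtain ⟨e1, e2⟩ := conj_a_of_conj_b F g g' d (hfixa d) hd'
      exact isConj_iff.mpr ⟨⟨g' * d * g⁻¹, e1⟩, Subtype.ext e2⟩
  have haeq : ∀ a : ↥(F.eqLocus (MonoidHom.id G)),
      F (F (γ a) * (γ a)⁻¹) = F (γ a) * (γ a)⁻¹ := fun a => by rw [hγ a]; exact hfixa a
  have ha_eq : ∀ a : ↥(F.eqLocus (MonoidHom.id G)),
      (⟨F (γ a) * (γ a)⁻¹, haeq a⟩ : ↥(F.eqLocus (MonoidHom.id G))) = a :=
    fun a => Subtype.ext (hγ a)
  have hβconj : ∀ a a' : ↥(F.eqLocus (MonoidHom.id G)), IsConj a a' ↔ IsConj (β a) (β a') := by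
    intro a a'
    have := hcomp (γ a) (γ a') (haeq a) (haeq a') (hβmem a) (hβmem a')
    rw [ha_eq a, ha_eq a'] at this
    exact this
  let φ : ConjClasses ↥(F.eqLocus (MonoidHom.id G)) → ConjClasses ↥(F.eqLocus (MonoidHom.id G)) :=
    Quotient.lift (fun a => ConjClasses.mk (β a)) (by
      intro a a' haa'
      exact ConjClasses.mk_eq_mk_iff_isConj.mpr ((hβconj a a').mp haa'))
  have hφ : ∀ a, φ (ConjClasses.mk a) = ConjClasses.mk (β a) := fun a => rfl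
  have hprop : ∀ (g : G) (h : F (F g * g⁻¹) = F g * g⁻¹) (h' : F (g⁻¹ * F g) = g⁻¹ * F g),
        φ (ConjClasses.mk (⟨F g * g⁻¹, h⟩ : ↥(F.eqLocus (MonoidHom.id G)))) =
          ConjClasses.mk (⟨g⁻¹ * F g, h'⟩ : ↥(F.eqLocus (MonoidHom.id G))) := by
    intro g h h'
    rw [hφ]
    apply ConjClasses.mk_eq_mk_iff_isConj.mpr
    set a : ↥(F.eqLocus (MonoidHom.id G)) := ⟨F g * g⁻¹, h⟩ with ha
    have := hcomp (γ a) g (haeq a) h (hβmem a) h'
    rw [ha_eq a] at this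
    exact this.mp (IsConj.refl _)
  refine ⟨φ, ⟨?_, ?_⟩, hprop⟩
  · intro x y hxy
    obtain ⟨a, rfl⟩ := ConjClasses.exists_rep x
    obtain ⟨a', rfl⟩ := ConjClasses.exists_rep y
    rw [hφ, hφ] at hxy
    exact ConjClasses.mk_eq_mk_iff_isConj.mpr
      ((hβconj a a').mpr (ConjClasses.mk_eq_mk_iff_isConj.mp hxy))
  · intro y
    obtain ⟨b, rfl⟩ := ConjClasses.exists_rep y
    obtain ⟨g0, hb⟩ : ∃ g0 : G, g0⁻¹ * F g0 = b := by
      obtain ⟨h0, hh0⟩ := hL ((b : G)⁻¹)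
      dsimp only at hh0
      refine ⟨h0⁻¹, ?_⟩
      rw [map_inv, inv_inv]
      calc h0 * (F h0)⁻¹ = (F h0 * h0⁻¹)⁻¹ := by group
        _ = b := by rw [hh0, inv_inv]
    have hbfix : F (g0⁻¹ * F g0) = g0⁻¹ * F g0 := by
      rw [hb]; exact hfixa b
    have hafix : F (F g0 * g0⁻¹) = F g0 * g0⁻¹ := by
      have h1 : F (F g0) = F g0 * g0⁻¹ * F g0 := by
        have := hbfix
        rw [map_mul, map_inv] at this
        calc F (F g0) = F g0 * ((F g0)⁻¹ * F (F g0)) := by group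
          _ = _ := by rw [this]; group
      rw [map_mul, map_inv, h1]
      group
    refine ⟨ConjClasses.mk ⟨F g0 * g0⁻¹, hafix⟩, ?_⟩
    rw [hprop g0 hafix hbfix]
    congr 1
    exact Subtype.ext hb

end Groth.Agent.S8625
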