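import Groth.Statements.S8626
import Mathlib

set_option autoImplicit false
universe v v' u u'
open CategoryTheory CategoryTheory.Limits
open SGA4h

namespace Groth.Agent.S8626

section aux

variable {A : Type u} [Category.{v} A] [Abelian A]

/-- a stage of the construction: one differential -/
structure Stage (A : Type u) [Category.{v} A] where
  P : A
  Q : A
  d : P ⟶ Q

/-- envelope data: every object embeds in `Y Z` through an injective object `I Z` -/
structure Env (A : Type u) [Category.{v} A] [Abelian A] where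
  Y : A → A
  I : A → A
  j : ∀ Z, Z ⟶ I Z
  k : ∀ Z, I Z ⟶ Y Z
  inj : ∀ Z, Injective (I Z)
  mono_j : ∀ Z, Mono (j Z)
  mono_k : ∀ Z, Mono (k Z)

variable (E : Env A)

noncomputable def Env.ι (Z : A) : Z ⟶ E.Y Z := E.j Z ≫ E.k Z

instance mono_ι (Z : A) : Mono (E.ι Z) := by
  haveI := E.mono_j Z
  haveI := E.mono_k Z
  exact mono_comp _ _

noncomputable def next (s : Stage A) : Stage A :=
  ⟨s.Q, E.Y (cokernel s.d), cokernel.π s.d ≫ E.ι _⟩

noncomputable def stage (X : A) : ℕ → Stage A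
  | 0 => ⟨X, E.Y X, E.ι X⟩
  | n + 1 => next E (stage X n)

lemma stage_sq (X : A) (n : ℕ) :
    (stage E X n).d ≫ (stage E X (n + 1)).d = 0 := by
  show (stage E X n).d ≫ (cokernel.π (stage E X n).d ≫ E.ι _) = 0
  simp

/-- the augmented complex `X → Y⁰ → Y¹ → …` -/
noncomputable def cxK (X : A) : CochainComplex A ℕ :=
  CochainComplex.of (fun n => (stage E X n).P) (fun n => (stage E X n).d) (stage_sq E X)

/-- the complex `Y⁰ → Y¹ → …` -/
noncomputable def cxY (X : A) : CochainComplex A ℕ :=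
  CochainComplex.of (fun n => (stage E X (n + 1)).P) (fun n => (stage E X (n + 1)).d)
    (fun n => stage_sq E X (n + 1))

lemma cxK_d (X : A) (n : ℕ) : (cxK E X).d n (n + 1) = (stage E X n).d := by
  dsimp [cxK]
  exact CochainComplex.of_d _ _ n

lemma cxY_d (X : A) (n : ℕ) : (cxY E X).d n (n + 1) = (stage E X (n + 1)).d := by
  dsimp [cxY]
  exact CochainComplex.of_d _ _ n

lemma next_sq (s : Stage A) : s.d ≫ (next E s).d = 0 := by
  show s.d ≫ (cokernel.π s.d ≫ _) = 0
  rw [cokernel.condition_assoc, zero_comp]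

lemma exact_stage (s : Stage A) :
    (ShortComplex.mk s.d (next E s).d (next_sq E s)).Exact := by
  let α : ShortComplex.mk s.d (cokernel.π s.d) (by simp) ⟶
      ShortComplex.mk s.d (next E s).d (next_sq E s) :=
    { τ₁ := 𝟙 _, τ₂ := 𝟙 _, τ₃ := E.ι _
      comm₁₂ := by simp
      comm₂₃ := by simp [next] }
  have : Epi α.τ₁ := by dsimp [α]; infer_instance
  have : IsIso α.τ₂ := by dsimp [α]; infer_instance
  have : Mono α.τ₃ := by dsimp [α]; exact mono_ι E _
  rw [← ShortComplex.exact_iff_of_epi_of_isIso_of_mono α]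
  apply ShortComplex.exact_of_g_is_cokernel
  apply cokernelIsCokernel

lemma exact_stage' (X : A) (n : ℕ) :
    (ShortComplex.mk (stage E X n).d (stage E X (n + 1)).d (stage_sq E X n)).Exact :=
  exact_stage E (stage E X n)

end aux

section aux2

variable {A : Type u} [Category.{v} A] [Abelian A] (E : Env A)

omit [Abelian A] in
lemma id_comm {P Q : A} (d d' : P ⟶ Q) (h : d' = d) : 𝟙 P ≫ d = d' ≫ 𝟙 Q := by
  rw [h, Category.id_comp, Category.comp_id]

lemma cxK_exactAt_succ (X : A) (n : ℕ) : (cxK E X).ExactAt (n + 1) := by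
  rw [HomologicalComplex.exactAt_iff' _ n (n + 1) (n + 2) (by simp) (by simp)]
  refine ShortComplex.exact_of_iso ?_ (exact_stage' E X n)
  exact ShortComplex.isoMk (Iso.refl _) (Iso.refl _) (Iso.refl _)
    (id_comm _ _ (cxK_d E X n).symm) (id_comm _ _ (cxK_d E X (n + 1)).symm)

lemma cxK_exactAt_zero (X : A) : (cxK E X).ExactAt 0 := by
  rw [HomologicalComplex.exactAt_iff' _ 0 0 1 (by simp) (by simp)]
  have h0 : ((cxK E X).sc' 0 0 1).f = 0 := (cxK E X).shape 0 0 (by simp)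
  rw [ShortComplex.exact_iff_mono _ h0]
  show Mono ((cxK E X).d 0 1)
  rw [cxK_d]
  exact mono_ι E X

lemma cxK_acyclic (X : A) : (cxK E X).Acyclic := by
  intro i
  cases i with
  | zero => exact cxK_exactAt_zero E X
  | succ n => exact cxK_exactAt_succ E X n

lemma cxY_exact₀ (X : A) :
    (ShortComplex.mk (E.ι X) ((cxY E X).d 0 1)
      (by rw [cxY_d]; exact stage_sq E X 0)).Exact := by
  refine ShortComplex.exact_of_iso ?_ (exact_stage' E X 0)
  exact ShortComplex.isoMk (Iso.refl _) (Iso.refl _) (Iso.refl _)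
    (id_comm _ _ rfl) (id_comm _ _ (cxY_d E X 0).symm)

lemma cxY_exact_succ (X : A) (n : ℕ) :
    (ShortComplex.mk _ _ ((cxY E X).d_comp_d n (n + 1) (n + 2))).Exact := by
  refine ShortComplex.exact_of_iso ?_ (exact_stage' E X (n + 1))
  exact ShortComplex.isoMk (Iso.refl _) (Iso.refl _) (Iso.refl _)
    (id_comm _ _ (cxY_d E X n).symm) (id_comm _ _ (cxY_d E X (n + 1)).symm)

/-- the retraction `Y → J` -/
lemma exists_r (X : A) (Jc : CochainComplex A ℕ) [∀ n, Injective (Jc.X n)]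
    (η : X ⟶ Jc.X 0) (hη : η ≫ Jc.d 0 1 = 0) :
    ∃ r : cxY E X ⟶ Jc, E.ι X ≫ r.f 0 = η := by
  haveI : Mono (E.ι X) := mono_ι E X
  let r0 : E.Y X ⟶ Jc.X 0 := Injective.factorThru η (E.ι X)
  have hr0 : E.ι X ≫ r0 = η := Injective.comp_factorThru _ _
  have h1 : E.ι X ≫ r0 ≫ Jc.d 0 1 = 0 := by
    rw [← Category.assoc, hr0]
    exact hη
  let r1 : (cxY E X).X 1 ⟶ Jc.X 1 :=
    (cxY_exact₀ E X).descToInjective (r0 ≫ Jc.d 0 1) h1
  have hr1 : (cxY E X).d 0 1 ≫ r1 = r0 ≫ Jc.d 0 1 :=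
    (cxY_exact₀ E X).comp_descToInjective _ _
  refine ⟨CochainComplex.mkHom _ _ r0 r1 hr1.symm (fun n p => ?_), ?_⟩
  · have hz : (cxY E X).d n (n + 1) ≫ p.2.1 ≫ Jc.d (n + 1) (n + 2) = 0 := by
      rw [← Category.assoc, ← p.2.2, Category.assoc, HomologicalComplex.d_comp_d, comp_zero]
    exact ⟨(cxY_exact_succ E X n).descToInjective _ hz,
      ((cxY_exact_succ E X n).comp_descToInjective _ hz).symm⟩
  · rw [CochainComplex.mkHom_f_0]
    exact hr0

/-- one step of the construction of the section `J → Y` -/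
lemma ext_step {P Q R : A} (a : P ⟶ Q) (b : Q ⟶ R) (w0 : a ≫ b = 0)
    (hab : (ShortComplex.mk a b w0).Exact) (s : Stage A) (g : P ⟶ s.P) (g' : Q ⟶ s.Q)
    (w : g ≫ s.d = a ≫ g') :
    ∃ g'' : R ⟶ (next E s).Q, g' ≫ (next E s).d = b ≫ g'' := by
  haveI := E.inj (cokernel s.d)
  have hz : a ≫ g' ≫ cokernel.π s.d ≫ E.j (cokernel s.d) = 0 := by
    rw [← Category.assoc, ← w, Category.assoc, cokernel.condition_assoc, zero_comp, comp_zero]
  refine ⟨hab.descToInjective (g' ≫ cokernel.π s.d ≫ E.j (cokernel s.d)) hz ≫ E.k _, ?_⟩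
  have := hab.comp_descToInjective (g' ≫ cokernel.π s.d ≫ E.j (cokernel s.d)) hz
  dsimp at this
  rw [← Category.assoc, this]
  simp [next, Env.ι]

/-- the section `J → Y` -/
lemma exists_s (X : A) (Jc : CochainComplex A ℕ) (η : X ⟶ Jc.X 0) [Mono η]
    (hη : η ≫ Jc.d 0 1 = 0) (ex0 : (ShortComplex.mk η (Jc.d 0 1) hη).Exact)
    (exs : ∀ n, (ShortComplex.mk _ _ (Jc.d_comp_d n (n + 1) (n + 2))).Exact) :
    ∃ s : Jc ⟶ cxY E X, η ≫ s.f 0 = E.ι X := by
  haveI := E.inj X
  let s0 : Jc.X 0 ⟶ (cxY E X).X 0 := Injective.factorThru (E.j X) η ≫ E.k X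
  have hs0 : η ≫ s0 = E.ι X := by
    dsimp [s0]
    rw [← Category.assoc, Injective.comp_factorThru]
    rfl
  have st1 := ext_step E η (Jc.d 0 1) hη ex0
    (stage E X 0) (𝟙 X) s0 ((Category.id_comp (E.ι X)).trans hs0.symm)
  let s1 : Jc.X 1 ⟶ (cxY E X).X 1 := st1.choose
  have hs1 : s0 ≫ (cxY E X).d 0 1 = Jc.d 0 1 ≫ s1 :=
    (congrArg (fun t => s0 ≫ t) (cxY_d E X 0)).trans st1.choose_spec
  have stn : ∀ (n : ℕ) (p : Σ' (f : Jc.X n ⟶ (cxY E X).X n)
      (f' : Jc.X (n + 1) ⟶ (cxY E X).X (n + 1)),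
      f ≫ (cxY E X).d n (n + 1) = Jc.d n (n + 1) ≫ f'),
      ∃ f'' : Jc.X (n + 2) ⟶ (cxY E X).X (n + 2),
        p.2.1 ≫ (cxY E X).d (n + 1) (n + 2) = Jc.d (n + 1) (n + 2) ≫ f'' := by
    intro n p
    have w : p.1 ≫ (stage E X (n + 1)).d = Jc.d n (n + 1) ≫ p.2.1 := by
      rw [← cxY_d E X n]
      exact p.2.2
    obtain ⟨f'', hf''⟩ := ext_step E (Jc.d n (n + 1)) (Jc.d (n + 1) (n + 2))
      (Jc.d_comp_d _ _ _) (exs n) (stage E X (n + 1)) p.1 p.2.1 w
    exact ⟨f'', (congrArg (fun t => p.2.1 ≫ t) (cxY_d E X (n + 1))).trans hf''⟩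
  refine ⟨CochainComplex.mkHom _ _ s0 s1 hs1
    (fun n p => ⟨(stn n p).choose, (stn n p).choose_spec⟩), ?_⟩
  rw [CochainComplex.mkHom_f_0]
  exact hs0

end aux2

section aux3

variable {A : Type u} [Category.{v} A] [Abelian A] (E : Env A)
variable {B : Type u'} [Category.{v'} B] [Abelian B] (f : A ⥤ B) [f.Additive]

lemma stage_Q_eq (X : A) (n : ℕ) : ∃ Z, (stage E X n).Q = E.Y Z := by
  cases n with
  | zero => exact ⟨_, rfl⟩
  | succ m => exact ⟨_, rfl⟩

lemma cxK_X_succ (X : A) (n : ℕ) : ∃ Z, (cxK E X).X (n + 1) = E.Y Z :=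
  stage_Q_eq E X n

lemma cxK_d_eq_cxY_d (X : A) (m : ℕ) :
    (cxK E X).d (m + 1) (m + 2) = (cxY E X).d m (m + 1) :=
  (cxK_d E X (m + 1)).trans (cxY_d E X m).symm

lemma map_cxY_exactAt (X : A) (m : ℕ)
    (h : ((f.mapHomologicalComplex (ComplexShape.up ℕ)).obj (cxK E X)).ExactAt (m + 2)) :
    ((f.mapHomologicalComplex (ComplexShape.up ℕ)).obj (cxY E X)).ExactAt (m + 1) := by
  rw [HomologicalComplex.exactAt_iff' _ (m + 1) (m + 2) (m + 3) (by simp) (by simp)] at h
  rw [HomologicalComplex.exactAt_iff' _ m (m + 1) (m + 2) (by simp) (by simp)]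
  refine ShortComplex.exact_of_iso ?_ h
  exact ShortComplex.isoMk (Iso.refl _) (Iso.refl _) (Iso.refl _)
    (id_comm _ _ (congrArg f.map (cxK_d_eq_cxY_d E X m)))
    (id_comm _ _ (congrArg f.map (cxK_d_eq_cxY_d E X (m + 1))))

end aux3





/-- Acyclicity assertion; A with enough injectives so that R^n f is the usual right derived functor: let
f : A → B be an additive functor between abelian categories and 𝒪 a class of objects of A, stable
under binary direct sums, such that (1) f carries every acyclic bounded-below cochain complex of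
objects of 𝒪 (indexed by ℕ, exact in every degree, in degree 0 meaning the first differential is a
monomorphism) to an acyclic complex, and (2) every object of A admits a monomorphism into a member
of 𝒪. Then every member of 𝒪 is right f-acyclic: R^n f(X) = 0 for all n > 0. -/
theorem result {A : Type u} [Category.{v} A] [Abelian A] [EnoughInjectives A]
    {B : Type u'} [Category.{v'} B] [Abelian B] (f : A ⥤ B) [f.Additive] (𝒪 : ObjectProperty A)
    (h0 : ∀ X Y : A, 𝒪 X → 𝒪 Y → 𝒪 (X ⊞ Y))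
    (h1 : ∀ K : CochainComplex A ℕ, (∀ i, 𝒪 (K.X i)) → K.Acyclic →
      ((f.mapHomologicalComplex (ComplexShape.up ℕ)).obj K).Acyclic)
    (h2 : ∀ X : A, ∃ (Y : A) (i : X ⟶ Y), 𝒪 Y ∧ Mono i)
    (X : A) (hX : 𝒪 X) (n : ℕ) (hn : 0 < n) :
    IsZero ((f.rightDerived n).obj X) := by
  classical
  choose Y0 i0 hY0 hi0 using h2
  let E : Env A :=
    { Y := fun Z => Y0 (Injective.under Z)
      I := fun Z => Injective.under Z
      j := fun Z => Injective.ι Z
      k := fun Z => i0 (Injective.under Z)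
      inj := fun Z => inferInstance
      mono_j := fun Z => inferInstance
      mono_k := fun Z => hi0 _ }
  have hK𝒪 : ∀ i, 𝒪 ((cxK E X).X i) := by
    intro i
    cases i with
    | zero => exact hX
    | succ m =>
      obtain ⟨Z, hZ⟩ := cxK_X_succ E X m
      rw [hZ]
      exact hY0 _
  have hfK := h1 (cxK E X) hK𝒪 (cxK_acyclic E X)
  let J := injectiveResolution X
  let η : X ⟶ J.cocomplex.X 0 := J.ι.f 0
  haveI : Mono η := (inferInstance : Mono (J.ι.f 0))
  have hη : η ≫ J.cocomplex.d 0 1 = 0 := J.ι_f_zero_comp_complex_d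
  obtain ⟨r, hr⟩ := exists_r E X J.cocomplex η hη
  obtain ⟨s, hs⟩ := exists_s E X J.cocomplex η hη J.exact₀ J.exact_succ
  have hsr : J.ι ≫ (s ≫ r) = (CochainComplex.single₀ A).map (𝟙 X) ≫ J.ι := by
    ext
    have e1 : η ≫ s.f 0 ≫ r.f 0 = η :=
      (Category.assoc _ _ _).symm.trans ((congrArg (fun t => t ≫ r.f 0) hs).trans hr)
    simp only [HomologicalComplex.comp_f, CategoryTheory.Functor.map_id, Category.id_comp]
    exact e1
  have H : Homotopy (s ≫ r) (𝟙 _) :=
    InjectiveResolution.descHomotopy (𝟙 X) _ _ hsr (by simp)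
  obtain ⟨m, rfl⟩ : ∃ m, n = m + 1 := ⟨n - 1, by omega⟩
  have hz : IsZero (((f.mapHomologicalComplex (ComplexShape.up ℕ)).obj (cxY E X)).homology
      (m + 1)) := by
    rw [← HomologicalComplex.exactAt_iff_isZero_homology]
    exact map_cxY_exactAt E f X m (hfK (m + 2))
  refine IsZero.of_iso ?_ (J.isoRightDerivedObj f (m + 1))
  rw [IsZero.iff_id_eq_zero]
  have hH := (f.mapHomotopy H).homologyMap_eq (m + 1)
  rw [Functor.map_comp, HomologicalComplex.homologyMap_comp, CategoryTheory.Functor.map_id,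
    HomologicalComplex.homologyMap_id] at hH
  show 𝟙 (((f.mapHomologicalComplex (ComplexShape.up ℕ)).obj J.cocomplex).homology (m + 1)) = 0
  rw [← hH, hz.eq_of_tgt (HomologicalComplex.homologyMap
    ((f.mapHomologicalComplex (ComplexShape.up ℕ)).map s) (m + 1)) 0, zero_comp]

end Groth.Agent.S8626
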