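import Groth.Statements.S8630
import Mathlib

set_option autoImplicit false
open Zeta

namespace Groth.Agent.S8630

open Polynomial

theorem clear_den (p : ℚ[X]) : ∃ (b : ℤ) (p₀ : ℤ[X]), b ≠ 0 ∧
    p₀.map (Int.castRingHom ℚ) = C (b : ℚ) * p := by
  obtain ⟨b, hb, h⟩ := IsLocalization.integerNormalization_spec (nonZeroDivisors ℤ) p
  refine ⟨b, IsLocalization.integerNormalization (nonZeroDivisors ℤ) p, nonZeroDivisors.ne_zero hb, ?_⟩
  have h2 : (algebraMap ℤ ℚ) = Int.castRingHom ℚ := rfl
  rw [h2] at h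
  rw [h]
  ext n
  simp [zsmul_eq_mul]

/-- the key divisibility claim -/
theorem key (B : ℤ[X]) (hB : B.IsPrimitive) (c : ℤ) :
    ∀ W : PowerSeries ℤ, (B : PowerSeries ℤ) * W = PowerSeries.C c → PowerSeries.C c ∣ W := by
  have hB0 : (B : PowerSeries ℤ) ≠ 0 := by
    rw [Ne, Polynomial.coe_eq_zero_iff]
    exact hB.ne_zero
  induction c using UniqueFactorizationMonoid.induction_on_prime with
  | h₁ =>
    intro W hW
    rw [map_zero] at hW
    rcases mul_eq_zero.mp hW with h | h
    · exact absurd h hB0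
    · rw [h]; exact dvd_zero _
  | h₂ x hx =>
    intro W _
    exact (IsUnit.map PowerSeries.C hx).dvd
  | h₃ a p ha hp ih =>
    intro W hW
    -- reduce mod p
    obtain ⟨q, hq, hpq⟩ : ∃ q : ℕ, q.Prime ∧ (p = q ∨ p = -q) := by
      refine ⟨p.natAbs, Int.prime_iff_natAbs_prime.mp hp, ?_⟩
      rcases Int.natAbs_eq p with h | h
      · exact Or.inl h
      · exact Or.inr h
    haveI : Fact q.Prime := ⟨hq⟩
    have hdvd_q : ∀ z : ℤ, (Int.castRingHom (ZMod q)) z = 0 → p ∣ z := by
      intro z hz
      have : (q : ℤ) ∣ z := (ZMod.intCast_zmod_eq_zero_iff_dvd z q).mp (by simpa using hz)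
      rcases hpq with h | h
      · rw [h]; exact this
      · rw [h]; exact (neg_dvd).mpr this
    have hmap : PowerSeries.map (Int.castRingHom (ZMod q)) ((B : PowerSeries ℤ) * W) = 0 := by
      rw [hW, PowerSeries.map_C]
      have : (Int.castRingHom (ZMod q)) (p * a) = 0 := by
        rw [map_mul]
        have : (Int.castRingHom (ZMod q)) p = 0 := by
          rcases hpq with h | h
          · rw [h]; simp
          · rw [h]; simp
        rw [this, zero_mul]
      rw [this, map_zero]
    rw [map_mul] at hmap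
    rcases mul_eq_zero.mp hmap with h | h
    · -- p divides B: contradiction with primitivity
      exfalso
      have hC : C p ∣ B := by
        rw [Polynomial.C_dvd_iff_dvd_coeff]
        intro i
        apply hdvd_q
        have := congrArg (PowerSeries.coeff i) h
        simpa [PowerSeries.coeff_map, Polynomial.coeff_coe] using this
      exact hp.not_isUnit (hB p hC)
    · -- p divides W
      have hWp : ∀ i, p ∣ PowerSeries.coeff i W := by
        intro i
        apply hdvd_q
        have := congrArg (PowerSeries.coeff i) h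
        simpa [PowerSeries.coeff_map] using this
      choose w hw using hWp
      set W₁ : PowerSeries ℤ := PowerSeries.mk w with hW₁
      have hWW₁ : W = PowerSeries.C p * W₁ := by
        ext i
        rw [PowerSeries.coeff_C_mul, hW₁, PowerSeries.coeff_mk, hw i]
      have h1 : (B : PowerSeries ℤ) * W₁ = PowerSeries.C a := by
        have hCp : (PowerSeries.C p : PowerSeries ℤ) ≠ 0 := by
          intro h0
          have := congrArg (PowerSeries.coeff 0) h0
          simp at this
          exact hp.ne_zero this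
        apply mul_left_cancel₀ hCp
        rw [← map_mul, ← hW, hWW₁]
        ring
      obtain ⟨W₂, hW₂⟩ := ih W₁ h1
      exact ⟨W₂, by rw [hWW₁, hW₂, map_mul]; ring⟩


/-- Fatou's lemma: let P, Q ∈ ℚ[T] be coprime with constant coefficient 1, and suppose the power series
P/Q has integer coefficients, i.e. P = Q·Z in ℚ⟦T⟧ for a power series Z with coefficients in ℤ. Then
P and Q have integer coefficients. -/
theorem result (P Q : Polynomial ℚ)
    (hPQ : IsCoprime P Q) (hP : P.coeff 0 = 1) (hQ : Q.coeff 0 = 1) (Z : PowerSeries ℤ)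
    (hZ : (P : PowerSeries ℚ) = (Q : PowerSeries ℚ) * PowerSeries.map (Int.castRingHom ℚ) Z) :
    (∃ P₀ : Polynomial ℤ, P₀.map (Int.castRingHom ℚ) = P) ∧
      ∃ Q₀ : Polynomial ℤ, Q₀.map (Int.castRingHom ℚ) = Q := by
  have hinj : Function.Injective (PowerSeries.map (Int.castRingHom ℚ)) :=
    PowerSeries.map_injective _ (RingHom.injective_int (Int.castRingHom ℚ))
  obtain ⟨U, V, hUV⟩ := hPQ
  obtain ⟨bU, U₀, hbU, hU₀⟩ := clear_den U
  obtain ⟨bV, V₀, hbV, hV₀⟩ := clear_den V
  obtain ⟨bQ, Q₁, hbQ, hQ₁⟩ := clear_den Q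
  set B : ℤ[X] := Q₁.primPart with hBdef
  have hBprim : B.IsPrimitive := Q₁.isPrimitive_primPart
  have hQ₁B : Q₁ = C Q₁.content * B := Q₁.eq_C_content_mul_primPart
  set cont : ℤ := Q₁.content with hcont
  -- Q * (U Z + V) = 1 in ℚ⟦X⟧
  set Zq : PowerSeries ℚ := PowerSeries.map (Int.castRingHom ℚ) Z with hZq
  have hinv : (Q : PowerSeries ℚ) * ((U : PowerSeries ℚ) * Zq + (V : PowerSeries ℚ)) = 1 := by
    have h1 : ((U * P + V * Q : ℚ[X]) : PowerSeries ℚ) = 1 := by rw [hUV, Polynomial.coe_one]
    rw [Polynomial.coe_add, Polynomial.coe_mul, Polynomial.coe_mul, hZ] at h1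
    rw [← h1]; ring
  -- integral version
  set W : PowerSeries ℤ := ((C bV * U₀ : ℤ[X]) : PowerSeries ℤ) * Z + ((C bU * V₀ : ℤ[X]) : PowerSeries ℤ)
    with hW
  have hmapW : PowerSeries.map (Int.castRingHom ℚ) W
      = PowerSeries.C ((bU * bV : ℤ) : ℚ) * ((U : PowerSeries ℚ) * Zq + (V : PowerSeries ℚ)) := by
    rw [hW, map_add, map_mul, ← Polynomial.polynomial_map_coe, ← Polynomial.polynomial_map_coe,
      Polynomial.map_mul, Polynomial.map_mul, hU₀, hV₀, Polynomial.map_C, Polynomial.map_C]
    simp only [Polynomial.coe_mul, Polynomial.coe_C, eq_intCast]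
    push_cast
    rw [map_mul]
    ring
  have hmapB : PowerSeries.C (cont : ℚ) * PowerSeries.map (Int.castRingHom ℚ) (B : PowerSeries ℤ)
      = PowerSeries.C (bQ : ℚ) * (Q : PowerSeries ℚ) := by
    have := congrArg (fun p : ℚ[X] => (p : PowerSeries ℚ)) hQ₁
    rw [hQ₁B, Polynomial.map_mul, Polynomial.map_C, Polynomial.coe_mul, Polynomial.coe_mul,
      Polynomial.coe_C, Polynomial.coe_C, Polynomial.polynomial_map_coe] at this
    simpa using this
  have hprod : PowerSeries.map (Int.castRingHom ℚ) (PowerSeries.C cont * ((B : PowerSeries ℤ) * W))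
      = PowerSeries.map (Int.castRingHom ℚ) (PowerSeries.C (bQ * (bU * bV))) := by
    rw [map_mul, map_mul, hmapW, PowerSeries.map_C, PowerSeries.map_C]
    have : PowerSeries.C ((Int.castRingHom ℚ) cont) * (PowerSeries.map (Int.castRingHom ℚ) (B : PowerSeries ℤ) *
        (PowerSeries.C ((bU * bV : ℤ) : ℚ) * ((U : PowerSeries ℚ) * Zq + (V : PowerSeries ℚ))))
        = (PowerSeries.C (cont : ℚ) * PowerSeries.map (Int.castRingHom ℚ) (B : PowerSeries ℤ)) *
          (PowerSeries.C ((bU * bV : ℤ) : ℚ) * ((U : PowerSeries ℚ) * Zq + (V : PowerSeries ℚ))) := by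
      simp only [eq_intCast]; ring
    rw [this, hmapB]
    have : PowerSeries.C (bQ : ℚ) * (Q : PowerSeries ℚ) *
        (PowerSeries.C ((bU * bV : ℤ) : ℚ) * ((U : PowerSeries ℚ) * Zq + (V : PowerSeries ℚ)))
        = PowerSeries.C (bQ : ℚ) * PowerSeries.C ((bU * bV : ℤ) : ℚ) *
          ((Q : PowerSeries ℚ) * ((U : PowerSeries ℚ) * Zq + (V : PowerSeries ℚ))) := by ring
    rw [this, hinv, mul_one, ← map_mul]
    congr 1
    rw [eq_intCast, Int.cast_mul]
    push_cast
    ring
  have hprodZ : PowerSeries.C cont * ((B : PowerSeries ℤ) * W) = PowerSeries.C (bQ * (bU * bV)) :=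
    hinj hprod
  have hcont0 : cont ≠ 0 := by
    intro h0
    rw [h0, map_zero, zero_mul] at hprodZ
    have := congrArg (PowerSeries.coeff 0) hprodZ
    simp at this
    rcases this with h | h | h
    · exact hbQ h
    · exact hbU h
    · exact hbV h
  -- B * W is a constant
  set c : ℤ := PowerSeries.coeff 0 ((B : PowerSeries ℤ) * W) with hc
  have hBWc : (B : PowerSeries ℤ) * W = PowerSeries.C c := by
    ext n
    rcases Nat.eq_zero_or_pos n with rfl | hn
    · simp [hc]
    · have := congrArg (PowerSeries.coeff n) hprodZ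
      rw [PowerSeries.coeff_C_mul, PowerSeries.coeff_C, if_neg (by omega)] at this
      rw [PowerSeries.coeff_C, if_neg (by omega)]
      rcases mul_eq_zero.mp this with h | h
      · exact absurd h hcont0
      · exact h
  have hc0 : c ≠ 0 := by
    intro h0
    rw [hBWc, h0, map_zero, mul_zero] at hprodZ
    have := congrArg (PowerSeries.coeff 0) hprodZ
    simp at this
    rcases this with h | h | h
    · exact hbQ h
    · exact hbU h
    · exact hbV h
  obtain ⟨W₂, hW₂⟩ := key B hBprim c W hBWc
  have hBW₂ : (B : PowerSeries ℤ) * W₂ = 1 := by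
    have hCc : (PowerSeries.C c : PowerSeries ℤ) ≠ 0 := by
      intro h0
      have := congrArg (PowerSeries.coeff 0) h0
      simp at this
      exact hc0 this
    apply mul_left_cancel₀ hCc
    calc PowerSeries.C c * ((B : PowerSeries ℤ) * W₂) = (B : PowerSeries ℤ) * (PowerSeries.C c * W₂) := by ring
      _ = (B : PowerSeries ℤ) * W := by rw [← hW₂]
      _ = PowerSeries.C c := hBWc
      _ = PowerSeries.C c * 1 := (mul_one _).symm
  have hB0unit : B.coeff 0 * PowerSeries.coeff 0 W₂ = 1 := by
    have := congrArg PowerSeries.constantCoeff hBW₂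
    rw [map_mul, map_one, Polynomial.constantCoeff_coe] at this
    simpa using this
  -- relation bQ = cont * B(0)
  have hrel : (cont : ℚ) * (B.coeff 0 : ℚ) = (bQ : ℚ) := by
    have := congrArg (PowerSeries.coeff 0) hmapB
    simp only [PowerSeries.coeff_C_mul, PowerSeries.coeff_map, Polynomial.coeff_coe, hQ, mul_one,
      eq_intCast] at this
    exact this
  have hB0 : B.coeff 0 = 1 ∨ B.coeff 0 = -1 := Int.eq_one_or_neg_one_of_mul_eq_one hB0unit
  have hQB : (C (B.coeff 0) * B).map (Int.castRingHom ℚ) = Q := by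
    apply Polynomial.coe_injective (R := ℚ)
    have hcq : (cont : ℚ) ≠ 0 := by exact_mod_cast hcont0
    have h1 : (PowerSeries.C (cont : ℚ)) * ((C (B.coeff 0) * B).map (Int.castRingHom ℚ) : ℚ[X])
        = PowerSeries.C (cont : ℚ) * (Q : PowerSeries ℚ) := by
      rw [Polynomial.map_mul, Polynomial.map_C, Polynomial.coe_mul, Polynomial.coe_C,
        Polynomial.polynomial_map_coe]
      have : PowerSeries.C (cont : ℚ) * (PowerSeries.C ((Int.castRingHom ℚ) (B.coeff 0)) *
          PowerSeries.map (Int.castRingHom ℚ) (B : PowerSeries ℤ))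
          = PowerSeries.C ((Int.castRingHom ℚ) (B.coeff 0)) *
            (PowerSeries.C (cont : ℚ) * PowerSeries.map (Int.castRingHom ℚ) (B : PowerSeries ℤ)) := by ring
      rw [this, hmapB, ← mul_assoc, ← map_mul]
      congr 2
      have hsq : ((B.coeff 0 : ℤ) : ℚ) * (B.coeff 0 : ℚ) = 1 := by
        rcases hB0 with h | h <;> rw [h] <;> simp
      rw [← hrel, eq_intCast]
      calc ((B.coeff 0 : ℤ) : ℚ) * ((cont : ℚ) * (B.coeff 0 : ℚ))
          = (cont : ℚ) * (((B.coeff 0 : ℤ) : ℚ) * (B.coeff 0 : ℚ)) := by ring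
        _ = (cont : ℚ) := by rw [hsq, mul_one]
    have hCc : (PowerSeries.C (cont : ℚ) : PowerSeries ℚ) ≠ 0 := by
      intro h0
      have := congrArg (PowerSeries.coeff 0) h0
      simp at this
      exact hcont0 this
    exact mul_left_cancel₀ hCc h1
  refine ⟨?_, ⟨C (B.coeff 0) * B, hQB⟩⟩
  -- P has integer coefficients
  have hPmem : P ∈ Polynomial.lifts (Int.castRingHom ℚ) := by
    rw [Polynomial.lifts_iff_coeff_lifts]
    intro n
    have h1 : (P : PowerSeries ℚ) = PowerSeries.map (Int.castRingHom ℚ)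
        (((C (B.coeff 0) * B : ℤ[X]) : PowerSeries ℤ) * Z) := by
      rw [hZ, map_mul, ← Polynomial.polynomial_map_coe, hQB]
    have h2 := congrArg (PowerSeries.coeff n) h1
    rw [Polynomial.coeff_coe, PowerSeries.coeff_map] at h2
    exact ⟨_, h2.symm⟩
  exact (Polynomial.mem_lifts P).mp hPmem

end Groth.Agent.S8630
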