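import Groth.Statements.S8637
import Mathlib
-- import your own Groth.Agent.* helpers here

set_option autoImplicit false
open Zeta

namespace Groth.Agent.S8637

theorem coeff_prod_nonneg {ι : Type} (t : Finset ι) (f : ι → PowerSeries ℝ)
    (hpos : ∀ i ∈ t, ∀ n : ℕ, 0 ≤ PowerSeries.coeff n (f i)) :
    ∀ n : ℕ, 0 ≤ PowerSeries.coeff n (∏ j ∈ t, f j) := by
  classical
  induction t using Finset.induction_on with
  | empty =>
    intro n
    rw [Finset.prod_empty, PowerSeries.coeff_one]
    split_ifs <;> norm_num
  | insert a t ha ih =>
    intro n
    rw [Finset.prod_insert ha, PowerSeries.coeff_mul]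
    apply Finset.sum_nonneg
    intro p _
    apply mul_nonneg
    · exact hpos a (Finset.mem_insert_self a t) _
    · exact ih (fun i hi => hpos i (Finset.mem_insert_of_mem hi)) _

/-- First assertion, for a finite family: let (f_i) be finitely many formal power series with real
coefficients, each with constant term 1 and all coefficients ≥ 0, and let f be their product. Then
for every i and every n the n-th coefficient of f_i is at most the n-th coefficient of f (so the
radius of absolute convergence of f_i is at least that of f). (Stated for a finite family; for an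
infinite product whose factors f_i - 1 have orders tending to infinity each coefficient is that of a
finite sub-product, so the same inequality holds.) -/
theorem result {ι : Type} (s : Finset ι) (f : ι → PowerSeries ℝ)
    (h0 : ∀ i ∈ s, PowerSeries.constantCoeff (f i) = 1)
    (hpos : ∀ i ∈ s, ∀ n : ℕ, 0 ≤ PowerSeries.coeff n (f i)) (i : ι) (hi : i ∈ s) (n : ℕ) :
    PowerSeries.coeff n (f i) ≤ PowerSeries.coeff n (∏ j ∈ s, f j) := by
  classical
  rw [← Finset.mul_prod_erase s f hi, PowerSeries.coeff_mul]
  set g := ∏ j ∈ s.erase i, f j with hg
  have hgpos : ∀ n, 0 ≤ PowerSeries.coeff n g :=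
    coeff_prod_nonneg (s.erase i) f (fun j hj => hpos j (Finset.mem_of_mem_erase hj))
  have hg0 : PowerSeries.coeff 0 g = 1 := by
    rw [PowerSeries.coeff_zero_eq_constantCoeff_apply, hg, map_prod]
    exact Finset.prod_eq_one (fun j hj => h0 j (Finset.mem_of_mem_erase hj))
  have hmem : (n, 0) ∈ Finset.HasAntidiagonal.antidiagonal n := by simp
  have := Finset.single_le_sum (f := fun p : ℕ × ℕ => PowerSeries.coeff p.1 (f i) * PowerSeries.coeff p.2 g)
    (fun p _ => mul_nonneg (hpos i hi p.1) (hgpos p.2)) hmem
  simpa [hg0] using this

end Groth.Agent.S8637
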