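import Groth.Statements.S8660
import Groth.Agent.S9758
import Groth.Agent.Lib.Helper13SyntF
-- import your own Groth.Agent.* helpers here

set_option autoImplicit false
universe u
open CategoryTheory CategoryTheory.Limits AlgebraicGeometry
open Synt

namespace Groth.Agent.S8660

open AlgebraicGeometry CategoryTheory Limits Groth.Agent.Helper13SmKR
open Groth.Agent.Lib.Helper5.LciLocal Groth.Agent.Lib.Helper5.LciComp


/-- Let f : X ⟶ Y be flat and locally of finite presentation. Then f is a local complete intersection
morphism in the factorisation sense (around each point of X, f is locally of finite type and factors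
as a Koszul-regular immersion followed by a smooth morphism) if and only if f is a
complete-intersection morphism in the fibrewise sense: flat, locally of finite presentation, and
every local ring of every fibre is a complete intersection (its completion is a regular local ring
modulo a regular sequence). -/
theorem result {X Y : Scheme.{u}} (f : X ⟶ Y) [Flat f] [LocallyOfFinitePresentation f] :
    (∀ x : X, Synt.IsKoszulAt f x) ↔ CInt.IsCIMorphism f := by
  constructor
  · intro hK
    refine ⟨inferInstance, inferInstance, fun x => ?_⟩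
    have hsyn := (Groth.Agent.S9758.result f).mp ⟨inferInstance, hK⟩
    obtain ⟨U, V, e, hx, hs⟩ := hsyn x
    have hflat : (f.appLE V.1 U.1 e).hom.Flat :=
      HasRingHomProperty.appLE (P := @Flat) f inferInstance V U e
    have hfp : (f.appLE V.1 U.1 e).hom.FinitePresentation :=
      HasRingHomProperty.appLE (P := @LocallyOfFinitePresentation) f inferInstance V U e
    rw [Groth.Agent.Lib.Helper7.CIRel.ci_fiberStalk_iff_fibLocRing f U.2 V.2 e x hx]
    letI := (f.appLE V.1 U.1 e).hom.toAlgebra
    haveI : Module.Flat Γ(Y, V.1) Γ(X, U.1) := hflat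
    haveI : Algebra.FinitePresentation Γ(Y, V.1) Γ(X, U.1) := hfp
    refine (Groth.Agent.Helper13Synt.ci_fibLocRing_iff_exists_isSyntomic _ _ _).mpr
      ⟨1, fun h1 => (U.2.primeIdealOf ⟨x, hx⟩).isPrime.ne_top ((Ideal.eq_top_iff_one _).mpr h1), ?_⟩
    let ε : Γ(X, U.1) ≃ₐ[Γ(X, U.1)] Localization.Away (1 : Γ(X, U.1)) :=
      IsLocalization.atUnits _ (Submonoid.powers 1) (by
        rintro _ ⟨k, rfl⟩
        show IsUnit ((1 : Γ(X, U.1)) ^ k)
        exact isUnit_one.pow k)
    exact Groth.Agent.Lib.Helper7.Synt.isSyntomic_of_algEquiv (ε.restrictScalars Γ(Y, V.1)) hs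
  · rintro ⟨-, -, hci⟩
    have hL : LciMor f := by
      rw [HasRingHomProperty.iff_exists_appLE (P := LciMor)
        Groth.Agent.Lib.Helper5.LciImm.stableUnderCompositionWithLocalizationAwaySource]
      intro x
      obtain ⟨_, ⟨V, hV, rfl⟩, hfxV, -⟩ := Y.isBasis_affineOpens.exists_subset_of_mem_open
        (Set.mem_univ (f x)) isOpen_univ
      obtain ⟨_, ⟨U, hU, rfl⟩, hxU, hUle⟩ := X.isBasis_affineOpens.exists_subset_of_mem_open
        (show x ∈ ((f ⁻¹ᵁ V : X.Opens) : Set X) from hfxV) (f ⁻¹ᵁ V).2
      replace hU : IsAffineOpen U := hU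
      replace hV : IsAffineOpen V := hV
      have hflat : (f.appLE V U hUle).hom.Flat :=
        HasRingHomProperty.appLE (P := @Flat) f inferInstance ⟨V, hV⟩ ⟨U, hU⟩ hUle
      have hfp : (f.appLE V U hUle).hom.FinitePresentation :=
        HasRingHomProperty.appLE (P := @LocallyOfFinitePresentation) f inferInstance
          ⟨V, hV⟩ ⟨U, hU⟩ hUle
      have h1 := (Groth.Agent.Lib.Helper7.CIRel.ci_fiberStalk_iff_fibLocRing f hU hV hUle x hxU).mp
        (hci x)
      letI := (f.appLE V U hUle).hom.toAlgebra
      haveI : Module.Flat Γ(Y, V) Γ(X, U) := hflat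
      haveI : Algebra.FinitePresentation Γ(Y, V) Γ(X, U) := hfp
      obtain ⟨g, hg, hsyn⟩ :=
        (Groth.Agent.Helper13Synt.ci_fibLocRing_iff_exists_isSyntomic _ _ _).mp h1
      have hlci : LCI.IsLCI Γ(Y, V) (Localization.Away g) :=
        Groth.Agent.Helper13Synt.isLCI_of_isSyntomic _ _ hsyn
      have hD : IsAffineOpen (X.basicOpen g) := hU.basicOpen g
      have hDU : X.basicOpen g ≤ U := X.basicOpen_le g
      have hxD : x ∈ X.basicOpen g := by
        have h1 : hU.primeIdealOf ⟨x, hxU⟩ ∈ hU.fromSpec ⁻¹ᵁ X.basicOpen g := by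
          rw [hU.fromSpec_preimage_basicOpen]
          exact hg
        have : hU.fromSpec (hU.primeIdealOf ⟨x, hxU⟩) ∈ X.basicOpen g := h1
        rwa [hU.fromSpec_primeIdealOf] at this
      refine ⟨⟨V, hV⟩, ⟨X.basicOpen g, hD⟩, hxD, hDU.trans hUle, ?_⟩
      haveI := hU.isLocalization_basicOpen g
      let ε : Localization.Away g ≃ₐ[Γ(X, U)] Γ(X, X.basicOpen g) :=
        IsLocalization.algEquiv (Submonoid.powers g) _ _
      have h2 : IsLCIHom (algebraMap Γ(Y, V) (Localization.Away g)) :=
        Groth.Agent.Lib.Helper5.LciDesc.isLCIHom_algebraMap_iff.mpr hlci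
      have h3 := isLCIHom_comp_ringEquiv _ ε.toRingEquiv h2
      have heq : (ε.toRingEquiv : Localization.Away g →+* Γ(X, X.basicOpen g)).comp
          (algebraMap Γ(Y, V) (Localization.Away g)) =
          (f.appLE V (X.basicOpen g) (hDU.trans hUle)).hom := by
        rw [← f.appLE_map hUle (homOfLE hDU).op, CommRingCat.hom_comp,
          IsScalarTower.algebraMap_eq Γ(Y, V) Γ(X, U) (Localization.Away g), ← RingHom.comp_assoc]
        congr 1
        ext a
        exact ε.commutes a
      rw [heq] at h3
      exact h3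
    exact fun x => isKoszulAt_of_lciMor f hL x

end Groth.Agent.S8660
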