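import Groth.Statements.S8663
import Groth.Agent.Lib.Helper13LciSmD
import Groth.Agent.Lib.Helper5LciPerf
-- import your own Groth.Agent.* helpers here

set_option autoImplicit false
universe u
open CategoryTheory CategoryTheory.Limits AlgebraicGeometry
open Synt

namespace Groth.Agent.S8663

/-- Let f : X ⟶ Y be a local complete intersection morphism in the factorisation sense (around each
point of X, f is locally of finite type and factors as a Koszul-regular immersion followed by a
smooth morphism). Then f is a perfect morphism: for all affine opens U ⊆ f⁻¹(V), the ring map O_Y(V)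
→ O_X(U) is pseudo-coherent and of finite tor-dimension. -/
theorem result {X Y : Scheme.{u}} (f : X ⟶ Y) (hf : ∀ x : X, Synt.IsKoszulAt f x) :
    MoreMor.IsPerfectMor f := by
  have h1 := Groth.Agent.Helper13SmKR.lciMor_of_isKoszulAt f hf
  intro U V hU hV hUV
  have h2 := (Groth.Agent.Lib.Helper5.LciLocal.lciMor_iff f).1 h1 U V hU hV hUV
  letI := (f.appLE V U hUV).hom.toAlgebra
  exact Groth.Agent.Lib.Helper5.LciPerf.isPerfectHom_of_isLCI _ _ h2

end Groth.Agent.S8663
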