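import Groth.Statements.S8666
import Mathlib
-- import your own Groth.Agent.* helpers here

set_option autoImplicit false
universe u
open CAlg

namespace Groth.Agent.S8666

section avoid
variable {A : Type u} [CommRing A] {M : Type u} [AddCommGroup M] [Module A M]

/-- abstract avoidance lemma for submodules attached to finitely many primes -/
theorem avoid (N : PrimeSpectrum A → Submodule A M)
    (hN : ∀ p, N p ≠ ⊤)
    (hsm : ∀ p (a : A) (s : M), a ∈ p.asIdeal → a • s ∈ N p)
    (hns : ∀ p (a : A) (s : M), a ∉ p.asIdeal → s ∉ N p → a • s ∉ N p)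
    (T : Finset (PrimeSpectrum A)) : ∃ s : M, ∀ p ∈ T, s ∉ N p := by
  classical
  induction' hn : T.card with n ih generalizing T
  · rw [Finset.card_eq_zero] at hn
    subst hn
    exact ⟨0, by simp⟩
  · have hne : T.Nonempty := by
      rw [← Finset.card_pos]; omega
    obtain ⟨q, hqT, hqmin⟩ := T.exists_minimal hne
    obtain ⟨s, hs⟩ := ih (T.erase q) (by rw [Finset.card_erase_of_mem hqT]; omega)
    by_cases hsq : s ∈ N q
    · have hex : ∀ p ∈ T.erase q, ∃ a ∈ p.asIdeal, a ∉ q.asIdeal := by
        intro p hp
        have hpq : p ≠ q := Finset.ne_of_mem_erase hp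
        have hpT := Finset.mem_of_mem_erase hp
        by_contra hcon
        push Not at hcon
        have hle : p ≤ q := fun a ha => hcon a ha
        exact hpq (le_antisymm hle (hqmin hpT hle))
      choose! a ha ha' using hex
      obtain ⟨t, ht⟩ : ∃ t, t ∉ N q := by
        by_contra hcon
        push Not at hcon
        exact hN q (eq_top_iff.2 fun x _ => hcon x)
      have hbq : (∏ p ∈ T.erase q, a p) ∉ q.asIdeal := by
        haveI := q.isPrime
        rw [Ideal.IsPrime.prod_mem_iff]
        push Not
        exact fun p hp => ha' p hp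
      have hbp : ∀ p ∈ T.erase q, (∏ p ∈ T.erase q, a p) ∈ p.asIdeal := fun p hp =>
        Ideal.mem_of_dvd _ (Finset.dvd_prod_of_mem a hp) (ha p hp)
      refine ⟨s + (∏ p ∈ T.erase q, a p) • t, fun p hp => ?_⟩
      by_cases hpq : p = q
      · subst hpq
        intro h
        exact hns p _ t hbq ht ((Submodule.add_mem_iff_right _ hsq).1 h)
      · have hp' := Finset.mem_erase.2 ⟨hpq, hp⟩
        intro h
        exact hs p hp' ((Submodule.add_mem_iff_left _ (hsm p _ t (hbp p hp'))).1 h)
    · refine ⟨s, fun p hp => ?_⟩
      by_cases hpq : p = q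
      · subst hpq; exact hsq
      · exact hs p (Finset.mem_erase.2 ⟨hpq, hp⟩)

end avoid

section concrete
variable {A : Type u} [CommRing A] {M : Type u} [AddCommGroup M] [Module A M]
  [Module.Invertible A M]

/-- a trivialisation of the stalk -/
noncomputable def e (p : PrimeSpectrum A) :
    LocalizedModule p.asIdeal.primeCompl M ≃ₗ[Localization.AtPrime p.asIdeal]
      Localization.AtPrime p.asIdeal :=
  (Module.Invertible.free_iff_linearEquiv.1 inferInstance).some

/-- the composite `M → M_p ≃ A_p` -/
noncomputable def φ (p : PrimeSpectrum A) : M →ₗ[A] Localization.AtPrime p.asIdeal :=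
  ((e (M := M) p).toLinearMap.restrictScalars A) ∘ₗ
    LocalizedModule.mkLinearMap p.asIdeal.primeCompl M

/-- elements not generating the stalk -/
noncomputable def N (p : PrimeSpectrum A) : Submodule A M :=
  Submodule.comap (φ (M := M) p)
    ((IsLocalRing.maximalIdeal (Localization.AtPrime p.asIdeal)).restrictScalars A)

theorem mem_N (p : PrimeSpectrum A) (s : M) :
    s ∈ N (M := M) p ↔ φ p s ∈ IsLocalRing.maximalIdeal (Localization.AtPrime p.asIdeal) :=
  Iff.rfl

theorem φ_smul (p : PrimeSpectrum A) (a : A) (s : M) :
    φ p (a • s) = algebraMap A (Localization.AtPrime p.asIdeal) a * φ p s := by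
  rw [map_smul, Algebra.smul_def]

theorem notMem_N_iff (p : PrimeSpectrum A) (s : M) :
    s ∉ N (M := M) p ↔ Submodule.span (Localization.AtPrime p.asIdeal)
      {LocalizedModule.mkLinearMap p.asIdeal.primeCompl M s} = ⊤ := by
  rw [mem_N, IsLocalRing.notMem_maximalIdeal, ← Ideal.span_singleton_eq_top]
  have h1 : Ideal.span {φ p s} = Submodule.map (e (M := M) p).toLinearMap
      (Submodule.span (Localization.AtPrime p.asIdeal)
        {LocalizedModule.mkLinearMap p.asIdeal.primeCompl M s}) := by
    rw [Submodule.map_span, Set.image_singleton]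
    rfl
  rw [h1]
  constructor
  · intro h
    have := congr_arg (Submodule.comap (e (M := M) p).toLinearMap) h
    rwa [Submodule.comap_map_eq_of_injective (e p).injective, Submodule.comap_top] at this
  · intro h
    rw [h, Submodule.map_top, LinearMap.range_eq_top]
    exact (e p).surjective

theorem N_ne_top (p : PrimeSpectrum A) : N (M := M) p ≠ ⊤ := by
  intro h
  have hall : ∀ s : M, φ p s ∈ IsLocalRing.maximalIdeal (Localization.AtPrime p.asIdeal) :=
    fun s => (mem_N p s).1 (h ▸ Submodule.mem_top)
  have hle : (⊤ : Submodule (Localization.AtPrime p.asIdeal)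
      (LocalizedModule p.asIdeal.primeCompl M)) ≤
      Submodule.comap (e (M := M) p).toLinearMap
        (IsLocalRing.maximalIdeal (Localization.AtPrime p.asIdeal)) := by
    rw [← span_eq_top_of_isLocalizedModule (Localization.AtPrime p.asIdeal) p.asIdeal.primeCompl
      (LocalizedModule.mkLinearMap p.asIdeal.primeCompl M) (v := Set.univ) (by simp),
      Submodule.span_le]
    rintro _ ⟨s, -, rfl⟩
    exact hall s
  obtain ⟨x, hx⟩ := (e (M := M) p).surjective 1
  have := hle (Submodule.mem_top (x := x))
  rw [Submodule.mem_comap, LinearEquiv.coe_coe, hx] at this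
  exact (IsLocalRing.maximalIdeal.isMaximal _).ne_top ((Ideal.eq_top_iff_one _).2 this)

end concrete

/-- Let A be a Noetherian ring, M an invertible A-module and p_1, …, p_k finitely many primes of A
(points of Spec A). Then there is a single element s ∈ M whose image generates M_{p_i} as an
A_{p_i}-module for every i, i.e. s is a basis of the stalk of M at each of the given points. -/
theorem result (A : Type u) [CommRing A] [IsNoetherianRing A]
    (M : Type u) [AddCommGroup M] [Module A M] [Module.Invertible A M] (ι : Type) [Finite ι] (p : ι → PrimeSpectrum A) :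
    ∃ s : M, ∀ i : ι, Submodule.span (Localization.AtPrime (p i).asIdeal)
      {LocalizedModule.mkLinearMap (p i).asIdeal.primeCompl M s} = ⊤ := by
  classical
  haveI := Fintype.ofFinite ι
  obtain ⟨s, hs⟩ := avoid (fun q => N (M := M) q) (fun q => N_ne_top q)
    (fun q a s ha => by
      rw [mem_N, φ_smul]
      exact Ideal.mul_mem_right _ _
        ((IsLocalization.AtPrime.to_map_mem_maximal_iff _ q.asIdeal a).2 ha))
    (fun q a s ha hs h => by
      rw [mem_N, φ_smul] at h
      rcases (IsLocalRing.maximalIdeal.isMaximal _).isPrime.mem_or_mem h with h | h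
      · exact ha ((IsLocalization.AtPrime.to_map_mem_maximal_iff _ q.asIdeal a).1 h)
      · exact hs ((mem_N q s).2 h))
    (Finset.univ.image p)
  exact ⟨s, fun i => (notMem_N_iff (p i) s).1 (hs (p i) (Finset.mem_image_of_mem p (Finset.mem_univ i)))⟩

end Groth.Agent.S8666
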