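import Groth.Statements.S8669
import Mathlib
import Groth.Agent.Lib.Helper27NNProjK

set_option autoImplicit false
universe v u
open CategoryTheory CategoryTheory.Limits AlgebraicGeometry
attribute [local instance] HasDerivedCategory.standard
open SGA6

namespace Groth.Agent.S8669

/-- Let S be a quasi-compact scheme, f : P = P^r_S ⟶ S the projection, and F, G finite locally free
O_P-modules whose classes in K₀ of finite locally free O_P-modules coincide. Then there is n₀ such
that for every n ≥ n₀ the modules f_*(F(n)) and f_*(G(n)) are finite locally free on S and have the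
same class in K₀ of finite locally free O_S-modules, where F(n) = O_P(n) ⊗ F. (The published
statement is for the projective bundle of any finite locally free module of rank r + 1; this row
takes the trivial bundle.) -/
theorem result (S : Scheme.{u}) [CompactSpace ↥S] (r : ℕ)
    (F G : (KRR.PY r S).Modules) (hF : FlatMod.IsFinLocFree F) (hG : FlatMod.IsFinLocFree G)
    (h : KRR.cl (KRR.PY r S) F = KRR.cl (KRR.PY r S) G) :
    ∃ n₀ : ℕ, ∀ n : ℕ, n₀ ≤ n →
      FlatMod.IsFinLocFree ((Scheme.Modules.pushforward (KRR.pr r S)).obj (KRR.twF r S (n : ℤ) F)) ∧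
      FlatMod.IsFinLocFree ((Scheme.Modules.pushforward (KRR.pr r S)).obj (KRR.twF r S (n : ℤ) G)) ∧
      KRR.cl S ((Scheme.Modules.pushforward (KRR.pr r S)).obj (KRR.twF r S (n : ℤ) F)) =
        KRR.cl S ((Scheme.Modules.pushforward (KRR.pr r S)).obj (KRR.twF r S (n : ℤ) G)) := by
  obtain ⟨kF, hkF⟩ := Groth.Agent.Lib.Helper27NNK0.exists_rk r S F hF
  obtain ⟨kG, hkG⟩ := Groth.Agent.Lib.Helper27NNK0.exists_rk r S G hG
  refine ⟨kF + kG, fun n hn => ?_⟩
  have hF' := (Groth.Agent.Lib.Helper27RegClass.rk_iff r S n F).1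
    (Groth.Agent.Lib.Helper27RegClass.rk_le r S (by omega) hkF)
  have hG' := (Groth.Agent.Lib.Helper27RegClass.rk_iff r S n G).1
    (Groth.Agent.Lib.Helper27RegClass.rk_le r S (by omega) hkG)
  have vF := Groth.Agent.Lib.Helper27RegClass.isFinLocFree_twF r S (n : ℤ) hF
  have vG := Groth.Agent.Lib.Helper27RegClass.isFinLocFree_twF r S (n : ℤ) hG
  refine ⟨Groth.Agent.Lib.Helper27NNPushB.isFinLocFree_push_of_isRegSheaf r S _ vF hF'.2,
    Groth.Agent.Lib.Helper27NNPushB.isFinLocFree_push_of_isRegSheaf r S _ vG hG'.2, ?_⟩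
  have h1 := Groth.Agent.Lib.Helper27NNK0.pushK_cl r S _ vF hF'.2
  have h2 := Groth.Agent.Lib.Helper27NNK0.pushK_cl r S _ vG hG'.2
  have h3 : KRR.cl (KRR.PY r S) (KRR.twF r S (n : ℤ) F) =
      KRR.cl (KRR.PY r S) (KRR.twF r S (n : ℤ) G) := by
    rw [← Groth.Agent.Lib.Helper27NNProjK.twK_cl r S (n : ℤ) F hF,
      ← Groth.Agent.Lib.Helper27NNProjK.twK_cl r S (n : ℤ) G hG, h]
  rw [← h1, ← h2, h3]

end Groth.Agent.S8669
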