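import Groth.Statements.S8705
import Mathlib.Tactic
import Mathlib.Algebra.Group.MinimalAxioms

set_option autoImplicit false
universe u
open SGA7

namespace Groth.Agent.S8705

/-- The underlying type of the extension attached to a symmetric cocycle. -/
structure CExt (P Q : Type u) (c : P → P → Q) where
  a : Q
  p : P

namespace CExt

variable {P Q : Type u} {c : P → P → Q}

lemma ext' {x y : CExt P Q c} (h1 : x.a = y.a) (h2 : x.p = y.p) : x = y := by
  cases x; cases y; simp_all

variable [AddCommGroup P] [AddCommGroup Q]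

instance : Add (CExt P Q c) := ⟨fun x y => ⟨x.a + y.a + c x.p y.p, x.p + y.p⟩⟩
instance : Zero (CExt P Q c) := ⟨⟨- c 0 0, 0⟩⟩
instance : Neg (CExt P Q c) := ⟨fun x => ⟨- x.a - c x.p (-x.p) - c 0 0, - x.p⟩⟩

lemma c_zero_right (hc : ∀ p q r, c (p + q) r + c p q = c p (q + r) + c q r) (p : P) :
    c p 0 = c 0 0 := by
  have := hc p 0 0
  simp only [add_zero] at this
  exact add_left_cancel this

lemma c_zero_left (hs : ∀ p q, c p q = c q p)
    (hc : ∀ p q r, c (p + q) r + c p q = c p (q + r) + c q r) (p : P) : c 0 p = c 0 0 := by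
  rw [hs, c_zero_right hc]

/-- the group structure -/
@[reducible] def addCommGroup (hs : ∀ p q, c p q = c q p)
    (hc : ∀ p q r, c (p + q) r + c p q = c p (q + r) + c q r) : AddCommGroup (CExt P Q c) :=
  { AddGroup.ofLeftAxioms (G := CExt P Q c)
      (fun x y z => by
        apply ext'
        · show x.a + y.a + c x.p y.p + z.a + c (x.p + y.p) z.p =
            x.a + (y.a + z.a + c y.p z.p) + c x.p (y.p + z.p)
          have := hc x.p y.p z.p
          have h2 : c (x.p + y.p) z.p = c x.p (y.p + z.p) + c y.p z.p - c x.p y.p :=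
            eq_sub_of_add_eq this
          rw [h2]; abel
        · show x.p + y.p + z.p = x.p + (y.p + z.p)
          abel)
      (fun x => by
        apply ext'
        · show - c 0 0 + x.a + c 0 x.p = x.a
          rw [c_zero_left hs hc x.p]; abel
        · show 0 + x.p = x.p
          simp)
      (fun x => by
        apply ext'
        · show (- x.a - c x.p (-x.p) - c 0 0) + x.a + c (-x.p) x.p = - c 0 0
          rw [hs (-x.p) x.p]; abel
        · show -x.p + x.p = 0
          simp) with
    add_comm := fun x y => by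
      apply ext'
      · show x.a + y.a + c x.p y.p = y.a + x.a + c y.p x.p
        rw [hs x.p y.p]; abel
      · show x.p + y.p = y.p + x.p
        abel }

end CExt

/-- The extension attached to a symmetric 2-cocycle. -/
theorem exists_ext {P Q : Type u} [AddCommGroup P] [AddCommGroup Q] (c : P → P → Q)
    (hs : ∀ p q, c p q = c q p)
    (hc : ∀ p q r, c (p + q) r + c p q = c p (q + r) + c q r) :
    ∃ (E : Type u) (_ : AddCommGroup E) (ι : Q →+ E) (s : P → E),
      Function.Injective ι ∧ ∀ p q, s p + s q = s (p + q) + ι (c p q) := by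
  let _inst := CExt.addCommGroup (c := c) hs hc
  refine ⟨CExt P Q c, inferInstance,
    { toFun := fun a => ⟨a - c 0 0, 0⟩
      map_zero' := by
        show (⟨0 - c 0 0, 0⟩ : CExt P Q c) = ⟨- c 0 0, 0⟩
        rw [zero_sub]
      map_add' := fun a b => by
        show (⟨a + b - c 0 0, 0⟩ : CExt P Q c) = ⟨a - c 0 0 + (b - c 0 0) + c 0 0, 0 + 0⟩
        apply CExt.ext'
        · show a + b - c 0 0 = a - c 0 0 + (b - c 0 0) + c 0 0
          abel
        · show (0 : P) = 0 + 0
          simp },
    fun p => ⟨0, p⟩, ?_, ?_⟩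
  · intro a b hab
    have := congrArg CExt.a hab
    exact sub_left_injective this
  · intro p q
    show (⟨0 + 0 + c p q, p + q⟩ : CExt P Q c) = ⟨0 + (c p q - c 0 0) + c (p + q) 0, p + q + 0⟩
    apply CExt.ext'
    · show 0 + 0 + c p q = 0 + (c p q - c 0 0) + c (p + q) 0
      rw [CExt.c_zero_right hc (p + q)]; abel
    · show p + q = p + q + 0
      simp


/-- In the case of the punctual topos (ordinary abelian groups): let P be an abelian group and consider
the complex of free abelian groups Z[P × P × P] ⊕ Z[P × P] → Z[P × P] → Z[P], augmented to P by [p]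
↦ p, with d₀[p, q] = [p + q] − [p] − [q], with d₁ on the first summand given by [p, q, r] ↦ [p + q,
r] − [p, q + r] + [p, q] − [q, r] and on the second summand by [p, q] ↦ [p, q] − [q, p]. Then the
augmentation is surjective with kernel the image of d₀ (so H₀ is P), and the kernel of d₀ is the sum
of the images of the two components of d₁ (so H₁ vanishes). (The published statement is for abelian
sheaves on an arbitrary topos; this row is its case of a one-point space.) -/
theorem result (P : Type u) [AddCommGroup P] :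
    letI ε : (P →₀ ℤ) →ₗ[ℤ] P := Finsupp.linearCombination ℤ (fun p : P => p)
    letI d₀ : (P × P →₀ ℤ) →ₗ[ℤ] (P →₀ ℤ) := Finsupp.linearCombination ℤ
      (fun pq : P × P => Finsupp.single (pq.1 + pq.2) 1 - Finsupp.single pq.1 1 - Finsupp.single pq.2 1)
    letI d₁ : (P × P × P →₀ ℤ) →ₗ[ℤ] (P × P →₀ ℤ) := Finsupp.linearCombination ℤ
      (fun t : P × P × P => Finsupp.single (t.1 + t.2.1, t.2.2) 1 - Finsupp.single (t.1, t.2.1 + t.2.2) 1
        + Finsupp.single (t.1, t.2.1) 1 - Finsupp.single (t.2.1, t.2.2) 1)
    letI d₁' : (P × P →₀ ℤ) →ₗ[ℤ] (P × P →₀ ℤ) := Finsupp.linearCombination ℤ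
      (fun pq : P × P => Finsupp.single pq 1 - Finsupp.single (pq.2, pq.1) 1)
    Function.Surjective ε ∧ LinearMap.ker ε = LinearMap.range d₀ ∧
      LinearMap.ker d₀ = LinearMap.range d₁ ⊔ LinearMap.range d₁' := by
  let ε : (P →₀ ℤ) →ₗ[ℤ] P := Finsupp.linearCombination ℤ (fun p : P => p)
  let d₀ : (P × P →₀ ℤ) →ₗ[ℤ] (P →₀ ℤ) := Finsupp.linearCombination ℤ
    (fun pq : P × P => Finsupp.single (pq.1 + pq.2) 1 - Finsupp.single pq.1 1 - Finsupp.single pq.2 1)
  let d₁ : (P × P × P →₀ ℤ) →ₗ[ℤ] (P × P →₀ ℤ) := Finsupp.linearCombination ℤ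
    (fun t : P × P × P => Finsupp.single (t.1 + t.2.1, t.2.2) 1 - Finsupp.single (t.1, t.2.1 + t.2.2) 1
      + Finsupp.single (t.1, t.2.1) 1 - Finsupp.single (t.2.1, t.2.2) 1)
  let d₁' : (P × P →₀ ℤ) →ₗ[ℤ] (P × P →₀ ℤ) := Finsupp.linearCombination ℤ
    (fun pq : P × P => Finsupp.single pq 1 - Finsupp.single (pq.2, pq.1) 1)
  show Function.Surjective ε ∧ LinearMap.ker ε = LinearMap.range d₀ ∧
      LinearMap.ker d₀ = LinearMap.range d₁ ⊔ LinearMap.range d₁'
  have hε : ∀ p : P, ε (Finsupp.single p 1) = p := fun p => by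
    simp only [ε, Finsupp.linearCombination_single, one_smul]
  have hd₀ : ∀ p q : P, d₀ (Finsupp.single (p, q) 1) =
      Finsupp.single (p + q) 1 - Finsupp.single p 1 - Finsupp.single q 1 := fun p q => by
    simp only [d₀, Finsupp.linearCombination_single, one_smul]
  have hd₁ : ∀ p q r : P, d₁ (Finsupp.single (p, q, r) 1) =
      Finsupp.single (p + q, r) 1 - Finsupp.single (p, q + r) 1
        + Finsupp.single (p, q) 1 - Finsupp.single (q, r) 1 := fun p q r => by
    simp only [d₁, Finsupp.linearCombination_single, one_smul]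
  have hd₁' : ∀ p q : P, d₁' (Finsupp.single (p, q) 1) =
      Finsupp.single (p, q) 1 - Finsupp.single (q, p) 1 := fun p q => by
    simp only [d₁', Finsupp.linearCombination_single, one_smul]
  refine ⟨fun p => ⟨Finsupp.single p 1, hε p⟩, ?_, ?_⟩
  · -- ker ε = range d₀
    apply le_antisymm
    · intro x hx
      rw [LinearMap.mem_ker] at hx
      let R := LinearMap.range d₀
      -- the section P → Z[P]/range d₀
      let s : P →+ ((P →₀ ℤ) ⧸ R) := AddMonoidHom.mk' (fun p => R.mkQ (Finsupp.single p 1))
        (fun p q => by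
          have : Finsupp.single (p + q) 1 - (Finsupp.single p 1 + Finsupp.single q 1) ∈ R :=
            ⟨Finsupp.single (p, q) 1, by rw [hd₀]; abel⟩
          have h2 := (Submodule.Quotient.eq R).mpr this
          simpa using h2)
      have key : R.mkQ = s.toIntLinearMap ∘ₗ ε := by
        ext p
        simp [s, hε]
      have : R.mkQ x = 0 := by
        rw [key]; simp [hx]
      simpa [R] using this
    · rintro _ ⟨y, rfl⟩
      rw [LinearMap.mem_ker]
      have : ε ∘ₗ d₀ = 0 := by
        ext ⟨p, q⟩
        simp [hd₀, hε]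
      exact LinearMap.congr_fun this y
  · apply le_antisymm
    · intro x hx
      rw [LinearMap.mem_ker] at hx
      let N := LinearMap.range d₁ ⊔ LinearMap.range d₁'
      let c : P → P → ((P × P →₀ ℤ) ⧸ N) := fun p q => N.mkQ (Finsupp.single (p, q) 1)
      have hs : ∀ p q, c p q = c q p := by
        intro p q
        apply (Submodule.Quotient.eq N).mpr
        exact (le_sup_right : LinearMap.range d₁' ≤ N) ⟨Finsupp.single (p, q) 1, hd₁' p q⟩
      have hc : ∀ p q r, c (p + q) r + c p q = c p (q + r) + c q r := by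
        intro p q r
        have : (Finsupp.single (p + q, r) 1 + Finsupp.single (p, q) 1 : P × P →₀ ℤ) -
            (Finsupp.single (p, q + r) 1 + Finsupp.single (q, r) 1) ∈ N :=
          (le_sup_left : LinearMap.range d₁ ≤ N) ⟨Finsupp.single (p, q, r) 1, by rw [hd₁]; abel⟩
        have h2 := (Submodule.Quotient.eq N).mpr this
        simpa [c] using h2
      obtain ⟨E, _, ι, s, hι, hsE⟩ := exists_ext c hs hc
      let φ : (P →₀ ℤ) →ₗ[ℤ] E := Finsupp.linearCombination ℤ s
      have hφ : ∀ p, φ (Finsupp.single p 1) = s p := fun p => by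
        simp only [φ, Finsupp.linearCombination_single, one_smul]
      have key : φ ∘ₗ d₀ = - (ι.toIntLinearMap ∘ₗ N.mkQ) := by
        ext ⟨p, q⟩
        have := hsE p q
        simp only [LinearMap.coe_comp, Function.comp_apply, Finsupp.lsingle_apply, hd₀, map_sub,
          hφ, LinearMap.neg_apply, AddMonoidHom.coe_toIntLinearMap]
        show s (p + q) - s p - s q = - ι (c p q)
        rw [sub_sub, this]; abel
      have h1 : ι (N.mkQ x) = 0 := by
        have := LinearMap.congr_fun key x
        simp only [LinearMap.coe_comp, Function.comp_apply, hx, map_zero, LinearMap.neg_apply,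
          AddMonoidHom.coe_toIntLinearMap] at this
        exact neg_eq_zero.mp this.symm
      have h2 : N.mkQ x = 0 := hι (h1.trans (map_zero ι).symm)
      simpa [N] using h2
    · apply sup_le
      · rintro _ ⟨y, rfl⟩
        rw [LinearMap.mem_ker]
        have : d₀ ∘ₗ d₁ = 0 := by
          ext ⟨p, q, r⟩ : 2
          simp only [LinearMap.coe_comp, Function.comp_apply, Finsupp.lsingle_apply, hd₁, map_sub,
            map_add, hd₀, LinearMap.zero_apply]
          rw [add_assoc p q r]
          abel
        exact LinearMap.congr_fun this y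
      · rintro _ ⟨y, rfl⟩
        rw [LinearMap.mem_ker]
        have : d₀ ∘ₗ d₁' = 0 := by
          ext ⟨p, q⟩ : 2
          simp only [LinearMap.coe_comp, Function.comp_apply, Finsupp.lsingle_apply, hd₁', map_sub,
            hd₀, LinearMap.zero_apply]
          rw [add_comm q p]
          abel
        exact LinearMap.congr_fun this y

end Groth.Agent.S8705
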