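import Groth.Statements.S8706
import Groth.Agent.Lib.Helper3TorsD
import Mathlib

set_option autoImplicit false
set_option linter.style.haveILetI false
universe u
open CategoryTheory CategoryTheory.Limits MonoidalCategory CartesianMonoidalCategory MonObj AlgebraicGeometry
open SGA7

namespace Groth.Agent.S8706

/-- Let p : P → S be a smooth morphism of finite presentation (smooth, quasi-compact, quasi-separated)
with geometrically connected fibres, e : S → P a section of p, Z a group and G the constant P-group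
scheme Z_P (through the isomorphism eG), E a torsor under G over P for the fppf topology, and e' : S
→ E a section of E lying over e. Then E is trivial (has a section over P) if and only if for every
point s of S the torsor induced on the fibre P_s is trivial (E acquires a section over P_s → P); and
when E is trivial there is exactly one section g of E over P with g ∘ e = e'. -/
theorem result (S P : Scheme.{u}) (p : P ⟶ S)
    [Smooth p] [QuasiCompact p] [QuasiSeparated p] [GeometricallyConnected p]
    (e : S ⟶ P) (he : e ≫ p = 𝟙 S)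
    (Z : Type u) [Group Z] (G : Over P) [GrpObj G] (eG : G ≅ TwC.const P Z) (hG : TwC.IsConstGrp Z G eG)
    (E : NonAbH1.TorsorSch G Scheme.fppfPrecoverage)
    (e' : S ⟶ E.X.left) (he' : e' ≫ E.X.hom = e) :
    (NonAbH1.HasSectionOver E.X (𝟙 P) ↔
        ∀ s : ↥S, NonAbH1.HasSectionOver E.X (pullback.fst p (S.fromSpecResidueField s))) ∧
      (NonAbH1.HasSectionOver E.X (𝟙 P) →
        ∃! g : P ⟶ E.X.left, g ≫ E.X.hom = 𝟙 P ∧ e ≫ g = e') := by
  obtain ⟨het, hsurj⟩ := Groth.Agent.Lib.Helper3.TorsB.etale_and_surjective eG E.act E.isTorsor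
  haveI := het
  haveI := hsurj
  have hsh := Groth.Agent.Lib.Helper3.TorsB.sheets_tau eG E.act E.isTorsor.1
  have hp : Groth.Agent.Lib.Helper3.TwcB.TC E.X.hom := fun s => by
    obtain ⟨x, hx⟩ := E.X.hom.surjective s
    exact ⟨E.X.left, E.X.hom, inferInstance, ⟨x, hx⟩, Z, _, hsh⟩
  haveI : IsSeparated E.X.hom := hp.isSeparated
  have hfwd : NonAbH1.HasSectionOver E.X (𝟙 P) →
      ∀ s : ↥S, NonAbH1.HasSectionOver E.X (pullback.fst p (S.fromSpecResidueField s)) := by
    rintro ⟨g, hg⟩ s
    exact ⟨pullback.fst p (S.fromSpecResidueField s) ≫ g, by rw [Category.assoc, hg, Category.comp_id]⟩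
  have hex : (∀ s : ↥S, NonAbH1.HasSectionOver E.X (pullback.fst p (S.fromSpecResidueField s))) →
      ∃ g : P ⟶ E.X.left, g ≫ E.X.hom = 𝟙 P ∧ e ≫ g = e' := by
    intro h
    exact Groth.Agent.Lib.Helper3.TorsD.exists_section_of_fibrewise p E.X.hom _ hsh e he e' he'
      (fun s => h s)
  refine ⟨⟨hfwd, fun h => ?_⟩, fun h => ?_⟩
  · obtain ⟨g, hg, -⟩ := hex h
    exact ⟨g, hg⟩
  · obtain ⟨g, hg, hge⟩ := hex (hfwd h)
    refine ⟨g, ⟨hg, hge⟩, ?_⟩
    rintro g' ⟨hg', hge'⟩
    exact Groth.Agent.Lib.Helper3.TorsD.section_unique p E.X.hom e he g' g hg' hg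
      (hge'.trans hge.symm)

end Groth.Agent.S8706
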