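import Groth.Statements.S8707
import Groth.Agent.Lib.Helper3TorsC
import Groth.Agent.Lib.Helper3LocIrr
import Mathlib

set_option autoImplicit false
set_option linter.style.haveILetI false
universe u
open CategoryTheory CategoryTheory.Limits MonoidalCategory CartesianMonoidalCategory MonObj AlgebraicGeometry
open SGA7

namespace Groth.Agent.S8707

/-- Let S be an irreducible scheme whose local rings are all geometrically unibranch, Z a group without
non-trivial elements of finite order, f : P → S a smooth morphism, G the constant P-group scheme Z_P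
(through the isomorphism eG) and E a torsor under G over P for the fppf topology. Then E is trivial:
it has a section over P. (Taking f the identity of S gives the statement for torsors under Z_S on S
itself. The accompanying assertions identifying the category of such torsors with that of torsors
over the generic point are not stated.) -/
theorem result (S : Scheme.{u}) [IrreducibleSpace ↥S]
    (hS : ∀ s : ↥S, CAlg2.IsGeomUnibranch ↑(S.presheaf.stalk s))
    (Z : Type u) [Group Z] (hZ : ∀ z : Z, IsOfFinOrder z → z = 1)
    (P : Scheme.{u}) (f : P ⟶ S) [Smooth f]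
    (G : Over P) [GrpObj G] (eG : G ≅ TwC.const P Z) (hG : TwC.IsConstGrp Z G eG)
    (E : NonAbH1.TorsorSch G Scheme.fppfPrecoverage) :
    NonAbH1.HasSectionOver E.X (𝟙 P) := by
  obtain ⟨het, hsurj⟩ := Groth.Agent.Lib.Helper3.TorsB.etale_and_surjective eG E.act E.isTorsor
  haveI := het
  haveI := hsurj
  have hsh := Groth.Agent.Lib.Helper3.TorsB.sheets_tau eG E.act E.isTorsor.1
  have hloc := fun x => Groth.Agent.Lib.Helper3.LocIrr.exists_isIrreducible_nhds_of_smooth f hS x
  have hcomp := fun x =>
    Groth.Agent.Lib.Helper3.LocIrr.isOpen_and_isIrreducible_connectedComponent hloc x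
  apply Groth.Agent.Lib.Helper3.TorsC.exists_section_of_forall_component E.X.hom
    (fun x => (hcomp x).1)
  intro x
  let P₀ : P.Opens := ⟨connectedComponent x, (hcomp x).1⟩
  haveI : Smooth (P₀.ι ≫ f) := inferInstance
  have heub : Groth.Agent.Lib.Helper3.TwcF.EUB (P₀ : Scheme.{u}) :=
    Groth.Agent.Lib.Helper3.TwcF.EUB.of_smooth (P₀.ι ≫ f) hS
  exact Groth.Agent.Lib.Helper3.TorsC.exists_section_over_component E.X.hom hZ
    (Groth.Agent.Lib.Helper3.TorsB.Lz eG E.act)
    (Groth.Agent.Lib.Helper3.TorsB.Lz_one eG hG E.act)
    (Groth.Agent.Lib.Helper3.TorsB.Lz_mul eG hG E.act)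
    (fun z => (Groth.Agent.Lib.Helper3.TorsA.tau E.act.act
      (Groth.Agent.Lib.Helper3.TorsB.gpt G eG z)).left)
    (Groth.Agent.Lib.Helper3.TorsB.tau_left_fst eG E.act) hsh P₀ (hcomp x).2
    isClosed_connectedComponent heub

end Groth.Agent.S8707
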