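import Groth.Statements.S8709
import Groth.Agent.Lib.Helper3UnitAxesB
import Mathlib

set_option autoImplicit false
set_option linter.style.haveILetI false
universe u
open CategoryTheory CategoryTheory.Limits MonoidalCategory CartesianMonoidalCategory MonObj AlgebraicGeometry
open SGA7

namespace Groth.Agent.S8709

open Groth.Agent.Lib.Helper3.RosB Groth.Agent.Lib.Helper3.UnitAxesB in
lemma pullback_map_left_fst {S S' : Scheme.{u}} (φ : S' ⟶ S) {X Y : Over S} (g : X ⟶ Y) :
    ((Over.pullback φ).map g).left ≫ pullback.fst Y.hom φ = pullback.fst X.hom φ ≫ g.left := by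
  dsimp only [Over.pullback]
  exact pullback.lift_fst _ _ _

lemma field_ext_props (k : Type u) [Field k] (L : Type u) [Field L] [Algebra k L] :
    Flat (Spec.map (CommRingCat.ofHom (algebraMap k L))) ∧
    Surjective (Spec.map (CommRingCat.ofHom (algebraMap k L))) := by
  refine ⟨?_, ?_⟩
  · rw [HasRingHomProperty.Spec_iff (P := @Flat)]
    rw [CommRingCat.hom_ofHom, RingHom.flat_algebraMap_iff]
    infer_instance
  · constructor
    intro y
    haveI : Nonempty (Spec (CommRingCat.of L)) :=
      inferInstanceAs (Nonempty (PrimeSpectrum L))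
    obtain ⟨x⟩ := ‹Nonempty (Spec (CommRingCat.of L))›
    haveI : Subsingleton (Spec (CommRingCat.of k)) :=
      inferInstanceAs (Subsingleton (PrimeSpectrum k))
    exact ⟨x, Subsingleton.elim _ _⟩

open Groth.Agent.Lib.Helper3.RosB Groth.Agent.Lib.Helper3.UnitAxesB in

/-- Let k be a field and X, Y two k-schemes of finite type which are geometrically reduced and
geometrically connected, with rational points e_X and e_Y. Then every k-morphism u from X ×_k Y to
the multiplicative group whose restrictions to X × e_Y and to e_X × Y are trivial is trivial.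
(Morphisms to the multiplicative group over k form a group; trivial means equal to its unit
element.) -/
theorem result (k : Type u) [Field k]
    (X Y : Over (Spec (CommRingCat.of k)))
    [LocallyOfFiniteType X.hom] [QuasiCompact X.hom] [GeometricallyReduced X.hom] [GeometricallyConnected X.hom]
    [LocallyOfFiniteType Y.hom] [QuasiCompact Y.hom] [GeometricallyReduced Y.hom] [GeometricallyConnected Y.hom]
    (eX : 𝟙_ (Over (Spec (CommRingCat.of k))) ⟶ X) (eY : 𝟙_ (Over (Spec (CommRingCat.of k))) ⟶ Y)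
    (u : X ⊗ Y ⟶ Red.Gm (Spec (CommRingCat.of k)))
    (huX : lift (𝟙 X) (toUnit X ≫ eY) ≫ u = 1) (huY : lift (toUnit Y ≫ eX) (𝟙 Y) ≫ u = 1) :
    u = 1 := by
  let K : Type u := AlgebraicClosure k
  let φ : Spec (CommRingCat.of K) ⟶ Spec (CommRingCat.of k) :=
    Spec.map (CommRingCat.ofHom (algebraMap k K))
  haveI : Flat φ := (field_ext_props k K).1
  haveI : Surjective φ := (field_ext_props k K).2
  let F := Over.pullback φ
  let f : (Γ((X ⊗ Y).left, ⊤))ˣ := GmPts.unitOfPt u
  have h1 : pb (sl eY) (f : Γ((X ⊗ Y).left, ⊤)) = 1 := by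
    have := congrArg GmPts.unitOfPt huX
    rw [GmPts.unitOfPt_comp, GmPts.unitOfPt_one] at this
    exact congrArg Units.val this
  have h2 : pb (sr eX) (f : Γ((X ⊗ Y).left, ⊤)) = 1 := by
    have := congrArg GmPts.unitOfPt huY
    rw [GmPts.unitOfPt_comp, GmPts.unitOfPt_one] at this
    exact congrArg Units.val this
  -- base change
  haveI : IsReduced (F.obj X).left :=
    pullback_of_geometrically GeometricallyReduced.geometrically_isReduced K φ
  haveI : IsReduced (F.obj Y).left :=
    pullback_of_geometrically GeometricallyReduced.geometrically_isReduced K φ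
  haveI : ConnectedSpace (F.obj X).left :=
    pullback_of_geometrically (P := (ConnectedSpace ·))
      GeometricallyConnected.geometrically_connectedSpace K φ
  haveI : ConnectedSpace (F.obj Y).left :=
    pullback_of_geometrically (P := (ConnectedSpace ·))
      GeometricallyConnected.geometrically_connectedSpace K φ
  haveI : LocallyOfFiniteType (F.obj X).hom :=
    inferInstanceAs (LocallyOfFiniteType (pullback.snd X.hom φ))
  haveI : LocallyOfFiniteType (F.obj Y).hom :=
    inferInstanceAs (LocallyOfFiniteType (pullback.snd Y.hom φ))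
  haveI : QuasiCompact (F.obj X).hom := inferInstanceAs (QuasiCompact (pullback.snd X.hom φ))
  haveI : QuasiCompact (F.obj Y).hom := inferInstanceAs (QuasiCompact (pullback.snd Y.hom φ))
  let π : (F.obj (X ⊗ Y)).left ⟶ (X ⊗ Y).left := pullback.fst (X ⊗ Y).hom φ
  let fK : Γ((F.obj X ⊗ F.obj Y).left, ⊤) :=
    pb (Functor.LaxMonoidal.μ F X Y) (π.appTop.hom (f : Γ((X ⊗ Y).left, ⊤)))
  have hfK : IsUnit fK := (f.isUnit.map π.appTop.hom).map (pb (Functor.LaxMonoidal.μ F X Y))
  let eXK : 𝟙_ (Over (Spec (CommRingCat.of K))) ⟶ F.obj X := Functor.LaxMonoidal.ε F ≫ F.map eX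
  let eYK : 𝟙_ (Over (Spec (CommRingCat.of K))) ⟶ F.obj Y := Functor.LaxMonoidal.ε F ≫ F.map eY
  have hsl : sl eYK ≫ Functor.LaxMonoidal.μ F X Y = F.map (sl eY) := by
    have : sl (X := F.obj X) eYK = lift (F.map (𝟙 X)) (F.map (toUnit X ≫ eY)) := by
      change lift (𝟙 (F.obj X)) (toUnit (F.obj X) ≫ Functor.LaxMonoidal.ε F ≫ F.map eY) = _
      rw [F.map_id, F.map_comp, ← Functor.Monoidal.toUnit_ε_assoc]
    rw [this, Functor.Monoidal.lift_μ]
  have hsr : sr eXK ≫ Functor.LaxMonoidal.μ F X Y = F.map (sr eX) := by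
    have : sr (Y := F.obj Y) eXK = lift (F.map (toUnit Y ≫ eX)) (F.map (𝟙 Y)) := by
      change lift (toUnit (F.obj Y) ≫ Functor.LaxMonoidal.ε F ≫ F.map eX) (𝟙 (F.obj Y)) = _
      rw [F.map_id, F.map_comp, ← Functor.Monoidal.toUnit_ε_assoc]
    rw [this, Functor.Monoidal.lift_μ]
  have hgen : ∀ {Z : Over (Spec (CommRingCat.of k))} (g : Z ⟶ X ⊗ Y),
      pb g (f : Γ((X ⊗ Y).left, ⊤)) = 1 →
      pb (F.map g) (π.appTop.hom (f : Γ((X ⊗ Y).left, ⊤))) = 1 := by
    intro Z g hg
    have e : (F.map g).left ≫ π = pullback.fst Z.hom φ ≫ g.left := pullback_map_left_fst φ g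
    have e2 : pb (F.map g) (π.appTop.hom (f : Γ((X ⊗ Y).left, ⊤))) =
        ((F.map g).left ≫ π).appTop.hom (f : Γ((X ⊗ Y).left, ⊤)) := by
      rw [Scheme.Hom.comp_appTop]; rfl
    rw [e2, e, Scheme.Hom.comp_appTop]
    change (pullback.fst Z.hom φ).appTop.hom (pb g (f : Γ((X ⊗ Y).left, ⊤))) = 1
    rw [hg, map_one]
  have hK1 : pb (sl eYK) fK = 1 := by
    change pb (sl eYK) (pb (Functor.LaxMonoidal.μ F X Y) _) = 1
    rw [← pb_comp, hsl]
    exact hgen _ h1
  have hK2 : pb (sr eXK) fK = 1 := by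
    change pb (sr eXK) (pb (Functor.LaxMonoidal.μ F X Y) _) = 1
    rw [← pb_comp, hsr]
    exact hgen _ h2
  have hfK1 : fK = 1 := eq_one_of_axes (F.obj X) (F.obj Y) eXK eYK fK hfK hK1 hK2
  have h3 : π.appTop.hom (f : Γ((X ⊗ Y).left, ⊤)) = 1 := by
    have hinj : Function.Injective (pb (Functor.LaxMonoidal.μ F X Y)) := by
      haveI : IsIso (Functor.LaxMonoidal.μ F X Y) := inferInstance
      refine Function.LeftInverse.injective (g := pb (inv (Functor.LaxMonoidal.μ F X Y))) ?_
      intro s
      rw [← pb_comp, IsIso.inv_hom_id, pb_id']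
    apply hinj
    rw [map_one]
    exact hfK1
  -- descend along the epimorphism π
  let T : Over (Spec (CommRingCat.of k)) := Over.mk (π ≫ (X ⊗ Y).hom)
  let p : T ⟶ X ⊗ Y := Over.homMk π rfl
  haveI : Epi π := Flat.epi_of_flat_of_surjective π
  haveI : Epi ((Over.forget _).map p) := ‹Epi π›
  haveI : Epi p := (Over.forget _).epi_of_epi_map ‹_›
  have h4 : p ≫ u = p ≫ 1 := by
    apply (GmPts.equiv T).injective
    change GmPts.unitOfPt (p ≫ u) = GmPts.unitOfPt (p ≫ 1)
    rw [GmPts.unitOfPt_comp, GmPts.unitOfPt_comp, GmPts.unitOfPt_one, map_one]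
    ext
    exact h3
  exact (cancel_epi p).mp h4

end Groth.Agent.S8709
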