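import Groth.Statements.S8710
import Mathlib
import Groth.Agent.Lib.Helper13Tor
-- import your own Groth.Agent.* helpers here

set_option autoImplicit false
universe u
open CategoryTheory CategoryTheory.Limits
open SGA7

namespace Groth.Agent.S8710

/-- Let f : B' → B be a surjective map of R-algebras with B' flat over R, g : C → B a map of R-algebras,
P = B' ×_B C their fibre product (the equalizer of f ∘ pr₁ and g ∘ pr₂ in B' × C), S an R-algebra
and n a natural number. If Tor_i^R(C, S) = 0 for 0 < i < n and Tor_i^R(B, S) = 0 for 0 < i ≤ n, then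
Tor_i^R(P, S) = 0 for 0 < i < n. Here Tor_i^R(M, S) is the i-th left derived functor of M ⊗_R − on
R-modules, evaluated at S. (The published statement asks the vanishing for B only in degrees 0 < i <
n; the published proof and the corollary following it use it in degrees 0 < i ≤ n, which this row
assumes.) -/
theorem result (R B' B C S : Type u) [CommRing R] [CommRing B'] [CommRing B]
    [CommRing C] [CommRing S] [Algebra R B'] [Algebra R B] [Algebra R C] [Algebra R S]
    (f : B' →ₐ[R] B) (hf : Function.Surjective f) (g : C →ₐ[R] B) [Module.Flat R B'] (n : ℕ)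
    (hC : ∀ i : ℕ, 0 < i → i < n →
      IsZero (((Tor (ModuleCat.{u} R) i).obj (ModuleCat.of R C)).obj (ModuleCat.of R S)))
    (hB : ∀ i : ℕ, 0 < i → i ≤ n →
      IsZero (((Tor (ModuleCat.{u} R) i).obj (ModuleCat.of R B)).obj (ModuleCat.of R S))) :
    letI P := AlgHom.equalizer (f.comp (AlgHom.fst R B' C)) (g.comp (AlgHom.snd R B' C))
    ∀ i : ℕ, 0 < i → i < n →
      IsZero (((Tor (ModuleCat.{u} R) i).obj (ModuleCat.of R ↥P)).obj (ModuleCat.of R S)) := by
  intro i hi hin
  let φ : (B' × C) →ₗ[R] B :=
    f.toLinearMap ∘ₗ LinearMap.fst R B' C - g.toLinearMap ∘ₗ LinearMap.snd R B' C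
  let S1 : ShortComplex (ModuleCat.{u} R) :=
    ShortComplex.mk (ModuleCat.ofHom (LinearMap.inl R B' C)) (ModuleCat.ofHom (LinearMap.snd R B' C))
      (by ext x; simp)
  have hS1 : S1.ShortExact := by
    refine ShortComplex.ShortExact.mk' ?_ ?_ ?_
    · rw [ShortComplex.ShortExact.moduleCat_exact_iff_function_exact]
      intro x
      constructor
      · intro hx
        have hx' : x.2 = 0 := hx
        exact ⟨x.1, Prod.ext rfl hx'.symm⟩
      · rintro ⟨y, rfl⟩
        simp [S1]
    · rw [ModuleCat.mono_iff_injective]
      exact LinearMap.inl_injective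
    · rw [ModuleCat.epi_iff_surjective]
      exact LinearMap.snd_surjective
  let S2 : ShortComplex (ModuleCat.{u} R) :=
    ShortComplex.mk
      (ModuleCat.ofHom (AlgHom.equalizer (f.comp (AlgHom.fst R B' C))
        (g.comp (AlgHom.snd R B' C))).val.toLinearMap)
      (ModuleCat.ofHom φ)
      (by
        ext x
        have := x.2
        simp only [AlgHom.mem_equalizer] at this
        simpa [φ, sub_eq_zero] using this)
  have hS2 : S2.ShortExact := by
    refine ShortComplex.ShortExact.mk' ?_ ?_ ?_
    · rw [ShortComplex.ShortExact.moduleCat_exact_iff_function_exact]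
      intro x
      constructor
      · intro hx
        refine ⟨⟨x, ?_⟩, rfl⟩
        rw [AlgHom.mem_equalizer]
        simpa [S2, φ, sub_eq_zero] using hx
      · rintro ⟨y, rfl⟩
        have := y.2
        simp only [AlgHom.mem_equalizer] at this
        simpa [S2, φ, sub_eq_zero] using this
    · rw [ModuleCat.mono_iff_injective]
      exact Subtype.val_injective
    · rw [ModuleCat.epi_iff_surjective]
      intro b
      obtain ⟨b', rfl⟩ := hf b
      exact ⟨(b', 0), by simp [S2, φ]⟩
  have h1 : IsZero (((Tor (ModuleCat.{u} R) i).obj (ModuleCat.of R (B' × C))).obj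
      (ModuleCat.of R S)) :=
    Groth.Agent.Helper13Tor.isZero_tor_X₂ S1 hS1 _ i
      (Groth.Agent.Helper13Tor.isZero_tor_of_flat _ (ModuleCat.of R B') i hi) (hC i hi hin)
  exact Groth.Agent.Helper13Tor.isZero_tor_X₁ S2 hS2 _ i (hB (i + 1) (by omega) (by omega)) h1

end Groth.Agent.S8710
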