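import Groth.Statements.S8716
import Mathlib
import Groth.Agent.Lib.Helper11Central
import Groth.Agent.Lib.Helper11ConstHom

set_option autoImplicit false
universe u
open CategoryTheory CategoryTheory.Limits MonoidalCategory CartesianMonoidalCategory MonObj AlgebraicGeometry
open SGA7

namespace Groth.Agent.S8716

section Aux
open Groth.Agent.Lib.Helper11.Descend Groth.Agent.Lib.Helper11 GrpObj

universe u₁ v₁
variable {C : Type u₁} [Category.{v₁} C] [CartesianMonoidalCategory C] [BraidedCategory C]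
  (J : GrothendieckTopology C) [J.Subcanonical]
  {P G E : C} [GrpObj P] [GrpObj G] [GrpObj E]

theorem rigid_of_hom_trivial [IsCommMonObj E]
    (u : G ⟶ E) (v : E ⟶ P) [IsMonHom u] [IsMonHom v]
    (hpb : IsPullback (fst E G) ((E ◁ u) ≫ μ[E]) v v) (hv : secSieve v ∈ J P)
    (htriv : ∀ χ : P ⟶ G, IsMonHom χ → χ = 1)
    (φ : E ⟶ E) [IsMonHom φ] (hφu : u ≫ φ = u) (hφv : φ ≫ v = v) : φ = 𝟙 E := by
  obtain ⟨ψ, hψ⟩ : ∃ ψ : E ⟶ E, ψ = φ * (𝟙 E)⁻¹ := ⟨_, rfl⟩
  have hψv : ψ ≫ v = 1 := by
    rw [hψ, MonObj.mul_comp, GrpObj.inv_comp, hφv, Category.id_comp, mul_inv_cancel]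
  obtain ⟨ψG, hψG⟩ := ExtSeq.exists_kerLift u v hpb ψ hψv
  have hpull : ∀ {W : C} (a : W ⟶ E), a ≫ ψ = (a ≫ φ) * a⁻¹ := by
    intro W a
    rw [hψ, MonObj.comp_mul, GrpObj.comp_inv, Category.comp_id]
  have hinv : ∀ ⦃W : C⦄ (a b : W ⟶ E), a ≫ v = b ≫ v → a ≫ ψG = b ≫ ψG := by
    intro W a b hab
    obtain ⟨h, hh⟩ := ExtSeq.exists_diff u v hpb _ _ hab
    apply ExtSeq.u_injective u v hpb
    rw [Category.assoc, Category.assoc, hψG, hpull, hpull, ← hh, MonObj.mul_comp, Category.assoc,
      hφu]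
    group
  obtain ⟨χ, hχ⟩ := exists_desc J v hv ψG hinv
  have hmulψ : ∀ {W : C} (a b : W ⟶ E), (a * b) ≫ ψ = (a ≫ ψ) * (b ≫ ψ) := by
    intro W a b
    rw [hpull, hpull, hpull, MonObj.mul_comp, _root_.mul_inv_rev]
    simp only [_root_.mul_assoc, _root_.mul_comm, _root_.mul_left_comm]
  have hχhom : IsMonHom χ := by
    refine ⟨?_, ?_⟩
    · have e1 : η[P] = η[E] ≫ v := (IsMonHom.one_hom (f := v)).symm
      rw [e1, Category.assoc, hχ]
      apply ExtSeq.u_injective u v hpb
      rw [Category.assoc, hψG, hpull, IsMonHom.one_hom, IsMonHom.one_hom (f := u)]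
      have e2 : (η[E] : 𝟙_ C ⟶ E) = 1 := by
        rw [Hom.one_def, toUnit_unit, Category.id_comp]
      rw [e2, mul_inv_cancel]
    · apply hom_ext_of_secSieve J (v ⊗ₘ v) (Central.secSieve_tensorHom J v hv)
      have e1 : (v ⊗ₘ v) ≫ μ[P] ≫ χ = (fst E E * snd E E) ≫ ψG := by
        rw [← Category.assoc, ← IsMonHom.mul_hom (f := v), Category.assoc, hχ, Hom.mul_def,
          lift_fst_snd, Category.id_comp]
      have e2 : (v ⊗ₘ v) ≫ (χ ⊗ₘ χ) ≫ μ[G] = (fst E E ≫ ψG) * (snd E E ≫ ψG) := by
        rw [Hom.mul_def, ← Category.assoc]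
        congr 1
        apply CartesianMonoidalCategory.hom_ext
        · simp [hχ]
        · simp [hχ]
      rw [e1, e2]
      apply ExtSeq.u_injective u v hpb
      rw [Category.assoc, hψG, MonObj.mul_comp (fst E E ≫ ψG) (snd E E ≫ ψG) u, Category.assoc,
        Category.assoc, hψG, hmulψ]
  have hχ1 := htriv χ hχhom
  have hψ1 : ψ = 1 := by
    rw [← hψG, ← hχ, hχ1, MonObj.comp_one, MonObj.one_comp]
  rw [hψ] at hψ1
  exact mul_inv_eq_one.mp hψ1

end Aux


/-- Let k be a field, Z a commutative group without non-trivial elements of finite order, P a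
commutative k-group scheme of finite type (so that its group of connected components is a finite,
hence torsion, group), G the constant k-group scheme Z_k (through the isomorphism eG), and u : G →
E, v : E → P homomorphisms of commutative k-group schemes forming a sequence 1 → G → E → P → 1 exact
for the fppf topology. Then the extension is rigid: every automorphism of the k-group scheme E
compatible with u and v is the identity. (The published statement assumes only P locally of finite
type with torsion component group; this row takes P of finite type, the case it names.) -/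
theorem result (k : Type u) [Field k]
    (Z : Type u) [CommGroup Z] (hZ : ∀ z : Z, IsOfFinOrder z → z = 1)
    (P E G : Over (Spec (CommRingCat.of k))) [GrpObj P] [GrpObj E] [GrpObj G]
    [IsCommMonObj P] [IsCommMonObj E]
    [LocallyOfFiniteType P.hom] [QuasiCompact P.hom]
    (eG : G ≅ TwC.const (Spec (CommRingCat.of k)) Z) (hG : TwC.IsConstGrp Z G eG)
    (u : G ⟶ E) (v : E ⟶ P) (hex : NonAbH1.IsExactSeq Scheme.fppfPrecoverage u v)
    (φ : E ≅ E) [IsMonHom φ.hom] (hφu : u ≫ φ.hom = u) (hφv : φ.hom ≫ v = v) :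
    φ.hom = 𝟙 E := by
  obtain ⟨hu, hv, huv, hpb, hloc⟩ := hex
  have hsec := Groth.Agent.Lib.Helper11.ExtSeq.secSieve_mem v hloc
  have hcpt : CompactSpace P.left := by
    have : CompactSpace (Spec (CommRingCat.of k)) := inferInstance
    exact QuasiCompact.compactSpace_of_compactSpace P.hom
  have htriv : ∀ χ : P ⟶ G, IsMonHom χ → χ = 1 := by
    intro χ hχ
    exact Groth.Agent.Lib.Helper11ConstHom.hom_eq_one Z P G hZ eG hG χ
  exact rigid_of_hom_trivial (Groth.Agent.Lib.Helper11.ExtSeq.JS _) u v hpb hsec htriv φ.hom hφu hφv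

end Groth.Agent.S8716
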