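import Groth.Statements.S8719
import Mathlib
import Groth.Agent.Lib.Helper19PowerSeries
-- import your own Groth.Agent.* helpers here

set_option autoImplicit false
universe u
open VanCyc

namespace Groth.Agent.S8719.Aux
set_option autoImplicit false
namespace QuadJac
open MvPowerSeries Finsupp Groth.Agent.Lib.Helper19 VanCyc

variable {k : Type u} [Field k] {N : ℕ}

lemma maximalIdeal_field_eq_bot : IsLocalRing.maximalIdeal k = ⊥ := by
  exact IsLocalRing.maximalIdeal_eq_bot

lemma maximalIdeal_eq_varsIdeal :
    IsLocalRing.maximalIdeal (MvPowerSeries (Fin N) k) = varsIdeal (Fin N) k := by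
  apply le_antisymm
  · intro g hg
    rw [maximalIdeal_eq_coeffIdeal, mem_coeffIdeal_one, maximalIdeal_field_eq_bot,
      Ideal.mem_bot] at hg
    have := mem_varsIdeal_pow_of_coeff_eq_zero 1 g (fun α hα => by
      have h0 : α = 0 := (degree_eq_zero_iff α).1 (by omega)
      subst h0
      rw [coeff_zero_eq_constantCoeff_apply]; exact hg)
    simpa using this
  · rw [maximalIdeal_eq_coeffIdeal]
    exact varsIdeal_le_coeffIdeal_one _

lemma coeff_single_pderiv (f : MvPowerSeries (Fin N) k) (i l : Fin N) :
    coeff (single l 1) (pderiv k i f) = polarMatrix (quadPart f) i l := by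
  rw [coeff_pderiv]
  unfold polarMatrix quadPart
  by_cases hil : i = l
  · subst hil
    simp only [if_true]
    rw [← single_add]
    simp only [single_eq_same]
    norm_num
    ring
  · rw [if_neg hil]
    have h1 : (single l 1 : Fin N →₀ ℕ) i = 0 := by
      rw [single_apply, if_neg (Ne.symm hil)]
    rw [h1]
    by_cases hlt : i < l
    · rw [if_pos hlt, if_neg hil, if_pos hlt, add_comm (single l 1)]
      simp
    · have hlt' : l < i := lt_of_le_of_ne (not_lt.mp hlt) (Ne.symm hil)
      rw [if_neg hlt, if_neg (Ne.symm hil), if_pos hlt']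
      simp

theorem main (f : MvPowerSeries (Fin N) k) (hf : NondegQuadSeries f) :
    Ideal.span (Set.range fun i : Fin N => MvPowerSeries.pderiv k i f) =
      IsLocalRing.maximalIdeal (MvPowerSeries (Fin N) k) := by
  classical
  obtain ⟨⟨hf0, hf1⟩, hB⟩ := hf
  set B := polarMatrix (quadPart f) with hBdef
  set J := Ideal.span (Set.range fun i : Fin N => MvPowerSeries.pderiv k i f) with hJ
  set m := IsLocalRing.maximalIdeal (MvPowerSeries (Fin N) k) with hm
  have hconst : ∀ i, constantCoeff (pderiv k i f) = 0 := by
    intro i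
    rw [← coeff_zero_eq_constantCoeff_apply, coeff_pderiv, zero_add, hf1 i, zero_mul]
  have hJm : J ≤ m := by
    rw [hJ, Ideal.span_le]
    rintro _ ⟨i, rfl⟩
    rw [SetLike.mem_coe, hm, maximalIdeal_eq_coeffIdeal, mem_coeffIdeal_one, hconst]
    exact Ideal.zero_mem _
  refine le_antisymm hJm ?_
  -- remainder terms
  have hr : ∀ i, pderiv k i f - ∑ l, C (B i l) * X l ∈ m ^ 2 := by
    intro i
    have := sub_linear_mem_coeffIdeal_two (IsLocalRing.maximalIdeal k) (pderiv k i f)
    rw [coeffIdeal_eq_pow, ← maximalIdeal_eq_coeffIdeal, hconst, map_zero, sub_zero] at this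
    simpa only [coeff_single_pderiv] using this
  have hX : ∀ j, (X j : MvPowerSeries (Fin N) k) ∈ J ⊔ m • m := by
    intro j
    have hinv : B⁻¹ * B = 1 := Matrix.nonsing_inv_mul B hB
    have key : (X j : MvPowerSeries (Fin N) k) =
        ∑ i, C (B⁻¹ j i) * pderiv k i f -
          ∑ i, C (B⁻¹ j i) * (pderiv k i f - ∑ l, C (B i l) * X l) := by
      rw [← Finset.sum_sub_distrib]
      have : ∀ i, C (B⁻¹ j i) * pderiv k i f -
          C (B⁻¹ j i) * (pderiv k i f - ∑ l, C (B i l) * X l) =
          ∑ l, C (B⁻¹ j i * B i l) * (X l : MvPowerSeries (Fin N) k) := by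
        intro i
        rw [mul_sub, sub_sub_cancel, Finset.mul_sum]
        refine Finset.sum_congr rfl fun l _ => ?_
        rw [map_mul, mul_assoc]
      simp_rw [this]
      rw [Finset.sum_comm]
      simp_rw [← Finset.sum_mul, ← map_sum]
      have h2 : ∀ l, ∑ i, B⁻¹ j i * B i l = (1 : Matrix (Fin N) (Fin N) k) j l := by
        intro l
        rw [← hinv, Matrix.mul_apply]
      simp_rw [h2, Matrix.one_apply]
      rw [Finset.sum_eq_single j]
      · simp
      · intro l _ hl
        rw [if_neg (Ne.symm hl), map_zero, zero_mul]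
      · intro h; exact absurd (Finset.mem_univ j) h
    rw [key]
    refine Submodule.sub_mem _ (Submodule.mem_sup_left ?_) (Submodule.mem_sup_right ?_)
    · refine Ideal.sum_mem _ fun i _ => Ideal.mul_mem_left _ _ (Ideal.subset_span ⟨i, rfl⟩)
    · refine Ideal.sum_mem _ fun i _ => Ideal.mul_mem_left _ _ ?_
      have := hr i
      rwa [pow_two] at this
  have hmle : m ≤ J ⊔ m • m := by
    have h1 : m = varsIdeal (Fin N) k := maximalIdeal_eq_varsIdeal
    calc m = varsIdeal (Fin N) k := h1
      _ ≤ J ⊔ m • m := by
        rw [varsIdeal, Ideal.span_le]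
        rintro _ ⟨j, rfl⟩
        exact hX j
  have hfg : (m : Submodule _ _).FG := by
    rw [hm, maximalIdeal_eq_varsIdeal]
    exact Submodule.fg_span (Set.finite_range _)
  exact Submodule.le_of_le_smul_of_le_jacobson_bot hfg
    (IsLocalRing.maximalIdeal_le_jacobson _) hmle

end QuadJac

end Groth.Agent.S8719.Aux

namespace Groth.Agent.S8719

/-- The formal computation carried out in its proof: let k be a field and f a power series in k[[x_0,
..., x_n]] with vanishing constant and linear terms whose degree-two part is a non-degenerate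
quadratic form (the Gram determinant of its polar bilinear form is a unit). Then the partial
derivatives of f generate the maximal ideal of k[[x_0, ..., x_n]] (so f together with its partial
derivatives cut out the origin with multiplicity one). -/
theorem result (k : Type u) [Field k] (n : ℕ)
    (f : MvPowerSeries (Fin (n + 1)) k) (hf : VanCyc.NondegQuadSeries f) :
    Ideal.span (Set.range fun i : Fin (n + 1) => MvPowerSeries.pderiv k i f) =
      IsLocalRing.maximalIdeal (MvPowerSeries (Fin (n + 1)) k) := by
  exact Aux.QuadJac.main f hf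

end Groth.Agent.S8719
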