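import Groth.Statements.S8720
import Mathlib
import Groth.Agent.Lib.Helper19PowerSeries
-- import your own Groth.Agent.* helpers here

set_option autoImplicit false
universe u
open VanCyc

namespace Groth.Agent.S8720.Aux
set_option autoImplicit false
namespace QuadJac2
open MvPowerSeries Finsupp Groth.Agent.Lib.Helper19

variable {k : Type u} [Field k] {σ : Type} [Finite σ]

lemma maximalIdeal_eq_varsIdeal :
    IsLocalRing.maximalIdeal (MvPowerSeries σ k) = varsIdeal σ k := by
  apply le_antisymm
  · intro g hg
    rw [maximalIdeal_eq_coeffIdeal, mem_coeffIdeal_one, IsLocalRing.maximalIdeal_eq_bot,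
      Ideal.mem_bot] at hg
    have := mem_varsIdeal_pow_of_coeff_eq_zero 1 g (fun α hα => by
      have h0 : α = 0 := (degree_eq_zero_iff α).1 (by omega)
      subst h0
      rw [coeff_zero_eq_constantCoeff_apply]; exact hg)
    simpa using this
  · rw [maximalIdeal_eq_coeffIdeal]
    exact varsIdeal_le_coeffIdeal_one _

lemma mem_max_pow (n : ℕ) (g : MvPowerSeries σ k)
    (hg : ∀ α : σ →₀ ℕ, degree α < n → coeff α g = 0) :
    g ∈ IsLocalRing.maximalIdeal (MvPowerSeries σ k) ^ n := by
  rw [maximalIdeal_eq_varsIdeal]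
  exact mem_varsIdeal_pow_of_coeff_eq_zero n g hg

section Main
variable (m : ℕ)

local notation "τ" => Option (Fin m ⊕ Fin m)

noncomputable def q : MvPowerSeries τ k :=
  MvPowerSeries.X none ^ 2 +
    ∑ i : Fin m, MvPowerSeries.X (some (Sum.inl i)) * MvPowerSeries.X (some (Sum.inr i))

noncomputable def K : Ideal (MvPowerSeries τ k) :=
  Ideal.span ({MvPowerSeries.X none ^ 2} ∪
        Set.range fun j : Fin m ⊕ Fin m => (MvPowerSeries.X (some j) : MvPowerSeries τ k))

lemma Xsq_mem_K : (X none ^ 2 : MvPowerSeries τ k) ∈ K (k := k) m :=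
  Ideal.subset_span (Or.inl rfl)

lemma Xsome_mem_K (j : Fin m ⊕ Fin m) : (X (some j) : MvPowerSeries τ k) ∈ K (k := k) m :=
  Ideal.subset_span (Or.inr ⟨j, rfl⟩)

/-- products of two variables, with target an ideal containing the needed products -/
lemma max_sq_le (T : Ideal (MvPowerSeries τ k))
    (h0 : (X none ^ 2 : MvPowerSeries τ k) ∈ T)
    (h1 : ∀ (a : τ) (j : Fin m ⊕ Fin m), (X a * X (some j) : MvPowerSeries τ k) ∈ T) :
    IsLocalRing.maximalIdeal (MvPowerSeries τ k) ^ 2 ≤ T := by
  rw [maximalIdeal_eq_varsIdeal, pow_two, varsIdeal, Ideal.span_mul_span', Ideal.span_le]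
  intro x hx
  obtain ⟨_, ⟨a, rfl⟩, _, ⟨b, rfl⟩, rfl⟩ := Set.mem_mul.mp hx
  rcases b with _ | j
  · rcases a with _ | j
    · rw [← pow_two]; exact h0
    · rw [mul_comm]; exact h1 none j
  · exact h1 a j

lemma max_sq_le_K : IsLocalRing.maximalIdeal (MvPowerSeries τ k) ^ 2 ≤ K (k := k) m :=
  max_sq_le m _ (Xsq_mem_K m) (fun a j => Ideal.mul_mem_left _ _ (Xsome_mem_K m j))

lemma X_mem_max (a : τ) : (X a : MvPowerSeries τ k) ∈ IsLocalRing.maximalIdeal (MvPowerSeries τ k) := by
  rw [maximalIdeal_eq_varsIdeal]
  exact Ideal.subset_span ⟨a, rfl⟩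

lemma pderiv_q_none [CharP k 2] : pderiv k none (q (k := k) m) = 0 := by
  unfold q
  rw [map_add, map_sum, pderiv_pow, pderiv_X_self]
  have h2 : ((2 : ℕ) : MvPowerSeries τ k) = 0 := by
    have : ((2 : ℕ) : MvPowerSeries τ k) = C ((2 : ℕ) : k) := (map_natCast C 2).symm
    rw [this, CharP.cast_eq_zero, map_zero]
  rw [h2, zero_mul, zero_mul, zero_add]
  refine Finset.sum_eq_zero fun i _ => ?_
  rw [Derivation.leibniz, pderiv_X_of_ne (by simp), pderiv_X_of_ne (by simp), smul_zero, smul_zero,
    add_zero]

lemma pderiv_q_inl (i : Fin m) :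
    pderiv k (some (Sum.inl i)) (q (k := k) m) = X (some (Sum.inr i)) := by
  classical
  unfold q
  rw [map_add, map_sum, pderiv_pow, pderiv_X_of_ne (by simp), mul_zero, zero_add]
  rw [Finset.sum_eq_single i]
  · rw [Derivation.leibniz, pderiv_X_self, pderiv_X_of_ne (by simp), smul_zero, zero_add,
      smul_eq_mul, mul_one]
  · intro j _ hj
    rw [Derivation.leibniz, pderiv_X_of_ne (by simp), pderiv_X_of_ne (by simpa using hj),
      smul_zero, smul_zero, add_zero]
  · intro h; exact absurd (Finset.mem_univ i) h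

lemma pderiv_q_inr (i : Fin m) :
    pderiv k (some (Sum.inr i)) (q (k := k) m) = X (some (Sum.inl i)) := by
  classical
  unfold q
  rw [map_add, map_sum, pderiv_pow, pderiv_X_of_ne (by simp), mul_zero, zero_add]
  rw [Finset.sum_eq_single i]
  · rw [Derivation.leibniz, pderiv_X_self, pderiv_X_of_ne (by simp), smul_zero, add_zero,
      smul_eq_mul, mul_one]
  · intro j _ hj
    rw [Derivation.leibniz, pderiv_X_of_ne (by simpa using hj), pderiv_X_of_ne (by simp),
      smul_zero, smul_zero, add_zero]
  · intro h; exact absurd (Finset.mem_univ i) h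

theorem part1 [CharP k 2] (f : MvPowerSeries τ k)
    (hf : ∀ d : τ →₀ ℕ, d.degree < 3 → coeff d f = coeff d (q (k := k) m)) :
    Ideal.span ({f} ∪ Set.range fun i : τ => MvPowerSeries.pderiv k i f) = K (k := k) m := by
  classical
  set mI := IsLocalRing.maximalIdeal (MvPowerSeries τ k) with hmI
  set t := f - q (k := k) m with ht
  have hfq : f = q (k := k) m + t := by rw [ht]; ring
  have ht3 : t ∈ mI ^ 3 := by
    refine mem_max_pow 3 t fun α hα => ?_
    rw [ht, map_sub, hf α hα, sub_self]
  have hdt : ∀ s, pderiv k s t ∈ mI ^ 2 := by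
    intro s
    refine mem_max_pow 2 _ fun α hα => ?_
    have h3 : ∀ β : τ →₀ ℕ, degree β < 3 → coeff β t = 0 := by
      intro β hβ
      rw [ht, map_sub, hf β hβ, sub_self]
    rw [coeff_pderiv, h3, zero_mul]
    rw [map_add, Finsupp.degree_single]
    omega
  have hdf : ∀ s, pderiv k s f = pderiv k s (q (k := k) m) + pderiv k s t := by
    intro s; rw [← map_add, ← hfq]
  have h32 : mI ^ 3 ≤ mI ^ 2 := Ideal.pow_le_pow_right (by norm_num)
  have hq_mem : q (k := k) m ∈ K (k := k) m := by
    unfold q
    refine Ideal.add_mem _ (Xsq_mem_K m) (Ideal.sum_mem _ fun i _ => ?_)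
    exact Ideal.mul_mem_left _ _ (Xsome_mem_K m _)
  set L := Ideal.span ({f} ∪ Set.range fun i : τ => MvPowerSeries.pderiv k i f) with hL
  have hfL : f ∈ L := Ideal.subset_span (Or.inl rfl)
  have hdL : ∀ s, pderiv k s f ∈ L := fun s => Ideal.subset_span (Or.inr ⟨s, rfl⟩)
  apply le_antisymm
  · rw [hL, Ideal.span_le]
    rintro x (hx | ⟨s, rfl⟩)
    · rw [Set.mem_singleton_iff] at hx
      subst hx
      rw [SetLike.mem_coe, hfq]
      exact Ideal.add_mem _ hq_mem (max_sq_le_K m (h32 ht3))
    · change pderiv k s f ∈ K (k := k) m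
      rw [hdf]
      refine Ideal.add_mem _ ?_ (max_sq_le_K m (hdt s))
      rcases s with _ | (i | i)
      · rw [pderiv_q_none]; exact Ideal.zero_mem _
      · rw [pderiv_q_inl]; exact Xsome_mem_K m _
      · rw [pderiv_q_inr]; exact Xsome_mem_K m _
  · -- Nakayama
    have hKfg : (K (k := k) m : Submodule _ _).FG := by
      unfold K
      exact Submodule.fg_span ((Set.finite_singleton _).union (Set.finite_range _))
    refine Submodule.le_of_le_smul_of_le_jacobson_bot (I := mI) hKfg
      (IsLocalRing.maximalIdeal_le_jacobson _) ?_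
    have hm3 : mI ^ 3 ≤ mI • K (k := k) m := by
      rw [pow_succ', smul_eq_mul]
      exact Ideal.mul_mono_right (max_sq_le_K m)
    have hprod : ∀ (a : τ) (j : Fin m ⊕ Fin m),
        (X a * X (some j) : MvPowerSeries τ k) ∈ L ⊔ mI • K (k := k) m := by
      intro a j
      refine Submodule.mem_sup_right ?_
      rw [smul_eq_mul]
      exact Ideal.mul_mem_mul (X_mem_max m a) (Xsome_mem_K m j)
    have hXsq : (X none ^ 2 : MvPowerSeries τ k) ∈ L ⊔ mI • K (k := k) m := by
      have : (X none ^ 2 : MvPowerSeries τ k) = f -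
          (∑ i : Fin m, X (some (Sum.inl i)) * X (some (Sum.inr i))) - t := by
        rw [ht]; unfold q; ring
      rw [this]
      refine Submodule.sub_mem _ (Submodule.sub_mem _ (Submodule.mem_sup_left hfL) ?_)
        (Submodule.mem_sup_right (hm3 ht3))
      exact Submodule.sum_mem _ fun i _ => hprod _ _
    have hm2 : mI ^ 2 ≤ L ⊔ mI • K (k := k) m := max_sq_le m _ hXsq hprod
    unfold K
    rw [Ideal.span_le]
    rintro x (hx | ⟨j, rfl⟩)
    · rw [Set.mem_singleton_iff] at hx
      subst hx
      exact hXsq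
    · rcases j with i | i
      · have : (X (some (Sum.inl i)) : MvPowerSeries τ k) =
            pderiv k (some (Sum.inr i)) f - pderiv k (some (Sum.inr i)) t := by
          rw [hdf, pderiv_q_inr]; ring
        change (X (some (Sum.inl i)) : MvPowerSeries τ k) ∈ _
        rw [this]
        exact Submodule.sub_mem _ (Submodule.mem_sup_left (hdL _)) (hm2 (hdt _))
      · have : (X (some (Sum.inr i)) : MvPowerSeries τ k) =
            pderiv k (some (Sum.inl i)) f - pderiv k (some (Sum.inl i)) t := by
          rw [hdf, pderiv_q_inl]; ring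
        change (X (some (Sum.inr i)) : MvPowerSeries τ k) ∈ _
        rw [this]
        exact Submodule.sub_mem _ (Submodule.mem_sup_left (hdL _)) (hm2 (hdt _))


noncomputable def phi : MvPowerSeries τ k →ₗ[k] k × k :=
  (coeff (R := k) (0 : τ →₀ ℕ)).prod (coeff (R := k) (single (none : τ) 1))

lemma phi_apply (g : MvPowerSeries τ k) :
    phi (k := k) m g = (coeff (0 : τ →₀ ℕ) g, coeff (single (none : τ) 1) g) := rfl

lemma phi_surj : Function.Surjective (phi (k := k) m) := by
  classical
  rintro ⟨a, b⟩
  refine ⟨C a + C b * X none, ?_⟩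
  rw [phi_apply]
  refine Prod.ext ?_ ?_
  · change coeff (0 : τ →₀ ℕ) (C a + C b * X none) = a
    rw [map_add, coeff_zero_C, coeff_C_mul, coeff_zero_X, mul_zero, add_zero]
  · change coeff (single (none : τ) 1) (C a + C b * X none) = b
    rw [map_add, coeff_C, if_neg (by simp), coeff_C_mul, coeff_index_single_self_X, mul_one,
      zero_add]

lemma phi_mul_Xsq (a : MvPowerSeries τ k) : phi (k := k) m (a * X none ^ 2) = 0 := by
  classical
  rw [phi_apply, X_pow_eq, coeff_mul_monomial, coeff_mul_monomial, if_neg, if_neg]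
  · rfl
  · intro h
    have := h none
    simp at this
  · intro h
    have := h none
    simp at this

lemma phi_mul_Xsome (a : MvPowerSeries τ k) (j : Fin m ⊕ Fin m) :
    phi (k := k) m (a * X (some j)) = 0 := by
  classical
  rw [phi_apply, X, coeff_mul_monomial, coeff_mul_monomial, if_neg, if_neg]
  · rfl
  · intro h
    have := h (some j)
    simp at this
  · intro h
    have := h (some j)
    simp at this

lemma ker_phi : LinearMap.ker (phi (k := k) m) = (K (k := k) m).restrictScalars k := by
  classical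
  ext g
  rw [LinearMap.mem_ker, Submodule.restrictScalars_mem]
  constructor
  · intro hg
    have h0 : constantCoeff g = 0 := by
      have := congrArg Prod.fst hg
      rw [phi_apply] at this
      simpa using this
    have h1 : coeff (single (none : τ) 1) g = 0 := by
      have := congrArg Prod.snd hg
      rw [phi_apply] at this
      simpa using this
    have hr := sub_linear_mem_coeffIdeal_two (IsLocalRing.maximalIdeal k) g
    rw [coeffIdeal_eq_pow, ← maximalIdeal_eq_coeffIdeal, h0, map_zero, sub_zero] at hr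
    have hg' : g = (g - ∑ i, C (coeff (single i 1) g) * X i) + ∑ i, C (coeff (single i 1) g) * X i := by
      ring
    rw [hg']
    refine Ideal.add_mem _ (max_sq_le_K m hr) ?_
    rw [Fintype.sum_option, h1, map_zero, zero_mul, zero_add]
    exact Ideal.sum_mem _ fun j _ => Ideal.mul_mem_left _ _ (Xsome_mem_K m j)
  · intro hg
    unfold K at hg
    rw [Ideal.span_union, Submodule.mem_sup] at hg
    obtain ⟨y, hy, z, hz, rfl⟩ := hg
    rw [Ideal.mem_span_singleton'] at hy
    obtain ⟨a, rfl⟩ := hy
    rw [Ideal.mem_span_range_iff_exists_fun] at hz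
    obtain ⟨c, rfl⟩ := hz
    rw [map_add, map_sum, phi_mul_Xsq, zero_add]
    exact Finset.sum_eq_zero fun j _ => phi_mul_Xsome m _ j

theorem part2 : Module.finrank k (MvPowerSeries τ k ⧸ K (k := k) m) = 2 := by
  have e1 := LinearMap.quotKerEquivOfSurjective (phi (k := k) m) (phi_surj m)
  have e2 := Submodule.quotEquivOfEq _ _ (ker_phi (k := k) m)
  have e3 := Submodule.Quotient.restrictScalarsEquiv k (K (k := k) m)
  rw [← (e3.symm.trans (e2.symm.trans e1)).finrank_eq.symm]
  simp

end Main
end QuadJac2

end Groth.Agent.S8720.Aux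

namespace Groth.Agent.S8720

/-- The formal computation carried out in its proof: let k be a field of characteristic 2, m a natural
number, and f a power series over k in the variables x_0 and x_i, x_i' (i = 1, ..., m) whose terms
of degree less than 3 are exactly those of x_0^2 + x_1 x_1' + ... + x_m x_m'. Then the ideal
generated by f and all its partial derivatives is the ideal generated by x_0^2 and the x_i, x_i',
and the quotient of the power series ring by this ideal is two-dimensional over k. (Characteristic 2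
is what makes the derivative in x_0 lose its linear term.) -/
theorem result (k : Type u) [Field k] [CharP k 2] (m : ℕ)
    (f : MvPowerSeries (Option (Fin m ⊕ Fin m)) k)
    (hf : ∀ d : Option (Fin m ⊕ Fin m) →₀ ℕ, d.degree < 3 →
      MvPowerSeries.coeff d f = MvPowerSeries.coeff d
        (MvPowerSeries.X none ^ 2 +
          ∑ i : Fin m, MvPowerSeries.X (some (Sum.inl i)) * MvPowerSeries.X (some (Sum.inr i)))) :
    Ideal.span ({f} ∪ Set.range fun i : Option (Fin m ⊕ Fin m) => MvPowerSeries.pderiv k i f) =
      Ideal.span ({MvPowerSeries.X none ^ 2} ∪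
        Set.range fun j : Fin m ⊕ Fin m => (MvPowerSeries.X (some j) : MvPowerSeries (Option (Fin m ⊕ Fin m)) k)) ∧
    Module.finrank k (MvPowerSeries (Option (Fin m ⊕ Fin m)) k ⧸
      Ideal.span ({MvPowerSeries.X none ^ 2} ∪
        Set.range fun j : Fin m ⊕ Fin m => (MvPowerSeries.X (some j) : MvPowerSeries (Option (Fin m ⊕ Fin m)) k))) = 2 := by
  exact ⟨Aux.QuadJac2.part1 m f hf, Aux.QuadJac2.part2 m⟩

end Groth.Agent.S8720
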