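import Groth.Statements.S8724
import Mathlib.Algebra.Ring.GeomSum
import Mathlib.Algebra.BigOperators.NatAntidiagonal
import Mathlib.Data.Nat.Choose.Sum
import Mathlib.Tactic

set_option autoImplicit false
open LefPen

namespace Groth.Agent.S8724

open Finset

variable {R : Type*} [CommRing R]

/-- the two-variable geometric sum -/
noncomputable def G (y z : R) (k : ℕ) : R := ∑ p ∈ antidiagonal k, y ^ p.1 * z ^ p.2

theorem G_mul (y z : R) (k : ℕ) : (y - z) * G y z k = y ^ (k + 1) - z ^ (k + 1) := by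
  unfold G
  rw [Finset.Nat.sum_antidiagonal_eq_sum_range_succ (fun i j => y ^ i * z ^ j) k, mul_comm]
  have := (Commute.all y z).geom_sum₂_mul (k + 1)
  simpa using this

theorem reindex (a m : ℕ) (hm : m < a) (g : ℕ → ℕ → R) :
    ∑ i ∈ range a, ∑ j ∈ range a, (if i + j + 1 ≤ m then g i j else 0) =
      ∑ k ∈ range m, ∑ p ∈ antidiagonal k, g p.1 p.2 := by
  rw [← Finset.sum_product']
  rw [← Finset.sum_filter]
  rw [← Finset.sum_fiberwise_of_maps_to (s := (range a ×ˢ range a).filter (fun p => p.1 + p.2 + 1 ≤ m))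
    (t := range m) (g := fun p => p.1 + p.2)]
  · apply Finset.sum_congr rfl
    intro k hk
    rw [Finset.mem_range] at hk
    apply Finset.sum_congr
    · ext p
      simp only [mem_filter, mem_product, mem_range, mem_antidiagonal]
      omega
    · intros; rfl
  · intro p hp
    simp only [mem_filter, mem_product, mem_range] at hp ⊢
    omega

theorem part1 (y z : R) (m : ℕ) :
    (1 + y) ^ m - (1 + z) ^ m = (y - z) * ∑ k ∈ range m, (m.choose (k + 1) : R) * G y z k := by
  rw [Finset.mul_sum]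
  have h : ∀ k, (y - z) * ((m.choose (k + 1) : R) * G y z k) =
      (m.choose (k + 1) : R) * (y ^ (k + 1) - z ^ (k + 1)) := by
    intro k
    rw [← G_mul]; ring
  simp only [h]
  rw [add_comm 1 y, add_comm 1 z, add_pow, add_pow]
  rw [Finset.sum_range_succ', Finset.sum_range_succ' (fun k => z ^ k * 1 ^ (m - k) * (m.choose k : R))]
  simp only [one_pow, mul_one, pow_zero, Nat.choose_zero_right, Nat.cast_one]
  rw [add_sub_add_right_eq_sub, ← Finset.sum_sub_distrib]
  apply Finset.sum_congr rfl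
  intros; ring

theorem part2 (y z : R) (a : ℕ) :
    (1 + y) ^ (a + 1) * z - (1 + z) ^ (a + 1) * y =
      (y - z) * (-1 + ∑ k ∈ range a, ((a + 1).choose (k + 2) : R) * (y * z * G y z k)) := by
  rw [mul_add, Finset.mul_sum]
  have h : ∀ k, (y - z) * (((a + 1).choose (k + 2) : R) * (y * z * G y z k)) =
      ((a + 1).choose (k + 2) : R) * (y ^ (k + 2) * z - z ^ (k + 2) * y) := by
    intro k
    have := G_mul y z k
    calc (y - z) * (((a + 1).choose (k + 2) : R) * (y * z * G y z k))
        = ((a + 1).choose (k + 2) : R) * (y * z * ((y - z) * G y z k)) := by ring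
      _ = _ := by rw [this]; ring
  simp only [h]
  rw [add_comm 1 y, add_comm 1 z, add_pow, add_pow]
  rw [Finset.sum_range_succ', Finset.sum_range_succ',
    Finset.sum_range_succ' (fun k => z ^ k * 1 ^ (a + 1 - k) * ((a + 1).choose k : R)),
    Finset.sum_range_succ' (fun k => z ^ (k + 1) * 1 ^ (a + 1 - (k + 1)) * ((a + 1).choose (k + 1) : R))]
  simp only [one_pow, mul_one, pow_zero, Nat.choose_zero_right, Nat.cast_one, zero_add, pow_one,
    Nat.choose_one_right]
  have e1 : ∀ (w v : R), (∑ k ∈ range a, w ^ (k + 1 + 1) * ((a + 1).choose (k + 1 + 1) : R)) * v =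
      ∑ k ∈ range a, w ^ (k + 2) * ((a + 1).choose (k + 2) : R) * v := by
    intro w v
    rw [Finset.sum_mul]
  rw [add_mul, add_mul, add_mul, add_mul, e1, e1]
  have e2 : ∑ k ∈ range a, ((a + 1).choose (k + 2) : R) * (y ^ (k + 2) * z - z ^ (k + 2) * y) =
      ∑ k ∈ range a, y ^ (k + 2) * ((a + 1).choose (k + 2) : R) * z -
        ∑ k ∈ range a, z ^ (k + 2) * ((a + 1).choose (k + 2) : R) * y := by
    rw [← Finset.sum_sub_distrib]
    apply Finset.sum_congr rfl
    intros; ring
  rw [e2]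
  ring

theorem result (a : ℕ) (ha : 1 ≤ a) :
    let y : MvPolynomial (Fin 2) ℤ := MvPolynomial.X 0
    let z : MvPolynomial (Fin 2) ℤ := MvPolynomial.X 1
    ((1 + y) ^ (a - 1) - (1 + z) ^ (a - 1) =
      (y - z) * ∑ i ∈ Finset.range a, ∑ j ∈ Finset.range a,
        if i + j + 1 ≤ a - 1 then ((a - 1).choose (i + j + 1) : MvPolynomial (Fin 2) ℤ) * y ^ i * z ^ j else 0) ∧
    ((1 + y) ^ a * z - (1 + z) ^ a * y =
      (y - z) * (-1 + ∑ i ∈ Finset.range (a + 1), ∑ j ∈ Finset.range (a + 1),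
        if 1 ≤ i ∧ 1 ≤ j ∧ i + j ≤ a then (a.choose (i + j) : MvPolynomial (Fin 2) ℤ) * y ^ i * z ^ j else 0)) := by
  intro y z
  obtain ⟨b, rfl⟩ : ∃ b, a = b + 1 := ⟨a - 1, by omega⟩
  simp only [Nat.add_sub_cancel]
  constructor
  · rw [part1 y z b, reindex (b + 1) b (by omega)
      (fun i j => ((b.choose (i + j + 1) : ℕ) : MvPolynomial (Fin 2) ℤ) * y ^ i * z ^ j)]
    congr 1
    apply Finset.sum_congr rfl
    intro k hk
    unfold G
    rw [Finset.mul_sum]
    apply Finset.sum_congr rfl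
    intro p hp
    rw [mem_antidiagonal] at hp
    rw [hp]; ring
  · rw [part2 y z b]
    congr 2
    rw [Finset.sum_range_succ']
    have h0 : (∑ j ∈ Finset.range (b + 1 + 1),
        if 1 ≤ 0 ∧ 1 ≤ j ∧ 0 + j ≤ b + 1 then (((b + 1).choose (0 + j) : ℕ) : MvPolynomial (Fin 2) ℤ) * y ^ 0 * z ^ j
          else 0) = 0 := by
      apply Finset.sum_eq_zero
      intro j _
      rw [if_neg (by omega)]
    rw [h0, add_zero]
    have h1 : ∀ i ∈ range (b + 1), (∑ j ∈ Finset.range (b + 1 + 1),
        if 1 ≤ i + 1 ∧ 1 ≤ j ∧ i + 1 + j ≤ b + 1 then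
          (((b + 1).choose (i + 1 + j) : ℕ) : MvPolynomial (Fin 2) ℤ) * y ^ (i + 1) * z ^ j else 0) =
        ∑ j ∈ Finset.range (b + 1), if i + j + 1 ≤ b then
          (((b + 1).choose (i + j + 2) : ℕ) : MvPolynomial (Fin 2) ℤ) * y ^ (i + 1) * z ^ (j + 1) else 0 := by
      intro i _
      rw [Finset.sum_range_succ', if_neg (by omega), add_zero]
      apply Finset.sum_congr rfl
      intro j _
      by_cases h : i + j + 1 ≤ b
      · rw [if_pos h, if_pos (by omega)]
        have : i + 1 + (j + 1) = i + j + 2 := by omega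
        rw [this]
      · rw [if_neg h, if_neg (by omega)]
    rw [Finset.sum_congr rfl h1, reindex (b + 1) b (by omega)
      (fun i j => (((b + 1).choose (i + j + 2) : ℕ) : MvPolynomial (Fin 2) ℤ) * y ^ (i + 1) * z ^ (j + 1))]
    apply Finset.sum_congr rfl
    intro k hk
    unfold G
    rw [Finset.mul_sum, Finset.mul_sum]
    apply Finset.sum_congr rfl
    intro p hp
    rw [mem_antidiagonal] at hp
    rw [hp]; ring

end Groth.Agent.S8724
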