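import Groth.Statements.S8729
import Groth.Agent.Lib.Helper13ArSurfDeg
-- import your own Groth.Agent.* helpers here

set_option autoImplicit false
universe u
open CategoryTheory CategoryTheory.Limits AlgebraicGeometry
open ArSurf

namespace Groth.Agent.S8729

/-- For a vertical prime divisor: let R be a discrete valuation ring, X an arithmetic surface over Spec
R (regular, integral, of dimension 2, flat and projective), Γ a vertical prime divisor of X over the
closed point with ideal sheaf I, N = I/I^2 its conormal sheaf (an invertible O_Γ-module) and L an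
O_X-module with L ⊗ I ≅ O_X (L = O_X(Γ)). Then the self-intersection number (Γ · Γ) = deg_k(L|_Γ)
equals -deg_k(N), degrees over the residue field k being differences of Euler characteristics. -/
theorem result (R : Type u) [CommRing R] [IsDomain R] [IsDiscreteValuationRing R]
    (X : Over (Spec (CommRingCat.of R))) (hX : ArSurf.IsArithSurface R X) (Γ : ArSurf.VertComp R X)
    (L : X.left.Modules) (hL : ClSub.IsInverseOf L (ClSub.idealMod Γ.ι.ker)) :
    ArSurf.inter R X L Γ =
      - ArSurf.curveDeg (IsLocalRing.ResidueField R) Γ.curve.left (Omega.conormal Γ.ι) := by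
  obtain ⟨e⟩ := hL
  have e' := Groth.Agent.Lib.Helper13.ArSurfDeg.pullTensorIso Γ.ι L (ClSub.idealMod Γ.ι.ker) e
  haveI := Groth.Agent.Lib.Helper13.ArSurfDeg.isProper_curve R X hX Γ
  have h := Groth.Agent.Lib.Helper13.ArSurfDeg.deg_add_deg_eq_zero (IsLocalRing.ResidueField R)
    Γ.curve.left Γ.dim_eq.le _ _ e'
  unfold ArSurf.inter
  rw [Groth.Agent.Lib.Helper13.ArSurfDeg.curveDeg_eq R X hX Γ,
    Groth.Agent.Lib.Helper13.ArSurfDeg.curveDeg_eq R X hX Γ]
  change Curv2.deg _ _ ((Scheme.Modules.pullback Γ.ι).obj L) 1 =
    - Curv2.deg _ _ ((Scheme.Modules.pullback Γ.ι).obj (ClSub.idealMod Γ.ι.ker)) 1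
  linarith

end Groth.Agent.S8729
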