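import Groth.Statements.S8731
import Groth.Agent.Lib.Helper4HypCoh2

set_option autoImplicit false
universe u
open CategoryTheory CategoryTheory.Limits AlgebraicGeometry
open LefPen

namespace Groth.Agent.S8731

/-- (iv), the assertions on the structure sheaf: let k be an algebraically closed field, n >= 1, and Q a
quadratic form in n + 2 variables whose zero scheme X = V(Q) ⊂ P^{n+1}_k is smooth over k of
relative dimension n (a smooth quadric of dimension n). Then H^i(X, O_X) = 0 for every i >= 1, and
the structure map identifies k with H^0(X, O_X). (The published item also computes H^1(X, O_X(1)),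
the canonical sheaf and the Picard group, not stated here.) -/
theorem result (k : Type u) [Field k] [IsAlgClosed k] (n : ℕ) (hn : 1 ≤ n)
    (Q : LefPen.Form (n + 1) k 2)
    [SmoothOfRelativeDimension n ((LefPen.hypIdeal Q).subschemeι ≫ CohB1.ProjSpace.toSpec (n + 1) k)] :
    (∀ i : ℕ, 1 ≤ i → Subsingleton (Coh.HH (LefPen.hypIdeal Q).subscheme
        (Coh.structureModule (LefPen.hypIdeal Q).subscheme) i)) ∧
      Function.Bijective ((LefPen.hypIdeal Q).subschemeι ≫ CohB1.ProjSpace.toSpec (n + 1) k).appTop.hom := by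
  let inst : ((LefPen.hypIdeal Q).subscheme).Over (Spec (CommRingCat.of k)) :=
    ⟨(LefPen.hypIdeal Q).subschemeι ≫ CohB1.ProjSpace.toSpec (n + 1) k⟩
  have hinst : (LefPen.hypIdeal Q).subscheme ↘ Spec (CommRingCat.of k) =
      (LefPen.hypIdeal Q).subschemeι ≫ CohB1.ProjSpace.toSpec (n + 1) k := rfl
  have key : (∀ p : ℕ, 1 ≤ p → Subsingleton (Coh.HH (LefPen.hypIdeal Q).subscheme
      (Coh.structureModule (LefPen.hypIdeal Q).subscheme) p)) ∧
      Module.finrank k (Coh.HH (LefPen.hypIdeal Q).subscheme
        (Coh.structureModule (LefPen.hypIdeal Q).subscheme) 0) = 1 := by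
    by_cases hQ : Q = 0
    · exact Groth.Agent.Lib.Helper4.HypIdeal.bot_cohomology k (n + 1) (by omega) (LefPen.hypIdeal Q)
        (by rw [hQ]; exact Groth.Agent.Lib.Helper4.HypIdeal.hypIdeal_zero k (n + 1) 2) hinst
    · obtain ⟨h1, ⟨-, r0⟩, ⟨fn, rn⟩⟩ :=
        Groth.Agent.Lib.Helper4.HypIdeal.hyp_cohomology k n 2 hn (by norm_num) Q hQ hinst
      refine ⟨fun p hp => ?_, r0⟩
      by_cases hpn : p = n
      · subst hpn
        have h0 : Nat.choose (2 - 1) (p + 1) = 0 := Nat.choose_eq_zero_of_lt (by omega)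
        rw [h0] at rn
        have := fn
        exact Module.finrank_zero_iff.mp rn
      · exact h1 p (by omega) hpn
  refine ⟨fun i hi => key.1 i hi, ?_⟩
  apply Groth.Agent.Lib.Helper4.HypIdeal.bijective_appTop_of_finrank_eq_one k
  have h2 := Groth.Agent.Lib.Helper27PushLin.finrank_HH_push (LefPen.hypIdeal Q).subschemeι
    hinst.symm (Coh.structureModule (LefPen.hypIdeal Q).subscheme) 0
  rw [key.2, Groth.Agent.Lib.Helper4.CurvePt.finrank_hh0_push (LefPen.hypIdeal Q).subschemeι k] at h2
  exact h2.symm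

end Groth.Agent.S8731
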