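import Groth.Statements.S8754
import Mathlib
import Groth.Agent.Lib.Helper23PshModGroth
-- import your own Groth.Agent.* helpers here

set_option autoImplicit false
universe u
open CategoryTheory Limits
open Adeq

namespace Groth.Agent.S8754

/-- The category of module-valued functors on `A`-algebras has enough injectives (it is a category of
presheaves of modules). -/
theorem result (A : Type u) [CommRing A] : EnoughInjectives (Adeq.MVF A) :=
  Groth.Agent.Lib.Helper23PshModGroth.enoughInjectives (Adeq.ringOf A)

end Groth.Agent.S8754
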