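import Groth.Statements.S8767
import Groth.Agent.Lib.Helper13AdeqTfae
import Mathlib.Tactic.TFAE
-- import your own Groth.Agent.* helpers here

set_option autoImplicit false
universe u
open CategoryTheory Limits AlgebraicGeometry
open Adeq

namespace Groth.Agent.S8767

/-- For an adequate `O`-module `M` on the big fppf site of `S` the following are equivalent: `M` is
parasitic; `M` is parasitic for the fppf topology; `M(U) = 0` for every open `U ⊂ S`; `M(U_i) = 0`
for the members of some affine open covering `S = ⋃ U_i`. (The published statement has a fifth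
equivalent condition, the vanishing of the quasi-coherent module obtained by restriction to the
small Zariski site; it is not included here.) -/
theorem result (S : Scheme.{u}) (M : BigSite.Mod Scheme.fppfPrecoverage S)
    (hM : Adeq.adequateMod Scheme.fppfPrecoverage S M) :
    List.TFAE [Adeq.parasitic Scheme.fppfPrecoverage S M, Adeq.parasiticFor Scheme.fppfPrecoverage S M,
      ∀ U : S.Opens, Subsingleton (BigSite.sectMod Scheme.fppfPrecoverage M ((BigSite.zarIncl S).obj U)),
      ∃ (ι : Type u) (U : ι → S.Opens), (∀ i, IsAffineOpen (U i)) ∧ (⨆ i, U i) = ⊤ ∧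
        ∀ i, Subsingleton (BigSite.sectMod Scheme.fppfPrecoverage M ((BigSite.zarIncl S).obj (U i)))] := by
  have hobj : ∀ U : S.Opens, (BigSite.zarIncl S).obj U = Over.mk U.ι := fun U => rfl
  tfae_have 1 → 2 := by
    intro h P hP V g hg
    exact h (Over.mk g) (hP.2 hg).1
  tfae_have 2 → 3 := by
    intro h U
    let Xb : Bool → Scheme.{u} := fun b => cond b (U : Scheme.{u}) S
    let fb : ∀ b, Xb b ⟶ S := fun b => match b with
      | true => U.ι
      | false => 𝟙 S
    have hmem : Presieve.ofArrows Xb fb ∈ Scheme.fppfPrecoverage.coverings S := by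
      change Presieve.ofArrows Xb fb ∈ Scheme.precoverage Groth.Agent.Helper13Adeq.Fppf.PP S
      rw [Scheme.ofArrows_mem_precoverage_iff]
      refine ⟨fun x => ⟨false, x, rfl⟩, fun b => ?_⟩
      cases b
      · exact Groth.Agent.Helper13Adeq.Fppf.PP_of_isOpenImmersion (𝟙 S)
      · exact Groth.Agent.Helper13Adeq.Fppf.PP_of_isOpenImmersion U.ι
    have := h hmem (fb true) (Presieve.ofArrows.mk true)
    rw [hobj]
    exact this
  tfae_have 3 → 4 := by
    intro h
    exact ⟨S.affineOpens, fun i => i.1, fun i => i.2, iSup_affineOpens_eq_top S, fun i => h i.1⟩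
  tfae_have 4 → 1 := by
    rintro ⟨ι, U, hU, hcov, hz⟩
    exact Groth.Agent.Helper13Adeq.Fppf.parasitic_of_affine_cover M hM U hU hcov
      (fun i => by
        have := hz i
        rw [hobj] at this
        exact this)
  tfae_finish

end Groth.Agent.S8767
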