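import Groth.Statements.S8769
import Mathlib
import Groth.Agent.Lib.Helper13Pure
-- import your own Groth.Agent.* helpers here

set_option autoImplicit false
universe u
open PureExt

namespace Groth.Agent.S8769

/-- An `R`-module `P` is pure projective (every linear map `P → N` lifts along every surjection `L → N`
for which `0 → ker → L → N → 0` is universally exact, i.e. whose kernel inclusion is universally
injective) if and only if `P` is a direct summand of a direct sum of finitely presented `R`-modules. -/
theorem result (R : Type u) [CommRing R]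
    (P : Type u) [AddCommGroup P] [Module R P] :
    (∀ ⦃L N : Type u⦄ [AddCommGroup L] [Module R L] [AddCommGroup N] [Module R N] (g : L →ₗ[R] N),
        Function.Surjective g → CAlgX.UniversallyInjective R (LinearMap.ker g).subtype →
        ∀ φ : P →ₗ[R] N, ∃ ψ : P →ₗ[R] L, g ∘ₗ ψ = φ) ↔
    ∃ (ι : Type u) (Q : ι → Type u) (_ : ∀ i, AddCommGroup (Q i)) (_ : ∀ i, Module R (Q i)),
      (∀ i, Module.FinitePresentation R (Q i)) ∧
      ∃ (s : P →ₗ[R] (Π₀ i, Q i)) (r : (Π₀ i, Q i) →ₗ[R] P), r ∘ₗ s = LinearMap.id := by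
  classical
  constructor
  · intro h
    obtain ⟨ψ, hψ⟩ := h (Helper13Pure.cov R P) Helper13Pure.cov_surjective
      (Helper13Pure.univInj_of_equational _ (Submodule.injective_subtype _)
        Helper13Pure.cov_equational) LinearMap.id
    exact ⟨Helper13Pure.Idx R P, Helper13Pure.QQ R P, fun _ => inferInstance,
      fun _ => inferInstance, Helper13Pure.QQ_fp R P, ψ, Helper13Pure.cov R P, hψ⟩
  · rintro ⟨ι, Q, iG, iM, hfp, s, r, hrs⟩ L N _ _ _ _ g hg hpure φ
    have heq := Helper13Pure.equational_of_univInj _ hpure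
    have hlift : ∀ i : ι, ∃ ψ : Q i →ₗ[R] L, g ∘ₗ ψ =
        φ ∘ₗ r ∘ₗ (DFinsupp.lsingle (R := R) (M := Q) i) := by
      intro i
      haveI := hfp i
      exact Helper13Pure.exists_lift_of_equational g hg heq _
    choose ψ hψ using hlift
    refine ⟨(DFinsupp.lsum (R := R) (M := Q) (N := L) ℕ ψ) ∘ₗ s, ?_⟩
    have h1 : g ∘ₗ (DFinsupp.lsum (R := R) (M := Q) (N := L) ℕ ψ) = φ ∘ₗ r := by
      apply DFinsupp.lhom_ext'
      intro i
      apply LinearMap.ext
      intro x
      have := LinearMap.congr_fun (hψ i) x
      simp only [LinearMap.comp_apply] at this ⊢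
      rw [DFinsupp.lsingle_apply, DFinsupp.lsum_single]
      rw [DFinsupp.lsingle_apply] at this
      exact this
    rw [← LinearMap.comp_assoc, h1, LinearMap.comp_assoc, hrs, LinearMap.comp_id]

end Groth.Agent.S8769
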