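import Groth.Statements.S8799
import Groth.Agent.Lib.Helper8EssConst
import Groth.Agent.S0817

set_option autoImplicit false
universe u
open CategoryTheory Opposite
open LocCoh

namespace Groth.Agent.S8799

/-- Let (A, m) be a Noetherian local ring, (M_n) an inverse system of finite A-modules, and M a finite
A-module with a compatible system of maps M → M_n. Suppose that for some i the induced map H^i_m(M)
→ lim H^i_m(M_n) on local cohomology is bijective, in the sense that an element of H^i_m(M)
vanishing in every H^i_m(M_n) is zero and every compatible family in the H^i_m(M_n) comes from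
H^i_m(M). We conclude that, taking the cone formed by the given maps, essential constancy holds for
the local cohomology system (H^i_m(M_n))_n, and the value it stabilizes at is H^i_m(M). -/
theorem result (A : Type u) [CommRing A] [IsNoetherianRing A] [IsLocalRing A] (Msys : ℕᵒᵖ ⥤ ModuleCat.{u} A) (hfin : ∀ n : ℕᵒᵖ, Module.Finite A (Msys.obj n)) (M : Type u) [AddCommGroup M] [Module A M] [Module.Finite A M] (c : (Functor.const ℕᵒᵖ).obj (ModuleCat.of A M) ⟶ Msys) (i : ℕ) (Hc : (Functor.const ℕᵒᵖ).obj ((localCohomology (IsLocalRing.maximalIdeal A) i).obj (ModuleCat.of A M)) ⟶ Msys ⋙ localCohomology (IsLocalRing.maximalIdeal A) i) (hHc : ∀ n : ℕᵒᵖ, Hc.app n = (localCohomology (IsLocalRing.maximalIdeal A) i).map (c.app n)) (hinj : ∀ x : (localCohomology (IsLocalRing.maximalIdeal A) i).obj (ModuleCat.of A M), (∀ n : ℕᵒᵖ, (Hc.app n) x = 0) → x = 0) (hsurj : ∀ y : (∀ n : ℕ, (localCohomology (IsLocalRing.maximalIdeal A) i).obj (Msys.obj (op n))), (∀ (n m : ℕ) (h : n ≤ m), ((localCohomology (IsLocalRing.maximalIdeal A) i).map (Msys.map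 (homOfLE h).op)) (y m) = y n) → ∃ x : (localCohomology (IsLocalRing.maximalIdeal A) i).obj (ModuleCat.of A M), ∀ n : ℕ, (Hc.app (op n)) x = y n) : DerCA.IsEssConstant (Msys ⋙ localCohomology (IsLocalRing.maximalIdeal A) i) ((localCohomology (IsLocalRing.maximalIdeal A) i).obj (ModuleCat.of A M)) Hc := by
  let G := localCohomology (IsLocalRing.maximalIdeal A) i
  have hArtH : IsArtinian A (G.obj (ModuleCat.of A M)) := Groth.Agent.S0817.result A M i
  have hArtn : ∀ n : ℕ, IsArtinian A (G.obj (Msys.obj (op n))) := by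
    intro n
    have := hfin (op n)
    exact Groth.Agent.S0817.result A (Msys.obj (op n)) i
  have hid : ∀ n : ℕ, (homOfLE (le_refl n)).op = 𝟙 (op n) := fun n => Subsingleton.elim _ _
  have hcomp : ∀ (n m k : ℕ) (h1 : n ≤ m) (h2 : m ≤ k),
      (homOfLE h2).op ≫ (homOfLE h1).op = (homOfLE (h1.trans h2)).op :=
    fun n m k h1 h2 => Subsingleton.elim _ _
  let cc : ∀ n : ℕ, G.obj (ModuleCat.of A M) ⟶ G.obj (Msys.obj (op n)) := fun n => Hc.app (op n)
  obtain ⟨i', s, hs1, hs2⟩ := Groth.Agent.Lib.Helper8.EssConst.main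
    (H := G.obj (ModuleCat.of A M)) (Hn := fun n => G.obj (Msys.obj (op n)))
    (fun n m h => (G.map (Msys.map (homOfLE h).op)).hom)
    (by
      intro n x
      change (G.map (Msys.map (homOfLE (le_refl n)).op)).hom x = x
      rw [hid n, CategoryTheory.Functor.map_id, CategoryTheory.Functor.map_id]
      rfl)
    (by
      intro n m k h1 h2 x
      change (G.map (Msys.map (homOfLE h1).op)).hom ((G.map (Msys.map (homOfLE h2).op)).hom x) =
        (G.map (Msys.map (homOfLE (h1.trans h2)).op)).hom x
      rw [← hcomp n m k h1 h2, CategoryTheory.Functor.map_comp, CategoryTheory.Functor.map_comp]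
      rfl)
    (fun n => (cc n).hom)
    (by
      intro n m h x
      have hnat := Hc.naturality (homOfLE h).op
      have h2 := congrArg (fun φ => φ.hom x) hnat
      exact h2.symm)
    (fun x hx => hinj x (fun n => hx n.unop))
    (fun y hy => hsurj y hy)
  refine ⟨i', ModuleCat.ofHom s, ?_, ?_⟩
  · apply ModuleCat.hom_ext
    apply LinearMap.ext
    intro x
    exact hs1 x
  · intro j
    obtain ⟨k, hi, hj, hk⟩ := hs2 j
    refine ⟨k, hi, hj, ?_⟩
    apply ModuleCat.hom_ext
    apply LinearMap.ext
    intro z
    exact hk z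

end Groth.Agent.S8799
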