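import Groth.Statements.S8801
import Groth.Agent.Lib.Helper14ComplEquiv
import Groth.Agent.Lib.Helper26HzNoeth
import Groth.Agent.Lib.Helper26PairHzMore

set_option autoImplicit false
set_option linter.unusedVariables false
set_option linter.style.haveILetI false
universe u
open AdicRing

namespace Groth.Agent.S8801

open Groth.Agent.Lib.Helper26.PairHz Groth.Agent.Lib.Helper18ColimSys
  Groth.Agent.Lib.Helper14.ComplEquiv

/-- the étale-neighbourhood step, with the neighbourhood as an explicit type. -/
theorem aux (A : Type u) [CommRing A] [IsNoetherianRing A] (I : Ideal A) (C : Type u) [CommRing C]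
    [Algebra A C] [Algebra.FiniteType A C] (Ch : Type u) [CommRing Ch] [Algebra C Ch]
    [Algebra A Ch] [IsScalarTower A C Ch]
    (hCh : Hens2.IsPairHenselization C (I.map (algebraMap A C)) Ch) (J : Ideal Ch)
    (C' : Type u) [CommRing C'] [Algebra C C'] [Algebra A C'] [IsScalarTower A C C']
    [Algebra.FiniteType C C']
    (hC' : IsNbhd (I.map (algebraMap A C)) C') (ρ : C' →ₐ[C] Ch)
    (J' : Ideal C') (hJ : J = J'.map ρ.toRingHom) :
    ∃ (B : Type u) (_ : CommRing B) (_ : Algebra A B), Algebra.FiniteType A B ∧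
      Nonempty (AdicCompletion (I.map (algebraMap A B)) B ≃ₐ[A]
        AdicCompletion (I.map (algebraMap A (Ch ⧸ J))) (Ch ⧸ J)) := by
  letI : Algebra C' Ch := ρ.toRingHom.toAlgebra
  haveI : IsScalarTower C C' Ch := IsScalarTower.of_algebraMap_eq (fun c => (ρ.commutes c).symm)
  haveI : IsScalarTower A C' Ch := by
    refine IsScalarTower.of_algebraMap_eq (fun a => ?_)
    rw [IsScalarTower.algebraMap_apply A C Ch, IsScalarTower.algebraMap_apply A C C',
      IsScalarTower.algebraMap_apply C C' Ch]
  have hCh' : Hens2.IsPairHenselization C' ((I.map (algebraMap A C)).map (algebraMap C C')) Ch :=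
    isPairHenselization_of_nbhd hCh hC'
  have hK' : (I.map (algebraMap A C)).map (algebraMap C C') = I.map (algebraMap A C') :=
    map_map_tower I
  rw [hK'] at hCh'
  let ρA : C' →ₐ[A] Ch := IsScalarTower.toAlgHom A C' Ch
  have hρA : ∀ c, ρA c = ρ c := fun c => rfl
  have hlev : LevelBij I ρA := by
    have hideal : ∀ n, ((I.map (algebraMap A C')) ^ n).map (algebraMap C' Ch) =
        (I.map (algebraMap A Ch)) ^ n := by
      intro n
      rw [Ideal.map_pow, map_map_tower I]
    refine ⟨?_, ?_⟩
    · intro n s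
      obtain ⟨z, hz⟩ := (quotientMap_pow_bijective hCh' n).2 (Ideal.Quotient.mk _ s)
      obtain ⟨r, rfl⟩ := Ideal.Quotient.mk_surjective z
      refine ⟨r, ?_⟩
      rw [Ideal.quotientMap_mk, Ideal.Quotient.eq, hideal] at hz
      rw [← neg_sub]
      exact neg_mem hz
    · intro n r hr
      have h0 : Ideal.quotientMap (((I.map (algebraMap A C')) ^ n).map (algebraMap C' Ch))
          (algebraMap C' Ch) Ideal.le_comap_map (Ideal.Quotient.mk _ r) = 0 := by
        rw [Ideal.quotientMap_mk, Ideal.Quotient.eq_zero_iff_mem, hideal]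
        exact hr
      have h1 := (quotientMap_pow_bijective hCh' n).1 (h0.trans (map_zero _).symm)
      exact Ideal.Quotient.eq_zero_iff_mem.mp h1
  have hle : J' ≤ J.comap ρA := by
    rw [hJ]
    exact Ideal.le_comap_map
  have hlevQ := levelBij_quotient I ρA hlev J' J hJ hle
  refine ⟨C' ⧸ J', inferInstance, inferInstance, ?_, nonempty_algEquiv_of_levelBij I _ hlevQ⟩
  haveI : Algebra.FiniteType A C' :=
    Algebra.FiniteType.trans (R := A) (S := C) (A := C') inferInstance inferInstance
  infer_instance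

/-- Let A be a Noetherian ring and I an ideal. Let C be an A-algebra of finite type and Cʰ a
henselization of the pair (C, IC), viewed as an A-algebra through C, and let J be an ideal of Cʰ.
Then there is an A-algebra B of finite type whose IB-adic completion is isomorphic as an A-algebra
to the I(Cʰ/J)-adic completion of Cʰ/J (existence of an isomorphism only; the published statement
names no particular map). -/
theorem result (A : Type u) [CommRing A] [IsNoetherianRing A] (I : Ideal A) (C : Type u) [CommRing C] [Algebra A C] [Algebra.FiniteType A C] (Ch : Type u) [CommRing Ch] [Algebra C Ch] [Algebra A Ch] [IsScalarTower A C Ch] (hCh : Hens2.IsPairHenselization C (I.map (algebraMap A C)) Ch) (J : Ideal Ch) : ∃ (B : Type u) (_ : CommRing B) (_ : Algebra A B), Algebra.FiniteType A B ∧ Nonempty (AdicCompletion (I.map (algebraMap A B)) B ≃ₐ[A] AdicCompletion (I.map (algebraMap A (Ch ⧸ J))) (Ch ⧸ J)) := by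
  haveI : IsNoetherianRing C := Algebra.FiniteType.isNoetherianRing A C
  haveI : IsNoetherianRing Ch :=
    Groth.Agent.Lib.Helper26.HzNoeth.isNoetherianRing_of_isPairHenselization hCh
  obtain ⟨ρ, hS⟩ := exists_sys_of_isPairHenselization hCh
  obtain ⟨s, hs⟩ := (isNoetherianRing_iff_ideal_fg Ch).mp inferInstance J
  obtain ⟨i₀⟩ := hS.nonempty
  obtain ⟨j, φ, hφ, x, hx⟩ := hS.lift_fun i₀ (fun k : s => (k : Ch))
  let ρj : (MvPolynomial (Fin j.n) C ⧸ j.J) →ₐ[C] Ch := ρ j
  let xj : s → (MvPolynomial (Fin j.n) C ⧸ j.J) := x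
  have hxj : ∀ k, ρj (xj k) = (k : Ch) := hx
  haveI : Algebra.FiniteType C (MvPolynomial (Fin j.n) C ⧸ j.J) := inferInstance
  refine aux A I C Ch hCh J (MvPolynomial (Fin j.n) C ⧸ j.J) j.nbhd ρj
    (Ideal.span (Set.range xj)) ?_
  rw [Ideal.map_span, ← hs]
  congr 1
  ext y
  constructor
  · intro hy
    exact ⟨xj ⟨y, hy⟩, ⟨⟨y, hy⟩, rfl⟩, hxj ⟨y, hy⟩⟩
  · rintro ⟨_, ⟨k, rfl⟩, rfl⟩
    rw [show ρj.toRingHom (xj k) = ρj (xj k) from rfl, hxj k]
    exact k.2

end Groth.Agent.S8801
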