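import Groth.Statements.S8803
import Groth.Agent.S0817

set_option autoImplicit false
universe u
open CategoryTheory
open LocCoh

namespace Groth.Agent.S8803

open CategoryTheory.Limits Opposite

section Helpers

variable {A : Type u} [CommRing A]

/-- The subobject attached to a submodule. -/
noncomputable def subOf {Z : ModuleCat.{u} A} (S : Submodule A Z) : Subobject Z :=
  Subobject.mk (ModuleCat.ofHom S.subtype)

theorem imageSubobject_eq_subOf {X Z : ModuleCat.{u} A} (f : X ⟶ Z) :
    imageSubobject f = subOf (LinearMap.range f.hom) := by
  unfold subOf imageSubobject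
  exact Subobject.mk_eq_mk_of_comm _ _ (ModuleCat.imageIsoRange f)
    (ModuleCat.imageIsoRange_hom_subtype f)

theorem isML_of_isArtinian (X : ARSys.PS (ModuleCat.{u} A))
    (h : ∀ n : ℕ, IsArtinian A (X.obj (op n))) : ARSys.IsML X := by
  intro n
  have hn := h n
  let g : ℕ →o (Submodule A (X.obj (op n)))ᵒᵈ :=
    { toFun := fun s => OrderDual.toDual (LinearMap.range (ARSys.shiftMap X s n).hom)
      monotone' := by
        intro s t hst
        show LinearMap.range (X.map (homOfLE (Nat.le_add_right n t)).op).hom ≤
          LinearMap.range (X.map (homOfLE (Nat.le_add_right n s)).op).hom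
        have hcomp : X.map (homOfLE (Nat.le_add_right n t)).op =
            X.map (homOfLE (Nat.add_le_add_left hst n)).op ≫
              X.map (homOfLE (Nat.le_add_right n s)).op := by
          rw [← X.map_comp]
          rfl
        rw [hcomp, ModuleCat.hom_comp]
        exact LinearMap.range_comp_le_range _ _ }
  obtain ⟨r, hr⟩ := IsArtinian.monotone_stabilizes g
  refine ⟨r, fun s hs => ?_⟩
  rw [imageSubobject_eq_subOf, imageSubobject_eq_subOf]
  have := hr s hs
  exact congrArg subOf (OrderDual.toDual.injective this).symm

end Helpers

/-- Let (A, m) be a Noetherian local ring and (M_n) an inverse system of finite A-modules. Then for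
every i the inverse system H^i_m(M_n) of local cohomology modules satisfies the Mittag-Leffler
condition. -/
theorem result (A : Type u) [CommRing A] [IsNoetherianRing A] [IsLocalRing A] (Msys : ℕᵒᵖ ⥤ ModuleCat.{u} A) (hfin : ∀ n : ℕᵒᵖ, Module.Finite A (Msys.obj n)) (i : ℕ) : ARSys.IsML (Msys ⋙ localCohomology (IsLocalRing.maximalIdeal A) i) := by
  apply isML_of_isArtinian
  intro n
  have := hfin (op n)
  exact Groth.Agent.S0817.result A (Msys.obj (op n)) i

end Groth.Agent.S8803
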