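import Groth.Statements.S8812
-- import your own Groth.Agent.* helpers here

set_option autoImplicit false
universe u
open CategoryTheory AlgebraicGeometry
open Algz

namespace Groth.Agent.S8812

section helpers

variable {Y : Type u} [TopologicalSpace Y]

theorem codimPt_congr {w v w' v' : Y} (h : w ⤳ v) (h' : w' ⤳ v') (hw : w = w') (hv : v = v') :
    Algz.codimPt w v h = Algz.codimPt w' v' h' := by
  subst hw; subst hv; rfl

theorem codimPt_self (v : Y) (h : v ⤳ v) : Algz.codimPt v v h = 0 := by
  unfold Algz.codimPt
  rw [Order.height_eq_zero]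
  intro b _
  exact b.2

theorem one_le_codimPt [T0Space Y] (w v : Y) (h : w ⤳ v) (hne : w ≠ v) :
    1 ≤ Algz.codimPt w v h := by
  unfold Algz.codimPt
  rw [Order.one_le_iff_ne_zero, Order.height_ne_zero]
  intro hmin
  have hb : (⟨Specialization.toEquiv v, Set.mem_Ici.mpr le_rfl⟩ :
      Set.Ici (Specialization.toEquiv v)) ≤
      ⟨Specialization.toEquiv w, Specialization.toEquiv_le_toEquiv.mpr h⟩ :=
    Specialization.toEquiv_le_toEquiv.mpr h
  have := hmin hb
  have h2 : v ⤳ w := Specialization.toEquiv_le_toEquiv.mp this
  exact hne ((h.antisymm h2).eq)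

theorem eq_of_codimPt_eq_zero [T0Space Y] (w v : Y) (h : w ⤳ v) (h0 : Algz.codimPt w v h = 0) :
    w = v := by
  by_contra hne
  have := one_le_codimPt w v h hne
  rw [h0] at this
  exact absurd this (by simp)

theorem codimPt_mono_right (w v v' : Y) (h : w ⤳ v) (h' : v ⤳ v') :
    Algz.codimPt w v h ≤ Algz.codimPt w v' (h.trans h') := by
  unfold Algz.codimPt
  let f : Set.Ici (Specialization.toEquiv v) → Set.Ici (Specialization.toEquiv v') :=
    fun x => ⟨x.1, le_trans (Specialization.toEquiv_le_toEquiv.mpr h') x.2⟩
  have hf : StrictMono f := fun a b hab => hab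
  exact Order.height_le_height_apply_of_strictMono f hf _

end helpers

section systems

variable {Y : Type u} [TopologicalSpace Y] {Z : Set Y} {y : Y} {k : ℕ}

/-- the partial sums of the `c` -/
noncomputable def Csum (S : Algz.DSystem Z y k) (i : Fin (k + 1)) : ℕ∞ :=
  ∑ j ∈ Finset.univ.filter (fun j : Fin (k + 1) => i ≤ j), S.c j

/-- the partial sums of the `b` -/
noncomputable def Bsum (S : Algz.DSystem Z y k) (i : Fin (k + 1)) : ℕ∞ :=
  ∑ j ∈ Finset.univ.filter (fun j : Fin k => i.val ≤ j.val), S.b j

theorem delta_eq (S : Algz.DSystem Z y k) :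
    S.delta = (k : ℕ∞) + Finset.univ.sup fun i : Fin (k + 1) => Csum S i - Bsum S i := rfl

/-- comparison of two systems of the same length -/
theorem delta_le_of_le {y' : Y} (S : Algz.DSystem Z y k) (S' : Algz.DSystem Z y' k)
    (hc : ∀ j, S'.c j ≤ S.c j) (hb : ∀ j, S.b j ≤ S'.b j) : S'.delta ≤ S.delta := by
  rw [delta_eq, delta_eq]
  gcongr with i _
  · unfold Csum
    exact Finset.sum_le_sum fun j _ => hc j
  · unfold Bsum
    exact Finset.sum_le_sum fun j _ => hb j

end systems

section constructions

variable {Y : Type u} [TopologicalSpace Y] [T0Space Y] {Z : Set Y} {y : Y} {k : ℕ}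

/-- Case I: the last pair is degenerate; replace it by the closure of `y'`. -/
theorem caseI (hZ : IsClosed Z) (S : Algz.DSystem Z y k) (y' : Y) (h : y ⤳ y')
    (h0 : S.c (Fin.last k) = 0) : ∃ S' : Algz.DSystem Z y' k, S'.delta ≤ S.delta := by
  classical
  have hvw : S.w (Fin.last k) = S.v (Fin.last k) :=
    eq_of_codimPt_eq_zero _ _ (S.spec (Fin.last k)) h0
  have hvy : S.v (Fin.last k) = y := hvw ▸ S.last_eq
  let S' : Algz.DSystem Z y' k :=
    { v := fun i => if i = Fin.last k then y' else S.v i
      w := fun i => if i = Fin.last k then y' else S.w i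
      spec := by
        intro i
        by_cases hi : i = Fin.last k
        · simp only [hi, if_true]; exact specializes_rfl
        · simp only [hi, if_false]; exact S.spec i
      spec_succ := by
        intro i
        have hi : i.castSucc ≠ Fin.last k := (Fin.castSucc_lt_last i).ne
        simp only [hi, if_false]
        by_cases hs : i.succ = Fin.last k
        · simp only [hs, if_true]
          have := S.spec_succ i
          rw [hs, hvy] at this
          exact this.trans h
        · simp only [hs, if_false]
          exact S.spec_succ i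
      start_mem := by
        by_cases h0' : (0 : Fin (k + 1)) = Fin.last k
        · simp only [h0', if_true]
          have hyZ : y ∈ Z := by
            have := S.start_mem
            rw [h0', hvy] at this
            exact this
          exact hZ.stableUnderSpecialization h hyZ
        · simp only [h0', if_false]
          exact S.start_mem
      last_eq := by simp }
  refine ⟨S', delta_le_of_le S S' ?_ ?_⟩
  · intro j
    by_cases hj : j = Fin.last k
    · subst hj
      have : S'.c (Fin.last k) = 0 := by
        unfold Algz.DSystem.c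
        rw [codimPt_congr (S'.spec (Fin.last k)) (specializes_rfl : y' ⤳ y') (by simp [S'])
          (by simp [S'])]
        exact codimPt_self _ _
      rw [this]; exact zero_le
    · apply le_of_eq
      unfold Algz.DSystem.c
      exact codimPt_congr _ _ (by simp [S', hj]) (by simp [S', hj])
  · intro j
    have hi : j.castSucc ≠ Fin.last k := (Fin.castSucc_lt_last j).ne
    by_cases hs : j.succ = Fin.last k
    · unfold Algz.DSystem.b
      have hsp : S.w j.castSucc ⤳ y := by
        have := S.spec_succ j
        rwa [hs, hvy] at this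
      calc Algz.codimPt (S.w j.castSucc) (S.v j.succ) (S.spec_succ j)
          = Algz.codimPt (S.w j.castSucc) y hsp := codimPt_congr _ _ rfl (by rw [hs, hvy])
        _ ≤ Algz.codimPt (S.w j.castSucc) y' (hsp.trans h) := codimPt_mono_right _ _ _ hsp h
        _ = Algz.codimPt (S'.w j.castSucc) (S'.v j.succ) (S'.spec_succ j) :=
            codimPt_congr _ _ (by simp [S', hi]) (by simp [S', hs])
    · apply le_of_eq
      unfold Algz.DSystem.b
      exact codimPt_congr _ _ (by simp [S', hi]) (by simp [S', hs])

end constructions

section constructions2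

variable {Y : Type u} [TopologicalSpace Y] [T0Space Y] {Z : Set Y} {y : Y} {k : ℕ}

/-- Case II: the last pair is nondegenerate; append the closure of `y'`. -/
theorem caseII (S : Algz.DSystem Z y k) (y' : Y) (h : y ⤳ y') (hne : y ≠ y')
    (h0 : S.c (Fin.last k) ≠ 0) : ∃ S' : Algz.DSystem Z y' (k + 1), S'.delta ≤ S.delta := by
  classical
  let S' : Algz.DSystem Z y' (k + 1) :=
    { v := fun i => if hi : (i : ℕ) < k + 1 then S.v ⟨i, hi⟩ else y'
      w := fun i => if hi : (i : ℕ) < k + 1 then S.w ⟨i, hi⟩ else y'
      spec := by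
        intro i
        by_cases hi : (i : ℕ) < k + 1
        · simp only [hi, dif_pos]; exact S.spec _
        · simp only [hi, dif_neg, not_false_eq_true]; exact specializes_rfl
      spec_succ := by
        intro i
        have hi : ((i.castSucc : Fin (k + 2)) : ℕ) < k + 1 := i.2
        simp only [hi, dif_pos]
        by_cases hs : ((i.succ : Fin (k + 2)) : ℕ) < k + 1
        · simp only [hs, dif_pos]
          have hik : (i : ℕ) < k := by simpa using hs
          exact S.spec_succ ⟨i, hik⟩
        · simp only [hs, dif_neg, not_false_eq_true]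
          have hik : (i : ℕ) = k := by
            have := i.2
            simp at hs
            omega
          have : (⟨(i.castSucc : Fin (k + 2)), hi⟩ : Fin (k + 1)) = Fin.last k := by
            ext; simpa using hik
          rw [this, S.last_eq]
          exact h
      start_mem := by
        have : ((0 : Fin (k + 2)) : ℕ) < k + 1 := by simp
        simp only [this, dif_pos]
        exact S.start_mem
      last_eq := by simp }
  have hc_cast : ∀ j : Fin (k + 1), S'.c j.castSucc = S.c j := by
    intro j
    have hj : ((j.castSucc : Fin (k + 2)) : ℕ) < k + 1 := j.2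
    unfold Algz.DSystem.c
    exact codimPt_congr _ _ (by simp only [S', hj, dif_pos]; rfl) (by simp only [S', hj, dif_pos]; rfl)
  have hc_last : S'.c (Fin.last (k + 1)) = 0 := by
    unfold Algz.DSystem.c
    rw [codimPt_congr (S'.spec (Fin.last (k + 1))) (specializes_rfl : y' ⤳ y') (by simp [S'])
      (by simp [S'])]
    exact codimPt_self _ _
  have hb_cast : ∀ j : Fin k, S'.b j.castSucc = S.b j := by
    intro j
    unfold Algz.DSystem.b
    exact codimPt_congr _ _ (by simp [S'] <;> rfl) (by simp [S'] <;> rfl)
  have hb_last : 1 ≤ S'.b (Fin.last k) := by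
    unfold Algz.DSystem.b
    rw [codimPt_congr (S'.spec_succ (Fin.last k)) h (by simp [S']; exact S.last_eq) (by simp [S'])]
    exact one_le_codimPt _ _ h hne
  -- the sums
  have hC_cast : ∀ i : Fin (k + 1), Csum S' i.castSucc = Csum S i := by
    intro i
    unfold Csum
    rw [Finset.sum_filter, Finset.sum_filter, Fin.sum_univ_castSucc, hc_last]
    simp only [ite_self, add_zero, Fin.castSucc_le_castSucc_iff, hc_cast]
  have hC_last : Csum S' (Fin.last (k + 1)) = 0 := by
    unfold Csum
    rw [Finset.sum_filter, Fin.sum_univ_castSucc, hc_last]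
    simp only [ite_self, add_zero]
    apply Finset.sum_eq_zero
    intro j _
    rw [if_neg]
    exact not_le.mpr (Fin.castSucc_lt_last j)
  have hB_cast : ∀ i : Fin (k + 1), Bsum S' i.castSucc = Bsum S i + S'.b (Fin.last k) := by
    intro i
    unfold Bsum
    rw [Finset.sum_filter, Finset.sum_filter, Fin.sum_univ_castSucc]
    have : ((i.castSucc : Fin (k + 2)) : ℕ) ≤ ((Fin.last k : Fin (k + 1)) : ℕ) := by
      simp; omega
    rw [if_pos this]
    simp only [Fin.val_castSucc, hb_cast]
  -- the maximum of the old system is at least one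
  set M := Finset.univ.sup fun i : Fin (k + 1) => Csum S i - Bsum S i with hM
  have hM1 : 1 ≤ M := by
    have h1 : Csum S (Fin.last k) - Bsum S (Fin.last k) ≤ M :=
      Finset.le_sup (f := fun i : Fin (k + 1) => Csum S i - Bsum S i) (Finset.mem_univ _)
    have h2 : Bsum S (Fin.last k) = 0 := by
      unfold Bsum
      apply Finset.sum_eq_zero
      intro j hj
      simp only [Finset.mem_filter, Finset.mem_univ, true_and, Fin.val_last] at hj
      exact absurd hj (by have := j.2; omega)
    have h3 : S.c (Fin.last k) ≤ Csum S (Fin.last k) := by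
      unfold Csum
      exact Finset.single_le_sum (f := S.c) (fun _ _ => zero_le) (by simp)
    rw [h2, tsub_zero] at h1
    exact (Order.one_le_iff_ne_zero.mpr h0).trans (h3.trans h1)
  refine ⟨S', ?_⟩
  rw [delta_eq, delta_eq, ← hM]
  have hsup : (Finset.univ.sup fun i : Fin (k + 2) => Csum S' i - Bsum S' i) ≤ M - 1 := by
    apply Finset.sup_le
    intro i _
    refine Fin.lastCases ?_ (fun i0 => ?_) i
    · rw [hC_last, zero_tsub]; exact zero_le
    · rw [hC_cast, hB_cast, tsub_add_eq_tsub_tsub]
      calc Csum S i0 - Bsum S i0 - S'.b (Fin.last k)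
          ≤ Csum S i0 - Bsum S i0 - 1 := tsub_le_tsub_left hb_last _
        _ ≤ M - 1 := tsub_le_tsub_right
            (Finset.le_sup (f := fun i : Fin (k + 1) => Csum S i - Bsum S i) (Finset.mem_univ _)) _
  calc ((k + 1 : ℕ) : ℕ∞) + (Finset.univ.sup fun i : Fin (k + 2) => Csum S' i - Bsum S' i)
      ≤ ((k + 1 : ℕ) : ℕ∞) + (M - 1) := by gcongr
    _ = (k : ℕ∞) + (1 + (M - 1)) := by push_cast; rw [add_assoc]
    _ = (k : ℕ∞) + M := by rw [add_tsub_cancel_of_le hM1]

end constructions2

/-- Let Y be a Noetherian scheme and Z ⊆ Y a closed subset. If y specializes to y' then δ_Z(y') ≤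
δ_Z(y); equivalently each set {y | δ_Z(y) ≤ k} is stable under specialization. -/
theorem result (Y : Scheme.{u}) [IsNoetherian Y] (Z : Set Y) (hZ : IsClosed Z) (y y' : Y) (h : y ⤳ y') : Algz.deltaZ Z y' ≤ Algz.deltaZ Z y := by
  classical
  by_cases hne : y = y'
  · subst hne; exact le_rfl
  unfold Algz.deltaZ
  refine le_iInf fun k => le_iInf fun S => ?_
  by_cases h0 : S.c (Fin.last k) = 0
  · obtain ⟨S', hS'⟩ := caseI hZ S y' h h0
    exact (iInf_le_of_le k (iInf_le _ S')).trans hS'
  · obtain ⟨S', hS'⟩ := caseII S y' h hne h0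
    exact (iInf_le_of_le (k + 1) (iInf_le _ S')).trans hS'

end Groth.Agent.S8812
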