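import Groth.Statements.S8813
import Mathlib.RingTheory.KrullDimension.NonZeroDivisors
import Mathlib.AlgebraicGeometry.Stalk
-- import your own Groth.Agent.* helpers here

set_option autoImplicit false
universe u
open CategoryTheory AlgebraicGeometry
open Algz

namespace Groth.Agent.S8813

section helpers

/-- the single pair system -/
theorem deltaZ_le_codimPt {Y : Type u} [TopologicalSpace Y] (Z : Set Y) (y z : Y) (h : y ⤳ z)
    (hz : z ∈ Z) : Algz.deltaZ Z y ≤ Algz.codimPt y z h := by
  let S : Algz.DSystem Z y 0 :=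
    { v := fun _ => z
      w := fun _ => y
      spec := fun _ => h
      spec_succ := fun i => i.elim0
      start_mem := hz
      last_eq := rfl }
  have hS : S.delta ≤ Algz.codimPt y z h := by
    unfold Algz.DSystem.delta
    rw [Nat.cast_zero, zero_add]
    apply Finset.sup_le
    intro i _
    refine le_trans tsub_le_self ?_
    refine le_trans (Finset.sum_le_sum_of_subset (Finset.filter_subset _ _)) ?_
    have hc : ∀ j, S.c j = Algz.codimPt y z h := fun _ => rfl
    simp only [hc, Finset.sum_const, Finset.card_univ, Fintype.card_fin]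
    simp
  unfold Algz.deltaZ
  exact (iInf_le_of_le (0 : ℕ) (iInf_le (fun S : Algz.DSystem Z y 0 => S.delta) S)).trans hS

end helpers

/-- Let Y be a Noetherian scheme, Z ⊆ Y a closed subset, y a point of Y and z a point of Z lying in the
closure of y. Then δ_Z(y) is at most the dimension of the local ring at z of the closure of y with
its reduced structure, that is, the Krull dimension of O_{Y,z}/𝔭 where 𝔭 is the prime ideal of the
local ring O_{Y,z} given by the point of Spec O_{Y,z} that maps to y. -/
theorem result (Y : Scheme.{u}) [IsNoetherian Y] (Z : Set Y) (hZ : IsClosed Z) (y z : Y) (h : y ⤳ z) (hz : z ∈ Z) (P : PrimeSpectrum (Y.presheaf.stalk z)) (hP : (Y.fromSpecStalk z).base P = y) : ((Algz.deltaZ Z y : ℕ∞) : WithBot ℕ∞) ≤ ringKrullDim (↥(Y.presheaf.stalk z) ⧸ P.asIdeal) := by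
  classical
  refine le_trans (WithBot.coe_le_coe.mpr (deltaZ_le_codimPt Z y z h hz)) ?_
  rw [ringKrullDim_quotient]
  unfold Algz.codimPt
  rw [Order.height_eq_krullDim_Iic, ← Order.krullDim_orderDual (α := PrimeSpectrum.zeroLocus _)]
  set f := Y.fromSpecStalk z with hf
  have hemb : Topology.IsEmbedding f := f.isEmbedding
  have hrange : ∀ x : Y, x ⤳ z → x ∈ Set.range f := by
    intro x hx
    have : x ∈ {y | y ⤳ z} := hx
    rw [← AlgebraicGeometry.Scheme.range_fromSpecStalk] at this
    exact this
  -- the map to primes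
  let pt : Set.Iic (⟨Specialization.toEquiv y, Specialization.toEquiv_le_toEquiv.mpr h⟩ :
      Set.Ici (Specialization.toEquiv z)) → Y := fun a => Specialization.ofEquiv a.1.1
  have hpt1 : ∀ a, pt a ⤳ z := fun a => a.1.2
  have hpt2 : ∀ a, y ⤳ pt a := fun a => a.2
  let Q : Set.Iic (⟨Specialization.toEquiv y, Specialization.toEquiv_le_toEquiv.mpr h⟩ :
      Set.Ici (Specialization.toEquiv z)) → PrimeSpectrum (Y.presheaf.stalk z) :=
    fun a => (hrange (pt a) (hpt1 a)).choose
  have hQ : ∀ a, f (Q a) = pt a := fun a => (hrange (pt a) (hpt1 a)).choose_spec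
  have hQmem : ∀ a, Q a ∈ PrimeSpectrum.zeroLocus (P.asIdeal : Set (Y.presheaf.stalk z)) := by
    intro a
    have h1 : f P ⤳ f (Q a) := by rw [hQ, hP]; exact hpt2 a
    have h2 : P ⤳ Q a := hemb.toIsInducing.specializes_iff.mp h1
    have h3 : P ≤ Q a := (PrimeSpectrum.le_iff_specializes _ _).mpr h2
    exact h3
  let φ : Set.Iic (⟨Specialization.toEquiv y, Specialization.toEquiv_le_toEquiv.mpr h⟩ :
      Set.Ici (Specialization.toEquiv z)) →
      (PrimeSpectrum.zeroLocus (P.asIdeal : Set (Y.presheaf.stalk z)))ᵒᵈ :=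
    fun a => OrderDual.toDual ⟨Q a, hQmem a⟩
  have hφ : StrictMono φ := by
    intro a b hab
    rw [lt_iff_le_not_ge] at hab
    have hab1 : pt b ⤳ pt a := hab.1
    have hab2 : ¬ pt a ⤳ pt b := hab.2
    show (⟨Q b, hQmem b⟩ : PrimeSpectrum.zeroLocus (P.asIdeal : Set (Y.presheaf.stalk z))) <
      ⟨Q a, hQmem a⟩
    rw [lt_iff_le_not_ge]
    constructor
    · show Q b ≤ Q a
      rw [PrimeSpectrum.le_iff_specializes]
      apply hemb.toIsInducing.specializes_iff.mp
      rw [hQ, hQ]; exact hab1
    · intro hle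
      apply hab2
      have : Q a ≤ Q b := hle
      rw [PrimeSpectrum.le_iff_specializes] at this
      have := this.map hemb.continuous
      rwa [hQ, hQ] at this
  exact Order.krullDim_le_of_strictMono φ hφ

end Groth.Agent.S8813
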