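import Groth.Statements.S8814
-- import your own Groth.Agent.* helpers here

set_option autoImplicit false
universe u
open CategoryTheory AlgebraicGeometry
open Algz

namespace Groth.Agent.S8814

section dimfun

variable {Y : Type u} [TopologicalSpace Y]

/-- a dimension function on a topological space -/
def DimFun (δ : Y → ℤ) : Prop :=
  ∀ x y : Y, x ⤳ y → x ≠ y →
    δ y < δ x ∧ ((∀ z : Y, x ⤳ z → z ⤳ y → z = x ∨ z = y) → δ x = δ y + 1)

theorem DimFun.le {δ : Y → ℤ} (hδ : DimFun δ) {x y : Y} (h : x ⤳ y) : δ y ≤ δ x := by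
  by_cases hxy : x = y
  · rw [hxy]
  · exact (hδ x y h hxy).1.le

theorem exists_immediate {δ : Y → ℤ} (hδ : DimFun δ) (w : Y) :
    ∀ (m : ℕ) (v : Y), w ⤳ v → w ≠ v → (δ w - δ v).toNat = m →
      ∃ z, w ⤳ z ∧ z ⤳ v ∧ z ≠ w ∧ ∀ t, w ⤳ t → t ⤳ z → t = w ∨ t = z := by
  intro m
  induction m using Nat.strong_induction_on with
  | _ m ih =>
    intro v h hne hm
    by_cases himm : ∀ t, w ⤳ t → t ⤳ v → t = w ∨ t = v
    · exact ⟨v, h, specializes_rfl, hne.symm, himm⟩
    · push_neg at himm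
      obtain ⟨t, hwt, htv, htw, htv'⟩ := himm
      have h1 := (hδ w t hwt (Ne.symm htw)).1
      have h2 := (hδ t v htv htv').1
      obtain ⟨z, hz1, hz2, hz3, hz4⟩ := ih (δ w - δ t).toNat (by omega) t hwt (Ne.symm htw) rfl
      exact ⟨z, hz1, hz2.trans htv, hz3, hz4⟩

theorem codimPt_le {δ : Y → ℤ} (hδ : DimFun δ) (w v : Y) (h : w ⤳ v) :
    Algz.codimPt w v h ≤ ((δ w - δ v).toNat : ℕ∞) := by
  unfold Algz.codimPt
  let f : Set.Ici (Specialization.toEquiv v) → ℕ :=
    fun x => (δ (Specialization.ofEquiv x.1) - δ v).toNat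
  have hf : StrictMono f := by
    intro a b hab
    have ha : Specialization.ofEquiv a.1 ⤳ v := a.2
    have hb : Specialization.ofEquiv b.1 ⤳ Specialization.ofEquiv a.1 := hab.le
    have hne : Specialization.ofEquiv b.1 ≠ Specialization.ofEquiv a.1 := by
      intro heq
      have : b.1 = a.1 := Specialization.ofEquiv.injective heq
      have : b = a := Subtype.ext this
      rw [this] at hab
      exact lt_irrefl _ hab
    have h1 := (hδ _ _ hb hne).1
    have h2 := hδ.le ha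
    show (δ (Specialization.ofEquiv a.1) - δ v).toNat < (δ (Specialization.ofEquiv b.1) - δ v).toNat
    omega
  have := Order.height_le_height_apply_of_strictMono f hf
    ⟨Specialization.toEquiv w, Specialization.toEquiv_le_toEquiv.mpr h⟩
  rw [Order.height_nat] at this
  exact this

theorem le_codimPt {δ : Y → ℤ} (hδ : DimFun δ) (v : Y) :
    ∀ (n : ℕ) (w : Y) (h : w ⤳ v), (δ w - δ v).toNat = n → (n : ℕ∞) ≤ Algz.codimPt w v h := by
  intro n
  induction n with
  | zero => intro w h _; exact zero_le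
  | succ n ih =>
    intro w h hn
    have hne : w ≠ v := by
      intro heq; rw [heq] at hn; simp at hn
    obtain ⟨z, hz1, hz2, hz3, hz4⟩ := exists_immediate hδ w _ v h hne rfl
    have h1 := (hδ w z hz1 (Ne.symm hz3)).2 hz4
    have h2 := hδ.le hz2
    have hz := ih z hz2 (by omega)
    unfold Algz.codimPt at hz ⊢
    have hlt : (⟨Specialization.toEquiv z, Specialization.toEquiv_le_toEquiv.mpr hz2⟩ :
        Set.Ici (Specialization.toEquiv v)) <
        ⟨Specialization.toEquiv w, Specialization.toEquiv_le_toEquiv.mpr h⟩ := by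
      refine lt_iff_le_not_ge.mpr ⟨Specialization.toEquiv_le_toEquiv.mpr hz1, ?_⟩
      intro hle
      have hzw : z ⤳ w := hle
      have := (hδ z w hzw hz3).1
      omega
    have := Order.height_add_one_le hlt
    calc ((n + 1 : ℕ) : ℕ∞) = (n : ℕ∞) + 1 := by push_cast; rfl
      _ ≤ _ := (add_le_add_left hz 1).trans this

theorem codimPt_eq {δ : Y → ℤ} (hδ : DimFun δ) (w v : Y) (h : w ⤳ v) :
    Algz.codimPt w v h = ((δ w - δ v).toNat : ℕ∞) :=
  le_antisymm (codimPt_le hδ w v h) (le_codimPt hδ v _ w h rfl)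

end dimfun

section main

variable {Y : Type u} [TopologicalSpace Y]

theorem key {δ : Y → ℤ} (hδ : DimFun δ) {Z : Set Y} {y : Y} {k : ℕ} (S : Algz.DSystem Z y k)
    (n : ℕ) (hS : S.delta ≤ n) : δ y ≤ n + δ (S.v 0) := by
  classical
  -- integer versions of the codimensions
  let cN : Fin (k + 1) → ℕ := fun j => (δ (S.w j) - δ (S.v j)).toNat
  let bN : Fin k → ℕ := fun j => (δ (S.w j.castSucc) - δ (S.v j.succ)).toNat
  have hc : ∀ j, S.c j = (cN j : ℕ∞) := fun j => codimPt_eq hδ _ _ _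
  have hb : ∀ j, S.b j = (bN j : ℕ∞) := fun j => codimPt_eq hδ _ _ _
  have hcZ : ∀ j, (cN j : ℤ) = δ (S.w j) - δ (S.v j) := by
    intro j
    have := hδ.le (S.spec j)
    simp only [cN]; omega
  have hbZ : ∀ j, (bN j : ℤ) = δ (S.w j.castSucc) - δ (S.v j.succ) := by
    intro j
    have := hδ.le (S.spec_succ j)
    simp only [bN]; omega
  -- telescoping
  have htel : (∑ j, (cN j : ℤ)) - ∑ j, (bN j : ℤ) = δ y - δ (S.v 0) := by
    simp only [hcZ, hbZ, Finset.sum_sub_distrib]
    rw [Fin.sum_univ_castSucc (fun j => δ (S.w j)), Fin.sum_univ_succ (fun j => δ (S.v j)),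
      S.last_eq]
    ring
  -- the term i = 0 of the maximum
  have h0 : ((∑ j, cN j : ℕ) : ℕ∞) - ((∑ j, bN j : ℕ) : ℕ∞) ≤ S.delta := by
    unfold Algz.DSystem.delta
    refine le_trans ?_ (le_add_self)
    refine le_trans (le_of_eq ?_) (Finset.le_sup (Finset.mem_univ (0 : Fin (k + 1))))
    have e1 : Finset.univ.filter (fun j : Fin (k + 1) => (0 : Fin (k + 1)) ≤ j) = Finset.univ := by
      ext j; simp
    have e2 : Finset.univ.filter (fun j : Fin k => ((0 : Fin (k + 1)) : ℕ) ≤ (j : ℕ)) =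
        Finset.univ := by
      ext j; simp
    rw [e1, e2]
    simp only [hc, hb, Nat.cast_sum]
  have h1 : ((∑ j, cN j : ℕ) : ℕ∞) - ((∑ j, bN j : ℕ) : ℕ∞) ≤ (n : ℕ∞) := h0.trans hS
  rw [← ENat.coe_sub, Nat.cast_le] at h1
  have h2 : ((∑ j, cN j : ℕ) : ℤ) - ((∑ j, bN j : ℕ) : ℤ) ≤ n := by omega
  push_cast at h2
  rw [htel] at h2
  omega

end main

/-- Let Y be a Noetherian scheme, Z ⊆ Y a closed subset and δ a dimension function on Y. If δ_Z(y) is a
natural number n, then δ(y) ≤ n + δ(z) for some z ∈ Z; in other words δ(y) ≤ δ_Z(y) + δ_max with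
δ_max the maximum of δ on Z. -/
theorem result (Y : Scheme.{u}) [IsNoetherian Y] (Z : Set Y) (hZ : IsClosed Z) (δ : Y → ℤ) (hδ : Cyc.IsDimFun Y δ) (y : Y) (n : ℕ) (hn : Algz.deltaZ Z y = n) : ∃ z ∈ Z, δ y ≤ n + δ z := by
  have hδ' : DimFun (Y := Y) δ := hδ
  have hex : ∃ (k : ℕ) (S : Algz.DSystem Z y k), S.delta ≤ n := by
    by_contra hcon
    push_neg at hcon
    have : ((n : ℕ∞) + 1) ≤ Algz.deltaZ Z y := by
      unfold Algz.deltaZ
      exact le_iInf fun k => le_iInf fun S => Order.add_one_le_of_lt (hcon k S)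
    rw [hn] at this
    have h2 : ((n + 1 : ℕ) : ℕ∞) ≤ (n : ℕ∞) := by push_cast; exact this
    rw [Nat.cast_le] at h2
    omega
  obtain ⟨k, S, hS⟩ := hex
  exact ⟨S.v 0, S.start_mem, key hδ' S n hS⟩

end Groth.Agent.S8814
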