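import Groth.Statements.S8815
import Mathlib
import Groth.Agent.S8813
import Groth.Agent.S8814
-- import your own Groth.Agent.* helpers here

set_option autoImplicit false
universe u
open CategoryTheory AlgebraicGeometry
open Algz

namespace Groth.Agent.S8815

open Order

section prelim

variable {A : Type u} [CommRing A] [IsNoetherianRing A] [IsLocalRing A]

/-- `dim A/p` as a natural number -/
noncomputable def dl (p : PrimeSpectrum A) : ℕ := (coheight p).toNat

theorem coe_dl (p : PrimeSpectrum A) : (dl p : ℕ∞) = coheight p :=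
  ENat.coe_toNat (ne_of_lt (Order.coheight_lt_top p))

theorem dl_lt {p q : PrimeSpectrum A} (h : p < q) : dl q < dl p := by
  have := Order.coheight_strictAnti h (Order.coheight_lt_top q)
  rw [← coe_dl, ← coe_dl, Nat.cast_lt] at this
  exact this

theorem dl_top : dl (⊤ : PrimeSpectrum A) = 0 := by simp [dl]

theorem exists_saturated (p : PrimeSpectrum A) : ∃ s : LTSeries (PrimeSpectrum A),
    s.head = p ∧ s.last = ⊤ ∧ (∀ i : Fin s.length, s i.castSucc ⋖ s i.succ) ∧ s.length = dl p := by
  obtain ⟨s, hs1, hs2⟩ := Order.exists_series_of_coheight_eq_coe p (coe_dl p).symm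
  have hle : ∀ (k : ℕ) (hk : k < s.length + 1), dl (s ⟨k, hk⟩) + k ≤ s.length := by
    intro k
    induction k with
    | zero =>
      intro hk
      have : s ⟨0, hk⟩ = p := hs1
      rw [this, hs2]
      simp
    | succ k ih =>
      intro hk
      have h1 := ih (by omega)
      have hlt : s ⟨k, by omega⟩ < s ⟨k + 1, hk⟩ := s.strictMono (by simp [Fin.lt_def])
      have := dl_lt hlt
      omega
  have hge : ∀ i : Fin (s.length + 1), s.length ≤ dl (s i) + i := by
    intro i
    have h := Order.rev_index_le_coheight s i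
    rw [← coe_dl, Nat.cast_le] at h
    have : (i.rev : ℕ) = s.length - i := by simp [Fin.rev]
    omega
  have hco : ∀ i : Fin (s.length + 1), dl (s i) + i = s.length :=
    fun i => le_antisymm (hle i i.2) (hge i)
  refine ⟨s, hs1, ?_, ?_, hs2⟩
  · by_contra hne
    have hlt : s.last < ⊤ := lt_top_iff_ne_top.2 hne
    have h1 := dl_lt hlt
    have h2 := hco (Fin.last _)
    have h3 : s (Fin.last _) = s.last := rfl
    rw [h3] at h2
    simp at h2
    omega
  · intro i
    refine ⟨s.strictMono (Fin.castSucc_lt_succ), fun z hz1 hz2 => ?_⟩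
    have h1 := dl_lt hz1
    have h2 := dl_lt hz2
    have h3 := hco i.castSucc
    have h4 := hco i.succ
    simp only [Fin.val_castSucc, Fin.val_succ] at h3 h4
    omega

theorem dl_covBy (hA : CAlg.IsCatenary A) {p q : PrimeSpectrum A} (h : p ⋖ q) :
    dl p = dl q + 1 := by
  obtain ⟨s, hs1, hs2, hs3, hs4⟩ := exists_saturated p
  obtain ⟨t, ht1, ht2, ht3, ht4⟩ := exists_saturated q
  have hmono : StrictMono (Fin.cons p (fun i => t i) : Fin (t.length + 1 + 1) → PrimeSpectrum A) := by
    rw [Fin.strictMono_iff_lt_succ]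
    intro i
    refine Fin.cases ?_ (fun j => ?_) i
    · have : t 0 = q := ht1
      simp only [Fin.castSucc_zero, Fin.cons_zero, Fin.succ_zero_eq_one]
      rw [show (1 : Fin (t.length + 1 + 1)) = Fin.succ 0 from rfl, Fin.cons_succ, this]
      exact h.lt
    · rw [← Fin.succ_castSucc, Fin.cons_succ, Fin.cons_succ]
      exact t.strictMono (Fin.castSucc_lt_succ)
  let t' : LTSeries (PrimeSpectrum A) := LTSeries.mk (t.length + 1) (Fin.cons p (fun i => t i)) hmono
  have h1 : s.length = t'.length := by
    refine hA.2 s t' ?_ ?_ hs3 ?_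
    · rw [hs1]; rfl
    · rw [hs2]
      show (⊤ : PrimeSpectrum A) = (Fin.cons p (fun i => t i) : Fin (t.length + 1 + 1) → _) (Fin.last _)
      rw [show Fin.last (t.length + 1) = Fin.succ (Fin.last t.length) from rfl, Fin.cons_succ]
      exact ht2.symm
    · intro i
      show (Fin.cons p (fun i => t i) : Fin (t.length + 1 + 1) → PrimeSpectrum A) i.castSucc ⋖
        (Fin.cons p (fun i => t i) : Fin (t.length + 1 + 1) → PrimeSpectrum A) i.succ
      refine Fin.cases ?_ (fun j => ?_) i
      · have e : t.toFun 0 = q := ht1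
        show p ⋖ t.toFun 0
        rw [e]
        exact h
      · show t.toFun j.castSucc ⋖ t.toFun j.succ
        exact ht3 j
  have h2 : t'.length = t.length + 1 := rfl
  omega

end prelim

/-- Let A be a catenary Noetherian local ring, Y = Spec A and Z the closed point. Then δ_Z(y) equals the
dimension of the closure of y, i.e. dim(A/p_y), for every point y. -/
theorem result (A : Type u) [CommRing A] [IsNoetherianRing A] [IsLocalRing A] (hA : CAlg.IsCatenary A) (y : Spec (CommRingCat.of A)) : ((Algz.deltaZ ({IsLocalRing.closedPoint A} : Set (Spec (CommRingCat.of A))) y : ℕ∞) : WithBot ℕ∞) = ringKrullDim (A ⧸ y.asIdeal) := by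
  classical
  -- the dimension function
  let δY : (Spec (CommRingCat.of A)) → ℤ := fun x => (dl (A := A) x : ℤ)
  have hδ : Groth.Agent.S8814.DimFun δY := by
    intro x z hxz hne
    have hle : @LE.le (PrimeSpectrum A) _ x z := (PrimeSpectrum.le_iff_specializes _ _).2 hxz
    have hlt : @LT.lt (PrimeSpectrum A) _ x z := lt_of_le_of_ne hle hne
    refine ⟨by simpa [δY] using dl_lt hlt, fun himm => ?_⟩
    have hcov : @CovBy (PrimeSpectrum A) _ x z := by
      refine ⟨hlt, fun c hc1 hc2 => ?_⟩
      rcases himm c ((PrimeSpectrum.le_iff_specializes _ _).1 hc1.le)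
        ((PrimeSpectrum.le_iff_specializes _ _).1 hc2.le) with h | h
      · exact (ne_of_lt hc1) h.symm
      · exact (ne_of_lt hc2) h
    have := dl_covBy hA hcov
    simp only [δY]
    omega
  have htop : δY (IsLocalRing.closedPoint A) = 0 := by
    show ((dl (⊤ : PrimeSpectrum A) : ℕ) : ℤ) = 0
    rw [dl_top]; rfl
  have hy : @Specializes (Spec (CommRingCat.of A)) _ y (IsLocalRing.closedPoint A) :=
    (PrimeSpectrum.le_iff_specializes _ _).1 (@le_top (PrimeSpectrum A) _ _ y)
  -- step 2
  have hdelta : Algz.deltaZ ({IsLocalRing.closedPoint A} : Set (Spec (CommRingCat.of A))) y =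
      (dl (A := A) y : ℕ∞) := by
    apply le_antisymm
    · refine (Groth.Agent.S8813.deltaZ_le_codimPt
        ({IsLocalRing.closedPoint A} : Set (Spec (CommRingCat.of A))) y _ hy
        (Set.mem_singleton _)).trans ?_
      rw [Groth.Agent.S8814.codimPt_eq hδ, htop]
      simp [δY]
    · unfold Algz.deltaZ
      refine le_iInf fun k => le_iInf fun S => ?_
      cases hS : S.delta with
      | top => exact le_top
      | coe n =>
        have h1 := Groth.Agent.S8814.key hδ S n (le_of_eq hS)
        have h2 : S.v 0 = IsLocalRing.closedPoint A := S.start_mem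
        rw [h2, htop] at h1
        have h3 : (dl (A := A) y : ℤ) ≤ n := by simpa [δY] using h1
        exact_mod_cast h3
  rw [hdelta, coe_dl, ringKrullDim_quotient, Order.coheight_eq_krullDim_Ici]
  have hset : PrimeSpectrum.zeroLocus ((y.asIdeal : Ideal A) : Set A) =
      @Set.Ici (PrimeSpectrum A) _ y := by
    ext q
    rfl
  rw [hset]

end Groth.Agent.S8815
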