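import Groth.Statements.S8816
-- import your own Groth.Agent.* helpers here

set_option autoImplicit false
universe u
open CategoryTheory AlgebraicGeometry
open Algz

namespace Groth.Agent.S8816

section helpers

variable {Y : Type u} [TopologicalSpace Y] [T0Space Y]

/-- codimension of a point in its own closure is zero -/
theorem codimPt_self (v : Y) (h : v ⤳ v) : Algz.codimPt v v h = 0 := by
  unfold Algz.codimPt
  rw [Order.height_eq_zero]
  intro b _
  exact b.2

/-- a nontrivial specialization has codimension at least one -/
theorem one_le_codimPt (w v : Y) (h : w ⤳ v) (hne : w ≠ v) : 1 ≤ Algz.codimPt w v h := by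
  unfold Algz.codimPt
  rw [Order.one_le_iff_ne_zero, Order.height_ne_zero]
  intro hmin
  have hb : (⟨Specialization.toEquiv v, Set.mem_Ici.mpr le_rfl⟩ : Set.Ici (Specialization.toEquiv v)) ≤
      ⟨Specialization.toEquiv w, Specialization.toEquiv_le_toEquiv.mpr h⟩ :=
    Specialization.toEquiv_le_toEquiv.mpr h
  have := hmin hb
  have h2 : v ⤳ w := Specialization.toEquiv_le_toEquiv.mp this
  exact hne ((h.antisymm h2).eq)

/-- an immediate specialization has codimension at most one -/
theorem codimPt_le_one (w v : Y) (h : w ⤳ v)
    (himm : ∀ z : Y, w ⤳ z → z ⤳ v → z = w ∨ z = v) : Algz.codimPt w v h ≤ 1 := by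
  unfold Algz.codimPt
  have : ((1 : ℕ) : ℕ∞) = 1 := rfl
  rw [← this, Order.height_le_coe_iff]
  intro b hb
  have h0 : Order.height b = 0 := by
    rw [Order.height_eq_zero]
    intro c _
    -- b is the bottom element
    obtain ⟨b, hbv⟩ := b
    obtain ⟨c, hcv⟩ := c
    have hbw : b ≤ Specialization.toEquiv w := hb.le
    have hz := himm (Specialization.ofEquiv b) hbw hbv
    rcases hz with hz | hz
    · exfalso
      have : b = Specialization.toEquiv w := by rw [← hz]; rfl
      subst this
      exact lt_irrefl _ hb
    · have : b = Specialization.toEquiv v := by rw [← hz]; rfl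
      subst this
      exact hcv
  rw [h0]
  exact zero_lt_one

end helpers

/-- Let Y be a Noetherian scheme and Z ⊆ Y closed. Given points y_0, …, y_k and y'_0, …, y'_{k-1} of Y
with y_0 ∈ Z such that each y'_i specializes to y_{i+1} with y'_i ≠ y_{i+1}, and each y'_i ⤳ y_i is
an immediate specialization (y'_i ≠ y_i and no point strictly between), one has δ_Z(y_k) ≤ k. (The
published statement also allows y'_i = y_{i+1}. In that generality the bound needs catenarity: for a
Noetherian local domain of dimension 3 having a saturated chain of primes (0) ⊂ 𝔭 ⊂ 𝔪 of length 2,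
with Z the closed point and the pattern y_0 = 𝔪, y'_0 = y_1 = 𝔭, y'_1 = y_2 = (0), one has k = 2 but
δ_Z((0)) = 3. The published proof handles nontrivial specializations y'_i ⤳ y_{i+1}, for which the
closures of the y_i and y'_i form a system of value k, and reduces to that case by shortening the
chain, which does not preserve immediacy; this row states the case the proof establishes.) -/
theorem result (Y : Scheme.{u}) [IsNoetherian Y] (Z : Set Y) (hZ : IsClosed Z) (k : ℕ) (y : Fin (k + 1) → Y) (y' : Fin k → Y) (h0 : y 0 ∈ Z) (hdown : ∀ i : Fin k, y' i ⤳ y i.castSucc ∧ y' i ≠ y i.castSucc ∧ ∀ z : Y, y' i ⤳ z → z ⤳ y i.castSucc → z = y' i ∨ z = y i.castSucc) (hup : ∀ i : Fin k, y' i ⤳ y i.succ ∧ y' i ≠ y i.succ) : Algz.deltaZ Z (y (Fin.last k)) ≤ k := by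
  classical
  -- the system
  let S : Algz.DSystem Z (y (Fin.last k)) k :=
    { v := y
      w := fun i => if h : (i : ℕ) < k then y' ⟨i, h⟩ else y i
      spec := by
        intro i
        by_cases h : (i : ℕ) < k
        · simp only [h, dif_pos]
          exact (hdown ⟨i, h⟩).1
        · simp only [h, dif_neg, not_false_eq_true]
          exact specializes_rfl
      spec_succ := by
        intro i
        have h : ((i.castSucc : Fin (k + 1)) : ℕ) < k := i.2
        simp only [h, dif_pos]
        exact (hup i).1
      start_mem := h0
      last_eq := by simp }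
  have hc_last : S.c (Fin.last k) = 0 := by
    have hw : S.w (Fin.last k) = S.v (Fin.last k) := by simp [S]
    unfold Algz.DSystem.c
    have := codimPt_self (S.v (Fin.last k)) specializes_rfl
    convert this using 2
  have hc_le : ∀ j : Fin k, S.c j.castSucc ≤ 1 := by
    intro j
    have hj : ((j.castSucc : Fin (k + 1)) : ℕ) < k := j.2
    have hw : S.w j.castSucc = y' j := by simp [S, hj]
    unfold Algz.DSystem.c
    have := codimPt_le_one (y' j) (y j.castSucc) (hdown j).1 (hdown j).2.2
    convert this using 2
  have hb_ge : ∀ j : Fin k, 1 ≤ S.b j := by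
    intro j
    have hj : ((j.castSucc : Fin (k + 1)) : ℕ) < k := j.2
    have hw : S.w j.castSucc = y' j := by simp [S, hj]
    unfold Algz.DSystem.b
    have := one_le_codimPt (y' j) (y j.succ) (hup j).1 (hup j).2
    convert this using 2
  have hdelta : S.delta ≤ k := by
    unfold Algz.DSystem.delta
    have hsup : (Finset.univ.sup fun i : Fin (k + 1) =>
        (∑ j ∈ Finset.univ.filter (fun j : Fin (k + 1) => i ≤ j), S.c j) -
          ∑ j ∈ Finset.univ.filter (fun j : Fin k => i.val ≤ j.val), S.b j) = 0 := by
      rw [← bot_eq_zero, Finset.sup_eq_bot_iff]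
      intro i _
      rw [bot_eq_zero, tsub_eq_zero_iff_le, Finset.sum_filter, Finset.sum_filter,
        Fin.sum_univ_castSucc]
      have hl : (if i ≤ Fin.last k then S.c (Fin.last k) else 0) = 0 := by
        rw [hc_last]; simp
      rw [hl, add_zero]
      apply Finset.sum_le_sum
      intro j _
      by_cases hij : i ≤ j.castSucc
      · have hij' : i.val ≤ j.val := hij
        rw [if_pos hij, if_pos hij']
        exact (hc_le j).trans (hb_ge j)
      · have hij' : ¬ i.val ≤ j.val := hij
        rw [if_neg hij, if_neg hij']
    rw [hsup, add_zero]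
  calc Algz.deltaZ Z (y (Fin.last k)) ≤ S.delta := by
        unfold Algz.deltaZ
        exact iInf_le_of_le k (iInf_le _ S)
    _ ≤ k := hdelta

end Groth.Agent.S8816
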