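import Groth.Statements.S8817
-- import your own Groth.Agent.* helpers here

set_option autoImplicit false
universe u
open CategoryTheory AlgebraicGeometry
open Algz

namespace Groth.Agent.S8817

section helpers

variable {Y Y' : Type u} [TopologicalSpace Y] [TopologicalSpace Y']

theorem codimPt_congr {w v w' v' : Y} (h : w ⤳ v) (h' : w' ⤳ v') (hw : w = w') (hv : v = v') :
    Algz.codimPt w v h = Algz.codimPt w' v' h' := by
  subst hw; subst hv; rfl

theorem codimPt_map (f : Y' → Y) (hf : Topology.IsOpenEmbedding f) (w v : Y') (h : w ⤳ v)
    (h' : f w ⤳ f v) : Algz.codimPt (f w) (f v) h' = Algz.codimPt w v h := by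
  classical
  unfold Algz.codimPt
  apply le_antisymm
  · -- a strictly monotone map from generizations of `f v` to generizations of `v`
    have hrange : ∀ x : Set.Ici (Specialization.toEquiv (f v)),
        Specialization.ofEquiv x.1 ∈ Set.range f := by
      intro x
      have hx : Specialization.ofEquiv x.1 ⤳ f v := x.2
      exact hx.mem_open hf.isOpen_range ⟨v, rfl⟩
    let g : Set.Ici (Specialization.toEquiv (f v)) → Set.Ici (Specialization.toEquiv v) :=
      fun x => ⟨Specialization.toEquiv (hrange x).choose, by
        have hx : Specialization.ofEquiv x.1 ⤳ f v := x.2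
        rw [← (hrange x).choose_spec] at hx
        exact (hf.toIsInducing.specializes_iff.mp hx)⟩
    have hg : StrictMono g := by
      intro a b hab
      rw [lt_iff_le_not_ge] at hab ⊢
      have ha := (hrange a).choose_spec
      have hb := (hrange b).choose_spec
      constructor
      · have h1 : Specialization.ofEquiv b.1 ⤳ Specialization.ofEquiv a.1 := hab.1
        rw [← ha, ← hb] at h1
        exact hf.toIsInducing.specializes_iff.mp h1
      · intro hle
        apply hab.2
        have h1 : (hrange a).choose ⤳ (hrange b).choose := hle
        have h2 := h1.map hf.continuous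
        rw [ha, hb] at h2
        exact h2
    have := Order.height_le_height_apply_of_strictMono g hg
      ⟨Specialization.toEquiv (f w), Specialization.toEquiv_le_toEquiv.mpr h'⟩
    refine this.trans (le_of_eq ?_)
    congr 1
    apply Subtype.ext
    show Specialization.toEquiv _ = Specialization.toEquiv w
    congr 1
    exact hf.injective (hrange ⟨Specialization.toEquiv (f w), _⟩).choose_spec
  · let g : Set.Ici (Specialization.toEquiv v) → Set.Ici (Specialization.toEquiv (f v)) :=
      fun x => ⟨Specialization.toEquiv (f (Specialization.ofEquiv x.1)), by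
        have hx : Specialization.ofEquiv x.1 ⤳ v := x.2
        exact hx.map hf.continuous⟩
    have hg : StrictMono g := by
      intro a b hab
      rw [lt_iff_le_not_ge] at hab ⊢
      constructor
      · have h1 : Specialization.ofEquiv b.1 ⤳ Specialization.ofEquiv a.1 := hab.1
        exact h1.map hf.continuous
      · intro hle
        apply hab.2
        have h1 : f (Specialization.ofEquiv a.1) ⤳ f (Specialization.ofEquiv b.1) := hle
        exact hf.toIsInducing.specializes_iff.mp h1
    exact Order.height_le_height_apply_of_strictMono g hg
      ⟨Specialization.toEquiv w, Specialization.toEquiv_le_toEquiv.mpr h⟩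

/-- the image of a system under an open embedding -/
theorem exists_image_system (f : Y' → Y) (hf : Topology.IsOpenEmbedding f) (Z : Set Y) (y' : Y')
    (k : ℕ) (S' : Algz.DSystem (f ⁻¹' Z) y' k) :
    ∃ S : Algz.DSystem Z (f y') k, S.delta = S'.delta := by
  let S : Algz.DSystem Z (f y') k :=
    { v := fun i => f (S'.v i)
      w := fun i => f (S'.w i)
      spec := fun i => (S'.spec i).map hf.continuous
      spec_succ := fun i => (S'.spec_succ i).map hf.continuous
      start_mem := S'.start_mem
      last_eq := by rw [S'.last_eq] }
  refine ⟨S, ?_⟩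
  have hc : ∀ j, S.c j = S'.c j := fun j => codimPt_map f hf _ _ (S'.spec j) _
  have hb : ∀ j, S.b j = S'.b j := fun j => codimPt_map f hf _ _ (S'.spec_succ j) _
  unfold Algz.DSystem.delta
  simp only [hc, hb]

end helpers

/-- Let Y be a Noetherian scheme, Z ⊆ Y a closed subset and Y' ⊆ Y an open subscheme. For a point y' of
Y' the distance function of Y' relative to Y' ∩ Z at y' is at least the distance function of Y
relative to Z at y'. -/
theorem result (Y : Scheme.{u}) [IsNoetherian Y] (Z : Set Y) (hZ : IsClosed Z) (Y' : Y.Opens) (y' : (↑Y' : Scheme.{u})) : Algz.deltaZ Z (Y'.ι.base y') ≤ Algz.deltaZ ((fun x : (↑Y' : Scheme.{u}) => Y'.ι.base x) ⁻¹' Z) y' := by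
  unfold Algz.deltaZ
  refine le_iInf fun k => le_iInf fun S' => ?_
  obtain ⟨S, hS⟩ := exists_image_system (fun x : (↑Y' : Scheme.{u}) => Y'.ι.base x)
    Y'.ι.isOpenEmbedding Z y' k S'
  exact (iInf_le_of_le k (iInf_le _ S)).trans (le_of_eq hS)

end Groth.Agent.S8817
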