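import Groth.Statements.S8823
import Mathlib
import Groth.Agent.S0595
import Groth.Agent.S0599
import Groth.Agent.S0600
import Groth.Agent.Lib.Helper7EtaleNbhd
import Groth.Agent.Lib.Helper19ComplNoeth

set_option autoImplicit false
set_option linter.style.haveILetI false
open TensorProduct
universe u
open AdicRing

namespace Groth.Agent.S8823

/-- Let A be a Noetherian G-ring and I an ideal of A. Let B and C be A-algebras of finite type, φ an
A-algebra map from the IB-adic completion of B to the IC-adic completion of C, and N ≥ 1. Then one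
can find an etale C-algebra C' for which the induced map C/IC → C'/IC' is a bijection, together with
a homomorphism of A-algebras ψ : B → C' that approximates φ to order N: given any b ∈ B, some c ∈ C
satisfies ψ(b) − c ∈ I^N C', while the image of φ(b) in C/I^N C (the N-th truncation of the
completion) coincides with the class of c. -/
theorem result (A : Type u) [CommRing A] (hA : CAlg.IsGRing A) (I : Ideal A) (B C : Type u) [CommRing B] [Algebra A B] [Algebra.FiniteType A B] [CommRing C] [Algebra A C] [Algebra.FiniteType A C] (φ : (AdicCompletion (I.map (algebraMap A B)) B) →ₐ[A] (AdicCompletion (I.map (algebraMap A C)) C)) (N : ℕ) (hN : 1 ≤ N) : ∃ (C' : Type u) (_ : CommRing C') (_ : Algebra C C') (_ : Algebra A C') (_ : IsScalarTower A C C') (_ : Algebra.Etale C C') (ψ : B →ₐ[A] C'), ((∀ c' : C', ∃ c : C, algebraMap C C' c - c' ∈ I.map (algebraMap A C')) ∧ ∀ c : C, algebraMap C C' c ∈ I.map (algebraMap A C') → c ∈ I.map (algebraMap A C)) ∧ ∀ b : B, ∃ c : C, ψ b - algebraMap C C' c ∈ (I.map (algebraMap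 A C')) ^ N ∧ AdicCompletion.eval (I.map (algebraMap A C)) C N (φ (AdicCompletion.of (I.map (algebraMap A B)) B b)) = Submodule.Quotient.mk c := by
  classical
  haveI := hA.1
  have hGC : CAlg.IsGRing C := Groth.Agent.S0599.result A hA C
  haveI : IsNoetherianRing C := hGC.1
  have hreg : CAlg.IsRegularHom C (AdicCompletion (I.map (algebraMap A C)) C) := Groth.Agent.S0600.result C hGC (I.map (algebraMap A C))
  haveI : IsNoetherianRing (AdicCompletion (I.map (algebraMap A C)) C) :=
    Groth.Agent.Lib.Helper19.isNoetherianRing_adicCompletion (I.map (algebraMap A C))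
  haveI : Algebra.FinitePresentation A B := Algebra.FinitePresentation.of_finiteType.mp inferInstance
  haveI : IsScalarTower A B (AdicCompletion (I.map (algebraMap A B)) B) := IsScalarTower.of_algebraMap_eq (fun _ => rfl)
  haveI : IsScalarTower A C (AdicCompletion (I.map (algebraMap A C)) C) := IsScalarTower.of_algebraMap_eq (fun _ => rfl)
  -- the map `B → Ĉ`
  let φ₀ : B →ₐ[A] AdicCompletion (I.map (algebraMap A C)) C :=
    φ.comp ((Algebra.ofId B (AdicCompletion (I.map (algebraMap A B)) B)).restrictScalars A)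
  have hφ₀ : ∀ b, φ₀ b = φ (AdicCompletion.of (I.map (algebraMap A B)) B b) := fun b => rfl
  let f : C ⊗[A] B →ₐ[C] AdicCompletion (I.map (algebraMap A C)) C :=
    Algebra.TensorProduct.lift (Algebra.ofId C (AdicCompletion (I.map (algebraMap A C)) C)) φ₀
      (fun _ _ => Commute.all _ _)
  obtain ⟨D, _, _, hsm, g, h, hgh⟩ :=
    Groth.Agent.S0595.result C (AdicCompletion (I.map (algebraMap A C)) C) hreg (C ⊗[A] B) f
  haveI := hsm
  obtain ⟨C', _, _, _, τ, ψ', hψτ, hker⟩ :=
    Groth.Agent.Lib.Helper7.EtaleNbhd.exists_etale_nbhd ((I.map (algebraMap A C)) ^ N)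
      ((AdicCompletion.evalₐ (I.map (algebraMap A C)) N).comp h)
  letI : Algebra A C' := ((algebraMap C C').comp (algebraMap A C)).toAlgebra
  haveI : IsScalarTower A C C' := IsScalarTower.of_algebraMap_eq (fun _ => rfl)
  let ψ : B →ₐ[A] C' :=
    ((τ.comp g).restrictScalars A).comp (Algebra.TensorProduct.includeRight)
  have hψ' : ∀ b : B, ψ' (ψ b) = AdicCompletion.evalₐ (I.map (algebraMap A C)) N (φ (AdicCompletion.of (I.map (algebraMap A B)) B b)) := by
    intro b
    have h1 : ψ' (τ (g ((1 : C) ⊗ₜ[A] b))) = AdicCompletion.evalₐ (I.map (algebraMap A C)) N (h (g ((1 : C) ⊗ₜ[A] b))) :=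
      congr($hψτ (g ((1 : C) ⊗ₜ[A] b)))
    have h2 : h (g ((1 : C) ⊗ₜ[A] b)) = f ((1 : C) ⊗ₜ[A] b) := congr($hgh ((1 : C) ⊗ₜ[A] b))
    have h3 : f ((1 : C) ⊗ₜ[A] b) = φ₀ b := by
      change Algebra.TensorProduct.lift _ _ _ ((1 : C) ⊗ₜ[A] b) = _
      rw [Algebra.TensorProduct.lift_tmul, map_one, one_mul]
    change ψ' (τ (g ((1 : C) ⊗ₜ[A] b))) = _
    rw [h1, h2, h3, hφ₀]
  have hmapJ : ((I.map (algebraMap A C)) ^ N).map (algebraMap C C') = (I.map (algebraMap A C')) ^ N := by
    rw [Ideal.map_pow, Ideal.map_map, ← IsScalarTower.algebraMap_eq]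
  have hJle : (I.map (algebraMap A C)) ^ N ≤ (I.map (algebraMap A C)) := Ideal.pow_le_self (by omega)
  refine ⟨C', inferInstance, inferInstance, inferInstance, inferInstance, inferInstance, ψ,
    ⟨?_, ?_⟩, ?_⟩
  · intro c'
    obtain ⟨c, hc⟩ := Ideal.Quotient.mk_surjective (ψ' c')
    refine ⟨c, ?_⟩
    have h1 : algebraMap C C' c - c' ∈ RingHom.ker ψ' := by
      rw [RingHom.mem_ker, map_sub, AlgHom.commutes, ← hc]
      exact sub_self _
    rw [hker, hmapJ] at h1
    exact Ideal.pow_le_self (by omega) h1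
  · intro c hc
    -- apply `C' → C/J^N → C/J`
    let q : C ⧸ (I.map (algebraMap A C)) ^ N →ₐ[C] C ⧸ (I.map (algebraMap A C)) := Ideal.Quotient.factorₐ C hJle
    have h1 : I.map (algebraMap A C') ≤ RingHom.ker (q.comp ψ') := by
      rw [Ideal.map_le_iff_le_comap]
      intro a ha
      rw [Ideal.mem_comap, RingHom.mem_ker, IsScalarTower.algebraMap_apply A C C',
        AlgHom.commutes]
      exact Ideal.Quotient.eq_zero_iff_mem.mpr (Ideal.mem_map_of_mem _ ha)
    have h2 := h1 hc
    rw [RingHom.mem_ker, AlgHom.commutes] at h2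
    exact Ideal.Quotient.eq_zero_iff_mem.mp h2
  · intro b
    obtain ⟨c, hc⟩ := Ideal.Quotient.mk_surjective (ψ' (ψ b))
    refine ⟨c, ?_, ?_⟩
    · have h1 : ψ b - algebraMap C C' c ∈ RingHom.ker ψ' := by
        rw [RingHom.mem_ker, map_sub, AlgHom.commutes, ← hc]
        exact sub_self _
      rw [hker, hmapJ] at h1
      exact h1
    · rw [hψ'] at hc
      have hle : (I.map (algebraMap A C)) ^ N ≤ (I.map (algebraMap A C)) ^ N • (⊤ : Ideal C) := by
        rw [smul_eq_mul, Ideal.mul_top]
      rw [← AdicCompletion.factor_evalₐ_eq_eval _ _ hle, ← hc]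
      rfl


end Groth.Agent.S8823
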