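import Groth.Statements.S8830
import Groth.Agent.Lib.Helper17TorsFree

set_option autoImplicit false
universe u
open CategoryTheory AlgebraicGeometry Opposite
open Formal2

namespace Groth.Agent.S8830

/-- Implication (1) ⇒ (4) for quasi-coherent systems on a scheme, with f taken in a base ring A over
which X lives. Let (F_n)_{n ≥ 1} be an inverse system of quasi-coherent O_X-modules, indexed here so
that position n holds F_{n+1}. Assume (1): for every n ≥ 1, multiplication by f on F_{n+1} factors
as the transition map F_{n+1} → F_n followed by a monomorphism i : F_n → F_{n+1}, and F_n → F_{n+1}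
→ F_1 (second map the transition map to the first term) is short exact. Then (4): there is an
O_X-module F on which multiplication by f is a monomorphism and whose system of quotients
(F/f^nF)_{n ≥ 1} is isomorphic to (F_n) as an inverse system (existence of an isomorphism). -/
theorem result (A : Type u) [CommRing A] (X : Scheme.{u}) [X.Over (Spec (CommRingCat.of A))] (f : A) (G : ℕᵒᵖ ⥤ X.Modules) (hqc : ∀ n : ℕᵒᵖ, Coh.IsQCoh (G.obj n)) (h1 : ∀ n : ℕ, ∃ i : G.obj (op n) ⟶ G.obj (op (n + 1)), Mono i ∧ G.map (homOfLE (Nat.le_succ n)).op ≫ i = Formal.smulMod A (G.obj (op (n + 1))) f ∧ ∃ w : i ≫ G.map (homOfLE (Nat.zero_le (n + 1))).op = 0, (ShortComplex.mk i (G.map (homOfLE (Nat.zero_le (n + 1))).op) w).ShortExact) : ∃ F : X.Modules, Mono (Formal.smulMod A F f) ∧ Nonempty (Formal.completion (Ideal.span ({f} : Set A)) F ≅ G) := by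
  have hi := fun n => (h1 n).choose_spec.1
  have hti := fun n => (h1 n).choose_spec.2.1
  have hses := fun n => (h1 n).choose_spec.2.2.choose_spec
  have hG := Groth.Agent.Lib.Helper17.TorsFree.isQCohFormal f G hqc (fun n => (h1 n).choose) hi hti
    (fun n => (h1 n).choose_spec.2.2.choose) hses
  have hJ : (Ideal.span ({f} : Set A)).FG := ⟨{f}, by simp⟩
  exact ⟨Limits.limit G,
    Groth.Agent.Lib.Helper17.TorsFree.mono_smulMod_limit f G (fun n => (h1 n).choose) hi hti,
    Groth.Agent.Lib.Helper17.TorsFree.nonempty_completionIso _ G hG hJ⟩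

end Groth.Agent.S8830
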