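import Groth.Statements.S8834
import Mathlib.RingTheory.Noetherian.Nilpotent
import Mathlib.RingTheory.FiniteType
import Mathlib.Tactic
-- import your own Groth.Agent.* helpers here

set_option autoImplicit false
universe u
open AdicRing

namespace Groth.Agent.S8834

/-- Let A be a Noetherian ring complete for the adic topology of an ideal I and B a Noetherian ring
complete for the adic topology of an ideal J, with an algebra map A → B sending I into the radical
of J (a continuous homomorphism of adic Noetherian topological rings; the radicals of I and J are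
the ideals of topologically nilpotent elements). Assume B/√J is of finite type over A, equivalently
over A/√I. Then B is topologically of finite type over A: there are b_1, …, b_s ∈ B such that the
A-algebra map A[x_1, …, x_s] → B with x_i ↦ b_i has dense image for the J-adic topology, that is,
for every y ∈ B and every n there is a polynomial whose value at b differs from y by an element of
J^n. -/
theorem result (A : Type u) [CommRing A] [IsNoetherianRing A] (I : Ideal A) [IsAdicComplete I A] (B : Type u) [CommRing B] [Algebra A B] [IsNoetherianRing B] (J : Ideal B) [IsAdicComplete J B] (hIJ : I.map (algebraMap A B) ≤ J.radical) (hft : Algebra.FiniteType A (B ⧸ J.radical)) : ∃ s : ℕ, ∃ b : Fin s → B, ∀ (y : B) (n : ℕ), ∃ p : MvPolynomial (Fin s) A, y - MvPolynomial.aeval b p ∈ J ^ n := by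
  classical
  set K : Ideal B := J.radical with hK
  -- generators
  obtain ⟨r, g, hg⟩ := Submodule.fg_iff_exists_fin_generating_family.mp
    (IsNoetherian.noetherian K : K.FG)
  obtain ⟨t, f, hfs⟩ := Algebra.FiniteType.iff_quotient_mvPolynomial''.mp hft
  have hc : ∀ i : Fin t, ∃ c : B, Ideal.Quotient.mk K c = f (MvPolynomial.X i) :=
    fun i => Ideal.Quotient.mk_surjective _
  choose c hcf using hc
  let b : Fin (t + r) → B := Fin.append c g
  refine ⟨t + r, b, ?_⟩
  let S : Subalgebra A B := (MvPolynomial.aeval b : MvPolynomial (Fin (t + r)) A →ₐ[A] B).range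
  have hgS : ∀ j, g j ∈ S := fun j => ⟨MvPolynomial.X (Fin.natAdd t j), by simp [b]⟩
  -- the base case
  have hbase : ∀ z : B, ∃ x ∈ S, z - x ∈ K := by
    intro z
    obtain ⟨q, hq⟩ := hfs (Ideal.Quotient.mk K z)
    refine ⟨MvPolynomial.aeval c q, ⟨MvPolynomial.rename (Fin.castAdd r) q, ?_⟩, ?_⟩
    · simp only [AlgHom.toRingHom_eq_coe, RingHom.coe_coe, MvPolynomial.aeval_rename]
      congr 1
      ext i; simp [b]
    · rw [← Ideal.Quotient.eq_zero_iff_mem, map_sub, sub_eq_zero, ← hq]
      have h1 : (Ideal.Quotient.mkₐ A K).comp (MvPolynomial.aeval c) = f := by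
        apply MvPolynomial.algHom_ext
        intro i
        simp [hcf]
      have := AlgHom.congr_fun h1 q
      simpa using this.symm
  -- the inductive step on the powers of K
  have hstep : ∀ m : ℕ, ∀ z ∈ K ^ m, ∃ x ∈ S, z - x ∈ K ^ (m + 1) := by
    intro m
    induction m with
    | zero =>
      intro z _
      simpa using hbase z
    | succ m ih =>
      intro z hz
      rw [pow_succ] at hz
      refine Submodule.mul_induction_on hz ?_ ?_
      · intro u hu v hv
        rw [← hg] at hv
        revert u
        refine Submodule.span_induction ?_ ?_ ?_ ?_ hv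
        · rintro _ ⟨j, rfl⟩ u hu
          obtain ⟨x, hxS, hx⟩ := ih u hu
          refine ⟨x * g j, S.mul_mem hxS (hgS j), ?_⟩
          have : u * g j - x * g j = (u - x) * g j := by ring
          rw [this, pow_succ (K) (m + 1)]
          refine Ideal.mul_mem_mul hx ?_
          rw [← hg]; exact Submodule.subset_span ⟨j, rfl⟩
        · intro u _
          exact ⟨0, S.zero_mem, by simp⟩
        · intro v v' _ _ hv hv' u hu
          obtain ⟨x, hxS, hx⟩ := hv u hu
          obtain ⟨x', hxS', hx'⟩ := hv' u hu
          refine ⟨x + x', S.add_mem hxS hxS', ?_⟩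
          have : u * (v + v') - (x + x') = (u * v - x) + (u * v' - x') := by ring
          rw [this]; exact Ideal.add_mem _ hx hx'
        · intro β v _ hv u hu
          obtain ⟨x, hxS, hx⟩ := hv (u * β) (Ideal.mul_mem_right _ _ hu)
          refine ⟨x, hxS, ?_⟩
          have : u * (β • v) - x = u * β * v - x := by rw [smul_eq_mul]; ring
          rw [this]; exact hx
      · rintro z z' ⟨x, hxS, hx⟩ ⟨x', hxS', hx'⟩
        refine ⟨x + x', S.add_mem hxS hxS', ?_⟩
        have : z + z' - (x + x') = (z - x) + (z' - x') := by ring
        rw [this]; exact Ideal.add_mem _ hx hx'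
  have hall : ∀ m : ℕ, ∀ y : B, ∃ x ∈ S, y - x ∈ K ^ m := by
    intro m
    induction m with
    | zero => intro y; exact ⟨0, S.zero_mem, by simp⟩
    | succ m ih =>
      intro y
      obtain ⟨x, hxS, hx⟩ := ih y
      obtain ⟨x', hxS', hx'⟩ := hstep m _ hx
      refine ⟨x + x', S.add_mem hxS hxS', ?_⟩
      have : y - (x + x') = y - x - x' := by ring
      rw [this]; exact hx'
  obtain ⟨k, hk⟩ := Ideal.exists_radical_pow_le_of_fg J (IsNoetherian.noetherian K : K.FG)
  intro y n
  obtain ⟨x, ⟨p, hp⟩, hx⟩ := hall (k * n) y
  refine ⟨p, ?_⟩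
  have hp' : MvPolynomial.aeval b p = x := hp
  rw [hp']
  have : K ^ (k * n) ≤ J ^ n := by
    rw [pow_mul]
    exact Ideal.pow_right_mono hk n
  exact this hx

end Groth.Agent.S8834
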