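import Groth.Statements.S8835
import Groth.Agent.Lib.Helper14RigClosed2

set_option autoImplicit false
universe u
open AdicRing

namespace Groth.Agent.S8835

/-- Let A be a Noetherian ring complete for the adic topology of an ideal I, and B a Noetherian
A-algebra complete for the IB-adic topology with B/IB of finite type over A (an adic morphism,
topologically of finite type, of adic Noetherian topological rings). Let q be a prime of B which is
rig-closed (IB ⊄ q and q maximal among the primes not containing IB). If A/I is a Jacobson ring,
then the inverse image p of q in A is rig-closed: I ⊄ p and p is maximal among the primes of A not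
containing I. -/
theorem result (A : Type u) [CommRing A] [IsNoetherianRing A] (I : Ideal A) [IsAdicComplete I A] (B : Type u) [CommRing B] [Algebra A B] [IsNoetherianRing B] [IsAdicComplete (I.map (algebraMap A B)) B] (hft : Algebra.FiniteType A (B ⧸ (I.map (algebraMap A B)))) (q : PrimeSpectrum B) (hq : (¬ (I.map (algebraMap A B)) ≤ q.asIdeal ∧ ∀ y : PrimeSpectrum B, q ≤ y → ¬ (I.map (algebraMap A B)) ≤ y.asIdeal → y = q)) (hJ : IsJacobsonRing (A ⧸ I)) : (¬ I ≤ (PrimeSpectrum.comap (algebraMap A B) q).asIdeal ∧ ∀ y : PrimeSpectrum A, (PrimeSpectrum.comap (algebraMap A B) q) ≤ y → ¬ I ≤ y.asIdeal → y = (PrimeSpectrum.comap (algebraMap A B) q)) := by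
  apply Groth.Agent.Lib.Helper14.RigClosed2.rigClosed_comap_of_finite A I B q hq
  apply Groth.Agent.Lib.Helper14.RigClosed2.finite_quotient_of_forall_maximal A I B q hq
  intro m hm _
  apply Groth.Agent.Lib.Helper14.RigClosed2.finite_quotient_of_isJacobsonRing A I B hft m hm
  have hIn : I ≤ m.comap (algebraMap A B) := by
    rw [← Ideal.map_le_iff_le_comap]
    exact Groth.Agent.Lib.Helper14.RigClosed2.map_le_of_isMaximal A I B m hm
  exact isJacobsonRing_of_surjective ⟨Ideal.Quotient.factor hIn, Ideal.Quotient.factor_surjective hIn⟩

end Groth.Agent.S8835
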