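import Groth.Statements.S8848
import Groth.Agent.Lib.Helper5RelEffCartier

set_option autoImplicit false
universe u
open CategoryTheory CategoryTheory.Limits AlgebraicGeometry TopologicalSpace
open SDiv

namespace Groth.Agent.S8848

/-- Let φ : X ⟶ S be flat and locally of finite presentation and let 𝓘 be a quasi-coherent ideal sheaf
on X which is locally principal (generated by one section on some affine open neighbourhood of each
point of its support). If for every point s of S the inverse image ideal of 𝓘 on the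
scheme-theoretic fibre X_s is the ideal sheaf of an effective Cartier divisor of X_s, then 𝓘 is the
ideal sheaf of an effective Cartier divisor of X and its closed subscheme is flat over S (a relative
effective Cartier divisor). -/
theorem result {X S : Scheme.{u}} (φ : X ⟶ S) [Flat φ] [LocallyOfFinitePresentation φ]
    (𝓘 : X.IdealSheafData) (hZ : Curv2.IsLocPrincipal 𝓘)
    (hfib : ∀ s : ↥S, BlowUp.IsEffCartierIdeal (𝓘.comap (φ.fiberι s))) :
    BlowUp.IsEffCartierIdeal 𝓘 ∧ Flat (𝓘.subschemeι ≫ φ) := by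
  have key : ∀ x ∈ 𝓘.support, ∃ (D : X.Opens) (hD : IsAffineOpen D), x ∈ D ∧
      (∃ h' : Γ(X, D), h' ∈ nonZeroDivisors Γ(X, D) ∧ 𝓘.ideal ⟨D, hD⟩ = Ideal.span {h'}) ∧
      Flat (Groth.Agent.Lib.Helper5.SliceListGeo.sliceι hD (𝓘.ideal ⟨D, hD⟩) ≫ φ) := by
    intro x hx
    obtain ⟨U, hxU, h, hI⟩ := hZ x hx
    exact Groth.Agent.Lib.Helper5.RelEffCartier.exists_local_cartier φ 𝓘 x hx U.2 hxU h hI
      (hfib (φ x))
  refine ⟨?_, ?_⟩
  · intro x
    by_cases hx : x ∈ 𝓘.support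
    · obtain ⟨D, hD, hxD, ⟨h', hnzd, hid⟩, -⟩ := key x hx
      exact ⟨⟨D, hD⟩, hxD, h', hnzd, hid⟩
    · obtain ⟨U, hxU, htop⟩ :=
        Groth.Agent.Lib.Helper5.RelEffCartier.exists_affine_ideal_eq_top 𝓘 x hx
      exact ⟨U, hxU, 1, one_mem _, by rw [htop, Ideal.span_singleton_one]⟩
  · rw [Flat.iff_flat_stalkMap]
    intro z
    have hx : 𝓘.subschemeι z ∈ 𝓘.support := by
      rw [← SetLike.mem_coe, ← 𝓘.range_subschemeι]; exact ⟨z, rfl⟩
    obtain ⟨D, hD, hxD, -, hfl⟩ := key _ hx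
    have hz : z ∈ (𝓘.subschemeCover.f ⟨D, hD⟩).opensRange := by
      rw [𝓘.opensRange_subschemeCover_map]; exact hxD
    obtain ⟨z', rfl⟩ := hz
    have hcomp : 𝓘.subschemeCover.f ⟨D, hD⟩ ≫ 𝓘.subschemeι =
        Groth.Agent.Lib.Helper5.SliceListGeo.sliceι hD (𝓘.ideal ⟨D, hD⟩) := by
      rw [𝓘.subschemeCover_map_subschemeι]
      simp only [Scheme.IdealSheafData.glueDataObjι, Category.assoc, IsAffineOpen.isoSpec_inv_ι]
      rfl
    have h1 : Flat (𝓘.subschemeCover.f ⟨D, hD⟩ ≫ 𝓘.subschemeι ≫ φ) := by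
      rw [← Category.assoc, hcomp]; exact hfl
    have h2 := (Flat.iff_flat_stalkMap _).mp h1 z'
    exact (Groth.Agent.Lib.Helper20.FlatDesc.stalkMap_comp_iff_left
      (Q := fun φ => RingHom.Flat φ) RingHom.Flat.respectsIso (𝓘.subschemeCover.f ⟨D, hD⟩)
      (𝓘.subschemeι ≫ φ) z').mp h2

end Groth.Agent.S8848
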