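import Groth.Statements.S8849
import Groth.Agent.Lib.Helper2NzdFlat2
import Groth.Agent.Lib.Helper2StalkFlat
import Groth.Agent.Lib.Helper20RelCartier

set_option autoImplicit false
universe u
open CategoryTheory CategoryTheory.Limits AlgebraicGeometry TopologicalSpace
open SDiv

namespace Groth.Agent.S8849

open Groth.Agent.Lib.Helper20 Groth.Agent.Lib.Helper2 in

/-- Let f : X ⟶ S be a morphism of schemes and 𝓘 the ideal sheaf of an effective Cartier divisor D ⊆ X
with D flat over S (a relative effective Cartier divisor). If f is flat at every point of X not in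
D, then f is flat. -/
theorem result {X S : Scheme.{u}} (f : X ⟶ S) (𝓘 : X.IdealSheafData)
    (hD : BlowUp.IsEffCartierIdeal 𝓘 ∧ Flat (𝓘.subschemeι ≫ f))
    (hflat : ∀ x : ↥X, x ∉ 𝓘.support → (f.stalkMap x).hom.Flat) : Flat f := by
  obtain ⟨hE, hF⟩ := hD
  haveI := hF
  apply Flat.of_stalkMap
  intro x
  by_cases hx : x ∈ 𝓘.support
  swap
  · exact hflat x hx
  obtain ⟨W, hW, hfxW, -⟩ := exists_isAffineOpen_mem_and_subset (x := f x) (U := (⊤ : S.Opens)) trivial
  obtain ⟨U, hU, hxU, hUW, a, ha, hIa⟩ :=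
    EffCartier.exists_le_of_isEffCartierIdeal hE x (f ⁻¹ᵁ W) hfxW
  refine StalkFlat.flat_stalkMap_of_flat_appLE f hU hW hUW ?_ x hxU
  letI algAB : Algebra Γ(S, W) Γ(X, U) := (f.appLE W U hUW).hom.toAlgebra
  change Module.Flat Γ(S, W) Γ(X, U)
  have q1 := RelCartier.flat_quotient_of_flat f 𝓘 hW hU hUW
  rw [hIa] at q1
  haveI := q1
  have hU' : IsAffineOpen (X.basicOpen a) := hU.basicOpen a
  have hle : X.basicOpen a ≤ f ⁻¹ᵁ W := (X.basicOpen_le a).trans hUW
  have h1 : (f.appLE W (X.basicOpen a) hle).hom.Flat := by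
    refine StalkFlat.flat_appLE_of_flat_stalkMap f hU' hW hle (fun x' hx' => hflat x' ?_)
    intro hx's
    have hx'U : x' ∈ U := X.basicOpen_le a hx'
    rw [Scheme.IdealSheafData.mem_support_iff_of_mem (U := ⟨U, hU⟩) hx'U, hIa,
      Scheme.mem_zeroLocus_iff] at hx's
    exact hx's a (Ideal.subset_span (Set.mem_singleton a)) hx'
  letI algABa : Algebra Γ(S, W) Γ(X, X.basicOpen a) := (f.appLE W (X.basicOpen a) hle).hom.toAlgebra
  haveI : Module.Flat Γ(S, W) Γ(X, X.basicOpen a) := h1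
  haveI := hU.isLocalization_basicOpen a
  haveI : IsScalarTower Γ(S, W) Γ(X, U) Γ(X, X.basicOpen a) := by
    refine IsScalarTower.of_algebraMap_eq (fun r => ?_)
    change (f.appLE W (X.basicOpen a) hle).hom r =
      (X.presheaf.map (homOfLE (X.basicOpen_le a)).op).hom ((f.appLE W U hUW).hom r)
    rw [← Scheme.Hom.appLE_map f hUW (homOfLE (X.basicOpen_le a)).op]
    rfl
  exact NzdFlat2.flat_of_flat_quotient_of_flat_away a ha Γ(X, X.basicOpen a)

end Groth.Agent.S8849
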