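import Groth.Statements.S8850
import Mathlib

set_option autoImplicit false
universe u
open CategoryTheory CategoryTheory.Limits AlgebraicGeometry TopologicalSpace
open SDiv

namespace Groth.Agent.S8850

/-- Let S be a scheme, X a Noetherian S-scheme, Y a proper S-scheme, U ⊆ X an open subscheme and f : U ⟶
Y a morphism compatible with the structure morphisms to S. Then there are a proper morphism p : X' ⟶
X restricting to an isomorphism over U and an S-morphism f' : X' ⟶ Y whose restriction to p⁻¹(U) is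
f composed with p. The published statement takes U dense, so that f is an S-rational map; this row
allows any open U, which its proof does not need. -/
theorem result {X Y S : Scheme.{u}} [IsNoetherian X] (a : X ⟶ S) (b : Y ⟶ S)
    [IsProper b] (U : X.Opens) (f : (U : Scheme.{u}) ⟶ Y) (hf : f ≫ b = U.ι ≫ a) :
    ∃ (X' : Scheme.{u}) (p : X' ⟶ X) (f' : X' ⟶ Y), IsProper p ∧ IsIso (p ∣_ U) ∧ f' ≫ b = p ≫ a ∧
      (p ⁻¹ᵁ U).ι ≫ f' = (p ∣_ U) ≫ f := by
  -- the graph of `f` in `X ×_S Y`
  obtain ⟨g, hg1, hg2⟩ : ∃ g : (U : Scheme.{u}) ⟶ pullback a b,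
      g ≫ pullback.fst a b = U.ι ∧ g ≫ pullback.snd a b = f :=
    ⟨pullback.lift U.ι f hf.symm, pullback.lift_fst _ _ _, pullback.lift_snd _ _ _⟩
  haveI : IsImmersion g := by
    haveI : IsImmersion (g ≫ pullback.fst a b) := by
      rw [hg1]
      infer_instance
    exact IsImmersion.of_comp g (pullback.fst a b)
  haveI : NoetherianSpace (U : Scheme.{u}) := inferInstanceAs (NoetherianSpace (U : Set X))
  haveI : QuasiCompact g := inferInstance
  haveI : IsOpenImmersion g.toImage := inferInstance
  -- the restricted graph is a closed immersion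
  have hrange : Set.range g ⊆ Set.range (pullback.fst a b ⁻¹ᵁ U).ι := by
    rintro _ ⟨u, rfl⟩
    rw [Scheme.Opens.range_ι]
    change (pullback.fst a b) (g u) ∈ U
    rw [← Scheme.Hom.comp_apply, hg1]
    exact u.2
  obtain ⟨g', hg'⟩ : ∃ g' : (U : Scheme.{u}) ⟶ (pullback.fst a b ⁻¹ᵁ U : (pullback a b).Opens),
      g' ≫ (pullback.fst a b ⁻¹ᵁ U).ι = g :=
    ⟨IsOpenImmersion.lift _ g hrange, IsOpenImmersion.lift_fac _ _ _⟩
  have hsec : g' ≫ (pullback.fst a b ∣_ U) = 𝟙 _ := by
    rw [← cancel_mono U.ι, Category.assoc, morphismRestrict_ι, ← Category.assoc, hg', hg1,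
      Category.id_comp]
  haveI : IsSeparated (pullback.fst a b ∣_ U) :=
    MorphismProperty.of_isPullback (P := @IsSeparated)
      (isPullback_morphismRestrict (pullback.fst a b) U).flip inferInstance
  haveI : IsClosedImmersion g' := by
    haveI : IsClosedImmersion (g' ≫ (pullback.fst a b ∣_ U)) := by
      rw [hsec]
      infer_instance
    exact IsClosedImmersion.of_comp g' (pullback.fst a b ∣_ U)
  have hclosed : IsClosed (Set.range g') := g'.isClosedEmbedding.isClosed_range
  -- points of the closure of the graph lying over `U` are on the graph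
  have hkey : ∀ z : ↥(pullback a b), z ∈ closure (Set.range g) → (pullback.fst a b) z ∈ U →
      z ∈ Set.range g := by
    intro z hz hzU
    have h1 := (pullback.fst a b ⁻¹ᵁ U).ι.isOpenEmbedding.isInducing.closure_eq_preimage_closure_image
      (Set.range g')
    rw [hclosed.closure_eq, ← Set.range_comp] at h1
    have h2 : (⟨z, hzU⟩ : (pullback.fst a b ⁻¹ᵁ U : (pullback a b).Opens)) ∈ Set.range g' := by
      rw [h1]
      change z ∈ closure (Set.range ((pullback.fst a b ⁻¹ᵁ U).ι ∘ g'))
      have h3 : Set.range ((pullback.fst a b ⁻¹ᵁ U).ι ∘ g') = Set.range g := by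
        rw [← hg']
        rfl
      rw [h3]
      exact hz
    obtain ⟨u, hu⟩ := h2
    refine ⟨u, ?_⟩
    rw [← hg', Scheme.Hom.comp_apply, hu]
    rfl
  -- the modification
  have hp1 : g.toImage ≫ (g.imageι ≫ pullback.fst a b) = U.ι := by
    rw [← Category.assoc, Scheme.Hom.toImage_imageι, hg1]
  have hrange2 : Set.range g.toImage = Set.range ((g.imageι ≫ pullback.fst a b) ⁻¹ᵁ U).ι := by
    rw [Scheme.Opens.range_ι]
    apply Set.Subset.antisymm
    · rintro _ ⟨u, rfl⟩
      change (g.imageι ≫ pullback.fst a b) (g.toImage u) ∈ U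
      rw [← Scheme.Hom.comp_apply, hp1]
      exact u.2
    · intro x' hx'
      have hz : g.imageι x' ∈ closure (Set.range g) := by
        have h4 : g.imageι x' ∈ Set.range g.imageι := ⟨x', rfl⟩
        rw [Scheme.Hom.imageι, Scheme.IdealSheafData.range_subschemeι, Scheme.Hom.support_ker] at h4
        exact h4
      obtain ⟨u, hu⟩ := hkey (g.imageι x') hz hx'
      refine ⟨u, ?_⟩
      apply g.imageι.isClosedEmbedding.injective
      rw [← Scheme.Hom.comp_apply, Scheme.Hom.toImage_imageι]
      exact hu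
  let e : (U : Scheme.{u}) ≅ ((g.imageι ≫ pullback.fst a b) ⁻¹ᵁ U : g.image.Opens) :=
    IsOpenImmersion.isoOfRangeEq g.toImage ((g.imageι ≫ pullback.fst a b) ⁻¹ᵁ U).ι hrange2
  have he : e.hom ≫ ((g.imageι ≫ pullback.fst a b) ⁻¹ᵁ U).ι = g.toImage :=
    IsOpenImmersion.isoOfRangeEq_hom_fac _ _ _
  have he2 : e.hom ≫ ((g.imageι ≫ pullback.fst a b) ∣_ U) = 𝟙 _ := by
    rw [← cancel_mono U.ι, Category.assoc, morphismRestrict_ι, ← Category.assoc, he, hp1,
      Category.id_comp]
  have he3 : (g.imageι ≫ pullback.fst a b) ∣_ U = e.inv := by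
    rw [← cancel_epi e.hom, he2, e.hom_inv_id]
  refine ⟨g.image, g.imageι ≫ pullback.fst a b, g.imageι ≫ pullback.snd a b, inferInstance, ?_, ?_,
    ?_⟩
  · rw [he3]
    infer_instance
  · rw [Category.assoc, Category.assoc, pullback.condition]
  · rw [← cancel_epi e.hom]
    have l : e.hom ≫ (((g.imageι ≫ pullback.fst a b) ⁻¹ᵁ U).ι ≫ g.imageι ≫ pullback.snd a b) =
        f := by
      rw [← Category.assoc, he, ← Category.assoc, Scheme.Hom.toImage_imageι, hg2]
    have r : e.hom ≫ (((g.imageι ≫ pullback.fst a b) ∣_ U) ≫ f) = f := by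
      rw [← Category.assoc, he2, Category.id_comp]
    exact l.trans r.symm

end Groth.Agent.S8850
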