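import Groth.Statements.S8853
import Mathlib

set_option autoImplicit false
universe u
open CategoryTheory CategoryTheory.Limits AlgebraicGeometry TopologicalSpace
open SDiv

namespace Groth.Agent.S8853

theorem compl_inf_eq_basicOpen {Z : Scheme.{u}} (K : Z.IdealSheafData) (U : Z.affineOpens)
    (a : Γ(Z, U.1)) (ha : K.ideal U = Ideal.span {a}) :
    K.support.compl ⊓ U.1 = Z.basicOpen a := by
  ext x
  simp only [TopologicalSpace.Opens.coe_inf, Set.mem_inter_iff, SetLike.mem_coe]
  constructor
  · rintro ⟨hx1, hx2⟩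
    have : x ∉ K.support := hx1
    rw [Scheme.IdealSheafData.mem_support_iff_of_mem hx2, ha, Scheme.zeroLocus_span,
      Scheme.zeroLocus_singleton] at this
    simpa using this
  · intro hx
    have hxU := Z.basicOpen_le a hx
    refine ⟨?_, hxU⟩
    show x ∉ K.support
    rw [Scheme.IdealSheafData.mem_support_iff_of_mem hxU, ha, Scheme.zeroLocus_span,
      Scheme.zeroLocus_singleton]
    simpa using hx

set_option backward.isDefEq.respectTransparency.types false in

/-- Let Z be a locally principal closed subscheme of a scheme S, with ideal sheaf 𝓘 generated by a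
single section on some affine open neighbourhood of each point of its support, and let U be the open
complement of Z. Then the inclusion U ⟶ S is an affine morphism. -/
theorem result {S : Scheme.{u}} (𝓘 : S.IdealSheafData) (h : Curv2.IsLocPrincipal 𝓘) :
    IsAffineHom (Scheme.Opens.ι 𝓘.support.compl) := by
  set O : S.Opens := 𝓘.support.compl with hO
  let J : Type u := {U : S.affineOpens // IsAffineOpen (O ⊓ U.1)}
  apply HasAffineProperty.of_iSup_eq_top (P := @IsAffineHom) (fun j : J => j.1)
  · rw [eq_top_iff]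
    intro x _
    by_cases hx : x ∈ 𝓘.support
    · obtain ⟨U, hxU, a, ha⟩ := h x hx
      refine TopologicalSpace.Opens.mem_iSup.mpr ⟨⟨U, ?_⟩, hxU⟩
      rw [hO, compl_inf_eq_basicOpen 𝓘 U a ha]
      exact U.2.basicOpen a
    · obtain ⟨_, ⟨U, hU, rfl⟩, hxU, hUO⟩ := S.isBasis_affineOpens.exists_subset_of_mem_open
        (show x ∈ (O : Set S) from hx) O.isOpen
      refine TopologicalSpace.Opens.mem_iSup.mpr ⟨⟨⟨U, hU⟩, ?_⟩, hxU⟩
      have : O ⊓ U = U := inf_eq_right.mpr hUO
      rw [this]
      exact hU
  · rintro ⟨U, hU⟩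
    show IsAffine _
    have h1 : IsAffineOpen (O.ι ⁻¹ᵁ U.1) := by
      rw [← O.ι.isAffineOpen_iff_of_isOpenImmersion]
      have : O.ι ''ᵁ O.ι ⁻¹ᵁ U.1 = O ⊓ U.1 := by
        rw [Scheme.Hom.image_preimage_eq_opensRange_inf, Scheme.Opens.opensRange_ι]
      rw [this]
      exact hU
    exact h1

end Groth.Agent.S8853
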