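import Groth.Statements.S8854
import Mathlib
-- import your own Groth.Agent.* helpers here

set_option autoImplicit false
universe u
open SDiv

namespace Groth.Agent.S8854

/-- Let R be a Noetherian unique factorisation domain and I ⊆ R an ideal such that every associated
prime of R/I is minimal over I (R/I has no embedded primes) and every prime minimal over I has
height 1. Then I is principal: it is generated by one element. -/
theorem result (R : Type u) [CommRing R] [IsDomain R] [IsNoetherianRing R]
    [UniqueFactorizationMonoid R] (I : Ideal R)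
    (h1 : ∀ p : Ideal R, p ∈ associatedPrimes R (R ⧸ I) → p ∈ I.minimalPrimes)
    (h2 : ∀ p : Ideal R, p ∈ I.minimalPrimes → p.height = 1) :
    ∃ f : R, I = Ideal.span {f} := by
  classical
  obtain ⟨_⟩ : Nonempty (NormalizedGCDMonoid R) := inferInstance
  obtain ⟨s, hs⟩ := (IsNoetherian.noetherian I : I.FG)
  set d := s.gcd id with hd
  have hdvd : ∀ a ∈ I, d ∣ a := by
    intro a ha
    rw [← hs] at ha
    refine Submodule.span_induction ?_ ?_ ?_ ?_ ha
    · intro x hx
      exact Finset.gcd_dvd (f := id) hx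
    · exact dvd_zero _
    · intro x y _ _ hx hy
      exact dvd_add hx hy
    · intro a x _ hx
      exact Dvd.dvd.mul_left hx a
  by_cases hd0 : d = 0
  · refine ⟨0, ?_⟩
    rw [Ideal.span_singleton_zero, eq_bot_iff]
    intro a ha
    have := hdvd a ha
    rw [hd0, zero_dvd_iff] at this
    exact this
  refine ⟨d, ?_⟩
  -- J = (I : d)
  let J : Ideal R := Submodule.comap (LinearMap.mulLeft R d) I
  have hJmem : ∀ r, r ∈ J ↔ d * r ∈ I := fun r => Iff.rfl
  suffices hJ : J = ⊤ by
    apply le_antisymm
    · intro a ha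
      exact Ideal.mem_span_singleton.2 (hdvd a ha)
    · rw [Ideal.span_singleton_le_iff_mem]
      have : (1 : R) ∈ J := by rw [hJ]; trivial
      rw [hJmem, mul_one] at this
      exact this
  by_contra hJne
  have : Nontrivial (R ⧸ J) := Ideal.Quotient.nontrivial_iff.2 hJne
  obtain ⟨q, hq⟩ := associatedPrimes.nonempty R (R ⧸ J)
  -- the injection R/J → R/I
  let φ : (R ⧸ J) →ₗ[R] (R ⧸ I) := Submodule.mapQ J I (LinearMap.mulLeft R d) (le_refl _)
  have hφ : Function.Injective φ := by
    rw [injective_iff_map_eq_zero]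
    intro x hx
    obtain ⟨r, rfl⟩ := Ideal.Quotient.mk_surjective x
    have : φ (Ideal.Quotient.mk J r) = Ideal.Quotient.mk I (d * r) := rfl
    rw [this, Ideal.Quotient.eq_zero_iff_mem] at hx
    exact Ideal.Quotient.eq_zero_iff_mem.2 ((hJmem r).2 hx)
  have hqI : q ∈ associatedPrimes R (R ⧸ I) := associatedPrimes.subset_of_injective hφ hq
  have hqmin := h1 q hqI
  have hqht := h2 q hqmin
  have hqprime : q.IsPrime := hqmin.1.1
  have hJq : J ≤ q := by
    have := (show IsAssociatedPrime q (R ⧸ J) from hq).annihilator_le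
    rwa [Submodule.annihilator_top, Ideal.annihilator_quotient] at this
  have hqbot : q ≠ ⊥ := by
    rintro rfl
    rw [Ideal.height_bot] at hqht
    exact zero_ne_one hqht
  obtain ⟨π, hπq, hπ⟩ := hqprime.exists_mem_prime_of_ne_bot hqbot
  have hπprime : (Ideal.span {π}).IsPrime := (Ideal.span_singleton_prime hπ.ne_zero).2 hπ
  have hπle : Ideal.span {π} ≤ q := (Ideal.span_singleton_le_iff_mem _).2 hπq
  have hqeq : q = Ideal.span {π} := by
    by_contra hne
    have hlt : Ideal.span {π} < q := lt_of_le_of_ne hπle (Ne.symm hne)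
    have hbot : (⊥ : Ideal R) < Ideal.span {π} := by
      rw [bot_lt_iff_ne_bot]
      intro h
      rw [Ideal.span_singleton_eq_bot] at h
      exact hπ.ne_zero h
    have h1' := Ideal.height_strict_mono_of_isPrime_of_isPrime hbot
    have h2' := Ideal.height_strict_mono_of_isPrime_of_isPrime hlt
    rw [Ideal.height_bot] at h1'
    rw [hqht] at h2'
    have : (1 : ℕ∞) ≤ (Ideal.span {π}).height := Order.one_le_iff_pos.2 h1'
    exact absurd (lt_of_le_of_lt this h2') (lt_irrefl _)
  -- now π divides every a/d
  have hdπ : d * π ∣ d := by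
    rw [hd]
    refine Finset.dvd_gcd fun a ha => ?_
    have haI : a ∈ I := by rw [← hs]; exact Ideal.subset_span ha
    obtain ⟨r, hr⟩ := hdvd a haI
    have hrJ : r ∈ J := by rw [hJmem, ← hr]; exact haI
    have hrq : r ∈ Ideal.span {π} := hqeq ▸ hJq hrJ
    obtain ⟨c, hc⟩ := Ideal.mem_span_singleton.1 hrq
    show d * π ∣ a
    exact ⟨c, by rw [hr, hc]; ring⟩
  obtain ⟨c, hc⟩ := hdπ
  have : π * c = 1 := by
    have h3 : d * (π * c) = d * 1 := by rw [mul_one]; rw [← mul_assoc]; exact hc.symm
    exact mul_left_cancel₀ hd0 h3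
  exact hπ.not_unit (isUnit_iff_exists_inv.2 ⟨c, this⟩)

end Groth.Agent.S8854
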