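import Groth.Statements.S8858
import Groth.Agent.Lib.Helper2BlowDom

set_option autoImplicit false
universe u
open CategoryTheory CategoryTheory.Limits AlgebraicGeometry TopologicalSpace
open SDiv

namespace Groth.Agent.S8858

/-- Let X be a quasi-compact and quasi-separated scheme, U ⊆ X a quasi-compact open subscheme, and b_i :
X_i ⟶ X, i < n, blowing ups of X in quasi-coherent ideal sheaves 𝓘_i of finite type with support
disjoint from U (U-admissible blow-ups). Then there is a U-admissible blow-up c : X' ⟶ X such that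
(a) c factors as X' ⟶ X_i ⟶ X for every i, and (b) each factor X' ⟶ X_i is a blowing up of X_i in a
quasi-coherent ideal sheaf of finite type whose support is disjoint from the inverse image of U. -/
theorem result (X : Scheme.{u}) [CompactSpace ↥X] [QuasiSeparatedSpace ↥X]
    (U : X.Opens) (hU : IsCompact (U : Set ↥X)) {n : ℕ} (Xi : Fin n → Scheme.{u}) (b : ∀ i, Xi i ⟶ X)
    (𝓘 : Fin n → X.IdealSheafData) (hb : ∀ i, BlowUp.IsBlowUp (b i) (𝓘 i)) (ha : ∀ i, BlowUp.IsAdmissibleFor U (𝓘 i)) :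
    ∃ (𝓙 : X.IdealSheafData) (X' : Scheme.{u}) (c : X' ⟶ X), BlowUp.IsBlowUp c 𝓙 ∧ BlowUp.IsAdmissibleFor U 𝓙 ∧
      ∀ i, ∃ (g : X' ⟶ Xi i) (𝓚 : (Xi i).IdealSheafData), g ≫ b i = c ∧ BlowUp.IsBlowUp g 𝓚 ∧
        BlowUp.IsAdmissibleFor ((b i) ⁻¹ᵁ U) 𝓚 := by
  classical
  obtain ⟨X', c, hc⟩ := Groth.Agent.Lib.Helper2.BlowGlue.exists_isBlowUp X (∏ i, 𝓘 i)
  refine ⟨∏ i, 𝓘 i, X', c, hc,
    Groth.Agent.Lib.Helper2.BlowDom.isAdmissibleFor_prod Finset.univ 𝓘 (fun i _ => ha i),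
    fun i => ?_⟩
  have hsplit : ∏ j, 𝓘 j = 𝓘 i * ∏ j ∈ Finset.univ.erase i, 𝓘 j :=
    (Finset.mul_prod_erase Finset.univ 𝓘 (Finset.mem_univ i)).symm
  rw [hsplit] at hc
  obtain ⟨g, hg, hgb⟩ :=
    Groth.Agent.Lib.Helper2.BlowDom.exists_factor_isBlowUp (𝓘 i) _ (b i) (hb i) c hc
  exact ⟨g, _, hg, hgb, Groth.Agent.Lib.Helper2.BlowDom.isAdmissibleFor_comap (b i)
    (Groth.Agent.Lib.Helper2.BlowDom.isAdmissibleFor_prod _ 𝓘 (fun j _ => ha j))⟩

end Groth.Agent.S8858
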