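import Groth.Statements.S8860
import Mathlib
import Groth.Agent.Lib.Helper23Norm3
import Groth.Agent.Lib.Helper23FFNorm
import Groth.Agent.Lib.Helper10RedInd
-- import your own Groth.Agent.* helpers here

set_option autoImplicit false
universe u
open CategoryTheory CategoryTheory.Limits AlgebraicGeometry TopologicalSpace
open SDiv

namespace Groth.Agent.S8860


open Groth.Agent.Lib.Helper23.Norm3 in
theorem caseA {X Y : Scheme.{u}} (π : X ⟶ Y) [IsFinite π] [Surjective π]
    (hX : X.IsQuasiAffine) (h : Mor2.IsFinLocFree π) : Y.IsQuasiAffine := by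
  obtain ⟨N⟩ := nonempty_weakNorm_of_isFinLocFree π h
  exact isQuasiAffine_of_weakNorm N π.surjective hX

open Scheme.IdealSheafData in
theorem caseB {X Y : Scheme.{u}} (π : X ⟶ Y) [IsFinite π] [Surjective π]
    (hX : X.IsQuasiAffine) [IsIntegral Y] (hY : Pi1.IsNormalScheme Y) : Y.IsQuasiAffine := by
  obtain ⟨x, hx⟩ := π.surjective (genericPoint Y)
  let Z : Closeds X := ⟨closure {x}, isClosed_closure⟩
  let X' : Scheme.{u} := (vanishingIdeal Z).subscheme
  let ι : X' ⟶ X := (vanishingIdeal Z).subschemeι
  haveI : IsReduced X' := Groth.Agent.Lib.Helper10.RedInd.isReduced_subscheme_vanishingIdeal Z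
  have hrange : Set.range ι = closure {x} := by
    rw [range_subschemeι]
    exact coe_support_vanishingIdeal Z
  haveI : IrreducibleSpace X' := by
    have h1 : IsIrreducible ((vanishingIdeal Z).support : Set X) := by
      rw [coe_support_vanishingIdeal]
      exact isIrreducible_singleton.closure
    exact Subtype.irreducibleSpace h1
  haveI : IsIntegral X' := isIntegral_of_irreducibleSpace_of_isReduced X'
  haveI : X'.IsQuasiAffine := Scheme.IsQuasiAffine.of_isAffineHom ι
  haveI : Surjective (ι ≫ π) := by
    constructor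
    intro y
    have hcl : IsClosed (π '' (closure {x})) := π.isClosedMap _ isClosed_closure
    have hmem : genericPoint Y ∈ π '' (closure {x}) := ⟨x, subset_closure rfl, hx⟩
    have hy : y ∈ closure {genericPoint Y} := by
      rw [(genericPoint_spec Y).def]
      trivial
    have hy' : y ∈ π '' (closure {x}) :=
      (hcl.closure_subset_iff.2 (Set.singleton_subset_iff.2 hmem)) hy
    obtain ⟨x', hx', rfl⟩ := hy'
    rw [← hrange] at hx'
    obtain ⟨x'', rfl⟩ := hx'
    exact ⟨x'', rfl⟩
  obtain ⟨d, ⟨N⟩⟩ := Groth.Agent.Lib.Helper23.FFNorm.hasNorm (ι ≫ π) hY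
  exact Groth.Agent.Lib.Helper23.Norm.isQuasiAffine_of_norm (ι ≫ π) N inferInstance

/-- Let π : X ⟶ Y be a finite surjective morphism of schemes with X quasi-affine. If either π is finite
locally free (finite, flat and locally of finite presentation), or Y is integral with all local
rings integrally closed domains (normal), then Y is quasi-affine. -/
theorem result {X Y : Scheme.{u}} (π : X ⟶ Y) [IsFinite π] [Surjective π]
    (hX : X.IsQuasiAffine) (h : Mor2.IsFinLocFree π ∨ (IsIntegral Y ∧ Pi1.IsNormalScheme Y)) :
    Y.IsQuasiAffine := by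
  rcases h with h | ⟨h1, h2⟩
  · exact caseA π hX h
  · exact caseB π hX h2

end Groth.Agent.S8860
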