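import Groth.Statements.S8865
import Groth.Agent.Lib.Helper20Kmod2

set_option autoImplicit false
universe u
open CategoryTheory CategoryTheory.Limits AlgebraicGeometry TopologicalSpace
open SDiv

namespace Groth.Agent.S8865

open Groth.Agent.Lib.Helper20.Kmod

/-- Let X be a quasi-compact scheme, h a global section of O_X and f a global section of the sheaf of
meromorphic functions K_X whose restriction to the open X_h where h is invertible vanishes. Then h^n
f = 0 in K_X(X) for some natural number n. -/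
theorem result (X : Scheme.{u}) [CompactSpace ↥X] (h : Γ(X, ⊤))
    (f : Γ(Mero.kmod X, ⊤)) (hf : (Mero.kmod X).presheaf.map (homOfLE (le_top : X.basicOpen h ≤ ⊤)).op f = 0) :
    ∃ n : ℕ, Mero.toK X ⊤ h ^ n * f = 0 := by
  have hf' : ∀ y : (⊤ : X.Opens), y.1 ∈ X.basicOpen h → f.1 y = 0 := by
    intro y hy
    have h2 : ((Mero.kmod X).presheaf.map (homOfLE (le_top : X.basicOpen h ≤ ⊤)).op f).1 ⟨y.1, hy⟩ = f.1 y := rfl
    rw [hf] at h2
    exact h2.symm
  choose W hWaff hxW hWU a b hfrac using fun x : (⊤ : X.Opens) => exists_local_frac_affine f x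
  have hn : ∀ x : (⊤ : X.Opens), ∃ n : ℕ, ∀ m, n ≤ m → ∀ y : (⊤ : X.Opens), y.1 ∈ W x →
      (Mero.toK X ⊤ h ^ m * f).1 y = 0 := fun x =>
    exists_pow_mul_eq_zero_of_frac f h (hWaff x).isCompact (hWU x) (a x) (b x) (hfrac x)
      (fun y _ hy => hf' y hy)
  choose n hn using hn
  obtain ⟨t, ht⟩ := isCompact_univ.elim_finite_subcover (fun x : (⊤ : X.Opens) => ((W x : X.Opens) : Set X))
    (fun x => (W x).isOpen) (fun y _ => Set.mem_iUnion.2 ⟨⟨y, trivial⟩, hxW ⟨y, trivial⟩⟩)
  refine ⟨t.sup n, kmod_ext fun y => ?_⟩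
  rw [kmod_zero_apply]
  obtain ⟨x, hxt, hyx⟩ : ∃ x ∈ t, y.1 ∈ W x := by
    have := ht (Set.mem_univ y.1)
    simpa using this
  exact hn x (t.sup n) (Finset.le_sup hxt) y hyx

end Groth.Agent.S8865
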