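import Groth.Statements.S8868
import Groth.Agent.Lib.Helper2Ass

set_option autoImplicit false
universe u
open CategoryTheory CategoryTheory.Limits AlgebraicGeometry TopologicalSpace
open SDiv

namespace Groth.Agent.S8868

/-- Let X be a scheme and F a quasi-coherent O_X-module. Then F is zero if and only if F has no weakly
associated point. -/
theorem result (X : Scheme.{u}) (F : X.Modules) (hF : Coh.IsQCoh F) :
    IsZero F ↔ ∀ x : ↥X, ¬ Curv2.IsWeakAssPoint F x := by
  have : F.IsQuasicoherent := hF
  constructor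
  · intro hz x hx
    have hid : 𝟙 F = 0 := (IsZero.iff_id_eq_zero F).1 hz
    have hsec : ∀ (W : X.Opens) (m : Γ(F, W)), m = 0 := by
      intro W m
      have h1 : (Scheme.Modules.Hom.app (𝟙 F) W) m = (Scheme.Modules.Hom.app (0 : F ⟶ F) W) m := by
        rw [hid]
      rw [Scheme.Modules.Hom.id_app, Scheme.Modules.Hom.zero_app] at h1
      exact h1
    have hsub : Subsingleton (F.presheaf.stalk x) := by
      refine ⟨fun a b => ?_⟩
      obtain ⟨W, hxW, m, rfl⟩ := TopCat.Presheaf.exists_germ_eq F.presheaf a
      obtain ⟨W', hxW', m', rfl⟩ := TopCat.Presheaf.exists_germ_eq F.presheaf b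
      rw [hsec W m, hsec W' m', map_zero, map_zero]
    exact not_isAssociatedPrime_of_subsingleton
      ((Groth.Agent.Lib.Helper2.Ass.isAssPoint_iff_isWeakAssPoint F x).2 hx)
  · intro hno
    rw [IsZero.iff_id_eq_zero]
    apply Scheme.Modules.hom_ext
    intro W
    rw [Scheme.Modules.Hom.id_app, Scheme.Modules.Hom.zero_app]
    ext m
    by_contra hm
    have hm0 : m ≠ 0 := fun h => hm (by rw [h]; simp)
    obtain ⟨y, hyW, hyA, -⟩ :=
      Groth.Agent.Lib.Helper2.Ass.exists_isWeakAssPoint_of_ne_zero_open F W m hm0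
    exact hno y hyA

end Groth.Agent.S8868
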