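import Groth.Statements.S8869
import Groth.Agent.Lib.Helper20OmegaAff
import Groth.Agent.Lib.Helper2QCoh
import Groth.Agent.S1707

set_option autoImplicit false
universe u
open CategoryTheory CategoryTheory.Limits AlgebraicGeometry TopologicalSpace
open SDiv

namespace Groth.Agent.S8869

set_option linter.style.haveILetI false
open nonZeroDivisors TopologicalSpace Groth.Agent.Lib.Helper2.QCoh

/-- Assume X is a reduced scheme and x is a point of X. Then x is weakly associated to the structure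
sheaf O_X exactly when every generization of x equals x itself; equivalently, x is a generic point
of some irreducible component of X. -/
theorem result (X : Scheme.{u}) [IsReduced X] (x : ↥X) :
    Curv2.IsWeakAssPoint (Coh.structureModule X) x ↔ ∀ y : ↥X, y ⤳ x → y = x := by
  let F := Coh.structureModule X
  haveI hqc : F.IsQuasicoherent := Groth.Agent.Lib.Helper20.OmegaAff.isQuasicoherent_structureModule
  obtain ⟨U, hU, hxU, -⟩ := exists_isAffineOpen_mem_and_subset (x := x) (U := (⊤ : X.Opens)) trivial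
  let toF : Γ(X, U) → Γ(F, U) := fun r => r
  let toR : Γ(F, U) → Γ(X, U) := fun m => m
  have hsmul : ∀ (a : Γ(X, U)) (m : Γ(F, U)), a • m = toF (a * toR m) := fun a m => rfl
  constructor
  · rintro ⟨m, hm⟩
    set 𝔭 := (hU.primeIdealOf ⟨x, hxU⟩).asIdeal with h𝔭def
    have memI : ∀ a : X.presheaf.stalk x, a ∈ LinearMap.ker (LinearMap.toSpanSingleton
        (X.presheaf.stalk x) (F.presheaf.stalk x) m) ↔ a • m = 0 := by
      intro a
      simp [LinearMap.mem_ker, LinearMap.toSpanSingleton_apply]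
    have hm0 : m ≠ 0 := by
      intro h0
      have h1 : (1 : X.presheaf.stalk x) ∈ Ideal.radical (LinearMap.ker (LinearMap.toSpanSingleton
          (X.presheaf.stalk x) (F.presheaf.stalk x) m)) := by
        apply Ideal.le_radical
        rw [memI, h0, smul_zero]
      rw [hm] at h1
      exact (IsLocalRing.maximalIdeal.isMaximal _).ne_top ((Ideal.eq_top_iff_one _).2 h1)
    obtain ⟨s, y', hxs, hsm⟩ := exists_smul_eq_germ hU F x hxU m
    have hsu : IsUnit (X.presheaf.germ U x hxU s) := (Scheme.mem_basicOpen _ _ _ hxU).1 hxs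
    let y : Γ(X, U) := toR y'
    have hunit : ∀ t : Γ(X, U), t ∉ 𝔭 → IsUnit (X.presheaf.germ U x hxU t) := by
      intro t ht
      rw [← Scheme.mem_basicOpen _ _ _ hxU,
        Groth.Agent.Lib.Helper2.mem_basicOpen_iff_notMem_primeIdealOf hU x hxU]
      exact ht
    have hgy0 : F.presheaf.germ U x hxU y' ≠ 0 := by
      intro h0
      rw [h0] at hsm
      exact hm0 (germ_smul_eq_zero_of_isUnit hsu hsm)
    -- (ii)
    have h2 : ∀ t : Γ(X, U), t ∉ 𝔭 → t * y ≠ 0 := by
      intro t ht h0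
      have h1 : t • y' = 0 := by rw [hsmul]; exact h0
      have h3 := congrArg (F.presheaf.germ U x hxU) h1
      rw [map_zero, germ_smul] at h3
      exact hgy0 (germ_smul_eq_zero_of_isUnit (hunit t ht) h3)
    -- (iii)
    have h3 : ∀ b : Γ(X, U), b ∈ 𝔭 → ∃ (k : ℕ) (t : Γ(X, U)), t ∉ 𝔭 ∧ t * (b ^ k * y) = 0 := by
      intro b hb
      have hbm : X.presheaf.germ U x hxU b ∈ IsLocalRing.maximalIdeal (X.presheaf.stalk x) :=
        (germ_mem_maximalIdeal_iff hU x hxU b).2 hb
      rw [← hm] at hbm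
      obtain ⟨k, hk⟩ := hbm
      rw [memI] at hk
      have h4 : F.presheaf.germ U x hxU ((b ^ k) • y') = 0 := by
        rw [germ_smul, ← hsm, map_pow, smul_smul, mul_comm, ← smul_smul, hk, smul_zero]
      obtain ⟨t, hxt, ht⟩ := exists_smul_eq_zero_of_germ_eq_zero hU F x hxU _ h4
      refine ⟨k, t, ?_, ?_⟩
      · rw [Groth.Agent.Lib.Helper2.mem_basicOpen_iff_notMem_primeIdealOf hU x hxU] at hxt
        exact hxt
      · exact ht
    haveI : 𝔭.IsPrime := (hU.primeIdealOf ⟨x, hxU⟩).isPrime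
    have hy𝔭 : y ∉ 𝔭 := by
      intro hy
      obtain ⟨k, t, ht𝔭, htk⟩ := h3 y hy
      have h5 : (t * y) ^ (k + 1) = 0 := by
        have : (t * y) ^ (k + 1) = t ^ k * (t * (y ^ k * y)) := by ring
        rw [this, htk, mul_zero]
      exact h2 t ht𝔭 (pow_eq_zero_iff (Nat.succ_ne_zero k) |>.1 h5)
    have hmin : ∀ 𝔮 : Ideal Γ(X, U), 𝔮.IsPrime → 𝔮 ≤ 𝔭 → 𝔭 ≤ 𝔮 := by
      intro 𝔮 h𝔮 hle b hb
      obtain ⟨k, t, ht𝔭, htk⟩ := h3 b hb
      have h6 : t * (b ^ k * y) ∈ 𝔮 := by rw [htk]; exact 𝔮.zero_mem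
      have h7 := (h𝔮.mem_or_mem h6).resolve_left (fun h => ht𝔭 (hle h))
      have h8 := (h𝔮.mem_or_mem h7).resolve_right (fun h => hy𝔭 (hle h))
      exact h𝔮.mem_of_pow_mem k h8
    intro y₁ hy₁
    have hy₁U : y₁ ∈ U := hy₁.mem_open U.isOpen hxU
    have hle := primeIdealOf_le_of_specializes hU x y₁ hxU hy₁U hy₁
    have hge := hmin _ (hU.primeIdealOf ⟨y₁, hy₁U⟩).isPrime hle
    have heq : hU.primeIdealOf ⟨y₁, hy₁U⟩ = hU.primeIdealOf ⟨x, hxU⟩ :=
      PrimeSpectrum.ext (le_antisymm hle hge)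
    have h9 := congrArg hU.fromSpec heq
    rw [hU.fromSpec_primeIdealOf ⟨y₁, hy₁U⟩, hU.fromSpec_primeIdealOf ⟨x, hxU⟩] at h9
    exact h9
  · intro hmax
    refine Groth.Agent.S1707.result X F hqc x ?_ (fun y _ hy => hmax y hy)
    intro hsub
    have h0 : F.presheaf.germ U x hxU (toF 1) = 0 := Subsingleton.elim _ _
    obtain ⟨t, hxt, ht⟩ := exists_smul_eq_zero_of_germ_eq_zero hU F x hxU _ h0
    have ht0 : t = 0 := by
      have := ht
      rw [hsmul] at this
      have h1 : (t * 1 : Γ(X, U)) = 0 := this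
      rwa [mul_one] at h1
    rw [ht0, Scheme.basicOpen_zero] at hxt
    exact hxt


end Groth.Agent.S8869
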