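import Groth.Statements.S8870
import Groth.Agent.Lib.Helper2ModExact

set_option autoImplicit false
universe u
open CategoryTheory CategoryTheory.Limits AlgebraicGeometry TopologicalSpace
open SDiv

namespace Groth.Agent.S8870

/-- Let X be a scheme and 0 → F₁ → F₂ → F₃ → 0 a short exact sequence of quasi-coherent O_X-modules.
Then WeakAss(F₂) ⊆ WeakAss(F₁) ∪ WeakAss(F₃) and WeakAss(F₁) ⊆ WeakAss(F₂). -/
theorem result (X : Scheme.{u}) (S : ShortComplex X.Modules) (hS : S.ShortExact)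
    (h₁ : Coh.IsQCoh S.X₁) (h₂ : Coh.IsQCoh S.X₂) (h₃ : Coh.IsQCoh S.X₃) :
    (∀ x : ↥X, Curv2.IsWeakAssPoint S.X₂ x → Curv2.IsWeakAssPoint S.X₁ x ∨ Curv2.IsWeakAssPoint S.X₃ x) ∧
      (∀ x : ↥X, Curv2.IsWeakAssPoint S.X₁ x → Curv2.IsWeakAssPoint S.X₂ x) := by
  have : S.X₁.IsQuasicoherent := h₁
  have : S.X₂.IsQuasicoherent := h₂
  have : S.X₃.IsQuasicoherent := h₃
  have hmono := hS.mono_f
  have hinj : ∀ V : X.Opens, Function.Injective (Scheme.Modules.Hom.app S.f V) :=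
    fun V => Groth.Agent.Lib.Helper2.ModExact.app_injective_of_mono S.f V
  constructor
  · intro x hx
    obtain ⟨_, ⟨W, hW, rfl⟩, hxW, -⟩ :=
      X.isBasis_affineOpens.exists_subset_of_mem_open (Set.mem_univ x) isOpen_univ
    obtain ⟨m, hm0, hpow⟩ := Groth.Agent.Lib.Helper2.ModExact.exists_section_of_isWeakAssPoint hW
      (Groth.Agent.Lib.Helper2.Push.IsLocOn.of_isQuasicoherent hW S.X₂) x hxW hx
    by_cases hbar : S.X₃.presheaf.germ W x hxW (Scheme.Modules.Hom.app S.g W m) = 0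
    · left
      obtain ⟨s, hxs, hsm⟩ := Groth.Agent.Lib.Helper2.QCoh.exists_smul_eq_zero_of_germ_eq_zero hW S.X₃
        x hxW _ hbar
      rw [← Groth.Agent.Lib.Helper2.ModExact.app_smul] at hsm
      obtain ⟨t₁, ht₁⟩ := Groth.Agent.Lib.Helper2.ModExact.exists_app_eq_of_shortExact S hS W _ hsm
      have hsu : IsUnit (X.presheaf.germ W x hxW s) := (Scheme.mem_basicOpen X s x hxW).1 hxs
      refine Groth.Agent.Lib.Helper2.Ass.isWeakAssPoint_of hW S.X₁ x hxW t₁ ?_ ?_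
      · intro h0
        have h1 := Groth.Agent.Lib.Helper2.ModExact.germ_app_eq_zero S.f W x hxW t₁ h0
        rw [ht₁, Groth.Agent.Lib.Helper2.QCoh.germ_smul] at h1
        exact hm0 (Groth.Agent.Lib.Helper2.QCoh.germ_smul_eq_zero_of_isUnit hsu h1)
      · intro b hb
        obtain ⟨k, hk⟩ := hpow b hb
        refine ⟨k, ?_⟩
        rw [← map_pow, ← Groth.Agent.Lib.Helper2.QCoh.germ_smul]
        apply Groth.Agent.Lib.Helper2.ModExact.germ_eq_zero_of_app S.f hinj
        rw [Groth.Agent.Lib.Helper2.ModExact.app_smul, ht₁, Groth.Agent.Lib.Helper2.QCoh.germ_smul,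
          Groth.Agent.Lib.Helper2.QCoh.germ_smul, smul_comm, map_pow, hk, smul_zero]
    · right
      refine Groth.Agent.Lib.Helper2.Ass.isWeakAssPoint_of hW S.X₃ x hxW _ hbar ?_
      intro b hb
      obtain ⟨k, hk⟩ := hpow b hb
      refine ⟨k, ?_⟩
      rw [← map_pow, ← Groth.Agent.Lib.Helper2.QCoh.germ_smul,
        ← Groth.Agent.Lib.Helper2.ModExact.app_smul]
      apply Groth.Agent.Lib.Helper2.ModExact.germ_app_eq_zero
      rw [Groth.Agent.Lib.Helper2.QCoh.germ_smul, map_pow, hk]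
  · intro x hx
    obtain ⟨_, ⟨W, hW, rfl⟩, hxW, -⟩ :=
      X.isBasis_affineOpens.exists_subset_of_mem_open (Set.mem_univ x) isOpen_univ
    obtain ⟨m, hm0, hpow⟩ := Groth.Agent.Lib.Helper2.ModExact.exists_section_of_isWeakAssPoint hW
      (Groth.Agent.Lib.Helper2.Push.IsLocOn.of_isQuasicoherent hW S.X₁) x hxW hx
    refine Groth.Agent.Lib.Helper2.Ass.isWeakAssPoint_of hW S.X₂ x hxW
      (Scheme.Modules.Hom.app S.f W m) ?_ ?_
    · intro h0
      exact hm0 (Groth.Agent.Lib.Helper2.ModExact.germ_eq_zero_of_app S.f hinj W x hxW m h0)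
    · intro b hb
      obtain ⟨k, hk⟩ := hpow b hb
      refine ⟨k, ?_⟩
      rw [← map_pow, ← Groth.Agent.Lib.Helper2.QCoh.germ_smul,
        ← Groth.Agent.Lib.Helper2.ModExact.app_smul]
      apply Groth.Agent.Lib.Helper2.ModExact.germ_app_eq_zero
      rw [Groth.Agent.Lib.Helper2.QCoh.germ_smul, map_pow, hk]

end Groth.Agent.S8870
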