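import Groth.Statements.S8885
import Groth.Agent.Lib.Helper7RelAssBC

set_option autoImplicit false
set_option linter.style.haveILetI false
universe u
open CategoryTheory CategoryTheory.Limits AlgebraicGeometry TopologicalSpace
open SDiv

namespace Groth.Agent.S8885

open Groth.Agent.Lib.Helper7.RelAssBC Groth.Agent.Lib.Helper7.FibreBC

/-- Let f : X ⟶ S be locally of finite type, g : S' ⟶ S a morphism, X' = X ×_S S' with projections g' :
X' ⟶ X and f' : X' ⟶ S', F a quasi-coherent O_X-module and F' = g'^*F. For a point x' of X' with
images x in X and s' in S': x' lies in the relative assassin Ass_{X'/S'}(F') (x' is an associated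
point of the pullback of F' to the fibre X'_{s'}) if and only if x lies in Ass_{X/S}(F) and x' is
maximal under generization among the points of X' mapping to x and to s' (that is, x' is the generic
point of some irreducible component of Spec(κ(s') ⊗_{κ(s)} κ(x))). -/
theorem result {X S S' : Scheme.{u}} (f : X ⟶ S) [LocallyOfFiniteType f] (g : S' ⟶ S)
    (F : X.Modules) (hF : Coh.IsQCoh F) (x' : ↥(pullback f g)) :
    Curv2.IsAssPoint
        ((Scheme.Modules.pullback ((pullback.snd f g).fiberι ((pullback.snd f g) x'))).obj
          ((Scheme.Modules.pullback (pullback.fst f g)).obj F))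
        ((pullback.snd f g).asFiber x') ↔
      Curv2.IsAssPoint ((Scheme.Modules.pullback (f.fiberι (f ((pullback.fst f g) x')))).obj F)
          (f.asFiber ((pullback.fst f g) x')) ∧
        ∀ x'' : ↥(pullback f g), (pullback.snd f g) x'' = (pullback.snd f g) x' →
          (pullback.fst f g) x'' = (pullback.fst f g) x' → x'' ⤳ x' → x'' = x' := by
  haveI : F.IsQuasicoherent := hF
  have hc : IsPullback (pullback.snd f g) (pullback.fst f g) g f :=
    (IsPullback.of_hasPullback f g).flip
  haveI : LocallyOfFiniteType (pullback.snd f g) := inferInstance
  haveI : LocallyOfFiniteType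
      ((pullback.snd f g).fiberToSpecResidueField ((pullback.snd f g) x')) :=
    inferInstanceAs (LocallyOfFiniteType (pullback.snd (pullback.snd f g)
      (S'.fromSpecResidueField ((pullback.snd f g) x'))))
  haveI : LocallyOfFiniteType (f.fiberToSpecResidueField (g ((pullback.snd f g) x'))) :=
    inferInstanceAs (LocallyOfFiniteType (pullback.snd f
      (S.fromSpecResidueField (g ((pullback.snd f g) x')))))
  haveI : IsLocallyNoetherian ((pullback.snd f g).fiber ((pullback.snd f g) x')) :=
    LocallyOfFiniteType.isLocallyNoetherian
      ((pullback.snd f g).fiberToSpecResidueField ((pullback.snd f g) x'))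
  haveI : IsLocallyNoetherian (f.fiber (g ((pullback.snd f g) x'))) :=
    LocallyOfFiniteType.isLocallyNoetherian (f.fiberToSpecResidueField _)
  have hgf : g ((pullback.snd f g) x') = f ((pullback.fst f g) x') := by
    rw [← Scheme.Hom.comp_apply, ← Scheme.Hom.comp_apply, pullback.condition]
  have hι : (pullback.snd f g).fiberι _ ((pullback.snd f g).asFiber x') = x' :=
    Scheme.Hom.fiberι_asFiber _ _
  rw [isAssPoint_fibre_pullback_iff_maximal hc F ((pullback.snd f g) x')
    (fun z => inferInstance) (fun y => inferInstance) ((pullback.snd f g).asFiber x')]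
  refine and_congr ?_ ?_
  · refine isAssPoint_fibre_congr f F hgf _ _ ?_
    rw [fibreMap_apply, hι, Scheme.Hom.fiberι_asFiber]
  · constructor
    · intro h x'' hs hx hsp
      obtain ⟨z'', hz''⟩ : x'' ∈ Set.range ((pullback.snd f g).fiberι ((pullback.snd f g) x')) := by
        rw [Scheme.Hom.range_fiberι]; exact hs
      have h1 : fibreMap hc ((pullback.snd f g) x') z'' =
          fibreMap hc ((pullback.snd f g) x') ((pullback.snd f g).asFiber x') := by
        apply (f.fiberι (g ((pullback.snd f g) x'))).isEmbedding.injective
        rw [fibreMap_apply, fibreMap_apply, hz'', hι, hx]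
      have h2 : z'' ⤳ (pullback.snd f g).asFiber x' := by
        rw [← ((pullback.snd f g).fiberι
          ((pullback.snd f g) x')).isEmbedding.toIsInducing.specializes_iff, hz'', hι]
        exact hsp
      rw [← hz'', h z'' h1 h2, hι]
    · intro h z' hz' hsp
      have hs : (pullback.snd f g) ((pullback.snd f g).fiberι ((pullback.snd f g) x') z') =
          (pullback.snd f g) x' := fiberι_mem' _ _ _
      have hx : (pullback.fst f g) ((pullback.snd f g).fiberι ((pullback.snd f g) x') z') =
          (pullback.fst f g) x' := by
        rw [← fibreMap_apply hc, hz', fibreMap_apply, hι]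
      have hsp' : (pullback.snd f g).fiberι ((pullback.snd f g) x') z' ⤳ x' := by
        have := hsp.map ((pullback.snd f g).fiberι ((pullback.snd f g) x')).continuous
        rw [hι] at this
        exact this
      have h3 := h _ hs hx hsp'
      apply ((pullback.snd f g).fiberι ((pullback.snd f g) x')).isEmbedding.injective
      rw [h3, hι]

end Groth.Agent.S8885
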