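import Groth.Statements.S8886
import Mathlib

set_option autoImplicit false
universe u
open CategoryTheory CategoryTheory.Limits AlgebraicGeometry TopologicalSpace
open SDiv

namespace Groth.Agent.S8886




/-- Let f : X ⟶ Y be a flat morphism of schemes with Y integral. If the scheme-theoretic fibre of f over
the generic point of Y is integral, then X is integral. -/
theorem result {X Y : Scheme.{u}} (f : X ⟶ Y) [Flat f] [IsIntegral Y]
    (h : IsIntegral (f.fiber (genericPoint ↥Y))) : IsIntegral X := by
  obtain ⟨η, hη⟩ : ∃ η, η = genericPoint ↥Y := ⟨_, rfl⟩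
  rw [← hη] at h
  obtain ⟨g, hg⟩ : ∃ g, g = Y.fromSpecResidueField η := ⟨_, rfl⟩
  have hfin : Finite ↥(Spec (Y.residueField η)) := by
    have : Subsingleton ↥(Spec (Y.residueField η)) := inferInstance
    infer_instance
  have hqc : QuasiCompact g := by
    subst hg
    exact ⟨fun _ _ _ => (Set.toFinite _).isCompact⟩
  have hdom : IsDominant g := by
    rw [isDominant_iff, DenseRange, hg, Scheme.range_fromSpecResidueField, hη]
    exact dense_iff_closure_eq.mpr (genericPoint_spec ↥Y)
  have hsd : IsSchemeTheoreticallyDominant g := .of_isDominant g
  have h1 : IsSchemeTheoreticallyDominant (f.fiberι η) := by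
    subst hg
    exact IsSchemeTheoreticallyDominant.pullbackFst f _
  have hqc' : QuasiCompact (f.fiberι η) := by
    subst hg
    exact inferInstanceAs (QuasiCompact (pullback.fst f (Y.fromSpecResidueField η)))
  have hred : IsReduced X := IsSchemeTheoreticallyDominant.isReduced (f.fiberι η)
  have hd : DenseRange (f.fiberι η).base := (f.fiberι η).denseRange
  have hirr : IrreducibleSpace ↥X := by
    rw [irreducibleSpace_def]
    have h2 : IsIrreducible (Set.univ : Set ↥(f.fiber η)) := IrreducibleSpace.isIrreducible_univ _
    have h3 := (h2.image (f.fiberι η).base (f.fiberι η).continuous.continuousOn).closure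
    rwa [Set.image_univ, hd.closure_range] at h3
  exact isIntegral_of_irreducibleSpace_of_isReduced X

end Groth.Agent.S8886
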