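import Groth.Statements.S8887
import Groth.Agent.Lib.Helper2RankLoc
import Groth.Agent.Lib.Helper2FPAff
import Groth.Agent.Lib.Helper2GenFree

set_option autoImplicit false
universe u
open CategoryTheory CategoryTheory.Limits AlgebraicGeometry TopologicalSpace
open SDiv

namespace Groth.Agent.S8887

open Groth.Agent.Lib.Helper2.LocFree Groth.Agent.Lib.Helper2.RankLoc Groth.Agent.Lib.Helper2.FPAff
  Groth.Agent.Lib.Helper23.FinType Groth.Agent.Lib.Helper20.LocFree in

/-- Let X be an integral scheme and F a quasi-coherent O_X-module of finite type, of rank r (r being the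
finite dimension of the generic stalk of F as a vector space over the function field of X). Then one
can find an open subset U of X, not empty, on which the restriction of F is isomorphic to the free
module of rank r. -/
theorem result (X : Scheme.{u}) [IsIntegral X] (F : X.Modules) (hF : Coh.IsQCoh F)
    (hft : CohB1.IsFT F) :
    ∃ U : X.Opens, (U : Set ↥X).Nonempty ∧
      Nonempty (F.restrict U.ι ≅ FlatMod.freeMod (↑U)
        (Module.finrank ↑(X.presheaf.stalk (genericPoint ↥X)) ↑(F.presheaf.stalk (genericPoint ↥X)))) := by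
  haveI : F.IsQuasicoherent := hF
  haveI : SheafOfModules.IsFiniteType (R := X.ringCatSheaf) F := hft
  -- an affine open neighbourhood of the generic point
  obtain ⟨U, hU, hηU, -⟩ :=
    exists_isAffineOpen_mem_and_subset (x := genericPoint X) (U := ⊤) trivial
  haveI : Nonempty U := ⟨⟨genericPoint X, hηU⟩⟩
  haveI : IsDomain Γ(X, U) := inferInstance
  haveI : Module.Finite Γ(X, U) Γ(F, U) := finite_of_isFiniteType F hU
  obtain ⟨f, hf0, -, hfree, -, -⟩ :=
    Groth.Agent.Lib.Helper2.GenFree.exists_freeAway Γ(X, U) Γ(X, U) Γ(F, U)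
  have hD : IsAffineOpen (X.basicOpen f) := hU.basicOpen f
  have hne : X.basicOpen f ≠ ⊥ := fun h => hf0 ((basicOpen_eq_bot_iff f).1 h)
  letI := moduleRes F (X.basicOpen_le f)
  haveI := isScalarTower_basicOpen F f
  haveI := isLocalizedModule_basicOpen F hU f
  haveI : IsLocalization.Away f Γ(X, X.basicOpen f) := hU.isLocalization_basicOpen f
  haveI : Module.Free Γ(X, X.basicOpen f) Γ(F, X.basicOpen f) :=
    hfree.free Γ(X, X.basicOpen f) (resₗ F (X.basicOpen_le f))
  haveI : Module.Finite Γ(X, X.basicOpen f) Γ(F, X.basicOpen f) := finite_of_isFiniteType F hD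
  have hnonempty : ((X.basicOpen f : X.Opens) : Set X).Nonempty := by
    rw [Set.nonempty_iff_ne_empty]
    intro h
    exact hne (TopologicalSpace.Opens.ext h)
  have hηD : genericPoint X ∈ X.basicOpen f :=
    ((genericPoint_spec X).mem_open_set_iff (X.basicOpen f).isOpen).2 (by simpa using hnonempty)
  haveI : Nonempty (X.basicOpen f) := ⟨⟨genericPoint X, hηD⟩⟩
  haveI : Nontrivial Γ(X, X.basicOpen f) := inferInstance
  let e := restrictIsoFreeMod F hD (Module.finBasis Γ(X, X.basicOpen f) Γ(F, X.basicOpen f))
  obtain ⟨hfr, hrk⟩ := fibreRank_eq_of_restrict_iso_freeMod (X.basicOpen f).ι F e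
    ⟨genericPoint X, hηD⟩
  have hpt : (X.basicOpen f).ι ⟨genericPoint X, hηD⟩ = genericPoint X := rfl
  rw [hpt] at hfr hrk
  haveI := hfr
  have hrk' : Module.finrank (X.presheaf.stalk (genericPoint X)) (F.presheaf.stalk (genericPoint X))
      = Module.finrank Γ(X, X.basicOpen f) Γ(F, X.basicOpen f) := by
    rw [← hrk]
    exact (Module.finrank_baseChange).symm
  refine ⟨X.basicOpen f, hnonempty, ⟨?_⟩⟩
  rw [hrk']
  exact e

end Groth.Agent.S8887
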