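import Groth.Statements.S8888
import Groth.Agent.Lib.Helper2PullbackSec2

set_option autoImplicit false
universe u
open CategoryTheory CategoryTheory.Limits AlgebraicGeometry TopologicalSpace
open SDiv

namespace Groth.Agent.S8888

theorem image_genericPoint {X Y : Scheme.{u}} [IsIntegral X] [IsIntegral Y] (f : X ⟶ Y)
    [IsDominant f] : f (genericPoint X) = genericPoint Y := by
  apply ((genericPoint_spec Y).eq _).symm
  have h := (genericPoint_spec X).image f.continuous
  rw [Set.image_univ, (IsDominant.denseRange (f := f)).closure_range] at h
  exact h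

theorem rank_stalk_congr {Y : Scheme.{u}} (G : Y.Modules) {y y' : Y} (h : y = y') :
    Module.rank (Y.presheaf.stalk y) (G.presheaf.stalk y) =
      Module.rank (Y.presheaf.stalk y') (G.presheaf.stalk y') := by
  subst h; rfl

theorem isField_stalk_of_eq {Y : Scheme.{u}} [IsIntegral Y] {y : Y} (h : y = genericPoint Y) :
    IsField (Y.presheaf.stalk y) := by
  subst h
  exact Field.toIsField (Y.functionField)

open Groth.Agent.Lib.Helper2.PullbackSec TensorProduct in

/-- Let f : X ⟶ Y be a dominant morphism of integral schemes and G a quasi-coherent O_Y-module. Then the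
rank of f^*G on X, the dimension of its stalk at the generic point of X over the function field of
X, equals the rank of G on Y. -/
theorem result {X Y : Scheme.{u}} [IsIntegral X] [IsIntegral Y] (f : X ⟶ Y) [IsDominant f]
    (G : Y.Modules) (hG : Coh.IsQCoh G) :
    Module.rank ↑(X.presheaf.stalk (genericPoint ↥X)) ↑(((Scheme.Modules.pullback f).obj G).presheaf.stalk (genericPoint ↥X)) =
      Module.rank ↑(Y.presheaf.stalk (genericPoint ↥Y)) ↑(G.presheaf.stalk (genericPoint ↥Y)) := by
  haveI : G.IsQuasicoherent := hG
  rw [← rank_stalk_congr G (image_genericPoint f)]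
  letI : Algebra (Y.presheaf.stalk (f (genericPoint X))) (X.presheaf.stalk (genericPoint X)) :=
    (f.stalkMap (genericPoint X)).hom.toAlgebra
  obtain ⟨e⟩ := nonempty_stalk_linearEquiv f G (genericPoint X)
  rw [← e.rank_eq]
  have hfield := isField_stalk_of_eq (image_genericPoint f)
  haveI : Module.Free (Y.presheaf.stalk (f (genericPoint X))) (G.presheaf.stalk (f (genericPoint X))) := by
    letI := hfield.toField
    exact Module.Free.of_divisionRing _ _
  rw [Module.rank_baseChange, Cardinal.lift_id]

end Groth.Agent.S8888
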