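import Groth.Statements.S8889
import Groth.Agent.Lib.Helper2Ass

set_option autoImplicit false
universe u
open CategoryTheory CategoryTheory.Limits AlgebraicGeometry TopologicalSpace
open SDiv

namespace Groth.Agent.S8889

/-- Let X be a scheme and φ : F ⟶ G a morphism of quasi-coherent O_X-modules. Assume that for every
point x of X either the stalk map F_x → G_x is injective or x is not a weakly associated point of F.
Then φ is injective. -/
theorem result (X : Scheme.{u}) {F G : X.Modules} (φ : F ⟶ G) (hF : Coh.IsQCoh F)
    (hG : Coh.IsQCoh G)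
    (h : ∀ x : ↥X, Function.Injective ((TopCat.Presheaf.stalkFunctor AddCommGrpCat.{u} x).map (Scheme.Modules.Hom.mapPresheaf φ)) ∨ ¬ Curv2.IsWeakAssPoint F x) :
    Mono φ := by
  have : F.IsQuasicoherent := hF
  have hinj : ∀ W : X.Opens, Function.Injective (Scheme.Modules.Hom.app φ W) := by
    intro W
    rw [injective_iff_map_eq_zero]
    intro m hm
    by_contra hm0
    obtain ⟨y, hyW, hyA, hgy⟩ :=
      Groth.Agent.Lib.Helper2.Ass.exists_isWeakAssPoint_of_ne_zero_open F W m hm0
    rcases h y with hy | hy
    · apply hgy
      apply hy
      have h1 := TopCat.Presheaf.stalkFunctor_map_germ_apply W y hyW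
        (Scheme.Modules.Hom.mapPresheaf φ) m
      refine h1.trans ?_
      have h2 : (Scheme.Modules.Hom.mapPresheaf φ).app (Opposite.op W) m = 0 := hm
      rw [h2, map_zero]
      exact (map_zero _).symm
    · exact hy hyA
  have hmono : Mono ((Scheme.Modules.toPresheaf X).map φ) := by
    rw [Scheme.Modules.toPresheaf_map]
    apply (config := { allowSynthFailures := true }) NatTrans.mono_of_mono_app
    intro W
    rw [Scheme.Modules.mapPresheaf_app]
    exact (AddCommGrpCat.mono_iff_injective _).2 (hinj W.unop)
  exact (Scheme.Modules.toPresheaf X).mono_of_mono_map hmono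

end Groth.Agent.S8889
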