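import Groth.Statements.S8891
import Groth.Agent.S8890

set_option autoImplicit false
universe u
open CategoryTheory CategoryTheory.Limits AlgebraicGeometry TopologicalSpace
open SDiv

namespace Groth.Agent.S8891

set_option linter.style.haveILetI false

/-- on an integral scheme, a point whose local ring has zero maximal ideal is the generic point. -/
theorem eq_genericPoint_of_maximalIdeal_eq_bot (X : Scheme.{u}) [IsIntegral X] (x : X)
    (h : IsLocalRing.maximalIdeal (X.presheaf.stalk x) = ⊥) : x = genericPoint X := by
  obtain ⟨_, ⟨U, hU, rfl⟩, hxU, -⟩ :=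
    X.isBasis_affineOpens.exists_subset_of_mem_open (Set.mem_univ x) isOpen_univ
  haveI : Nonempty U := ⟨⟨x, hxU⟩⟩
  have hp : hU.primeIdealOf ⟨x, hxU⟩ = (⊥ : PrimeSpectrum Γ(X, U)) := by
    apply PrimeSpectrum.ext
    ext r
    change r ∈ (hU.primeIdealOf ⟨x, hxU⟩).asIdeal ↔ r ∈ (⊥ : Ideal Γ(X, U))
    rw [← Groth.Agent.Lib.Helper2.QCoh.germ_mem_maximalIdeal_iff hU x hxU, h, Ideal.mem_bot,
      Ideal.mem_bot]
    constructor
    · intro h0
      apply germ_injective_of_isIntegral X x hxU
      rw [h0, map_zero]
    · rintro rfl
      exact map_zero _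
  have hη := hU.primeIdealOf_genericPoint
  rw [genericPoint_eq_bot_of_affine, ← hp] at hη
  have h1 := congrArg hU.fromSpec hη
  rw [hU.fromSpec_primeIdealOf, hU.fromSpec_primeIdealOf] at h1
  exact h1.symm

/-- Let X be an integral locally Noetherian scheme and φ : F ⟶ G a morphism of quasi-coherent
O_X-modules with F coherent and G torsion free. Assume that for every point x either the stalk map
F_x → G_x is an isomorphism, or depth(F_x) ≥ 2 and x is not the generic point of X. Then φ is an
isomorphism. (The published statement allows the second alternative at the generic point as well;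
since the zero module has infinite depth, F = 0 and G = O_X then satisfy every hypothesis while 0 →
O_X is not an isomorphism. The general criterion this is a special case of requires x not to be
associated to G, which for torsion-free G ≠ 0 fails exactly at the generic point; so the generic
point is excluded from the second alternative here.) -/
theorem result (X : Scheme.{u}) [IsIntegral X] [IsLocallyNoetherian X] {F G : X.Modules}
    (φ : F ⟶ G) (hF : Coh.IsCoh F) (hG : Coh.IsQCoh G)
    (htf : ∀ x : ↥X, NoZeroSMulDivisors ↑(X.presheaf.stalk x) ↑(G.presheaf.stalk x))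
    (h : ∀ x : ↥X, Function.Bijective ((TopCat.Presheaf.stalkFunctor AddCommGrpCat.{u} x).map (Scheme.Modules.Hom.mapPresheaf φ)) ∨
      ((2 : ℕ∞) ≤ LocCoh.depth (X.presheaf.stalk x) (F.presheaf.stalk x) ∧ x ≠ genericPoint ↥X)) :
    IsIso φ := by
  apply Groth.Agent.S8890.result X φ hF hG
  intro x
  rcases h x with hb | ⟨hd, hne⟩
  · exact Or.inl hb
  · refine Or.inr ⟨hd, fun hass => hne ?_⟩
    apply eq_genericPoint_of_maximalIdeal_eq_bot
    obtain ⟨hprime, z, hz⟩ := (isAssociatedPrime_iff).1 hass
    have hz0 : z ≠ 0 := by
      rintro rfl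
      have : (1 : X.presheaf.stalk x) ∈ IsLocalRing.maximalIdeal (X.presheaf.stalk x) := by
        rw [hz, Submodule.mem_colon_singleton, smul_zero]
        exact Submodule.zero_mem _
      exact hprime.ne_top ((Ideal.eq_top_iff_one _).2 this)
    haveI := htf x
    rw [eq_bot_iff]
    intro c hc
    rw [hz, Submodule.mem_colon_singleton, Submodule.mem_bot] at hc
    rcases smul_eq_zero.1 hc with h0 | h0
    · exact (Ideal.mem_bot).2 h0
    · exact absurd h0 hz0

end Groth.Agent.S8891
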