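import Groth.Statements.S8894
import Groth.Agent.Lib.Helper5QuasiRegImm

set_option autoImplicit false
universe u
open CategoryTheory CategoryTheory.Limits AlgebraicGeometry TopologicalSpace
open SDiv

namespace Groth.Agent.S8894

/-- Let f : X ⟶ S be flat and locally of finite presentation and i : Z ⟶ X a relative quasi-regular
immersion (quasi-regular immersion with Z flat over S). Then i is a regular immersion, and for every
g : S' ⟶ S the base change of i to X ×_S S' is a regular immersion. -/
theorem result {Z X S : Scheme.{u}} (f : X ⟶ S) [Flat f] [LocallyOfFinitePresentation f]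
    (i : Z ⟶ X) (hi : RegImm.IsRelRegularImmersion RegImm.Kind.quasi f i) :
    RegImm.IsRegularImmersion RegImm.Kind.regular i ∧
      ∀ (S' : Scheme.{u}) (g : S' ⟶ S), RegImm.IsRegularImmersion RegImm.Kind.regular (pullback.snd i (pullback.fst f g)) := by
  obtain ⟨⟨himm, hreg⟩, hflat⟩ := hi
  haveI := himm
  haveI := hflat
  refine ⟨⟨himm, fun z =>
    Groth.Agent.Lib.Helper5.QuasiRegImm.isRegularImmersionAt_of_quasi f i z (hreg z)⟩, ?_⟩
  intro S' g
  have HX := IsPullback.of_hasPullback f g
  have HZ := IsPullback.of_hasPullback i (pullback.fst f g)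
  haveI : Flat (pullback.snd i (pullback.fst f g) ≫ pullback.snd f g) :=
    MorphismProperty.of_isPullback (P := @Flat) (HZ.paste_vert HX) hflat
  refine ⟨inferInstance, fun z' => ?_⟩
  exact Groth.Agent.Lib.Helper5.QuasiRegImm.isRegularImmersionAt_of_quasi (pullback.snd f g) _ z'
    (Groth.Agent.Lib.Helper5.ImmBC.isRegularImmersionAt_of_isPullback .quasi (Or.inr rfl)
      HX HZ z' (hreg _))

end Groth.Agent.S8894
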