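import Groth.Statements.S8901
import Groth.Agent.S8861
import Groth.Agent.S1681
import Groth.Agent.S8898

set_option autoImplicit false
universe u
open CategoryTheory CategoryTheory.Limits AlgebraicGeometry TopologicalSpace
open SDiv

namespace Groth.Agent.S8901

set_option linter.style.haveILetI false
open nonZeroDivisors TopologicalSpace

/-- Let f : X ⟶ Y be a morphism of schemes under which each weakly associated point of X (of O_X) goes
to a point of Y with no proper generization (the generic point of some irreducible component of Y).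
Then pullbacks of meromorphic functions are defined for f: for every open U ⊆ Y and every regular
section s of O_Y over U, the pulled-back section of O_X over f⁻¹U is regular. -/
theorem result {X Y : Scheme.{u}} (f : X ⟶ Y)
    (h : ∀ x : ↥X, Curv2.IsWeakAssPoint (Coh.structureModule X) x → ∀ y : ↥Y, y ⤳ f x → y = f x)
    (U : Y.Opens) (s : Γ(Y, U)) (hs : s ∈ Mero.regSub Y U) : f.app U s ∈ Mero.regSub X (f ⁻¹ᵁ U) := by
  intro x'
  obtain ⟨V, hV, hxV, hVU⟩ := exists_isAffineOpen_mem_and_subset (x := f x'.1) (U := U) x'.2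
  have hsV : (Y.presheaf.map (homOfLE hVU).op).hom s ∈ Γ(Y, V)⁰ :=
    Groth.Agent.S8898.mem_nonZeroDivisors_of_germ _ (Mero.regSub_res (homOfLE hVU) hs)
  obtain ⟨U', hU', hx'U', hU'V0⟩ := exists_isAffineOpen_mem_and_subset (x := x'.1) (U := f ⁻¹ᵁ V) hxV
  have hU'V : U' ≤ f ⁻¹ᵁ V := hU'V0
  have hVU : V ≤ U := hVU
  set sV := (Y.presheaf.map (homOfLE hVU).op).hom s with hsVdef
  have hβ : (f.appLE V U' hU'V).hom sV ∈ Γ(X, U')⁰ := by
    rw [mem_nonZeroDivisors_iff_right]
    intro y hy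
    by_contra hy0
    obtain ⟨ξ, hξU, hξβ, hξass⟩ := Groth.Agent.S8861.exists_isWeakAssPoint hU' _ y hy hy0
    apply hξβ
    have hmax := h ξ hξass
    have h1 : f ξ ∈ Y.basicOpen sV :=
      Groth.Agent.S1681.mem_basicOpen_of_isMax hV sV hsV (f ξ) (hU'V hξU) hmax
    have h2 : ξ ∈ f ⁻¹ᵁ Y.basicOpen sV := h1
    rw [Scheme.preimage_basicOpen] at h2
    have h3 : (f.appLE V U' hU'V).hom sV = (X.presheaf.map (homOfLE hU'V).op).hom ((f.app V).hom sV) := rfl
    rw [h3, Scheme.basicOpen_res]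
    exact ⟨hξU, h2⟩
  have hgerm := Groth.Agent.S8898.germ_mem_nonZeroDivisors hU' _ hβ ⟨x'.1, hx'U'⟩
  have hU'U : U' ≤ f ⁻¹ᵁ U := hU'V.trans (fun z hz => hVU hz)
  have hcompat : (f.appLE V U' hU'V).hom sV =
      (X.presheaf.map (homOfLE hU'U).op).hom ((f.app U).hom s) := by
    have h1 : Y.presheaf.map (homOfLE hVU).op ≫ f.appLE V U' hU'V = f.appLE U U' hU'U :=
      Scheme.Hom.map_appLE f hU'V (homOfLE hVU).op
    have h2 : f.appLE U U' hU'U = f.app U ≫ X.presheaf.map (homOfLE hU'U).op := rfl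
    have := congrArg (fun q => q.hom s) (h1.trans h2)
    exact this
  rw [hcompat] at hgerm
  change X.presheaf.germ (f ⁻¹ᵁ U) x'.1 x'.2 ((f.app U).hom s) ∈ _
  have h3 := TopCat.Presheaf.germ_res_apply X.presheaf (homOfLE hU'U) x'.1 hx'U' ((f.app U).hom s)
  rw [← h3]
  exact hgerm


end Groth.Agent.S8901
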