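import Groth.Statements.S8903
import Mathlib
import Groth.Agent.Lib.Helper23SecTw6
import Groth.Agent.Lib.Helper2QCoh
import Groth.Agent.Lib.Helper20Kmod2

set_option autoImplicit false
universe u
open CategoryTheory CategoryTheory.Limits AlgebraicGeometry TopologicalSpace
open SDiv

namespace Groth.Agent.S8903

open CategoryTheory CategoryTheory.Limits AlgebraicGeometry TopologicalSpace Opposite
open Mero
open Groth.Agent.Lib.Helper23.SecTw Groth.Agent.Lib.Helper23.GenLocus
  Groth.Agent.Lib.Helper23.Extend Groth.Agent.Lib.Helper6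

set_option linter.style.haveILetI false

variable {X : Scheme.{u}} (L : X.Modules)

/-- a section-level generator has torsion-free germs. -/
theorem germ_smul_eq_zero {W : X.Opens} {e : Γ(L, W)} (he : IsGen L W e) (y : X) (hy : y ∈ W)
    (c : X.presheaf.stalk y) (hc : c • L.presheaf.germ W y hy e = 0) : c = 0 := by
  obtain ⟨W₀, hyW₀, r₀, rfl⟩ := X.presheaf.exists_germ_eq c
  let W₁ : X.Opens := W₀ ⊓ W
  have hy₁ : y ∈ W₁ := ⟨hyW₀, hy⟩
  have h1 : L.presheaf.germ W₁ y hy₁ (resf (inf_le_left : W₁ ≤ W₀) r₀ •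
      res L (inf_le_right : W₁ ≤ W) e) = 0 := by
    rw [Mero.germ_smul, TopCat.Presheaf.germ_res_apply, TopCat.Presheaf.germ_res_apply]
    exact hc
  rw [← map_zero (L.presheaf.germ W₁ y hy₁).hom] at h1
  obtain ⟨W₂, hyW₂, i₁, i₂, h2⟩ := TopCat.Presheaf.germ_eq L.presheaf y hy₁ hy₁ _ _ h1
  have hle : W₂ ≤ W := (leOfHom i₁).trans inf_le_right
  have h3 : resf ((leOfHom i₁).trans inf_le_left) r₀ • res L hle e =
      (0 : Γ(X, W₂)) • res L hle e := by
    rw [zero_smul]
    have h4 : res L (leOfHom i₁) (resf (inf_le_left : W₁ ≤ W₀) r₀ •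
        res L (inf_le_right : W₁ ≤ W) e) = 0 := by
      refine Eq.trans h2 ?_
      exact map_zero _
    rw [res_smul, resf_resf, res_res] at h4
    exact h4
  have h5 := (he W₂ hle).1 h3
  rw [← TopCat.Presheaf.germ_res_apply X.presheaf (homOfLE ((leOfHom i₁).trans inf_le_left)) y hyW₂ r₀]
  change X.presheaf.germ W₂ y hyW₂ (resf _ r₀) = 0
  rw [h5, map_zero]

/-- the basic computation in a frame. -/
theorem smul_mk_eq_mk_iff {W : X.Opens} {e : Γ(L, W)} (he : IsGen L W e) (y : X) (hy : y ∈ W)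
    (p a c : X.presheaf.stalk y) (b : regStalk X y) :
    p • (LocalizedModule.mk (a • L.presheaf.germ W y hy e) b : MStalk L y) =
      LocalizedModule.mk (c • L.presheaf.germ W y hy e) 1 ↔ p * a = b * c := by
  rw [LocalizedModule.smul'_mk, LocalizedModule.mk_eq]
  constructor
  · rintro ⟨u, hu⟩
    rw [one_smul, Submonoid.smul_def, Submonoid.smul_def, Submonoid.smul_def, smul_smul, smul_smul,
      smul_smul, smul_smul] at hu
    have h1 : ((u : X.presheaf.stalk y) * (p * a - b * c)) • L.presheaf.germ W y hy e = 0 := by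
      rw [mul_sub, sub_smul, sub_eq_zero, ← mul_assoc, ← mul_assoc]
      exact hu
    have h2 := germ_smul_eq_zero L he y hy _ h1
    have h3 := (regStalk_le_nonZeroDivisors y u.2)
    exact sub_eq_zero.1 ((mul_left_mem_nonZeroDivisors_eq_zero_iff h3).1 h2)
  · intro h
    refine ⟨1, ?_⟩
    rw [one_smul, one_smul, one_smul, Submonoid.smul_def, smul_smul, smul_smul, h]

variable (s : Γ(merMod L, ⊤))

/-- `g • s = m` at the point `y`. -/
def DenAt {A : X.Opens} (g : Γ(X, A)) (m : Γ(L, A)) (y : A) : Prop :=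
  X.presheaf.germ A y.1 y.2 g • s.1 ⟨y.1, Opens.mem_top y.1⟩ =
    LocalizedModule.mkLinearMap (regStalk X y.1) _ (L.presheaf.germ A y.1 y.2 m)

theorem mem_denomIdeal {A : X.Opens} (g : Γ(X, A)) :
    g ∈ denomIdeal L s A ↔ ∃ m : Γ(L, A), ∀ y : A, DenAt L s g m y := Iff.rfl

theorem denAt_res {A A' : X.Opens} (h : A' ≤ A) (g : Γ(X, A)) (m : Γ(L, A)) (y : A') :
    DenAt L s (resf h g) (res L h m) y ↔ DenAt L s g m ⟨y.1, h y.2⟩ := by
  unfold DenAt
  rw [TopCat.Presheaf.germ_res_apply, TopCat.Presheaf.germ_res_apply]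

/-- local structure of a meromorphic section of an invertible module. -/
theorem exists_local_structure (hL : PicF.IsInvertible L) (x : X) (U : X.Opens) (hxU : x ∈ U) :
    ∃ (W : X.Opens) (_ : IsAffineOpen W) (_ : x ∈ W) (_ : W ≤ U) (e : Γ(L, W)) (_ : IsGen L W e)
      (a : Γ(X, W)) (b : regSub X W), ∀ y : W, s.1 ⟨y.1, Opens.mem_top y.1⟩ =
        LocalizedModule.mk (X.presheaf.germ W y.1 y.2 a • L.presheaf.germ W y.1 y.2 e)
          (regGerm y b) := by
  obtain ⟨V₁, hx₁, i₁, m, b, hmb⟩ := s.2 ⟨x, Opens.mem_top x⟩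
  obtain ⟨W₀, e₀, hxW₀, he₀⟩ := exists_gen L hL x
  obtain ⟨W, hW, hxW, hWle⟩ := exists_isAffineOpen_mem_and_subset (X := X) (x := x)
    (U := V₁ ⊓ W₀ ⊓ U) ⟨⟨hx₁, hxW₀⟩, hxU⟩
  have hWV₁ : W ≤ V₁ := fun y hy => (hWle hy).1.1
  have hWW₀ : W ≤ W₀ := fun y hy => (hWle hy).1.2
  have hWU : W ≤ U := fun y hy => (hWle hy).2
  have he : IsGen L W (res L hWW₀ e₀) := he₀.mono hWW₀
  refine ⟨W, hW, hxW, hWU, res L hWW₀ e₀, he, coef he le_rfl (res L hWV₁ m),
    ⟨resf hWV₁ b.1, regSub_res _ b.2⟩, fun y => ?_⟩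
  have h2 := hmb ⟨y.1, hWV₁ y.2⟩
  change s.1 ⟨y.1, _⟩ = _ at h2
  rw [h2]
  refine mk_congr ?_ ?_
  · rw [← Mero.germ_smul]
    have h3 := coef_spec he le_rfl (res L hWV₁ m)
    rw [res_self] at h3
    rw [h3]
    exact (TopCat.Presheaf.germ_res_apply L.presheaf (homOfLE hWV₁) y.1 y.2 m).symm
  · exact (TopCat.Presheaf.germ_res_apply X.presheaf (homOfLE hWV₁) y.1 y.2 b.1).symm

/-- in a frame, `g • s = m` at `y` is an equation between germs of functions. -/
theorem denAt_iff {W : X.Opens} {e : Γ(L, W)} (he : IsGen L W e) (a : Γ(X, W)) (b : regSub X W)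
    (hs : ∀ y : W, s.1 ⟨y.1, Opens.mem_top y.1⟩ =
        LocalizedModule.mk (X.presheaf.germ W y.1 y.2 a • L.presheaf.germ W y.1 y.2 e)
          (regGerm y b))
    (g : Γ(X, W)) (m : Γ(L, W)) (y : W) :
    DenAt L s g m y ↔ X.presheaf.germ W y.1 y.2 (g * a - b.1 * coef he le_rfl m) = 0 := by
  unfold DenAt
  have h3 := coef_spec he le_rfl m
  rw [res_self] at h3
  rw [hs y, LocalizedModule.mkLinearMap_apply]
  conv_lhs => rw [← h3, Mero.germ_smul]
  rw [smul_mk_eq_mk_iff L he y.1 y.2, map_sub, map_mul, map_mul, sub_eq_zero]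

/-- local version: near every point of `U`, a power of `f` kills the defect of `g • s = m`. -/
theorem exists_pow_denAt_local (hL : PicF.IsInvertible L) {U : X.Opens} (f g : Γ(X, U))
    (m : Γ(L, U)) (h : ∀ y : U, y.1 ∈ X.basicOpen f → DenAt L s g m y) (x : U) :
    ∃ (W : X.Opens) (_ : x.1 ∈ W) (n : ℕ), ∀ N, n ≤ N → ∀ y : U, y.1 ∈ W →
      DenAt L s (f ^ N * g) (f ^ N • m) y := by
  obtain ⟨W, hW, hxW, hWU, e, he, a, b, hs⟩ := exists_local_structure L s hL x.1 U x.2
  refine ⟨W, hxW, ?_⟩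
  set f' : Γ(X, W) := resf hWU f with hf'
  set g' : Γ(X, W) := resf hWU g with hg'
  set m' : Γ(L, W) := res L hWU m with hm'
  set d : Γ(X, W) := g' * a - b.1 * coef he le_rfl m' with hd
  have hbo : X.basicOpen f' = W ⊓ X.basicOpen f := Scheme.basicOpen_res _ _ _
  have hd0 : d |_ (X.basicOpen f') = 0 := by
    apply TopCat.Presheaf.section_ext X.sheaf
    intro y hy
    change X.presheaf.germ (X.basicOpen f') y hy _ = X.presheaf.germ (X.basicOpen f') y hy 0
    have hy' : y ∈ W ⊓ X.basicOpen f := hbo ▸ hy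
    rw [map_zero]
    change X.presheaf.germ (X.basicOpen f') y hy (X.presheaf.map _ d) = 0
    rw [TopCat.Presheaf.germ_res_apply]
    exact (denAt_iff L s he a b hs g' m' ⟨y, hy'.1⟩).1
      ((denAt_res L s hWU g m ⟨y, hy'.1⟩).2 (h ⟨y, hWU hy'.1⟩ hy'.2))
  obtain ⟨n, hn⟩ := exists_pow_mul_eq_zero_of_res_basicOpen_eq_zero_of_isCompact X hW.isCompact d f' hd0
  refine ⟨n, fun N hN y hyW => ?_⟩
  rw [← denAt_res L s hWU (f ^ N * g) (f ^ N • m) ⟨y.1, hyW⟩, denAt_iff L s he a b hs,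
    res_smul, coef_smul, resf_mul, resf_pow]
  have h1 : f' ^ N * g' * a - b.1 * (f' ^ N * coef he le_rfl m') = f' ^ N * d := by
    rw [hd]; ring
  rw [← hf', ← hg', ← hm', h1]
  obtain ⟨k, rfl⟩ := Nat.exists_eq_add_of_le hN
  rw [pow_add, mul_comm (f' ^ n), mul_assoc, hn, mul_zero, map_zero]

/-- on a quasi-compact open, a power of `f` kills the defect of `g • s = m` if it vanishes on `D(f)`. -/
theorem exists_pow_denAt (hL : PicF.IsInvertible L) {U : X.Opens} (hU : IsCompact (U : Set X))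
    (f g : Γ(X, U)) (m : Γ(L, U)) (h : ∀ y : U, y.1 ∈ X.basicOpen f → DenAt L s g m y) :
    ∃ N : ℕ, ∀ y : U, DenAt L s (f ^ N * g) (f ^ N • m) y := by
  choose W hxW n hn using fun x : U => exists_pow_denAt_local L s hL f g m h x
  obtain ⟨t, ht⟩ := hU.elim_finite_subcover (fun x : U => ((W x : X.Opens) : Set X))
    (fun x => (W x).isOpen) (fun y hy => Set.mem_iUnion.2 ⟨⟨y, hy⟩, hxW ⟨y, hy⟩⟩)
  refine ⟨t.sup n, fun y => ?_⟩
  obtain ⟨x, hxt, hyx⟩ : ∃ x ∈ t, y.1 ∈ W x := by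
    have := ht y.2
    simpa using this
  exact hn x (t.sup n) (Finset.le_sup hxt) y hyx

theorem denAt_smul {A : X.Opens} (r g : Γ(X, A)) (m : Γ(L, A)) (y : A) (h : DenAt L s g m y) :
    DenAt L s (r * g) (r • m) y := by
  unfold DenAt at h ⊢
  rw [map_mul, mul_smul, h, Mero.germ_smul, map_smul]

theorem map_denomIdeal_le {U : X.Opens} (f : Γ(X, U)) :
    (denomIdeal L s U).map (X.presheaf.map (homOfLE (X.basicOpen_le f)).op).hom ≤
      denomIdeal L s (X.basicOpen f) := by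
  rw [Ideal.map_le_iff_le_comap]
  intro g hg
  rw [Ideal.mem_comap]
  obtain ⟨m, hm⟩ := hg
  exact ⟨res L (X.basicOpen_le f) m, fun y =>
    (denAt_res L s (X.basicOpen_le f) g m y).2 (hm ⟨y.1, X.basicOpen_le f y.2⟩)⟩

theorem le_map_denomIdeal (hL : PicF.IsInvertible L) {U : X.Opens} (hU : IsAffineOpen U)
    (f : Γ(X, U)) :
    denomIdeal L s (X.basicOpen f) ≤
      (denomIdeal L s U).map (X.presheaf.map (homOfLE (X.basicOpen_le f)).op).hom := by
  intro g' hg'
  obtain ⟨m', hm'⟩ := hg'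
  haveI := hU.isLocalization_basicOpen f
  haveI := isQuasicoherent_of_isInvertible L hL
  have hρ : ∀ r : Γ(X, U), algebraMap Γ(X, U) Γ(X, X.basicOpen f) r = resf (X.basicOpen_le f) r :=
    fun r => rfl
  obtain ⟨⟨g₀, ⟨_, k, rfl⟩⟩, hg₀⟩ := IsLocalization.surj (Submonoid.powers f) g'
  change g' * algebraMap Γ(X, U) Γ(X, X.basicOpen f) (f ^ k) = algebraMap Γ(X, U) Γ(X, X.basicOpen f) g₀ at hg₀
  rw [hρ, hρ, resf_pow] at hg₀
  obtain ⟨n, m₀, hm₀⟩ := Groth.Agent.Lib.Helper2.QCoh.exists_extension hU L f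
    (resf (X.basicOpen_le f) f ^ k • m')
  have hm₀' : res L (X.basicOpen_le f) m₀ =
      (resf (X.basicOpen_le f) f ^ n * resf (X.basicOpen_le f) f ^ k) • m' := by
    rw [mul_smul]; exact hm₀
  have h1 : ∀ y : U, y.1 ∈ X.basicOpen f → DenAt L s (f ^ n * g₀) m₀ y := by
    intro y hy
    rw [← denAt_res L s (X.basicOpen_le f) _ _ ⟨y.1, hy⟩]
    have h2 : resf (X.basicOpen_le f) (f ^ n * g₀) =
        (resf (X.basicOpen_le f) f ^ n * resf (X.basicOpen_le f) f ^ k) * g' := by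
      rw [resf_mul, resf_pow, ← hg₀]; ring
    rw [h2, hm₀']
    exact denAt_smul L s _ _ _ _ (hm' ⟨y.1, hy⟩)
  obtain ⟨N, hN⟩ := exists_pow_denAt L s hL hU.isCompact f (f ^ n * g₀) m₀ h1
  have hmem : f ^ N * (f ^ n * g₀) ∈ denomIdeal L s U := ⟨f ^ N • m₀, hN⟩
  have hu : IsUnit (resf (X.basicOpen_le f) f) := RingedSpace.isUnit_res_basicOpen _ f
  have hu2 : IsUnit (resf (X.basicOpen_le f) f ^ (N + n + k)) := hu.pow _
  obtain ⟨v, hv⟩ := hu2
  have h3 : g' = (↑v⁻¹ : Γ(X, X.basicOpen f)) * resf (X.basicOpen_le f) (f ^ N * (f ^ n * g₀)) := by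
    have h4 : resf (X.basicOpen_le f) (f ^ N * (f ^ n * g₀)) = (v : Γ(X, X.basicOpen f)) * g' := by
      rw [resf_mul, resf_mul, resf_pow, resf_pow, ← hg₀, hv]; ring
    rw [h4, ← mul_assoc, Units.inv_mul, one_mul]
  rw [h3]
  exact Ideal.mul_mem_left _ _ (Ideal.mem_map_of_mem _ hmem)

/-- the ideal sheaf of denominators. -/
noncomputable def denomSheaf (hL : PicF.IsInvertible L) : X.IdealSheafData where
  ideal U := denomIdeal L s U.1
  map_ideal_basicOpen U f :=
    le_antisymm (map_denomIdeal_le L s f) (le_map_denomIdeal L s hL U.2 f)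

theorem denomSheaf_ideal (hL : PicF.IsInvertible L) (U : X.affineOpens) :
    (denomSheaf L s hL).ideal U = denomIdeal L s U.1 := rfl

theorem interior_support_denomSheaf (hL : PicF.IsInvertible L) :
    interior ((denomSheaf L s hL).support : Set X) = ∅ := by
  rw [Set.eq_empty_iff_forall_notMem]
  intro x hx
  rw [mem_interior] at hx
  obtain ⟨O, hO, hOopen, hxO⟩ := hx
  obtain ⟨W, hW, hxW, hWO, e, he, a, b, hs⟩ := exists_local_structure L s hL x ⟨O, hOopen⟩ hxO
  have hb : b.1 ∈ denomIdeal L s W := by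
    refine ⟨a • e, fun y => ?_⟩
    change DenAt L s b.1 (a • e) y
    rw [denAt_iff L s he a b hs]
    have h1 : coef he le_rfl (a • e) = a :=
      (coef_unique he le_rfl (a • e) a (by rw [res_self])).symm
    rw [h1, sub_self, map_zero]
  have hbot : X.basicOpen b.1 = ⊥ := by
    rw [eq_bot_iff]
    intro y hy
    have hyW : y ∈ W := X.basicOpen_le b.1 hy
    have h1 : y ∈ (denomSheaf L s hL).support := hO (hWO hyW)
    rw [Scheme.IdealSheafData.mem_support_iff_of_mem (U := ⟨W, hW⟩) hyW,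
      Scheme.mem_zeroLocus_iff] at h1
    exact h1 b.1 hb hy
  obtain ⟨n, hn⟩ := (Scheme.isNilpotent_iff_basicOpen_eq_bot_of_isCompact hW.isCompact b.1).2 hbot
  have h2 : X.presheaf.germ W x hxW b.1 ^ n ∈ nonZeroDivisors (X.presheaf.stalk x) :=
    pow_mem (b.2 ⟨x, hxW⟩) n
  rw [← map_pow, hn, map_zero] at h2
  exact nonZeroDivisors.ne_zero h2 rfl


/-- Suppose X is a scheme, L is an O_X-module that is invertible, and s is a meromorphic section of L
which is regular. Then the ideal of denominators of s, U ↦ {f ∈ O_X(U) | f·s ∈ L(U)}, is a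
quasi-coherent ideal sheaf: there is a quasi-coherent ideal sheaf I whose ideal on every affine open
U is the ideal of denominators over U; and the closed subset of X cut out by I (the support of
O_X/I) is nowhere dense. The published statement also asserts that the cokernel of the map I → L
given by s is supported on a closed nowhere dense subset; this row does not state that part. -/
theorem result (X : Scheme.{u}) (L : X.Modules) (hL : PicF.IsInvertible L)
    (s : Γ(Mero.merMod L, ⊤)) (hs : Mero.IsRegularMero L s) :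
    ∃ I : X.IdealSheafData, (∀ U : X.affineOpens, I.ideal U = Mero.denomIdeal L s U.1) ∧
      interior (I.support : Set ↥X) = ∅ := by
  exact ⟨denomSheaf L s hL, fun U => rfl, interior_support_denomSheaf L s hL⟩

end Groth.Agent.S8903
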