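import Groth.Statements.S8915
import Groth.Agent.Lib.Helper20OmegaQCoh
import Groth.Agent.Lib.Helper20FittSheaf
import Groth.Agent.Lib.Helper20OmegaStalk

set_option autoImplicit false
universe u
open CategoryTheory CategoryTheory.Limits AlgebraicGeometry TopologicalSpace
open SDiv

namespace Groth.Agent.S8915

/-- Let f : X ⟶ S be locally of finite type and quasi-separated. Then the closed subset of X defined by
the Fitting ideal Fit_0(Ω_{X/S}) is exactly the set of points at which f is not unramified, i.e.
which have no open neighbourhood on which f is formally unramified. The published statement does not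
assume f quasi-separated; this row does, because the module Ω_{X/S} used here is defined for
quasi-separated f. -/
theorem result {X S : Scheme.{u}} (f : X ⟶ S) [LocallyOfFiniteType f] [QuasiSeparated f]
    (x : ↥X) :
    x ∈ (Fitt.sheafIdeal (Omega.sheaf f) 0).support ↔ ¬ ∃ U : X.Opens, x ∈ U ∧ FormallyUnramified (U.ι ≫ f) := by
  haveI := Groth.Agent.Lib.Helper20.OmegaQCoh.isQuasicoherent_omega f
  have hfin : ∀ V : X.affineOpens, Module.Finite Γ(X, V.1) Γ(Omega.sheaf f, V.1) := fun V =>
    Groth.Agent.Lib.Helper20.OmegaQCoh.finite_sections_omega f V.2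
  rw [Groth.Agent.Lib.Helper20.FittSheaf.mem_support_sheafIdeal_iff _ hfin x, not_iff_not]
  obtain ⟨V, hV, hfxV, -⟩ := exists_isAffineOpen_mem_and_subset (x := f x) (U := ⊤) trivial
  obtain ⟨U, hU, hxU, hUW⟩ := exists_isAffineOpen_mem_and_subset (x := x) (U := f ⁻¹ᵁ V) hfxV
  rw [Groth.Agent.Lib.Helper20.OmegaStalk.subsingleton_stalk_omega_iff f hU hV hUW x hxU,
    ← Groth.Agent.Lib.Helper20.EtLocal.formallyUnramified_stalkMap_iff_chart V hV U hU hUW hxU]
  constructor
  · exact Groth.Agent.Lib.Helper20.EtLocal.exists_formallyUnramified_nbhd f x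
  · rintro ⟨U', hxU', hU'⟩
    exact Groth.Agent.Lib.Helper20.EtLocal.formallyUnramified_stalkMap_of_nbhd f x U' hxU'

end Groth.Agent.S8915
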