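import Groth.Statements.S8923
import Groth.Agent.Lib.Helper20AbsCurve
import Groth.Agent.Lib.Helper20InvGen

set_option autoImplicit false
universe u
open CategoryTheory CategoryTheory.Limits AlgebraicGeometry TopologicalSpace
open SDiv

namespace Groth.Agent.S8923

set_option linter.style.haveILetI false

open Groth.Agent.Lib.Helper20.AbsCurve Groth.Agent.Lib.Helper20.InvGen Groth.Agent.Lib.Helper2

variable {X : Scheme.{u}}

/-- specialization maps of stalks of a module are semilinear. -/
theorem stalkSpecializes_smul (L : X.Modules) {x ξ : X} (h : ξ ⤳ x) (c : X.presheaf.stalk x)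
    (m : L.presheaf.stalk x) :
    (L.presheaf.stalkSpecializes h) (c • m) =
      (X.presheaf.stalkSpecializes h c) • (L.presheaf.stalkSpecializes h m) := by
  obtain ⟨W₁, hx₁, r, rfl⟩ := X.presheaf.exists_germ_eq c
  obtain ⟨W₂, hx₂, m₀, rfl⟩ := L.presheaf.exists_germ_eq m
  have hx : x ∈ W₁ ⊓ W₂ := ⟨hx₁, hx₂⟩
  have hξ : ξ ∈ W₁ ⊓ W₂ := h.mem_open (W₁ ⊓ W₂).isOpen hx
  rw [← TopCat.Presheaf.germ_res_apply X.presheaf (homOfLE (inf_le_left : W₁ ⊓ W₂ ≤ W₁)) x hx r,
    ← TopCat.Presheaf.germ_res_apply L.presheaf (homOfLE (inf_le_right : W₁ ⊓ W₂ ≤ W₂)) x hx m₀,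
    ← QCoh.germ_smul]
  have e1 : ∀ z : Γ(L, W₁ ⊓ W₂), (L.presheaf.stalkSpecializes h) (L.presheaf.germ _ x hx z) =
      L.presheaf.germ _ ξ hξ z := fun z =>
    ConcreteCategory.congr_hom (TopCat.Presheaf.germ_stalkSpecializes L.presheaf hx h) z
  have e2 : ∀ z : Γ(X, W₁ ⊓ W₂), (X.presheaf.stalkSpecializes h) (X.presheaf.germ _ x hx z) =
      X.presheaf.germ _ ξ hξ z := fun z =>
    ConcreteCategory.congr_hom (TopCat.Presheaf.germ_stalkSpecializes X.presheaf hx h) z
  rw [e1, e1, e2, QCoh.germ_smul]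

/-- the order of (the image of) a unit of the local ring vanishes. -/
theorem ordAt_unit (x ξ : X) (h : ξ ⤳ x) (c : X.presheaf.stalk x) (hc : IsUnit c) :
    Cyc.ordAt x ξ h (X.residue ξ (X.presheaf.stalkSpecializes h c)) = 0 := by
  have hres : X.residue ξ (X.presheaf.stalkSpecializes h c) =
      algebraMap (Cyc.LocQuot x ξ h) (X.residueField ξ)
        (Ideal.Quotient.mk (RingHom.ker (Cyc.specMap x ξ h)) c) := by
    rw [RingHom.algebraMap_toAlgebra, Ideal.Quotient.lift_mk]
    rfl
  rw [hres]
  unfold Cyc.ordAt CycAlg.ordFrac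
  split_ifs with hcond
  · haveI := hcond.1
    haveI := hcond.2.1
    haveI := hcond.2.2.1
    haveI := hcond.2.2.2
    haveI : IsDomain (Cyc.LocQuot x ξ h) := (FaithfulSMul.algebraMap_injective (Cyc.LocQuot x ξ h) (X.residueField ξ)).isDomain
    have hu : IsUnit (Ideal.Quotient.mk (RingHom.ker (Cyc.specMap x ξ h)) c) := hc.map _
    rw [Ring.ordFrac_of_isUnit hu]
    rfl
  · rfl

/-- if `s = φ₀ • t̄` with `φ₀` the image of a unit of `O_{X,x}` then the order of `s` at `x` vanishes. -/
theorem secOrdAt_eq_zero [IsIntegral X] (L : X.Modules) (x : X)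
    (h : genericPoint X ⤳ x)
    (tx : L.presheaf.stalk x)
    (htx : Function.Bijective (fun c : X.presheaf.stalk x => c • tx))
    (htη : Function.Bijective (fun c : X.presheaf.stalk (genericPoint X) =>
      c • (L.presheaf.stalkSpecializes h tx)))
    (s : Cyc.secFibre L (genericPoint X)) (φ₀ : X.presheaf.stalk (genericPoint X))
    (hs : s = φ₀ • (Submodule.Quotient.mk (L.presheaf.stalkSpecializes h tx) :
      Cyc.secFibre L (genericPoint X)))
    (a b : X.presheaf.stalk x) (ha : IsUnit a) (hb : IsUnit b)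
    (hab : φ₀ * X.presheaf.stalkSpecializes h b = X.presheaf.stalkSpecializes h a) :
    Cyc.secOrdAt L (genericPoint X) x h s = 0 := by
  unfold Cyc.secOrdAt
  split_ifs with ht hφ
  · have ht' := Classical.choose_spec ht
    have hφ' := Classical.choose_spec hφ
    set t' := Classical.choose ht with ht'def
    set φ := Classical.choose hφ with hφdef
    -- `t' = u • tx` with `u` a unit
    obtain ⟨u, hu⟩ := htx.2 t'
    have hmem : tx ∈ Submodule.span (X.presheaf.stalk x) {t'} := by rw [ht']; trivial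
    obtain ⟨v, hv⟩ := Submodule.mem_span_singleton.1 hmem
    have hvu : v * u = 1 := by
      apply htx.1
      change (v * u) • tx = (1 : X.presheaf.stalk x) • tx
      rw [mul_smul, one_smul]
      change v • (u • tx) = tx
      rw [show u • tx = t' from hu, hv]
    have huu : IsUnit u := IsUnit.of_mul_eq_one_right v hvu
    -- specialise
    have hsp : L.presheaf.stalkSpecializes h t' =
        X.presheaf.stalkSpecializes h u • L.presheaf.stalkSpecializes h tx := by
      rw [← show u • tx = t' from hu, stalkSpecializes_smul]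
    set tη := L.presheaf.stalkSpecializes h tx with htηdef
    have hmax : IsLocalRing.maximalIdeal (X.presheaf.stalk (genericPoint X)) = ⊥ :=
      IsLocalRing.maximalIdeal_eq_bot
    have hkey : φ * X.presheaf.stalkSpecializes h u = φ₀ := by
      apply htη.1
      change (φ * X.presheaf.stalkSpecializes h u) • tη = φ₀ • tη
      have h1 : (Submodule.Quotient.mk ((φ * X.presheaf.stalkSpecializes h u) • tη) :
          Cyc.secFibre L (genericPoint X)) = Submodule.Quotient.mk (φ₀ • tη) := by
        rw [Submodule.Quotient.mk_smul, Submodule.Quotient.mk_smul, ← hs, hφ', hsp, mul_smul,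
          Submodule.Quotient.mk_smul]
      rw [Submodule.Quotient.eq, hmax, Submodule.bot_smul, Submodule.mem_bot, sub_eq_zero] at h1
      exact h1
    obtain ⟨w, hw⟩ := (huu.mul hb).exists_right_inv
    have hφc : φ = X.presheaf.stalkSpecializes h (a * w) := by
      have h2 : φ * X.presheaf.stalkSpecializes h (u * b) = X.presheaf.stalkSpecializes h a := by
        rw [map_mul, ← mul_assoc, hkey, hab]
      calc φ = φ * X.presheaf.stalkSpecializes h (u * b * w) := by rw [hw, map_one, mul_one]
        _ = (φ * X.presheaf.stalkSpecializes h (u * b)) * X.presheaf.stalkSpecializes h w := by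
            rw [map_mul, mul_assoc]
        _ = X.presheaf.stalkSpecializes h (a * w) := by rw [h2, map_mul]
    have hwu : IsUnit w := IsUnit.of_mul_eq_one_right _ hw
    rw [hφc]
    exact ordAt_unit x _ h (a * w) (ha.mul hwu)
  · rfl
  · rfl

theorem result (X : Scheme.{u}) [IsIntegral X] [IsLocallyNoetherian X] (L : X.Modules)
    (hL : PicF.IsInvertible L) (s : Cyc.secFibre L (genericPoint ↥X)) (hs : s ≠ 0) :
    LocallyFinite (fun x : {x : ↥X // ringKrullDim ↑(X.presheaf.stalk x) = 1 ∧
        Cyc.secOrdAt L (genericPoint ↥X) x ((genericPoint_spec ↥X).specializes (Set.mem_univ x)) s ≠ 0} => closure ({x.1} : Set ↥X)) := by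
  intro x₀
  obtain ⟨W, t, hx₀W, ht⟩ := exists_local_generator L hL x₀
  obtain ⟨_, ⟨U, hU, rfl⟩, hxU, hUW⟩ :=
    X.isBasis_affineOpens.exists_subset_of_mem_open hx₀W W.isOpen
  have hUW' : U ≤ W := hUW
  set tU := L.presheaf.map (homOfLE hUW').op t with htUdef
  have htU := generator_res L hUW' t ht
  haveI : Nonempty U := ⟨⟨x₀, hxU⟩⟩
  haveI : IsNoetherianRing Γ(X, U) := IsLocallyNoetherian.component_noetherian ⟨U, hU⟩
  haveI := functionField_isFractionRing_of_isAffineOpen X U hU
  have hηU : genericPoint X ∈ U :=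
    ((genericPoint_spec X).mem_open_set_iff U.isOpen).2 ⟨x₀, trivial, hxU⟩
  set tη := L.presheaf.germ U (genericPoint X) hηU tU with htηdef
  obtain ⟨m, rfl⟩ := Submodule.Quotient.mk_surjective _ s
  obtain ⟨φ₀, hφ₀⟩ := (htU (genericPoint X) hηU).2 m
  have hφ₀' : φ₀ • tη = m := hφ₀
  obtain ⟨a, b, hb, hab⟩ := IsFractionRing.div_surjective (A := Γ(X, U)) (φ₀ : X.functionField)
  have hbne : algebraMap Γ(X, U) X.functionField b ≠ 0 :=
    IsFractionRing.to_map_ne_zero_of_mem_nonZeroDivisors hb
  have hfab : φ₀ * algebraMap Γ(X, U) X.functionField b = algebraMap Γ(X, U) X.functionField a := by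
    rw [← hab, div_mul_cancel₀ _ hbne]
  have hφne : φ₀ ≠ 0 := by
    rintro rfl
    apply hs
    rw [← hφ₀', zero_smul]
    rfl
  have hane : algebraMap Γ(X, U) X.functionField a ≠ 0 := by
    rw [← hfab]; exact mul_ne_zero hφne hbne
  have ha : a ∈ nonZeroDivisors Γ(X, U) := by
    rw [mem_nonZeroDivisors_iff_ne_zero]
    rintro rfl
    exact hane (map_zero _)
  refine ⟨U, U.isOpen.mem_nhds hxU, ?_⟩
  have hfa := finite_setOf_not_isUnit_germ hU a ha
  have hfb := finite_setOf_not_isUnit_germ hU b hb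
  refine Set.Finite.of_finite_image (f := Subtype.val) ((hfa.union hfb).subset ?_)
    Subtype.val_injective.injOn
  rintro _ ⟨x, ⟨y, hyc, hyU⟩, rfl⟩
  have hxU' : x.1 ∈ U := (specializes_iff_mem_closure.2 hyc).mem_open U.isOpen hyU
  by_contra hcon
  simp only [Set.mem_union, Set.mem_ofPred_eq, not_or, not_exists, not_and, not_not] at hcon
  have hua := hcon.1 hxU' x.2.1
  have hub := hcon.2 hxU' x.2.1
  set h := (genericPoint_spec ↥X).specializes (Set.mem_univ x.1) with hdef
  have hsp : L.presheaf.stalkSpecializes h (L.presheaf.germ U x.1 hxU' tU) = tη :=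
    ConcreteCategory.congr_hom (TopCat.Presheaf.germ_stalkSpecializes L.presheaf hxU' h) tU
  have hspO : ∀ z : Γ(X, U), X.presheaf.stalkSpecializes h (X.presheaf.germ U x.1 hxU' z) =
      algebraMap Γ(X, U) X.functionField z := fun z =>
    ConcreteCategory.congr_hom (TopCat.Presheaf.germ_stalkSpecializes X.presheaf hxU' h) z
  refine x.2.2 (secOrdAt_eq_zero L x.1 h (L.presheaf.germ U x.1 hxU' tU) (htU x.1 hxU') ?_ _ φ₀ ?_
    (X.presheaf.germ U x.1 hxU' a) (X.presheaf.germ U x.1 hxU' b) hua hub ?_)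
  · rw [hsp]; exact htU (genericPoint X) hηU
  · rw [hsp, ← hφ₀']; rfl
  · rw [hspO, hspO]; exact hfab

end Groth.Agent.S8923
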