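import Groth.Statements.S8927
import Mathlib.Tactic
-- import your own Groth.Agent.* helpers here

set_option autoImplicit false
universe u
open Disc

namespace Groth.Agent.S8927

/-- For a map A → B of Noetherian rings such that the localization B_q is flat over A for every
associated prime q of B, every nonzerodivisor of A maps to a nonzerodivisor of B. -/
theorem result (A B : Type u) [CommRing A] [CommRing B] [IsNoetherianRing A] [IsNoetherianRing B] [Algebra A B] (h3 : ∀ (q : Ideal B) [q.IsPrime], IsAssociatedPrime q B → Module.Flat A (Localization.AtPrime q)) : nonZeroDivisors A ≤ (nonZeroDivisors B).comap (algebraMap A B) := by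
  intro a ha
  rw [Submonoid.mem_comap, mem_nonZeroDivisors_iff_right]
  intro b hb
  by_contra hb0
  obtain ⟨P, hP, hle⟩ := exists_le_isAssociatedPrime_of_isNoetherianRing (R := B) (M := B) b hb0
  haveI : P.IsPrime := hP.isPrime
  haveI : Module.Flat A (Localization.AtPrime P) := h3 P hP
  have hreg : IsSMulRegular A a := by
    intro x y hxy
    have : a * (x - y) = 0 := by
      simp only [smul_eq_mul] at hxy
      rw [mul_sub, hxy, sub_self]
    have := (mem_nonZeroDivisors_iff_right.mp ha) (x - y) (by rw [mul_comm]; exact this)
    exact sub_eq_zero.mp this
  have hreg' : IsSMulRegular (Localization.AtPrime P) (algebraMap A (Localization.AtPrime P) a) :=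
    hreg.of_flat
  have h0 : algebraMap A (Localization.AtPrime P) a • algebraMap B (Localization.AtPrime P) b = 0 := by
    rw [smul_eq_mul, IsScalarTower.algebraMap_apply A B (Localization.AtPrime P), ← map_mul,
      mul_comm, hb, map_zero]
  have h1 : algebraMap B (Localization.AtPrime P) b = 0 := by
    apply hreg'
    simp only [smul_zero]
    exact h0
  rw [IsLocalization.map_eq_zero_iff P.primeCompl] at h1
  obtain ⟨s, hs⟩ := h1
  apply s.2
  apply hle
  rw [Submodule.mem_colon_singleton]
  simpa using hs

end Groth.Agent.S8927
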