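import Groth.Statements.S8928
import Mathlib

set_option autoImplicit false
universe u
open scoped TensorProduct
open Disc

namespace Groth.Agent.S8928

attribute [local instance] Algebra.TensorProduct.rightAlgebra in
lemma flat_loc (A B : Type u) [CommRing A] [CommRing B] [Algebra A B]
    (h2 : Module.Flat (FractionRing A) (FractionRing A ⊗[A] B)) (q : Ideal B) [q.IsPrime]
    (hq : ∀ a ∈ nonZeroDivisors A, algebraMap A B a ∉ q) :
    Module.Flat A (Localization.AtPrime q) := by
  have hle : Algebra.algebraMapSubmonoid B (nonZeroDivisors A) ≤ q.primeCompl := by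
    rintro _ ⟨a, ha, rfl⟩
    exact hq a ha
  let alg : Algebra (FractionRing A ⊗[A] B) (Localization.AtPrime q) :=
    IsLocalization.localizationAlgebraOfSubmonoidLe (FractionRing A ⊗[A] B)
      (Localization.AtPrime q) (Algebra.algebraMapSubmonoid B (nonZeroDivisors A))
      q.primeCompl hle
  have tow : IsScalarTower B (FractionRing A ⊗[A] B) (Localization.AtPrime q) :=
    IsLocalization.localization_isScalarTower_of_submonoid_le (FractionRing A ⊗[A] B)
      (Localization.AtPrime q) (Algebra.algebraMapSubmonoid B (nonZeroDivisors A))
      q.primeCompl hle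
  have loc : IsLocalization (q.primeCompl.map (algebraMap B (FractionRing A ⊗[A] B)))
      (Localization.AtPrime q) :=
    IsLocalization.isLocalization_of_submonoid_le (FractionRing A ⊗[A] B)
      (Localization.AtPrime q) (Algebra.algebraMapSubmonoid B (nonZeroDivisors A))
      q.primeCompl hle
  have tow2 : IsScalarTower A (FractionRing A ⊗[A] B) (Localization.AtPrime q) := by
    refine IsScalarTower.of_algebraMap_eq (R := A) (S := FractionRing A ⊗[A] B)
      (A := Localization.AtPrime q) fun a => ?_
    have h1 : algebraMap A (FractionRing A ⊗[A] B) a =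
        algebraMap B (FractionRing A ⊗[A] B) (algebraMap A B a) :=
      IsScalarTower.algebraMap_apply A B (FractionRing A ⊗[A] B) a
    rw [h1, ← IsScalarTower.algebraMap_apply B (FractionRing A ⊗[A] B) (Localization.AtPrime q),
      ← IsScalarTower.algebraMap_apply A B (Localization.AtPrime q)]
  have f1 : Module.Flat A (FractionRing A ⊗[A] B) :=
    Module.Flat.trans A (FractionRing A) (FractionRing A ⊗[A] B)
  have f2 : Module.Flat (FractionRing A ⊗[A] B) (Localization.AtPrime q) :=
    IsLocalization.flat _ (q.primeCompl.map (algebraMap B (FractionRing A ⊗[A] B)))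
  exact Module.Flat.trans A (FractionRing A ⊗[A] B) (Localization.AtPrime q)

/-- Let A → B be a map of Noetherian rings such that nonzerodivisors of A map to nonzerodivisors of B
and Q(A) ⊗_A B is flat over the total ring of fractions Q(A). Then B_q is flat over A for every
associated prime q of B and for every prime q of B lying over an associated prime of A. -/
theorem result (A B : Type u) [CommRing A] [CommRing B] [IsNoetherianRing A] [IsNoetherianRing B] [Algebra A B] (h1 : nonZeroDivisors A ≤ (nonZeroDivisors B).comap (algebraMap A B)) (h2 : Module.Flat (FractionRing A) (FractionRing A ⊗[A] B)) : (∀ (q : Ideal B) [q.IsPrime], IsAssociatedPrime q B → Module.Flat A (Localization.AtPrime q)) ∧ (∀ (q : Ideal B) [q.IsPrime], IsAssociatedPrime (q.comap (algebraMap A B)) A → Module.Flat A (Localization.AtPrime q)) := by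
  constructor
  · intro q hq hass
    apply flat_loc A B h2 q
    intro a ha hmem
    have hb : algebraMap A B a ∈ nonZeroDivisors B := h1 ha
    obtain ⟨_, x, hx⟩ := (isAssociatedPrime_iff (M := B)).mp hass
    rw [hx, Submodule.mem_colon_singleton, Submodule.mem_bot, smul_eq_mul] at hmem
    have hx0 : x = 0 := (mem_nonZeroDivisors_iff.mp hb).1 x hmem
    apply hq.ne_top
    rw [hx, hx0, Ideal.eq_top_iff_one, Submodule.mem_colon_singleton]
    simp
  · intro q hq hass
    apply flat_loc A B h2 q
    intro a ha hmem
    have hmem' : a ∈ q.comap (algebraMap A B) := hmem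
    obtain ⟨hp, x, hx⟩ := (isAssociatedPrime_iff (M := A)).mp hass
    rw [hx, Submodule.mem_colon_singleton, Submodule.mem_bot, smul_eq_mul] at hmem'
    have hx0 : x = 0 := (mem_nonZeroDivisors_iff.mp ha).1 x hmem'
    apply hp.ne_top
    rw [hx, hx0, Ideal.eq_top_iff_one, Submodule.mem_colon_singleton]
    simp

end Groth.Agent.S8928
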