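import Groth.Statements.S8929
import Mathlib
-- import your own Groth.Agent.* helpers here

set_option autoImplicit false
universe u
open scoped TensorProduct
open Disc

namespace Groth.Agent.S8929.Aux

set_option autoImplicit false
open scoped TensorProduct

/-- if `q ≤ q'` are primes, `B_q` is flat over `A` as soon as `B_{q'}` is -/
lemma flat_of_le (A B : Type u) [CommRing A] [CommRing B] [Algebra A B]
    (q q' : Ideal B) [q.IsPrime] [q'.IsPrime] (hle : q ≤ q')
    (h : Module.Flat A (Localization.AtPrime q')) : Module.Flat A (Localization.AtPrime q) := by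
  have hle' : q'.primeCompl ≤ q.primeCompl := fun x hx hxq => hx (hle hxq)
  let alg : Algebra (Localization.AtPrime q') (Localization.AtPrime q) :=
    IsLocalization.localizationAlgebraOfSubmonoidLe (Localization.AtPrime q')
      (Localization.AtPrime q) q'.primeCompl q.primeCompl hle'
  have tow : IsScalarTower B (Localization.AtPrime q') (Localization.AtPrime q) :=
    IsLocalization.localization_isScalarTower_of_submonoid_le (Localization.AtPrime q')
      (Localization.AtPrime q) q'.primeCompl q.primeCompl hle'
  have loc : IsLocalization (q.primeCompl.map (algebraMap B (Localization.AtPrime q')))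
      (Localization.AtPrime q) :=
    IsLocalization.isLocalization_of_submonoid_le (Localization.AtPrime q')
      (Localization.AtPrime q) q'.primeCompl q.primeCompl hle'
  have tow2 : IsScalarTower A (Localization.AtPrime q') (Localization.AtPrime q) := by
    refine IsScalarTower.of_algebraMap_eq (R := A) (S := Localization.AtPrime q')
      (A := Localization.AtPrime q) fun a => ?_
    rw [IsScalarTower.algebraMap_apply A B (Localization.AtPrime q'),
      ← IsScalarTower.algebraMap_apply B (Localization.AtPrime q') (Localization.AtPrime q),
      ← IsScalarTower.algebraMap_apply A B (Localization.AtPrime q)]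
  have f2 : Module.Flat (Localization.AtPrime q') (Localization.AtPrime q) :=
    IsLocalization.flat _ (q.primeCompl.map (algebraMap B (Localization.AtPrime q')))
  exact Module.Flat.trans A (Localization.AtPrime q') (Localization.AtPrime q)

/-- the key geometric input: flatness at all primes not meeting the nonzerodivisors of `A` -/
lemma flat_at (A B : Type u) [CommRing A] [CommRing B] [IsNoetherianRing A]
    [Algebra A B] [Algebra.HasGoingUp A B]
    (h4 : ∀ (q : Ideal B) [q.IsPrime], IsAssociatedPrime (q.comap (algebraMap A B)) A →
      Module.Flat A (Localization.AtPrime q))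
    (q : Ideal B) [q.IsPrime]
    (hq : ∀ a ∈ nonZeroDivisors A, algebraMap A B a ∉ q) :
    Module.Flat A (Localization.AtPrime q) := by
  have hdis : Disjoint ((q.comap (algebraMap A B) : Ideal A) : Set A) (nonZeroDivisors A) := by
    rw [Set.disjoint_left]
    intro a ha hS
    exact hq a hS ha
  obtain ⟨P, hPass, hP⟩ : ∃ P ∈ associatedPrimes A A, q.comap (algebraMap A B) ≤ P :=
    ((q.comap (algebraMap A B)).subset_union_prime_finite (associatedPrimes.finite ..) (f := id)
      0 0 fun _ h _ _ ↦ h.1).1 <|
    biUnion_associatedPrimes_eq_compl_nonZeroDivisors A ▸ hdis.subset_compl_right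
  have hPprime : P.IsPrime := hPass.1
  haveI : q.LiesOver (q.comap (algebraMap A B)) := ⟨rfl⟩
  obtain ⟨Q, hqQ, hQprime, hQ⟩ := Ideal.exists_ideal_ge_liesOver_of_le (q := P) q hP
  have hQass : IsAssociatedPrime (Q.comap (algebraMap A B)) A := by
    have : Q.comap (algebraMap A B) = P := hQ.over.symm
    rw [this]
    exact hPass
  exact flat_of_le A B q Q hqQ (h4 Q hQass)

attribute [local instance] Algebra.TensorProduct.rightAlgebra in
theorem main (A B : Type u) [CommRing A] [CommRing B] [IsNoetherianRing A] [IsNoetherianRing B]
    [Algebra A B] [Algebra.HasGoingUp A B]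
    (h4 : ∀ (q : Ideal B) [q.IsPrime], IsAssociatedPrime (q.comap (algebraMap A B)) A →
      Module.Flat A (Localization.AtPrime q)) :
    Module.Flat (FractionRing A) (FractionRing A ⊗[A] B) := by
  rw [Module.flat_iff_of_isLocalization (FractionRing A) (nonZeroDivisors A)]
  -- now flatness over `A`, checked at maximal ideals of `T = K ⊗ B`
  refine Module.flat_of_isLocalized_maximal (R := A) (FractionRing A ⊗[A] B)
    (FractionRing A ⊗[A] B) (fun P _ => Localization.AtPrime P)
    (fun P _ => Algebra.linearMap (FractionRing A ⊗[A] B) (Localization.AtPrime P)) ?_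
  intro P hP
  -- `T_P` is the localization of `B` at the contraction `q` of `P`
  let q : Ideal B := P.comap (algebraMap B (FractionRing A ⊗[A] B))
  haveI : q.IsPrime := Ideal.comap_isPrime _ _
  haveI : IsScalarTower B (FractionRing A ⊗[A] B) (Localization.AtPrime P) := inferInstance
  haveI hloc : IsLocalization.AtPrime (Localization.AtPrime P) q :=
    IsLocalization.isLocalization_isLocalization_atPrime_isLocalization
      (Algebra.algebraMapSubmonoid B (nonZeroDivisors A)) (Localization.AtPrime P) P
  have hq : ∀ a ∈ nonZeroDivisors A, algebraMap A B a ∉ q := by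
    intro a ha hmem
    have h1 : algebraMap B (FractionRing A ⊗[A] B) (algebraMap A B a) ∈ P := hmem
    have h2 : IsUnit (algebraMap B (FractionRing A ⊗[A] B) (algebraMap A B a)) :=
      IsLocalization.map_units (FractionRing A ⊗[A] B)
        (⟨algebraMap A B a, ⟨a, ha, rfl⟩⟩ : Algebra.algebraMapSubmonoid B (nonZeroDivisors A))
    exact hP.ne_top (Ideal.eq_top_of_isUnit_mem _ h1 h2)
  have hflat := flat_at A B h4 q hq
  let e : Localization.AtPrime q ≃ₐ[B] Localization.AtPrime P :=
    IsLocalization.algEquiv q.primeCompl _ _
  have tow3 : IsScalarTower A B (Localization.AtPrime P) := by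
    refine IsScalarTower.of_algebraMap_eq fun a => ?_
    show algebraMap A (Localization.AtPrime P) a =
      algebraMap (FractionRing A ⊗[A] B) (Localization.AtPrime P)
        (algebraMap B (FractionRing A ⊗[A] B) (algebraMap A B a))
    rw [← IsScalarTower.algebraMap_apply A B (FractionRing A ⊗[A] B),
      ← IsScalarTower.algebraMap_apply A (FractionRing A ⊗[A] B) (Localization.AtPrime P)]
  exact Module.Flat.of_linearEquiv (e.toLinearEquiv.restrictScalars A).symm

end Groth.Agent.S8929.Aux

namespace Groth.Agent.S8929

/-- Let A → B be a map of Noetherian rings with the going-up property. If B_q is flat over A for every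
associated prime q of B and for every prime q of B lying over an associated prime of A, then Q(A)
⊗_A B is flat over the total ring of fractions Q(A). -/
theorem result (A B : Type u) [CommRing A] [CommRing B] [IsNoetherianRing A] [IsNoetherianRing B] [Algebra A B] [Algebra.HasGoingUp A B] (h3 : ∀ (q : Ideal B) [q.IsPrime], IsAssociatedPrime q B → Module.Flat A (Localization.AtPrime q)) (h4 : ∀ (q : Ideal B) [q.IsPrime], IsAssociatedPrime (q.comap (algebraMap A B)) A → Module.Flat A (Localization.AtPrime q)) : Module.Flat (FractionRing A) (FractionRing A ⊗[A] B) := by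
  exact Aux.main A B h4

end Groth.Agent.S8929
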