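import Groth.Statements.S8930
import Mathlib
import Groth.Agent.Lib.Helper25OpenImmCover

set_option autoImplicit false
universe u
open AlgebraicGeometry
open Disc

namespace Groth.Agent.S8930
open CategoryTheory CategoryTheory.Limits AlgebraicGeometry

theorem sat_of_isOpenImmersion {X Y : Scheme.{u}} (f : X ⟶ Y) [IsOpenImmersion f] [IsAffine X]
    [IsAffine Y] (g : Γ(Y, ⊤)) (hg : Y.basicOpen g ≤ f.opensRange) (x : Γ(X, ⊤)) :
    ∃ (n : ℕ) (z : Γ(Y, ⊤)), f.appTop z = (f.appTop g) ^ n * x := by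
  have hiso : IsIso (f.app (Y.basicOpen g)) := f.isIso_app _ hg
  let xr : Γ(X, f ⁻¹ᵁ (Y.basicOpen g)) := X.presheaf.map (homOfLE le_top).op x
  let y : Γ(Y, Y.basicOpen g) := (inv (f.app (Y.basicOpen g))) xr
  have hy : f.app (Y.basicOpen g) y = xr := by
    change (inv (f.app (Y.basicOpen g)) ≫ f.app (Y.basicOpen g)) xr = xr
    rw [IsIso.inv_hom_id]; rfl
  obtain ⟨⟨z, s⟩, hzs⟩ := IsLocalization.surj (Submonoid.powers g) y
  obtain ⟨n, hn⟩ := s.2
  -- apply f.app
  have hnat : ∀ w : Γ(Y, ⊤), f.app (Y.basicOpen g) (algebraMap Γ(Y, ⊤) Γ(Y, Y.basicOpen g) w) =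
      X.presheaf.map (homOfLE (le_top : f ⁻¹ᵁ (Y.basicOpen g) ≤ ⊤)).op (f.appTop w) := by
    intro w
    rw [RingHom.algebraMap_toAlgebra]
    exact congr($(f.naturality (homOfLE le_top : Y.basicOpen g ⟶ ⊤).op) w)
  have h1 := congrArg (f.app (Y.basicOpen g)) hzs
  rw [map_mul, hnat, hnat, hy] at h1
  simp only at h1
  rw [← hn] at h1
  -- h1 : xr * res (f.appTop (g^n)) = res (f.appTop z)
  have h2 : X.presheaf.map (homOfLE (le_top : f ⁻¹ᵁ (Y.basicOpen g) ≤ ⊤)).op
      (x * (f.appTop g) ^ n - f.appTop z) = 0 := by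
    rw [map_sub, map_mul, sub_eq_zero, ← h1, map_pow]
    simp only [map_pow]
    rfl
  have hV : f ⁻¹ᵁ (Y.basicOpen g) = X.basicOpen (f.appTop g) := Scheme.preimage_basicOpen_top f g
  have h3 : X.presheaf.map (homOfLE (X.basicOpen_le (f.appTop g))).op
      (x * (f.appTop g) ^ n - f.appTop z) = 0 := by
    have := congrArg (X.presheaf.map (eqToHom hV.symm).op) h2
    rw [map_zero, ← CategoryTheory.comp_apply, ← Functor.map_comp] at this
    exact this
  obtain ⟨m, hm⟩ := exists_pow_mul_eq_zero_of_res_basicOpen_eq_zero_of_isAffineOpen X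
    (isAffineOpen_top X) _ (f.appTop g) h3
  refine ⟨m + n, g ^ m * z, ?_⟩
  rw [map_mul, map_pow, pow_add]
  linear_combination (-1 : Γ(X, ⊤)) * hm

theorem ring_sat {R S : Type u} [CommRing R] [CommRing S] (φ : R →+* S)
    [IsOpenImmersion (Spec.map (CommRingCat.ofHom φ))] :
    ∃ t : Set R, Ideal.span (φ '' t) = ⊤ ∧ ∀ r ∈ t, ∀ x : S, ∃ (n : ℕ) (b : R), φ b = φ r ^ n * x := by
  let f := Spec.map (CommRingCat.ofHom φ)
  refine ⟨{r | PrimeSpectrum.basicOpen r ≤ f.opensRange}, ?_, ?_⟩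
  · by_contra hne
    obtain ⟨m, hm, hle⟩ := Ideal.exists_le_maximal _ hne
    let y : Spec (CommRingCat.of S) := ⟨m, hm.isPrime⟩
    have hy : f y ∈ f.opensRange := ⟨y, rfl⟩
    obtain ⟨_, ⟨_, ⟨r, rfl⟩, rfl⟩, hyr, hrU⟩ :=
      PrimeSpectrum.isBasis_basic_opens.exists_subset_of_mem_open hy f.opensRange.isOpen
    have hr : φ r ∈ m := hle (Ideal.subset_span ⟨r, hrU, rfl⟩)
    exact hyr hr
  · intro r hr x
    have hb : (Spec (CommRingCat.of R)).basicOpen ((Scheme.ΓSpecIso (CommRingCat.of R)).inv r) =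
        PrimeSpectrum.basicOpen r := basicOpen_eq_of_affine (R := CommRingCat.of R) r
    obtain ⟨n, z, hz⟩ := sat_of_isOpenImmersion f ((Scheme.ΓSpecIso (CommRingCat.of R)).inv r)
      (by rw [hb]; exact hr) ((Scheme.ΓSpecIso (CommRingCat.of S)).inv x)
    refine ⟨n, (Scheme.ΓSpecIso (CommRingCat.of R)).hom z, ?_⟩
    have hnat : ∀ w, (Scheme.ΓSpecIso (CommRingCat.of S)).hom (f.appTop w) =
        φ ((Scheme.ΓSpecIso (CommRingCat.of R)).hom w) := fun w =>
      congr($(Scheme.ΓSpecIso_naturality (CommRingCat.ofHom φ)) w)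
    have := congrArg (Scheme.ΓSpecIso (CommRingCat.of S)).hom hz
    rw [hnat, map_mul, map_pow, hnat] at this
    simpa using this


/-- Given two factorizations A → B' → B and A → B'' → B of a ring map with A → B' and A → B'' finite and
Spec(B) → Spec(B'), Spec(B) → Spec(B'') open immersions, there is an A-subalgebra C of B which is
finite over A, contains the images of B' and B'', and is such that Spec(B) → Spec(C) is an open
immersion. (Such an A → B is quasi-finite; that hypothesis of the published statement is implied by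
the factorizations and is not repeated.) -/
theorem result (A B B' B'' : Type u) [CommRing A] [CommRing B] [CommRing B'] [CommRing B''] [Algebra A B] [Algebra A B'] [Algebra A B''] [Algebra B' B] [Algebra B'' B] [IsScalarTower A B' B] [IsScalarTower A B'' B] [Module.Finite A B'] [Module.Finite A B''] (h' : IsOpenImmersion (Spec.map (CommRingCat.ofHom (algebraMap B' B)))) (h'' : IsOpenImmersion (Spec.map (CommRingCat.ofHom (algebraMap B'' B)))) : ∃ C : Subalgebra A B, Module.Finite A C ∧ Set.range (algebraMap B' B) ⊆ (C : Set B) ∧ Set.range (algebraMap B'' B) ⊆ (C : Set B) ∧ IsOpenImmersion (Spec.map (CommRingCat.ofHom C.val.toRingHom)) := by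
  let C₁ : Subalgebra A B := (IsScalarTower.toAlgHom A B' B).range
  let C₂ : Subalgebra A B := (IsScalarTower.toAlgHom A B'' B).range
  have hf₁ : Module.Finite A C₁ := Module.Finite.range (IsScalarTower.toAlgHom A B' B).toLinearMap
  have hf₂ : Module.Finite A C₂ := Module.Finite.range (IsScalarTower.toAlgHom A B'' B).toLinearMap
  have h₁ : Set.range (algebraMap B' B) ⊆ ((C₁ ⊔ C₂ : Subalgebra A B) : Set B) := by
    rintro _ ⟨b, rfl⟩
    exact (le_sup_left : C₁ ≤ C₁ ⊔ C₂) ⟨b, rfl⟩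
  have h₂ : Set.range (algebraMap B'' B) ⊆ ((C₁ ⊔ C₂ : Subalgebra A B) : Set B) := by
    rintro _ ⟨b, rfl⟩
    exact (le_sup_right : C₂ ≤ C₁ ⊔ C₂) ⟨b, rfl⟩
  refine ⟨C₁ ⊔ C₂, Subalgebra.finite_sup C₁ C₂, h₁, h₂, ?_⟩
  obtain ⟨t', ht', hsat'⟩ := ring_sat (algebraMap B' B)
  let C := C₁ ⊔ C₂
  refine Groth.Agent.Lib.Helper25.EqZMT.isOpenImmersion_Spec_of_cover C.val.toRingHom
    Subtype.val_injective {c : C | ∃ r ∈ t', (c : B) = algebraMap B' B r} ?_ ?_
  · rw [eq_top_iff, ← ht']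
    apply Ideal.span_mono
    rintro _ ⟨r, hr, rfl⟩
    exact ⟨⟨algebraMap B' B r, h₁ ⟨r, rfl⟩⟩, ⟨r, hr, rfl⟩, rfl⟩
  · rintro c ⟨r, hr, hc⟩ x
    obtain ⟨n, b, hb⟩ := hsat' r hr x
    refine ⟨n, ⟨algebraMap B' B b, h₁ ⟨b, rfl⟩⟩, ?_⟩
    change algebraMap B' B b = (c : B) ^ n * x
    rw [hc, hb]

end Groth.Agent.S8930
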