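import Groth.Statements.S8932
import Groth.Agent.Lib.Helper5GorFibC
import Groth.Agent.Lib.Helper5FiberBC
import Groth.Agent.S0377
import Groth.Agent.S0371

set_option autoImplicit false
universe u
open CategoryTheory
open scoped TensorProduct
attribute [local instance] HasDerivedCategory.standard
open Dual

namespace Groth.Agent.S8932

/-- For a field extension K/k, a finite type k-algebra A and a dualizing complex ω for A, the derived
base change of ω along A → K ⊗_k A is a dualizing complex for K ⊗_k A (the derived base change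
functor being assumed to exist). -/
theorem result (k K : Type u) [Field k] [Field K] [Algebra k K] (A : Type u) [CommRing A] [Algebra k A] [Algebra.FiniteType k A] [DRing.HasLBaseChange (Algebra.TensorProduct.includeRight : A →ₐ[k] K ⊗[k] A).toRingHom] (ω : Dual.D A) (hω : Dual.IsDualizing A ω) : Dual.IsDualizing (K ⊗[k] A) ((DRing.LBaseChange (Algebra.TensorProduct.includeRight : A →ₐ[k] K ⊗[k] A).toRingHom).obj ω) := by
  haveI : IsNoetherianRing A := Algebra.FiniteType.isNoetherianRing k A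
  haveI : IsNoetherianRing (K ⊗[k] A) := Algebra.FiniteType.isNoetherianRing K (K ⊗[k] A)
  let c : (A ⊗[k] K) ≃ₐ[k] (K ⊗[k] A) := Algebra.TensorProduct.comm k A K
  haveI : IsNoetherianRing (A ⊗[k] K) :=
    isNoetherianRing_of_ringEquiv (K ⊗[k] A) c.symm.toRingEquiv
  have hdimT : ringKrullDim (K ⊗[k] A) < ⊤ := by
    haveI := Groth.Agent.Lib.Helper5.GorRing.gorLocal_of_field K
    obtain ⟨ωT, hωT⟩ := Groth.Agent.S0377.result K (Dual.inD K K)
      (Groth.Agent.Lib.Helper5.GorLocus.isDualizing_inD_of_gor K) (K ⊗[k] A)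
    exact Groth.Agent.S0371.result _ ωT hωT
  have hdimS : ringKrullDim (A ⊗[k] K) < ⊤ := by
    rw [ringKrullDim_eq_of_ringEquiv c.toRingEquiv]
    exact hdimT
  have h1 : Dual.IsDualizing (A ⊗[k] K)
      ((Groth.Agent.Lib.Helper1.Extend.extD A (A ⊗[k] K)).obj ω) :=
    Groth.Agent.Lib.Helper5.GorFib.isDualizing_extD_of_gor_fibLocRing hdimS
      (fun Q _ => Groth.Agent.Lib.Helper5.FiberBC.fieldFibP_gor k A K (Or.inl inferInstance) Q) ω hω
  letI : Algebra A (K ⊗[k] A) := Algebra.TensorProduct.rightAlgebra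
  letI : Algebra (A ⊗[k] K) (K ⊗[k] A) := (c : (A ⊗[k] K) →+* (K ⊗[k] A)).toAlgebra
  haveI : IsScalarTower A (A ⊗[k] K) (K ⊗[k] A) := IsScalarTower.of_algebraMap_eq (fun a => by
    show (Algebra.TensorProduct.includeRight : A →ₐ[k] K ⊗[k] A) a =
      c ((algebraMap A (A ⊗[k] K)) a)
    rw [Algebra.TensorProduct.algebraMap_apply, Algebra.TensorProduct.includeRight_apply]
    rfl)
  have hb : Function.Bijective (algebraMap (A ⊗[k] K) (K ⊗[k] A)) := c.bijective
  haveI : Module.Flat (A ⊗[k] K) (K ⊗[k] A) :=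
    Groth.Agent.Lib.Helper5.ExtTrans.flat_of_bijective hb
  haveI : Module.Flat A (K ⊗[k] A) := Module.Flat.trans A (A ⊗[k] K) (K ⊗[k] A)
  have h2 := Groth.Agent.Lib.Helper5.ExtTrans.isDualizing_extD_of_bijective hb _ h1
  obtain ⟨e2⟩ := Groth.Agent.Lib.Helper5.ExtTrans.extD_trans A (A ⊗[k] K) (K ⊗[k] A) ω
  have h3 : Dual.IsDualizing (K ⊗[k] A)
      ((Groth.Agent.Lib.Helper1.Extend.extD A (K ⊗[k] A)).obj ω) :=
    Groth.Agent.Lib.Helper5.LocD.isDualizing_of_iso e2.symm h2
  obtain ⟨e⟩ := Groth.Agent.Lib.Helper5.LocD.lbc_iso_extD (K ⊗[k] A) ω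
  exact Groth.Agent.Lib.Helper5.LocD.isDualizing_of_iso e.symm h3

end Groth.Agent.S8932
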