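import Groth.Statements.S8943
import Groth.Agent.Lib.Helper5PfBCC

set_option autoImplicit false
universe u
open CategoryTheory AlgebraicGeometry
attribute [local instance] HasDerivedCategory.standard
open Dual2

namespace Groth.Agent.S8943

/-- Let R → R′ be a homomorphism of Noetherian rings such that Spec(R′) → Spec(R) is an open immersion
(e.g. R′ = R_f). With φ^!(K) = RHom_P(R′, K ⊗^L_R P)[n] formed from a presentation ψ : P = R[x_1, …,
x_n] → R′ (derived base change functors assumed to exist, RHom_P(R′, −) a right adjoint of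
restriction of scalars), φ^!(K) is isomorphic to K ⊗^L_R R′ for every K in D(R) (existence of an
isomorphism). -/
theorem result (R R' : Type u) [CommRing R] [CommRing R'] [IsNoetherianRing R] [IsNoetherianRing R'] [Algebra R R'] (hopen : IsOpenImmersion (Spec.map (CommRingCat.ofHom (algebraMap R R')))) (n : ℕ) (ψ : MvPolynomial (Fin n) R →ₐ[R] R') (hψ : Function.Surjective ψ) [DRing.HasLBaseChange (algebraMap R (MvPolynomial (Fin n) R))] (Rψ : Dual.D (MvPolynomial (Fin n) R) ⥤ Dual.D R') (adj : DRing.restrictD ψ.toRingHom ⊣ Rψ) [DRing.HasLBaseChange (algebraMap R R')] (K : Dual.D R) : Nonempty (Dual2.shriekVia n Rψ K ≅ (DRing.LBaseChange (algebraMap R R')).obj K) := by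
  haveI := hopen
  have hfl : Flat (Spec.map (CommRingCat.ofHom (algebraMap R R'))) := inferInstance
  have hflat : (algebraMap R R').Flat := Flat.SpecMap_iff.1 hfl
  haveI : Module.Flat R R' := RingHom.flat_algebraMap_iff.1 hflat
  haveI : Algebra.IsEpi R R' := by
    rw [← CommRingCat.epi_iff_epi]
    have hm : Mono (Spec.map (CommRingCat.ofHom (algebraMap R R'))) := inferInstance
    haveI hm' : Mono (CommRingCat.ofHom (algebraMap R R')).op :=
      Scheme.Spec.mono_of_mono_map hm
    exact unop_epi_of_mono (CommRingCat.ofHom (algebraMap R R')).op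
  exact Groth.Agent.Lib.Helper5.PfBC.shriek_flat_epi R R' n ψ hψ Rψ adj K

end Groth.Agent.S8943
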