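import Groth.Statements.S8951
import Groth.Agent.Lib.Helper7CIFS

set_option autoImplicit false
universe u
open scoped TensorProduct
open CInt

namespace Groth.Agent.S8951

/-- Complete intersection fibres are preserved by composing with a regular map. For flat maps A → B → C
of Noetherian rings, if all local rings of the fibres of A → B are complete intersections and B → C
is regular, then all local rings of the fibres of A → C are complete intersections. -/
theorem result (A B C : Type u) [CommRing A] [CommRing B] [CommRing C] [IsNoetherianRing A] [IsNoetherianRing B] [IsNoetherianRing C] [Algebra A B] [Algebra B C] [Algebra A C] [IsScalarTower A B C] [Module.Flat A B] [Module.Flat B C] (hAB : ∀ (q : Ideal A) [q.IsPrime] (P : Ideal (q.Fiber B)) [P.IsPrime], Pi1.IsCompleteIntersection (Localization.AtPrime P)) (hBC : CAlg.IsRegularHom B C) : ∀ (q : Ideal A) [q.IsPrime] (P : Ideal (q.Fiber C)) [P.IsPrime], Pi1.IsCompleteIntersection (Localization.AtPrime P) := by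
  intro q _ P _
  have hN : ∀ (q : Ideal A) [q.IsPrime] (P : Ideal (q.Fiber C)) [P.IsPrime],
      Groth.Agent.Lib.Helper7.CIBC.CIP (Localization.AtPrime P) := by
    rw [Groth.Agent.Lib.Helper28.forall_localization_fiber_iff (A := A) (B := C)
      Groth.Agent.Lib.Helper7.CIBC.CIP Groth.Agent.Lib.Helper7.CIBC.isoInv_cip]
    intro r _
    apply Groth.Agent.Lib.Helper7.CIFS.cip_fibLocRing_comp_of_isRegularHom hBC r
    revert r
    have := (Groth.Agent.Lib.Helper28.forall_localization_fiber_iff (A := A) (B := B)
      Groth.Agent.Lib.Helper7.CIBC.CIP Groth.Agent.Lib.Helper7.CIBC.isoInv_cip).1 (by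
        intro q _ P _
        haveI : IsNoetherianRing (q.Fiber B) := Groth.Agent.Lib.Helper28.isNoetherianRing_fiber q
        haveI : IsNoetherianRing (Localization.AtPrime P) :=
          IsLocalization.isNoetherianRing P.primeCompl _ inferInstance
        exact ⟨inferInstance, inferInstance, hAB q P⟩)
    intro r _
    exact this _
  exact (hN q P).2.2


end Groth.Agent.S8951
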