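import Groth.Statements.S8953
import Groth.Agent.Lib.Helper5PfBCH

set_option autoImplicit false
universe u
open CategoryTheory AlgebraicGeometry
open scoped TensorProduct
attribute [local instance] HasDerivedCategory.standard
open Disc

namespace Groth.Agent.S8953

/-- Let A → B be a quasi-finite map of Noetherian rings, written as a composite A → B′ → B in which the
first map A → B′ is finite and the induced morphism Spec(B) → Spec(B′) is an open immersion, so that
ω_{B/A} = Hom_A(B′, A) ⊗_{B′} B; and let ω^•_{B/A} = φ^!(A[0]) be the algebraic relative dualizing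
complex computed through a presentation ψ : A[x_1, …, x_n] → B (derived base change assumed to
exist, RHom_P(B, −) given as a right adjoint of restriction of scalars). Then there is a
(non-unique) B-linear isomorphism H^0(ω^•_{B/A}) ≅ ω_{B/A}. -/
theorem result (A B B' : Type u) [CommRing A] [CommRing B] [CommRing B'] [IsNoetherianRing A] [IsNoetherianRing B] [Algebra A B] [Algebra A B'] [Algebra B' B] [IsScalarTower A B' B] [Module.Finite A B'] (hopen : IsOpenImmersion (Spec.map (CommRingCat.ofHom (algebraMap B' B)))) (n : ℕ) (ψ : MvPolynomial (Fin n) A →ₐ[A] B) (hψ : Function.Surjective ψ) [DRing.HasLBaseChange (algebraMap A (MvPolynomial (Fin n) A))] (Rψ : Dual.D (MvPolynomial (Fin n) A) ⥤ Dual.D B) (adj : DRing.restrictD ψ.toRingHom ⊣ Rψ) : Nonempty (Dual.HD B (Dual2.shriekVia n Rψ (Dual.inD A A)) 0 ≃ₗ[B] (B ⊗[B'] Disc.Omega A B')) := by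
  haveI := hopen
  have hfl : Flat (Spec.map (CommRingCat.ofHom (algebraMap B' B))) := inferInstance
  have hflat : (algebraMap B' B).Flat := Flat.SpecMap_iff.1 hfl
  haveI : Module.Flat B' B := RingHom.flat_algebraMap_iff.1 hflat
  haveI : Algebra.IsEpi B' B := by
    rw [← CommRingCat.epi_iff_epi]
    have hm : Mono (Spec.map (CommRingCat.ofHom (algebraMap B' B))) := inferInstance
    haveI hm' : Mono (CommRingCat.ofHom (algebraMap B' B)).op :=
      Scheme.Spec.mono_of_mono_map hm
    exact unop_epi_of_mono (CommRingCat.ofHom (algebraMap B' B)).op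
  exact Groth.Agent.Lib.Helper5.PfBC.quasiFinite_H0 A B B' n ψ hψ Rψ adj

end Groth.Agent.S8953
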