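import Groth.Statements.S8960
import Mathlib
-- import your own Groth.Agent.* helpers here

set_option autoImplicit false
set_option linter.style.haveILetI false
set_option linter.unusedSectionVars false
universe u
open QFDual

namespace Groth.Agent.S8960

open TensorProduct


/-- Suppose the Dedekind different of A → B is defined: A is Noetherian, B is a finite A-algebra,
nonzerodivisors of A are nonzerodivisors on B, and with K = Q(A) the total ring of fractions and L =
B ⊗_A K the map K → L is étale (here with L finite free over K). If A → B is flat, then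
Trace_{L/K}(b) lies in A for every b ∈ B; equivalently 1 ∈ 𝓛_{B/A}, the Dedekind complementary
module. -/
theorem result (A K B L : Type u) [CommRing A] [CommRing K] [CommRing B] [CommRing L] [Algebra A K] [Algebra A B] [Algebra B L] [Algebra K L] [Algebra A L] [IsScalarTower A K L] [IsScalarTower A B L] (h : QFDual.IsDedekindDefined A K B L) [Module.Flat A B] : (1 : L) ∈ QFDual.complementary A K B L := by
  classical
  intro b
  haveI := h.isNoetherianRing
  haveI := h.finite
  haveI := h.free
  haveI := h.finiteKL
  haveI : IsFractionRing A K := h.isFractionRing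
  haveI : Module.FinitePresentation A B := Module.finitePresentation_of_finite A B
  haveI : Module.Projective A B := Module.Flat.projective_of_finitePresentation
  obtain ⟨n, f, g, -, -, hfg⟩ := Module.Finite.exists_comp_eq_id_of_projective A B
  set S := nonZeroDivisors A with hS
  let ιB : B →ₗ[A] L := (IsScalarTower.toAlgHom A B L).toLinearMap
  have hιB : ∀ x, ιB x = algebraMap B L x := fun x => rfl
  haveI hloc : IsLocalizedModule S ιB :=
    (isLocalizedModule_iff_isLocalization (S := S) (A := B) (Aₛ := L)).2 h.isLocalization
  have hunitK : ∀ s : S, IsUnit ((algebraMap A (Module.End A K)) s) :=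
    IsLocalizedModule.map_units (Algebra.linearMap A K)
  have hunitL : ∀ s : S, IsUnit ((algebraMap A (Module.End A L)) s) :=
    IsLocalizedModule.map_units ιB
  -- dual basis
  let e : Fin n → B := fun i => f (Pi.single i 1)
  let es : Fin n → (B →ₗ[A] A) := fun i => (LinearMap.proj i) ∘ₗ g
  have hsum : ∀ x : B, x = ∑ i, es i x • e i := by
    intro x
    have h1 : f (g x) = x := LinearMap.congr_fun hfg x
    conv_lhs => rw [← h1]
    have h2 : g x = ∑ i, (g x i) • (Pi.single i (1 : A) : Fin n → A) := by
      ext j
      simp [Finset.sum_apply, Pi.single_apply]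
    conv_lhs => rw [h2]
    rw [map_sum]
    refine Finset.sum_congr rfl (fun i _ => ?_)
    rw [map_smul]
    rfl
  let F : Fin n → (L →ₗ[A] K) := fun i =>
    IsLocalizedModule.lift S ιB ((Algebra.linearMap A K) ∘ₗ es i) hunitK
  have hF : ∀ i x, F i (algebraMap B L x) = algebraMap A K (es i x) := by
    intro i x
    rw [← hιB]
    exact IsLocalizedModule.lift_apply S ιB _ hunitK x
  let FK : Fin n → (L →ₗ[K] K) := fun i => (F i).extendScalarsOfIsLocalization S K
  have hFK : ∀ i y, FK i y = F i y := fun i y => rfl
  let c : Fin n → L := fun i => algebraMap B L (b * e i)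
  -- the key identity
  have hkey : ∀ y : L, algebraMap B L b * y = ∑ i, F i y • c i := by
    have hlin : LinearMap.mulLeft A (algebraMap B L b) = ∑ i, (F i).smulRight (c i) := by
      apply IsLocalizedModule.ext S ιB hunitL
      refine LinearMap.ext (fun x => ?_)
      simp only [LinearMap.comp_apply, LinearMap.mulLeft_apply, LinearMap.sum_apply,
        LinearMap.smulRight_apply, hιB, hF]
      rw [← map_mul]
      conv_lhs => rw [hsum x]
      rw [Finset.mul_sum, map_sum]
      refine Finset.sum_congr rfl (fun i _ => ?_)
      rw [algebraMap_smul, mul_smul_comm]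
      simp only [c]
      rw [Algebra.smul_def, Algebra.smul_def, map_mul, ← IsScalarTower.algebraMap_apply]
    intro y
    have := LinearMap.congr_fun hlin y
    simpa using this
  have hend : Algebra.lmul K L (algebraMap B L b) = dualTensorHom K L L (∑ i, FK i ⊗ₜ[K] c i) := by
    refine LinearMap.ext (fun y => ?_)
    rw [map_sum, LinearMap.sum_apply]
    simp only [dualTensorHom_apply, hFK]
    rw [← hkey]
    rfl
  have htr : Algebra.trace K L (1 * algebraMap B L b) = algebraMap A K (∑ i, es i (b * e i)) := by
    rw [one_mul, Algebra.trace_apply, hend, LinearMap.trace_eq_contract_apply, map_sum, map_sum]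
    refine Finset.sum_congr rfl (fun i _ => ?_)
    rw [contractLeft_apply, hFK]
    exact hF i _
  rw [htr]
  exact ⟨_, rfl⟩

end Groth.Agent.S8960
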