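import Groth.Statements.S8972
import Mathlib
import Groth.Agent.Lib.Helper7PolyPsCore
-- import your own Groth.Agent.* helpers here

set_option autoImplicit false
open Synt

namespace Groth.Agent.S8972
open MvPolynomial


section Univ
variable (n d : ℕ)

/-- the zero exponent index -/
def E0 : Synt.UnivIdx n d := ⟨fun _ => 0, by simp⟩

theorem E0_exponent : (E0 n d).exponent = 0 := by
  ext i
  simp [E0, Synt.UnivIdx.exponent]

/-- index set of the remaining coefficient variables -/
abbrev Idx' : Type := {p : Fin n × Synt.UnivIdx n d // p.2 ≠ E0 n d}

noncomputable instance : Fintype (Idx' n d) := Fintype.ofFinite _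

/-- target polynomial ring -/
abbrev Tgt : Type := MvPolynomial (Fin n) (MvPolynomial (Idx' n d) ℤ)

/-- the non-constant part of `f_i`, with coefficients in the smaller ring -/
noncomputable def tail (i : Fin n) : Tgt n d :=
  ∑ E : Synt.UnivIdx n d, if h : E = E0 n d then 0 else
    C (X (⟨(i, E), h⟩ : Idx' n d)) * monomial E.exponent 1

/-- images of the coefficient variables -/
noncomputable def gvar (p : Fin n × Synt.UnivIdx n d) : Tgt n d :=
  if h : p.2 = E0 n d then - tail n d p.1 else C (X (⟨p, h⟩ : Idx' n d))

/-- the substitution `A[x] → A'[x]` -/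
noncomputable def rho : MvPolynomial (Fin n) (Synt.UnivBase n d) →+* Tgt n d :=
  eval₂Hom (eval₂Hom (Int.castRingHom (Tgt n d)) (gvar n d)) X

theorem rho_univPoly (i : Fin n) : rho n d (Synt.univPoly n d i) = 0 := by
  classical
  unfold Synt.univPoly rho
  rw [map_sum]
  have key : ∀ E : Synt.UnivIdx n d,
      eval₂Hom (eval₂Hom (Int.castRingHom (Tgt n d)) (gvar n d)) X
        (monomial E.exponent (X (i, E))) =
      (if E = E0 n d then - tail n d i else 0) +
        (if h : E = E0 n d then 0 else
          C (X (⟨(i, E), h⟩ : Idx' n d)) * monomial E.exponent 1) := by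
    intro E
    rw [eval₂Hom_monomial, eval₂Hom_X']
    by_cases h : E = E0 n d
    · subst h
      simp [gvar, E0_exponent]
    · simp only [gvar, h, dite_false, if_false, zero_add]
      congr 1
      rw [monomial_eq]
      simp
  rw [Finset.sum_congr rfl (fun E _ => key E), Finset.sum_add_distrib, Finset.sum_ite_eq']
  simp [tail]

/-- coefficient inclusion -/
noncomputable def inclA : MvPolynomial (Idx' n d) ℤ →+* Synt.UnivBase n d :=
  (rename (Subtype.val : Idx' n d → Fin n × Synt.UnivIdx n d)).toRingHom

/-- the inclusion `A'[x] → B` -/
noncomputable def incl : Tgt n d →+* Synt.UnivAlg n d :=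
  (Synt.UnivAlg.mk n d).toRingHom.comp (MvPolynomial.map (inclA n d))

theorem mk_univPoly (i : Fin n) : Synt.UnivAlg.mk n d (Synt.univPoly n d i) = 0 := by
  unfold Synt.UnivAlg.mk
  exact Ideal.Quotient.eq_zero_iff_mem.mpr (Ideal.subset_span ⟨i, rfl⟩)

theorem mk_surjective : Function.Surjective (Synt.UnivAlg.mk n d) := by
  unfold Synt.UnivAlg.mk
  exact Ideal.Quotient.mk_surjective

theorem ker_mk : RingHom.ker (Synt.UnivAlg.mk n d).toRingHom = Synt.univIdeal n d := by
  unfold Synt.UnivAlg.mk
  exact Ideal.mk_ker

/-- the induced map `B → A'[x]` -/
noncomputable def rhoBar : Synt.UnivAlg n d →+* Tgt n d :=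
  RingHom.liftOfSurjective (Synt.UnivAlg.mk n d).toRingHom (mk_surjective n d)
    ⟨rho n d, by
      rw [ker_mk]
      unfold Synt.univIdeal
      rw [Ideal.span_le]
      rintro _ ⟨i, rfl⟩
      exact rho_univPoly n d i⟩

theorem rhoBar_mk (x : MvPolynomial (Fin n) (Synt.UnivBase n d)) :
    rhoBar n d (Synt.UnivAlg.mk n d x) = rho n d x :=
  RingHom.liftOfRightInverse_comp_apply _ _ _ _ x

theorem rhoBar_comp_incl : (rhoBar n d).comp (incl n d) = RingHom.id _ := by
  apply MvPolynomial.ringHom_ext
  · intro r
    have h2 : ((rhoBar n d).comp (incl n d)).comp C = (RingHom.id _).comp C := by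
      apply MvPolynomial.ringHom_ext
      · intro z
        simp
      · intro p
        have hp : p.1.2 ≠ E0 n d := p.2
        show rhoBar n d (incl n d (C (X p))) = C (X p)
        have h1 : incl n d (C (X p)) = Synt.UnivAlg.mk n d (C (X p.1)) := by
          simp [incl, inclA]
        rw [h1, rhoBar_mk]
        simp [rho, gvar, hp]
    exact RingHom.congr_fun h2 r
  · intro i
    simp [incl, rhoBar_mk, rho]

theorem incl_rho (x : MvPolynomial (Fin n) (Synt.UnivBase n d)) :
    incl n d (rho n d x) = Synt.UnivAlg.mk n d x := by
  classical
  have h : (incl n d).comp (rho n d) = (Synt.UnivAlg.mk n d).toRingHom := by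
    apply MvPolynomial.ringHom_ext
    · intro a
      have h2 : ((incl n d).comp (rho n d)).comp C = (Synt.UnivAlg.mk n d).toRingHom.comp C := by
        apply MvPolynomial.ringHom_ext
        · intro z
          simp
        · rintro ⟨i, E⟩
          by_cases hE : E = E0 n d
          · subst hE
            have hsum : ∑ E : Synt.UnivIdx n d,
                Synt.UnivAlg.mk n d (C (X (i, E)) * monomial E.exponent 1) = 0 := by
              rw [← map_sum, ← mk_univPoly n d i]
              congr 1
              unfold Synt.univPoly
              refine Finset.sum_congr rfl fun E _ => ?_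
              rw [C_mul_monomial, mul_one]
            have hsplit : ∀ E : Synt.UnivIdx n d,
                Synt.UnivAlg.mk n d (C (X (i, E)) * monomial E.exponent 1) =
                (if E = E0 n d then Synt.UnivAlg.mk n d (C (X (i, E0 n d))) else 0) +
                  (if E = E0 n d then 0 else
                    Synt.UnivAlg.mk n d (C (X (i, E)) * monomial E.exponent 1)) := by
              intro E
              by_cases h : E = E0 n d
              · subst h
                simp [E0_exponent]
              · simp [h]
            rw [Finset.sum_congr rfl (fun E _ => hsplit E), Finset.sum_add_distrib,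
              Finset.sum_ite_eq'] at hsum
            simp only [Finset.mem_univ, if_true] at hsum
            have hincl : ∀ E : Synt.UnivIdx n d,
                incl n d (if h : E = E0 n d then 0 else
                  C (X (⟨(i, E), h⟩ : Idx' n d)) * monomial E.exponent 1) =
                (if E = E0 n d then 0 else
                    Synt.UnivAlg.mk n d (C (X (i, E)) * monomial E.exponent 1)) := by
              intro E
              by_cases h : E = E0 n d
              · simp [h]
              · simp [h, incl, inclA]
            have hgoal : incl n d (rho n d (C (X (i, E0 n d)))) =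
                Synt.UnivAlg.mk n d (C (X (i, E0 n d))) := by
              have h1 : rho n d (C (X (i, E0 n d))) = - tail n d i := by
                simp [rho, gvar]
              rw [h1, map_neg, tail, map_sum, Finset.sum_congr rfl (fun E _ => hincl E)]
              exact (eq_neg_of_add_eq_zero_left hsum).symm
            simpa using hgoal
          · simp [incl, rho, inclA, gvar, hE]
      exact RingHom.congr_fun h2 a
    · intro i
      simp [incl, rho]
  exact RingHom.congr_fun h x

theorem incl_comp_rhoBar : (incl n d).comp (rhoBar n d) = RingHom.id _ := by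
  ext b
  obtain ⟨x, rfl⟩ := mk_surjective n d b
  simp only [RingHom.comp_apply, RingHom.id_apply]
  rw [rhoBar_mk, incl_rho]

/-- the universal algebra is a polynomial ring -/
noncomputable def univEquiv : Synt.UnivAlg n d ≃+* Tgt n d :=
  RingEquiv.ofRingHom (rhoBar n d) (incl n d) (rhoBar_comp_incl n d) (incl_comp_rhoBar n d)

end Univ

theorem isRegularRing_mvPolynomial_int (σ : Type) [Fintype σ] :
    IsRegularRing (MvPolynomial σ ℤ) := by
  have h := Groth.Agent.Lib.Helper7.PolyPsCore.isRegularRing_mvPolynomial_fin ℤ (Fintype.card σ)
  exact IsRegularRing.of_ringEquiv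
    (MvPolynomial.renameEquiv ℤ (Fintype.equivFin σ)).symm.toRingEquiv


/-- Let n, d ≥ 1 and let B = A[x_1, …, x_n]/(f_1, …, f_n) be the universal algebra over A = ℤ[a_{i,E}],
f_i = Σ_E a_{i,E} x^E summed over exponent vectors E with |E| ≤ d. Then B is an integral domain and
every localization of B at a prime ideal is a regular local ring. (The published statement says that
X_{n,d} = Spec A and the quasi-finite locus Y_{n,d} ⊆ Spec B are regular and irreducible; for A, a
polynomial ring over ℤ, this is standard, and for the open Y_{n,d} it follows from the assertion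
about all of Spec B made here, which is what the printed argument shows. The published statement
also asserts that Y_{n,d} → X_{n,d} is locally quasi-finite and syntomic, an instance of the general
characterisation of quasi-finite syntomic maps; that clause is not part of this row.) -/
theorem result (n d : ℕ) (hn : 1 ≤ n) (hd : 1 ≤ d) : IsDomain (Synt.UnivAlg n d) ∧ ∀ q : PrimeSpectrum (Synt.UnivAlg n d), IsRegularLocalRing (Localization.AtPrime q.asIdeal) := by
  have hreg1 : IsRegularRing (MvPolynomial (Idx' n d) ℤ) := isRegularRing_mvPolynomial_int _
  have hreg2 : IsRegularRing (Tgt n d) :=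
    Groth.Agent.Lib.Helper7.PolyPsCore.isRegularRing_mvPolynomial_fin _ n
  have hreg : IsRegularRing (Synt.UnivAlg n d) :=
    IsRegularRing.of_ringEquiv (univEquiv n d).symm
  refine ⟨MulEquiv.isDomain (Tgt n d) (univEquiv n d).toMulEquiv, fun q => ?_⟩
  exact IsRegularRing.isRegularLocalRing_localization q.asIdeal

end Groth.Agent.S8972
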