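import Groth.Statements.S8973
import Mathlib

set_option autoImplicit false
open Synt

namespace Groth.Agent.S8973

open MvPolynomial

section General
universe u
variable {R : Type u} [CommRing R] {n : ℕ} (v : Fin n → MvPolynomial (Fin n) R)

/-- The image in the quotient of the Jacobian determinant `det (∂ v_j / ∂ x_i)`. -/
noncomputable def jac : MvPolynomial (Fin n) R ⧸ Ideal.span (Set.range v) :=
  Ideal.Quotient.mk _ (Matrix.det (Matrix.of fun i j => MvPolynomial.pderiv i (v j)))

/-- For a square system `v_1, …, v_n ∈ R[x_1, …, x_n]`, the quotient `R[x]/(v)` localized away from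
the Jacobian determinant is étale over `R`. -/
theorem etale_away_jac :
    Algebra.Etale R (Localization.Away (jac v)) := by
  classical
  let P : Algebra.PreSubmersivePresentation R (MvPolynomial (Fin n) R ⧸ Ideal.span (Set.range v))
      (Fin n) (Fin n) :=
    Algebra.PreSubmersivePresentation.naive (v := v) id Function.injective_id
  have hPj : P.jacobian = jac v := by
    rw [Algebra.PreSubmersivePresentation.jacobian_eq_jacobiMatrix_det]
    have : P.jacobiMatrix = Matrix.of fun i j => MvPolynomial.pderiv i (v j) := by
      ext i j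
      simp [P]
    rw [this]
    rfl
  set Δ := jac v with hΔdef
  have hΔ : IsUnit (algebraMap _ (Localization.Away Δ) Δ) :=
    IsLocalization.Away.algebraMap_isUnit _
  let Q : Algebra.SubmersivePresentation R (Localization.Away Δ) _ _ :=
    { toPreSubmersivePresentation :=
        .comp (.localizationAway (Localization.Away Δ) Δ) P,
      jacobian_isUnit := by
        rw [Algebra.PreSubmersivePresentation.comp_jacobian_eq_jacobian_smul_jacobian, hPj]
        simp [Algebra.smul_def, -isUnit_map_iff, hΔ] }
  have : Algebra.IsStandardSmoothOfRelativeDimension 0 R (Localization.Away Δ) :=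
    ⟨_, _, _, inferInstance, Q, by
      simp only [Algebra.PreSubmersivePresentation.dimension_comp_eq_dimension_add_dimension, Q]
      simp [Algebra.Presentation.dimension]⟩
  infer_instance

/-- At a prime not containing the Jacobian determinant, `R[x]/(v)` is étale and quasi-finite. -/
theorem isEtaleAt_and_quasiFiniteAt (q : Ideal (MvPolynomial (Fin n) R ⧸ Ideal.span (Set.range v)))
    [q.IsPrime] (hq : jac v ∉ q) :
    Algebra.QuasiFiniteAt R q ∧ Algebra.IsEtaleAt R q := by
  have := etale_away_jac v
  have hsub : (PrimeSpectrum.basicOpen (jac v) : Set (PrimeSpectrum _)) ⊆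
      Algebra.etaleLocus R (MvPolynomial (Fin n) R ⧸ Ideal.span (Set.range v)) :=
    Algebra.basicOpen_subset_etaleLocus_iff.mpr inferInstance
  have h1 : Algebra.IsEtaleAt R q := hsub (show (⟨q, inferInstance⟩ : PrimeSpectrum _) ∈ _ from hq)
  refine ⟨?_, h1⟩
  have : Algebra.FormallyUnramified R (Localization.AtPrime q) := inferInstance
  show Algebra.QuasiFinite R (Localization.AtPrime q)
  infer_instance

end General

section Univ
variable {n d : ℕ}

/-- index of the unit exponent vector `e_j` -/
def unitIdx (hd : 1 ≤ d) (j : Fin n) : UnivIdx n d :=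
  ⟨fun i => if i = j then ⟨1, by omega⟩ else ⟨0, by omega⟩, by
    have : ∀ i : Fin n, (((if i = j then (⟨1, by omega⟩ : Fin (d + 1)) else ⟨0, by omega⟩) :
        Fin (d + 1)) : ℕ) = if i = j then 1 else 0 := by
      intro i; split_ifs <;> rfl
    simp only [this, Finset.sum_ite_eq', Finset.mem_univ, if_true]
    exact hd⟩

theorem unitIdx_exponent (hd : 1 ≤ d) (j : Fin n) :
    (unitIdx hd j).exponent = Finsupp.single j 1 := by
  ext i
  simp only [UnivIdx.exponent, unitIdx, Finsupp.equivFunOnFinite_symm_apply_apply,
    Finsupp.single_apply]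
  by_cases h : i = j
  · simp [h]
  · simp [h, Ne.symm h]

/-- coefficient evaluation: `a_{j,E} ↦ 1` if `E = e_j` and `0` otherwise -/
noncomputable def cEval (hd : 1 ≤ d) : UnivBase n d →+* ℤ :=
  MvPolynomial.eval fun p => if p.2 = unitIdx hd p.1 then 1 else 0

theorem map_univPoly (hd : 1 ≤ d) (j : Fin n) :
    MvPolynomial.map (cEval hd) (univPoly n d j) = X j := by
  simp only [univPoly, map_sum, MvPolynomial.map_monomial, cEval, MvPolynomial.eval_X]
  rw [Finset.sum_eq_single (unitIdx hd j)]
  · simp [unitIdx_exponent, MvPolynomial.X]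
  · intro E _ hE
    simp [hE]
  · intro h; exact absurd (Finset.mem_univ _) h

end Univ


/-- Let n, d ≥ 1 and let B = A[x_1, …, x_n]/(f_1, …, f_n) be the universal algebra over A = ℤ[a_{i,E}],
f_i = Σ_E a_{i,E} x^E summed over exponent vectors E with |E| ≤ d. Then there is a prime q of B at
which B is quasi-finite over A and étale over A (that is, B_q is quasi-finite and formally étale
over A). (The published statement asserts a dense open V of the quasi-finite locus Y_{n,d} ⊆ Spec B
that is étale over Spec A; as Spec B is irreducible and the étale locus is open, that amounts to the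
existence of one such point, which is what is stated here and what the printed argument exhibits.) -/
theorem result (n d : ℕ) (hn : 1 ≤ n) (hd : 1 ≤ d) : ∃ q : PrimeSpectrum (Synt.UnivAlg n d), Algebra.QuasiFiniteAt (Synt.UnivBase n d) q.asIdeal ∧ Algebra.IsEtaleAt (Synt.UnivBase n d) q.asIdeal := by
  classical
  -- the evaluation point: `a_{j,E} ↦ δ_{E, e_j}`, `x_i ↦ 0`
  let ev0 : MvPolynomial (Fin n) (UnivBase n d) →+* ℤ :=
    (MvPolynomial.eval (0 : Fin n → ℤ)).comp (MvPolynomial.map (cEval hd))
  have hker : ∀ a ∈ univIdeal n d, ev0 a = 0 := by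
    intro a ha
    have hle : univIdeal n d ≤ RingHom.ker ev0 := by
      rw [univIdeal, Ideal.span_le]
      rintro _ ⟨j, rfl⟩
      show ev0 (univPoly n d j) = 0
      simp [ev0, map_univPoly]
    exact hle ha
  let ev : (MvPolynomial (Fin n) (UnivBase n d) ⧸ univIdeal n d) →+* ℤ :=
    Ideal.Quotient.lift _ ev0 hker
  have hprime : (RingHom.ker ev).IsPrime := RingHom.ker_isPrime ev
  have hjac : jac (univPoly n d) ∉ RingHom.ker ev := by
    rw [RingHom.mem_ker]
    have h1 : ev (jac (univPoly n d)) =
        ev0 (Matrix.det (Matrix.of fun i j => MvPolynomial.pderiv i (univPoly n d j))) := by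
      simp [jac, ev]
    rw [h1, RingHom.map_det]
    have h2 : ev0.mapMatrix (Matrix.of fun i j => MvPolynomial.pderiv i (univPoly n d j)) = 1 := by
      ext i j
      simp only [RingHom.mapMatrix_apply, Matrix.map_apply, Matrix.of_apply, ev0,
        RingHom.comp_apply]
      rw [← MvPolynomial.pderiv_map, map_univPoly, MvPolynomial.pderiv_X]
      by_cases h : i = j
      · subst h; simp
      · simp [Matrix.one_apply_ne h, Ne.symm h]
    rw [h2, Matrix.det_one]
    exact one_ne_zero
  have key := isEtaleAt_and_quasiFiniteAt (univPoly n d) (RingHom.ker ev) hjac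
  exact ⟨⟨RingHom.ker ev, hprime⟩, key⟩

end Groth.Agent.S8973
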