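import Groth.Statements.S8992
import Mathlib.Tactic
-- import your own Groth.Agent.* helpers here

set_option autoImplicit false
universe u
open HTop

namespace Groth.Agent.S8992

/-- An algebra over the prime field with p elements is absolutely weakly normal if and only if its p-th
power map is bijective (the algebra is perfect). -/
theorem result (p : ℕ) [Fact p.Prime] (A : Type u) [CommRing A] [Algebra (ZMod p) A] : HTop.IsAWNRing A ↔ PerfectRing A p := by
  have hpP : p.Prime := Fact.out
  have hp : (p : A) = 0 := by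
    rw [← map_natCast (algebraMap (ZMod p) A) p, ZMod.natCast_self, map_zero]
  constructor
  · rintro ⟨_, h⟩
    refine ⟨?_⟩
    have hpp := h p hpP
    constructor
    · intro a b hab
      have hab' : a ^ p = b ^ p := hab
      obtain ⟨c, _, hc⟩ := hpp (a ^ p) 0 (by simp [hp, hpP.ne_zero])
      have ha := hc a ⟨rfl, by simp [hp]⟩
      have hb := hc b ⟨hab', by simp [hp]⟩
      rw [ha, hb]
    · intro x
      obtain ⟨a, ⟨ha, _⟩, _⟩ := hpp x 0 (by simp [hp, hpP.ne_zero])
      exact ⟨a, ha.symm⟩
  · rintro ⟨hinj, hsurj⟩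
    have hinj' : ∀ a b : A, a ^ p = b ^ p → a = b := fun a b h => hinj h
    have hsurj' : ∀ x : A, ∃ a : A, a ^ p = x := fun x => hsurj x
    refine ⟨?_, ?_⟩
    · intro x y hxy
      obtain ⟨i, j, hij⟩ : ∃ i j : ℕ, p = 2 * i + 3 * j := by
        rcases Nat.even_or_odd' p with ⟨k, hk | hk⟩
        · exact ⟨k, 0, by omega⟩
        · have : 2 ≤ p := hpP.two_le
          exact ⟨k - 1, 1, by omega⟩
      obtain ⟨a, ha⟩ := hsurj' (x ^ i * y ^ j)
      have h2 : a ^ 2 = x := by
        apply hinj'
        calc (a ^ 2) ^ p = (a ^ p) ^ 2 := by ring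
          _ = x ^ (2 * i) * (y ^ 2) ^ j := by rw [ha]; ring
          _ = x ^ (2 * i) * (x ^ 3) ^ j := by rw [hxy]
          _ = x ^ p := by rw [hij]; ring
      have h3 : a ^ 3 = y := by
        apply hinj'
        calc (a ^ 3) ^ p = (a ^ p) ^ 3 := by ring
          _ = (x ^ 3) ^ i * y ^ (3 * j) := by rw [ha]; ring
          _ = (y ^ 2) ^ i * y ^ (3 * j) := by rw [hxy]
          _ = y ^ p := by rw [hij]; ring
      refine ⟨a, ⟨h2.symm, h3.symm⟩, ?_⟩
      rintro b ⟨hb2, hb3⟩
      apply hinj'
      calc b ^ p = (b ^ 2) ^ i * (b ^ 3) ^ j := by rw [hij]; ring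
        _ = x ^ i * y ^ j := by rw [← hb2, ← hb3]
        _ = a ^ p := ha.symm
    · intro q hq x y hxy
      by_cases hqp : q = p
      · subst hqp
        have hy : y = 0 := by
          apply hinj'
          rw [← hxy, hp, zero_pow hpP.ne_zero, zero_mul]
        obtain ⟨a, ha⟩ := hsurj' x
        refine ⟨a, ⟨ha.symm, by rw [hy, hp, zero_mul]⟩, ?_⟩
        rintro b ⟨hb, _⟩
        apply hinj'
        rw [← hb, ha]
      · have hcop : Nat.Coprime q p := (Nat.coprime_primes hq hpP).mpr hqp
        have hu0 : IsUnit ((q : ZMod p)) := (ZMod.isUnit_iff_coprime q p).mpr hcop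
        have hu : IsUnit ((q : A)) := by
          have := hu0.map (algebraMap (ZMod p) A)
          simpa using this
        obtain ⟨u, hu⟩ := hu
        refine ⟨↑u⁻¹ * y, ⟨?_, ?_⟩, ?_⟩
        · rw [mul_pow, ← hxy, ← hu, ← mul_assoc, ← mul_pow]
          simp
        · rw [← hu, ← mul_assoc]
          simp
        · rintro b ⟨_, hb⟩
          rw [hb, ← hu, ← mul_assoc]
          simp

end Groth.Agent.S8992
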