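import Groth.Statements.S8993
import Groth.Agent.Lib.Helper20PRadical

set_option autoImplicit false
universe u
open HTop

namespace Groth.Agent.S8993

/-- For a ring A of prime characteristic p, the map from A to the direct limit of A along Frobenius (the
perfect closure) is an absolute weak normalization of A. (The published statement also identifies,
over a base of characteristic p, the h sheafification of the structure sheaf on quasi-compact
quasi-separated objects with this colimit; that part is not stated here.) -/
theorem result (p : ℕ) [Fact p.Prime] (A : Type u) [CommRing A] [CharP A p] : HTop.IsRingAWN (PerfectClosure.of A p) := by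
  open Groth.Agent.Lib.Helper20.AWN in
  refine ⟨(isUnivHomeo_iff_UH _).mpr (UH_of_isPRadical p (PerfectClosure.of A p)), ?_⟩
  intro C _ ψ hψ
  have h : UH ψ := (isUnivHomeo_iff_UH ψ).mp hψ
  have hp : p.Prime := Fact.out
  have : IsPRadical ψ p := isPRadical_of_UH p ψ h
  have : CharP C p := charP_of_UH p ψ h
  have : ExpChar C p := ExpChar.prime hp
  have : ExpChar A p := ExpChar.prime hp
  refine ⟨PerfectRing.lift ψ (PerfectClosure.of A p) p, PerfectRing.lift_comp ψ _ p, ?_⟩
  intro χ' hχ'
  apply IsPRadical.injective_comp_of_perfect ψ p (M := PerfectClosure A p)
  show χ'.comp ψ = (PerfectRing.lift ψ (PerfectClosure.of A p) p).comp ψ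
  rw [hχ', PerfectRing.lift_comp]

end Groth.Agent.S8993
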