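import Groth.Statements.S8999
import Groth.Agent.Lib.Helper13Fiber
-- import your own Groth.Agent.* helpers here

set_option autoImplicit false
universe u
open FlatMor

namespace Groth.Agent.S8999

open TensorProduct FlatCA

attribute [local instance] Algebra.TensorProduct.rightAlgebra

section Crit

variable {R : Type u} [CommRing R] (p : Ideal R) [p.IsPrime] (S : Type u) [CommRing S]
  [Algebra R S] (N : Type u) [AddCommGroup N] [Module S N] [Module R N] [IsScalarTower R S N]

theorem comap_fiberIdeal (q : Ideal S) [q.IsPrime] [q.LiesOver p] :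
    (FlatCA.fiberIdeal p q).comap (algebraMap S (p.Fiber S)) = q := by
  apply le_antisymm
  · let Q : p.primesOver S := ⟨q, ⟨inferInstance, inferInstance⟩⟩
    let 𝔓 := (PrimeSpectrum.primesOverOrderIsoFiber R S p) Q
    have h1 : 𝔓.1.comap (Algebra.TensorProduct.includeRight (R := R) (A := p.ResidueField)
        (B := S)) = q := by
      have := PrimeSpectrum.coe_primesOverOrderIsoFiber_symm_apply (R := R) (S := S) (p := p) 𝔓
      rw [OrderIso.symm_apply_apply] at this
      exact this.symm
    have h2 : FlatCA.fiberIdeal p q ≤ 𝔓.1 := by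
      unfold FlatCA.fiberIdeal
      rw [Ideal.map_le_iff_le_comap]
      exact h1.symm.le
    calc (FlatCA.fiberIdeal p q).comap _ ≤ 𝔓.1.comap _ := Ideal.comap_mono h2
      _ = q := h1
  · exact Ideal.le_comap_map

/-- an ideal of the fibre ring is generated by its contraction -/
theorem fiberIdeal_comap (𝔞 : Ideal (p.Fiber S)) :
    FlatCA.fiberIdeal p (𝔞.comap (algebraMap S (p.Fiber S))) = 𝔞 := by
  apply le_antisymm
  · exact Ideal.map_comap_le
  · intro x hx
    obtain ⟨u, hu, s, hs⟩ := Groth.Agent.Helper13Fiber.exists_isUnit_mul_eq_algebraMap p S x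
    have h1 : algebraMap S (p.Fiber S) s ∈ 𝔞 := hs ▸ 𝔞.mul_mem_left u hx
    have h2 : algebraMap S (p.Fiber S) s ∈
        FlatCA.fiberIdeal p (𝔞.comap (algebraMap S (p.Fiber S))) :=
      Ideal.mem_map_of_mem _ h1
    obtain ⟨v, hv⟩ := hu.exists_left_inv
    have : x = v * (u * x) := by rw [← mul_assoc, hv, one_mul]
    rw [this, hs]
    exact Ideal.mul_mem_left _ v h2

theorem fiberIdeal_isPrime (q : Ideal S) [q.IsPrime] [q.LiesOver p] :
    (FlatCA.fiberIdeal p q).IsPrime := by
  let Q : p.primesOver S := ⟨q, ⟨inferInstance, inferInstance⟩⟩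
  let 𝔓 := (PrimeSpectrum.primesOverOrderIsoFiber R S p) Q
  have h1 : 𝔓.1.comap (algebraMap S (p.Fiber S)) = q := by
    have := PrimeSpectrum.coe_primesOverOrderIsoFiber_symm_apply (R := R) (S := S) (p := p) 𝔓
    rw [OrderIso.symm_apply_apply] at this
    exact this.symm
  have h2 := fiberIdeal_comap p S 𝔓.1
  rw [h1] at h2
  rw [h2]
  exact 𝔓.2

/-- intermediate criterion -/
theorem fiber_ass_iff_aux (q : Ideal S) [q.IsPrime] [q.LiesOver p] :
    FlatCA.fiberIdeal p q ∈ associatedPrimes (p.Fiber S) (fiberMod p S N) ↔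
      ∃ n : N, ∀ x : S, x ∈ q ↔ ∃ k : ℕ, x ^ k • toFiberMod p S N n = 0 := by
  constructor
  · rintro ⟨-, z, hz⟩
    obtain ⟨t, ht, n, hn⟩ := Groth.Agent.Helper13Fiber.exists_smul_eq_toFiberMod p S N z
    refine ⟨n, fun x => ?_⟩
    have h1 : x ∈ q ↔ algebraMap S (p.Fiber S) x ∈ FlatCA.fiberIdeal p q := by
      conv_lhs => rw [← comap_fiberIdeal p S q]
      rfl
    rw [h1, hz, Ideal.mem_radical_iff]
    refine exists_congr fun k => ?_
    rw [Submodule.mem_colon_singleton, Submodule.mem_bot, ← map_pow, algebraMap_smul, ← hn,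
      smul_comm, Groth.Agent.Helper13Fiber.smul_eq_zero_iff p S N ht]
  · rintro ⟨n, hn⟩
    refine ⟨fiberIdeal_isPrime p S q, toFiberMod p S N n, ?_⟩
    rw [← fiberIdeal_comap p S ((Submodule.colon (⊥ : Submodule (p.Fiber S) (fiberMod p S N))
      {toFiberMod p S N n}).radical)]
    congr 1
    ext x
    rw [hn x, Ideal.mem_comap, Ideal.mem_radical_iff]
    refine exists_congr fun k => ?_
    rw [Submodule.mem_colon_singleton, Submodule.mem_bot, ← map_pow, algebraMap_smul]

/-- element-level criterion -/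
theorem fiber_ass_iff (q : Ideal S) [q.IsPrime] [q.LiesOver p] :
    FlatCA.fiberIdeal p q ∈ associatedPrimes (p.Fiber S) (fiberMod p S N) ↔
      ∃ n : N, ∀ x : S, x ∈ q ↔ ∃ k : ℕ, ∃ t : R, t ∉ p ∧
        t • (x ^ k • n) ∈ (p • ⊤ : Submodule R N) := by
  rw [fiber_ass_iff_aux]
  refine exists_congr fun n => forall_congr' fun x => ?_
  refine iff_congr Iff.rfl (exists_congr fun k => ?_)
  rw [Groth.Agent.Helper13Fiber.smul_toFiberMod_eq_zero_iff]
  refine exists_congr fun t => and_congr Iff.rfl ?_
  rw [Groth.Agent.Helper13Fiber.smul_top_eq_restrictScalars p S N, Submodule.restrictScalars_mem,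
    algebraMap_smul]

end Crit


section BC
variable {A A' S S' : Type u} [CommRing A] [CommRing A'] [CommRing S] [CommRing S']
  [Algebra A A'] [Algebra A S] [Algebra S S'] [Algebra A' S'] [Algebra A S']
  [IsScalarTower A S S'] [IsScalarTower A A' S']
  {N N' : Type u} [AddCommGroup N] [Module S N] [Module A N] [IsScalarTower A S N]
  [AddCommGroup N'] [Module S' N'] [Module S N'] [IsScalarTower S S' N'] [Module A' N']
  [IsScalarTower A' S' N']

theorem exists_addEquiv_of_isBaseChange (hpo : Algebra.IsPushout A S A' S') (f : N →ₗ[S] N')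
    (hf : IsBaseChange S' f) :
    ∃ e : A' ⊗[A] N ≃+ N', ∀ (a' : A') (n : N), e (a' ⊗ₜ n) = a' • f n := by
  haveI : Algebra.IsPushout A A' S S' := hpo.symm
  let c := Algebra.IsPushout.cancelBaseChange A A' S S' N
  refine ⟨c.symm.toAddEquiv.trans hf.equiv.toAddEquiv, fun a' n => ?_⟩
  change hf.equiv (c.symm (a' ⊗ₜ n)) = _
  rw [Algebra.IsPushout.cancelBaseChange_symm_tmul, IsBaseChange.equiv_tmul, algebraMap_smul]

theorem isBaseChange_of_addEquiv (hpo : Algebra.IsPushout A S A' S') (f : N →ₗ[S] N')
    (e : A' ⊗[A] N ≃+ N') (he : ∀ (a' : A') (n : N), e (a' ⊗ₜ n) = a' • f n) :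
    IsBaseChange S' f := by
  haveI : Algebra.IsPushout A A' S S' := hpo.symm
  let c := Algebra.IsPushout.cancelBaseChange A A' S S' N
  let can : S' ⊗[S] N →ₗ[S'] N' := LinearMap.liftBaseChange S' f
  have key : ∀ w : A' ⊗[A] N, can (c.symm w) = e w := by
    intro w
    induction w using TensorProduct.induction_on with
    | zero => simp
    | tmul a' n =>
      rw [Algebra.IsPushout.cancelBaseChange_symm_tmul, LinearMap.liftBaseChange_tmul, he,
        algebraMap_smul]
    | add x y hx hy => rw [map_add, map_add, map_add, hx, hy]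
  have hbij : Function.Bijective can := by
    have h1 : (can : S' ⊗[S] N → N') = e ∘ c := by
      funext z
      have := key (c z)
      rw [LinearEquiv.symm_apply_apply] at this
      exact this
    rw [h1]
    exact e.bijective.comp c.bijective
  refine IsBaseChange.of_equiv (LinearEquiv.ofBijective can hbij) fun x => ?_
  change can (1 ⊗ₜ x) = f x
  rw [LinearMap.liftBaseChange_tmul, one_smul]

end BC


section Down

variable {A B C : Type u} [CommRing A] [CommRing B] [CommRing C] [Algebra A B] [Algebra B C]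
  [Algebra A C] [IsScalarTower A B C]
  (N : Type u) [AddCommGroup N] [Module C N] [Module B N] [IsScalarTower B C N]
  [Module A N] [IsScalarTower A B N] [IsScalarTower A C N]
  (p : Ideal A) [p.IsPrime]

set_option maxHeartbeats 1600000 in
theorem down (hBC : Function.Surjective (algebraMap B C)) (A' C' N' : Type u) [CommRing A'] [CommRing C'] [Algebra A A'] [Algebra C C']
    [Algebra A' C'] [Algebra A C'] [IsScalarTower A C C'] [IsScalarTower A A' C']
    [AddCommGroup N'] [Module C' N'] [Module C N'] [IsScalarTower C C' N'] [Module A' N']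
    [IsScalarTower A' C' N'] (f : N →ₗ[C] N') (t' t : Ideal A') [t'.IsPrime] [t.IsPrime]
    (P : Ideal C') [P.IsPrime] (h : IsImpurity A C N p A' C' N' f t' t P) :
    ∃ (B' : Type u) (_ : CommRing B') (_ : Algebra B B') (_ : Algebra A' B') (_ : Algebra A B')
      (_ : IsScalarTower A B B') (_ : IsScalarTower A A' B') (_ : Module B' N') (_ : Module B N')
      (_ : IsScalarTower B B' N') (_ : IsScalarTower A' B' N') (g : N →ₗ[B] N') (P' : Ideal B')
      (_ : P'.IsPrime), IsImpurity A B N p A' B' N' g t' t P' := by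
  obtain ⟨hpo, hbc, htt, htp, hPt, hass, hcl⟩ := h
  let ψB : B →ₐ[A] C' := (IsScalarTower.toAlgHom A C C').comp (IsScalarTower.toAlgHom A B C)
  let ψA : A' →ₐ[A] C' := IsScalarTower.toAlgHom A A' C'
  let φ : B ⊗[A] A' →ₐ[A] C' := Algebra.TensorProduct.productMap ψB ψA
  have hφl : ∀ b : B, φ (b ⊗ₜ 1) = algebraMap C C' (algebraMap B C b) := fun b => by
    simp [φ, ψB]
  have hφr : ∀ a' : A', φ (1 ⊗ₜ a') = algebraMap A' C' a' := fun a' => by
    simp [φ, ψA]
  letI mB' : Module (B ⊗[A] A') N' := Module.compHom N' φ.toRingHom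
  letI mB : Module B N' := Module.compHom N' ψB.toRingHom
  have hsmB' : ∀ (x : B ⊗[A] A') (n : N'), x • n = φ x • n := fun _ _ => rfl
  have hsmB : ∀ (b : B) (n : N'), b • n = algebraMap C C' (algebraMap B C b) • n := fun _ _ => rfl
  haveI tB : IsScalarTower B (B ⊗[A] A') N' := ⟨fun b x n => by
    rw [hsmB', hsmB, hsmB', Algebra.smul_def, map_mul, mul_smul]
    congr 1
    rw [Algebra.TensorProduct.algebraMap_apply, Algebra.algebraMap_self, RingHom.id_apply, hφl]⟩
  haveI tA' : IsScalarTower A' (B ⊗[A] A') N' := ⟨fun a' x n => by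
    rw [hsmB', hsmB', Algebra.smul_def, map_mul, mul_smul]
    have : algebraMap A' (B ⊗[A] A') a' = 1 ⊗ₜ a' := rfl
    rw [this, hφr, algebraMap_smul]⟩
  let g : N →ₗ[B] N' :=
    { toFun := f
      map_add' := f.map_add
      map_smul' := fun b n => by
        rw [RingHom.id_apply, hsmB, ← algebraMap_smul C b n, f.map_smul, algebraMap_smul C'] }
  have hφsurj : Function.Surjective φ := by
    intro x
    induction x using hpo.out.inductionOn with
    | zero => exact ⟨0, map_zero _⟩
    | tmul a' => exact ⟨1 ⊗ₜ a', by rw [hφr]; rfl⟩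
    | smul c y hy =>
      obtain ⟨z, rfl⟩ := hy
      obtain ⟨b, rfl⟩ := hBC c
      refine ⟨(b ⊗ₜ 1) * z, ?_⟩
      rw [map_mul, hφl, Algebra.smul_def]
    | add x y hx hy =>
      obtain ⟨x', rfl⟩ := hx
      obtain ⟨y', rfl⟩ := hy
      exact ⟨x' + y', map_add _ _ _⟩
  -- base change
  have hbcB : IsBaseChange (B ⊗[A] A') g := by
    obtain ⟨e, he⟩ := exists_addEquiv_of_isBaseChange hpo f hbc
    exact isBaseChange_of_addEquiv (inferInstance : Algebra.IsPushout A B A' (B ⊗[A] A')) g e he
  -- the prime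
  have hPprime : (P.comap φ.toRingHom).IsPrime := Ideal.comap_isPrime _ _
  have hcomp : (φ.toRingHom).comp (algebraMap A' (B ⊗[A] A')) = algebraMap A' C' := by
    ext a'
    exact hφr a'
  have hPover : (P.comap φ.toRingHom).LiesOver t' := by
    constructor
    rw [Ideal.under_def, Ideal.comap_comap, hcomp]
    exact hPt.over
  refine ⟨B ⊗[A] A', inferInstance, inferInstance, inferInstance, inferInstance, inferInstance,
    inferInstance, mB', mB, tB, tA', g, P.comap φ.toRingHom, hPprime, inferInstance, hbcB, htt, htp,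
    hPover, ?_, ?_⟩
  · -- associated prime of the fibre
    have := hPover
    rw [fiber_ass_iff t' C' N' P] at hass
    rw [fiber_ass_iff t' (B ⊗[A] A') N' (P.comap φ.toRingHom)]
    obtain ⟨n, hn⟩ := hass
    refine ⟨n, fun x => ?_⟩
    rw [Ideal.mem_comap]
    change φ x ∈ P ↔ _
    rw [hn (φ x)]
    refine exists_congr fun k => exists_congr fun s => and_congr Iff.rfl ?_
    rw [hsmB', map_pow]
  · -- closure condition
    intro P'' hP'' hle hover
    have hker : RingHom.ker φ.toRingHom ≤ P'' := fun x hx => hle (by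
      rw [Ideal.mem_comap]
      rw [RingHom.mem_ker] at hx
      rw [hx]
      exact P.zero_mem)
    have hQprime : (P''.map φ.toRingHom).IsPrime :=
      Ideal.map_isPrime_of_surjective hφsurj hker
    have hcm : (P''.map φ.toRingHom).comap φ.toRingHom = P'' := by
      rw [Ideal.comap_map_of_surjective φ.toRingHom hφsurj]
      exact sup_eq_left.mpr hker
    refine hcl (P''.map φ.toRingHom) ?_ ?_
    · calc P = (P.comap φ.toRingHom).map φ.toRingHom := (Ideal.map_comap_of_surjective φ.toRingHom hφsurj P).symm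
        _ ≤ P''.map φ.toRingHom := Ideal.map_mono hle
    · constructor
      rw [Ideal.under_def, ← hcomp, ← Ideal.comap_comap, hcm]
      exact hover.over

end Down


section Up

variable {A B C : Type u} [CommRing A] [CommRing B] [CommRing C] [Algebra A B] [Algebra B C]
  [Algebra A C] [IsScalarTower A B C]
  (N : Type u) [AddCommGroup N] [Module C N] [Module B N] [IsScalarTower B C N]
  [Module A N] [IsScalarTower A B N] [IsScalarTower A C N]
  (p : Ideal A) [p.IsPrime]

set_option maxHeartbeats 1600000 in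
theorem up (hBC : Function.Surjective (algebraMap B C)) (A' B' N' : Type u) [CommRing A']
    [CommRing B'] [Algebra A A'] [Algebra B B']
    [Algebra A' B'] [Algebra A B'] [IsScalarTower A B B'] [IsScalarTower A A' B']
    [AddCommGroup N'] [Module B' N'] [Module B N'] [IsScalarTower B B' N'] [Module A' N']
    [IsScalarTower A' B' N'] (f : N →ₗ[B] N') (t' t : Ideal A') [t'.IsPrime] [t.IsPrime]
    (P : Ideal B') [P.IsPrime] (h : IsImpurity A B N p A' B' N' f t' t P) :
    ∃ (C' : Type u) (_ : CommRing C') (_ : Algebra C C') (_ : Algebra A' C') (_ : Algebra A C')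
      (_ : IsScalarTower A C C') (_ : IsScalarTower A A' C') (_ : Module C' N') (_ : Module C N')
      (_ : IsScalarTower C C' N') (_ : IsScalarTower A' C' N') (g : N →ₗ[C] N') (P' : Ideal C')
      (_ : P'.IsPrime), IsImpurity A C N p A' C' N' g t' t P' := by
  obtain ⟨hpo, hbc, htt, htp, hPt, hass, hcl⟩ := h
  let I : Ideal B := RingHom.ker (algebraMap B C)
  let J : Ideal B' := I.map (algebraMap B B')
  -- `J` kills `N'`
  have hI : ∀ i ∈ I, ∀ x : N', algebraMap B B' i • x = 0 := by
    intro i hi x
    induction x using hbc.inductionOn with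
    | zero => exact smul_zero _
    | tmul n =>
      rw [algebraMap_smul, ← f.map_smul, ← algebraMap_smul C i n, (RingHom.mem_ker).mp hi, zero_smul,
        map_zero]
    | smul b' y hy => rw [smul_comm, hy, smul_zero]
    | add x y hx hy => rw [smul_add, hx, hy, add_zero]
  have hJ : ∀ j ∈ J, ∀ x : N', j • x = 0 := by
    intro j hj x
    have hle : J ≤ (Submodule.span B' {x}).annihilator := by
      rw [Ideal.map_le_iff_le_comap]
      intro i hi
      rw [Ideal.mem_comap, Submodule.mem_annihilator_span_singleton]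
      exact hI i hi x
    have := hle hj
    rwa [Submodule.mem_annihilator_span_singleton] at this
  have htors : Module.IsTorsionBySet B' N' (J : Set B') := fun x j => hJ j.1 j.2 x
  letI mC' : Module (B' ⧸ J) N' := htors.module
  have hmk : ∀ (b' : B') (x : N'), (Ideal.Quotient.mk J b') • x = b' • x :=
    fun b' x => Module.IsTorsionBySet.mk_smul htors b' x
  -- the algebra structure `C → C'`
  have hker : RingHom.ker (algebraMap B C) ≤ RingHom.ker (algebraMap B (B' ⧸ J)) := by
    intro b hb
    rw [RingHom.mem_ker, IsScalarTower.algebraMap_apply B B' (B' ⧸ J), Ideal.Quotient.algebraMap_eq,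
      Ideal.Quotient.eq_zero_iff_mem]
    exact Ideal.mem_map_of_mem _ hb
  let ρ : C →+* B' ⧸ J := (algebraMap B C).liftOfSurjective hBC ⟨algebraMap B (B' ⧸ J), hker⟩
  have hρ : ∀ b : B, ρ (algebraMap B C b) = algebraMap B (B' ⧸ J) b := fun b =>
    (algebraMap B C).liftOfRightInverse_comp_apply _ _ ⟨algebraMap B (B' ⧸ J), hker⟩ b
  letI aC : Algebra C (B' ⧸ J) := ρ.toAlgebra
  have hρ' : ∀ c : C, algebraMap C (B' ⧸ J) c = ρ c := fun _ => rfl
  haveI tBCC' : IsScalarTower B C (B' ⧸ J) := IsScalarTower.of_algebraMap_eq fun b => by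
    rw [hρ', hρ]
  haveI tACC' : IsScalarTower A C (B' ⧸ J) := IsScalarTower.of_algebraMap_eq fun a => by
    rw [hρ', IsScalarTower.algebraMap_apply A B C, hρ, ← IsScalarTower.algebraMap_apply]
  letI mC : Module C N' := Module.compHom N' ρ
  have hsmC : ∀ (c : C) (x : N'), c • x = ρ c • x := fun _ _ => rfl
  haveI tCC'N' : IsScalarTower C (B' ⧸ J) N' := ⟨fun c c' x => by
    rw [hsmC, Algebra.smul_def, hρ', mul_smul]⟩
  haveI tA'C'N' : IsScalarTower A' (B' ⧸ J) N' := ⟨fun a' c' x => by
    obtain ⟨b', rfl⟩ := Ideal.Quotient.mk_surjective c'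
    have h1 : a' • Ideal.Quotient.mk J b' = Ideal.Quotient.mk J (a' • b') :=
      (map_smul (Ideal.Quotient.mkₐ A' J) a' b').symm
    rw [hmk, h1, hmk, smul_assoc]⟩
  let g : N →ₗ[C] N' :=
    { toFun := f
      map_add' := f.map_add
      map_smul' := fun c n => by
        obtain ⟨b, rfl⟩ := hBC c
        rw [RingHom.id_apply, hsmC, hρ, IsScalarTower.algebraMap_apply B B' (B' ⧸ J),
          Ideal.Quotient.algebraMap_eq, hmk, algebraMap_smul, algebraMap_smul, f.map_smul] }
  -- pushout
  have hpoBC : Algebra.IsPushout B C B' (B' ⧸ J) := by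
    apply Algebra.IsPushout.symm
    rw [Algebra.isPushout_iff]
    apply IsBaseChange.of_lift_unique
    intro Q _ _ _ _ l
    have hJQ : ∀ j ∈ J, j • l 1 = 0 := by
      intro j hj
      refine Submodule.span_induction (p := fun j _ => j • l 1 = 0) ?_ ?_ ?_ ?_ hj
      · rintro _ ⟨i, hi, rfl⟩
        rw [algebraMap_smul, ← l.map_smul, Algebra.smul_def, (RingHom.mem_ker).mp hi, zero_mul,
          map_zero]
      · exact zero_smul _ _
      · intro x y _ _ hx hy
        rw [add_smul, hx, hy, add_zero]
      · intro a x _ hx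
        rw [smul_eq_mul, mul_smul, hx, smul_zero]
    let l0f : B' ⧸ J → Q := fun c' =>
      Quotient.liftOn' c' (fun b' => b' • l 1) (fun a b hab => by
        have h1 : a - b ∈ J := (Submodule.quotientRel_def J).mp hab
        have h2 : a = b + (a - b) := by ring
        change a • l 1 = b • l 1
        rw [h2, add_smul, hJQ _ h1, add_zero])
    have hl0 : ∀ b' : B', l0f (Ideal.Quotient.mk J b') = b' • l 1 := fun b' => rfl
    let l0 : B' ⧸ J →ₗ[B'] Q :=
      { toFun := l0f
        map_add' := fun x y => by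
          obtain ⟨x, rfl⟩ := Ideal.Quotient.mk_surjective x
          obtain ⟨y, rfl⟩ := Ideal.Quotient.mk_surjective y
          rw [← map_add, hl0, hl0, hl0, add_smul]
        map_smul' := fun b x => by
          obtain ⟨x, rfl⟩ := Ideal.Quotient.mk_surjective x
          have h1 : b • Ideal.Quotient.mk J x = Ideal.Quotient.mk J (b * x) := by
            rw [Algebra.smul_def, map_mul]; rfl
          rw [h1, hl0, hl0, mul_smul, RingHom.id_apply] }
    refine ⟨l0, ?_, ?_⟩
    · ext c
      obtain ⟨b, rfl⟩ := hBC c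
      change l0f (algebraMap C (B' ⧸ J) (algebraMap B C b)) = l (algebraMap B C b)
      rw [hρ', hρ, IsScalarTower.algebraMap_apply B B' (B' ⧸ J), Ideal.Quotient.algebraMap_eq, hl0,
        algebraMap_smul, ← l.map_smul, Algebra.smul_def, mul_one]
    · intro l' hl'
      ext c'
      obtain ⟨b', rfl⟩ := Ideal.Quotient.mk_surjective c'
      change l' (Ideal.Quotient.mk J b') = l0f (Ideal.Quotient.mk J b')
      rw [hl0]
      have h1 : Ideal.Quotient.mk J b' = b' • (1 : B' ⧸ J) := by
        rw [Algebra.smul_def, mul_one]; rfl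
      rw [h1, l'.map_smul]
      congr 1
      have := LinearMap.congr_fun hl' 1
      simpa using this
  have := hpo
  have hpoC : Algebra.IsPushout A C A' (B' ⧸ J) :=
    (Algebra.IsPushout.comp_iff A B A' (S' := B') (T := C) (T' := B' ⧸ J)).mpr hpoBC
  -- base change
  have hbcC : IsBaseChange (B' ⧸ J) g := by
    obtain ⟨e, he⟩ := exists_addEquiv_of_isBaseChange hpo f hbc
    exact isBaseChange_of_addEquiv hpoC g e he
  -- `J ≤ P`
  have hass' := hass
  rw [fiber_ass_iff t' B' N' P] at hass'
  obtain ⟨n, hn⟩ := hass'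
  have hJP : J ≤ P := by
    intro j hj
    rw [hn j]
    refine ⟨1, 1, fun h1 => (Ideal.IsPrime.ne_top inferInstance) ((Ideal.eq_top_iff_one t').mpr h1), ?_⟩
    rw [pow_one, hJ j hj n, smul_zero]
    exact Submodule.zero_mem _
  let mk : B' →+* B' ⧸ J := Ideal.Quotient.mk J
  have hmksurj : Function.Surjective mk := Ideal.Quotient.mk_surjective
  have hkermk : RingHom.ker mk = J := Ideal.mk_ker
  have hPprime : (P.map mk).IsPrime :=
    Ideal.map_isPrime_of_surjective hmksurj (by rw [hkermk]; exact hJP)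
  have hcm : (P.map mk).comap mk = P := by
    rw [Ideal.comap_map_of_surjective mk hmksurj, ← RingHom.ker_eq_comap_bot, hkermk]
    exact sup_eq_left.mpr hJP
  have hcomp : mk.comp (algebraMap A' B') = algebraMap A' (B' ⧸ J) := rfl
  have hPover : (P.map mk).LiesOver t' := by
    constructor
    rw [Ideal.under_def, ← hcomp, ← Ideal.comap_comap, hcm]
    exact hPt.over
  refine ⟨B' ⧸ J, inferInstance, aC, inferInstance, inferInstance, tACC', inferInstance, mC', mC,
    tCC'N', tA'C'N', g, P.map mk, hPprime, hpoC, hbcC, htt, htp, hPover, ?_, ?_⟩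
  · have := hPover
    rw [fiber_ass_iff t' (B' ⧸ J) N' (P.map mk)]
    refine ⟨n, fun y => ?_⟩
    obtain ⟨x, rfl⟩ := hmksurj y
    have h1 : mk x ∈ P.map mk ↔ x ∈ P := by
      conv_rhs => rw [← hcm]
      rfl
    rw [h1, hn x]
    refine exists_congr fun k => exists_congr fun s => and_congr Iff.rfl ?_
    rw [← map_pow, hmk]
  · intro Q hQ hle hover
    have hQ' : (Q.comap mk).IsPrime := Ideal.comap_isPrime _ _
    refine hcl (Q.comap mk) ?_ ?_
    · rw [← hcm]
      exact Ideal.comap_mono hle
    · constructor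
      rw [Ideal.under_def, Ideal.comap_comap, hcomp]
      exact hover.over

end Up



/-- For affine finite type schemes over Spec A: purity and universal purity along a fibre of a finite
module are unchanged when the module is pushed forward along a closed immersion Spec C → Spec B (a
surjective algebra map B → C). -/
theorem result {A B C : Type u} [CommRing A] [CommRing B] [CommRing C] [Algebra A B] [Algebra B C] [Algebra A C] [IsScalarTower A B C] [Algebra.FiniteType A B] (hBC : Function.Surjective (algebraMap B C)) (N : Type u) [AddCommGroup N] [Module C N] [Module B N] [IsScalarTower B C N] [Module.Finite C N] (p : Ideal A) [p.IsPrime] : (FlatCA.IsPureAlong A C N p ↔ FlatCA.IsPureAlong A B N p) ∧ (FlatCA.IsUnivPureAlong A C N p ↔ FlatCA.IsUnivPureAlong A B N p) := by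
  letI : Module A N := Module.compHom N (algebraMap A B)
  haveI : IsScalarTower A B N := IsScalarTower.of_algebraMap_smul fun _ _ => rfl
  haveI : IsScalarTower A C N := IsScalarTower.of_algebraMap_smul fun a n => by
    rw [IsScalarTower.algebraMap_apply A B C, algebraMap_smul]; rfl
  refine ⟨⟨fun hC => ?_, fun hB => ?_⟩, ⟨fun hC => ?_, fun hB => ?_⟩⟩
  · intro A' B' N' _ _ _ _ _ _ _ _ _ _ _ _ _ _ f t' t _ _ P _ het himp
    obtain ⟨C', i1, i2, i3, i4, i5, i6, i7, i8, i9, i10, g, P', i11, himp'⟩ :=
      up N p hBC A' B' N' f t' t P himp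
    exact hC A' C' N' g t' t P' het himp'
  · intro A' C' N' _ _ _ _ _ _ _ _ _ _ _ _ _ _ f t' t _ _ P _ het himp
    obtain ⟨B', i1, i2, i3, i4, i5, i6, i7, i8, i9, i10, g, P', i11, himp'⟩ :=
      down N p hBC A' C' N' f t' t P himp
    exact hB A' B' N' g t' t P' het himp'
  · intro A' B' N' _ _ _ _ _ _ _ _ _ _ _ _ _ _ f t' t _ _ P _ himp
    obtain ⟨C', i1, i2, i3, i4, i5, i6, i7, i8, i9, i10, g, P', i11, himp'⟩ :=
      up N p hBC A' B' N' f t' t P himp
    exact hC A' C' N' g t' t P' himp'
  · intro A' C' N' _ _ _ _ _ _ _ _ _ _ _ _ _ _ f t' t _ _ P _ himp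
    obtain ⟨B', i1, i2, i3, i4, i5, i6, i7, i8, i9, i10, g, P', i11, himp'⟩ :=
      down N p hBC A' C' N' f t' t P himp
    exact hB A' B' N' g t' t P' himp'

end Groth.Agent.S8999
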