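import Groth.Statements.S9007
-- import your own Groth.Agent.* helpers here

set_option autoImplicit false
universe u
open FlatMor

namespace Groth.Agent.S9007

open CategoryTheory CategoryTheory.Limits AlgebraicGeometry in
/-- For a morphism f of compactifications of X over a quasi-compact quasi-separated S whose source
contains X as a dense open, the preimage under f of the image of X in the target is the image of X
in the source. -/
theorem result {X S : Scheme.{u}} [CompactSpace S] [QuasiSeparatedSpace S] (p : X ⟶ S) [IsSeparated p] [QuasiCompact p] [LocallyOfFiniteType p] {Y Y' : Scheme.{u}} (j : X ⟶ Y) (q : Y ⟶ S) [IsOpenImmersion j] [IsProper q] (h : j ≫ q = p) (j' : X ⟶ Y') (q' : Y' ⟶ S) [IsOpenImmersion j'] [IsProper q'] (h' : j' ≫ q' = p) (f : Y' ⟶ Y) (hf : f ≫ q = q') (hfj : j' ≫ f = j) (hd : Dense (Set.range j'.base)) : f ⁻¹ᵁ j.opensRange = j'.opensRange := by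
  haveI : IsSeparated f := by
    haveI : IsSeparated (f ≫ q) := by rw [hf]; infer_instance
    exact IsSeparated.of_comp f q
  let s : X ⟶ pullback f j := pullback.lift j' (𝟙 X) (by simp [hfj])
  have hs1 : s ≫ pullback.fst f j = j' := pullback.lift_fst _ _ _
  have hs2 : s ≫ pullback.snd f j = 𝟙 X := pullback.lift_snd _ _ _
  haveI : IsClosedImmersion s := by
    haveI : IsClosedImmersion (s ≫ pullback.snd f j) := by rw [hs2]; infer_instance
    exact IsClosedImmersion.of_comp s (pullback.snd f j)
  have hclosed : IsClosed (Set.range s.base) := s.isClosedEmbedding.isClosed_range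
  have himg : (pullback.fst f j).base '' Set.range s.base = Set.range j'.base := by
    rw [← Set.range_comp, ← hs1]
    rfl
  have hdense : Dense (Set.range s.base) := by
    have hemb : Topology.IsOpenEmbedding (pullback.fst f j).base :=
      (pullback.fst f j).isOpenEmbedding
    rw [dense_iff_closure_eq, hemb.isInducing.closure_eq_preimage_closure_image, himg,
      hd.closure_eq, Set.preimage_univ]
  have hsurj : Set.range s.base = Set.univ := by
    rw [← hclosed.closure_eq, hdense.closure_eq]
  ext y'
  constructor
  · intro hy
    have hy' : y' ∈ Set.range (pullback.fst f j).base := by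
      rw [Scheme.Pullback.range_fst]
      exact hy
    obtain ⟨z, rfl⟩ := hy'
    obtain ⟨x, rfl⟩ : z ∈ Set.range s.base := hsurj ▸ Set.mem_univ z
    refine ⟨x, ?_⟩
    rw [← hs1]
    rfl
  · rintro ⟨x, rfl⟩
    refine ⟨x, ?_⟩
    rw [← hfj]
    rfl

end Groth.Agent.S9007
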