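import Groth.Statements.S9008
import Mathlib

set_option autoImplicit false
universe u
open FlatMor

namespace Groth.Agent.S9008

open FlatCA

theorem etaleNhd_self (A : Type u) [CommRing A] (t : Ideal A) [t.IsPrime] :
    IsEtaleNhd A A t t := by
  refine ⟨inferInstance, ⟨⟨rfl⟩, ?_⟩⟩
  have hs : ((Algebra.ofId A A : A →ₐ[A] A) : A →+* A).SurjectiveOnStalks :=
    RingHom.surjectiveOnStalks_of_surjective (fun a => ⟨a, rfl⟩)
  exact hs.residueFieldMap_bijective t t _

theorem backward {A B : Type u} [CommRing A] [CommRing B] [Algebra A B] (N : Type u) [AddCommGroup N] [Module B N] (p : Ideal A) [p.IsPrime]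
    (H : ∀ (A' B' N' : Type u) [CommRing A'] [CommRing B'] [Algebra A A'] [Algebra B B'] [Algebra A' B'] [Algebra A B'] [IsScalarTower A B B'] [IsScalarTower A A' B'] [Algebra.IsPushout A B A' B'] [AddCommGroup N'] [Module B' N'] [Module B N'] [IsScalarTower B B' N'] (g : N →ₗ[B] N'), IsBaseChange B' g → ∀ (p' : Ideal A') [p'.IsPrime], p'.LiesOver p → FlatCA.IsPureAlong A' B' N' p') :
    FlatCA.IsUnivPureAlong A B N p := by
  intro A' B' N' _ _ _ _ _ _ _ _ _ _ _ _ _ _ f t' t _ _ P _ himp
  obtain ⟨h1, h2, h3, h4, h5, h6, h7⟩ := himp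
  have hpure := H A' B' N' f h2 t h4
  refine hpure A' B' N' LinearMap.id t' t P (etaleNhd_self A' t) ⟨inferInstance, ?_, h3, ⟨rfl⟩, h5, h6, h7⟩
  exact IsBaseChange.of_equiv (TensorProduct.lid B' N') (fun x => by simp)

theorem forward {A B : Type u} [CommRing A] [CommRing B] [Algebra A B] (N : Type u) [AddCommGroup N] [Module B N] (p : Ideal A) [p.IsPrime]
    (hU : FlatCA.IsUnivPureAlong A B N p)
    (A' B' N' : Type u) [CommRing A'] [CommRing B'] [Algebra A A'] [Algebra B B'] [Algebra A' B'] [Algebra A B'] [IsScalarTower A B B'] [IsScalarTower A A' B'] [Algebra.IsPushout A B A' B'] [AddCommGroup N'] [Module B' N'] [Module B N'] [IsScalarTower B B' N'] (g : N →ₗ[B] N') (hg : IsBaseChange B' g) (p' : Ideal A') [p'.IsPrime] (hp' : p'.LiesOver p) : FlatCA.IsPureAlong A' B' N' p' := by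
  intro A'' B'' N'' iCA iCB iAlgA iAlgB iAlgAB iAlgA'B iST1 iST2 iAG iMB'' iMB' iST3 iMA'' iST4 f t' t it' it P iP hEt himp
  obtain ⟨h1, h2, h3, h4, h5, h6, h7⟩ := himp
  let algAA'' : Algebra A A'' := ((algebraMap A' A'').comp (algebraMap A A')).toAlgebra
  let algBB'' : Algebra B B'' := ((algebraMap B' B'').comp (algebraMap B B')).toAlgebra
  let algAB'' : Algebra A B'' := ((algebraMap A' B'').comp (algebraMap A A')).toAlgebra
  have stAA'A'' : IsScalarTower A A' A'' := IsScalarTower.of_algebraMap_eq (fun _ => rfl)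
  have stBB'B'' : IsScalarTower B B' B'' := IsScalarTower.of_algebraMap_eq (fun _ => rfl)
  have stAA'B'' : IsScalarTower A A' B'' := IsScalarTower.of_algebraMap_eq (fun _ => rfl)
  have stABB'' : IsScalarTower A B B'' := IsScalarTower.of_algebraMap_eq (fun a => by
    change algebraMap A' B'' (algebraMap A A' a) = algebraMap B' B'' (algebraMap B B' (algebraMap A B a))
    rw [IsScalarTower.algebraMap_apply A' B' B'', ← IsScalarTower.algebraMap_apply A A' B',
      IsScalarTower.algebraMap_apply A B B'])
  have stAA''B'' : IsScalarTower A A'' B'' := IsScalarTower.of_algebraMap_eq (fun a => by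
    change algebraMap A' B'' (algebraMap A A' a) = algebraMap A'' B'' (algebraMap A' A'' (algebraMap A A' a))
    rw [← IsScalarTower.algebraMap_apply A' A'' B''])
  have stAB'B'' : IsScalarTower A B' B'' := IsScalarTower.of_algebraMap_eq (fun a => by
    change algebraMap A' B'' (algebraMap A A' a) = algebraMap B' B'' (algebraMap A B' a)
    rw [IsScalarTower.algebraMap_apply A' B' B'', ← IsScalarTower.algebraMap_apply A A' B'])
  let modBN'' : Module B N'' := Module.compHom N'' (algebraMap B B')
  have stBB'N'' : IsScalarTower B B' N'' := ⟨fun b b' n => by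
    rw [Algebra.smul_def, mul_smul]
    rfl⟩
  have stBB''N'' : IsScalarTower B B'' N'' := ⟨fun b b'' n => by
    rw [Algebra.smul_def, mul_smul]
    change algebraMap B' B'' (algebraMap B B' b) • (b'' • n) = algebraMap B B' b • (b'' • n)
    rw [algebraMap_smul]⟩
  have hpush : Algebra.IsPushout A B A'' B'' := by
    have hl : Algebra.IsPushout A A' B B' := Algebra.IsPushout.symm inferInstance
    have hr : Algebra.IsPushout A' A'' B' B'' := Algebra.IsPushout.symm h1
    exact Algebra.IsPushout.symm ((Algebra.IsPushout.comp_iff A A' B B').mpr hr)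
  have hbc : IsBaseChange B'' ((f.restrictScalars B).comp g) := IsBaseChange.comp hg h2
  have hlo : t.LiesOver p := Ideal.LiesOver.trans t p' p
  exact hU A'' B'' N'' ((f.restrictScalars B).comp g) t' t P ⟨hpush, hbc, h3, hlo, h5, h6, h7⟩


/-- For Spec B → Spec A affine of finite type: a finite B-module is universally pure along the fibre
over a prime p of A exactly when every base change of it along a ring map A → A' is pure along the
fibre over every prime of A' above p. -/
theorem result {A B : Type u} [CommRing A] [CommRing B] [Algebra A B] [Algebra.FiniteType A B] (N : Type u) [AddCommGroup N] [Module B N] [Module.Finite B N] (p : Ideal A) [p.IsPrime] : FlatCA.IsUnivPureAlong A B N p ↔ ∀ (A' B' N' : Type u) [CommRing A'] [CommRing B'] [Algebra A A'] [Algebra B B'] [Algebra A' B'] [Algebra A B'] [IsScalarTower A B B'] [IsScalarTower A A' B'] [Algebra.IsPushout A B A' B'] [AddCommGroup N'] [Module B' N'] [Module B N'] [IsScalarTower B B' N'] (g : N →ₗ[B] N'), IsBaseChange B' g → ∀ (p' : Ideal A') [p'.IsPrime], p'.LiesOver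 p → FlatCA.IsPureAlong A' B' N' p' := by
  constructor
  · intro hU A' B' N' _ _ _ _ _ _ _ _ _ _ _ _ _ g hg p' _ hp'
    exact forward N p hU A' B' N' g hg p' hp'
  · exact backward N p

end Groth.Agent.S9008
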