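import Groth.Statements.S9011
import Groth.Agent.S1212
-- import your own Groth.Agent.* helpers here

set_option autoImplicit false
universe u
open FlatMor

namespace Groth.Agent.S9011

open TensorProduct in
theorem lTensor_injective_of_rTensor {R : Type*} [CommRing R] {M M' Q : Type*} [AddCommGroup M]
    [Module R M] [AddCommGroup M'] [Module R M'] [AddCommGroup Q] [Module R Q] (f : M →ₗ[R] M')
    (h : Function.Injective (f.rTensor Q)) : Function.Injective (f.lTensor Q) := by
  have hcomp : f.lTensor Q = (TensorProduct.comm R M' Q).toLinearMap ∘ₗ (f.rTensor Q) ∘ₗ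
      (TensorProduct.comm R Q M).toLinearMap := by
    apply TensorProduct.ext'
    intro q m
    simp
  rw [hcomp, LinearMap.coe_comp, LinearMap.coe_comp]
  exact (TensorProduct.comm R M' Q).injective.comp (h.comp (TensorProduct.comm R Q M).injective)


open IsLocalRing in
/-- For a local ring R with maximal ideal m, an R-algebra S with S/mS Noetherian and an S-module N with
N/mN finite over S/mS which is projective as an R-module, every element of S that is a
nonzerodivisor on N/mN acts R-universally injectively on N, and the map from N to its localization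
at all such elements is R-universally injective. -/
theorem result {R S : Type u} [CommRing R] [IsLocalRing R] [CommRing S] [Algebra R S] (N : Type u) [AddCommGroup N] [Module S N] [Module R N] [IsScalarTower R S N] [IsNoetherianRing ((maximalIdeal R).Fiber S)] [Module.Finite ((maximalIdeal R).Fiber S) (FlatCA.fiberMod (maximalIdeal R) S N)] [Module.Projective R N] : (∀ s ∈ FlatCA.nzdFiber R S N, FlatCA.UnivInj R ((LinearMap.lsmul S N s).restrictScalars R)) ∧ FlatCA.UnivInj R ((LocalizedModule.mkLinearMap (FlatCA.nzdFiber R S N) N).restrictScalars R) := by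
  classical
  haveI : Module.Free R N := Groth.Agent.Lib.Helper14.LocalFree.free_of_projective
  haveI : Module.Flat R N := inferInstance
  -- first part, in `rTensor` form
  have h1 : ∀ s ∈ FlatCA.nzdFiber R S N, ∀ (Q : Type u) [AddCommGroup Q] [Module R Q],
      Function.Injective (((LinearMap.lsmul S N s).restrictScalars R).rTensor Q) := by
    intro s hs Q _ _
    apply Groth.Agent.S1212.rTensor_injective_of_free
    intro n hn
    change s • n ∈ _ at hn
    rw [Groth.Agent.Helper13Fiber.smul_top_eq_restrictScalars (maximalIdeal R) S N,
      Submodule.restrictScalars_mem] at hn ⊢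
    rw [← Groth.Agent.Helper13Fiber.toFiberMod_eq_zero_iff_of_flat] at hn ⊢
    rw [map_smul] at hn
    exact (mem_nonZeroSMulDivisors_iff.mp hs) _ hn
  refine ⟨fun s hs Q _ _ => lTensor_injective_of_rTensor _ (h1 s hs Q), ?_⟩
  intro Q _ _
  apply lTensor_injective_of_rTensor
  rw [injective_iff_map_eq_zero]
  intro x hx
  -- the localized module structure on the tensor product
  have hloc : IsLocalizedModule (FlatCA.nzdFiber R S N)
      (TensorProduct.AlgebraTensorModule.rTensor R Q
        (LocalizedModule.mkLinearMap (FlatCA.nzdFiber R S N) N)) := inferInstance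
  have hx' : (TensorProduct.AlgebraTensorModule.rTensor R Q
      (LocalizedModule.mkLinearMap (FlatCA.nzdFiber R S N) N)) x = 0 := hx
  obtain ⟨c, hc⟩ := (IsLocalizedModule.eq_zero_iff (FlatCA.nzdFiber R S N) _).1 hx'
  apply h1 c.1 c.2 Q
  rw [map_zero, ← hc]
  induction x using TensorProduct.induction_on with
  | zero => simp
  | tmul n q => rfl
  | add a b ha hb =>
    rw [map_add, smul_add]
    congr 1

end Groth.Agent.S9011
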