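import Groth.Statements.S9012
-- import your own Groth.Agent.* helpers here
import Mathlib
import Groth.Agent.Lib.Helper26FpqcGen
import Groth.Agent.Lib.Helper26FpqcBC
import Groth.Agent.Lib.Helper26FpqcFlat
import Groth.Agent.Lib.Helper26FlatLimC

set_option autoImplicit false
universe u
open FlatMor

namespace Groth.Agent.S9012

open Groth.Agent.Lib.Helper26.FpqcGen Groth.Agent.Lib.Helper26.FpqcBC Groth.Agent.Lib.Helper26.FpqcFlat
  Groth.Agent.Lib.Helper26.FlatLim Groth.Agent.Lib.Helper20.PullbackAff

open CategoryTheory CategoryTheory.Limits AlgebraicGeometry Opposite in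
/-- For f : X → S and a quasi-coherent O_X-module F, the functor F_flat on schemes over S (one point on
T when the base change F_T on X_T = X ×_S T is flat over T, empty otherwise; written as the
subfunctor of the final functor generated by that condition, which agrees with it because flatness
is preserved by base change) satisfies the sheaf condition for the fpqc topology. -/
theorem result {X S : Scheme.{u}} (f : X ⟶ S) (F : X.Modules) [Coh.IsQCoh F] :
    Presheaf.IsSheaf (QuotSh.J Scheme.fpqcPrecoverage S)
      (FlatFun.genPSp S (fun T => FlatMod.IsFlatOver (PicF.XTproj f T) (FGA.ET f F T))) := by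
  refine isSheaf_genPSp_fpqc S _ ?_ ?_
  · intro T T₀ g h
    have : ((Scheme.Modules.pullback (pullback.fst f T₀.hom)).obj F).IsQuasicoherent :=
      isQuasicoherent_pullback _ F
    have h1 : FlatMod.IsFlatOver (pullback.snd f T.hom)
        ((Scheme.Modules.pullback (bcMap f g)).obj
          ((Scheme.Modules.pullback (pullback.fst f T₀.hom)).obj F)) :=
      fun x => Groth.Agent.Lib.Helper2.PullbackSec.isFlatOverAt_pullback_of_isPullback
        (isPullback_bcMap f g) _ x (h _)
    exact isFlatOver_of_iso _ ((Scheme.Modules.pullbackComp (bcMap f g) (pullback.fst f T₀.hom)).app F ≪≫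
      (Scheme.Modules.pullbackCongr (bcMap_fst f g)).app F) h1
  · intro T ι Ti g hfl hs H z
    obtain ⟨i, zi, rfl⟩ := exists_bcMap_eq f Ti g hs z
    have := hfl i
    have := flat_bcMap f (g i)
    have h1 : FlatMod.IsFlatOver (pullback.snd f (Ti i).hom)
        ((Scheme.Modules.pullback (bcMap f (g i))).obj
          ((Scheme.Modules.pullback (pullback.fst f T.hom)).obj F)) :=
      isFlatOver_of_iso _ ((Scheme.Modules.pullbackComp (bcMap f (g i)) (pullback.fst f T.hom)).app F ≪≫
        (Scheme.Modules.pullbackCongr (bcMap_fst f (g i))).app F).symm (H i)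
    exact isFlatOverAt_of_pullback (bcMap_snd f (g i)) _ zi (h1 zi)

end Groth.Agent.S9012
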