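import Groth.Statements.S9013
-- import your own Groth.Agent.* helpers here
import Mathlib
import Groth.Agent.Lib.Helper26LimPresA
import Groth.Agent.Lib.Helper26FlatLimC
import Groth.Agent.Lib.Helper20FormalPull
import Groth.Agent.Lib.Helper18Strict6

set_option autoImplicit false
universe u
open FlatMor

namespace Groth.Agent.S9013

open Groth.Agent.Lib.Helper26.LimPres Groth.Agent.Lib.Helper26.FlatLim
  Groth.Agent.Lib.Helper20.PullbackAff

open CategoryTheory CategoryTheory.Limits AlgebraicGeometry Opposite in
/-- For f : X → S quasi-compact and locally of finite presentation and F a quasi-coherent O_X-module of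
finite presentation, the functor F_flat on schemes over S (one point on T when F_T is flat over T,
empty otherwise; the subfunctor of the final functor generated by that condition) is limit
preserving: its value on a directed limit of affine schemes over S is the colimit of its values. -/
theorem result {X S : Scheme.{u}} (f : X ⟶ S) [QuasiCompact f] [LocallyOfFinitePresentation f]
    (F : X.Modules) [Coh.IsQCoh F] (hF : CohB1.IsFP F) :
    AlgSp.IsLimitPreserving
      (FlatFun.genPSp S (fun T => FlatMod.IsFlatOver (PicF.XTproj f T) (FGA.ET f F T))) := by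
  refine isLimitPreserving_genPSp S _ ?_ ?_
  · intro T T₀ g h
    let m : pullback f T.hom ⟶ pullback f T₀.hom :=
      pullback.lift (pullback.fst f T.hom) (pullback.snd f T.hom ≫ g.left)
        (by rw [pullback.condition, Category.assoc, Over.w g])
    have hm : m ≫ pullback.fst f T₀.hom = pullback.fst f T.hom := pullback.lift_fst _ _ _
    have hm2 : m ≫ pullback.snd f T₀.hom = pullback.snd f T.hom ≫ g.left := pullback.lift_snd _ _ _
    have hw : g.left ≫ T₀.hom = T.hom := Over.w g
    have hbig : IsPullback (m ≫ pullback.fst f T₀.hom) (pullback.snd f T.hom) f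
        (g.left ≫ T₀.hom) := by
      rw [hm, hw]
      exact IsPullback.of_hasPullback f T.hom
    have hpb : IsPullback m (pullback.snd f T.hom) (pullback.snd f T₀.hom) g.left :=
      IsPullback.of_right hbig hm2 (IsPullback.of_hasPullback f T₀.hom)
    haveI : ((Scheme.Modules.pullback (pullback.fst f T₀.hom)).obj F).IsQuasicoherent :=
      isQuasicoherent_pullback _ F
    have h1 : FlatMod.IsFlatOver (pullback.snd f T.hom)
        ((Scheme.Modules.pullback m).obj ((Scheme.Modules.pullback (pullback.fst f T₀.hom)).obj F)) :=
      fun x => Groth.Agent.Lib.Helper2.PullbackSec.isFlatOverAt_pullback_of_isPullback hpb _ x (h _)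
    exact isFlatOver_of_iso _ ((Scheme.Modules.pullbackComp m (pullback.fst f T₀.hom)).app F ≪≫
      (Scheme.Modules.pullbackCongr hm).app F) h1
  · intro I _ _ D c hc hD hT h
    obtain ⟨i₀⟩ := IsCofiltered.nonempty (C := I)
    haveI : ∀ (i j : I) (φ : i ⟶ j), IsAffineHom ((D ⋙ Over.forget S).map φ) := fun i j φ => by
      haveI : IsAffine (D.obj i).left := hD i
      haveI : IsAffine (D.obj j).left := hD j
      show IsAffineHom (D.map φ).left
      infer_instance
    let f₀ : pullback f (D.obj i₀).hom ⟶ (D ⋙ Over.forget S).obj i₀ := pullback.snd f (D.obj i₀).hom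
    haveI : CompactSpace ((D ⋙ Over.forget S).obj i₀) := by
      haveI := hD i₀
      show CompactSpace (D.obj i₀).left
      infer_instance
    haveI : QuasiCompact f₀ := by
      show QuasiCompact (pullback.snd f (D.obj i₀).hom)
      infer_instance
    haveI : LocallyOfFinitePresentation f₀ := by
      show LocallyOfFinitePresentation (pullback.snd f (D.obj i₀).hom)
      infer_instance
    haveI : CompactSpace ↥(pullback f (D.obj i₀).hom) :=
      QuasiCompact.compactSpace_of_compactSpace f₀
    let F₀ : (pullback f (D.obj i₀).hom).Modules :=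
      (Scheme.Modules.pullback (pullback.fst f (D.obj i₀).hom)).obj F
    haveI : F₀.IsQuasicoherent := isQuasicoherent_pullback _ F
    haveI : SheafOfModules.IsFinitePresentation (R := (pullback f (D.obj i₀).hom).ringCatSheaf) F₀ :=
      Groth.Agent.Helper18Strict.isFP_pullback _ F hF
    have hw₀ : (c.π.app i₀).left ≫ (D.obj i₀).hom = c.pt.hom := Over.w (c.π.app i₀)
    let qX : pullback f c.pt.hom ⟶ pullback f (D.obj i₀).hom :=
      pullback.lift (pullback.fst f c.pt.hom) (pullback.snd f c.pt.hom ≫ (c.π.app i₀).left)
        (by rw [pullback.condition, Category.assoc, hw₀])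
    have hqX1 : qX ≫ pullback.fst f (D.obj i₀).hom = pullback.fst f c.pt.hom :=
      pullback.lift_fst _ _ _
    have hqX2 : qX ≫ f₀ = pullback.snd f c.pt.hom ≫ (c.π.app i₀).left := pullback.lift_snd _ _ _
    have hbig : IsPullback (qX ≫ pullback.fst f (D.obj i₀).hom) (pullback.snd f c.pt.hom) f
        ((c.π.app i₀).left ≫ (D.obj i₀).hom) := by
      rw [hqX1, hw₀]
      exact IsPullback.of_hasPullback f c.pt.hom
    have hP : IsPullback qX (pullback.snd f c.pt.hom) f₀
        (((Over.forget S).mapCone c).π.app i₀) :=
      IsPullback.of_right hbig hqX2 (IsPullback.of_hasPullback f (D.obj i₀).hom)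
    have h' : FlatMod.IsFlatOver (pullback.snd f c.pt.hom) ((Scheme.Modules.pullback qX).obj F₀) :=
      isFlatOver_of_iso _ ((Scheme.Modules.pullbackComp qX (pullback.fst f (D.obj i₀).hom)).app F ≪≫
        (Scheme.Modules.pullbackCongr hqX1).app F).symm h
    obtain ⟨k, hk⟩ := exists_stage_isFlatOver (D ⋙ Over.forget S) ((Over.forget S).mapCone c) hc i₀
      f₀ F₀ hP h'
    refine ⟨k.left, ?_⟩
    have hwk : (D.map k.hom).left ≫ (D.obj i₀).hom = (D.obj k.left).hom := Over.w (D.map k.hom)
    let p : pullback f (D.obj k.left).hom ⟶ pullback f (D.obj i₀).hom :=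
      pullback.lift (pullback.fst f (D.obj k.left).hom)
        (pullback.snd f (D.obj k.left).hom ≫ (D.map k.hom).left)
        (by rw [pullback.condition, Category.assoc, hwk])
    have hp1 : p ≫ pullback.fst f (D.obj i₀).hom = pullback.fst f (D.obj k.left).hom :=
      pullback.lift_fst _ _ _
    have hp2 : p ≫ f₀ = pullback.snd f (D.obj k.left).hom ≫ (D.map k.hom).left :=
      pullback.lift_snd _ _ _
    have hbigk : IsPullback (p ≫ pullback.fst f (D.obj i₀).hom) (pullback.snd f (D.obj k.left).hom) f
        ((D.map k.hom).left ≫ (D.obj i₀).hom) := by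
      rw [hp1, hwk]
      exact IsPullback.of_hasPullback f (D.obj k.left).hom
    have hpb : IsPullback p (pullback.snd f (D.obj k.left).hom) f₀
        ((D ⋙ Over.forget S).map k.hom) :=
      IsPullback.of_right hbigk hp2 (IsPullback.of_hasPullback f (D.obj i₀).hom)
    exact isFlatOver_of_iso _ ((Scheme.Modules.pullbackComp p (pullback.fst f (D.obj i₀).hom)).app F ≪≫
      (Scheme.Modules.pullbackCongr hp1).app F) (hk k (𝟙 k) p _ hpb)

end Groth.Agent.S9013
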