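import Groth.Statements.S9015
-- import your own Groth.Agent.* helpers here
import Mathlib
import Groth.Agent.Lib.Helper26FpqcGen
import Groth.Agent.Lib.Helper26FpqcBC
import Groth.Agent.Lib.Helper26ModLim2

set_option autoImplicit false
universe u
open FlatMor

namespace Groth.Agent.S9015

open Groth.Agent.Lib.Helper26.FpqcGen Groth.Agent.Lib.Helper26.FpqcBC Groth.Agent.Lib.Helper26.FpqcMod
  Groth.Agent.Lib.Helper26.ModLim2

open CategoryTheory CategoryTheory.Limits AlgebraicGeometry Opposite in
/-- For f : X → S and a homomorphism u : F → G of quasi-coherent O_X-modules, the functor on schemes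
over S with one point on T when the base change u_T on X_T = X ×_S T is surjective (an epimorphism
in the abelian category of O-modules) and empty otherwise, written as the subfunctor of the final
functor generated by that condition, satisfies the sheaf condition for the fpqc topology. -/
theorem result {X S : Scheme.{u}} (f : X ⟶ S) {F G : X.Modules} [Coh.IsQCoh F] [Coh.IsQCoh G] (u : F ⟶ G) :
    Presheaf.IsSheaf (QuotSh.J Scheme.fpqcPrecoverage S)
      (FlatFun.genPSp S (fun T => Epi ((Scheme.Modules.pullback (pullback.fst f T.hom)).map u))) := by
  refine isSheaf_genPSp_fpqc S _ ?_ ?_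
  · intro T T₀ g h
    refine (epi_pullback_comp_iff (bcMap f g) _ _ (bcMap_fst f g) u).2 ?_
    have := h
    infer_instance
  · intro T ι Ti g hfl hs H
    have := fun i => flat_bcMap f (g i)
    refine epi_of_family (fun i => bcMap f (g i)) (exists_bcMap_eq f Ti g hs) _ (fun i => ?_)
    exact (epi_pullback_comp_iff (bcMap f (g i)) _ _ (bcMap_fst f (g i)) u).1 (H i)

end Groth.Agent.S9015
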