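import Groth.Statements.S9017
-- import your own Groth.Agent.* helpers here
import Mathlib
import Groth.Agent.Lib.Helper26FpqcBC
import Groth.Agent.Lib.Helper26ModLim2

set_option autoImplicit false
universe u
open FlatMor

namespace Groth.Agent.S9017

open Groth.Agent.Lib.Helper26.FpqcBC Groth.Agent.Lib.Helper26.FpqcMod
  Groth.Agent.Lib.Helper26.ModLim2

open CategoryTheory CategoryTheory.Limits AlgebraicGeometry Opposite in
/-- For f : X → S, a homomorphism u : F → G of quasi-coherent O_X-modules, a scheme T over S and an fpqc
covering family of S-morphisms T_i → T, the base change u_T on X_T = X ×_S T is injective (a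
monomorphism in the abelian category of O-modules) if and only if u_{T_i} is injective for every i.
(Injectivity of u_T is not preserved by arbitrary base change, so this variant is a sheaf condition
on coverings rather than a subfunctor of the final functor.) -/
theorem result {X S : Scheme.{u}} (f : X ⟶ S) {F G : X.Modules} [Coh.IsQCoh F] [Coh.IsQCoh G] (u : F ⟶ G)
    (T : Over S) {ι : Type u} (Ti : ι → Over S) (g : ∀ i, Ti i ⟶ T)
    (hcov : Presieve.ofArrows (fun i => (Ti i).left) (fun i => (g i).left) ∈ Scheme.fpqcPrecoverage T.left) :
    Mono ((Scheme.Modules.pullback (pullback.fst f T.hom)).map u) ↔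
      ∀ i, Mono ((Scheme.Modules.pullback (pullback.fst f (Ti i).hom)).map u) := by
  have hR' := Scheme.propQCPrecoverage_le_precoverage _ hcov
  obtain ⟨hs, hfl⟩ := (Scheme.ofArrows_mem_precoverage_iff (P := @Flat)
    (X := fun i => (Ti i).left) (f := fun i => (g i).left)).1 hR'
  have hfl' : ∀ i, Flat (g i).left := hfl
  have := fun i => flat_bcMap f (g i)
  constructor
  · intro h i
    refine (mono_pullback_comp_iff (bcMap f (g i)) _ _ (bcMap_fst f (g i)) u).2 ?_
    exact mono_pullback_of_flat (bcMap f (g i)) _
  · intro H
    refine mono_of_family (fun i => bcMap f (g i)) (exists_bcMap_eq f Ti g hs) _ (fun i => ?_)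
    exact (mono_pullback_comp_iff (bcMap f (g i)) _ _ (bcMap_fst f (g i)) u).1 (H i)

end Groth.Agent.S9017
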