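import Groth.Statements.S9018
-- import your own Groth.Agent.* helpers here
import Mathlib
import Groth.Agent.Lib.Helper26LimPresB
import Groth.Agent.Lib.Helper26ModLim2
import Groth.Agent.Lib.Helper20FormalPull

set_option autoImplicit false
universe u
open FlatMor

namespace Groth.Agent.S9018

open Groth.Agent.Lib.Helper26.LimPres Groth.Agent.Lib.Helper26.ModLim2 Groth.Agent.Lib.Helper26.ModLim
  Groth.Agent.Lib.Helper20.PullbackAff

open CategoryTheory CategoryTheory.Limits AlgebraicGeometry Opposite in
/-- For f : X → S quasi-compact and a homomorphism u : F → G of quasi-coherent O_X-modules with G of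
finite type, the functor F_surj (one point on T when the base change u_T on X ×_S T is an
epimorphism of O-modules, empty otherwise; the subfunctor of the final functor generated by that
condition) is limit preserving. -/
theorem result {X S : Scheme.{u}} (f : X ⟶ S) [QuasiCompact f] {F G : X.Modules} [Coh.IsQCoh F] [Coh.IsQCoh G]
    (hG : CohB1.IsFT G) (u : F ⟶ G) :
    AlgSp.IsLimitPreserving (FlatFun.genPSp S (fun T => Epi ((Scheme.Modules.pullback (pullback.fst f T.hom)).map u))) := by
  refine isLimitPreserving_of_abs.{u} (fun {Z : Scheme.{u}} {A B : Z.Modules} (a : A ⟶ B) => Epi a)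
    (fun {X Y Z} f g p e {A B} a => epi_pullback_comp_iff f g p e a)
    (fun {Z' Z} g {A B} a h => by
      have := h
      have : (Scheme.Modules.pullback g).IsLeftAdjoint :=
        (Scheme.Modules.pullbackPushforwardAdjunction g).isLeftAdjoint
      infer_instance)
    (fun {Z : Scheme.{u}} (A B : Z.Modules) => A.IsQuasicoherent ∧ B.IsQuasicoherent ∧
      SheafOfModules.IsFiniteType (R := Z.ringCatSheaf) B)
    (fun {Z' Z} g A B h => by
      obtain ⟨h1, h2, h3⟩ := h
      exact ⟨isQuasicoherent_pullback g A, isQuasicoherent_pullback g B,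
        Groth.Agent.Lib.Helper20.FormalPull.isFiniteType_pullback g B⟩)
    (fun {J} _ _ E cE hcE _ e₀ _ {A B} δ h hδ => by
      obtain ⟨h1, h2, h3⟩ := h
      exact exists_epi_pullback_map E cE hcE e₀ h3 δ hδ)
    f u (by exact ⟨‹Coh.IsQCoh F›, ‹Coh.IsQCoh G›, hG⟩)

end Groth.Agent.S9018
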