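import Groth.Statements.S9027
-- import your own Groth.Agent.* helpers here
import Mathlib
import Groth.Agent.Lib.Helper2PullbackSec2
import Groth.Agent.Lib.Helper9ResTrdeg
import Groth.Agent.Lib.Helper4VarDim13
import Groth.Agent.Lib.Helper26FlatLimC

set_option autoImplicit false
universe u
open FlatMor

namespace Groth.Agent.S9027

set_option linter.style.haveILetI false

open CategoryTheory CategoryTheory.Limits AlgebraicGeometry Opposite in
/-- For f : X → S locally of finite type, F a quasi-coherent O_X-module of finite type, an etale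
morphism h : X' → X and n ≥ 0, the functor F_n of F over S is a subfunctor of the functor F_n of the
pullback h^*F on X' over S: for every scheme T over S, if the base change F_T on X ×_S T is flat
over T in dimensions ≥ n (transcendence-degree form) then so is the base change of h^*F on X' ×_S T. -/
theorem result {X X' S : Scheme.{u}} (f : X ⟶ S) [LocallyOfFiniteType f] (F : X.Modules) [Coh.IsQCoh F] (hF : CohB1.IsFT F)
    (h : X' ⟶ X) [Etale h] (n : ℕ) (T : Over S)
    (hT : FlatFun.DimFibresLT n (PicF.XTproj f T)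
        {x | ¬ FlatMod.IsFlatOverAt (PicF.XTproj f T) (FGA.ET f F T) x}) :
    FlatFun.DimFibresLT n (PicF.XTproj (h ≫ f) T)
        {x | ¬ FlatMod.IsFlatOverAt (PicF.XTproj (h ≫ f) T) (FGA.ET (h ≫ f) ((Scheme.Modules.pullback h).obj F) T) x} := by
  let k : PicF.XT (h ≫ f) T ⟶ PicF.XT f T :=
    pullback.map (h ≫ f) T.hom f T.hom h (𝟙 _) (𝟙 _) (by simp) (by simp)
  have hk_fst : k ≫ pullback.fst f T.hom = pullback.fst (h ≫ f) T.hom ≫ h := by
    simp only [k, pullback.map, pullback.lift_fst]
  have hk_snd : k ≫ pullback.snd f T.hom = pullback.snd (h ≫ f) T.hom := by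
    simp only [k, pullback.map, pullback.lift_snd, Category.comp_id]
  have hpb : IsPullback (pullback.fst (h ≫ f) T.hom) k h (pullback.fst f T.hom) := by
    refine IsPullback.of_bot ?_ hk_fst.symm (IsPullback.of_hasPullback f T.hom)
    rw [hk_snd]
    exact IsPullback.of_hasPullback (h ≫ f) T.hom
  haveI : Etale k := MorphismProperty.of_isPullback hpb (inferInstance : Etale h)
  haveI : LocallyQuasiFinite k :=
    Groth.Agent.Lib.Helper4.VarDim.locallyQuasiFinite_of_formallyUnramified k
  haveI : F.IsQuasicoherent := ‹Coh.IsQCoh F›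
  haveI : (FGA.ET f F T).IsQuasicoherent :=
    Groth.Agent.Lib.Helper2.PullbackSec.isQuasicoherent_pullback (pullback.fst f T.hom) F
  let e : FGA.ET (h ≫ f) ((Scheme.Modules.pullback h).obj F) T ≅
      (Scheme.Modules.pullback k).obj (FGA.ET f F T) :=
    (Scheme.Modules.pullbackComp (pullback.fst (h ≫ f) T.hom) h).app F ≪≫
    (Scheme.Modules.pullbackCongr hk_fst.symm).app F ≪≫
    ((Scheme.Modules.pullbackComp k (pullback.fst f T.hom)).app F).symm
  have key : ∀ (q' : PicF.XT (h ≫ f) T ⟶ T.left), q' = k ≫ PicF.XTproj f T → ∀ x',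
      ¬ FlatMod.IsFlatOverAt q' (FGA.ET (h ≫ f) ((Scheme.Modules.pullback h).obj F) T) x' →
      Dual3.resTrdeg q' x' < (n : Cardinal.{u}) := by
    rintro q' rfl x' hx'
    have hx : ¬ FlatMod.IsFlatOverAt (PicF.XTproj f T) (FGA.ET f F T) (k.base x') := by
      intro hfl
      apply hx'
      have h1 := (Groth.Agent.Lib.Helper2.PullbackSec.isFlatOverAt_pullback_iff k (PicF.XTproj f T)
        (FGA.ET f F T) x' (Flat.stalkMap k x')).mp hfl
      exact Groth.Agent.Lib.Helper26.FlatLim.isFlatOverAt_of_iso _ e.symm x' h1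
    have h2 := hT (k.base x') hx
    rw [Groth.Agent.Lib.Helper9.ResTrdeg.resTrdeg_comp_of_lqf_left k (PicF.XTproj f T) x']
    exact h2
  intro x' hx'
  exact key (PicF.XTproj (h ≫ f) T) hk_snd.symm x' hx'

end Groth.Agent.S9027
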