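import Groth.Statements.S9034
import Mathlib
import Groth.Agent.Lib.Helper11Cpct
import Groth.Agent.Lib.Helper11LocCrit
import Groth.Agent.S9033

set_option autoImplicit false
universe u
open Cpct

namespace Groth.Agent.S9034

open CategoryTheory CategoryTheory.Limits AlgebraicGeometry Opposite in

open CategoryTheory CategoryTheory.Limits AlgebraicGeometry Opposite in
/-- Fix a scheme S which is quasi-separated and quasi-compact. Sending a pair (X, X̄) to X gives a
functor from the category of compactifications over S (pairs of a scheme X̄ proper over S and a
quasi-compact open X ⊆ X̄, with morphisms the S-morphisms X̄' → X̄ sending X' into X) to the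
category of compactifyable schemes over S (the full subcategory of schemes over S that are the open
part of such a pair), and this functor is a localization functor for the class of morphisms whose
open part X' → X is an isomorphism: it inverts that class and the induced functor from the localized
category is an equivalence. -/
theorem result (S : Scheme.{u}) [CompactSpace S] [QuasiSeparatedSpace S] :
    (Cpct.openFunctor S).IsLocalization (Cpct.isoOpen S) := by
  haveI := Groth.Agent.S9033.result S
  have hinv : (Cpct.isoOpen S).IsInvertedBy (Cpct.openFunctor S) := by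
    intro A B f hf
    haveI : IsIso (Cpct.restr f) := hf
    haveI : IsIso ((Over.forget S).map (Cpct.openOver.map f)) :=
      inferInstanceAs (IsIso (Cpct.restr f))
    haveI : IsIso (Cpct.openOver.map f) := isIso_of_reflects_iso _ (Over.forget S)
    haveI : IsIso ((ObjectProperty.ι (Cpct.IsCompactifyable S)).map ((Cpct.openFunctor S).map f)) :=
      inferInstanceAs (IsIso (Cpct.openOver.map f))
    exact isIso_of_reflects_iso _ (ObjectProperty.ι (Cpct.IsCompactifyable S))
  haveI : (Cpct.openFunctor S).EssSurj := by
    refine ⟨fun X => ?_⟩
    obtain ⟨A, ⟨e⟩⟩ := X.property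
    exact ⟨A, ⟨(ObjectProperty.ι (Cpct.IsCompactifyable S)).preimageIso e⟩⟩
  refine Groth.Agent.Lib.Helper11.LocCrit.isLocalization_of_rcf _ _ hinv ?_ ?_
  · intro A B φ
    obtain ⟨A', s, hs, f, h⟩ := Groth.Agent.Lib.Helper11.CpctLib.exists_fraction (A := A) (B := B) φ.hom
    refine ⟨A', s, hs, f, ?_⟩
    ext1
    exact h
  · intro A B f₁ f₂ h
    have h1 : Cpct.restr f₁ = Cpct.restr f₂ := congrArg (fun k => k.hom.left) h
    exact Groth.Agent.Lib.Helper11.CpctLib.exists_equalizing f₁ f₂ h1

end Groth.Agent.S9034
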