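import Groth.Statements.S9038
-- import your own Groth.Agent.* helpers here

set_option autoImplicit false
universe u
open Topology
open CohTop

namespace Groth.Agent.S9038

/-- In the category of Hausdorff locally quasi-compact spaces, call a family of continuous maps f_i :
X_i → X a qc covering when every point of X has a neighbourhood of the form ⋃_{i ∈ t} f_i(E_i) with
t a finite set of indices and E_i ⊆ X_i quasi-compact. If (f_i : X_i → X) is a qc covering and for
each i the family (g_{ij} : X_{ij} → X_i)_j is a qc covering, then the family of composites X_{ij} →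
X, indexed by the pairs (i, j), is a qc covering. -/
theorem result
    {B : Type u} [TopologicalSpace B] [T2Space B] [LocallyCompactSpace B]
    {ι : Type u} {X : ι → Type u} [∀ i, TopologicalSpace (X i)] [∀ i, T2Space (X i)]
    [∀ i, LocallyCompactSpace (X i)]
    (f : ∀ i, X i → B) (hf : ∀ i, Continuous (f i))
    (hcov : ∀ x : B, ∃ (t : Finset ι) (E : ∀ i, Set (X i)),
      (∀ i ∈ t, IsCompact (E i)) ∧ (⋃ i ∈ t, f i '' E i) ∈ 𝓝 x)
    {κ : ι → Type u} {Y : ∀ i, κ i → Type u} [∀ i j, TopologicalSpace (Y i j)] [∀ i j, T2Space (Y i j)]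
    [∀ i j, LocallyCompactSpace (Y i j)]
    (g : ∀ i j, Y i j → X i) (hg : ∀ i j, Continuous (g i j))
    (hcov' : ∀ (i : ι) (x : X i), ∃ (t : Finset (κ i)) (E : ∀ j, Set (Y i j)),
      (∀ j ∈ t, IsCompact (E j)) ∧ (⋃ j ∈ t, g i j '' E j) ∈ 𝓝 x) :
    ∀ x : B, ∃ (t : Finset (Σ i, κ i)) (E : ∀ p : (Σ i, κ i), Set (Y p.1 p.2)),
      (∀ p ∈ t, IsCompact (E p)) ∧ (⋃ p ∈ t, f p.1 '' (g p.1 p.2 '' E p)) ∈ 𝓝 x := by
  classical
  have key : ∀ i (K : Set (X i)), IsCompact K → ∃ (s : Finset (κ i)) (D : ∀ j, Set (Y i j)),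
      (∀ j ∈ s, IsCompact (D j)) ∧ K ⊆ ⋃ j ∈ s, g i j '' D j := by
    intro i K hK
    choose T EE h1 h2 using hcov' i
    obtain ⟨F, _, hcover⟩ := hK.elim_nhds_subcover (fun z => ⋃ j ∈ T z, g i j '' EE z j)
      (fun z _ => h2 z)
    refine ⟨F.biUnion T, fun j => ⋃ z ∈ F.filter (fun z => j ∈ T z), EE z j, ?_, ?_⟩
    · intro j _
      refine Finset.isCompact_biUnion _ ?_
      intro z hz
      exact h1 z j (Finset.mem_filter.mp hz).2
    · intro y hy
      have := hcover hy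
      simp only [Set.mem_iUnion, Set.mem_image] at this
      obtain ⟨z, hz, j, hj, w, hw, hwy⟩ := this
      simp only [Set.mem_iUnion, Set.mem_image]
      refine ⟨j, Finset.mem_biUnion.mpr ⟨z, hz, hj⟩, w, ?_, hwy⟩
      exact ⟨z, Finset.mem_filter.mpr ⟨hz, hj⟩, hw⟩
  intro x
  obtain ⟨t, E, hE, hN⟩ := hcov x
  have key' : ∀ i, ∃ (s : Finset (κ i)) (D : ∀ j, Set (Y i j)),
      (∀ j ∈ s, IsCompact (D j)) ∧ (i ∈ t → E i ⊆ ⋃ j ∈ s, g i j '' D j) := by
    intro i
    by_cases hi : i ∈ t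
    · obtain ⟨s, D, h1, h2⟩ := key i (E i) (hE i hi)
      exact ⟨s, D, h1, fun _ => h2⟩
    · exact ⟨∅, fun _ => ∅, by simp, fun h => absurd h hi⟩
  choose s D hD hsub using key'
  refine ⟨t.sigma s, fun p => D p.1 p.2, ?_, ?_⟩
  · intro p hp
    exact hD p.1 p.2 (Finset.mem_sigma.mp hp).2
  · refine Filter.mem_of_superset hN ?_
    intro b hb
    simp only [Set.mem_iUnion, Set.mem_image] at hb
    obtain ⟨i, hi, e, he, hfe⟩ := hb
    have := hsub i hi he
    simp only [Set.mem_iUnion, Set.mem_image] at this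
    obtain ⟨j, hj, w, hw, hwe⟩ := this
    simp only [Set.mem_iUnion, Set.mem_image]
    refine ⟨⟨i, j⟩, Finset.mem_sigma.mpr ⟨hi, hj⟩, e, ⟨w, hw, hwe⟩, hfe⟩

end Groth.Agent.S9038
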