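import Groth.Statements.S9041
import Groth.Agent.Lib.Helper21RestrColim
import Groth.Agent.Lib.Helper21ModSp2

set_option autoImplicit false
universe u
open CategoryTheory CategoryTheory.Limits Opposite
open ModSite

namespace Groth.Agent.S9041

open Groth.Agent.Lib.Helper21.ModSp Groth.Agent.Lib.Helper21.RestrColim
  Groth.Agent.Lib.Helper21.LocFact

/-- `O|_W ≅ O_W`. -/
noncomputable def restrUnitIso {C : Type u} [SmallCategory C] {J : GrothendieckTopology C}
    (O : Sheaf J CommRingCat.{u}) (W : C) :
    (ModSite.restr O W).obj (SheafOfModules.unit (ModSite.ringSh O)) ≅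
      SheafOfModules.unit (ModSite.ringSh (O.over W)) :=
  Iso.refl _

/-- On a ringed site (C, O), let E be a direct summand of a finite free O-module, p : G → F a surjection
of O-modules and φ : E → F a morphism. Then locally φ lifts through p: every object V has a covering
sieve such that over each of its arrows W → V there is a morphism E|_W → G|_W whose composite with
p|_W is φ|_W. (The published statement is phrased for modules over the localisation (C/U, O_U) at an
object U and a covering of U; a localised ringed site is again a ringed site, and this row states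
the conclusion at every object of an arbitrary ringed site.) -/
theorem result
    {C : Type u} [SmallCategory C] {J : GrothendieckTopology C} (O : Sheaf J CommRingCat.{u})
    (E F G : ModSite.Mod O) (hE : DCoh.IsFinFreeSummandMod (ModSite.ringSh O) E)
    (p : G ⟶ F) [Epi p] (φ : E ⟶ F) (V : C) :
    ∃ R ∈ J V, ∀ ⦃W : C⦄ (g : W ⟶ V), R g →
      ∃ l : (ModSite.restr O W).obj E ⟶ (ModSite.restr O W).obj G,
        l ≫ (ModSite.restr O W).map p = (ModSite.restr O W).map φ := by
  classical
  obtain ⟨n, i, q, hiq⟩ := hE
  let ψ : SheafOfModules.free (R := ModSite.ringSh O) (ULift.{u} (Fin n)) ⟶ F := q ≫ φ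
  let χ : ∀ k : ULift.{u} (Fin n), SheafOfModules.unit (ModSite.ringSh O) ⟶ F :=
    fun k => SheafOfModules.ιFree k ≫ ψ
  let t : ULift.{u} (Fin n) → F.val.obj (op V) :=
    fun k => (χ k).val.app (op V) (1 : (ModSite.ringSh O).obj.obj (op V))
  have hp := Groth.Agent.Lib.Helper4.ModEpi.isLocallySurjective_of_epi p
  let R : Sieve V := ⨅ k, Presheaf.imageSieve ((PresheafOfModules.toPresheaf _).map p.val) (t k)
  have hR : R ∈ J V := iInf_mem_of_finite J _ (fun k => hp.imageSieve_mem (t k))
  refine ⟨R, hR, fun W g hg => ?_⟩
  have hk : ∀ k, ∃ r : G.val.obj (op W), p.val.app (op W) r = F.val.map g.op (t k) := by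
    intro k
    have h2 : R ≤ Presheaf.imageSieve ((PresheafOfModules.toPresheaf _).map p.val) (t k) :=
      iInf_le _ k
    exact h2 _ hg
  choose r hr using hk
  have hc := isColimitCofanMkObjOfIsColimit (ModSite.restr O W) _ _
    (SheafOfModules.isColimitFreeCofan (R := ModSite.ringSh O) (ULift.{u} (Fin n)))
  let ue := Groth.Agent.Lib.Helper21.RetractFreeSite.unitEquiv (ModSite.ringSh (O.over W)) (hTX W)
  let m : ∀ k : ULift.{u} (Fin n),
      (ModSite.restr O W).obj (SheafOfModules.unit (ModSite.ringSh O)) ⟶
        (ModSite.restr O W).obj G :=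
    fun k => (restrUnitIso O W).hom ≫ (ue ((ModSite.restr O W).obj G)).symm (r k)
  let l' : (ModSite.restr O W).obj (SheafOfModules.free (R := ModSite.ringSh O) (ULift.{u} (Fin n))) ⟶
      (ModSite.restr O W).obj G := Cofan.IsColimit.desc hc m
  have hl' : l' ≫ (ModSite.restr O W).map p = (ModSite.restr O W).map ψ := by
    apply Cofan.IsColimit.hom_ext hc
    intro k
    have h1 : (ModSite.restr O W).map (SheafOfModules.ιFree k) ≫ l' = m k :=
      Cofan.IsColimit.fac hc m k
    change (ModSite.restr O W).map (SheafOfModules.ιFree k) ≫ l' ≫ _ =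
      (ModSite.restr O W).map (SheafOfModules.ιFree k) ≫ _
    rw [← Category.assoc, h1, ← Functor.map_comp]
    rw [← cancel_epi (restrUnitIso O W).inv]
    apply (ue ((ModSite.restr O W).obj F)).injective
    change (ue ((ModSite.restr O W).obj F))
      ((ue ((ModSite.restr O W).obj G)).symm (r k) ≫ (ModSite.restr O W).map p) = _
    rw [Groth.Agent.Lib.Helper21.RetractFreeSite.unitEquiv_comp, AddEquiv.apply_symm_apply]
    change p.val.app (op W) (r k) = (χ k).val.app (op W) (1 : (ModSite.ringSh O).obj.obj (op W))
    rw [hr k]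
    have hnat := PresheafOfModules.naturality_apply (χ k).val g.op
      (Groth.Agent.Lib.Helper21.RetractFreeSite.ofR (ModSite.ringSh O) V 1)
    refine Eq.trans hnat.symm ?_
    congr 1
    exact map_one ((ModSite.ringSh O).obj.map g.op).hom
  refine ⟨(ModSite.restr O W).map i ≫ l', ?_⟩
  rw [Category.assoc, hl', ← Functor.map_comp]
  congr 1
  change i ≫ q ≫ φ = φ
  rw [← Category.assoc, hiq, Category.id_comp]

end Groth.Agent.S9041
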