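import Groth.Statements.S9042
import Groth.Agent.Lib.Helper17Hyp15

set_option autoImplicit false
universe u
open CategoryTheory CategoryTheory.Limits Opposite
open ModSite

namespace Groth.Agent.S9042

/-- Let (C, O) be a ringed site, E an object of D(O), B a class of objects such that every object has a
covering by members of B, and p : ℤ → ℤ a function such that H^k(V, H^{m-k}(E)) = 0 for every V in
B, every m and every k > p(m). Then the canonical map from E to the derived limit of its truncations
τ_{≥ -n} E is an isomorphism, i.e. E is a derived limit of that tower through the canonical maps.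
The derived category of O-modules and the product of the truncations are instance hypotheses; H^k(V,
-) of an O-module is the cohomology of its underlying abelian sheaf. -/
theorem result
    {C : Type u} [SmallCategory C] {J : GrothendieckTopology C} (O : Sheaf J CommRingCat.{u})
    [HasDerivedCategory.{u} (ModSite.Mod O)] (E : DerivedCategory (ModSite.Mod O))
    [HasProduct (CohCx.truncTower E)] (B : Set C)
    (hB : ∀ U : C, ∃ (ι : Type u) (Y : ι → C) (f : ∀ i, Y i ⟶ U), Sieve.ofArrows Y f ∈ J U ∧ ∀ i, Y i ∈ B)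
    (p : ℤ → ℤ)
    (h : ∀ V ∈ B, ∀ (m : ℤ) (k : ℕ), p m < k →
      Subsingleton (ModSite.HU O ((DerivedCategory.homologyFunctor (ModSite.Mod O) (m - k)).obj E) k V)) :
    CohCx.IsRlimVia (CohCx.truncTower E) (CohCx.truncTowerMap E) E (CohCx.toTruncTower E) := by
  apply Groth.Agent.Lib.Helper17.Hyp.isRlimVia_truncTower_mod O E
  intro U
  obtain ⟨ι, Y₀, f, hcov, hYB⟩ := hB U
  refine ⟨Presieve.ofArrows Y₀ f, hcov, ?_⟩
  rintro V g ⟨i⟩
  refine ⟨p, fun T hT => ?_⟩
  -- the arrows of `T` with source in `B`
  refine ⟨fun W g' => W ∈ B ∧ T g', fun W g' hg' => hg'.2, ?_, fun W g' hg' m k hk =>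
    h W hg'.1 m k hk⟩
  choose ι' Y₁ f' hcov' hYB' using hB
  refine J.superset_covering ?_ (J.bind_covering hT
    (R := fun W g' _ => Sieve.ofArrows (Y₁ W) (f' W)) (fun W g' _ => hcov' W))
  rintro W' _ ⟨W, k, g', hg', hk, rfl⟩
  obtain ⟨Z, a, b, ⟨i'⟩, rfl⟩ := hk
  refine ⟨Y₁ W i', a, f' W i' ≫ g', ⟨hYB' W i', T.downward_closed hg' _⟩, ?_⟩
  rw [Category.assoc]


end Groth.Agent.S9042
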