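import Groth.Statements.S9044
import Mathlib
import Groth.Agent.Lib.Helper16WidePB
import Groth.Agent.Lib.Helper21PullFree
import Groth.Agent.Lib.Helper21FreeAb3
import Groth.Agent.Lib.Helper21AcyclicClass
import Groth.Agent.S6151
import Groth.Agent.S12106
-- import your own Groth.Agent.* helpers here

set_option autoImplicit false
set_option linter.unusedSectionVars false
set_option linter.style.haveILetI false
set_option linter.unusedVariables false
universe u
open CategoryTheory CategoryTheory.Limits Opposite
open ModSite

namespace Groth.Agent.S9044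

section
open Groth.Agent.Lib.Helper21 Groth.Agent.Lib.Helper21.FreeAb Groth.Agent.Lib.Helper21.TorsFree
  Groth.Agent.Lib.Helper16.WidePB

section step1
variable {D : Type u} [SmallCategory D] {K : GrothendieckTopology D} (R : Sheaf K RingCat.{u})
  (I : SheafOfModules.{u} R) [Injective I]

theorem exists_retraction
    {E A : Sheaf K AddCommGrpCat.{u}} (i : (SheafOfModules.toSheaf R).obj I ⟶ E) (g : E ⟶ A)
    (w : i ≫ g = 0) (hS : (ShortComplex.mk i g w).ShortExact) (hA : TF A) :
    ∃ r : E ⟶ (SheafOfModules.toSheaf R).obj I, i ≫ r = 𝟙 _ := by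
  haveI : Mono ((freeShR R).map i) := mono_freeShR_map R (S := ShortComplex.mk i g w) hS hA
  let ε : (freeShR R).obj ((SheafOfModules.toSheaf R).obj I) ⟶ I :=
    ((freeShRAdj R).homEquiv _ _).symm (𝟙 _)
  let ext : (freeShR R).obj E ⟶ I := Injective.factorThru ε ((freeShR R).map i)
  refine ⟨(freeShRAdj R).homEquiv _ _ ext, ?_⟩
  rw [← (freeShRAdj R).homEquiv_naturality_left, Injective.comp_factorThru]
  exact ((freeShRAdj R).homEquiv _ _).apply_symm_apply _

/-- an injective sheaf of modules is totally acyclic as an abelian sheaf. -/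
theorem totallyAcyclic_of_injective :
    CohCx.IsTotallyAcyclic ((SheafOfModules.toSheaf R).obj I) := by
  intro K' p
  constructor
  intro x y
  have key : ∀ z : Abelian.Ext.{u} (freeAb K') ((SheafOfModules.toSheaf R).obj I) (p + 1),
      z = 0 := fun z =>
    AcyclicClass.ext_eq_zero (𝒜 := Sheaf K AddCommGrpCat.{u}) TF
      ((SheafOfModules.toSheaf R).obj I)
      (fun π _ hP _ => TF_kernel π hP)
      (fun A => by
        obtain ⟨K'', π, hπ⟩ := exists_epi_freeAb A
        exact ⟨freeAb K'', π, hπ, TF_freeAb K''⟩)
      (fun {E A} i g w hS hA => exists_retraction R I i g w hS hA) p (freeAb K')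
      (TF_freeAb K') z
  exact (key x).trans (key y).symm

end step1

section general

universe v' v'' u₁ u₂

/-- for an additive adjunction, `Hom(-, R Y) ≅ Hom(L -, Y)`. -/
noncomputable def adjYonedaIso {A : Type u₁} {B : Type u₂} [Category.{v'} A] [Category.{v'} B]
    [Preadditive A] [Preadditive B] {L : A ⥤ B} {R : B ⥤ A} (adj : L ⊣ R) [L.Additive] (Y : B) :
    preadditiveYoneda.obj (R.obj Y) ≅ L.op ⋙ preadditiveYoneda.obj Y :=
  NatIso.ofComponents (fun X => (adj.homAddEquiv (unop X) Y).symm.toAddCommGrpIso)
    (fun {X X'} f => by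
      ext x
      exact adj.homEquiv_naturality_left_symm f.unop x)

/-- `rightOp` of an isomorphism of functors. -/
noncomputable def rightOpIso {A : Type u₁} {B : Type u₂} [Category.{v''} A] [Category.{v'} B]
    {F G : Aᵒᵖ ⥤ B} (e : F ≅ G) : F.rightOp ≅ G.rightOp :=
  NatIso.ofComponents (fun n => (e.app (op n)).op.symm) (fun {n n'} θ => by
    apply Quiver.Hom.unop_inj
    simp)

end general

section step3
variable {C : Type u} [SmallCategory C] (J : GrothendieckTopology C)
    {D : Type u} [SmallCategory D] (K : GrothendieckTopology D)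
    (u : C ⥤ D) [u.IsContinuous J K]

noncomputable def hk0Iso (F : Sheaf K AddCommGrpCat.{u}) :
    CohCx.HK0Functor J ((CohSite.push K J u).obj F) ≅
      (PullFree.pullSet K J u).op ⋙ CohCx.HK0Functor K F :=
  haveI : (u.sheafPullback AddCommGrpCat.{u} J K).Additive :=
    (u.sheafAdjunctionContinuous AddCommGrpCat.{u} J K).left_adjoint_additive
  Functor.isoWhiskerLeft (PullFree.freeF J).op
      (adjYonedaIso (u.sheafAdjunctionContinuous AddCommGrpCat.{u} J K) F) ≪≫
    (Functor.associator _ _ _).symm ≪≫
    Functor.isoWhiskerRight ((Functor.opComp _ _).symm ≪≫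
      (NatIso.op (PullFree.pullFreeIso K J u)).symm ≪≫ Functor.opComp _ _)
        (preadditiveYoneda.obj F) ≪≫
    Functor.associator _ _ _

/-- the Čech complex of `g⁻¹F` for `f` is the Čech complex of `F` for `g_! f`. -/
noncomputable def cosimpIso [PreservesLimitsOfShape WalkingCospan (u.sheafPullback (Type u) J K)]
    (F : Sheaf K AddCommGrpCat.{u}) {K' K₀ : Sheaf J (Type u)} (f : K' ⟶ K₀) :
    (Arrow.mk f).cechNerve.rightOp ⋙ CohCx.HK0Functor J ((CohSite.push K J u).obj F) ≅
      (Arrow.mk ((PullFree.pullSet K J u).map f)).cechNerve.rightOp ⋙ CohCx.HK0Functor K F :=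
  Functor.isoWhiskerLeft (Arrow.mk f).cechNerve.rightOp (hk0Iso J K u F) ≪≫
    (Functor.associator _ _ _).symm ≪≫
    Functor.isoWhiskerRight ((Functor.rightOpComp _ _).symm ≪≫
      rightOpIso (cechNerveIso (PullFree.pullSet K J u) f)) (CohCx.HK0Functor K F)

theorem cech_vanishing [PreservesLimitsOfShape WalkingCospan (u.sheafPullback (Type u) J K)]
    (F : Sheaf K AddCommGrpCat.{u}) (hF : CohCx.IsTotallyAcyclic F)
    {K' K₀ : Sheaf J (Type u)} (f : K' ⟶ K₀) [Epi f] (q : ℕ) :
    IsZero ((CohCx.cechNerveCx ((CohSite.push K J u).obj F) f).homology (q + 1)) := by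
  haveI : (PullFree.pullSet K J u).PreservesEpimorphisms :=
    Functor.preservesEpimorphisms_of_adjunction (PullFree.adjSet K J u)
  haveI : Epi ((PullFree.pullSet K J u).map f) := inferInstance
  have h := Groth.Agent.S6151.result F hF ((PullFree.pullSet K J u).map f) q
  refine IsZero.of_iso h ?_
  exact (HomologicalComplex.homologyFunctor _ _ (q + 1)).mapIso
    ((AlgebraicTopology.alternatingCofaceMapComplex AddCommGrpCat.{u}).mapIso
      (cosimpIso J K u F f))

end step3

theorem result'
    {C : Type u} [SmallCategory C] (J : GrothendieckTopology C)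
    {D : Type u} [SmallCategory D] (K : GrothendieckTopology D)
    (u : C ⥤ D) [u.IsContinuous J K]
    (hfib : PreservesLimitsOfShape WalkingCospan (u.sheafPullback (Type u) J K))
    (O_D : Sheaf K CommRingCat.{u}) (I : ModSite.Mod O_D) (hI : Injective I) :
    CohCx.IsTotallyAcyclic
      ((u.sheafPushforwardContinuous AddCommGrpCat.{u} J K).obj (ModSite.toAb I)) := by
  haveI := hfib
  haveI := hI
  apply Groth.Agent.S12106.result
  intro K' K₀ f hf q
  haveI := hf
  exact cech_vanishing J K u (ModSite.toAb I)
    (totallyAcyclic_of_injective (ModSite.ringSh O_D) I) f q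

end


/-- Suppose the functor of sites u : C → D is both continuous and cocontinuous (sites with fibre
products; u sends coverings to coverings and commutes with fibre products), g the associated
morphism of topoi (g⁻¹ is precomposition with u, and g_! on sheaves of sets is the sheaf pullback
along u), O_D a sheaf of rings on D and I an injective O_D-module. If g_! commutes with fibre
products then the abelian sheaf g⁻¹ I is totally acyclic. Stated for a sheaf of commutative rings
O_D. -/
theorem result
    {C : Type u} [SmallCategory C] [HasPullbacks C] (J : GrothendieckTopology C)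
    {D : Type u} [SmallCategory D] [HasPullbacks D] (K : GrothendieckTopology D)
    (u : C ⥤ D) (hu : CoverPreserving J K u) [PreservesLimitsOfShape WalkingCospan u]
    [u.IsContinuous J K] [u.IsCocontinuous J K]
    (hfib : PreservesLimitsOfShape WalkingCospan (u.sheafPullback (Type u) J K))
    (O_D : Sheaf K CommRingCat.{u}) (I : ModSite.Mod O_D) (hI : Injective I) :
    CohCx.IsTotallyAcyclic ((u.sheafPushforwardContinuous AddCommGrpCat.{u} J K).obj (ModSite.toAb I)) := by
  exact result' J K u hfib O_D I hI

end Groth.Agent.S9044
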