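import Groth.Statements.S9048
import Mathlib
import Groth.Agent.Lib.Helper21ModCoh
-- import your own Groth.Agent.* helpers here

set_option autoImplicit false
set_option linter.style.haveILetI false
set_option linter.unusedSectionVars false
universe u
open CategoryTheory CategoryTheory.Limits Opposite
open ModSite

namespace Groth.Agent.S9048
open Groth.Agent.Lib.Helper21 Groth.Agent.Lib.Helper21.FreeAb Groth.Agent.Lib.Helper21.TorsFree

section

variable {C : Type u} [SmallCategory C] {J : GrothendieckTopology C} (R : Sheaf J RingCat.{u})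

/-- `R ⊗_ℤ ℤ[P] ≅ R[P]`, naturally in the presheaf of sets `P`. -/
noncomputable def FFreeIso :
    (Functor.whiskeringRight Cᵒᵖ _ _).obj AddCommGrpCat.free.{u} ⋙ FFunctor R.obj ≅
      PresheafOfModules.free.{u} R.obj :=
  Adjunction.leftAdjointUniq ((AddCommGrpCat.adj.{u}.whiskerRight Cᵒᵖ).comp (FAdj R.obj))
    (PresheafOfModules.freeAdjunction R.obj)

/-- `R ⊗_ℤ ℤ[K]^a ≅ (R[K])^a`. -/
noncomputable def freeShRFreeAbIso (K : Sheaf J (Type u)) :
    (freeShR R).obj (freeAb K) ≅ (shfR R).obj ((PresheafOfModules.free R.obj).obj K.obj) :=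
  (freeShRSheafifyIso R).app (K.obj ⋙ AddCommGrpCat.free.{u}) ≪≫
    (shfR R).mapIso ((FFreeIso R).app K.obj)

/-- `Ext^n_R(R[K], M) ≅ H^n(K, M)`. -/
theorem nonempty_ext_free_iso [HasExt.{u} (SheafOfModules.{u} R)] (K : Sheaf J (Type u))
    (M : SheafOfModules.{u} R) (n : ℕ) :
    Nonempty (AddCommGrpCat.of (Abelian.Ext.{u}
        ((shfR R).obj ((PresheafOfModules.free R.obj).obj K.obj)) M n) ≅
      AddCommGrpCat.of (Abelian.Ext.{u} (freeAb K) ((SheafOfModules.toSheaf R).obj M) n)) := by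
  haveI := Groth.Agent.S0484.result J R
  haveI : EnoughInjectives (SheafOfModules.{u} R) := inferInstance
  let E : SheafOfModules.{u} R ⥤ Sheaf J AddCommGrpCat.{u} := SheafOfModules.toSheaf R
  let G : Sheaf J AddCommGrpCat.{u} ⥤ AddCommGrpCat.{u} :=
    preadditiveCoyoneda.obj (op (freeAb K))
  have hE : ∀ I : SheafOfModules.{u} R, Injective I → ∀ q : ℕ, 0 < q →
      IsZero ((G.rightDerived q).obj (E.obj I)) := by
    intro Q hQ q hq
    obtain ⟨q, rfl⟩ : ∃ k, q = k + 1 := ⟨q - 1, by lia⟩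
    obtain ⟨e⟩ := Groth.Agent.Lib.Helper23ExtRD.rightDerived_coyoneda_iso (freeAb K) (E.obj Q) (q + 1)
    refine IsZero.of_iso ?_ e
    haveI : Subsingleton (Abelian.Ext.{u} (freeAb K) (E.obj Q) (q + 1)) :=
      ⟨fun x y => (ext_toSheaf_eq_zero R Q q _ (TF_freeAb K) x).trans
        (ext_toSheaf_eq_zero R Q q _ (TF_freeAb K) y).symm⟩
    exact AddCommGrpCat.isZero_of_subsingleton _
  let iso : E ⋙ G ≅ preadditiveCoyoneda.obj
      (op ((shfR R).obj ((PresheafOfModules.free R.obj).obj K.obj))) :=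
    adjCoyonedaIso (freeShRAdj R) (freeAb K) ≪≫ coyonedaIsoOfIso (freeShRFreeAbIso R K)
  obtain ⟨e₁⟩ := Groth.Agent.Lib.Helper23ExtRD.rightDerived_coyoneda_iso
    ((shfR R).obj ((PresheafOfModules.free R.obj).obj K.obj)) M n
  let e₂ := (Groth.Agent.Lib.Helper23LocSS.rightDerivedIso iso n).app M
  obtain ⟨e₃⟩ := DerAcyc.nonempty_rightDerived_comp_iso E G hE M n
  obtain ⟨e₄⟩ := Groth.Agent.Lib.Helper23ExtRD.rightDerived_coyoneda_iso (freeAb K) (E.obj M) n
  exact ⟨e₁.symm ≪≫ e₂.symm ≪≫ e₃ ≪≫ e₄⟩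

end


/-- On a ringed site (C, O), for a sheaf of sets K and an O-module F with underlying abelian sheaf F_ab,
the cohomology groups H^p(K, F) computed on Mod(O) — the derived functors of F ↦ Mor(K, F), i.e. the
Ext groups out of the free O-module O[K] on K — agree with H^p(K, F_ab) computed on abelian sheaves.
Stated as the existence of a group isomorphism; the Ext groups of Mod(O) are an instance hypothesis. -/
theorem result
    {C : Type u} [SmallCategory C] {J : GrothendieckTopology C} (O : Sheaf J CommRingCat.{u})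
    [HasExt.{u} (ModSite.Mod O)] (K : Sheaf J (Type u)) (F : ModSite.Mod O) (p : ℕ) :
    Nonempty (Abelian.Ext ((ModSite.sheafify O).obj ((PresheafOfModules.free (ModSite.ringSh O).obj).obj K.obj)) F p ≃+
      CohCx.HK K (ModSite.toAb F) p) := by
  obtain ⟨e⟩ := nonempty_ext_free_iso (ModSite.ringSh O) K F p
  exact ⟨e.addCommGroupIsoToAddEquiv⟩

end Groth.Agent.S9048
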