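import Groth.Statements.S9049
import Groth.Agent.Lib.Helper21RetractFreeSite

set_option autoImplicit false
universe u
open CategoryTheory CategoryTheory.Limits Opposite
open ModSite

namespace Groth.Agent.S9049

open Groth.Agent.Lib.Helper21.RetractFreeSite in
theorem aux1 {C : Type u} [SmallCategory C] {J : GrothendieckTopology C} (O : Sheaf J CommRingCat.{u})
    (X : C) (hX : IsTerminal X) (E E' : ModSite.Mod O)
    (hE : DCoh.IsFinFreeSummandMod (ModSite.ringSh O) E) :
    Function.Bijective (fun φ : E ⟶ E' => φ.val.app (op X)) := by
  obtain ⟨n, i, p, hip⟩ := hE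
  constructor
  · intro φ φ' h
    exact map_injective_of_retract (ModSite.ringSh O) hX (n := n) i p hip φ φ' h
  · intro ψ
    obtain ⟨φ, hφ⟩ := map_surjective_of_retract (ModSite.ringSh O) hX (n := n) (M' := E') i p hip ψ
    exact ⟨φ, hφ⟩

/-- Let (C, O) be a ringed site with a final object X and R = Γ(C, O) = O(X). Global sections give an
equivalence between the category of O-modules that are direct summands of finite free O-modules and
the category of finite projective R-modules: the functor E ↦ E(X) is fully faithful on such modules,
lands in finite projective R-modules, and every finite projective R-module arises. (The published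
statement allows a site without final object, with Γ(C, -) the sections over the final presheaf;
this row assumes a final object X, so that Γ(C, E) = E(X).) -/
theorem result
    {C : Type u} [SmallCategory C] {J : GrothendieckTopology C} (O : Sheaf J CommRingCat.{u})
    (X : C) (hX : IsTerminal X) :
    (∀ E E' : ModSite.Mod O, DCoh.IsFinFreeSummandMod (ModSite.ringSh O) E →
        DCoh.IsFinFreeSummandMod (ModSite.ringSh O) E' →
        Function.Bijective (fun φ : E ⟶ E' => φ.val.app (op X))) ∧
    (∀ E : ModSite.Mod O, DCoh.IsFinFreeSummandMod (ModSite.ringSh O) E →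
        Module.Finite ((ModSite.ringSh O).obj.obj (op X)) (E.val.obj (op X)) ∧
        Module.Projective ((ModSite.ringSh O).obj.obj (op X)) (E.val.obj (op X))) ∧
    (∀ M : ModuleCat.{u} ((ModSite.ringSh O).obj.obj (op X)),
        Module.Finite ((ModSite.ringSh O).obj.obj (op X)) M →
        Module.Projective ((ModSite.ringSh O).obj.obj (op X)) M →
        ∃ E : ModSite.Mod O, DCoh.IsFinFreeSummandMod (ModSite.ringSh O) E ∧ Nonempty (E.val.obj (op X) ≅ M)) := by
  refine ⟨fun E E' hE _ => aux1 O X hX E E' hE, fun E hE => ?_, fun M hM1 hM2 => ?_⟩
  · obtain ⟨n, i, p, hip⟩ := hE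
    exact Groth.Agent.Lib.Helper21.RetractFreeSite.finite_projective_of_retract
      (ModSite.ringSh O) hX (n := n) i p hip
  · obtain ⟨E, n, i, r, hir, he⟩ :=
      Groth.Agent.Lib.Helper21.RetractFreeSite.essSurj_aux (ModSite.ringSh O) hX M
    exact ⟨E, ⟨n, i, r, hir⟩, he⟩

end Groth.Agent.S9049
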