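import Groth.Statements.S9064
import Groth.Agent.Lib.Helper17Hyp18

set_option autoImplicit false
universe u
open CategoryTheory CategoryTheory.Limits Opposite
attribute [local instance] HasDerivedCategory.standard
open ModSite

namespace Groth.Agent.S9064

/-- Let (C, O) be a ringed site, A ⊂ Mod(O) a weak Serre subcategory and B a set of objects such that
every object has a covering by members of B and every V ∈ B has an integer d_V and a cofinal system
of coverings {V_i → V} with H^p(V_i, F) = 0 for all F ∈ A and p > d_V. Let (K_n) be an inverse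
system in D^+_A(O) such that for every j the system (H^j(K_n))_n is eventually constant, with value
H^j say. Then H^j(R lim K_n) = H^j: for a derived limit L of (K_n) through maps a_n : L → K_n, each
H^j(a_n) is an isomorphism for n large. Cofinality is expressed by asking every covering sieve of V
to contain such a covering family; H^p(V, -) of a module is the cohomology of its underlying abelian
sheaf; the product of the K_n is an instance hypothesis. -/
theorem result
    {C : Type u} [SmallCategory C] {J : GrothendieckTopology C} (O : Sheaf J CommRingCat.{u})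
    (A : ObjectProperty (ModSite.Mod O)) [WSerre.IsWeakSerre A] (B : Set C)
    (hB : ∀ U : C, ∃ (ι : Type u) (Y : ι → C) (g : ∀ i, Y i ⟶ U), Sieve.ofArrows Y g ∈ J U ∧ ∀ i, Y i ∈ B)
    (hA : ∀ V ∈ B, ∃ d : ℕ, ∀ T ∈ J V, ∃ (ι : Type u) (Y : ι → C) (g : ∀ i, Y i ⟶ V),
      (∀ i, T.arrows (g i)) ∧ Sieve.ofArrows Y g ∈ J V ∧
      ∀ (i : ι) (F : ModSite.Mod O), A F → ∀ k : ℕ, d < k → Subsingleton (ModSite.HU O F k (Y i)))
    (K : ℕ → DerivedCategory (ModSite.Mod O)) (t : ∀ n, K (n + 1) ⟶ K n) [HasProduct K]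
    (hK : ∀ n, WSerre.cohInPlus A (K n))
    (hconst : ∀ j : ℤ, ∃ n₀ : ℕ, ∀ n, n₀ ≤ n →
      IsIso ((DerivedCategory.homologyFunctor (ModSite.Mod O) j).map (t n)))
    (L : DerivedCategory (ModSite.Mod O)) (a : ∀ n, L ⟶ K n) (hL : CohCx.IsRlimVia K t L a) (j : ℤ) :
    ∃ n₀ : ℕ, ∀ n, n₀ ≤ n → IsIso ((DerivedCategory.homologyFunctor (ModSite.Mod O) j).map (a n)) := by
  haveI := Groth.Agent.S0484.result J (ModSite.ringSh O)
  have hfr := Groth.Agent.Lib.Helper17.Hyp.locFr_frModR (ModSite.ringSh O)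
  choose n₀ hn₀ using hconst
  refine ⟨n₀ j, fun n hn => ?_⟩
  apply Groth.Agent.Lib.Helper17.Hyp.isIso_homology_of_evBij.{_, u} hfr hL j n
    (fun n' hn' => hn₀ j n' (le_trans hn hn'))
  intro U
  obtain ⟨ι, Y₀, g, hcov, hYB⟩ := hB U
  refine ⟨Presieve.ofArrows Y₀ g, hcov, ?_⟩
  rintro V _ ⟨i⟩
  obtain ⟨d, hd⟩ := hA (Y₀ i) (hYB i)
  let N := max n ((Finset.Icc (j - d - 2) (j + 1)).sup n₀)
  have hN : ∀ q : ℤ, j - d - 2 ≤ q → q ≤ j + 1 → n₀ q ≤ N := fun q h1 h2 =>
    le_trans (Finset.le_sup (f := n₀) (Finset.mem_Icc.2 ⟨h1, h2⟩)) (le_max_right _ _)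
  refine ⟨N, le_max_left _ _, fun T hT => ?_⟩
  obtain ⟨ι', Y₁, g', hg', hcov', hvan⟩ := hd T hT
  refine ⟨Presieve.ofArrows Y₁ g', ?_, hcov', ?_⟩
  · rintro W _ ⟨i'⟩
    exact hg' i'
  · rintro W _ ⟨i'⟩
    have hP : ∀ F : ModSite.Mod O, A F → ∀ k : ℕ, d < k →
        Subsingleton (Groth.Agent.Lib.Helper17.Hyp.dsgl
          ((Groth.Agent.Lib.Helper17.Hyp.frModR (ModSite.ringSh O)).obj (Y₁ i')) ⟶
          ((DerivedCategory.singleFunctor (ModSite.Mod O) 0).obj F)⟦(k : ℤ)⟧) :=
      fun F hF k hk => Groth.Agent.Lib.Helper17.Hyp.subsingleton_hom_of_HU' O (Y₁ i') F k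
        (hvan i' F hF k hk)
    haveI : (Groth.Agent.Lib.Helper17.Hyp.dsgl
        ((Groth.Agent.Lib.Helper17.Hyp.frModR (ModSite.ringSh O)).obj (Y₁ i'))).IsLE 0 :=
      inferInstanceAs (((DerivedCategory.singleFunctor (ModSite.Mod O) 0).obj
        ((Groth.Agent.Lib.Helper17.Hyp.frModR (ModSite.ringSh O)).obj (Y₁ i'))).IsLE 0)
    constructor
    · intro n' hn'
      exact Groth.Agent.Lib.Helper17.Hyp.bijective_postcomp_of_homology A _ d hP (t n')
        (hK _) (hK _) (j - 1)
        (fun q h1 h2 => hn₀ q n' (le_trans (hN q (by omega) (by omega)) hn'))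
    · intro n' hn'
      exact Groth.Agent.Lib.Helper17.Hyp.bijective_postcomp_of_homology A _ d hP (t n')
        (hK _) (hK _) j
        (fun q h1 h2 => hn₀ q n' (le_trans (hN q (by omega) (by omega)) hn'))


end Groth.Agent.S9064
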