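import Groth.Statements.S9089
import Mathlib.Tactic
-- import your own Groth.Agent.* helpers here

set_option autoImplicit false
universe u
open CategoryTheory Opposite
open ModSite

namespace Groth.Agent.S9089

/-- Part (1): ⇔ (2), for a ringed site (C, O) with C small and O a sheaf of commutative rings: the
following are equivalent. (1) For every object U and every section f of O over U there is a covering
sieve on U on each of whose arrows either f or 1 - f restricts to a unit. (2) For every object U,
every n ≥ 1 and all sections f₁, …, fₙ of O over U generating the unit ideal of O(U), there is a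
covering sieve on U on each of whose arrows some fᵢ restricts to a unit. -/
theorem result {C : Type u} [SmallCategory C] (J : GrothendieckTopology C)
    (O : Sheaf J CommRingCat.{u}) :
    (∀ (U : C) (f : O.obj.obj (op U)), ∃ S ∈ J U, ∀ ⦃V : C⦄ (g : V ⟶ U), S g →
        IsUnit ((O.obj.map g.op).hom f) ∨ IsUnit ((O.obj.map g.op).hom (1 - f))) ↔
    (∀ (U : C) (n : ℕ) (f : Fin n → O.obj.obj (op U)), 1 ≤ n → Ideal.span (Set.range f) = ⊤ →
        ∃ S ∈ J U, ∀ ⦃V : C⦄ (g : V ⟶ U), S g → ∃ i, IsUnit ((O.obj.map g.op).hom (f i))) := by
  have hcomp : ∀ {U V W : C} (g : V ⟶ U) (h : W ⟶ V) (x : O.obj.obj (op U)),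
      (O.obj.map (h ≫ g).op).hom x = (O.obj.map h.op).hom ((O.obj.map g.op).hom x) := by
    intro U V W g h x
    simp
  constructor
  · intro h1
    have key : ∀ (n : ℕ) (U : C) (f : Fin (n + 1) → O.obj.obj (op U)),
        Ideal.span (Set.range f) = ⊤ →
        ∃ S ∈ J U, ∀ ⦃V : C⦄ (g : V ⟶ U), S g → ∃ i, IsUnit ((O.obj.map g.op).hom (f i)) := by
      intro n
      induction n with
      | zero =>
        intro U f hf
        have hu : IsUnit (f 0) := by
          have hr : Set.range f = {f 0} := by
            ext x
            constructor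
            · rintro ⟨i, rfl⟩
              have hi : i = 0 := Fin.ext (by have := i.2; simp at this ⊢)
              rw [hi]
              rfl
            · rintro rfl
              exact ⟨0, rfl⟩
          rw [hr, Ideal.span_singleton_eq_top] at hf
          exact hf
        exact ⟨⊤, J.top_mem U, fun V g _ => ⟨0, hu.map _⟩⟩
      | succ n ih =>
        intro U f hf
        have h1mem : (1 : O.obj.obj (op U)) ∈ Ideal.span (Set.range f) := by
          rw [hf]; trivial
        obtain ⟨c, hc⟩ := (Ideal.mem_span_range_iff_exists_fun).mp h1mem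
        rw [Fin.sum_univ_castSucc] at hc
        set a : O.obj.obj (op U) := ∑ i : Fin (n + 1), c i.castSucc * f i.castSucc with ha
        have h1a : 1 - a = c (Fin.last (n + 1)) * f (Fin.last (n + 1)) := by
          rw [← hc]; ring
        obtain ⟨S, hS, hSg⟩ := h1 U a
        have key2 : ∀ (V : C) (g : V ⟶ U), S g → ∃ R ∈ J V, ∀ ⦃W : C⦄ (h : W ⟶ V), R h →
            ∃ i, IsUnit ((O.obj.map (h ≫ g).op).hom (f i)) := by
          intro V g hg
          rcases hSg g hg with hu | hu
          · -- a restricted is a unit
            have hspan : Ideal.span (Set.range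
                (fun i : Fin (n + 1) => (O.obj.map g.op).hom (f i.castSucc))) = ⊤ := by
              apply Ideal.eq_top_of_isUnit_mem _ _ hu
              rw [ha, map_sum]
              refine Ideal.sum_mem _ (fun i _ => ?_)
              rw [map_mul]
              exact Ideal.mul_mem_left _ _ (Ideal.subset_span ⟨i, rfl⟩)
            obtain ⟨R, hR, hRh⟩ := ih V _ hspan
            refine ⟨R, hR, fun W h hh => ?_⟩
            obtain ⟨i, hi⟩ := hRh h hh
            exact ⟨i.castSucc, by rw [hcomp]; exact hi⟩
          · rw [h1a, map_mul] at hu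
            have hu' : IsUnit ((O.obj.map g.op).hom (f (Fin.last (n + 1)))) :=
              isUnit_of_mul_isUnit_right hu
            refine ⟨⊤, J.top_mem V, fun W h _ => ⟨Fin.last (n + 1), ?_⟩⟩
            rw [hcomp]
            exact hu'.map _
        choose R hR hR' using key2
        refine ⟨Sieve.bind S (fun Y g hg => R Y g hg), J.bind_covering hS (fun Y g hg => hR Y g hg), ?_⟩
        rintro V k ⟨Y, h, g, hg, hh, rfl⟩
        exact hR' Y g hg h hh
    intro U n f hn hf
    obtain ⟨k, rfl⟩ : ∃ k, n = k + 1 := ⟨n - 1, by omega⟩
    exact key k U f hf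
  · intro h2 U f
    have hspan : Ideal.span (Set.range ![f, 1 - f]) = ⊤ := by
      have hmem : f + (1 - f) ∈ Ideal.span (Set.range ![f, 1 - f]) :=
        Ideal.add_mem _ (Ideal.subset_span ⟨0, rfl⟩) (Ideal.subset_span ⟨1, rfl⟩)
      have h1 : f + (1 - f) = 1 := by ring
      rw [h1] at hmem
      exact (Ideal.eq_top_iff_one _).mpr hmem
    obtain ⟨S, hS, hSg⟩ := h2 U 2 ![f, 1 - f] (by norm_num) hspan
    refine ⟨S, hS, fun V g hg => ?_⟩
    obtain ⟨i, hi⟩ := hSg g hg
    fin_cases i
    · left; simpa using hi
    · right; simpa using hi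

end Groth.Agent.S9089
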