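import Groth.Statements.S9091
import Mathlib
-- import your own Groth.Agent.* helpers here

set_option autoImplicit false
set_option linter.style.haveILetI false
set_option linter.unusedSectionVars false
universe u
open CategoryTheory Opposite
open ModSite

namespace Groth.Agent.S9091

variable {C : Type u} [SmallCategory C] {J : GrothendieckTopology C}

theorem exists_isUnit_of_isUnit_germ (p : GrothendieckTopology.Point.{u} J) (O : Sheaf J CommRingCat.{u})
    (U : C) (x : p.fiber.obj U) (f : O.obj.obj (op U))
    (hu : IsUnit ((p.toPresheafFiber U x O.obj).hom f)) :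
    ∃ (W : C) (g : W ⟶ U) (w : p.fiber.obj W), p.fiber.map g w = x ∧
      IsUnit ((O.obj.map g.op).hom f) := by
  obtain ⟨b, hb⟩ := hu.exists_right_inv
  obtain ⟨Y, y, s, rfl⟩ := p.toPresheafFiber_jointly_surjective (P := O.obj) b
  let W := IsCofiltered.min (Functor.elementsMk p.fiber U x) (Functor.elementsMk p.fiber Y y)
  let gU := IsCofiltered.minToLeft (Functor.elementsMk p.fiber U x) (Functor.elementsMk p.fiber Y y)
  let gY := IsCofiltered.minToRight (Functor.elementsMk p.fiber U x) (Functor.elementsMk p.fiber Y y)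
  have hX : (p.toPresheafFiber U x O.obj).hom f =
      (p.toPresheafFiber W.1 W.2 O.obj).hom ((O.obj.map gU.1.op).hom f) :=
    ((congrArg (fun t => (p.toPresheafFiber U t O.obj).hom f) gU.2).symm).trans
      (p.toPresheafFiber_w_apply gU.1 W.2 O.obj f).symm
  have hY : (p.toPresheafFiber Y y O.obj).hom s =
      (p.toPresheafFiber W.1 W.2 O.obj).hom ((O.obj.map gY.1.op).hom s) :=
    ((congrArg (fun t => (p.toPresheafFiber Y t O.obj).hom s) gY.2).symm).trans
      (p.toPresheafFiber_w_apply gY.1 W.2 O.obj s).symm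
  have h1 : (p.toPresheafFiber W.1 W.2 O.obj).hom
      ((O.obj.map gU.1.op).hom f * (O.obj.map gY.1.op).hom s) =
      (p.toPresheafFiber W.1 W.2 O.obj).hom 1 := by
    rw [map_mul, map_one, ← hX, ← hY]
    exact hb
  obtain ⟨Z, k, z, hz, hk⟩ := (p.toPresheafFiber_eq_iff' (P := O.obj) W.1 W.2 _ _).1 h1
  refine ⟨Z, k ≫ gU.1, z, ?_, ?_⟩
  · rw [Functor.map_comp]
    show p.fiber.map gU.1 (p.fiber.map k z) = x
    rw [hz]
    exact gU.2
  · have hk' : (O.obj.map k.op).hom ((O.obj.map gU.1.op).hom f) *
        (O.obj.map k.op).hom ((O.obj.map gY.1.op).hom s) = 1 := by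
      have := hk
      rw [map_mul, map_one] at this
      exact this
    have : (O.obj.map (k ≫ gU.1).op).hom f = (O.obj.map k.op).hom ((O.obj.map gU.1.op).hom f) := by
      rw [op_comp, Functor.map_comp]
      rfl
    rw [this]
    exact IsUnit.of_mul_eq_one _ hk'


/-- Part (2): ⇒ (1) when the site has enough points, for a ringed site (C, O) with C small and O a sheaf
of commutative rings: if at every point p of the site the stalk O_p is the zero ring or is local,
then for every object U and every section f of O over U there is a covering sieve on U on each of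
whose arrows either f or 1 - f restricts to a unit. -/
theorem result {C : Type u} [SmallCategory C] {J : GrothendieckTopology C}
    (O : Sheaf J CommRingCat.{u}) [GrothendieckTopology.HasEnoughPoints.{u} J]
    (h : ∀ p : GrothendieckTopology.Point.{u} J, Subsingleton (ModSite.stalkRing p O) ∨ IsLocalRing (ModSite.stalkRing p O))
    (U : C) (f : O.obj.obj (op U)) :
    ∃ S ∈ J U, ∀ ⦃V : C⦄ (g : V ⟶ U), S g →
        IsUnit ((O.obj.map g.op).hom f) ∨ IsUnit ((O.obj.map g.op).hom (1 - f)) := by
  obtain ⟨P, hPsmall, hP⟩ := GrothendieckTopology.HasEnoughPoints.exists_objectProperty (J := J)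
  let ι := {q : Σ V : C, (V ⟶ U) // IsUnit ((O.obj.map q.2.op).hom f) ∨
    IsUnit ((O.obj.map q.2.op).hom (1 - f))}
  let a : ∀ i : ι, i.1.1 ⟶ U := fun i => i.1.2
  refine ⟨Sieve.ofArrows _ a, ?_, ?_⟩
  · rw [hP.jointly_reflect_ofArrows_mem_of_small]
    intro Φ x
    have hloc := h Φ.obj
    have hu : IsUnit ((Φ.obj.toPresheafFiber U x O.obj).hom f) ∨
        IsUnit ((Φ.obj.toPresheafFiber U x O.obj).hom (1 - f)) := by
      rcases hloc with hs | hl
      · left
        exact @isUnit_of_subsingleton _ _ hs _
      · rcases @IsLocalRing.isUnit_or_isUnit_one_sub_self _ _ hl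
          ((Φ.obj.toPresheafFiber U x O.obj).hom f) with h1 | h1
        · left; exact h1
        · right
          rw [map_sub, map_one]
          exact h1
    rcases hu with hu | hu
    · obtain ⟨W, g, w, hw, hg⟩ := exists_isUnit_of_isUnit_germ Φ.obj O U x f hu
      exact ⟨⟨⟨W, g⟩, Or.inl hg⟩, w, hw⟩
    · obtain ⟨W, g, w, hw, hg⟩ := exists_isUnit_of_isUnit_germ Φ.obj O U x (1 - f) hu
      exact ⟨⟨⟨W, g⟩, Or.inr hg⟩, w, hw⟩
  · intro V g hg
    obtain ⟨W, k, _, ⟨i⟩, rfl⟩ := hg
    have key : ∀ r : O.obj.obj (op U), (O.obj.map (k ≫ a i).op).hom r =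
        (O.obj.map k.op).hom ((O.obj.map (a i).op).hom r) := by
      intro r
      rw [op_comp, Functor.map_comp]
      rfl
    rcases i.2 with hi | hi
    · left
      rw [key]
      exact hi.map _
    · right
      rw [key]
      exact hi.map _

end Groth.Agent.S9091
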