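import Groth.Statements.S9095
import Groth.Agent.Lib.Helper21EqCrit5

set_option autoImplicit false
universe u
open CategoryTheory Opposite
open ModSite

namespace Groth.Agent.S9095

/-- Part (1): ⇔ (2) (equational criterion of flatness), on a small ringed site (C, O) with O
commutative: an O-module F is flat (tensoring with F is exact) if and only if for every object U,
every n, all sections f₁, …, fₙ of O over U and s₁, …, sₙ of F over U with Σ fⱼ sⱼ = 0, there is a
covering sieve on U such that for each of its arrows g : V → U there exist l, sections t₁, …, t_l of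
F over V and coefficients a_{jk} in O(V) (j ≤ n, k ≤ l) with sⱼ|_V = Σ_k a_{jk} t_k for every j and
Σ_j a_{jk} fⱼ|_V = 0 for every k. -/
theorem result {C : Type u} [SmallCategory C] {J : GrothendieckTopology C}
    (O : Sheaf J CommRingCat.{u}) (F : ModSite.Mod O) :
    ModSite.IsFlat F ↔
      ∀ (U : C) (n : ℕ) (f : Fin n → O.obj.obj (op U)) (s : Fin n → ModSite.sect F U),
        ∑ j, f j • s j = 0 →
        ∃ S ∈ J U, ∀ ⦃V : C⦄ (g : V ⟶ U), S g →
          ∃ (l : ℕ) (t : Fin l → ModSite.sect F V) (a : Fin n → Fin l → O.obj.obj (op V)),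
            (∀ j, (F.val.map g.op).hom (s j) = ∑ k, a j k • t k) ∧
            (∀ k, ∑ j, a j k * (O.obj.map g.op).hom (f j) = 0) := by
  constructor
  · intro hF U n f s hrel
    obtain ⟨S, hS, H⟩ := Groth.Agent.Lib.Helper21.EqCrit.eq_crit O F hF U (m := 1) (n := n)
      (fun _ j => f j) s (fun _ => hrel)
    refine ⟨S, hS, fun V g hg => ?_⟩
    obtain ⟨l, t, a, h1, h2⟩ := H g hg
    exact ⟨l, t, a, h1, fun k => h2 0 k⟩
  · intro H
    apply Groth.Agent.Lib.Helper21.EqCrit.isFlat_of_critM_one O F
    intro U n f s hrel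
    obtain ⟨S, hS, H2⟩ := H U n (f 0) s (hrel 0)
    refine ⟨S, hS, fun V g hg => ?_⟩
    obtain ⟨l, t, a, h1, h2⟩ := H2 g hg
    refine ⟨l, t, a, h1, fun i k => ?_⟩
    have hi : i = 0 := Subsingleton.elim _ _
    rw [hi]
    exact h2 k

end Groth.Agent.S9095
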