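import Groth.Statements.S9103
import Groth.Agent.Lib.Helper21CoprodSec2
import Groth.Agent.Lib.Helper21CoprodSec3
import Groth.Agent.Lib.Helper21TypeA3

set_option autoImplicit false
universe u
open CategoryTheory Opposite
open ModSite

namespace Groth.Agent.S9103

open Groth.Agent.Lib.Helper21.CoprodSec Groth.Agent.Lib.Helper21.TypeA
  Groth.Agent.Lib.Helper23FreeOn CategoryTheory.Limits in
theorem aux {C : Type u} [SmallCategory C] {J : GrothendieckTopology C}
    (O : Sheaf J CommRingCat.{u}) (U : C)
    (hU : CohCx.IsQcObject ((presheafToSheaf J (Type u)).obj (yoneda.obj U))) {ι : Type u}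
    (f : ι → ModSite.Mod O) (x : ModSite.freeOn O U ⟶ ∐ f) :
    ∃ (t : Finset ι) (y : ∀ i, ModSite.freeOn O U ⟶ f i), x = ∑ i ∈ t, y i ≫ Sigma.ι f i := by
  have hW : HasFinSubcover J U := hasFinSubcover_of_isQcObject hU
  obtain ⟨t, z, hz⟩ := exists_finite_sum f hW (homEquiv O (∐ f) U x)
  refine ⟨t, fun i => (homEquiv O (f i) U).symm (z i), ?_⟩
  apply (homEquiv O (∐ f) U).injective
  rw [hz, homEquiv_eq O (∐ f) U (∑ i ∈ t, _), sum_val_app]
  refine Finset.sum_congr rfl fun i _ => ?_
  rw [← homEquiv_eq, homEquiv_comp, Equiv.apply_symm_apply]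

open CategoryTheory.Limits in
/-- On a small ringed site (C, O) with O commutative: let U be an object of C which is quasi-compact, in
the sense that the sheaf of sets h_U^# associated to U is a quasi-compact object of the topos. Then
the additive functor Hom_O(j_{U!}O_U, -) from O-modules to abelian groups commutes with arbitrary
direct sums (coproducts indexed by a small type). -/
theorem result {C : Type u} [SmallCategory C] {J : GrothendieckTopology C}
    (O : Sheaf J CommRingCat.{u}) (U : C)
    (hU : CohCx.IsQcObject ((presheafToSheaf J (Type u)).obj (yoneda.obj U))) (ι : Type u) :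
    PreservesColimitsOfShape (Discrete ι) (preadditiveCoyoneda.obj (op (ModSite.freeOn O U))) := by
  apply Groth.Agent.Lib.Helper21.CoprodSec.preservesColimitsOfShape_of_exists_sum
  intro f x
  obtain ⟨t, y, hy⟩ := aux O U hU f x
  exact ⟨t, y, hy⟩

end Groth.Agent.S9103
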