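import Groth.Statements.S9104
import Groth.Agent.Lib.Helper21InvF12

set_option autoImplicit false
universe u
open CategoryTheory
open ModSite

namespace Groth.Agent.S9104

/-- Part (1): for a morphism of ringed sites f : (C, O_C) → (D, O_D) between small sites with
commutative structure sheaves (only the underlying morphism of topoi is used): if (D, O_D) is a
locally ringed site then C equipped with the pulled-back sheaf of rings f⁻¹O_D is a locally ringed
site. -/
theorem result {C D : Type u} [SmallCategory C] [SmallCategory D] {J : GrothendieckTopology C}
    {K : GrothendieckTopology D} {O_C : Sheaf J CommRingCat.{u}} {O_D : Sheaf K CommRingCat.{u}}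
    (f : ModSite.RMor O_C O_D) (hD : ModSite.IsLocallyRinged K O_D) : ModSite.IsLocallyRinged J f.invRing := by
  have : CategoryTheory.Limits.PreservesFiniteLimits (Groth.Agent.Lib.Helper21.InvF.P J K f.fn) :=
    f.exact
  exact Groth.Agent.Lib.Helper21.InvF.isLocallyRinged_of_iso
    (Groth.Agent.Lib.Helper21.InvF.invIso (J := J) f.fn O_D).symm
    (Groth.Agent.Lib.Helper21.InvF.isLocallyRinged_RSh f.fn O_D hD)

end Groth.Agent.S9104
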