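import Groth.Statements.S9106
import Groth.Agent.Lib.Helper16PseudoFiltered
import Groth.Agent.Lib.Helper6AnEpsPull
-- import your own Groth.Agent.* helpers here

set_option autoImplicit false
set_option linter.style.haveILetI false
set_option linter.unusedSectionVars false
universe u
open CategoryTheory CategoryTheory.Limits
open CohSite

namespace Groth.Agent.S9106

open Groth.Agent.Lib.Helper16.PseudoFiltered CategoryTheory.Limits Opposite

theorem lan_preservesFiniteLimits_of_exact {C D : Type u} [SmallCategory C] [SmallCategory D]
    (F : C ⥤ D)
    [∀ X : Dᵒᵖ, HasExactColimitsOfShape (CostructuredArrow F.op X) AddCommGrpCat.{u}] :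
    PreservesFiniteLimits (F.op.lan : (Cᵒᵖ ⥤ AddCommGrpCat.{u}) ⥤ Dᵒᵖ ⥤ AddCommGrpCat.{u}) := by
  apply preservesFiniteLimits_of_preservesFiniteLimitsOfSize.{0}
  intro J _ _
  apply preservesLimitsOfShape_of_evaluation
    (F.op.lan : (Cᵒᵖ ⥤ AddCommGrpCat.{u}) ⥤ Dᵒᵖ ⥤ AddCommGrpCat.{u}) J
  intro K
  exact preservesLimitsOfShape_of_natIso
    (Groth.Agent.Lib.Helper6.lanEvaluationIsoColim' _ _ _).symm


/-- Let u : C ⥤ D be a functor between small sites which is cocontinuous and continuous, and assume that
C has fibre products and equalizers and that u commutes with them. Let g be the morphism of topoi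
attached to u. Then g_! on abelian sheaves, i.e. the left adjoint of restriction along u (left Kan
extension along u followed by sheafification), is exact: being a left adjoint it is right exact, and
it moreover preserves finite limits. -/
theorem result {C D : Type u} [SmallCategory C] [SmallCategory D]
    (J : GrothendieckTopology C) (K : GrothendieckTopology D) (u : C ⥤ D)
    [u.IsCocontinuous J K] [u.IsContinuous J K] [HasPullbacks C] [HasEqualizers C]
    [PreservesLimitsOfShape WalkingCospan u] [PreservesLimitsOfShape WalkingParallelPair u] :
    PreservesFiniteLimits (u.sheafPullback AddCommGrpCat.{u} J K) := by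
  haveI : PreservesLimitsOfShape WalkingSpanᵒᵖ u :=
    preservesLimitsOfShape_of_equiv walkingSpanOpEquiv.symm u
  haveI : PreservesLimitsOfShape WalkingParallelPairᵒᵖ u :=
    preservesLimitsOfShape_of_equiv walkingParallelPairOpEquiv u
  haveI : PreservesColimitsOfShape WalkingSpan u.op := preservesColimitsOfShape_op _ _
  haveI : PreservesColimitsOfShape WalkingParallelPair u.op := preservesColimitsOfShape_op _ _
  haveI : ∀ d : Dᵒᵖ, HasPushouts (CostructuredArrow u.op d) := fun d => inferInstance
  haveI : ∀ d : Dᵒᵖ, HasCoequalizers (CostructuredArrow u.op d) := fun d => inferInstance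
  haveI : ∀ d : Dᵒᵖ, HasExactColimitsOfShape (CostructuredArrow u.op d) AddCommGrpCat.{u} :=
    fun d => inferInstance
  have h := lan_preservesFiniteLimits_of_exact u
  exact Functor.sheafPullbackConstruction.preservesFiniteLimits u AddCommGrpCat.{u} J K

end Groth.Agent.S9106
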