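import Groth.Statements.S9109
-- import your own Groth.Agent.* helpers here

set_option autoImplicit false
set_option linter.style.haveILetI false
set_option linter.unusedSectionVars false
universe u
open CategoryTheory CategoryTheory.Limits
open CohSite

namespace Groth.Agent.S9109

theorem epi_piMap {ι : Type u} {M N : AddCommGrpCat.{u}} (f : M ⟶ N) [hf : Epi f] :
    Epi (Limits.Pi.map (fun _ : ι => f)) := by
  haveI : PreservesFiniteColimits (lim : (Discrete ι ⥤ AddCommGrpCat.{u}) ⥤ AddCommGrpCat.{u}) :=
    inferInstance
  haveI : ∀ X, Epi ((Discrete.natTrans (F := Discrete.functor (fun _ : ι => M))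
      (G := Discrete.functor (fun _ : ι => N)) (fun _ => f)).app X) := fun _ => hf
  haveI : Epi (Discrete.natTrans (F := Discrete.functor (fun _ : ι => M))
      (G := Discrete.functor (fun _ : ι => N)) (fun _ => f)) := NatTrans.epi_of_epi_app _
  exact inferInstanceAs (Epi (lim.map (Discrete.natTrans (F := Discrete.functor (fun _ : ι => M))
      (G := Discrete.functor (fun _ : ι => N)) (fun _ => f))))


/-- Part (1): on a small site (C, J) with a point p: the skyscraper functor p_* from abelian groups to
abelian sheaves on C (right adjoint to the stalk functor at p; its value on A is the sheaf U ↦ ∏_{x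
∈ p⁻¹U} A) is exact. As a right adjoint it preserves limits; the statement here is that it also
preserves finite colimits. -/
theorem result {C : Type u} [SmallCategory C] {J : GrothendieckTopology C}
    (p : GrothendieckTopology.Point.{u} J) :
    PreservesFiniteColimits (p.skyscraperSheafFunctor (A := AddCommGrpCat.{u})) := by
  haveI : (p.skyscraperSheafFunctor (A := AddCommGrpCat.{u})).PreservesEpimorphisms :=
    ⟨fun {M N} f hf => by
      haveI : ∀ X, Epi (((p.skyscraperSheafFunctor (A := AddCommGrpCat.{u})).map f).hom.app X) := by
        intro X
        exact epi_piMap f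
      haveI : Epi ((p.skyscraperSheafFunctor (A := AddCommGrpCat.{u})).map f).hom :=
        NatTrans.epi_of_epi_app _
      exact Sheaf.Hom.epi_of_presheaf_epi (J := J) (A := AddCommGrpCat.{u})
        ((p.skyscraperSheafFunctor (A := AddCommGrpCat.{u})).map f)⟩
  haveI : PreservesLimitsOfSize.{0, 0} (p.skyscraperSheafFunctor (A := AddCommGrpCat.{u})) :=
    (p.skyscraperSheafAdjunction).rightAdjoint_preservesLimits
  haveI : PreservesFiniteLimits (p.skyscraperSheafFunctor (A := AddCommGrpCat.{u})) :=
    PreservesLimitsOfSize.preservesFiniteLimits _
  haveI : (p.skyscraperSheafFunctor (A := AddCommGrpCat.{u})).Additive :=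
    Functor.additive_of_preserves_binary_products _
  haveI : (p.skyscraperSheafFunctor (A := AddCommGrpCat.{u})).PreservesHomology :=
    Functor.preservesHomology_of_preservesEpis_and_kernels _
  exact Functor.preservesFiniteColimits_of_preservesHomology _

end Groth.Agent.S9109
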