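import Groth.Statements.S9113
import Groth.Agent.Lib.Helper21ExtZeroStalk
import Groth.Agent.Lib.Helper21ExtZero4

set_option autoImplicit false
universe u
open CategoryTheory
open ModSite

namespace Groth.Agent.S9113

open Groth.Agent.Lib.Helper21.ModTensor2 Groth.Agent.Lib.Helper21.ExtZeroS
  Groth.Agent.Lib.Helper21.ExtZero Groth.Agent.Lib.Helper21.ExtZeroStalk

open CategoryTheory.Limits in
/-- On a small ringed site (C, O) with O commutative: let U be an object, G an O_U-module on the
localised site C/U and p a point of the site. The points of C/U lying over p correspond to the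
elements x of the fibre of p at U, and the stalk of the extension by zero j_{U!}G at p is isomorphic
to the direct sum over these points of the stalks of G. Stated for the underlying abelian groups,
existence of an isomorphism only. -/
theorem result {C : Type u} [SmallCategory C] {J : GrothendieckTopology C}
    (O : Sheaf J CommRingCat.{u}) (U : C) (G : ModSite.Mod (O.over U))
    (p : GrothendieckTopology.Point.{u} J) :
    Nonempty (ModSite.stalkAb p ((ModSite.extZero O U).obj G) ≅ ∐ fun x : p.fiber.obj U => ModSite.stalkAb (p.over x) G) := by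
  let e1 : ModSite.stalkAb p ((ModSite.extZero O U).obj G) ≅
      ModSite.stalkAb p ((jShriek O U).obj G) :=
    (SheafOfModules.toSheaf (ModSite.ringSh O) ⋙ p.sheafFiber (A := AddCommGrpCat.{u})).mapIso
      ((extZeroIso O U).app G)
  let P : PM O := (Es O U).obj ((fgt (O.over U)).obj G)
  have hW : J.W ((PresheafOfModules.toPresheaf _).map (eta O P)) := W_eta P
  have hiso : IsIso ((p.presheafFiber (A := AddCommGrpCat.{u})).map
      ((PresheafOfModules.toPresheaf _).map (eta O P))) :=
    GrothendieckTopology.Point.W_isInvertedBy_presheafFiber' p _ hW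
  let e2 : (p.presheafFiber (A := AddCommGrpCat.{u})).obj P.presheaf ≅
      ModSite.stalkAb p ((jShriek O U).obj G) :=
    @asIso _ _ _ _ _ hiso
  let e3 := stalkIso (R := O.obj ⋙ forget₂ CommRingCat.{u} RingCat.{u}) (U := U)
    ((fgt (O.over U)).obj G) p
  exact ⟨e1 ≪≫ e2.symm ≪≫ e3⟩

end Groth.Agent.S9113
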