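import Groth.Statements.S9121
import Mathlib

set_option autoImplicit false
universe u
open CategoryTheory CategoryTheory.Limits
open CohSite

namespace Groth.Agent.S9121

/-- Part (1): for the morphism of topoi f : Sh(C) → Sh(D) attached to a continuous functor u : D ⥤ C
between small sites whose induced pullback of sheaves of sets is exact (f_* is restriction along u):
if f_* transforms epimorphisms of sheaves of sets into epimorphisms, then f_* on abelian sheaves is
exact; being a right adjoint it preserves finite limits, and the statement is that it also preserves
finite colimits. -/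
theorem result {C D : Type u} [SmallCategory C] [SmallCategory D]
    (J : GrothendieckTopology C) (K : GrothendieckTopology D) (u : D ⥤ C) [u.IsContinuous K J]
    [PreservesFiniteLimits (u.sheafPullback (Type u) K J)]
    [(u.sheafPushforwardContinuous (Type u) K J).PreservesEpimorphisms] :
    PreservesFiniteColimits (u.sheafPushforwardContinuous AddCommGrpCat.{u} K J) := by
  let F := u.sheafPushforwardContinuous AddCommGrpCat.{u} K J
  let adj := u.sheafAdjunctionContinuous AddCommGrpCat.{u} K J
  haveI : F.Additive := inferInstanceAs ((CohSite.push J K u).Additive)
  haveI : PreservesFiniteLimits F :=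
    haveI : PreservesLimitsOfSize.{0, 0} F := adj.rightAdjoint_preservesLimits
    PreservesLimitsOfSize.preservesFiniteLimits.{0, 0} _
  apply ((Functor.preservesFiniteColimits_tfae F).out 0 3).1
  intro S hS
  have hL := (Functor.preservesFiniteLimits_iff_forall_exact_map_and_mono F).1 inferInstance
  refine ⟨(hL S hS).1, ?_⟩
  haveI := hS.epi_g
  have h1 : Epi ((sheafCompose J (forget AddCommGrpCat.{u})).map S.g) := by
    have hg : Epi S.g := hS.epi_g
    rw [← Sheaf.isLocallySurjective_iff_epi'] at hg
    rw [← Sheaf.isLocallySurjective_iff_epi]
    exact (Presheaf.isLocallySurjective_iff_whisker_forget _ S.g.hom).mp hg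
  have h2 : Epi ((u.sheafPushforwardContinuous (Type u) K J).map
      ((sheafCompose J (forget AddCommGrpCat.{u})).map S.g)) := inferInstance
  rw [← Sheaf.isLocallySurjective_iff_epi] at h2
  rw [← Sheaf.isLocallySurjective_iff_epi']
  exact (Presheaf.isLocallySurjective_iff_whisker_forget _ (F.map S.g).hom).mpr h2

end Groth.Agent.S9121
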