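import Groth.Statements.S9122
import Groth.Agent.Lib.Helper21Chaotic3

set_option autoImplicit false
universe u
open CategoryTheory Opposite
open ModSite

namespace Groth.Agent.S9122

open Groth.Agent.Lib.Helper21.Chaotic CategoryTheory.Limits Opposite

theorem isIso_bc_of_isQuasicoherent {C : Type u} [SmallCategory C]
    (O : Sheaf (⊥ : GrothendieckTopology C) CommRingCat.{u}) (F : ModSite.Mod O)
    (hF : SheafOfModules.IsQuasicoherent (R := ModSite.ringSh O) F) (U V : C) (g : U ⟶ V) :
    IsIso (bc O g F) := by
  obtain ⟨q⟩ := hF.nonempty_quasicoherentData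
  have h1 : Sieve.ofObjects q.X V = ⊤ := isChaotic_bot V _ (q.coversTop V)
  have h2 : (Sieve.ofObjects q.X V).arrows (𝟙 V) := by rw [h1]; trivial
  obtain ⟨i, ⟨a⟩⟩ := (Sieve.mem_ofObjects_iff _ _).1 h2
  let P := q.presentation i
  have hK : IsChaotic ((⊥ : GrothendieckTopology C).over (q.X i)) :=
    isChaotic_over isChaotic_bot _
  have := isIso_bc_of_isColimit (O.over (q.X i)) hK
    (Over.homMk g rfl : Over.mk (g ≫ a) ⟶ Over.mk a) (M := F.over (q.X i)) _ _ _ P.isColimit
  exact this

theorem nonempty_presentation_over {C : Type u} [SmallCategory C]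
    (O : Sheaf (⊥ : GrothendieckTopology C) CommRingCat.{u}) (F : ModSite.Mod O)
    (h : ∀ (U V : C) (g : U ⟶ V), IsIso (bc O g F)) (V : C) :
    Nonempty (SheafOfModules.Presentation (F.over V)) := by
  have hK : IsChaotic ((⊥ : GrothendieckTopology C).over V) := isChaotic_over isChaotic_bot _
  refine nonempty_presentation (O.over V) (Over.mkIdTerminal (X := V)) (F.over V) hK ?_
  intro W g
  have := h W.left V g.left
  exact this

noncomputable def qcData {C : Type u} [SmallCategory C]
    (O : Sheaf (⊥ : GrothendieckTopology C) CommRingCat.{u}) (F : ModSite.Mod O)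
    (h : ∀ (U V : C) (g : U ⟶ V), IsIso (bc O g F)) :
    SheafOfModules.QuasicoherentData.{u} (R := ModSite.ringSh O) F where
  I := C
  X := fun V => V
  coversTop := fun V => GrothendieckTopology.covering_of_eq_top _ (by
    rw [Sieve.ext_iff]
    intro Y f
    simp only [Sieve.top_apply, iff_true]
    exact (Sieve.mem_ofObjects_iff _ _).2 ⟨V, ⟨f⟩⟩)
  presentation := fun V => (nonempty_presentation_over O F h V).some

theorem isQuasicoherent_of_isIso_bc {C : Type u} [SmallCategory C]
    (O : Sheaf (⊥ : GrothendieckTopology C) CommRingCat.{u}) (F : ModSite.Mod O)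
    (h : ∀ (U V : C) (g : U ⟶ V), IsIso (bc O g F)) :
    SheafOfModules.IsQuasicoherent (R := ModSite.ringSh O) F :=
  (qcData O F h).isQuasicoherent

/-- Let C be a small category endowed with the chaotic topology (only maximal sieves are covering), O a
sheaf of commutative rings on it and F an O-module. Then F is quasi-coherent exactly when, for each
morphism g : U → V of C, the base-change map F(V) ⊗_{O(V)} O(U) → F(U), i.e. the map out of the
extension of scalars of F(V) along O(V) → O(U) that is adjoint to the restriction map F(V) → F(U),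
is an isomorphism. -/
theorem result {C : Type u} [SmallCategory C]
    (O : Sheaf (⊥ : GrothendieckTopology C) CommRingCat.{u}) (F : ModSite.Mod O) :
    SheafOfModules.IsQuasicoherent (R := ModSite.ringSh O) F ↔
      ∀ (U V : C) (g : U ⟶ V), IsIso
        (((ModuleCat.extendRestrictScalarsAdj (O.obj.map g.op).hom).homEquiv
          (F.val.obj (op V) : ModuleCat.{u} (O.obj.obj (op V))) (F.val.obj (op U) : ModuleCat.{u} (O.obj.obj (op U)))).symm
          (F.val.map g.op)) := by
  constructor
  · intro hF U V g
    exact isIso_bc_of_isQuasicoherent O F hF U V g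
  · intro h
    exact isQuasicoherent_of_isIso_bc O F h

end Groth.Agent.S9122
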