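import Groth.Statements.S9123
import Groth.Agent.S9122

set_option autoImplicit false
universe u
open CategoryTheory CategoryTheory.Limits Opposite
open ModSite

namespace Groth.Agent.S9123

open Groth.Agent.Lib.Helper21.Chaotic CategoryTheory.Limits Opposite

section
variable {C : Type u} [SmallCategory C]
  (O : Sheaf (⊥ : GrothendieckTopology C) CommRingCat.{u})

theorem qc_iff (F : ModSite.Mod O) :
    SheafOfModules.IsQuasicoherent (R := ModSite.ringSh O) F ↔
      ∀ (U V : C) (g : U ⟶ V), IsIso (bc O g F) :=
  ⟨fun hF U V g => Groth.Agent.S9122.isIso_bc_of_isQuasicoherent O F hF U V g,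
    fun h => Groth.Agent.S9122.isQuasicoherent_of_isIso_bc O F h⟩

theorem pfc_evO (W : C) : PreservesFiniteColimits (evO O W) := by
  haveI := preservesColimits_evO O isChaotic_bot W
  exact PreservesColimitsOfSize.preservesFiniteColimits.{u, u} _

theorem pfc_PhiG {U V : C} (g : U ⟶ V) : PreservesFiniteColimits (PhiG O g) := by
  haveI := preservesColimits_PhiG O isChaotic_bot g
  exact PreservesColimitsOfSize.preservesFiniteColimits.{u, u} _

theorem pfl_PhiG (hO : ∀ (U V : C) (g : U ⟶ V), (O.obj.map g.op).hom.Flat) {U V : C}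
    (g : U ⟶ V) : PreservesFiniteLimits (PhiG O g) := by
  haveI := ModuleCat.preservesFiniteLimits_extendScalars_of_flat (hO U V g)
  haveI : PreservesFiniteLimits (evO O V) :=
    inferInstanceAs (PreservesFiniteLimits (SheafOfModules.evaluation (ModSite.ringSh O) (op V)))
  exact comp_preservesFiniteLimits _ _

theorem pfl_evO (W : C) : PreservesFiniteLimits (evO O W) :=
  inferInstanceAs (PreservesFiniteLimits (SheafOfModules.evaluation (ModSite.ringSh O) (op W)))

theorem qc_cokernel {F G : ModSite.Mod O} (α : F ⟶ G)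
    (hF : SheafOfModules.IsQuasicoherent (R := ModSite.ringSh O) F)
    (hG : SheafOfModules.IsQuasicoherent (R := ModSite.ringSh O) G) :
    SheafOfModules.IsQuasicoherent (R := ModSite.ringSh O) (cokernel α) := by
  rw [qc_iff] at hF hG ⊢
  intro U V g
  haveI := pfc_evO O U
  haveI := pfc_PhiG O g
  refine isIso_app_of_isColimit (beta O g) (colimit.cocone (parallelPair α 0))
    (isColimitOfPreserves (PhiG O g) (colimit.isColimit _))
    (isColimitOfPreserves (evO O U) (colimit.isColimit _)) ?_
  rintro (_ | _)
  · exact hF U V g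
  · exact hG U V g

theorem qc_kernel (hO : ∀ (U V : C) (g : U ⟶ V), (O.obj.map g.op).hom.Flat)
    {F G : ModSite.Mod O} (α : F ⟶ G)
    (hF : SheafOfModules.IsQuasicoherent (R := ModSite.ringSh O) F)
    (hG : SheafOfModules.IsQuasicoherent (R := ModSite.ringSh O) G) :
    SheafOfModules.IsQuasicoherent (R := ModSite.ringSh O) (kernel α) := by
  rw [qc_iff] at hF hG ⊢
  intro U V g
  haveI := pfl_evO O U
  haveI := pfl_PhiG O hO g
  refine isIso_app_of_isLimit (beta O g) (limit.cone (parallelPair α 0))
    (isLimitOfPreserves (PhiG O g) (limit.isLimit _))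
    (isLimitOfPreserves (evO O U) (limit.isLimit _)) ?_
  rintro (_ | _)
  · exact hF U V g
  · exact hG U V g

theorem qc_ext (hO : ∀ (U V : C) (g : U ⟶ V), (O.obj.map g.op).hom.Flat)
    (S : ShortComplex (ModSite.Mod O)) (hS : S.ShortExact)
    (h1 : SheafOfModules.IsQuasicoherent (R := ModSite.ringSh O) S.X₁)
    (h3 : SheafOfModules.IsQuasicoherent (R := ModSite.ringSh O) S.X₃) :
    SheafOfModules.IsQuasicoherent (R := ModSite.ringSh O) S.X₂ := by
  rw [qc_iff] at h1 h3 ⊢
  intro U V g
  haveI := pfl_evO O U
  haveI := pfl_PhiG O hO g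
  haveI := pfc_evO O U
  haveI := pfc_PhiG O g
  have e1 : (S.map (PhiG O g)).ShortExact := hS.map_of_exact (PhiG O g)
  have e2 : (S.map (evO O U)).ShortExact := hS.map_of_exact (evO O U)
  let φ : S.map (PhiG O g) ⟶ S.map (evO O U) := S.mapNatTrans (beta O g)
  haveI : IsIso φ.τ₁ := h1 U V g
  haveI : IsIso φ.τ₃ := h3 U V g
  exact ShortComplex.isIso₂_of_shortExact_of_isIso₁₃ φ e1 e2
end

/-- Let C be a small category endowed with the chaotic topology (only maximal sieves are covering) and O
a sheaf of commutative rings on it such that for every morphism U → V of C the restriction map O(V)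
→ O(U) is a flat ring homomorphism. Then the quasi-coherent O-modules form a weak Serre subcategory
of Mod(O): kernels and cokernels of morphisms between quasi-coherent modules are quasi-coherent, and
in a short exact sequence 0 → F₁ → F₂ → F₃ → 0 with F₁ and F₃ quasi-coherent, F₂ is quasi-coherent. -/
theorem result {C : Type u} [SmallCategory C]
    (O : Sheaf (⊥ : GrothendieckTopology C) CommRingCat.{u})
    (hO : ∀ (U V : C) (g : U ⟶ V), (O.obj.map g.op).hom.Flat) :
    (∀ (F G : ModSite.Mod O) (α : F ⟶ G), SheafOfModules.IsQuasicoherent (R := ModSite.ringSh O) F → SheafOfModules.IsQuasicoherent (R := ModSite.ringSh O) G →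
        SheafOfModules.IsQuasicoherent (R := ModSite.ringSh O) (kernel α) ∧ SheafOfModules.IsQuasicoherent (R := ModSite.ringSh O) (cokernel α)) ∧
    (∀ (S : ShortComplex (ModSite.Mod O)), S.ShortExact → SheafOfModules.IsQuasicoherent (R := ModSite.ringSh O) S.X₁ → SheafOfModules.IsQuasicoherent (R := ModSite.ringSh O) S.X₃ → SheafOfModules.IsQuasicoherent (R := ModSite.ringSh O) S.X₂) := by
  refine ⟨fun F G α hF hG => ⟨qc_kernel O hO α hF hG, qc_cokernel O α hF hG⟩,
    fun S hS h1 h3 => qc_ext O hO S hS h1 h3⟩

end Groth.Agent.S9123
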