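import Groth.Statements.S9127
import Groth.Agent.Lib.Helper13Cat
-- import your own Groth.Agent.* helpers here

set_option autoImplicit false
universe u
open CAlg

namespace Groth.Agent.S9127

/-- A Noetherian ring is catenary if and only if its quotient by every minimal prime is catenary. -/
theorem result (R : Type u) [CommRing R] [IsNoetherianRing R] :
    CAlg.IsCatenary R ↔ ∀ p ∈ minimalPrimes R, CAlg.IsCatenary (R ⧸ p) := by
  constructor
  · intro h p _
    exact Groth.Agent.Helper13Cat.isCatenary_of_surjective (Ideal.Quotient.mk p)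
      Ideal.Quotient.mk_surjective h
  · intro h
    refine Groth.Agent.Helper13Cat.isCatenary_of_cover ?_
    intro P Q hPQ
    obtain ⟨p, hp, hpP⟩ := Ideal.exists_minimalPrimes_le (bot_le : (⊥ : Ideal R) ≤ P.asIdeal)
    refine ⟨R ⧸ p, inferInstance,
      Groth.Agent.Helper13Cat.embOfIsEmbedding (Ideal.Quotient.mk p)
        (PrimeSpectrum.isClosedEmbedding_comap_of_surjective _ _
          Ideal.Quotient.mk_surjective).isEmbedding,
      Groth.Agent.Helper13Cat.ordConnected_range_surjective _ Ideal.Quotient.mk_surjective,
      h p hp, ?_, ?_⟩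
    · refine (Groth.Agent.Helper13Cat.mem_range_surjective_iff (Ideal.Quotient.mk p)
        Ideal.Quotient.mk_surjective P).mpr ?_
      rw [Ideal.mk_ker]
      exact hpP
    · refine (Groth.Agent.Helper13Cat.mem_range_surjective_iff (Ideal.Quotient.mk p)
        Ideal.Quotient.mk_surjective Q).mpr ?_
      rw [Ideal.mk_ker]
      exact hpP.trans hPQ

end Groth.Agent.S9127
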