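import Groth.Statements.S9128
import Mathlib.RingTheory.KrullDimension.NonZeroDivisors
import Mathlib.RingTheory.Ideal.KrullsHeightTheorem
import Mathlib.Tactic
-- import your own Groth.Agent.* helpers here

set_option autoImplicit false
universe u
open CAlg

namespace Groth.Agent.S9128

section order
open Order
variable {α : Type*} [PartialOrder α]

/-- The `LTSeries` underlying a `CovBy`-series. -/
def toLT (t : RelSeries {(a, b) : α × α | a ⋖ b}) : LTSeries α :=
  LTSeries.mk t.length t.toFun
    (Fin.strictMono_iff_lt_succ.mpr (fun i => (show t i.castSucc ⋖ t i.succ from t.step i).lt))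

theorem height_lt_top' [FiniteDimensionalOrder α] (x : α) : height x < ⊤ := by
  rw [← WithBot.coe_lt_coe]
  apply lt_of_le_of_lt (height_le_krullDim x)
  simpa using krullDim_ne_top_of_finiteDimensionalOrder.lt_top

theorem exists_covBy_series [FiniteDimensionalOrder α] (x : α) :
    ∃ t : RelSeries {(a, b) : α × α | a ⋖ b},
      t.head = x ∧ (t.length : ℕ∞) = coheight x ∧ IsMax t.last := by
  haveI : WellFoundedLT α :=
    StrictMono.wellFoundedLT (f := height) (fun x y h => height_strictMono h (height_lt_top' x))
  haveI : WellFoundedGT α :=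
    StrictAnti.wellFoundedGT (f := coheight)
      (fun x y h => coheight_strictAnti h (coheight_lt_top y))
  obtain ⟨n, hn⟩ := ENat.ne_top_iff_exists.mp (coheight_lt_top x).ne
  obtain ⟨s, hs, hl⟩ := exists_series_of_coheight_eq_coe x hn.symm
  obtain ⟨t, i, hti, hi0, hil⟩ := s.exists_relSeries_covBy
  have hhead : t.head = x := by
    rw [← hs]
    have := congrFun hti 0
    simp only [Function.comp_apply, hi0] at this
    exact this
  have hle : (toLT t).length ≤ coheight x := by
    have h1 := length_le_coheight_head (p := toLT t)
    have h2 : (toLT t).head = x := hhead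
    rw [h2] at h1
    exact h1
  have hlen1 : s.length ≤ t.length := by
    have := Fintype.card_le_of_embedding i
    simpa using this
  have hlen : t.length = n := by
    have h3 : (t.length : ℕ∞) ≤ n := by rw [hn]; exact hle
    have h4 : t.length ≤ n := by exact_mod_cast h3
    omega
  refine ⟨t, hhead, by rw [hlen, hn], ?_⟩
  by_contra hmax
  obtain ⟨y, hy⟩ := not_isMax_iff.mp hmax
  have h5 := length_le_coheight_head (p := (toLT t).snoc y hy)
  rw [RelSeries.head_snoc] at h5
  have h2 : (toLT t).head = x := hhead
  rw [h2, ← hn] at h5
  have h6 : ((toLT t).snoc y hy).length = n + 1 := by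
    rw [RelSeries.snoc_length]
    show t.length + 1 = n + 1
    rw [hlen]
  rw [h6] at h5
  have : n + 1 ≤ n := by exact_mod_cast h5
  omega

theorem c_head_eq (c : α → ℕ∞) (hc : ∀ a b, a ⋖ b → c a = c b + 1) (s : LTSeries α)
    (hs : ∀ i : Fin s.length, s i.castSucc ⋖ s i.succ) :
    c s.head = c s.last + s.length := by
  have key : ∀ (k : ℕ) (hk : k < s.length + 1), c (s 0) = c (s ⟨k, hk⟩) + k := by
    intro k
    induction k with
    | zero => intro hk; simp
    | succ k ih =>
      intro hk
      have h1 := ih (by omega)
      have h2 := hc _ _ (hs ⟨k, by omega⟩)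
      have e1 : (Fin.castSucc (⟨k, by omega⟩ : Fin s.length)) = ⟨k, by omega⟩ := rfl
      have e2 : (Fin.succ (⟨k, by omega⟩ : Fin s.length)) = ⟨k + 1, hk⟩ := rfl
      rw [e1, e2] at h2
      rw [h1, h2]
      push_cast
      rw [add_assoc, add_comm 1 (k : ℕ∞)]
  exact key s.length (by omega)

end order

/-- A Noetherian local ring A is catenary if and only if the assignment sending a prime p to the Krull
dimension of A/p is a dimension function on Spec A, i.e. it decreases strictly along strict
inclusions of primes and drops by exactly one along inclusions with no prime strictly in between. -/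
theorem result (A : Type u) [CommRing A] [IsNoetherianRing A]
    [IsLocalRing A] :
    CAlg.IsCatenary A ↔
      ∀ p q : PrimeSpectrum A, p < q →
        ringKrullDim (A ⧸ q.asIdeal) < ringKrullDim (A ⧸ p.asIdeal) ∧
          (p ⋖ q → ringKrullDim (A ⧸ p.asIdeal) = ringKrullDim (A ⧸ q.asIdeal) + 1) := by
  open Order in
  have hδ : ∀ p : PrimeSpectrum A,
      ringKrullDim (A ⧸ p.asIdeal) = ((coheight p : ℕ∞) : WithBot ℕ∞) := by
    intro p
    rw [ringKrullDim_quotient, coheight_eq_krullDim_Ici]
    have : PrimeSpectrum.zeroLocus (p.asIdeal : Set A) = Set.Ici p := by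
      ext x
      simp only [PrimeSpectrum.mem_zeroLocus, Set.mem_Ici]
      exact Iff.rfl
    rw [this]
  have hfin : ∀ p : PrimeSpectrum A, Order.coheight p < ⊤ := fun p => Order.coheight_lt_top p
  have hmaxpt : ∀ z : PrimeSpectrum A, IsMax z → z = IsLocalRing.closedPoint A := by
    intro z hz
    have hle : z ≤ IsLocalRing.closedPoint A := IsLocalRing.le_maximalIdeal z.2.ne_top
    exact le_antisymm hle (hz hle)
  constructor
  · intro hcat p q hpq
    refine ⟨?_, ?_⟩
    · rw [hδ, hδ, WithBot.coe_lt_coe]
      exact Order.coheight_strictAnti hpq (hfin q)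
    · intro hcov
      rw [hδ, hδ]
      obtain ⟨tp, htp1, htp2, htp3⟩ := exists_covBy_series p
      obtain ⟨tq, htq1, htq2, htq3⟩ := exists_covBy_series q
      have hrel : (p, tq.head) ∈ {(a, b) : PrimeSpectrum A × PrimeSpectrum A | a ⋖ b} := by
        rw [htq1]; exact hcov
      have hlen := hcat.2 (toLT tp) (toLT (tq.cons p hrel))
        (by show tp.head = (tq.cons p hrel).head
            rw [htp1, RelSeries.head_cons])
        (by show tp.last = (tq.cons p hrel).last
            rw [RelSeries.last_cons, hmaxpt _ htp3, hmaxpt _ htq3])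
        (fun i => tp.step i) (fun i => (tq.cons p hrel).step i)
      have hlen' : tp.length = tq.length + 1 := by
        have : (toLT (tq.cons p hrel)).length = tq.length + 1 := by
          show (tq.cons p hrel).length = tq.length + 1
          rw [RelSeries.cons_length]
        rw [← this]
        exact hlen
      rw [← htp2, ← htq2, hlen']
      push_cast
      rfl
  · intro h
    have hc : ∀ a b : PrimeSpectrum A, a ⋖ b → Order.coheight a = Order.coheight b + 1 := by
      intro a b hab
      have := (h a b hab.lt).2 hab
      rw [hδ, hδ] at this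
      exact_mod_cast this
    refine ⟨?_, ?_⟩
    · intro p q _
      obtain ⟨n, hn⟩ := ENat.ne_top_iff_exists.mp (hfin p).ne
      refine ⟨n, fun s hs _ => ?_⟩
      have h1 := Order.length_le_coheight_head (p := s)
      rw [hs, ← hn] at h1
      exact_mod_cast h1
    · intro s t hst hst' hs ht
      have h1 := c_head_eq Order.coheight hc s hs
      have h2 := c_head_eq Order.coheight hc t ht
      rw [hst, hst', h2] at h1
      have h3 := ENat.add_right_injective_of_ne_top (hfin t.last).ne h1
      exact_mod_cast h3.symm

end Groth.Agent.S9128
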