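import Groth.Statements.S9129
import Groth.Agent.Lib.Helper28DepthFlat2
-- import your own Groth.Agent.* helpers here

set_option autoImplicit false
universe u
open CAlg

namespace Groth.Agent.S9129

open Groth.Agent.Lib.Helper28

/-- Suppose R → S is a flat local homomorphism between Noetherian local rings, with R Cohen–Macaulay.
Assume either that S is finite over R or that the Krull dimension of S is at most that of R. Then
the two rings have equal dimension and S is itself Cohen–Macaulay. -/
theorem result (R S : Type u) [CommRing R] [CommRing S]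
    [LocCoh.IsCohenMacaulayLocalRing R] [IsNoetherianRing S] [IsLocalRing S] [Algebra R S]
    [IsLocalHom (algebraMap R S)] [Module.Flat R S]
    (h : Module.Finite R S ∨ ringKrullDim S ≤ ringKrullDim R) :
    LocCoh.IsCohenMacaulayLocalRing S ∧ ringKrullDim R = ringKrullDim S := by
  have hJ : (IsLocalRing.maximalIdeal R).map (algebraMap R S) ≤ IsLocalRing.maximalIdeal S :=
    IsLocalRing.map_maximalIdeal_le (algebraMap R S)
  have hadd := height_maximalIdeal_eq_add (R := R) (S := S)
  have hmin : IsLocalRing.maximalIdeal S ∈
      ((IsLocalRing.maximalIdeal R).map (algebraMap R S)).minimalPrimes := by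
    rcases h with hfin | hdim
    · refine ⟨⟨inferInstance, hJ⟩, ?_⟩
      rintro q ⟨hq, hJq⟩ -
      have h1 : IsLocalRing.maximalIdeal R ≤ q.comap (algebraMap R S) :=
        Ideal.map_le_iff_le_comap.mp hJq
      have h2 : q.comap (algebraMap R S) = IsLocalRing.maximalIdeal R :=
        ((IsLocalRing.maximalIdeal.isMaximal R).eq_of_le (Ideal.comap_ne_top _ hq.ne_top) h1).symm
      have h3 : (q.comap (algebraMap R S)).IsMaximal := h2 ▸ IsLocalRing.maximalIdeal.isMaximal R
      have h4 : q.IsMaximal := Ideal.isMaximal_of_isIntegral_of_isMaximal_comap q h3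
      exact le_of_eq (IsLocalRing.eq_maximalIdeal h4).symm
    · rw [← height_map_mk_eq_zero_iff _ hJ]
      rw [← IsLocalRing.maximalIdeal_height_eq_ringKrullDim,
        ← IsLocalRing.maximalIdeal_height_eq_ringKrullDim, WithBot.coe_le_coe] at hdim
      rw [hadd] at hdim
      have hne : (IsLocalRing.maximalIdeal R).height ≠ ⊤ := Ideal.height_ne_top_of_isPrime
      have h5 : (IsLocalRing.maximalIdeal R).height + ((IsLocalRing.maximalIdeal S).map
          (Ideal.Quotient.mk ((IsLocalRing.maximalIdeal R).map (algebraMap R S)))).height ≤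
          (IsLocalRing.maximalIdeal R).height + 0 := by rwa [add_zero]
      exact nonpos_iff_eq_zero.mp ((ENat.add_le_add_iff_left hne).mp h5)
  have hz := (height_map_mk_eq_zero_iff _ hJ).mpr hmin
  rw [hz, add_zero] at hadd
  have hdimeq : ringKrullDim R = ringKrullDim S := by
    rw [← IsLocalRing.maximalIdeal_height_eq_ringKrullDim,
      ← IsLocalRing.maximalIdeal_height_eq_ringKrullDim, hadd]
  have hdepth := depth_eq_depth_add_depth_fibre (R := R) (S := S)
  rw [depth_quotient_eq_zero_of_mem_minimalPrimes _ hmin, add_zero] at hdepth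
  refine ⟨⟨?_⟩, hdimeq⟩
  rw [Module.supportDim_self_eq_ringKrullDim, ← hdimeq, ← Module.supportDim_self_eq_ringKrullDim,
    hdepth]
  exact LocCoh.IsCohenMacaulayLocalRing.supportDim_eq_depth

end Groth.Agent.S9129
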