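import Groth.Statements.S9130
import Groth.Agent.Lib.Helper4DimFormulaC

set_option autoImplicit false
universe u
open CAlg

namespace Groth.Agent.S9130

/-- Let A ⊆ B be domains with B of finite type over A and A Noetherian, and assume every element of B is
algebraic over A. For a height-one prime p of A, only finitely many primes of B lie over p and each
of them has height one. (The published statement assumes that Frac(B) is finite over Frac(A); this
row assumes B algebraic over A, which is equivalent for a finite type extension of domains.) -/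
theorem result (A B : Type u) [CommRing A] [IsDomain A]
    [IsNoetherianRing A] [CommRing B] [IsDomain B] [Algebra A B] [FaithfulSMul A B]
    [Algebra.FiniteType A B] [Algebra.IsAlgebraic A B] (p : Ideal A) [p.IsPrime]
    (hp : p.height = 1) :
    (p.primesOver B).Finite ∧ ∀ q ∈ p.primesOver B, q.height = 1 := by
  classical
  haveI : IsNoetherianRing B := Algebra.FiniteType.isNoetherianRing A B
  have hpbot : p ≠ ⊥ := Ideal.ne_bot_of_height_eq_one hp
  -- every prime over `p` has height one
  have hht : ∀ q ∈ p.primesOver B, q.height = 1 := by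
    intro q hq
    haveI : q.IsPrime := hq.1
    haveI : q.LiesOver p := hq.2
    have h := Groth.Agent.Lib.Helper4.DimFormula.height_add_trdeg_le A B p q
    have h0 : Algebra.trdeg A B = 0 := _root_.trdeg_eq_zero
    rw [h0, add_zero, hp] at h
    have h1 : (q.height : Cardinal.{u}) ≤ ((1 : ℕ∞) : Cardinal.{u}) :=
      le_trans (le_add_right le_rfl) h
    have h2 : q.height ≤ 1 := Cardinal.ofENat_le_ofENat.mp h1
    have h3 : q ≠ ⊥ := Ideal.ne_bot_of_mem_primesOver hpbot hq
    have h4 : q.height ≠ 0 := by
      rw [Ne, Ideal.height_eq_zero_iff_eq_bot]; exact h3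
    exact le_antisymm h2 (Order.one_le_iff_pos.mpr (pos_iff_ne_zero.mpr h4))
  refine ⟨?_, hht⟩
  -- the primes over `p` are minimal primes of `pB`
  have hsub : p.primesOver B ⊆ (p.map (algebraMap A B)).minimalPrimes := by
    intro q hq
    haveI : q.IsPrime := hq.1
    haveI : q.LiesOver p := hq.2
    have hle : p.map (algebraMap A B) ≤ q := by
      rw [Ideal.map_le_iff_le_comap]
      exact (Ideal.LiesOver.over (p := p) (P := q)).le
    obtain ⟨q₀, hq₀, hq₀q⟩ := Ideal.exists_minimalPrimes_le hle
    haveI : q₀.IsPrime := hq₀.1.1
    have hq₀p : q₀ ∈ p.primesOver B := by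
      refine ⟨inferInstance, ⟨?_⟩⟩
      apply le_antisymm
      · exact Ideal.map_le_iff_le_comap.mp hq₀.1.2
      · rw [Ideal.LiesOver.over (p := p) (P := q)]
        exact Ideal.comap_mono hq₀q
    have h1 := hht q hq
    have h2 := hht q₀ hq₀p
    by_cases heq : q₀ = q
    · rw [← heq]; exact hq₀
    · exfalso
      have hlt : q₀ < q := lt_of_le_of_ne hq₀q heq
      haveI : q₀.FiniteHeight := ⟨Or.inr (by rw [h2]; exact ENat.one_ne_top)⟩
      have := Ideal.height_strict_mono_of_isPrime hlt
      rw [h1, h2] at this
      exact lt_irrefl _ this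
  exact (Ideal.finite_minimalPrimes_of_isNoetherianRing B _).subset hsub


end Groth.Agent.S9130
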