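import Groth.Statements.S9139
import Mathlib.RingTheory.Nilpotent.Lemmas
import Mathlib.RingTheory.Noetherian.Nilpotent
import Mathlib.RingTheory.Finiteness.Basic
import Mathlib.RingTheory.Nilpotent.Basic
import Mathlib.RingTheory.Ideal.Operations
import Mathlib.Tactic
-- import your own Groth.Agent.* helpers here

set_option autoImplicit false
universe u
open CAlg

namespace Groth.Agent.S9139

/-- every element of an extended ideal lies in the extension of a finitely generated subideal -/
theorem exists_fg_le_mem_map {R S' : Type u} [CommRing R] [CommRing S'] (φ : R →+* S') (I : Ideal R)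
    (z : S') (hz : z ∈ I.map φ) : ∃ J : Ideal R, J.FG ∧ J ≤ I ∧ z ∈ J.map φ := by
  unfold Ideal.map at hz
  induction hz using Submodule.span_induction with
  | mem x hx =>
    obtain ⟨a, ha, rfl⟩ := hx
    refine ⟨Ideal.span {a}, ⟨{a}, by simp⟩, ?_, ?_⟩
    · rw [Ideal.span_singleton_le_iff_mem]; exact ha
    · exact Ideal.mem_map_of_mem φ (Ideal.mem_span_singleton_self a)
  | zero => exact ⟨⊥, Submodule.fg_bot, bot_le, Ideal.zero_mem _⟩
  | add x y _ _ hx hy =>
    obtain ⟨J₁, h1, h1', h1''⟩ := hx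
    obtain ⟨J₂, h2, h2', h2''⟩ := hy
    exact ⟨J₁ ⊔ J₂, Submodule.FG.sup (R := R) (M := R) h1 h2, sup_le h1' h2',
      Ideal.add_mem _ (Ideal.map_mono le_sup_left h1'') (Ideal.map_mono le_sup_right h2'')⟩
  | smul c x _ hx =>
    obtain ⟨J, h1, h1', h1''⟩ := hx
    exact ⟨J, h1, h1', Ideal.mul_mem_left _ c h1''⟩

/-- Let I be a locally nilpotent ideal of a ring R (every element of I is nilpotent) and S → S' a map of
R-algebras with S' of finite type over R. If S → S'/IS' is surjective then so is S → S'. -/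
theorem result (R S S' : Type u) [CommRing R] [CommRing S]
    [CommRing S'] [Algebra R S] [Algebra R S'] [Algebra.FiniteType R S'] (I : Ideal R)
    (hI : ∀ x ∈ I, IsNilpotent x) (f : S →ₐ[R] S')
    (hf : Function.Surjective ((Ideal.Quotient.mk (I.map (algebraMap R S'))).comp f.toRingHom)) :
    Function.Surjective f := by
  classical
  obtain ⟨s, hs⟩ := (inferInstance : Algebra.FiniteType R S').out
  -- a finitely generated subideal handling all generators
  have hJ : ∃ J : Ideal R, J.FG ∧ J ≤ I ∧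
      ∀ x ∈ s, ∃ y : S, x - f y ∈ J.map (algebraMap R S') := by
    have : ∀ t : Finset S', ∃ J : Ideal R, J.FG ∧ J ≤ I ∧
        ∀ x ∈ t, ∃ y : S, x - f y ∈ J.map (algebraMap R S') := by
      intro t
      induction t using Finset.induction_on with
      | empty => exact ⟨⊥, Submodule.fg_bot, bot_le, by simp⟩
      | insert a t _ ih =>
        obtain ⟨J, h1, h2, h3⟩ := ih
        obtain ⟨y, hy⟩ := hf (Ideal.Quotient.mk _ a)
        have hmem : a - f y ∈ I.map (algebraMap R S') := by
          rw [← Ideal.Quotient.eq]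
          exact hy.symm
        obtain ⟨J', h1', h2', h3'⟩ := exists_fg_le_mem_map (algebraMap R S') I _ hmem
        refine ⟨J ⊔ J', Submodule.FG.sup (R := R) (M := R) h1 h1', sup_le h2 h2', ?_⟩
        intro x hx
        rcases Finset.mem_insert.mp hx with rfl | hx
        · exact ⟨y, Ideal.map_mono le_sup_right h3'⟩
        · obtain ⟨y', hy'⟩ := h3 x hx
          exact ⟨y', Ideal.map_mono le_sup_left hy'⟩
    exact this s
  obtain ⟨J, hJfg, hJI, hJs⟩ := hJ
  have hJnil : IsNilpotent J := by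
    rw [Ideal.FG.isNilpotent_iff_le_nilradical hJfg]
    intro x hx
    exact mem_nilradical.mpr (hI x (hJI hx))
  obtain ⟨N, hN⟩ := hJnil
  set K : Ideal S' := J.map (algebraMap R S') with hK
  -- Claim A
  have claimA : ∀ z : S', ∃ t ∈ f.range, z - t ∈ K := by
    intro z
    have hz : z ∈ Algebra.adjoin R (s : Set S') := by rw [hs]; trivial
    induction hz using Algebra.adjoin_induction with
    | mem x hx =>
      obtain ⟨y, hy⟩ := hJs x hx
      exact ⟨f y, ⟨y, rfl⟩, hy⟩
    | algebraMap r =>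
      exact ⟨algebraMap R S' r, Subalgebra.algebraMap_mem _ r, by simp⟩
    | add x y _ _ hx hy =>
      obtain ⟨t₁, ht₁, h₁⟩ := hx
      obtain ⟨t₂, ht₂, h₂⟩ := hy
      refine ⟨t₁ + t₂, Subalgebra.add_mem _ ht₁ ht₂, ?_⟩
      have : x + y - (t₁ + t₂) = (x - t₁) + (y - t₂) := by ring
      rw [this]
      exact Ideal.add_mem _ h₁ h₂
    | mul x y _ _ hx hy =>
      obtain ⟨t₁, ht₁, h₁⟩ := hx
      obtain ⟨t₂, ht₂, h₂⟩ := hy
      refine ⟨t₁ * t₂, Subalgebra.mul_mem _ ht₁ ht₂, ?_⟩
      have : x * y - t₁ * t₂ = x * (y - t₂) + t₂ * (x - t₁) := by ring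
      rw [this]
      exact Ideal.add_mem _ (Ideal.mul_mem_left _ _ h₂) (Ideal.mul_mem_left _ _ h₁)
  -- Claim B
  have claimB : ∀ k : ℕ, ∀ z : S', ∃ t ∈ f.range, z - t ∈ K ^ k := by
    intro k
    induction k with
    | zero => intro z; exact ⟨0, Subalgebra.zero_mem _, by simp⟩
    | succ k ih =>
      have hK' : ∀ w ∈ K, ∃ t ∈ f.range, w - t ∈ K ^ (k + 1) := by
        intro w hw
        have hw' : w ∈ (J • ⊤ : Submodule R S') := by
          rw [Ideal.smul_top_eq_map]
          exact hw
        refine Submodule.smul_induction_on hw' ?_ ?_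
        · intro a ha w' _
          obtain ⟨t, ht, hv⟩ := ih w'
          refine ⟨a • t, Subalgebra.smul_mem _ ht a, ?_⟩
          have : a • w' - a • t = algebraMap R S' a * (w' - t) := by
            rw [Algebra.smul_def, Algebra.smul_def]; ring
          rw [this, pow_succ']
          exact Ideal.mul_mem_mul (Ideal.mem_map_of_mem _ ha) hv
        · rintro x y ⟨t₁, ht₁, h₁⟩ ⟨t₂, ht₂, h₂⟩
          refine ⟨t₁ + t₂, Subalgebra.add_mem _ ht₁ ht₂, ?_⟩
          have : x + y - (t₁ + t₂) = (x - t₁) + (y - t₂) := by ring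
          rw [this]
          exact Ideal.add_mem _ h₁ h₂
      intro z
      obtain ⟨t₀, ht₀, hw⟩ := claimA z
      obtain ⟨t₁, ht₁, hv⟩ := hK' _ hw
      refine ⟨t₀ + t₁, Subalgebra.add_mem _ ht₀ ht₁, ?_⟩
      have : z - (t₀ + t₁) = z - t₀ - t₁ := by ring
      rw [this]
      exact hv
  intro z
  obtain ⟨t, ht, hz⟩ := claimB N z
  have hKN : K ^ N = ⊥ := by
    rw [hK, ← Ideal.map_pow, hN]
    exact Ideal.map_bot
  rw [hKN, Ideal.mem_bot, sub_eq_zero] at hz
  obtain ⟨y, hy⟩ := ht
  exact ⟨y, by rw [hz]; exact hy⟩
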