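import Groth.Statements.S9140
import Groth.Agent.S9139
import Mathlib.RingTheory.Flat.Equalizer
import Mathlib.RingTheory.Nakayama
import Mathlib.LinearAlgebra.TensorProduct.Quotient
import Mathlib.RingTheory.Jacobson.Ideal
import Mathlib.RingTheory.KrullDimension.Basic
import Mathlib.Tactic
-- import your own Groth.Agent.* helpers here

set_option autoImplicit false
universe u
open CAlg

namespace Groth.Agent.S9140
open TensorProduct

/-- Let I be a locally nilpotent ideal of a ring R and S → S' a map of R-algebras with S of finite type
over R and S' of finite presentation and flat over R. If the induced map S/IS → S'/IS' is bijective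
(stated as: S → S'/IS' is surjective with kernel IS), then S → S' is bijective. -/
theorem result (R S S' : Type u)
    [CommRing R] [CommRing S] [CommRing S'] [Algebra R S] [Algebra R S'] [Algebra.FiniteType R S]
    [Algebra.FinitePresentation R S'] [Module.Flat R S'] (I : Ideal R) (hI : ∀ x ∈ I, IsNilpotent x)
    (f : S →ₐ[R] S')
    (hsurj : Function.Surjective ((Ideal.Quotient.mk (I.map (algebraMap R S'))).comp f.toRingHom))
    (hker : ∀ s : S, f s ∈ I.map (algebraMap R S') → s ∈ I.map (algebraMap R S)) :
    Function.Bijective f := by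
  haveI : Algebra.FiniteType R S' := inferInstance
  have hsurjf : Function.Surjective f := Groth.Agent.S9139.result R S S' I hI f hsurj
  refine ⟨?_, hsurjf⟩
  -- kernel is finitely generated
  have hKfg : (RingHom.ker f.toRingHom).FG := by
    obtain ⟨n, π, hπ⟩ := Algebra.FiniteType.iff_quotient_mvPolynomial''.mp
      (inferInstance : Algebra.FiniteType R S)
    have h1 := Algebra.FinitePresentation.ker_fG_of_surjective (f.comp π) (hsurjf.comp hπ)
    have h2 := h1.map π.toRingHom
    convert h2 using 1
    simp_rw [RingHom.ker_eq_comap_bot, AlgHom.toRingHom_eq_coe, AlgHom.comp_toRingHom]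
    rw [← Ideal.comap_comap, Ideal.map_comap_of_surjective (π : MvPolynomial (Fin n) R →+* S) hπ]
  -- K as an R-submodule
  set K : Submodule R S := LinearMap.ker f.toLinearMap with hK
  have hinj : Function.Injective (K.subtype.lTensor (R ⧸ I)) :=
    LinearMap.lTensor_injective_of_exact_of_flat f.toLinearMap hsurjf K.subtype
      K.subtype_injective (LinearMap.exact_subtype_ker_map _) (R ⧸ I)
  have hKI : ∀ k ∈ K, k ∈ I • K := by
    intro k hk
    have hkI : k ∈ (I • ⊤ : Submodule R S) := by
      rw [Ideal.smul_top_eq_map]
      apply hker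
      have : f k = 0 := hk
      rw [this]
      exact Ideal.zero_mem _
    have h0 : ((1 : R ⧸ I) ⊗ₜ[R] k : (R ⧸ I) ⊗[R] S) = 0 := by
      apply (TensorProduct.quotTensorEquivQuotSMul S I).injective
      rw [TensorProduct.quotTensorEquivQuotSMul_mk_one_tmul, map_zero,
        Submodule.Quotient.mk_eq_zero]
      exact hkI
    have h1 : ((1 : R ⧸ I) ⊗ₜ[R] (⟨k, hk⟩ : K) : (R ⧸ I) ⊗[R] K) = 0 := by
      apply hinj
      rw [LinearMap.lTensor_tmul, map_zero]
      exact h0
    have h2 : (⟨k, hk⟩ : K) ∈ (I • ⊤ : Submodule R K) := by
      have := congrArg (TensorProduct.quotTensorEquivQuotSMul K I) h1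
      rw [TensorProduct.quotTensorEquivQuotSMul_mk_one_tmul, map_zero,
        Submodule.Quotient.mk_eq_zero] at this
      exact this
    have h3 : K.subtype ⟨k, hk⟩ ∈ (I • ⊤ : Submodule R K).map K.subtype :=
      Submodule.mem_map_of_mem h2
    rw [Submodule.map_smul'', Submodule.map_subtype_top] at h3
    exact h3
  -- Nakayama
  have hle : (RingHom.ker f.toRingHom : Submodule S S) ≤
      (I.map (algebraMap R S)) • (RingHom.ker f.toRingHom : Submodule S S) := by
    intro k hk
    have hk' : k ∈ K := hk
    have := hKI k hk'
    refine Submodule.smul_induction_on this ?_ ?_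
    · intro a ha x hx
      rw [← algebraMap_smul S a x]
      have hx' : x ∈ (RingHom.ker f.toRingHom : Submodule S S) := hx
      exact Submodule.smul_mem_smul (Ideal.mem_map_of_mem (algebraMap R S) ha) hx'
    · intro x y hx hy
      exact Submodule.add_mem _ hx hy
  have hjac : I.map (algebraMap R S) ≤ Ideal.jacobson ⊥ := by
    rw [Ideal.jacobson_bot]
    refine le_trans ?_ (nilradical_le_jacobson S)
    rw [Ideal.map_le_iff_le_comap]
    intro a ha
    rw [Ideal.mem_comap, mem_nilradical]
    exact (hI a ha).map _
  have hbot := Submodule.eq_bot_of_le_smul_of_le_jacobson_bot (I.map (algebraMap R S))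
    (RingHom.ker f.toRingHom : Submodule S S) hKfg hle hjac
  rw [injective_iff_map_eq_zero]
  intro s hs
  have : s ∈ (RingHom.ker f.toRingHom : Submodule S S) := hs
  rw [hbot] at this
  exact this

end Groth.Agent.S9140
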