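import Groth.Statements.S9142
import Groth.Agent.Lib.Helper28FGDim
-- import your own Groth.Agent.* helpers here

set_option autoImplicit false
universe u
open Synt

namespace Groth.Agent.S9142
open Groth.Agent.Lib.Helper28

/-- A local complete intersection over a field is a Cohen–Macaulay ring. -/
theorem result (k S : Type u) [Field k] [CommRing S] [Algebra k S]
    (h : Synt.IsLCIOver k S) : LocCoh.IsCohenMacaulayRing S := by
  obtain ⟨hft, hloc⟩ := h
  have hN : IsNoetherianRing S := Algebra.FiniteType.isNoetherianRing k S
  refine { isCohenMacaulayLocalRing_localization := fun p hp => ?_ }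
  obtain ⟨g, hg, hCI⟩ := hloc ⟨p, hp⟩
  have hT := isCohenMacaulayRing_of_isGlobalCI k (Localization.Away g) hCI
  refine isCohenMacaulayLocalRing_atPrime_of_isLocalization (Submonoid.powers g)
    (Localization.Away g) p ?_
  rw [Set.disjoint_left]
  rintro x ⟨m, rfl⟩ hx
  exact hg (hp.mem_of_pow_mem m hx)

end Groth.Agent.S9142
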