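import Groth.Statements.S9144
import Groth.Agent.Lib.Helper7Synt14

set_option autoImplicit false
universe u
open Synt

namespace Groth.Agent.S9144

/-- For a finite type algebra S over a field k and a prime q of S, the local ring S_q is a complete
intersection over k if and only if some basic open neighbourhood S_g (g ∉ q) is a local complete
intersection over k, if and only if some S_g (g ∉ q) is a global complete intersection over k. -/
theorem result (k S : Type u) [Field k] [CommRing S] [Algebra k S]
    [Algebra.FiniteType k S] (q : Ideal S) [q.IsPrime] :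
    (Synt.IsCIOver k (Localization.AtPrime q) ↔ ∃ g : S, g ∉ q ∧ Synt.IsLCIOver k (Localization.Away g)) ∧
      (Synt.IsCIOver k (Localization.AtPrime q) ↔
        ∃ g : S, g ∉ q ∧ Synt.IsGlobalCI k (Localization.Away g)) := by
  have key := Groth.Agent.Lib.Helper7.Synt.isCIOver_localization_iff_exists_away k q
  refine ⟨⟨fun h => ?_, fun h => ?_⟩, key⟩
  · obtain ⟨g, hg, hGCI⟩ := key.mp h
    exact ⟨g, hg, Groth.Agent.Lib.Helper7.Synt.isLCIOver_of_isGlobalCI k hGCI⟩
  · obtain ⟨g, hg, hLCI⟩ := h
    exact Groth.Agent.Lib.Helper7.Synt.isCIOver_localization_of_isLCIOver_away k q g hg hLCI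


end Groth.Agent.S9144
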