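import Groth.Statements.S9145
import Groth.Agent.Lib.Helper7Synt14

set_option autoImplicit false
universe u
open Synt

namespace Groth.Agent.S9145

/-- A finite type algebra S over a field k is a local complete intersection over k if and only if all
its local rings at primes (equivalently, at maximal ideals) are complete intersections over k. -/
theorem result (k S : Type u) [Field k] [CommRing S] [Algebra k S]
    [Algebra.FiniteType k S] :
    (Synt.IsLCIOver k S ↔ ∀ p : PrimeSpectrum S, Synt.IsCIOver k (Localization.AtPrime p.asIdeal)) ∧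
      (Synt.IsLCIOver k S ↔
        ∀ m : MaximalSpectrum S, Synt.IsCIOver k (Localization.AtPrime m.asIdeal)) := by
  have h1 : Synt.IsLCIOver k S → ∀ p : PrimeSpectrum S, Synt.IsCIOver k (Localization.AtPrime p.asIdeal) :=
    fun h p => Groth.Agent.Lib.Helper7.Synt.isCIOver_localization_of_isLCIOver k h p.asIdeal
  have h2 : (∀ m : MaximalSpectrum S, Synt.IsCIOver k (Localization.AtPrime m.asIdeal)) →
      Synt.IsLCIOver k S := by
    intro h
    refine ⟨inferInstance, fun p => ?_⟩
    obtain ⟨m, hm, hpm⟩ := Ideal.exists_le_maximal p.asIdeal p.isPrime.ne_top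
    haveI := hm.isPrime
    obtain ⟨g, hg, hGCI⟩ :=
      (Groth.Agent.Lib.Helper7.Synt.isCIOver_localization_iff_exists_away k m).mp (h ⟨m, hm⟩)
    exact ⟨g, fun hgp => hg (hpm hgp), hGCI⟩
  have h3 : (∀ p : PrimeSpectrum S, Synt.IsCIOver k (Localization.AtPrime p.asIdeal)) →
      ∀ m : MaximalSpectrum S, Synt.IsCIOver k (Localization.AtPrime m.asIdeal) :=
    fun h m => h ⟨m.asIdeal, m.isMaximal.isPrime⟩
  exact ⟨⟨h1, fun h => h2 (h3 h)⟩, ⟨fun h => h3 (h1 h), h2⟩⟩


end Groth.Agent.S9145
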