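import Groth.Statements.S9152
import Groth.Agent.Lib.Helper5CodepthOpen

set_option autoImplicit false
universe u
open CAlg

namespace Groth.Agent.S9152

/-- The Cohen–Macaulay locus of a finite type algebra over a field is open. -/
theorem result (k S : Type u) [Field k] [CommRing S] [Algebra k S]
    [Algebra.FiniteType k S] :
    IsOpen {q : PrimeSpectrum S | LocCoh.IsCohenMacaulayLocalRing (Localization.AtPrime q.asIdeal)} := by
  classical
  obtain ⟨n, f, hf⟩ := Algebra.FiniteType.iff_quotient_mvPolynomial''.mp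
    (inferInstance : Algebra.FiniteType k S)
  haveI : IsNoetherianRing S := Algebra.FiniteType.isNoetherianRing k S
  letI : Algebra (MvPolynomial (Fin n) k) S := f.toRingHom.toAlgebra
  have hs : Function.Surjective (algebraMap (MvPolynomial (Fin n) k) S) := hf
  haveI : LocCoh.IsCohenMacaulayRing k := Groth.Agent.Lib.Helper28.isCohenMacaulayRing_of_field k
  haveI : LocCoh.IsCohenMacaulayRing (MvPolynomial (Fin n) k) :=
    Groth.Agent.Lib.Helper28.isCohenMacaulayRing_mvPolynomial_fin n
  have hC : Groth.Agent.Lib.Helper5.CodepthOpen.CMU S :=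
    Groth.Agent.Lib.Helper5.CodepthOpen.cmu_of_surjective hs
      Groth.Agent.Lib.Helper5.CodepthOpen.cmu_of_isCohenMacaulayRing
  have hopen := Groth.Agent.Lib.Helper5.CodepthOpen.isOpen_codepth_le hC S 0
  have heq : {q : PrimeSpectrum S |
      LocCoh.IsCohenMacaulayLocalRing (Localization.AtPrime q.asIdeal)} =
      {p : PrimeSpectrum S | Groth.Agent.Lib.Helper5.GenDepth.dm p.asIdeal S ≤
        ((Groth.Agent.Lib.Helper5.GenDepth.dep p.asIdeal S : ℕ∞) : WithBot ℕ∞) +
          ((0 : ℕ) : WithBot ℕ∞)} := by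
    ext q
    obtain ⟨h1, h2⟩ := Groth.Agent.Lib.Helper5.CodepthOpen.dep_dm_self q.asIdeal
    constructor
    · intro hq
      change Groth.Agent.Lib.Helper5.GenDepth.dm q.asIdeal S ≤ _
      rw [h2, h1, hq.supportDim_eq_depth, Nat.cast_zero, add_zero]
    · intro hq
      change Groth.Agent.Lib.Helper5.GenDepth.dm q.asIdeal S ≤ _ at hq
      rw [h2, h1, Nat.cast_zero, add_zero] at hq
      haveI : IsNoetherianRing (Localization.AtPrime q.asIdeal) :=
        IsLocalization.isNoetherianRing q.asIdeal.primeCompl _ inferInstance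
      exact ⟨le_antisymm hq Groth.Agent.Lib.Helper28.depth_le_supportDim⟩
  rw [heq]
  exact hopen

end Groth.Agent.S9152
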