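import Groth.Statements.S9153
import Groth.Agent.Lib.Helper28FGDim
-- import your own Groth.Agent.* helpers here

set_option autoImplicit false
universe u
open CAlg

namespace Groth.Agent.S9153
open Groth.Agent.Lib.Helper28

/-- In a polynomial ring in finitely many variables over a field, every saturated chain of primes
between two primes p ⊆ q has length equal to the difference of their heights (stated additively:
length + height p = height q). -/
theorem result (k : Type u) [Field k] (n : ℕ)
    (s : LTSeries (PrimeSpectrum (MvPolynomial (Fin n) k)))
    (hsat : ∀ i : Fin s.length, s (Fin.castSucc i) ⋖ s (Fin.succ i)) :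
    (s.length : ℕ∞) + s.head.asIdeal.height = s.last.asIdeal.height := by
  have hk : LocCoh.IsCohenMacaulayRing k := isCohenMacaulayRing_of_field k
  have hS : LocCoh.IsCohenMacaulayRing (MvPolynomial (Fin n) k) :=
    isCohenMacaulayRing_mvPolynomial_fin n
  have h1 := height_last_eq_head_add_length_of_saturated
    (fun h => height_eq_succ_of_covBy_of_isCohenMacaulayRing h) s hsat
  rw [h1, add_comm]

end Groth.Agent.S9153
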