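import Groth.Statements.S9154
import Groth.Agent.Lib.Helper28FGDim
-- import your own Groth.Agent.* helpers here

set_option autoImplicit false
universe u
open CAlg

namespace Groth.Agent.S9154
open Groth.Agent.Lib.Helper28

/-- Let S be a Cohen–Macaulay finite type algebra over a field k, equidimensional of dimension d, and
f_1, …, f_i elements (i ≤ d) generating a proper ideal whose zero locus has dimension at most d − i.
Then that dimension equals d − i and the f_j form a regular sequence in S_q for every prime q
containing them. (The published statement also allows the f_j to generate the unit ideal, where the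
zero locus is empty and the equality fails, e.g. f_1 = 1 in k[x]; this row assumes the ideal is
proper.) -/
theorem result (k S : Type u) [Field k] [CommRing S] [Algebra k S]
    [Algebra.FiniteType k S] [LocCoh.IsCohenMacaulayRing S] (d : ℕ)
    (heq : ∀ p ∈ minimalPrimes S, ringKrullDim (S ⧸ p) = d) (f : List S) (hi : f.length ≤ d)
    (hne : Ideal.ofList f ≠ ⊤)
    (hle : ringKrullDim (S ⧸ Ideal.ofList f) ≤ ((d - f.length : ℕ) : WithBot ℕ∞)) :
    ringKrullDim (S ⧸ Ideal.ofList f) = ((d - f.length : ℕ) : WithBot ℕ∞) ∧
      ∀ (q : Ideal S) [q.IsPrime], Ideal.ofList f ≤ q →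
        RingTheory.Sequence.IsRegular (Localization.AtPrime q)
          (f.map (algebraMap S (Localization.AtPrime q))) := by
  have hN : IsNoetherianRing S := inferInstance
  have hmax := height_eq_of_isMaximal_of_equidim k S d heq
  have h1 := height_add_ringKrullDim_quotient_eq_of_forall_isMaximal_height_eq' d hmax _ hne
  have h2 := height_ofList_le_length f hne
  have hnt : Nontrivial (S ⧸ Ideal.ofList f) := Ideal.Quotient.nontrivial_iff.mpr hne
  have hnb : ringKrullDim (S ⧸ Ideal.ofList f) ≠ ⊥ := by
    have : 0 ≤ ringKrullDim (S ⧸ Ideal.ofList f) := ringKrullDim_nonneg_of_nontrivial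
    intro hb
    rw [hb] at this
    simp at this
  obtain ⟨x, hx⟩ := WithBot.ne_bot_iff_exists.mp hnb
  rw [← hx] at h1 hle ⊢
  have h1' : (Ideal.ofList f).height + x = (d : ℕ∞) := by
    have : (((Ideal.ofList f).height + x : ℕ∞) : WithBot ℕ∞) = ((d : ℕ∞) : WithBot ℕ∞) := by
      rw [WithBot.coe_add]; exact h1
    exact WithBot.coe_injective this
  have hle' : x ≤ ((d - f.length : ℕ) : ℕ∞) := by
    have : ((x : ℕ∞) : WithBot ℕ∞) ≤ (((d - f.length : ℕ) : ℕ∞) : WithBot ℕ∞) := hle
    exact WithBot.coe_le_coe.mp this
  have hsum : ((f.length : ℕ∞) + ((d - f.length : ℕ) : ℕ∞)) = (d : ℕ∞) := by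
    have : f.length + (d - f.length) = d := by omega
    exact_mod_cast this
  -- x = d - length and height = length
  have hxfin : x ≠ ⊤ := fun h => by rw [h] at hle'; simp at hle'
  have hheq : (Ideal.ofList f).height = f.length := by
    apply le_antisymm h2
    have h3 : (Ideal.ofList f).height + x ≤ (Ideal.ofList f).height + ((d - f.length : ℕ) : ℕ∞) :=
      add_le_add le_rfl hle'
    rw [h1', ← hsum] at h3
    exact (ENat.add_le_add_iff_right (ENat.natCast_ne_top (d - f.length))).mp h3
  constructor
  · rw [hheq, ← hsum] at h1'
    have := (ENat.add_right_injective_of_ne_top (ENat.natCast_ne_top f.length)) h1'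
    rw [this]
    rfl
  · intro q hq hfq
    exact isRegular_map_localization_of_length_le_height f (le_of_eq hheq.symm) q hfq

end Groth.Agent.S9154
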