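import Groth.Statements.S9155
import Groth.Agent.Lib.Helper4DiffOpEtale
import Mathlib.RingTheory.Localization.BaseChange

set_option autoImplicit false
universe u
open Diff16

namespace Groth.Agent.S9155

/-- A differential operator of order at most k between modules over B (relative to A → B) has exactly
one extension to the localized modules over S⁻¹B that is again a differential operator of order at
most k (relative to A → S⁻¹B), compatible with the localization maps. -/
theorem result (A B : Type u) [CommRing A] [CommRing B] [Algebra A B]
    (S : Submonoid B) (M N : Type u) [AddCommGroup M] [Module B M] [Module A M] [IsScalarTower A B M]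
    [AddCommGroup N] [Module B N] [Module A N] [IsScalarTower A B N] (k : ℕ) (D : M →ₗ[A] N)
    (hD : Diff16.IsDiffOpLE A B M N k D) :
    ∃! E : LocalizedModule S M →ₗ[A] LocalizedModule S N,
      Diff16.IsDiffOpLE A (Localization S) (LocalizedModule S M) (LocalizedModule S N) k E ∧
        E ∘ₗ (LocalizedModule.mkLinearMap S M).restrictScalars A =
          (LocalizedModule.mkLinearMap S N).restrictScalars A ∘ₗ D := by
  haveI : Algebra.FormallyEtale B (Localization S) := Algebra.FormallyEtale.of_isLocalization S
  let j : N →ₗ[A] LocalizedModule S N := (LocalizedModule.mkLinearMap S N).restrictScalars A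
  have hj : Diff16.IsDiffOpLE A B N (LocalizedModule S N) 0 j := fun b n => by
    simp [j]
  have hh : Diff16.IsDiffOpLE A B M (LocalizedModule S N) k (j ∘ₗ D) :=
    Groth.Agent.Lib.Helper4.isDiffOpLE_comp hD hj
  obtain ⟨E, ⟨hE1, hE2⟩, hEu⟩ :=
    Groth.Agent.Lib.Helper4.existsUnique_isDiffOpLE_of_isBaseChange (R := A) (S := B)
      (S' := Localization S) (LocalizedModule.mkLinearMap S M)
      (LocalizedModule.isBaseChange S M) k (j ∘ₗ D) hh
  refine ⟨E, ⟨hE1, ?_⟩, ?_⟩
  · ext m
    exact hE2 m
  · rintro E' ⟨h1, h2⟩
    exact hEu E' ⟨h1, fun m => LinearMap.congr_fun h2 m⟩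

end Groth.Agent.S9155
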