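import Groth.Statements.S9157
import Mathlib

set_option autoImplicit false
universe u
open CAlg

namespace Groth.Agent.S9157

theorem mk_eq_zero_imp {R : Type u} [CommRing R] (S : Submonoid R)
    {M : Type u} [AddCommGroup M] [Module R M] (m : M) (s : S)
    (h : LocalizedModule.mk m s = 0) : ∃ u : S, u • m = 0 := by
  rw [← LocalizedModule.zero_mk (1 : S), LocalizedModule.mk_eq] at h
  obtain ⟨u, hu⟩ := h
  refine ⟨u, ?_⟩
  simpa using hu

/-- If the localization S⁻¹M of an R-module M is finitely presented over S⁻¹R, then some finitely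
presented R-module M' maps to M inducing an isomorphism S⁻¹M' → S⁻¹M. -/
theorem result (R : Type u) [CommRing R] (S : Submonoid R)
    (M : Type u) [AddCommGroup M] [Module R M]
    [Module.FinitePresentation (Localization S) (LocalizedModule S M)] :
    ∃ (M' : Type u) (_ : AddCommGroup M') (_ : Module R M') (φ : M' →ₗ[R] M),
      Module.FinitePresentation R M' ∧ Function.Bijective (LocalizedModule.map S φ) := by
  classical
  -- Step A: generators
  obtain ⟨G, hG⟩ := (Module.Finite.fg_top : (⊤ : Submodule (Localization S) (LocalizedModule S M)).FG)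
  have hrep : ∀ g : LocalizedModule S M, ∃ m : M, ∃ s : S, LocalizedModule.mk m s = g := by
    intro g
    induction g using LocalizedModule.induction_on with
    | _ m s => exact ⟨m, s, rfl⟩
  choose mm ss hms using hrep
  let t : (↥G) → M := fun g => mm g.1
  have hspan : Submodule.span (Localization S)
      (Set.range fun g : ↥G => (LocalizedModule.mk (t g) 1 : LocalizedModule S M)) = ⊤ := by
    rw [eq_top_iff, ← hG, Submodule.span_le]
    intro g hg
    have h1 : g = Localization.mk 1 (ss g) • (LocalizedModule.mk (t ⟨g, hg⟩) 1 : LocalizedModule S M) := by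
      rw [LocalizedModule.mk_smul_mk, one_smul, mul_one]
      exact (hms g).symm
    rw [h1]
    exact Submodule.smul_mem _ _ (Submodule.subset_span ⟨⟨g, hg⟩, rfl⟩)
  -- Step B
  let π : ((↥G) → R) →ₗ[R] M := Fintype.linearCombination R t
  have hsurj : Function.Surjective (LocalizedModule.map S π) := by
    rw [← LinearMap.range_eq_top, eq_top_iff, ← hspan, Submodule.span_le]
    rintro _ ⟨g, rfl⟩
    refine ⟨LocalizedModule.mk (Pi.single g 1) 1, ?_⟩
    rw [LocalizedModule.map_mk]
    show LocalizedModule.mk (Fintype.linearCombination R t (Pi.single g 1)) 1 = _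
    rw [Fintype.linearCombination_apply_single, one_smul]
  -- Step D
  obtain ⟨F, hF⟩ := Module.FinitePresentation.fg_ker (LocalizedModule.map S π) hsurj
  have hker : ∀ z : LocalizedModule S ((↥G) → R), z ∈ LinearMap.ker (LocalizedModule.map S π) →
      ∃ p : (↥G) → R, ∃ s : S, p ∈ LinearMap.ker π ∧ LocalizedModule.mk p s = z := by
    intro z hz
    induction z using LocalizedModule.induction_on with
    | _ x s =>
      rw [LinearMap.mem_ker, LocalizedModule.map_mk] at hz
      obtain ⟨u, hu⟩ := mk_eq_zero_imp S _ _ hz
      refine ⟨u • x, u * s, ?_, ?_⟩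
      · rw [LinearMap.mem_ker, Submonoid.smul_def, map_smul, ← Submonoid.smul_def]; exact hu
      · rw [LocalizedModule.mk_eq]
        refine ⟨1, ?_⟩
        simp only [one_smul]
        rw [Submonoid.smul_def, Submonoid.smul_def, Submonoid.smul_def, Submonoid.coe_mul,
          smul_smul, mul_comm]
  have hFker : ∀ z : ↥F, z.1 ∈ LinearMap.ker (LocalizedModule.map S π) := by
    intro z
    rw [← hF]
    exact Submodule.subset_span z.2
  choose pp sp hpp hps using fun z : ↥F => hker z.1 (hFker z)
  let P0 : Submodule R ((↥G) → R) := Submodule.span R (Set.range pp)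
  have hP0fg : P0.FG := Submodule.fg_span (Set.finite_range pp)
  have hP0le : P0 ≤ LinearMap.ker π := by
    rw [Submodule.span_le]
    rintro _ ⟨z, rfl⟩
    exact hpp z
  refine ⟨((↥G) → R) ⧸ P0, inferInstance, inferInstance, P0.liftQ π hP0le, ?_, ?_, ?_⟩
  · exact Module.finitePresentation_of_free_of_surjective P0.mkQ (Submodule.mkQ_surjective P0)
      (by rw [Submodule.ker_mkQ]; exact hP0fg)
  · -- injective
    rw [injective_iff_map_eq_zero]
    intro z hz
    induction z using LocalizedModule.induction_on with
    | _ x' s =>
      obtain ⟨x, rfl⟩ := Submodule.mkQ_surjective P0 x'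
      rw [LocalizedModule.map_mk] at hz
      have hz' : (LocalizedModule.mk x s : LocalizedModule S ((↥G) → R)) ∈
          LinearMap.ker (LocalizedModule.map S π) := by
        rw [LinearMap.mem_ker, LocalizedModule.map_mk]
        exact hz
      have hle : LinearMap.ker (LocalizedModule.map S π) ≤ LinearMap.ker (LocalizedModule.map S P0.mkQ) := by
        rw [← hF, Submodule.span_le]
        intro z hzF
        have h1 := hps ⟨z, hzF⟩
        have h2 : pp ⟨z, hzF⟩ ∈ P0 := Submodule.subset_span ⟨⟨z, hzF⟩, rfl⟩
        show z ∈ LinearMap.ker (LocalizedModule.map S P0.mkQ)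
        rw [LinearMap.mem_ker]
        simp only at h1
        rw [← h1, LocalizedModule.map_mk]
        have h3 : P0.mkQ (pp ⟨z, hzF⟩) = 0 := by
          rw [Submodule.mkQ_apply, Submodule.Quotient.mk_eq_zero]; exact h2
        rw [h3, LocalizedModule.zero_mk]
      have := hle hz'
      rw [LinearMap.mem_ker, LocalizedModule.map_mk] at this
      exact this
  · -- surjective
    intro y
    obtain ⟨z, rfl⟩ := hsurj y
    induction z using LocalizedModule.induction_on with
    | _ x s =>
      refine ⟨LocalizedModule.mk (P0.mkQ x) s, ?_⟩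
      rw [LocalizedModule.map_mk, LocalizedModule.map_mk]
      rfl

end Groth.Agent.S9157
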