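import Groth.Statements.S9158
import Groth.Agent.Lib.Helper3GFRb
import Mathlib

set_option autoImplicit false
universe u
open CAlg

namespace Groth.Agent.S9158

open TensorProduct in
-- transfer of finite presentation from `R_f ⊗ S` to the localization map `R_f → S_f`
theorem awayMap_finitePresentation {R S : Type u} [CommRing R] [CommRing S] [Algebra R S] (f : R)
    (h : Algebra.FinitePresentation (Localization.Away f) (Localization.Away f ⊗[R] S)) :
    (Localization.awayMap (algebraMap R S) f).FinitePresentation := by
  letI : Algebra S (Localization.Away f ⊗[R] S) := Algebra.TensorProduct.rightAlgebra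
  haveI : IsLocalization.Away (algebraMap R S f) (Localization.Away f ⊗[R] S) :=
    IsLocalization.Away.tensorRight f (Localization.Away f)
  let e : (Localization.Away f ⊗[R] S) ≃ₐ[S] Localization.Away (algebraMap R S f) :=
    IsLocalization.algEquiv (Submonoid.powers (algebraMap R S f)) _ _
  have hcomp : Localization.awayMap (algebraMap R S) f =
      (e : (Localization.Away f ⊗[R] S) →+* Localization.Away (algebraMap R S f)).comp
        (algebraMap (Localization.Away f) (Localization.Away f ⊗[R] S)) := by
    apply IsLocalization.ringHom_ext (Submonoid.powers f)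
    ext r
    simp only [RingHom.coe_comp, Function.comp_apply]
    rw [Localization.awayMap, IsLocalization.Away.map, IsLocalization.map_eq]
    have h1 : algebraMap (Localization.Away f) (Localization.Away f ⊗[R] S)
        (algebraMap R (Localization.Away f) r) =
        algebraMap S (Localization.Away f ⊗[R] S) (algebraMap R S r) := by
      rw [Algebra.TensorProduct.algebraMap_apply]
      change (algebraMap R (Localization.Away f) r) ⊗ₜ[R] (1 : S) =
        (1 : Localization.Away f) ⊗ₜ[R] (algebraMap R S r)
      rw [Algebra.algebraMap_eq_smul_one, Algebra.algebraMap_eq_smul_one (A := S),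
        TensorProduct.smul_tmul]
    rw [h1]
    exact (e.commutes _).symm
  rw [hcomp]
  refine RingHom.FinitePresentation.comp ?_ ?_
  · exact RingHom.FinitePresentation.of_surjective _ e.surjective (by
      have : RingHom.ker (e : (Localization.Away f ⊗[R] S) →+*
          Localization.Away (algebraMap R S f)) = ⊥ :=
        (RingHom.injective_iff_ker_eq_bot _).mp e.injective
      rw [this]
      exact Submodule.fg_bot)
  · exact RingHom.finitePresentation_algebraMap.mpr h

/-- Generic freeness over a reduced ring: let R → S be of finite type with R reduced and M a finite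
S-module. There is a dense open subset U of Spec R such that each point of U lies in a basic open
D(f) ⊆ U with M_f and S_f free over R_f, S_f of finite presentation over R_f, and M_f of finite
presentation over S_f. -/
theorem result (R S : Type u) [CommRing R] [IsReduced R] [CommRing S]
    [Algebra R S] [Algebra.FiniteType R S] (M : Type u) [AddCommGroup M] [Module S M] [Module R M]
    [IsScalarTower R S M] [Module.Finite S M] :
    ∃ U : Set (PrimeSpectrum R), IsOpen U ∧ Dense U ∧ ∀ u ∈ U, ∃ f : R, f ∉ u.asIdeal ∧
      (PrimeSpectrum.basicOpen f : Set (PrimeSpectrum R)) ⊆ U ∧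
      Module.Free (Localization.Away f) (LocalizedModule (Submonoid.powers f) M) ∧
      Module.Free (Localization.Away f) (LocalizedModule (Submonoid.powers f) S) ∧
      (Localization.awayMap (algebraMap R S) f).FinitePresentation ∧
      Module.FinitePresentation (Localization.Away (algebraMap R S f))
        (LocalizedModule (Submonoid.powers (algebraMap R S f)) M) := by
  classical
  let Good : R → Prop := fun f =>
      Module.Free (Localization.Away f) (LocalizedModule (Submonoid.powers f) M) ∧
      Module.Free (Localization.Away f) (LocalizedModule (Submonoid.powers f) S) ∧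
      (Localization.awayMap (algebraMap R S) f).FinitePresentation ∧
      Module.FinitePresentation (Localization.Away (algebraMap R S f))
        (LocalizedModule (Submonoid.powers (algebraMap R S f)) M)
  have key : ∀ h : R, h ≠ 0 → ∃ f : R, f ≠ 0 ∧ h ∣ f ∧ Good f := by
    intro h hh
    obtain ⟨f, hf, hd, hS, hM, ⟨n, φ, G, hφ, hG0, hker⟩, ⟨r, mgen, V, hgen, hV0, hV⟩⟩ :=
      Groth.Agent.Lib.Helper3.GenFreeRed.exists_freeAway_reduced R S M h hh
    refine ⟨f, hf, hd, ?_, ?_, ?_, ?_⟩
    · exact hM.free (Localization.Away f) (LocalizedModule.mkLinearMap (Submonoid.powers f) M)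
    · exact hS.free (Localization.Away f) (LocalizedModule.mkLinearMap (Submonoid.powers f) S)
    · exact awayMap_finitePresentation f
        (Groth.Agent.Lib.Helper2.GenFree.finitePresentation_tensor φ hφ f G hG0 hker
          (Localization.Away f))
    · refine Groth.Agent.Lib.Helper2.GenFree.finitePresentation_localizedModule
        (algebraMap R S f) mgen hgen V hV0 fun a ha => ?_
      obtain ⟨k, hk⟩ := hV a ha
      refine ⟨k, ?_⟩
      rw [← map_pow, algebraMap_smul]
      exact hk
  refine ⟨⋃ f ∈ {f : R | Good f}, (PrimeSpectrum.basicOpen f : Set (PrimeSpectrum R)), ?_, ?_, ?_⟩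
  · exact isOpen_biUnion fun f _ => (PrimeSpectrum.basicOpen f).2
  · rw [dense_iff_inter_open]
    intro O hO hne
    obtain ⟨x, hx⟩ := hne
    obtain ⟨_, ⟨h, rfl⟩, hxh, hhO⟩ :=
      PrimeSpectrum.isTopologicalBasis_basic_opens.exists_subset_of_mem_open hx hO
    have hh : h ≠ 0 := by
      rintro rfl
      exact hxh (x.asIdeal.zero_mem)
    obtain ⟨f, hf, hd, hgood⟩ := key h hh
    have hfn : ¬ IsNilpotent f := fun hn => hf (IsReduced.eq_zero f hn)
    have hne' : PrimeSpectrum.basicOpen f ≠ ⊥ := fun h0 =>
      hfn (PrimeSpectrum.basicOpen_eq_bot_iff f |>.mp h0)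
    obtain ⟨y, hy⟩ : ∃ y, y ∈ PrimeSpectrum.basicOpen f := by
      by_contra hcon
      push Not at hcon
      exact hne' (by ext y; simpa using hcon y)
    refine ⟨y, hhO ?_, Set.mem_biUnion hgood hy⟩
    intro hmem
    obtain ⟨c, rfl⟩ := hd
    exact hy (y.asIdeal.mul_mem_right _ hmem)
  · intro u hu
    obtain ⟨f, hfgood, huf⟩ := Set.mem_iUnion₂.mp hu
    exact ⟨f, huf, Set.subset_biUnion_of_mem (u := fun f => (PrimeSpectrum.basicOpen f :
      Set (PrimeSpectrum R))) hfgood, hfgood⟩

end Groth.Agent.S9158
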