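import Groth.Statements.S9160
import Mathlib.RingTheory.KrullDimension.NonZeroDivisors
import Mathlib.RingTheory.HopkinsLevitzki
import Mathlib.RingTheory.Artinian.Module
import Mathlib.Tactic
-- import your own Groth.Agent.* helpers here

set_option autoImplicit false
universe u
open CAlg

namespace Groth.Agent.S9160

theorem finlen (R : Type u) [CommRing R] [IsNoetherianRing R] (hdim : ringKrullDim R = 1) (a : R)
    (ha : IsRegular a) : Module.length R (R ⧸ Ideal.span ({a} : Set R)) ≠ ⊤ := by
  have h1 := ringKrullDim_quotient_succ_le_of_nonZeroDivisor (r := a) ha.mem_nonZeroDivisors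
  rw [hdim] at h1
  have h0 : ringKrullDim (R ⧸ Ideal.span ({a} : Set R)) ≤ 0 := by
    generalize ringKrullDim (R ⧸ Ideal.span ({a} : Set R)) = x at h1
    induction x using WithBot.recBotCoe with
    | bot => exact bot_le
    | coe n =>
      have h2 : n + 1 ≤ 1 := by exact_mod_cast h1
      have h3 : n ≤ 0 := by
        induction n using ENat.recTopCoe with
        | top => simp at h2
        | coe k =>
          have : k + 1 ≤ 1 := by exact_mod_cast h2
          have : k ≤ 0 := by omega
          exact_mod_cast this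
      exact_mod_cast h3
  haveI : Ring.KrullDimLE 0 (R ⧸ Ideal.span ({a} : Set R)) :=
    Ring.krullDimLE_iff.mpr (by simpa using h0)
  haveI : IsArtinianRing (R ⧸ Ideal.span ({a} : Set R)) :=
    isArtinianRing_iff_isNoetherianRing_krullDimLE_zero.mpr ⟨inferInstance, inferInstance⟩
  haveI : IsArtinian R (R ⧸ Ideal.span ({a} : Set R)) :=
    isArtinian_of_surjective_algebraMap (R := R ⧸ Ideal.span ({a} : Set R))
      (M := R ⧸ Ideal.span ({a} : Set R)) (S := R) Ideal.Quotient.mk_surjective
  exact Module.length_ne_top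

/-- In a semi-local Noetherian ring of dimension one, for nonzerodivisors a and b the length of R/(ab)
is the sum of the lengths of R/(a) and R/(b), and these lengths are finite. -/
theorem result (R : Type u) [CommRing R] [IsNoetherianRing R]
    (hsemi : Finite (MaximalSpectrum R)) (hdim : ringKrullDim R = 1) (a b : R) (ha : IsRegular a)
    (hb : IsRegular b) :
    Module.length R (R ⧸ Ideal.span ({a * b} : Set R)) =
        Module.length R (R ⧸ Ideal.span ({a} : Set R)) + Module.length R (R ⧸ Ideal.span ({b} : Set R)) ∧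
      Module.length R (R ⧸ Ideal.span ({a} : Set R)) ≠ ⊤ ∧
      Module.length R (R ⧸ Ideal.span ({b} : Set R)) ≠ ⊤ := by
  refine ⟨?_, finlen R hdim a ha, finlen R hdim b hb⟩
  -- the exact sequence 0 → R/(a) → R/(ab) → R/(b) → 0
  have h1 : Ideal.span ({a} : Set R) ≤
      Submodule.comap (LinearMap.mulLeft R b) (Ideal.span ({a * b} : Set R)) := by
    rw [Ideal.span_singleton_le_iff_mem]
    show b * a ∈ Ideal.span ({a * b} : Set R)
    rw [mul_comm]
    exact Ideal.mem_span_singleton_self _
  have h2 : Ideal.span ({a * b} : Set R) ≤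
      Submodule.comap (LinearMap.id : R →ₗ[R] R) (Ideal.span ({b} : Set R)) := by
    rw [Ideal.span_singleton_le_iff_mem]
    show a * b ∈ Ideal.span ({b} : Set R)
    exact Ideal.mul_mem_left _ _ (Ideal.mem_span_singleton_self _)
  let φ : (R ⧸ Ideal.span ({a} : Set R)) →ₗ[R] (R ⧸ Ideal.span ({a * b} : Set R)) :=
    Submodule.mapQ _ _ (LinearMap.mulLeft R b) h1
  let ψ : (R ⧸ Ideal.span ({a * b} : Set R)) →ₗ[R] (R ⧸ Ideal.span ({b} : Set R)) :=
    Submodule.mapQ _ _ LinearMap.id h2
  have hφ : ∀ x : R, φ (Submodule.Quotient.mk x) = Submodule.Quotient.mk (b * x) := fun x => rfl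
  have hψ : ∀ x : R, ψ (Submodule.Quotient.mk x) = Submodule.Quotient.mk x := fun x => rfl
  have hφinj : Function.Injective φ := by
    rw [injective_iff_map_eq_zero]
    intro x hx
    obtain ⟨x, rfl⟩ := Submodule.Quotient.mk_surjective _ x
    rw [hφ, Submodule.Quotient.mk_eq_zero] at hx
    rw [Submodule.Quotient.mk_eq_zero]
    obtain ⟨c, hc⟩ := Ideal.mem_span_singleton'.mp hx
    refine Ideal.mem_span_singleton'.mpr ⟨c, ?_⟩
    apply hb.left
    show b * (c * a) = b * x
    rw [← hc]; ring
  have hψsurj : Function.Surjective ψ := by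
    intro y
    obtain ⟨y, rfl⟩ := Submodule.Quotient.mk_surjective _ y
    exact ⟨Submodule.Quotient.mk y, hψ y⟩
  have hex : Function.Exact φ ψ := by
    intro y
    constructor
    · intro hy
      obtain ⟨y, rfl⟩ := Submodule.Quotient.mk_surjective _ y
      rw [hψ, Submodule.Quotient.mk_eq_zero] at hy
      obtain ⟨c, hc⟩ := Ideal.mem_span_singleton'.mp hy
      refine ⟨Submodule.Quotient.mk c, ?_⟩
      rw [hφ, ← hc, mul_comm b c]
    · rintro ⟨x, rfl⟩
      obtain ⟨x, rfl⟩ := Submodule.Quotient.mk_surjective _ x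
      rw [hφ, hψ, Submodule.Quotient.mk_eq_zero]
      exact Ideal.mul_mem_right _ _ (Ideal.mem_span_singleton_self _)
  exact Module.length_eq_add_of_exact φ ψ hφinj hψsurj hex

end Groth.Agent.S9160
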