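import Groth.Statements.S9163
import Mathlib.RingTheory.IntegralClosure.IsIntegralClosure.Basic
import Mathlib.RingTheory.Polynomial.Subring
import Mathlib.Tactic
-- import your own Groth.Agent.* helpers here

set_option autoImplicit false
universe u
open CAlg

namespace Groth.Agent.S9163

/-- If S is integral over R, then any finitely many elements of R and of S lie in a pair R₀ ⊆ R, S₀ ⊆ S
with R₀ a finite type ℤ-subalgebra, S₀ an R₀-subalgebra of S, and S₀ finite as an R₀-module; so R →
S is the directed colimit of finite maps between finite type ℤ-algebras. -/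
theorem result (R S : Type u) [CommRing R] [CommRing S] [Algebra R S]
    [Algebra.IsIntegral R S] (E : Finset R) (F : Finset S) :
    ∃ (R₀ : Subalgebra ℤ R) (S₀ : Subalgebra R₀ S), Algebra.FiniteType ℤ R₀ ∧ (E : Set R) ⊆ R₀ ∧
      (F : Set S) ⊆ S₀ ∧ Module.Finite R₀ S₀ := by
  classical
  have hint : ∀ x : S, ∃ p : Polynomial R, p.Monic ∧ Polynomial.eval₂ (algebraMap R S) x p = 0 :=
    fun x => Algebra.IsIntegral.isIntegral (R := R) x
  choose P hPmonic hPeval using hint
  let C : Finset R := E ∪ F.biUnion (fun x => (P x).coeffs)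
  let R₀ : Subalgebra ℤ R := Algebra.adjoin ℤ (C : Set R)
  have hC : (C : Set R) ⊆ R₀ := Algebra.subset_adjoin
  refine ⟨R₀, Algebra.adjoin R₀ (F : Set S), ?_, ?_, Algebra.subset_adjoin, ?_⟩
  · exact (Subalgebra.fg_iff_finiteType R₀).mp (Subalgebra.fg_adjoin_finset C)
  · intro e he
    exact hC (by simp [C, Finset.mem_coe.mp he])
  · refine Algebra.finite_adjoin_of_finite_of_isIntegral F.finite_toSet ?_
    intro x hx
    have hcoef : ((P x).coeffs : Set R) ⊆ R₀.toSubring := by
      intro c hc
      apply hC
      simp only [C, Finset.coe_union, Finset.coe_biUnion, Set.mem_union, Set.mem_iUnion]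
      exact Or.inr ⟨x, hx, hc⟩
    refine ⟨(P x).toSubring R₀.toSubring hcoef, ((P x).monic_toSubring _ _).mpr (hPmonic x), ?_⟩
    have hmap : Polynomial.map (algebraMap R₀ R) ((P x).toSubring R₀.toSubring hcoef) = P x :=
      (P x).map_toSubring R₀.toSubring hcoef
    rw [IsScalarTower.algebraMap_eq R₀ R S, ← Polynomial.eval₂_map, hmap]
    exact hPeval x

end Groth.Agent.S9163
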