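import Groth.Statements.S9166
import Mathlib
-- import your own Groth.Agent.* helpers here

set_option autoImplicit false
universe u
open CAlg

namespace Groth.Agent.S9166

open TensorProduct

/-- Let I be an ideal of a ring R, S → S' a surjective homomorphism of R-algebras with S of finite type
and S' of finite presentation over R, and q a prime of S containing IS. Assume S'_q is flat over R
and that S_q/IS_q → S'_q/IS'_q is an isomorphism, which for a surjection says: every element of the
kernel of S → S' maps into I·S_q. Then for some g ∉ q the localized map S_g → S'_g is bijective. -/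
theorem result (R S S' : Type u) [CommRing R] [CommRing S]
    [CommRing S'] [Algebra R S] [Algebra R S'] [Algebra.FiniteType R S] [Algebra.FinitePresentation R S']
    (I : Ideal R) (f : S →ₐ[R] S') (hf : Function.Surjective f) (q : Ideal S) [q.IsPrime]
    (hq : I.map (algebraMap R S) ≤ q)
    (hker : ∀ j : S, f j = 0 →
      algebraMap S (Localization.AtPrime q) j ∈ I.map (algebraMap R (Localization.AtPrime q)))
    (hflat : letI : Module S S' := f.toRingHom.toModule
      Module.Flat R (LocalizedModule q.primeCompl S')) :
    ∃ g : S, g ∉ q ∧ Function.Bijective (Localization.awayMap f.toRingHom g) := by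
  classical
  let _ : Module S S' := f.toRingHom.toModule
  have hsmul : ∀ (s : S) (x : S'), s • x = f s * x := fun s x => rfl
  -- the kernel is finitely generated
  have hJfg : (RingHom.ker f.toRingHom).FG := by
    obtain ⟨n, g, hg⟩ := Algebra.FiniteType.iff_quotient_mvPolynomial''.mp
      (inferInstance : Algebra.FiniteType R S)
    have h1 := (Algebra.FinitePresentation.ker_fg_of_mvPolynomial (f.comp g) (hf.comp hg)).map
      g.toRingHom
    convert h1 using 1
    simp_rw [RingHom.ker_eq_comap_bot, AlgHom.toRingHom_eq_coe, AlgHom.comp_toRingHom]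
    rw [← Ideal.comap_comap, Ideal.map_comap_of_surjective (g : MvPolynomial (Fin n) R →+* S) hg]
  set J : Ideal S := RingHom.ker f.toRingHom with hJ
  have hJmem : ∀ x, x ∈ J ↔ f x = 0 := fun x => Iff.rfl
  -- it suffices to kill `J` by an element outside `q`
  suffices hkill : ∃ g : S, g ∉ q ∧ ∀ x ∈ J, g * x = 0 by
    obtain ⟨g, hgq, hg⟩ := hkill
    refine ⟨g, hgq, ?_, ?_⟩
    · rw [Localization.awayMap_injective_iff]
      intro a ha
      exact ⟨1, by rw [pow_one]; exact hg a ha⟩
    · rw [Localization.awayMap_surjective_iff]
      intro a
      obtain ⟨b, hb⟩ := hf a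
      exact ⟨b, 0, by rw [pow_zero, one_mul]; exact hb⟩
  -- the localized exact sequence
  let flin : S →ₗ[S] S' :=
    { toFun := f
      map_add' := map_add f
      map_smul' := fun s x => by
        change f (s * x) = f s * f x
        exact map_mul f s x }
  have hex : Function.Exact (J.subtype : J →ₗ[S] S) flin := by
    intro x
    constructor
    · intro h
      exact ⟨⟨x, h⟩, rfl⟩
    · rintro ⟨y, rfl⟩
      exact y.2
  let a := LocalizedModule.map q.primeCompl (J.subtype : J →ₗ[S] S)
  let b := LocalizedModule.map q.primeCompl flin
  have hexq : Function.Exact a b := LocalizedModule.map_exact q.primeCompl _ _ hex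
  have ha : Function.Injective a :=
    LocalizedModule.map_injective q.primeCompl _ Subtype.val_injective
  have hb : Function.Surjective b := LocalizedModule.map_surjective q.primeCompl _ hf
  have hinj : Function.Injective ((a.restrictScalars R).lTensor (R ⧸ I)) :=
    LinearMap.lTensor_injective_of_exact_of_flat (b.restrictScalars R) hb (a.restrictScalars R) ha
      hexq (R ⧸ I)
  -- every element of `J_q` lies in `I • ⊤`
  have hIw : ∀ w : LocalizedModule q.primeCompl J,
      w ∈ (I • ⊤ : Submodule R (LocalizedModule q.primeCompl J)) := by
    intro w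
    have haw : a w ∈ (I • ⊤ : Submodule R (LocalizedModule q.primeCompl S)) := by
      induction w using LocalizedModule.induction_on with
      | h j s =>
        have h1 := hker j.1 j.2
        have h2 : a (LocalizedModule.mk j s) =
            (Localization.mk 1 s : Localization.AtPrime q) *
              algebraMap S (Localization.AtPrime q) j.1 := by
          have h5 : a (LocalizedModule.mk j s) = LocalizedModule.mk j.1 s :=
            LocalizedModule.map_mk _ _ _ _
          rw [h5, ← Localization.mk_one_eq_algebraMap, Localization.mk_mul, one_mul, mul_one]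
          rfl
        rw [h2]
        have h3 := Ideal.mul_mem_left _ (Localization.mk 1 s : Localization.AtPrime q) h1
        have h4 := Ideal.smul_top_eq_map (R := R) (S := Localization.AtPrime q) I
        change _ ∈ (I • ⊤ : Submodule R (Localization.AtPrime q))
        rw [h4]
        exact h3
    have h0 : (Ideal.Quotient.mk I 1) ⊗ₜ[R] (a w) =
        (0 : (R ⧸ I) ⊗[R] LocalizedModule q.primeCompl S) := by
      apply (TensorProduct.quotTensorEquivQuotSMul (LocalizedModule q.primeCompl S) I).injective
      rw [TensorProduct.quotTensorEquivQuotSMul_mk_tmul, one_smul, map_zero]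
      exact (Submodule.Quotient.mk_eq_zero _).mpr haw
    have h1 : (Ideal.Quotient.mk I 1) ⊗ₜ[R] w =
        (0 : (R ⧸ I) ⊗[R] LocalizedModule q.primeCompl J) := by
      apply hinj
      rw [LinearMap.lTensor_tmul, map_zero]
      exact h0
    have h2 := congrArg (TensorProduct.quotTensorEquivQuotSMul (LocalizedModule q.primeCompl J) I) h1
    rw [TensorProduct.quotTensorEquivQuotSMul_mk_tmul, one_smul, map_zero] at h2
    exact (Submodule.Quotient.mk_eq_zero _).mp h2
  -- Nakayama: `J_q = 0`
  have hfinJ : Module.Finite S J := Module.Finite.iff_fg.mpr hJfg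
  have hfin : Module.Finite (Localization.AtPrime q) (LocalizedModule q.primeCompl J) :=
    inferInstance
  have htop : (⊤ : Submodule (Localization.AtPrime q) (LocalizedModule q.primeCompl J)) = ⊥ := by
    apply Submodule.eq_bot_of_le_smul_of_le_jacobson_bot
      (IsLocalRing.maximalIdeal (Localization.AtPrime q)) ⊤ Module.Finite.fg_top
    · intro w _
      have hw := hIw w
      refine Submodule.smul_induction_on hw ?_ ?_
      · intro i hi x _
        have h1 : i • x = (algebraMap R (Localization.AtPrime q) i) • x :=
          (algebraMap_smul _ i x).symm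
        rw [h1]
        apply Submodule.smul_mem_smul _ Submodule.mem_top
        rw [IsScalarTower.algebraMap_apply R S (Localization.AtPrime q),
          IsLocalization.AtPrime.to_map_mem_maximal_iff _ q]
        exact hq (Ideal.mem_map_of_mem _ hi)
      · intro x y hx hy
        exact add_mem hx hy
    · exact IsLocalRing.maximalIdeal_le_jacobson _
  have hkill1 : ∀ j ∈ J, ∃ g : S, g ∉ q ∧ g * j = 0 := by
    intro j hj
    have h1 : (LocalizedModule.mk (⟨j, hj⟩ : J) 1 : LocalizedModule q.primeCompl J) = 0 := by
      have : (LocalizedModule.mk (⟨j, hj⟩ : J) 1 : LocalizedModule q.primeCompl J) ∈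
          (⊤ : Submodule (Localization.AtPrime q) _) := Submodule.mem_top
      rw [htop] at this
      exact this
    rw [← LocalizedModule.zero_mk (1 : q.primeCompl), LocalizedModule.mk_eq] at h1
    obtain ⟨c, hc⟩ := h1
    refine ⟨c, c.2, ?_⟩
    simp only [one_smul, smul_zero] at hc
    exact congrArg Subtype.val hc
  obtain ⟨G, hG⟩ := hJfg
  choose! gf hgf using hkill1
  have hGJ : ∀ j ∈ G, j ∈ J := fun j hj => hG ▸ Ideal.subset_span hj
  refine ⟨∏ j ∈ G, gf j, ?_, ?_⟩
  · rw [Ideal.IsPrime.prod_mem_iff]
    push Not
    intro j hj
    exact (hgf j (hGJ j hj)).1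
  · intro x hx
    rw [← hG] at hx
    refine Submodule.span_induction ?_ ?_ ?_ ?_ hx
    · intro j hj
      rw [← Finset.mul_prod_erase G gf hj, mul_comm (gf j), mul_assoc, (hgf j (hGJ j hj)).2, mul_zero]
    · exact mul_zero _
    · intro x y _ _ hx hy
      rw [mul_add, hx, hy, add_zero]
    · intro c x _ hx
      rw [smul_eq_mul, mul_left_comm, hx, mul_zero]

end Groth.Agent.S9166
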