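import Groth.Statements.S9167
import Mathlib
import Groth.Agent.S9157

set_option autoImplicit false
universe u
open CAlg

namespace Groth.Agent.S9167

/-- lift a finitely presented module over `R ⧸ I` to a finitely presented module over `R` -/
theorem exists_lift_fp (R : Type u) [CommRing R] (I : Ideal R) (N' : Type u) [AddCommGroup N']
    [Module (R ⧸ I) N'] [Module.FinitePresentation (R ⧸ I) N'] :
    ∃ (M : Type u) (_ : AddCommGroup M) (_ : Module R M), Module.FinitePresentation R M ∧
      Nonempty ((M ⧸ (I • ⊤ : Submodule R M)) ≃ₗ[R ⧸ I] N') := by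
  classical
  obtain ⟨n, m, f, g, hf, hfg⟩ := Module.FinitePresentation.exists_fin' (R ⧸ I) N'
  letI : Module R N' := Module.compHom N' (Ideal.Quotient.mk I)
  haveI : IsScalarTower R (R ⧸ I) N' := IsScalarTower.of_compHom R (R ⧸ I) N'
  -- coordinatewise reduction
  let π : (Fin n → R) →ₗ[R] (Fin n → R ⧸ I) := (Algebra.linearMap R (R ⧸ I)).compLeft (Fin n)
  have hπ : Function.Surjective π := by
    intro y
    choose x hx using fun i => Ideal.Quotient.mk_surjective (y i)
    exact ⟨x, funext hx⟩
  have hkerπ : ∀ x : Fin n → R, π x = 0 → x ∈ (I • ⊤ : Submodule R (Fin n → R)) := by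
    intro x hx
    have hxi : ∀ i, x i ∈ I := by
      intro i
      have := congrFun hx i
      exact Ideal.Quotient.eq_zero_iff_mem.mp this
    have : x = ∑ i, x i • (Pi.single i (1 : R) : Fin n → R) := by
      ext j
      simp [Finset.sum_apply, Pi.single_apply]
    rw [this]
    exact Submodule.sum_mem _ fun i _ => Submodule.smul_mem_smul (hxi i) Submodule.mem_top
  -- lifts of the relations
  choose k hk using fun j : Fin m => hπ (g (Pi.single j 1))
  let P : Submodule R (Fin n → R) := Submodule.span R (Set.range k)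
  let ψ : (Fin n → R) →ₗ[R] N' := (f.restrictScalars R) ∘ₗ π
  have hψ : Function.Surjective ψ := hf.comp hπ
  have hPψ : P ≤ LinearMap.ker ψ := by
    rw [Submodule.span_le]
    rintro _ ⟨j, rfl⟩
    show f (π (k j)) = 0
    rw [hk j]
    exact hfg.apply_apply_eq_zero _
  have hker : ∀ x : Fin n → R, ψ x = 0 → ∃ p ∈ P, x - p ∈ (I • ⊤ : Submodule R (Fin n → R)) := by
    intro x hx
    have h1 : π x ∈ LinearMap.range g := (hfg (π x)).mp hx
    obtain ⟨c, hc⟩ := h1
    -- c = Σ c_j e_j, lift c_j
    choose c' hc' using fun j => Ideal.Quotient.mk_surjective (c j)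
    refine ⟨∑ j, c' j • k j, Submodule.sum_mem _ fun j _ =>
      Submodule.smul_mem _ _ (Submodule.subset_span ⟨j, rfl⟩), ?_⟩
    apply hkerπ
    rw [map_sub, map_sum, ← hc]
    have hcsum : c = ∑ j, c j • (Pi.single j (1 : R ⧸ I) : Fin m → R ⧸ I) := by
      ext j
      simp [Finset.sum_apply, Pi.single_apply]
    rw [hcsum, map_sum, ← Finset.sum_sub_distrib]
    apply Finset.sum_eq_zero
    intro j _
    rw [map_smul, map_smul, hk j, ← hc' j, sub_eq_zero]
    rfl
  refine ⟨(Fin n → R) ⧸ P, inferInstance, inferInstance, ?_, ?_⟩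
  · exact Module.finitePresentation_of_free_of_surjective P.mkQ (Submodule.mkQ_surjective P)
      (by rw [Submodule.ker_mkQ]; exact Submodule.fg_span (Set.finite_range k))
  · let ψ1 : ((Fin n → R) ⧸ P) →ₗ[R] N' := P.liftQ ψ hPψ
    have hI : (I • ⊤ : Submodule R ((Fin n → R) ⧸ P)) ≤ LinearMap.ker ψ1 := by
      rw [Submodule.smul_le]
      intro r hr x _
      rw [LinearMap.mem_ker, map_smul]
      show (Ideal.Quotient.mk I r) • ψ1 x = 0
      rw [Ideal.Quotient.eq_zero_iff_mem.mpr hr, zero_smul]
    let ψ2 : (((Fin n → R) ⧸ P) ⧸ (I • ⊤ : Submodule R ((Fin n → R) ⧸ P))) →ₗ[R] N' :=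
      (I • ⊤ : Submodule R ((Fin n → R) ⧸ P)).liftQ ψ1 hI
    have hsurj : Function.Surjective ψ2 := by
      intro y
      obtain ⟨x, rfl⟩ := hψ y
      exact ⟨Submodule.Quotient.mk (Submodule.Quotient.mk x), rfl⟩
    have hinj : Function.Injective ψ2 := by
      rw [injective_iff_map_eq_zero]
      intro z hz
      obtain ⟨z1, rfl⟩ := Submodule.Quotient.mk_surjective _ z
      obtain ⟨x, rfl⟩ := Submodule.Quotient.mk_surjective _ z1
      have hx : ψ x = 0 := hz
      obtain ⟨p, hp, hxp⟩ := hker x hx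
      rw [Submodule.Quotient.mk_eq_zero]
      have h1 : (Submodule.Quotient.mk x : (Fin n → R) ⧸ P) = Submodule.Quotient.mk (x - p) := by
        rw [Submodule.Quotient.mk_sub, (Submodule.Quotient.mk_eq_zero P).mpr hp, sub_zero]
      rw [h1]
      have h2 : (I • ⊤ : Submodule R (Fin n → R)).map P.mkQ ≤ (I • ⊤ : Submodule R ((Fin n → R) ⧸ P)) := by
        rw [Submodule.map_smul'']
        exact Submodule.smul_mono le_rfl le_top
      exact h2 ⟨x - p, hxp, rfl⟩
    let e2 := LinearEquiv.ofBijective ψ2 ⟨hinj, hsurj⟩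
    exact ⟨LinearEquiv.extendScalarsOfSurjective (Ideal.Quotient.mk_surjective (I := I)) e2⟩


theorem aux (R : Type u) [CommRing R] (I : Ideal R)
    (Sb : Submonoid (R ⧸ I)) (M' : Type u) [AddCommGroup M']
    [Module (Localization Sb) M']
    [Module.FinitePresentation (Localization Sb) M'] :
    ∃ (M : Type u) (_ : AddCommGroup M) (_ : Module R M), Module.FinitePresentation R M ∧
      Nonempty (LocalizedModule Sb (M ⧸ (I • ⊤ : Submodule R M))
        ≃ₗ[Localization Sb] M') := by
  classical
  letI : Module (R ⧸ I) M' := Module.compHom M' (algebraMap (R ⧸ I) (Localization Sb))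
  haveI : IsScalarTower (R ⧸ I) (Localization Sb) M' :=
    IsScalarTower.of_compHom (R ⧸ I) (Localization Sb) M'
  haveI hloc : IsLocalizedModule Sb (LinearMap.id : M' →ₗ[R ⧸ I] M') :=
    isLocalizedModule_id Sb M' (Localization Sb)
  -- LocalizedModule Sb M' ≃ M' over R ⧸ I
  let e0 : LocalizedModule Sb M' ≃ₗ[R ⧸ I] M' :=
    IsLocalizedModule.iso Sb (LinearMap.id : M' →ₗ[R ⧸ I] M')
  let e0' : LocalizedModule Sb M' ≃ₗ[Localization Sb] M' :=
    LinearEquiv.extendScalarsOfIsLocalization Sb (Localization Sb) e0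
  haveI : Module.FinitePresentation (Localization Sb) (LocalizedModule Sb M') :=
    Module.FinitePresentation.of_equiv e0'.symm
  obtain ⟨N'', iN1, iN2, φ, hfp, hφ⟩ := Groth.Agent.S9157.result (R ⧸ I) Sb M'
  obtain ⟨M, iM1, iM2, hMfp, ⟨e⟩⟩ := exists_lift_fp R I N''
  refine ⟨M, iM1, iM2, hMfp, ⟨?_⟩⟩
  have h1 : Function.Bijective (LocalizedModule.map Sb e.toLinearMap) :=
    ⟨LocalizedModule.map_injective Sb _ e.injective, LocalizedModule.map_surjective Sb _ e.surjective⟩
  exact ((LinearEquiv.ofBijective _ h1).trans (LinearEquiv.ofBijective _ hφ)).trans e0'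

/-- With R' = S⁻¹(R/I), every finitely presented R'-module is of the form S⁻¹(M/IM) for some finitely
presented R-module M. -/
theorem result (R : Type u) [CommRing R] (I : Ideal R)
    (S : Submonoid R) (M' : Type u) [AddCommGroup M']
    [Module (Localization (S.map (Ideal.Quotient.mk I))) M']
    [Module.FinitePresentation (Localization (S.map (Ideal.Quotient.mk I))) M'] :
    ∃ (M : Type u) (_ : AddCommGroup M) (_ : Module R M), Module.FinitePresentation R M ∧
      Nonempty (LocalizedModule (S.map (Ideal.Quotient.mk I)) (M ⧸ (I • ⊤ : Submodule R M))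
        ≃ₗ[Localization (S.map (Ideal.Quotient.mk I))] M') := by
  exact aux R I (S.map (Ideal.Quotient.mk I)) M'

end Groth.Agent.S9167
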