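import Groth.Statements.S9168
import Mathlib

set_option autoImplicit false
universe u
open CAlg

namespace Groth.Agent.S9168

-- the "localization inside T" of a subring
def locClosure {T : Type*} [CommRing T] (T₁ : Subring T) : Subring T where
  carrier := {x | ∃ b ∈ T₁, IsUnit b ∧ x * b ∈ T₁}
  mul_mem' := by
    rintro x y ⟨b, hb, hbu, hxb⟩ ⟨c, hc, hcu, hyc⟩
    refine ⟨b * c, T₁.mul_mem hb hc, hbu.mul hcu, ?_⟩
    have : x * y * (b * c) = (x * b) * (y * c) := by ring
    rw [this]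
    exact T₁.mul_mem hxb hyc
  one_mem' := ⟨1, T₁.one_mem, isUnit_one, by simpa using T₁.one_mem⟩
  add_mem' := by
    rintro x y ⟨b, hb, hbu, hxb⟩ ⟨c, hc, hcu, hyc⟩
    refine ⟨b * c, T₁.mul_mem hb hc, hbu.mul hcu, ?_⟩
    have : (x + y) * (b * c) = (x * b) * c + (y * c) * b := by ring
    rw [this]
    exact T₁.add_mem (T₁.mul_mem hxb hc) (T₁.mul_mem hyc hb)
  zero_mem' := ⟨1, T₁.one_mem, isUnit_one, by simpa using T₁.zero_mem⟩
  neg_mem' := by
    rintro x ⟨b, hb, hbu, hxb⟩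
    refine ⟨b, hb, hbu, ?_⟩
    rw [neg_mul]
    exact T₁.neg_mem hxb

theorem mem_locClosure {T : Type*} [CommRing T] (T₁ : Subring T) (x : T) :
    x ∈ locClosure T₁ ↔ ∃ b ∈ T₁, IsUnit b ∧ x * b ∈ T₁ := Iff.rfl

theorem le_locClosure {T : Type*} [CommRing T] (T₁ : Subring T) : T₁ ≤ locClosure T₁ :=
  fun x hx => ⟨1, T₁.one_mem, isUnit_one, by simpa using hx⟩

theorem isUnit_of_isUnit_val {T : Type*} [CommRing T] (T₁ : Subring T) (x : locClosure T₁)
    (hx : IsUnit (x : T)) : IsUnit x := by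
  obtain ⟨b, hb, hbu, hxb⟩ := x.2
  have hau : IsUnit ((x : T) * b) := hx.mul hbu
  obtain ⟨u, hu⟩ := hx
  have hinv : (↑u⁻¹ : T) ∈ locClosure T₁ := by
    refine ⟨(x : T) * b, hxb, hau, ?_⟩
    rw [← hu, ← mul_assoc, Units.inv_mul, one_mul]
    exact hb
  refine IsUnit.of_mul_eq_one ⟨↑u⁻¹, hinv⟩ ?_
  apply Subtype.ext
  change (x : T) * ↑u⁻¹ = 1
  rw [← hu, Units.mul_inv]

theorem isLocalRing_locClosure {T : Type*} [CommRing T] [IsLocalRing T] (T₁ : Subring T) :
    IsLocalRing (locClosure T₁) := by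
  refine IsLocalRing.of_nonunits_add ?_
  intro a b ha hb
  have ha' : (a : T) ∈ nonunits T := fun h => ha (isUnit_of_isUnit_val T₁ a h)
  have hb' : (b : T) ∈ nonunits T := fun h => hb (isUnit_of_isUnit_val T₁ b h)
  have hab := IsLocalRing.nonunits_add ha' hb'
  intro h
  exact hab (h.map (locClosure T₁).subtype)

theorem isLocalHom_subtype_locClosure {T : Type*} [CommRing T] (T₁ : Subring T) :
    IsLocalHom (locClosure T₁).subtype :=
  ⟨fun x hx => isUnit_of_isUnit_val T₁ x hx⟩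

theorem essFiniteType_locClosure {B T : Type*} [CommRing B] [CommRing T] (β : B →+* T)
    (F : Finset T) (T₁ : Subring T) (hT₁ : T₁ = Subring.closure (Set.range β ∪ (F : Set T)))
    (β₀ : B →+* locClosure T₁)
    (hβ₀ : ∀ b, (β₀ b : T) = β b) : β₀.EssFiniteType := by
  classical
  have hsub : Set.range β ∪ (F : Set T) ⊆ T₁ := by
    rw [hT₁]
    exact Subring.subset_closure
  letI := β₀.toAlgebra
  change Algebra.EssFiniteType B (locClosure T₁)
  rw [Algebra.essFiniteType_iff]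
  have hF : ∀ f ∈ F, f ∈ locClosure T₁ := fun f hf =>
    le_locClosure T₁ (hsub (Or.inr hf))
  let σ : Finset (locClosure T₁) := F.attach.image (fun f => ⟨f.1, hF f.1 f.2⟩)
  have key : ∀ y ∈ T₁, ∃ hy : y ∈ locClosure T₁,
      (⟨y, hy⟩ : locClosure T₁) ∈ Algebra.adjoin B (σ : Set (locClosure T₁)) := by
    intro y hy
    rw [hT₁] at hy
    induction hy using Subring.closure_induction with
    | mem y hy =>
      rcases hy with ⟨c, rfl⟩ | hy
      · refine ⟨le_locClosure T₁ (hsub (Or.inl ⟨c, rfl⟩)), ?_⟩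
        have : (⟨β c, le_locClosure T₁ (hsub (Or.inl ⟨c, rfl⟩))⟩ :
            locClosure T₁) = algebraMap B (locClosure T₁) c := Subtype.ext (hβ₀ c).symm
        rw [this]
        exact Subalgebra.algebraMap_mem _ c
      · refine ⟨hF y hy, Algebra.subset_adjoin ?_⟩
        rw [Finset.mem_coe, Finset.mem_image]
        exact ⟨⟨y, hy⟩, Finset.mem_attach _ _, rfl⟩
    | zero => exact ⟨(locClosure T₁).zero_mem, Subalgebra.zero_mem _⟩
    | one => exact ⟨(locClosure T₁).one_mem, Subalgebra.one_mem _⟩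
    | add x y _ _ hx hy =>
      obtain ⟨hx1, hx2⟩ := hx
      obtain ⟨hy1, hy2⟩ := hy
      exact ⟨(locClosure T₁).add_mem hx1 hy1, Subalgebra.add_mem _ hx2 hy2⟩
    | neg x _ hx =>
      obtain ⟨hx1, hx2⟩ := hx
      exact ⟨(locClosure T₁).neg_mem hx1, Subalgebra.neg_mem _ hx2⟩
    | mul x y _ _ hx hy =>
      obtain ⟨hx1, hx2⟩ := hx
      obtain ⟨hy1, hy2⟩ := hy
      exact ⟨(locClosure T₁).mul_mem hx1 hy1, Subalgebra.mul_mem _ hx2 hy2⟩
  refine ⟨σ, fun s => ?_⟩
  obtain ⟨b, hb, hbu, hsb⟩ := s.2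
  obtain ⟨hb1, hb2⟩ := key b hb
  obtain ⟨hsb1, hsb2⟩ := key _ hsb
  refine ⟨⟨b, hb1⟩, hb2, isUnit_of_isUnit_val T₁ ⟨b, hb1⟩ hbu, ?_⟩
  exact hsb2

/-- For a local homomorphism of local rings R → S and finite subsets E ⊆ R, F ⊆ S there are local
subrings R₀ ⊆ R and S₀ ⊆ S containing E and F, with R → S mapping R₀ into S₀, such that the
inclusions and the induced map R₀ → S₀ are local homomorphisms, R₀ is essentially of finite type
over ℤ and S₀ is essentially of finite type over R₀. (So R → S is the directed colimit of such R₀ →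
S₀.) -/
theorem result (R S : Type u) [CommRing R] [CommRing S] [IsLocalRing R]
    [IsLocalRing S] [Algebra R S] [IsLocalHom (algebraMap R S)] (E : Finset R) (F : Finset S) :
    ∃ (R₀ : Subring R) (S₀ : Subring S) (h : ∀ x ∈ R₀, algebraMap R S x ∈ S₀),
      (E : Set R) ⊆ R₀ ∧ (F : Set S) ⊆ S₀ ∧ ∃ (_ : IsLocalRing R₀) (_ : IsLocalRing S₀),
        IsLocalHom R₀.subtype ∧ IsLocalHom S₀.subtype ∧
          IsLocalHom ((algebraMap R S).restrict R₀ S₀ h) ∧
          (algebraMap ℤ R₀).EssFiniteType ∧ ((algebraMap R S).restrict R₀ S₀ h).EssFiniteType := by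
  classical
  let βR : ℤ →+* R := Int.castRingHom R
  let R₁ : Subring R := Subring.closure (Set.range βR ∪ (E : Set R))
  let R₀ : Subring R := locClosure R₁
  let βS : R₀ →+* S := (algebraMap R S).comp R₀.subtype
  let S₁ : Subring S := Subring.closure (Set.range βS ∪ (F : Set S))
  let S₀ : Subring S := locClosure S₁
  have h : ∀ x ∈ R₀, algebraMap R S x ∈ S₀ := fun x hx =>
    le_locClosure S₁ (Subring.subset_closure (Or.inl ⟨⟨x, hx⟩, rfl⟩))
  refine ⟨R₀, S₀, h, ?_, ?_, isLocalRing_locClosure R₁, isLocalRing_locClosure S₁,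
    isLocalHom_subtype_locClosure R₁, isLocalHom_subtype_locClosure S₁, ?_, ?_, ?_⟩
  · intro e he
    exact le_locClosure R₁ (Subring.subset_closure (Or.inr he))
  · intro f hf
    exact le_locClosure S₁ (Subring.subset_closure (Or.inr hf))
  · constructor
    intro x hx
    apply isUnit_of_isUnit_val R₁ x
    have h1 : IsUnit (algebraMap R S (x : R)) := hx.map S₀.subtype
    exact isUnit_of_map_unit (algebraMap R S) _ h1
  · have := essFiniteType_locClosure βR E R₁ rfl (algebraMap ℤ R₀) (fun b => by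
      change ((algebraMap ℤ R₀ b : R₀) : R) = Int.castRingHom R b
      simp)
    exact this
  · exact essFiniteType_locClosure βS F S₁ rfl ((algebraMap R S).restrict R₀ S₀ h) (fun b => rfl)

end Groth.Agent.S9168
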