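import Groth.Statements.S9170
import Groth.Agent.Lib.Helper7Synt4

set_option autoImplicit false
universe u
open Synt

namespace Groth.Agent.S9170

/-- For a relative global complete intersection S = R[x_1, …, x_n]/(f_1, …, f_c) over a ring R and a
prime q' of the polynomial ring containing the ideal (f_1, …, f_c): (1) f_1, …, f_c is a regular
sequence in the localization R[x]_{q'} (a local ring); (2) every quotient R[x]_{q'}/(f_1, …, f_i) is
flat over R; (3) the conormal module (f)/(f)² is free over S with basis the classes of the f_i
(stated as: these classes are linearly independent over S and span). -/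
theorem result (R : Type u) [CommRing R] (n c : ℕ)
    (F : Fin c → MvPolynomial (Fin n) R) (h : Synt.IsRelGCI R n c F)
    (q' : Ideal (MvPolynomial (Fin n) R)) [q'.IsPrime] (hq' : Ideal.span (Set.range F) ≤ q') :
    RingTheory.Sequence.IsRegular (Localization.AtPrime q')
        ((List.ofFn F).map (algebraMap (MvPolynomial (Fin n) R) (Localization.AtPrime q'))) ∧
      (∀ i ≤ c, Module.Flat R (Localization.AtPrime q' ⧸ Ideal.ofList
        (((List.ofFn F).take i).map (algebraMap (MvPolynomial (Fin n) R) (Localization.AtPrime q'))))) ∧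
      LinearIndependent (Synt.RelGCIRing R n c F)
        (fun i : Fin c => (Ideal.span (Set.range F)).toCotangent ⟨F i, Ideal.subset_span (Set.mem_range_self i)⟩) ∧
      Submodule.span (Synt.RelGCIRing R n c F) (Set.range
        (fun i : Fin c => (Ideal.span (Set.range F)).toCotangent ⟨F i, Ideal.subset_span (Set.mem_range_self i)⟩)) = ⊤ := by
  open Groth.Agent.Lib.Helper7.Synt in
  have hmain := isWeaklyRegular_and_flat_of_isRelGCI F h
  obtain ⟨hw, hfl⟩ := hmain q' hq'
  have hmemq : ∀ r ∈ (List.ofFn F).map (algebraMap (MvPolynomial (Fin n) R) (Localization.AtPrime q')),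
      r ∈ IsLocalRing.maximalIdeal (Localization.AtPrime q') := by
    intro r hr
    obtain ⟨f, hf, rfl⟩ := List.mem_map.mp hr
    obtain ⟨i, rfl⟩ := (List.mem_ofFn' F f).mp hf
    rw [← Localization.AtPrime.map_eq_maximalIdeal]
    exact Ideal.mem_map_of_mem _ (hq' (Ideal.subset_span (Set.mem_range_self i)))
  refine ⟨(IsLocalRing.isRegular_iff_isWeaklyRegular_of_subset_maximalIdeal hmemq).mpr hw,
    fun i hi => ?_, ?_, ?_⟩
  · have := hfl i hi
    rw [Groth.Agent.Lib.Helper7.Synt.flat_quot_iff', ← List.map_take] at this
    exact this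
  · apply Groth.Agent.Lib.Helper7.Synt.linearIndependent_toCotangent F
    intro m hm hle
    have : m.IsPrime := hm.isPrime
    exact (hmain m hle).1
  · exact Groth.Agent.Lib.Helper7.Synt.span_toCotangent F


end Groth.Agent.S9170
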