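import Groth.Statements.S9171
import Groth.Agent.Lib.Helper7Synt14

set_option autoImplicit false
universe u
open Synt

namespace Groth.Agent.S9171

/-- Let S = k[x_1, …, x_n]/I over a field k, q a prime of S, q' the corresponding prime of the
polynomial ring and c the integer with c + ht(q) = ht(q'). Equivalent: (1) S_g is a global complete
intersection over k for some g ∉ q; (2) the extension of I to the local ring k[x]_{q'} is generated
by c elements; (5) that extension is generated by a regular sequence. Stated as (1) ↔ (2) and (1) ↔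
(5). -/
theorem result (k : Type u) [Field k] (n : ℕ)
    (I : Ideal (MvPolynomial (Fin n) k)) (q : Ideal (MvPolynomial (Fin n) k ⧸ I)) [q.IsPrime] (c : ℕ)
    (hc : (c : ℕ∞) + q.height = (q.comap (Ideal.Quotient.mk I)).height) :
    ((∃ g : MvPolynomial (Fin n) k ⧸ I, g ∉ q ∧ Synt.IsGlobalCI k (Localization.Away g)) ↔
        ∃ s : Finset (Localization.AtPrime (q.comap (Ideal.Quotient.mk I))), s.card = c ∧
          Ideal.span (s : Set _) =
            I.map (algebraMap _ (Localization.AtPrime (q.comap (Ideal.Quotient.mk I))))) ∧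
      ((∃ g : MvPolynomial (Fin n) k ⧸ I, g ∉ q ∧ Synt.IsGlobalCI k (Localization.Away g)) ↔
        ∃ rs : List (Localization.AtPrime (q.comap (Ideal.Quotient.mk I))),
          RingTheory.Sequence.IsRegular (Localization.AtPrime (q.comap (Ideal.Quotient.mk I))) rs ∧
          Ideal.ofList rs =
            I.map (algebraMap _ (Localization.AtPrime (q.comap (Ideal.Quotient.mk I))))) := by
  classical
  have hk : LocCoh.IsCohenMacaulayRing k := Groth.Agent.Lib.Helper28.isCohenMacaulayRing_of_field k
  haveI hS : LocCoh.IsCohenMacaulayRing (MvPolynomial (Fin n) k) :=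
    Groth.Agent.Lib.Helper28.isCohenMacaulayRing_mvPolynomial_fin n
  let φ : MvPolynomial (Fin n) k →ₐ[k] (MvPolynomial (Fin n) k ⧸ I) := Ideal.Quotient.mkₐ k I
  have hφ : Function.Surjective φ := Ideal.Quotient.mkₐ_surjective k I
  have hker : RingHom.ker φ.toRingHom = I := Ideal.mk_ker
  haveI : (q.comap (Ideal.Quotient.mk I)).IsPrime := Ideal.comap_isPrime _ _
  haveI hreg : IsRegularLocalRing (Localization.AtPrime (q.comap (Ideal.Quotient.mk I))) :=
    Groth.Agent.Lib.Helper7.Synt.isRegularLocalRing_localization_mvPolynomial k n _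
  have hne : I.map (algebraMap _ (Localization.AtPrime (q.comap (Ideal.Quotient.mk I)))) ≠ ⊤ := by
    have := Groth.Agent.Lib.Helper7.Synt.map_ker_ne_top k φ hφ q
    rwa [hker] at this
  -- the height of the extended ideal is `c`
  have hht : (I.map (algebraMap _ (Localization.AtPrime (q.comap (Ideal.Quotient.mk I))))).height =
      (c : ℕ∞) := by
    have h1 := Groth.Agent.Lib.Helper28.height_comap_eq_height_add_height_map I q
    rw [← hc, add_comm q.height] at h1
    exact ((ENat.add_left_injective_of_ne_top (Ideal.height_ne_top_of_isPrime (I := q))) h1).symm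
  have h15 : (∃ g : MvPolynomial (Fin n) k ⧸ I, g ∉ q ∧ Synt.IsGlobalCI k (Localization.Away g)) ↔
      ∃ rs : List (Localization.AtPrime (q.comap (Ideal.Quotient.mk I))),
        Ideal.ofList rs = I.map (algebraMap _ (Localization.AtPrime (q.comap (Ideal.Quotient.mk I)))) ∧
        RingTheory.Sequence.IsRegular (Localization.AtPrime (q.comap (Ideal.Quotient.mk I))) rs := by
    rw [← Groth.Agent.Lib.Helper7.Synt.isCIOver_localization_iff_exists_away' k φ hφ q,
      Groth.Agent.Lib.Helper7.Synt.isCIOver_localization_iff k φ hφ q, hker]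
    rfl
  refine ⟨?_, h15.trans ⟨fun ⟨rs, h1, h2⟩ => ⟨rs, h2, h1⟩, fun ⟨rs, h1, h2⟩ => ⟨rs, h2, h1⟩⟩⟩
  rw [h15, Groth.Agent.Lib.Helper7.CIPres.regular_iff_good _ hne,
    Groth.Agent.Lib.Helper7.Synt.good_iff_height _ hne, hht]
  constructor
  · rintro ⟨c', v, hv, hc'⟩
    have hc'c : c' ≤ c := by exact_mod_cast hc'
    refine ⟨Finset.univ.image v, ?_, ?_⟩
    · have h1 : (Finset.univ.image v).card ≤ c' := by
        simpa using (Finset.card_image_le (s := (Finset.univ : Finset (Fin c'))) (f := v))
      have hspan : Ideal.span ((Finset.univ.image v : Finset _) : Set _) =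
          I.map (algebraMap _ (Localization.AtPrime (q.comap (Ideal.Quotient.mk I)))) := by
        rw [Finset.coe_image, Finset.coe_univ, Set.image_univ]
        exact hv
      have h2 : (c : ℕ∞) ≤ ((Finset.univ.image v).card : ℕ∞) := by
        rw [← hht]
        obtain ⟨p, hp⟩ := Ideal.nonempty_minimalPrimes hne
        have hp' : p ∈ (Ideal.span ((Finset.univ.image v : Finset _) : Set _)).minimalPrimes := by
          rw [hspan]; exact hp
        exact (Ideal.height_mono hp.1.2).trans
          (Ideal.height_le_card_of_mem_minimalPrimes_span_finset hp')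
      have h3 : c ≤ (Finset.univ.image v).card := by exact_mod_cast h2
      omega
    · rw [Finset.coe_image, Finset.coe_univ, Set.image_univ]
      exact hv
  · rintro ⟨s, hcard, hs⟩
    subst hcard
    refine ⟨s.card, fun i => (s.equivFin.symm i : _), ?_, le_rfl⟩
    rw [← hs]
    congr 1
    ext x
    constructor
    · rintro ⟨i, rfl⟩
      exact (s.equivFin.symm i).2
    · intro hx
      exact ⟨s.equivFin ⟨x, hx⟩, by simp⟩


end Groth.Agent.S9171
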