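import Groth.Statements.S9176
import Groth.Agent.Lib.Helper4FibDimM
import Groth.Agent.Lib.Helper4FibDimE

set_option autoImplicit false
set_option linter.style.haveILetI false
universe u
open CAlg

namespace Groth.Agent.S9176

/-- For a ring map R → S of finite presentation and n ≥ 0, the set of primes q of S whose fibre
Spec(κ(p) ⊗ S), p = q ∩ R, has local dimension at most n at the point over q is open and
quasi-compact in Spec S. -/
theorem result (R S : Type u) [CommRing R]
    [CommRing S] [Algebra R S] [Algebra.FinitePresentation R S] (n : ℕ) :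
    IsOpen {q : PrimeSpectrum S | ∀ Q : PrimeSpectrum ((q.asIdeal.under R).Fiber S),
        Q.asIdeal.comap (Algebra.TensorProduct.includeRight.toRingHom) = q.asIdeal →
          FlatMor.localDim (PrimeSpectrum ((q.asIdeal.under R).Fiber S)) Q ≤ (n : WithBot ℕ∞)} ∧
      IsCompact {q : PrimeSpectrum S | ∀ Q : PrimeSpectrum ((q.asIdeal.under R).Fiber S),
        Q.asIdeal.comap (Algebra.TensorProduct.includeRight.toRingHom) = q.asIdeal →
          FlatMor.localDim (PrimeSpectrum ((q.asIdeal.under R).Fiber S)) Q ≤ (n : WithBot ℕ∞)} := by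
  rw [Groth.Agent.Lib.Helper4.FibDim.setOf_forall_localDim_fiber_le_eq R S n]
  haveI : Algebra.FiniteType R S := inferInstance
  exact ⟨Groth.Agent.Lib.Helper4.FibDim.isOpen_setOf_fibLD_comap_le R S n,
    Groth.Agent.Lib.Helper4.FibDim.isCompact_setOf_fibLD_comap_le R S n⟩

end Groth.Agent.S9176
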