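import Groth.Statements.S9177
-- import your own Groth.Agent.* helpers here
import Mathlib
import Groth.Agent.Lib.Helper18ColimSys

set_option autoImplicit false
universe u
open CAlg

namespace Groth.Agent.S9177

open TensorProduct
open Groth.Agent.Lib.Helper18ColimSys

section
variable {R : Type u} [CommRing R] {ι : Type u} {G : ι → Type u} [∀ i, CommRing (G i)]
    [∀ i, Algebra R (G i)] {A : Type u} [CommRing A] [Algebra R A] {g : ∀ i, G i →ₐ[R] A}

/-- every element of `A ⊗ M` comes from some stage. -/
theorem Sys.tensor_lift (hS : Sys R G A g) (M : Type u) [AddCommGroup M] [Module R M]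
    (y : A ⊗[R] M) : ∃ j, ∃ y' : G j ⊗[R] M, (g j).toLinearMap.rTensor M y' = y := by
  induction y using TensorProduct.induction_on with
  | zero =>
    obtain ⟨j⟩ := hS.nonempty
    exact ⟨j, 0, map_zero _⟩
  | tmul a m =>
    obtain ⟨j, x, hx⟩ := hS.surj a
    exact ⟨j, x ⊗ₜ m, by rw [LinearMap.rTensor_tmul, AlgHom.toLinearMap_apply, hx]⟩
  | add y₁ y₂ h₁ h₂ =>
    obtain ⟨j₁, y₁', h₁⟩ := h₁
    obtain ⟨j₂, y₂', h₂⟩ := h₂
    obtain ⟨l, φ, ψ, hφ, hψ⟩ := hS.dir j₁ j₂
    refine ⟨l, φ.toLinearMap.rTensor M y₁' + ψ.toLinearMap.rTensor M y₂', ?_⟩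
    rw [map_add, ← LinearMap.comp_apply, ← LinearMap.comp_apply, ← LinearMap.rTensor_comp,
      ← LinearMap.rTensor_comp, ← AlgHom.comp_toLinearMap, ← AlgHom.comp_toLinearMap, hφ, hψ, h₁, h₂]

end

section
variable {A : Type u} [CommRing A] {S S' B C : Type u} [CommRing S] [CommRing S'] [CommRing B]
  [CommRing C] [Algebra A S] [Algebra A S'] [Algebra A B] [Algebra A C]

theorem map_comm (φ : S →ₐ[A] S') (u : B →ₐ[A] C) (y : S ⊗[A] B) :
    Algebra.TensorProduct.map (AlgHom.id A S') u (φ.toLinearMap.rTensor B y) =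
      φ.toLinearMap.rTensor C (Algebra.TensorProduct.map (AlgHom.id A S) u y) := by
  induction y using TensorProduct.induction_on with
  | zero => simp
  | tmul a m => simp
  | add y₁ y₂ h₁ h₂ => simp only [map_add, h₁, h₂]

/-- surjectivity of `id ⊗ u` from `1 ⊗ c` in the range for generators `c`. -/
theorem surjective_of_generators (u : B →ₐ[A] C) (t : Set C) (ht : Algebra.adjoin A t = ⊤)
    (h : ∀ c ∈ t, ∃ y : S ⊗[A] B, Algebra.TensorProduct.map (AlgHom.id A S) u y = 1 ⊗ₜ c) :
    Function.Surjective (Algebra.TensorProduct.map (AlgHom.id A S) u) := by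
  let D : Subalgebra A (S ⊗[A] C) := (Algebra.TensorProduct.map (AlgHom.id A S) u).range
  have h1 : ∀ c : C, (1 : S) ⊗ₜ[A] c ∈ D := by
    intro c
    have hc : c ∈ Algebra.adjoin A t := by rw [ht]; trivial
    have : Algebra.adjoin A t ≤ D.comap (Algebra.TensorProduct.includeRight : C →ₐ[A] S ⊗[A] C) := by
      apply Algebra.adjoin_le
      intro c hc
      exact h c hc
    exact this hc
  intro z
  show z ∈ D
  induction z using TensorProduct.induction_on with
  | zero => exact D.zero_mem
  | tmul a c =>
    have : a ⊗ₜ[A] c = (a ⊗ₜ[A] (1 : C)) * ((1 : S) ⊗ₜ[A] c) := by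
      rw [Algebra.TensorProduct.tmul_mul_tmul, mul_one, one_mul]
    rw [this]
    refine D.mul_mem ⟨a ⊗ₜ 1, ?_⟩ (h1 c)
    simp
  | add y₁ y₂ h₁ h₂ => exact D.add_mem h₁ h₂

end

open TensorProduct in
/-- Let R = colim R_i be a directed colimit of A-algebras (compatible transition maps), B and C
A-algebras. (1) If B is of finite type over A, two A-algebra maps B → C whose base changes to R
coincide already have equal base changes to some R_i. (2) If C is of finite type over A and u : B →
C has surjective base change to R, then its base change to some R_i is surjective. (The A-algebra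
structure on R is through any stage R_l; it does not depend on l.) -/
theorem result {ι : Type u} [Preorder ι]
    [Nonempty ι] [IsDirectedOrder ι] (G : ι → Type u) [∀ i, CommRing (G i)]
    (f : ∀ i j, i ≤ j → G i →+* G j) [DirectedSystem G (fun i j h => f i j h)]
    (A : Type u) [CommRing A] [∀ i, Algebra A (G i)]
    (hf : ∀ i j (h : i ≤ j), (f i j h).comp (algebraMap A (G i)) = algebraMap A (G j)) (l : ι)
    (B C : Type u) [CommRing B] [CommRing C] [Algebra A B] [Algebra A C] :
    letI : Algebra A (Ring.DirectLimit G (fun i j h => f i j h)) :=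
      ((Ring.DirectLimit.of G (fun i j h => f i j h) l).comp (algebraMap A (G l))).toAlgebra
    (Algebra.FiniteType A B → ∀ u u' : B →ₐ[A] C,
        Algebra.TensorProduct.map (AlgHom.id A (Ring.DirectLimit G (fun i j h => f i j h))) u =
            Algebra.TensorProduct.map (AlgHom.id A (Ring.DirectLimit G (fun i j h => f i j h))) u' →
          ∃ i : ι, Algebra.TensorProduct.map (AlgHom.id A (G i)) u =
            Algebra.TensorProduct.map (AlgHom.id A (G i)) u') ∧
      (Algebra.FiniteType A C → ∀ u : B →ₐ[A] C,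
        Function.Surjective
            (Algebra.TensorProduct.map (AlgHom.id A (Ring.DirectLimit G (fun i j h => f i j h))) u) →
          ∃ i : ι, Function.Surjective (Algebra.TensorProduct.map (AlgHom.id A (G i)) u)) := by
  classical
  letI : Algebra A (Ring.DirectLimit G (fun i j h => f i j h)) :=
      ((Ring.DirectLimit.of G (fun i j h => f i j h) l).comp (algebraMap A (G l))).toAlgebra
  -- the structure maps as algebra maps
  have hcomm : ∀ (i : ι) (a : A), Ring.DirectLimit.of G (fun i j h => f i j h) i (algebraMap A (G i) a) =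
      algebraMap A (Ring.DirectLimit G (fun i j h => f i j h)) a := by
    intro i a
    obtain ⟨k, hik, hlk⟩ := exists_ge_ge i l
    show _ = Ring.DirectLimit.of G (fun i j h => f i j h) l (algebraMap A (G l) a)
    rw [← Ring.DirectLimit.of_f hik, ← Ring.DirectLimit.of_f hlk]
    have h1 := congrArg (fun t => t a) (hf i k hik)
    have h2 := congrArg (fun t => t a) (hf l k hlk)
    simp only [RingHom.comp_apply] at h1 h2
    rw [h1, h2]
  let g : ∀ i, G i →ₐ[A] Ring.DirectLimit G (fun i j h => f i j h) := fun i =>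
    { Ring.DirectLimit.of G (fun i j h => f i j h) i with commutes' := hcomm i }
  let fA : ∀ i j, i ≤ j → (G i →ₐ[A] G j) := fun i j h =>
    { f i j h with commutes' := fun a => congrArg (fun t => t a) (hf i j h) }
  have hS : Sys A G (Ring.DirectLimit G (fun i j h => f i j h)) g := by
    refine Sys.of_directed fA ?_ ?_ ?_
    · intro i j h
      ext x
      exact Ring.DirectLimit.of_f h x
    · intro a
      exact Ring.DirectLimit.exists_of a
    · intro i x hx
      exact Ring.DirectLimit.of.zero_exact hx
  refine ⟨?_, ?_⟩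
  · intro hB u u' H
    obtain ⟨s, hs⟩ := hB.out
    obtain ⟨j, φ, -, hφ⟩ := hS.tensor_kill_left_finset C l
      (s.image fun b => (1 : G l) ⊗ₜ[A] (u b - u' b)) (by
        intro z hz
        obtain ⟨b, -, rfl⟩ := Finset.mem_image.1 hz
        rw [LinearMap.rTensor_tmul, AlgHom.toLinearMap_apply, map_one, TensorProduct.tmul_sub,
          sub_eq_zero]
        have := congrArg (fun t => t ((1 : Ring.DirectLimit G (fun i j h => f i j h)) ⊗ₜ[A] b)) H
        simpa using this)
    refine ⟨j, ?_⟩
    apply Algebra.TensorProduct.ext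
    · ext x
      simp
    · apply AlgHom.ext_of_adjoin_eq_top hs
      intro b hb
      have := hφ _ (Finset.mem_image_of_mem _ hb)
      rw [LinearMap.rTensor_tmul, AlgHom.toLinearMap_apply, map_one, TensorProduct.tmul_sub,
        sub_eq_zero] at this
      simpa using this
  · intro hC u H
    obtain ⟨t, ht⟩ := hC.out
    -- for each generator, a stage where `1 ⊗ c` is in the range
    have key : ∀ c : C, ∃ j, ∃ y : G j ⊗[A] B,
        Algebra.TensorProduct.map (AlgHom.id A (G j)) u y = 1 ⊗ₜ c := by
      intro c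
      obtain ⟨y, hy⟩ := H (1 ⊗ₜ c)
      obtain ⟨i, y', hy'⟩ := Sys.tensor_lift hS B y
      obtain ⟨j, φ, -, hφ⟩ := hS.tensor_kill_left C i
        (Algebra.TensorProduct.map (AlgHom.id A (G i)) u y' - 1 ⊗ₜ c) (by
          rw [map_sub, ← map_comm, hy', hy, LinearMap.rTensor_tmul, AlgHom.toLinearMap_apply, map_one,
            sub_self])
      refine ⟨j, φ.toLinearMap.rTensor B y', ?_⟩
      rw [map_sub, ← map_comm, LinearMap.rTensor_tmul, AlgHom.toLinearMap_apply, map_one,
        sub_eq_zero] at hφ
      exact hφ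
    choose jc yc hyc using key
    obtain ⟨j, hj⟩ := Finset.exists_le (t.image jc)
    refine ⟨j, surjective_of_generators u (t : Set C) ht fun c hc => ?_⟩
    have hle : jc c ≤ j := hj _ (Finset.mem_image_of_mem _ hc)
    refine ⟨(fA (jc c) j hle).toLinearMap.rTensor B (yc c), ?_⟩
    rw [map_comm, hyc, LinearMap.rTensor_tmul, AlgHom.toLinearMap_apply, map_one]

end Groth.Agent.S9177
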