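import Groth.Statements.S9178
import Mathlib

set_option autoImplicit false
universe u
open CAlg

namespace Groth.Agent.S9178

open KaehlerDifferential TensorProduct

section
variable (A : Type u) [CommRing A] (B : Type u) [CommRing B] [Algebra A B]
  (C : Type u) [CommRing C] [Algebra B C] [Algebra A C] [IsScalarTower A B C]

theorem surj_BC (hC : Function.Surjective (algebraMap A C)) :
    Function.Surjective (algebraMap B C) := by
  intro c
  obtain ⟨a, rfl⟩ := hC c
  exact ⟨algebraMap A B a, (IsScalarTower.algebraMap_apply A B C a).symm⟩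

/-- the extension `A → C` -/
noncomputable abbrev P1 (hC : Function.Surjective (algebraMap A C)) : Algebra.Extension.{u} A C :=
  { Ring := A, σ := fun c => (hC c).choose, algebraMap_σ := fun c => (hC c).choose_spec }

/-- the extension `B → C` -/
noncomputable abbrev P2 (hC : Function.Surjective (algebraMap A C)) : Algebra.Extension.{u} A C :=
  { Ring := B, σ := fun c => (surj_BC A B C hC c).choose,
    algebraMap_σ := fun c => (surj_BC A B C hC c).choose_spec }

/-- the map of extensions -/
noncomputable def fHom (hC : Function.Surjective (algebraMap A C)) :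
    (P1 A C hC).Hom (P2 A B C hC) :=
  { toRingHom := algebraMap A B
    toRingHom_algebraMap := fun x => rfl
    algebraMap_toRingHom := fun x => (IsScalarTower.algebraMap_apply A B C x).symm }

/-- the target of the derivation -/
abbrev NN (hC : Function.Surjective (algebraMap A C)) : Type u :=
  (P2 A B C hC).Cotangent ⧸ LinearMap.range (Algebra.Extension.Cotangent.map (fHom A B C hC))

noncomputable instance (hC : Function.Surjective (algebraMap A C)) : Module B (NN A B C hC) :=
  inferInstance

noncomputable instance (hC : Function.Surjective (algebraMap A C)) : Module A (NN A B C hC) :=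
  inferInstance

instance (hC : Function.Surjective (algebraMap A C)) : IsScalarTower A B (NN A B C hC) :=
  inferInstance

instance (hC : Function.Surjective (algebraMap A C)) : IsScalarTower B C (NN A B C hC) :=
  inferInstance

end

section
variable (A : Type u) [CommRing A] (B : Type u) [CommRing B] [Algebra A B]
  (C : Type u) [CommRing C] [Algebra B C] [Algebra A C] [IsScalarTower A B C]
  (hC : Function.Surjective (algebraMap A C))

/-- a set-theoretic lift `B → A` through `C` -/
noncomputable def sec (b : B) : A := (hC (algebraMap B C b)).choose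

theorem sec_spec (b : B) : algebraMap A C (sec A B C hC b) = algebraMap B C b :=
  (hC (algebraMap B C b)).choose_spec

theorem sub_mem_ker (b : B) (a : A) (ha : algebraMap A C a = algebraMap B C b) :
    b - algebraMap A B a ∈ (P2 A B C hC).ker := by
  show algebraMap B C (b - algebraMap A B a) = 0
  rw [map_sub, ← IsScalarTower.algebraMap_apply A B C, ha, sub_self]

/-- the class of `b - a` in `N` -/
noncomputable def cls (b : B) (a : A) (ha : algebraMap A C a = algebraMap B C b) : NN A B C hC :=
  Submodule.Quotient.mk (Algebra.Extension.Cotangent.mk ⟨b - algebraMap A B a, sub_mem_ker A B C hC b a ha⟩)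

theorem cls_indep (b : B) (a a' : A) (ha : algebraMap A C a = algebraMap B C b)
    (ha' : algebraMap A C a' = algebraMap B C b) : cls A B C hC b a ha = cls A B C hC b a' ha' := by
  unfold cls
  rw [Submodule.Quotient.eq]
  have hmem : a' - a ∈ (P1 A C hC).ker := by
    show algebraMap A C (a' - a) = 0
    rw [map_sub, ha, ha', sub_self]
  refine ⟨Algebra.Extension.Cotangent.mk ⟨a' - a, hmem⟩, ?_⟩
  rw [Algebra.Extension.Cotangent.map_mk, ← map_sub]
  congr 1
  apply Subtype.ext
  show (fHom A B C hC).toAlgHom (a' - a) = (b - algebraMap A B a) - (b - algebraMap A B a')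
  show algebraMap A B (a' - a) = (b - algebraMap A B a) - (b - algebraMap A B a')
  rw [map_sub]
  ring

/-- the derivation as a function -/
noncomputable def Dfun (b : B) : NN A B C hC := cls A B C hC b (sec A B C hC b) (sec_spec A B C hC b)

theorem Dfun_eq (b : B) (a : A) (ha : algebraMap A C a = algebraMap B C b) :
    Dfun A B C hC b = cls A B C hC b a ha := cls_indep A B C hC b _ _ _ _

end

section
variable (A : Type u) [CommRing A] (B : Type u) [CommRing B] [Algebra A B]
  (C : Type u) [CommRing C] [Algebra B C] [Algebra A C] [IsScalarTower A B C]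
  (hC : Function.Surjective (algebraMap A C))

theorem cls_eq (b : B) (a : A) (ha : algebraMap A C a = algebraMap B C b)
    (x : (P2 A B C hC).ker) (hx : (x : B) = b - algebraMap A B a) :
    cls A B C hC b a ha = Submodule.Quotient.mk (Algebra.Extension.Cotangent.mk x) := by
  unfold cls
  congr 2
  exact Subtype.ext hx.symm

/-- `b - sec b` as an element of the kernel -/
noncomputable def xel (b : B) : (P2 A B C hC).ker :=
  ⟨b - algebraMap A B (sec A B C hC b), sub_mem_ker A B C hC b _ (sec_spec A B C hC b)⟩

theorem Dfun_def (b : B) : Dfun A B C hC b =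
    Submodule.Quotient.mk (Algebra.Extension.Cotangent.mk (xel A B C hC b)) := rfl

theorem Dfun_add (b b' : B) : Dfun A B C hC (b + b') = Dfun A B C hC b + Dfun A B C hC b' := by
  rw [Dfun_eq A B C hC (b + b') (sec A B C hC b + sec A B C hC b')
    (by rw [map_add, map_add, sec_spec, sec_spec])]
  rw [cls_eq A B C hC _ _ _ (xel A B C hC b + xel A B C hC b') (by
    show (b - algebraMap A B (sec A B C hC b)) + (b' - algebraMap A B (sec A B C hC b')) = _
    rw [map_add]; ring)]
  rw [Dfun_def, Dfun_def, LinearMap.map_add, Submodule.Quotient.mk_add]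

theorem Dfun_smul (r : A) (b : B) : Dfun A B C hC (r • b) = r • Dfun A B C hC b := by
  rw [Dfun_eq A B C hC (r • b) (r * sec A B C hC b)
    (by rw [map_mul, sec_spec, Algebra.smul_def, map_mul, ← IsScalarTower.algebraMap_apply])]
  rw [cls_eq A B C hC _ _ _ (algebraMap A B r • xel A B C hC b) (by
    show algebraMap A B r * (b - algebraMap A B (sec A B C hC b)) = _
    rw [map_mul, Algebra.smul_def]; ring)]
  rw [Dfun_def, LinearMap.map_smul, Submodule.Quotient.mk_smul, algebraMap_smul]

theorem smul_eq_of_algebraMap_eq (b b' : B) (hbb : algebraMap B C b = algebraMap B C b')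
    (n : NN A B C hC) : b • n = b' • n := by
  rw [← algebraMap_smul C b n, ← algebraMap_smul C b' n, hbb]

theorem Dfun_mul (b b' : B) :
    Dfun A B C hC (b * b') = b • Dfun A B C hC b' + b' • Dfun A B C hC b := by
  rw [Dfun_eq A B C hC (b * b') (sec A B C hC b * sec A B C hC b')
    (by rw [map_mul, map_mul, sec_spec, sec_spec])]
  rw [smul_eq_of_algebraMap_eq A B C hC b' (algebraMap A B (sec A B C hC b'))
    (by rw [← IsScalarTower.algebraMap_apply, sec_spec])]
  rw [cls_eq A B C hC _ _ _ (b • xel A B C hC b' +
      algebraMap A B (sec A B C hC b') • xel A B C hC b) (by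
    show b * (b' - algebraMap A B (sec A B C hC b')) +
      algebraMap A B (sec A B C hC b') * (b - algebraMap A B (sec A B C hC b)) = _
    rw [map_mul]; ring)]
  rw [Dfun_def, Dfun_def, LinearMap.map_add, LinearMap.map_smul, LinearMap.map_smul,
    Submodule.Quotient.mk_add, Submodule.Quotient.mk_smul, Submodule.Quotient.mk_smul]

/-- the derivation -/
noncomputable def Der : Derivation A B (NN A B C hC) :=
  Derivation.mk'
    { toFun := Dfun A B C hC
      map_add' := Dfun_add A B C hC
      map_smul' := Dfun_smul A B C hC }
    (Dfun_mul A B C hC)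

theorem Der_apply (b : B) : Der A B C hC b = Dfun A B C hC b := rfl

/-- the induced map on `C ⊗ Ω` -/
noncomputable def delta : C ⊗[B] Ω[B⁄A] →ₗ[C] NN A B C hC :=
  LinearMap.liftBaseChange C (Der A B C hC).liftKaehlerDifferential

theorem delta_one_tmul_D (b : B) :
    delta A B C hC ((1 : C) ⊗ₜ[B] KaehlerDifferential.D A B b) = Dfun A B C hC b := by
  unfold delta
  rw [LinearMap.liftBaseChange_tmul, one_smul, Derivation.liftKaehlerDifferential_comp_D, Der_apply]

end

/-- For ring maps A → B → C with A → C surjective, writing I = ker(A → C) and J = ker(B → C), the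
sequence I/I² → J/J² → C ⊗_B Ω_{B/A} → 0 is exact. Stated: the image of I/I² in J/J² is exactly the
kernel of J/J² → C ⊗_B Ω_{B/A} (surjectivity of the latter map is the standard conormal sequence for
the surjection B → C). -/
theorem result (A B C : Type u) [CommRing A] [CommRing B]
    [CommRing C] [Algebra A B] [Algebra B C] [Algebra A C] [IsScalarTower A B C]
    (hAC : Function.Surjective (algebraMap A C))
    (h : RingHom.ker (algebraMap A C) ≤ (RingHom.ker (algebraMap B C)).comap (Algebra.ofId A B)) :
    Function.Exact
      (Ideal.mapCotangent (RingHom.ker (algebraMap A C)) (RingHom.ker (algebraMap B C)) (Algebra.ofId A B) h)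
      (KaehlerDifferential.kerCotangentToTensor A B C) := by
  intro y
  constructor
  · intro hy
    obtain ⟨x, rfl⟩ := Ideal.toCotangent_surjective _ y
    rw [KaehlerDifferential.kerCotangentToTensor_toCotangent] at hy
    have h1 := congrArg (delta A B C hAC) hy
    rw [delta_one_tmul_D, map_zero] at h1
    have hx0 : algebraMap A C 0 = algebraMap B C (x : B) := by
      rw [map_zero]; exact x.2.symm
    rw [Dfun_eq A B C hAC (x : B) 0 hx0,
      cls_eq A B C hAC _ _ _ (x : (P2 A B C hAC).ker) (by rw [map_zero, sub_zero])] at h1
    rw [Submodule.Quotient.mk_eq_zero] at h1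
    obtain ⟨w, hw⟩ := h1
    obtain ⟨a, rfl⟩ := Algebra.Extension.Cotangent.mk_surjective w
    rw [Algebra.Extension.Cotangent.map_mk] at hw
    refine ⟨(RingHom.ker (algebraMap A C)).toCotangent a, ?_⟩
    rw [Ideal.mapCotangent_toCotangent]
    exact congrArg Algebra.Extension.Cotangent.val hw
  · rintro ⟨w, rfl⟩
    obtain ⟨a, rfl⟩ := Ideal.toCotangent_surjective _ w
    rw [Ideal.mapCotangent_toCotangent, KaehlerDifferential.kerCotangentToTensor_toCotangent]
    show (1 : C) ⊗ₜ[B] (KaehlerDifferential.D A B) (algebraMap A B (a : A)) = 0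
    rw [Derivation.map_algebraMap, TensorProduct.tmul_zero]

end Groth.Agent.S9178
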