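import Groth.Statements.S9179
-- import your own Groth.Agent.* helpers here
import Mathlib
import Groth.Agent.Lib.Helper26FPColim

set_option autoImplicit false
universe u
open CategoryTheory CategoryTheory.Limits
open CAlg

namespace Groth.Agent.S9179

open Groth.Agent.Lib.Helper26.FPColim

/-- An R-algebra of finite type is the colimit of a filtered system of finitely presented R-algebras
whose transition maps are all surjective. -/
theorem result (R A : Type u) [CommRing R] [CommRing A]
    [Algebra R A] [Algebra.FiniteType R A] :
    ∃ (I : Type u) (_ : SmallCategory I) (_ : IsFiltered I) (D : I ⥤ Under (CommRingCat.of R))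
      (c : Cocone D) (_ : IsColimit c),
      (∀ i, (D.obj i).hom.hom.FinitePresentation) ∧
      (∀ (i j : I) (φ : i ⟶ j), Function.Surjective (D.map φ).right.hom) ∧
      Nonempty (c.pt ≅ Under.mk (CommRingCat.ofHom (algebraMap R A))) := by
  obtain ⟨n, π, hπ⟩ := Algebra.FiniteType.iff_quotient_mvPolynomial''.1
    (inferInstance : Algebra.FiniteType R A)
  let K : Ideal (MvPolynomial (Fin n) R) := RingHom.ker π.toRingHom
  obtain ⟨hc⟩ := isColimit_qcocone (R := R) K
  refine ⟨QIdx K, inferInstance, inferInstance, qdiag K, qcocone K, hc, fun J => ?_,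
    fun J J' f => qdiag_map_surjective K f, ⟨?_⟩⟩
  · show (algebraMap R (MvPolynomial (Fin n) R ⧸ J.1)).FinitePresentation
    rw [RingHom.finitePresentation_algebraMap]
    exact Algebra.FinitePresentation.quotient J.2.1
  · let e : (MvPolynomial (Fin n) R ⧸ K) ≃ₐ[R] A := Ideal.quotientKerAlgEquivOfSurjective hπ
    exact Under.isoMk (RingEquiv.toCommRingCatIso e.toRingEquiv) (by
      ext x
      exact e.commutes x)

end Groth.Agent.S9179
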