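import Groth.Statements.S9180
import Groth.Agent.Lib.Helper14LocalDimB
import Groth.Agent.Lib.Helper28FlatNormal

set_option autoImplicit false
universe u
open CAlg

namespace Groth.Agent.S9180

open TensorProduct in
/-- Let S be of finite type over a field k, K an extension field of k, S_K = S ⊗_k K, q a prime of S
whose residue field has transcendence degree r over k, and q_K a prime of S_K lying over q whose
residue field has transcendence degree r_K over K. Then the local ring at q_K of the fibre of S →
S_K over q has dimension dim (S_K)_{q_K} − dim S_q = r − r_K (stated additively), and there is a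
prime of S_K over q for which this dimension is zero. -/
theorem result (k S K : Type u) [Field k] [CommRing S] [Algebra k S]
    [Algebra.FiniteType k S] [Field K] [Algebra k K] (q : Ideal S) [q.IsPrime] (r : ℕ)
    (hr : Algebra.trdeg k q.ResidueField = r) (qK : Ideal (S ⊗[k] K)) [qK.IsPrime] [qK.LiesOver q]
    (rK : ℕ)
    (hrK : letI : Algebra K (S ⊗[k] K) := Algebra.TensorProduct.rightAlgebra
      Algebra.trdeg K qK.ResidueField = rK) :
    ringKrullDim (EGA4.FibLocRing S (S ⊗[k] K) qK) + ringKrullDim (Localization.AtPrime q) =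
        ringKrullDim (Localization.AtPrime qK) ∧
      ringKrullDim (EGA4.FibLocRing S (S ⊗[k] K) qK) + (rK : WithBot ℕ∞) = (r : WithBot ℕ∞) ∧
      ∃ (q' : Ideal (S ⊗[k] K)) (_ : q'.IsPrime), q'.LiesOver q ∧
        ringKrullDim (EGA4.FibLocRing S (S ⊗[k] K) q') = 0 := by
  letI algK : Algebra K (S ⊗[k] K) := Algebra.TensorProduct.rightAlgebra
  haveI : Algebra.FiniteType K (S ⊗[k] K) :=
    Groth.Agent.Lib.Helper14.LocalDim.finiteType_tensor_right K
  haveI : IsNoetherianRing S := Algebra.FiniteType.isNoetherianRing k S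
  haveI : IsNoetherianRing (S ⊗[k] K) := Algebra.FiniteType.isNoetherianRing K _
  have hcomap : qK.comap (algebraMap S (S ⊗[k] K)) = q :=
    (Ideal.LiesOver.over (P := qK) (p := q)).symm
  haveI := Groth.Agent.Lib.Helper28.isLocalRing_fibLocRing (A := S) (B := S ⊗[k] K) qK
  have hht := Groth.Agent.Lib.Helper28.height_eq_height_fibLocRing_add (A := S) (B := S ⊗[k] K) qK
  have hcht : (qK.comap (algebraMap S (S ⊗[k] K))).height = q.height := by rw [hcomap]
  rw [hcht] at hht
  obtain ⟨n, e, hn, he, htr, he'⟩ := Groth.Agent.Lib.Helper14.LocalDim.exists_dims (k := k) q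
  obtain ⟨n', e', hn', he1, htr', he1'⟩ :=
    Groth.Agent.Lib.Helper14.LocalDim.exists_dims (k := K) qK
  have h1 := Groth.Agent.Lib.Helper14.LocalDim.localDim_eq (k := k) q n e hn he he'
  have h2 := Groth.Agent.Lib.Helper14.LocalDim.localDim_eq (k := K) qK n' e' hn' he1 he1'
  have h3 := Groth.Agent.Lib.Helper14.LocalDim.localDim_tensor_eq (k := k) K q qK hcomap
  rw [h1, h2] at h3
  have h3' : n' + e' = n + e := by exact_mod_cast h3
  rw [hr] at htr
  have hre : r = e := by exact_mod_cast htr
  have hrK' : Algebra.trdeg K qK.ResidueField = rK := hrK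
  rw [hrK'] at htr'
  have hrKe : rK = e' := by exact_mod_cast htr'
  -- the fibre dimension
  set f := (IsLocalRing.maximalIdeal (EGA4.FibLocRing S (S ⊗[k] K) qK)).height with hf
  have hfdim : ringKrullDim (EGA4.FibLocRing S (S ⊗[k] K) qK) = (f : WithBot ℕ∞) :=
    (IsLocalRing.maximalIdeal_height_eq_ringKrullDim).symm
  rw [hn, hn'] at hht
  have hftop : f ≠ ⊤ := by
    intro htop
    rw [htop, top_add] at hht
    exact ENat.natCast_ne_top n' hht
  obtain ⟨f₀, hf₀⟩ := ENat.ne_top_iff_exists.mp hftop
  rw [← hf₀] at hht hfdim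
  have hnf : n' = f₀ + n := by exact_mod_cast hht
  refine ⟨?_, ?_, ?_⟩
  · rw [hfdim, IsLocalization.AtPrime.ringKrullDim_eq_height q (Localization.AtPrime q),
      IsLocalization.AtPrime.ringKrullDim_eq_height qK (Localization.AtPrime qK), hn, hn', hnf]
    push_cast
    rfl
  · rw [hfdim, hre, hrKe]
    have : f₀ + e' = e := by omega
    exact_mod_cast congrArg (fun x : ℕ => (x : WithBot ℕ∞)) this
  · obtain ⟨q', hq'min, hq'le⟩ := Ideal.exists_minimalPrimes_le
      (I := q.map (algebraMap S (S ⊗[k] K))) (J := qK)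
      (by rw [Ideal.map_le_iff_le_comap, hcomap])
    haveI : q'.IsPrime := hq'min.1.1
    have hq'comap : q'.comap (algebraMap S (S ⊗[k] K)) = q := by
      apply le_antisymm
      · rw [← hcomap]; exact Ideal.comap_mono hq'le
      · exact Ideal.map_le_iff_le_comap.mp hq'min.1.2
    haveI hlies : q'.LiesOver q := ⟨hq'comap.symm⟩
    refine ⟨q', inferInstance, hlies, ?_⟩
    haveI := Groth.Agent.Lib.Helper28.isLocalRing_fibLocRing (A := S) (B := S ⊗[k] K) q'
    have hht' := Groth.Agent.Lib.Helper28.height_eq_height_fibLocRing_add (A := S)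
      (B := S ⊗[k] K) q'
    have hcht' : (q'.comap (algebraMap S (S ⊗[k] K))).height = q.height := by rw [hq'comap]
    rw [hcht'] at hht'
    have hgd := Ideal.height_eq_height_add_of_liesOver_of_hasGoingDown q q'
    have hmin0 : (q'.map (Ideal.Quotient.mk (q.map (algebraMap S (S ⊗[k] K))))).height = 0 := by
      have hmem := hq'min
      rw [Ideal.minimalPrimes_eq_comap] at hmem
      obtain ⟨Q, hQ, hQq'⟩ := hmem
      rw [← hQq', Ideal.map_comap_of_surjective _ Ideal.Quotient.mk_surjective]
      haveI : Q.IsPrime := hQ.1.1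
      exact Ideal.height_eq_zero_iff.mpr hQ
    rw [hmin0, add_zero] at hgd
    rw [hgd, hn] at hht'
    have hzero : (IsLocalRing.maximalIdeal (EGA4.FibLocRing S (S ⊗[k] K) q')).height = 0 := by
      set g := (IsLocalRing.maximalIdeal (EGA4.FibLocRing S (S ⊗[k] K) q')).height with hg
      have hgtop : g ≠ ⊤ := by
        intro htop
        rw [htop, top_add] at hht'
        exact ENat.natCast_ne_top n hht'
      obtain ⟨g₀, hg₀⟩ := ENat.ne_top_iff_exists.mp hgtop
      rw [← hg₀] at hht' ⊢
      have : n = g₀ + n := by exact_mod_cast hht'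
      have : g₀ = 0 := by omega
      rw [this]; rfl
    rw [← IsLocalRing.maximalIdeal_height_eq_ringKrullDim, hzero]
    rfl

end Groth.Agent.S9180
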