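import Groth.Statements.S9182
import Groth.Agent.Lib.Helper19LocCotangent

set_option autoImplicit false
universe u
open CAlg

namespace Groth.Agent.S9182

/-- For presentations α : R[x_1, …, x_n] → S and β : R[y_1, …, y_m] → S_g (g ∈ S) with kernels I and J,
the S_g-modules (I/I²)_g ⊕ S_g^m and J/J² ⊕ S_g^n are isomorphic. -/
theorem result (R S : Type u) [CommRing R] [CommRing S] [Algebra R S]
    (g : S) (n m : ℕ) (α : MvPolynomial (Fin n) R →ₐ[R] S) (hα : Function.Surjective α)
    (β : MvPolynomial (Fin m) R →ₐ[R] Localization.Away g) (hβ : Function.Surjective β) :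
    Nonempty ((LocalizedModule (Submonoid.powers g) (Algebra.Extension.ofSurjective α hα).Cotangent ×
        (Fin m → Localization.Away g)) ≃ₗ[Localization.Away g]
      ((Algebra.Extension.ofSurjective β hβ).Cotangent × (Fin n → Localization.Away g))) := by
  classical
  let P : Algebra.Extension.{u} R S := Algebra.Extension.ofSurjective α hα
  let P' : Algebra.Extension.{u} R (Localization.Away g) := Algebra.Extension.ofSurjective β hβ
  haveI : Algebra.FormallySmooth R P.Ring :=
    inferInstanceAs (Algebra.FormallySmooth R (MvPolynomial (Fin n) R))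
  haveI : Algebra.FormallySmooth R P'.Ring :=
    inferInstanceAs (Algebra.FormallySmooth R (MvPolynomial (Fin m) R))
  obtain ⟨Q, hQ, ⟨eC⟩, ⟨eS⟩⟩ := Helper19LocCotangent.exists_localized_extension
    (T := Localization.Away g) (Submonoid.powers g) P
  haveI := hQ
  obtain ⟨e⟩ := Helper19LocCotangent.cotangent_prod_equiv_of_formallySmooth Q P'
  let l : LocalizedModule (Submonoid.powers g) P.Cotangent ≃ₗ[Localization.Away g]
      TensorProduct S (Localization.Away g) P.Cotangent :=
    (IsLocalizedModule.isBaseChange (Submonoid.powers g) (Localization.Away g)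
      (LocalizedModule.mkLinearMap (Submonoid.powers g) P.Cotangent)).equiv.symm
  let s' : P'.CotangentSpace ≃ₗ[Localization.Away g] (Fin m → Localization.Away g) :=
    Groth.Agent.S9162.cotSpaceEquiv m β hβ
  let s : TensorProduct S (Localization.Away g) P.CotangentSpace ≃ₗ[Localization.Away g]
      (Fin n → Localization.Away g) :=
    (TensorProduct.AlgebraTensorModule.congr (LinearEquiv.refl (Localization.Away g) _)
      (Groth.Agent.S9162.cotSpaceEquiv n α hα)) ≪≫ₗ
      TensorProduct.piScalarRight S (Localization.Away g) (Localization.Away g) (Fin n)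
  exact ⟨(LinearEquiv.prodCongr (l ≪≫ₗ eC) s'.symm) ≪≫ₗ e ≪≫ₗ
    (LinearEquiv.prodCongr (LinearEquiv.refl _ _) (eS.symm ≪≫ₗ s))⟩

end Groth.Agent.S9182
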