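import Groth.Statements.S9195
import Groth.Agent.Lib.Helper22LimBC2
import Groth.Agent.Lib.Helper3LocDimBC
import Groth.Agent.S0402
import Mathlib

set_option autoImplicit false
universe u
open CategoryTheory AlgebraicGeometry
open Lim

namespace Groth.Agent.S9195

open Limits Groth.Agent.Lib.Helper22.LimBC Groth.Agent.Lib.Helper3.LocDimBC in

/-- Let S = lim S_i be a cofiltered limit of schemes with affine transition morphisms, S_{i₀} a
quasi-compact quasi-separated stage, f₀ : X₀ → Y₀ a morphism of quasi-compact quasi-separated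
schemes over S_{i₀}, and f : X → Y its base change along S → S_{i₀} (base changes expressed by
pullback squares). Let d be a natural number. If f₀ is locally of finite type and f has relative
dimension at most d (every fibre of f has local dimension at most d at each of its points), then for
some index i over i₀ the base change f_i : X_i → Y_i of f₀ along S_i → S_{i₀} has relative dimension
at most d. -/
theorem result {I : Type u} [SmallCategory I] [IsCofiltered I]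
    (D : I ⥤ Scheme.{u}) (c : Limits.Cone D) (hc : Limits.IsLimit c)
    [∀ (i j : I) (f : i ⟶ j), IsAffineHom (D.map f)] (i₀ : I) [CompactSpace (D.obj i₀)]
    [QuasiSeparatedSpace (D.obj i₀)] {X₀ Y₀ : Scheme.{u}} (f₀ : X₀ ⟶ Y₀) (g₀ : Y₀ ⟶ D.obj i₀)
    [CompactSpace X₀] [QuasiSeparatedSpace X₀] [CompactSpace Y₀] [QuasiSeparatedSpace Y₀]
    [LocallyOfFiniteType f₀] (d : ℕ)
    {X Y : Scheme.{u}} (f : X ⟶ Y) (g : Y ⟶ c.pt) (qY : Y ⟶ Y₀) (qX : X ⟶ X₀)
    (hY : IsPullback qY g g₀ (c.π.app i₀)) (hX : IsPullback qX f f₀ qY) (hd : ∀ x : X, FlatMor.fibreDimAt f x ≤ d) :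
    ∃ (i : I) (φ : i ⟶ i₀) (Xi Yi : Scheme.{u}) (fi : Xi ⟶ Yi) (gi : Yi ⟶ D.obj i) (pY : Yi ⟶ Y₀)
      (pX : Xi ⟶ X₀), IsPullback pY gi g₀ (D.map φ) ∧ IsPullback pX fi f₀ pY ∧ ∀ x : Xi, FlatMor.fibreDimAt fi x ≤ d := by
  haveI : ∀ {i j : I} (f : i ⟶ j), IsAffineHom (D.map f) := fun f => inferInstance
  let l₀ : Over i₀ := Over.mk (𝟙 i₀)
  have hlft : ∀ l : Over i₀, LocallyOfFiniteType (bcMor D i₀ f₀ g₀ l) := fun l =>
    MorphismProperty.of_isPullback (P := @LocallyOfFiniteType) (isPullback_bcMor D i₀ f₀ g₀ l)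
      inferInstance
  haveI := hlft l₀
  let U : ((bcDiagram D i₀ (f₀ ≫ g₀)).obj l₀).Opens :=
    ⟨{x | FlatMor.fibreDimAt (bcMor D i₀ f₀ g₀ l₀) x ≤ d},
      Groth.Agent.S0402.result (bcMor D i₀ f₀ g₀ l₀) d⟩
  have hU : (bcCone i₀ (hX.paste_vert hY)).π.app l₀ ⁻¹ᵁ U = ⊤ := by
    ext x
    simp only [TopologicalSpace.Opens.coe_top, Set.mem_univ, iff_true]
    show FlatMor.fibreDimAt (bcMor D i₀ f₀ g₀ l₀) (bcπ i₀ (hX.paste_vert hY) l₀ x) ≤ d
    rw [← fibreDimAt_eq_of_isPullback _ _ _ _ (isPullback_bcπ_bcMor hY hX l₀) x]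
    exact hd x
  obtain ⟨j, fj, hj⟩ := exists_map_eq_top (bcDiagram D i₀ (f₀ ≫ g₀))
    (bcCone i₀ (hX.paste_vert hY)) (isLimitBcCone i₀ (hX.paste_vert hY) hc) U hU
  refine ⟨j.left, j.hom, _, _, bcMor D i₀ f₀ g₀ j, dSnd D i₀ g₀ j, dFst D i₀ g₀ j,
    dFst D i₀ (f₀ ≫ g₀) j, isPullback_d D i₀ g₀ j, isPullback_bcMor D i₀ f₀ g₀ j, ?_⟩
  intro x
  haveI := hlft j
  rw [fibreDimAt_eq_of_isPullback _ _ _ _ (isPullback_map_bcMor D i₀ f₀ g₀ fj) x]
  have : x ∈ ((bcDiagram D i₀ (f₀ ≫ g₀)).map fj ⁻¹ᵁ U) := by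
    rw [hj]; trivial
  exact this

end Groth.Agent.S9195
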