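import Groth.Statements.S9196
import Groth.Agent.Lib.Helper22LimBC2
import Groth.Agent.Lib.Helper3RelDim
import Groth.Agent.Lib.Helper3DimCons
import Groth.Agent.S0402
import Groth.Agent.S9355
import Mathlib

set_option autoImplicit false
universe u
open CategoryTheory AlgebraicGeometry
open Lim

namespace Groth.Agent.S9196

open Limits Groth.Agent.Lib.Helper22.LimBC Groth.Agent.Lib.Helper3.LocDimBC
  Groth.Agent.Lib.Helper3.RelDim in

/-- Let S = lim S_i be a cofiltered limit of schemes with affine transition morphisms, S_{i₀} a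
quasi-compact quasi-separated stage, f₀ : X₀ → Y₀ a morphism of quasi-compact quasi-separated
schemes over S_{i₀}, and f : X → Y its base change along S → S_{i₀} (base changes expressed by
pullback squares). Let d be a natural number. If f₀ is locally of finite presentation and f has
relative dimension d (every irreducible component of every fibre of f has dimension d), then for
some index i over i₀ the base change f_i : X_i → Y_i of f₀ along S_i → S_{i₀} has relative dimension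
d. -/
theorem result {I : Type u} [SmallCategory I] [IsCofiltered I]
    (D : I ⥤ Scheme.{u}) (c : Limits.Cone D) (hc : Limits.IsLimit c)
    [∀ (i j : I) (f : i ⟶ j), IsAffineHom (D.map f)] (i₀ : I) [CompactSpace (D.obj i₀)]
    [QuasiSeparatedSpace (D.obj i₀)] {X₀ Y₀ : Scheme.{u}} (f₀ : X₀ ⟶ Y₀) (g₀ : Y₀ ⟶ D.obj i₀)
    [CompactSpace X₀] [QuasiSeparatedSpace X₀] [CompactSpace Y₀] [QuasiSeparatedSpace Y₀]
    [LocallyOfFinitePresentation f₀] (d : ℕ)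
    {X Y : Scheme.{u}} (f : X ⟶ Y) (g : Y ⟶ c.pt) (qY : Y ⟶ Y₀) (qX : X ⟶ X₀)
    (hY : IsPullback qY g g₀ (c.π.app i₀)) (hX : IsPullback qX f f₀ qY) (hd : Cyc.HasRelDim f d) :
    ∃ (i : I) (φ : i ⟶ i₀) (Xi Yi : Scheme.{u}) (fi : Xi ⟶ Yi) (gi : Yi ⟶ D.obj i) (pY : Yi ⟶ Y₀)
      (pX : Xi ⟶ X₀), IsPullback pY gi g₀ (D.map φ) ∧ IsPullback pX fi f₀ pY ∧ Cyc.HasRelDim fi d := by
  haveI : ∀ {i j : I} (f : i ⟶ j), IsAffineHom (D.map f) := fun f => inferInstance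
  let l₀ : Over i₀ := Over.mk (𝟙 i₀)
  have hlfp : ∀ l : Over i₀, LocallyOfFinitePresentation (bcMor D i₀ f₀ g₀ l) := fun l =>
    MorphismProperty.of_isPullback (P := @LocallyOfFinitePresentation)
      (isPullback_bcMor D i₀ f₀ g₀ l) inferInstance
  haveI := hlfp l₀
  haveI : LocallyOfFiniteType f := MorphismProperty.of_isPullback (P := @LocallyOfFiniteType) hX
    inferInstance
  rw [hasRelDim_iff_forall_fibreDimAt_eq] at hd
  have hbc : ∀ x : X, FlatMor.fibreDimAt (bcMor D i₀ f₀ g₀ l₀) (bcπ i₀ (hX.paste_vert hY) l₀ x) =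
      (d : WithBot ℕ∞) := by
    intro x
    rw [← fibreDimAt_eq_of_isPullback _ _ _ _ (isPullback_bcπ_bcMor hY hX l₀) x]
    exact hd x
  -- upper bound
  let U : ((bcDiagram D i₀ (f₀ ≫ g₀)).obj l₀).Opens :=
    ⟨{x | FlatMor.fibreDimAt (bcMor D i₀ f₀ g₀ l₀) x ≤ d},
      Groth.Agent.S0402.result (bcMor D i₀ f₀ g₀ l₀) d⟩
  have hU : (bcCone i₀ (hX.paste_vert hY)).π.app l₀ ⁻¹ᵁ U = ⊤ := by
    ext x
    simp only [TopologicalSpace.Opens.coe_top, Set.mem_univ, iff_true]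
    show FlatMor.fibreDimAt (bcMor D i₀ f₀ g₀ l₀) (bcπ i₀ (hX.paste_vert hY) l₀ x) ≤ d
    rw [hbc x]
  obtain ⟨j₁, fj₁, hj₁⟩ := exists_map_eq_top (bcDiagram D i₀ (f₀ ≫ g₀))
    (bcCone i₀ (hX.paste_vert hY)) (isLimitBcCone i₀ (hX.paste_vert hY) hc) U hU
  -- lower bound
  obtain ⟨j₂, fj₂, hj₂⟩ : ∃ (j₂ : Over i₀) (fj₂ : j₂ ⟶ l₀), ∀ x : (bcDiagram D i₀ (f₀ ≫ g₀)).obj j₂,
      (d : WithBot ℕ∞) ≤ FlatMor.fibreDimAt (bcMor D i₀ f₀ g₀ l₀)
        ((bcDiagram D i₀ (f₀ ≫ g₀)).map fj₂ x) := by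
    rcases d with _ | k
    · exact ⟨l₀, 𝟙 _, fun x => Groth.Agent.Lib.Helper7.TopDim.localDim_nonneg _⟩
    · let V : ((bcDiagram D i₀ (f₀ ≫ g₀)).obj l₀).Opens :=
        ⟨{x | FlatMor.fibreDimAt (bcMor D i₀ f₀ g₀ l₀) x ≤ k},
          Groth.Agent.S0402.result (bcMor D i₀ f₀ g₀ l₀) k⟩
      have hVc : IsCompact (V : Set ((bcDiagram D i₀ (f₀ ≫ g₀)).obj l₀)) := by
        have := Groth.Agent.S9355.result (bcMor D i₀ f₀ g₀ l₀) k isCompact_univ isOpen_univ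
        rwa [Set.inter_univ] at this
      have H : (bcCone i₀ (hX.paste_vert hY)).π.app l₀ ⁻¹ᵁ V ≤
          (bcCone i₀ (hX.paste_vert hY)).π.app l₀ ⁻¹ᵁ ⊥ := by
        intro x hx
        exfalso
        have h1 : FlatMor.fibreDimAt (bcMor D i₀ f₀ g₀ l₀) (bcπ i₀ (hX.paste_vert hY) l₀ x) ≤ k := hx
        rw [hbc x] at h1
        exact ((Groth.Agent.Lib.Helper3.DimCons.succ_le_iff_not_le _ k).mp le_rfl) h1
      obtain ⟨j₂, fj₂, hj₂⟩ := exists_map_preimage_le_map_preimage (bcDiagram D i₀ (f₀ ≫ g₀))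
        (bcCone i₀ (hX.paste_vert hY)) (isLimitBcCone i₀ (hX.paste_vert hY) hc) hVc H
      refine ⟨j₂, fj₂, fun x => ?_⟩
      rw [Groth.Agent.Lib.Helper3.DimCons.succ_le_iff_not_le]
      intro hx
      have : x ∈ (bcDiagram D i₀ (f₀ ≫ g₀)).map fj₂ ⁻¹ᵁ V := hx
      exact hj₂ this
  obtain ⟨j, a₁, a₂, hcomm⟩ := IsCofiltered.cospan fj₁ fj₂
  refine ⟨j.left, j.hom, _, _, bcMor D i₀ f₀ g₀ j, dSnd D i₀ g₀ j, dFst D i₀ g₀ j,
    dFst D i₀ (f₀ ≫ g₀) j, isPullback_d D i₀ g₀ j, isPullback_bcMor D i₀ f₀ g₀ j, ?_⟩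
  haveI := hlfp j
  rw [hasRelDim_iff_forall_fibreDimAt_eq]
  intro x
  apply le_antisymm
  · rw [fibreDimAt_eq_of_isPullback _ _ _ _ (isPullback_map_bcMor D i₀ f₀ g₀ (a₁ ≫ fj₁)) x,
      Functor.map_comp]
    have : (bcDiagram D i₀ (f₀ ≫ g₀)).map a₁ x ∈ ((bcDiagram D i₀ (f₀ ≫ g₀)).map fj₁ ⁻¹ᵁ U) := by
      rw [hj₁]; trivial
    exact this
  · rw [fibreDimAt_eq_of_isPullback _ _ _ _ (isPullback_map_bcMor D i₀ f₀ g₀ (a₂ ≫ fj₂)) x,
      Functor.map_comp]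
    exact hj₂ _

end Groth.Agent.S9196
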