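import Groth.Statements.S9197
-- import your own Groth.Agent.* helpers here
import Mathlib
import Groth.Agent.S9192
import Groth.Agent.S9187

set_option autoImplicit false
universe u
open CategoryTheory AlgebraicGeometry
open Lim

namespace Groth.Agent.S9197

open Limits Groth.Agent.Lib.Helper26.LimDescend Groth.Agent.Lib.Helper22.LimBC

/-- Let S = lim S_i be a cofiltered limit of schemes with affine transition morphisms, S_{i₀} a
quasi-compact quasi-separated stage, f₀ : X₀ → Y₀ a morphism of quasi-compact quasi-separated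
schemes over S_{i₀}, and f : X → Y its base change along S → S_{i₀} (base changes expressed by
pullback squares). Let d be a natural number. If f₀ is locally of finite presentation and f is
finite locally free of degree d (finite, flat, locally of finite presentation, with rank function
constant equal to d), then for some index i over i₀ the base change f_i : X_i → Y_i of f₀ along S_i
→ S_{i₀} is finite locally free of degree d. -/
theorem result {I : Type u} [SmallCategory I] [IsCofiltered I]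
    (D : I ⥤ Scheme.{u}) (c : Limits.Cone D) (hc : Limits.IsLimit c)
    [∀ (i j : I) (f : i ⟶ j), IsAffineHom (D.map f)] (i₀ : I) [CompactSpace (D.obj i₀)]
    [QuasiSeparatedSpace (D.obj i₀)] {X₀ Y₀ : Scheme.{u}} (f₀ : X₀ ⟶ Y₀) (g₀ : Y₀ ⟶ D.obj i₀)
    [CompactSpace X₀] [QuasiSeparatedSpace X₀] [CompactSpace Y₀] [QuasiSeparatedSpace Y₀]
    [LocallyOfFinitePresentation f₀] (d : ℕ)
    {X Y : Scheme.{u}} (f : X ⟶ Y) (g : Y ⟶ c.pt) (qY : Y ⟶ Y₀) (qX : X ⟶ X₀)
    (hY : IsPullback qY g g₀ (c.π.app i₀)) (hX : IsPullback qX f f₀ qY) (hf : Mor2.IsFinLocFreeOfDeg d f) :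
    ∃ (i : I) (φ : i ⟶ i₀) (Xi Yi : Scheme.{u}) (fi : Xi ⟶ Yi) (gi : Yi ⟶ D.obj i) (pY : Yi ⟶ Y₀)
      (pX : Xi ⟶ X₀), IsPullback pY gi g₀ (D.map φ) ∧ IsPullback pX fi f₀ pY ∧ Mor2.IsFinLocFreeOfDeg d fi := by
  have inst : ∀ {i j : I} (f : i ⟶ j), IsAffineHom (D.map f) := fun f => inferInstance
  obtain ⟨⟨hfin, hflat, hlfp⟩, hrank⟩ := hf
  have hcY := isLimitBcCone i₀ hY hc
  obtain ⟨j₁, hj₁⟩ := Groth.Agent.S2075.descend_flat D c hc i₀ f₀ g₀ f g qY qX hY hX
  obtain ⟨i, φ, Xi, Yi, fi, gi, pY, pX, hpY, hpX, hfi⟩ :=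
    Groth.Agent.S9187.result D c hc i₀ f₀ g₀ f g qY qX hY hX
  have h2 : IsFinite (bcMor D i₀ f₀ g₀ (Over.mk φ)) :=
    Groth.Agent.S9192.bcMor_of_tuple D @IsFinite f₀ g₀ φ fi gi pY pX hpY hpX hfi
  -- the stage `k₀` at which the morphism is finite, flat and of finite presentation
  have hfl : Flat (bcMor D i₀ f₀ g₀ (IsCofiltered.min j₁ (Over.mk φ))) :=
    hj₁ _ (IsCofiltered.minToLeft _ _)
  have hfn : IsFinite (bcMor D i₀ f₀ g₀ (IsCofiltered.min j₁ (Over.mk φ))) :=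
    MorphismProperty.of_isPullback (P := @IsFinite)
      (isPullback_map_bcMor D i₀ f₀ g₀ (IsCofiltered.minToRight j₁ (Over.mk φ))) h2
  have hlfp₀ : LocallyOfFinitePresentation
      (bcMor D i₀ f₀ g₀ (IsCofiltered.min j₁ (Over.mk φ))) :=
    MorphismProperty.of_isPullback (P := @LocallyOfFinitePresentation)
      (isPullback_bcMor D i₀ f₀ g₀ _) inferInstance
  generalize IsCofiltered.min j₁ (Over.mk φ) = k₀ at hfl hfn hlfp₀
  -- the open locus where the rank is `d`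
  have hopen : IsOpen {y | (bcMor D i₀ f₀ g₀ k₀).finrank y = d} :=
    ((bcMor D i₀ f₀ g₀ k₀).isLocallyConstant_finrank).isOpen_fiber d
  have hU : (bcCone i₀ hY).π.app k₀ ⁻¹ᵁ
      (⟨{y | (bcMor D i₀ f₀ g₀ k₀).finrank y = d}, hopen⟩ : ((bcDiagram D i₀ g₀).obj k₀).Opens) =
      ⊤ := by
    rw [eq_top_iff]
    intro y _
    show (bcMor D i₀ f₀ g₀ k₀).finrank (bcπ i₀ hY k₀ y) = d
    rw [← Scheme.Hom.finrank_of_isPullback _ _ _ _ (isPullback_bcπ_bcMor hY hX k₀) y]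
    exact hrank y
  obtain ⟨k, a, hk⟩ := exists_map_eq_top (bcDiagram D i₀ g₀) (bcCone i₀ hY) hcY _ hU
  have hfl' : Flat (bcMor D i₀ f₀ g₀ k) :=
    MorphismProperty.of_isPullback (P := @Flat) (isPullback_map_bcMor D i₀ f₀ g₀ a) hfl
  have hfn' : IsFinite (bcMor D i₀ f₀ g₀ k) :=
    MorphismProperty.of_isPullback (P := @IsFinite) (isPullback_map_bcMor D i₀ f₀ g₀ a) hfn
  have hlfp' : LocallyOfFinitePresentation (bcMor D i₀ f₀ g₀ k) :=
    MorphismProperty.of_isPullback (P := @LocallyOfFinitePresentation)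
      (isPullback_bcMor D i₀ f₀ g₀ _) inferInstance
  refine ⟨k.left, k.hom, _, _, bcMor D i₀ f₀ g₀ k, dSnd D i₀ g₀ k, dFst D i₀ g₀ k,
    dFst D i₀ (f₀ ≫ g₀) k, isPullback_d D i₀ g₀ k, isPullback_bcMor D i₀ f₀ g₀ k,
    ⟨hfn', hfl', hlfp'⟩, fun y => ?_⟩
  rw [Scheme.Hom.finrank_of_isPullback _ _ _ _ (isPullback_map_bcMor D i₀ f₀ g₀ a) y]
  have : y ∈ (bcDiagram D i₀ g₀).map a ⁻¹ᵁ
      (⟨{y | (bcMor D i₀ f₀ g₀ k₀).finrank y = d}, hopen⟩ :
        ((bcDiagram D i₀ g₀).obj k₀).Opens) := hk ▸ trivial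
  exact this

end Groth.Agent.S9197
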