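import Groth.Statements.S9199
-- import your own Groth.Agent.* helpers here
import Mathlib
import Groth.Agent.Lib.Helper26LimSep

set_option autoImplicit false
universe u
open CategoryTheory AlgebraicGeometry
open Lim

namespace Groth.Agent.S9199

open Limits Groth.Agent.Lib.Helper26.LimSep

set_option backward.isDefEq.respectTransparency.types false in
theorem isLocal_isSeparated : IsZariskiLocalAtTarget @IsSeparated.{u} := inferInstance

theorem respectsRight_isSeparated :
    MorphismProperty.RespectsRight @IsSeparated.{u} @IsOpenImmersion where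
  postcomp i hi f hf := by
    have : IsOpenImmersion i := hi
    have : IsSeparated f := hf
    show IsSeparated (f ≫ i)
    infer_instance

set_option backward.defeqAttrib.useBackward true in
set_option backward.isDefEq.respectTransparency false in
/-- Core of the proof: one separated stage. -/
theorem exists_stage {I : Type u} [SmallCategory I] [IsCofiltered I]
    (S : Scheme.{u}) [QuasiSeparatedSpace S]
    (D : I ⥤ Scheme.{u}) (t : D ⟶ (Functor.const I).obj S) (c : Limits.Cone D)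
    (hc : Limits.IsLimit c) [∀ {i j : I} (f : i ⟶ j), IsAffineHom (D.map f)]
    [∀ i, CompactSpace (D.obj i)] [∀ i, QuasiSeparatedSpace (D.obj i)] (i₁ : I)
    [IsSeparated (c.π.app i₁ ≫ t.app i₁)] :
    ∃ k : Over i₁, IsSeparated (t.app k.left) := by
  classical
  have := isLocal_isSeparated.{u}
  have := respectsRight_isSeparated.{u}
  have hqc : QuasiCompact (t.app i₁) := quasiCompact_of_compactSpace (Y := S) (t.app i₁)
  have hloc : ∀ x : D.obj i₁, ∃ V : S.Opens, IsAffineOpen V ∧ (t.app i₁).base x ∈ V := by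
    intro x
    obtain ⟨_, ⟨V, hV : IsAffineOpen V, rfl⟩, hyV, -⟩ :=
      S.isBasis_affineOpens.exists_subset_of_mem_open (Set.mem_univ ((t.app i₁).base x))
        isOpen_univ
    exact ⟨V, hV, hyV⟩
  choose V hV hxV using hloc
  obtain ⟨ts, hts⟩ := isCompact_univ.elim_finite_subcover
    (fun x => ((t.app i₁ ⁻¹ᵁ V x : (D.obj i₁).Opens) : Set (D.obj i₁)))
    (fun x => (t.app i₁ ⁻¹ᵁ V x).isOpen) (fun x _ => Set.mem_iUnion.mpr ⟨x, hxV x⟩)
  have hnat : ∀ k : Over i₁, t.app k.left = D.map k.hom ≫ t.app i₁ := fun k => by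
    have := t.naturality k.hom
    simp only [Functor.const_obj_obj, Functor.const_obj_map, Category.comp_id] at this
    exact this.symm
  have hres : ∀ (y : D.obj i₁) (k : Over i₁), (t.app k.left) ∣_ V y =
      (Scheme.isoOfEq _ (by rw [hnat k, Scheme.Hom.comp_preimage])).hom ≫
        ((D.map k.hom) ∣_ (t.app i₁ ⁻¹ᵁ V y)) ≫ ((t.app i₁) ∣_ V y) := by
    intro y k
    rw [← cancel_mono (V y).ι]
    simp only [Category.assoc, morphismRestrict_ι, morphismRestrict_ι_assoc,
      Scheme.isoOfEq_hom_ι_assoc]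
    rw [hnat k]
  have key : ∀ y : D.obj i₁, ∃ k₀ : Over i₁, ∀ (k : Over i₁) (_ : k ⟶ k₀),
      IsSeparated (((D.map k.hom) ∣_ (t.app i₁ ⁻¹ᵁ V y)) ≫ ((t.app i₁) ∣_ V y)) := by
    intro y
    have hUc : IsCompact ((t.app i₁ ⁻¹ᵁ V y : (D.obj i₁).Opens) : Set (D.obj i₁)) :=
      QuasiCompact.isCompact_preimage (f := t.app i₁) _ (V y).2 (hV y).isCompact
    have hEc : ∀ j, CompactSpace ((opensDiagram D i₁ (t.app i₁ ⁻¹ᵁ V y)).obj j) := fun j =>
      isCompact_iff_compactSpace.mp (QuasiCompact.isCompact_preimage _ (t.app i₁ ⁻¹ᵁ V y).2 hUc)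
    have hEq : ∀ j, QuasiSeparatedSpace ((opensDiagram D i₁ (t.app i₁ ⁻¹ᵁ V y)).obj j) :=
      fun j => (isQuasiSeparated_iff_quasiSeparatedSpace _ (D.map _ ⁻¹ᵁ _).2).mp
        (.of_quasiSeparatedSpace _)
    have hWa : IsAffine ((V y : S.Opens) : Scheme.{u}) := hV y
    have hsn : ∀ {j k : Over i₁} (a : j ⟶ k),
        (opensDiagram D i₁ (t.app i₁ ⁻¹ᵁ V y)).map a ≫
          (((D.map k.hom) ∣_ (t.app i₁ ⁻¹ᵁ V y)) ≫ ((t.app i₁) ∣_ V y)) =
        ((D.map j.hom) ∣_ (t.app i₁ ⁻¹ᵁ V y)) ≫ ((t.app i₁) ∣_ V y) := by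
      intro j k a
      rw [← cancel_mono (V y).ι]
      simp only [Category.assoc, morphismRestrict_ι, morphismRestrict_ι_assoc, opensDiagram_map,
        Scheme.Hom.resLE_comp_ι_assoc]
      rw [← Category.assoc (D.map a.left), ← D.map_comp, Over.w a]
    have hcl : IsSeparated ((opensCone D c i₁ (t.app i₁ ⁻¹ᵁ V y)).π.app (Over.mk (𝟙 i₁)) ≫
        (((D.map (Over.mk (𝟙 i₁)).hom) ∣_ (t.app i₁ ⁻¹ᵁ V y)) ≫ ((t.app i₁) ∣_ V y))) := by
      have h1 : IsSeparated ((c.π.app i₁ ≫ t.app i₁) ∣_ V y) :=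
        IsZariskiLocalAtTarget.restrict (P := @IsSeparated)
          (inferInstance : IsSeparated (c.π.app i₁ ≫ t.app i₁)) _
      have e : (opensCone D c i₁ (t.app i₁ ⁻¹ᵁ V y)).π.app (Over.mk (𝟙 i₁)) ≫
          (((D.map (Over.mk (𝟙 i₁)).hom) ∣_ (t.app i₁ ⁻¹ᵁ V y)) ≫ ((t.app i₁) ∣_ V y)) =
          (Scheme.isoOfEq _ (by
            rw [Scheme.Hom.comp_preimage])).hom ≫ ((c.π.app i₁ ≫ t.app i₁) ∣_ V y) := by
        rw [← cancel_mono (V y).ι]
        simp
      rw [e]
      infer_instance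
    obtain ⟨j, hj⟩ := exists_isSeparated_of_isAffine_base
      (opensDiagram D i₁ (t.app i₁ ⁻¹ᵁ V y)) (opensCone D c i₁ (t.app i₁ ⁻¹ᵁ V y))
      (Over.mk (𝟙 i₁)) (isLimitOpensCone D c hc i₁ (t.app i₁ ⁻¹ᵁ V y))
      (fun j => ((D.map j.hom) ∣_ (t.app i₁ ⁻¹ᵁ V y)) ≫ ((t.app i₁) ∣_ V y)) hsn
    refine ⟨j.left, fun k u => ?_⟩
    rw [← hsn u]
    infer_instance
  choose k₀ hk₀ using key
  obtain ⟨k, hk⟩ := IsCofiltered.inf_objs_exists (ts.image k₀)
  refine ⟨k, ?_⟩
  apply IsZariskiLocalAtTarget.of_range_subset_iSup (P := @IsSeparated)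
    (fun y : ts => V y.1)
  · rintro _ ⟨z, rfl⟩
    obtain ⟨y, hyt, hz⟩ := Set.mem_iUnion₂.mp (hts (Set.mem_univ ((D.map k.hom).base z)))
    refine TopologicalSpace.Opens.mem_iSup.mpr ⟨⟨y, hyt⟩, ?_⟩
    show (t.app k.left).base z ∈ V y
    rw [hnat k]
    exact hz
  · rintro ⟨y, hyt⟩
    obtain ⟨u⟩ := hk (Finset.mem_image_of_mem k₀ hyt)
    have := hk₀ y k u
    show IsSeparated ((t.app k.left) ∣_ V y)
    rw [hres y k]
    infer_instance

/-- Let S be a scheme and X = lim X_i a cofiltered limit of S-schemes X_i (a diagram with a compatible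
family of structure maps to S) with affine transition morphisms, every X_i quasi-compact and
quasi-separated; the structure map X → S is the composite X → X_{i₀} → S for any index i₀. Assume S
is quasi-separated. If X → S is separated, then X_i → S is separated for all i beyond some index i₁. -/
theorem result {I : Type u} [SmallCategory I] [IsCofiltered I] (S : Scheme.{u}) [QuasiSeparatedSpace S]
    (D : I ⥤ Scheme.{u}) (t : D ⟶ (Functor.const I).obj S) (c : Limits.Cone D) (hc : Limits.IsLimit c)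
    [∀ (i j : I) (a : i ⟶ j), IsAffineHom (D.map a)]
    [∀ i, CompactSpace (D.obj i)] [∀ i, QuasiSeparatedSpace (D.obj i)] (i₀ : I)
    [IsSeparated (c.π.app i₀ ≫ t.app i₀)] :
    ∃ i₁ : I, ∀ (i : I) (_ : i ⟶ i₁), IsSeparated (t.app i) := by
  have inst : ∀ {i j : I} (f : i ⟶ j), IsAffineHom (D.map f) := fun f => inferInstance
  obtain ⟨k, hk⟩ := exists_stage S D t c hc i₀
  refine ⟨k.left, fun i b => ?_⟩
  have h1 := t.naturality b
  simp only [Functor.const_obj_obj, Functor.const_obj_map, Category.comp_id] at h1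
  rw [← h1]
  infer_instance

end Groth.Agent.S9199
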