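import Groth.Statements.S9201
-- import your own Groth.Agent.* helpers here
import Mathlib
import Groth.Agent.S0594
import Groth.Agent.Lib.Helper22LimClosed

set_option autoImplicit false
universe u
open CategoryTheory AlgebraicGeometry
open Lim

namespace Groth.Agent.S9201

open Limits

/-- The main step, once all structure maps factor through a compact open `V` of `S` such that the
limit is a closed subscheme of `V`. -/
theorem aux {I : Type u} [SmallCategory I] [IsCofiltered I] (S : Scheme.{u})
    [QuasiSeparatedSpace S]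
    (D : I ⥤ Scheme.{u}) (t : D ⟶ (Functor.const I).obj S) (c : Limits.Cone D)
    (hc : Limits.IsLimit c)
    [∀ (i j : I) (a : i ⟶ j), IsClosedImmersion (D.map a)]
    [∀ i, CompactSpace (D.obj i)] [∀ i, QuasiSeparatedSpace (D.obj i)]
    [∀ i, LocallyOfFiniteType (t.app i)] (j : I) (V : S.Opens) (hVc : IsCompact (V : Set S))
    (hV : ∀ i, Set.range (t.app i) ⊆ Set.range V.ι)
    (F' : c.pt ⟶ V) (hF' : F' ≫ V.ι = c.π.app j ≫ t.app j) [IsClosedImmersion F'] :
    ∃ i₁ : I, ∀ (i : I) (_ : i ⟶ i₁), IsImmersion (t.app i) := by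
  have hVcs : CompactSpace ((V : S.Opens) : Scheme.{u}) := isCompact_iff_compactSpace.mp hVc
  have hVqs : QuasiSeparatedSpace ((V : S.Opens) : Scheme.{u}) :=
    quasiSeparatedSpace_of_quasiSeparated V.ι
  have hnat : ∀ {i k : I} (a : i ⟶ k), D.map a ≫ t.app k = t.app i := fun a => by
    have := t.naturality a
    simp only [Functor.const_obj_obj, Functor.const_obj_map, Category.comp_id] at this
    exact this
  let t' : D ⟶ (Functor.const I).obj ((V : S.Opens) : Scheme.{u}) :=
    { app := fun i => IsOpenImmersion.lift V.ι (t.app i) (hV i)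
      naturality := fun i k a => by
        rw [← cancel_mono V.ι]
        simp only [Functor.const_obj_obj, Functor.const_obj_map, Category.comp_id,
          Category.assoc, IsOpenImmersion.lift_fac]
        exact hnat a }
  have ht' : ∀ i, t'.app i ≫ V.ι = t.app i := fun i => IsOpenImmersion.lift_fac _ _ _
  have hlft : ∀ i, LocallyOfFiniteType (t'.app i) := fun i => by
    have : LocallyOfFiniteType (t'.app i ≫ V.ι) := by rw [ht']; infer_instance
    exact locallyOfFiniteType_of_comp (t'.app i) V.ι
  have hcl : IsClosedImmersion (c.π.app j ≫ t'.app j) := by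
    have : c.π.app j ≫ t'.app j = F' := by
      rw [← cancel_mono V.ι, Category.assoc, ht', hF']
    rw [this]
    infer_instance
  obtain ⟨k, hk⟩ := Groth.Agent.S0594.result (V : Scheme.{u}) D t' c hc j
  refine ⟨k, fun i b => ?_⟩
  rw [← hnat b, ← ht' k]
  infer_instance

/-- Let S be a quasi-separated scheme and X = lim X_i a cofiltered limit of S-schemes X_i (a diagram
with a compatible family of structure maps to S) whose transition morphisms are closed immersions,
every X_i quasi-compact, quasi-separated and locally of finite type over S; the structure map X → S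
is the composite X → X_{i₀} → S for any index i₀. If X → S is an immersion, then X_i → S is an
immersion for all i beyond some index i₁. -/
theorem result {I : Type u} [SmallCategory I] [IsCofiltered I] (S : Scheme.{u}) [QuasiSeparatedSpace S]
    (D : I ⥤ Scheme.{u}) (t : D ⟶ (Functor.const I).obj S) (c : Limits.Cone D) (hc : Limits.IsLimit c)
    [∀ (i j : I) (a : i ⟶ j), IsClosedImmersion (D.map a)]
    [∀ i, CompactSpace (D.obj i)] [∀ i, QuasiSeparatedSpace (D.obj i)]
    [∀ i, LocallyOfFiniteType (t.app i)] (i₀ : I)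
    [IsImmersion (c.π.app i₀ ≫ t.app i₀)] :
    ∃ i₁ : I, ∀ (i : I) (_ : i ⟶ i₁), IsImmersion (t.app i) := by
  have inst2 : ∀ {i j : I} (f : i ⟶ j), IsAffineHom (D.map f) := fun f => inferInstance
  have hXc : CompactSpace c.pt := Scheme.compactSpace_of_isLimit D c hc
  have hnat : ∀ {i k : I} (a : i ⟶ k), D.map a ≫ t.app k = t.app i := fun a => by
    have := t.naturality a
    simp only [Functor.const_obj_obj, Functor.const_obj_map, Category.comp_id] at this
    exact this
  have hstep : ∀ {i j : I} (a : i ⟶ j), c.π.app i ≫ t.app i = c.π.app j ≫ t.app j := by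
    intro i j a
    rw [← c.w a, Category.assoc, hnat a]
  obtain ⟨F, hF⟩ : ∃ F : c.pt ⟶ S, F = c.π.app i₀ ≫ t.app i₀ := ⟨_, rfl⟩
  have hFi : IsImmersion F := hF ▸ inferInstance
  have hK : IsCompact (Set.range F) := isCompact_range F.continuous
  obtain ⟨V, hVc, hFV, hVcb⟩ := Groth.Agent.Lib.Helper22.LimClosed.exists_compact_open_between S
    (Set.range F) (coborder (Set.range F)) hK
    F.isLocallyClosed_range.isOpen_coborder subset_coborder
  have hTop : c.π.app i₀ ⁻¹ᵁ (t.app i₀ ⁻¹ᵁ V) = ⊤ := by
    rw [eq_top_iff]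
    intro x _
    have : F x ∈ V := hFV ⟨x, rfl⟩
    rw [hF] at this
    exact this
  obtain ⟨j, a, hj⟩ := exists_map_eq_top D c hc (t.app i₀ ⁻¹ᵁ V) hTop
  have hV : ∀ k : Over j, Set.range (t.app k.left) ⊆ Set.range V.ι := by
    intro k
    rw [Scheme.Opens.range_ι]
    rintro _ ⟨x, rfl⟩
    have hx : D.map k.hom x ∈ D.map a ⁻¹ᵁ (t.app i₀ ⁻¹ᵁ V) := hj ▸ trivial
    have h2 : t.app k.left = D.map k.hom ≫ D.map a ≫ t.app i₀ := by rw [hnat a, hnat k.hom]
    rw [h2]
    exact hx
  have hr : Set.range F ⊆ Set.range V.ι := by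
    rw [Scheme.Opens.range_ι]
    exact hFV
  have hfac := IsOpenImmersion.lift_fac V.ι F hr
  have hle : V ≤ F.coborderRange := hVcb
  have hcl : IsClosedImmersion (IsOpenImmersion.lift V.ι F hr) := by
    have e : IsOpenImmersion.lift V.ι F hr ≫ S.homOfLE hle =
        F.liftCoborder := by
      rw [← cancel_mono F.coborderRange.ι, Category.assoc,
        Scheme.homOfLE_ι, hfac, Scheme.Hom.liftCoborder_ι]
    have : IsClosedImmersion
        (IsOpenImmersion.lift V.ι F hr ≫ S.homOfLE hle) := by
      rw [e]; infer_instance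
    exact IsClosedImmersion.of_comp _ (S.homOfLE hle)
  have i1 : ∀ (i k : Over j) (b : i ⟶ k), IsClosedImmersion ((Over.forget j ⋙ D).map b) :=
    fun i k b => by
      show IsClosedImmersion (D.map b.left)
      infer_instance
  have i2 : ∀ i : Over j, CompactSpace ((Over.forget j ⋙ D).obj i) := fun i => by
    show CompactSpace (D.obj i.left)
    infer_instance
  have i3 : ∀ i : Over j, QuasiSeparatedSpace ((Over.forget j ⋙ D).obj i) := fun i => by
    show QuasiSeparatedSpace (D.obj i.left)
    infer_instance
  let t' : Over.forget j ⋙ D ⟶ (Functor.const (Over j)).obj S :=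
    { app := fun k => t.app k.left
      naturality := fun i k b => by
        show D.map b.left ≫ t.app k.left = t.app i.left ≫ 𝟙 _
        rw [Category.comp_id, hnat] }
  have i4 : ∀ i : Over j, LocallyOfFiniteType (t'.app i) := fun i => by
    show LocallyOfFiniteType (t.app i.left)
    infer_instance
  obtain ⟨k, hk⟩ := aux S (Over.forget j ⋙ D) t' (c.whisker (Over.forget j))
    ((Functor.Initial.isLimitWhiskerEquiv (Over.forget j) c).symm hc) (Over.mk (𝟙 j)) V hVc hV
    (IsOpenImmersion.lift V.ι F hr) (by
      rw [hfac, hF]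
      show c.π.app i₀ ≫ t.app i₀ = c.π.app j ≫ t.app j
      exact (hstep a).symm)
  refine ⟨k.left, fun i b => ?_⟩
  exact hk (Over.mk (b ≫ k.hom)) (Over.homMk b rfl)

end Groth.Agent.S9201
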