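import Groth.Statements.S9202
import Mathlib
import Groth.Agent.Lib.Helper22NA13
import Groth.Agent.Lib.Helper22UP7

set_option autoImplicit false
universe u
open CategoryTheory AlgebraicGeometry
open Lim

namespace Groth.Agent.S9202

open Groth.Agent.Lib.Helper22 Limits

set_option backward.isDefEq.respectTransparency.types false in

/-- Let S be a scheme and X = lim X_i a cofiltered limit of S-schemes X_i (a diagram with a compatible
family of structure maps to S) with affine transition morphisms, every X_i quasi-compact and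
quasi-separated; the structure map X → S is the composite X → X_{i₀} → S for any index i₀. Let h : Y
→ X be a proper morphism such that the composite Y → X → S is locally of finite type. Then Y → X_i
is proper for all i beyond some index i₁. -/
theorem result {I : Type u} [SmallCategory I] [IsCofiltered I] (S : Scheme.{u})
    (D : I ⥤ Scheme.{u}) (t : D ⟶ (Functor.const I).obj S) (c : Limits.Cone D) (hc : Limits.IsLimit c)
    [∀ (i j : I) (a : i ⟶ j), IsAffineHom (D.map a)]
    [∀ i, CompactSpace (D.obj i)] [∀ i, QuasiSeparatedSpace (D.obj i)] (i₀ : I)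
    {Y : Scheme.{u}} (h : Y ⟶ c.pt) [IsProper h] [LocallyOfFiniteType (h ≫ c.π.app i₀ ≫ t.app i₀)] :
    ∃ i₁ : I, ∀ (i : I) (_ : i ⟶ i₁), IsProper (h ≫ c.π.app i) := by
  have haffπ : ∀ i, IsAffineHom (c.π.app i) := fun i => isAffineHom_π_app D c hc i
  -- `Y` is qcqs
  have : CompactSpace c.pt := Scheme.compactSpace_of_isLimit D c hc
  have : QuasiSeparatedSpace c.pt := by
    have : QuasiSeparatedSpace (D.obj i₀) := inferInstance
    exact quasiSeparatedSpace_of_quasiSeparated (c.π.app i₀)
  have : CompactSpace Y := QuasiCompact.compactSpace_of_compactSpace h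
  have : QuasiSeparatedSpace Y := quasiSeparatedSpace_of_quasiSeparated h
  -- `Y → X_{i₀}` is locally of finite type
  have hlft0 : LocallyOfFiniteType (h ≫ c.π.app i₀) := by
    have : LocallyOfFiniteType ((h ≫ c.π.app i₀) ≫ t.app i₀) := by
      rw [Category.assoc]; infer_instance
    exact locallyOfFiniteType_of_comp (h ≫ c.π.app i₀) (t.app i₀)
  obtain ⟨P, p, j, hp1, hp2, -, -, -, hj, hjp⟩ := NA13.exists_closedImmersion_fp (h ≫ c.π.app i₀)
  -- the systems over `Over i₀`
  let J := Over i₀
  let DS : J ⥤ Scheme.{u} := Over.forget i₀ ⋙ D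
  let DX : J ⥤ Scheme.{u} := (Functor.const J).obj Y
  let φ : DX ⟶ DS :=
    { app := fun k => h ≫ c.π.app k.left
      naturality := fun k k' w => by
        change 𝟙 Y ≫ h ≫ c.π.app k'.left = (h ≫ c.π.app k.left) ≫ D.map w.left
        rw [Category.id_comp, Category.assoc, c.w] }
  let tt : DS ⟶ (Functor.const J).obj (D.obj i₀) :=
    { app := fun k => D.map k.hom
      naturality := fun k k' w => by
        change D.map w.left ≫ D.map k'.hom = D.map k.hom ≫ 𝟙 _
        rw [Category.comp_id, ← D.map_comp, Over.w] }
  let e : DX ⟶ (Functor.const J).obj P :=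
    { app := fun _ => j
      naturality := fun k k' w => by
        change 𝟙 Y ≫ j = j ≫ 𝟙 P
        rw [Category.id_comp, Category.comp_id] }
  have he : ∀ k, e.app k ≫ p = φ.app k ≫ tt.app k := fun k => by
    change j ≫ p = (h ≫ c.π.app k.left) ≫ D.map k.hom
    rw [hjp, Category.assoc, c.w]
  have : ∀ k, IsAffineHom (tt.app k) := fun k => inferInstanceAs (IsAffineHom (D.map k.hom))
  have hcl : ∀ k, IsClosedImmersion (pullback.lift (e.app k) (φ.app k) (he k)) := fun k => by
    have h1 : IsAffineHom (pullback.fst p (tt.app k)) :=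
      MorphismProperty.pullback_fst (P := @IsAffineHom) _ _ inferInstance
    have h2 : IsClosedImmersion (pullback.lift (e.app k) (φ.app k) (he k) ≫
        pullback.fst p (tt.app k)) := by
      rw [pullback.lift_fst]; exact hj
    exact IsClosedImmersion.of_comp _ (pullback.fst p (tt.app k))
  have hS : IsLimit (c.whisker (Over.forget i₀)) :=
    (Functor.Initial.isLimitWhiskerEquiv (Over.forget i₀) c).symm hc
  have : IsConnected J := IsCofiltered.isConnected J
  have hX : IsLimit (constCone J Y) := isLimitConstCone J Y
  let f' : (constCone J Y).pt ⟶ (c.whisker (Over.forget i₀)).pt := h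
  have : UniversallyClosed f' := inferInstanceAs (UniversallyClosed h)
  have : CompactSpace (D.obj i₀) := inferInstance
  obtain ⟨k, hk⟩ := UP.exists_universallyClosed φ hX hS f' (fun k => by
    change h ≫ c.π.app k.left = 𝟙 Y ≫ h ≫ c.π.app k.left
    rw [Category.id_comp]) tt p e he hcl
  replace hk : UniversallyClosed (h ≫ c.π.app k.left) := hk
  refine ⟨k.left, fun i a => ?_⟩
  have h1 : UniversallyClosed ((h ≫ c.π.app i) ≫ D.map a) := by
    rw [Category.assoc, c.w]; exact hk
  have h2 : UniversallyClosed (h ≫ c.π.app i) := UniversallyClosed.of_comp_of_isSeparated _ (D.map a)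
  have h3 : LocallyOfFiniteType ((h ≫ c.π.app i) ≫ D.map (a ≫ k.hom)) := by
    rw [Category.assoc, c.w]; exact hlft0
  have h4 : LocallyOfFiniteType (h ≫ c.π.app i) := locallyOfFiniteType_of_comp _ (D.map (a ≫ k.hom))
  have h5 : IsSeparated (h ≫ c.π.app i) := inferInstance
  exact { }

end Groth.Agent.S9202
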