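import Groth.Statements.S9203
import Mathlib
import Groth.Agent.Lib.Helper11ChevB

set_option autoImplicit false
universe u v
open CategoryTheory AlgebraicGeometry
open Lim

namespace Groth.Agent.S9203

open Limits in
theorem exists_finite_cover {X : Scheme.{u}} (n : ℕ) (Z : Fin n → Scheme.{u}) (ι : ∀ k, Z k ⟶ X)
    [∀ k, IsClosedImmersion (ι k)] [∀ k, IsAffine (Z k)] :
    ∃ (T : Scheme.{u}) (p : T ⟶ X), IsAffine T ∧ IsFinite p ∧
      Set.range p = ⋃ k, Set.range (ι k) := by
  induction n with
  | zero =>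
    refine ⟨⊥_ Scheme, initial.to X, inferInstance, inferInstance, ?_⟩
    ext x
    simp only [Set.mem_range, Set.mem_iUnion]
    constructor
    · rintro ⟨t, -⟩
      exact (IsEmpty.false t).elim
    · rintro ⟨k, -⟩
      exact k.elim0
  | succ n ih =>
    obtain ⟨T, p, hT, hp, hr⟩ := ih (fun k => Z k.castSucc) (fun k => ι k.castSucc)
    refine ⟨T ⨿ Z (Fin.last n), coprod.desc p (ι (Fin.last n)), inferInstance, inferInstance, ?_⟩
    ext x
    simp only [Set.mem_range, Set.mem_iUnion]
    constructor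
    · rintro ⟨y, rfl⟩
      obtain ⟨(t | z), rfl⟩ := (coprodMk T (Z (Fin.last n))).surjective y
      · have : p t ∈ ⋃ k : Fin n, Set.range (ι k.castSucc) := by rw [← hr]; exact ⟨t, rfl⟩
        obtain ⟨k, hk⟩ := Set.mem_iUnion.1 this
        obtain ⟨z, hz⟩ := hk
        refine ⟨k.castSucc, z, ?_⟩
        rw [hz, coprodMk_inl, ← Scheme.Hom.comp_apply, coprod.inl_desc]
      · refine ⟨Fin.last n, z, ?_⟩
        rw [coprodMk_inr, ← Scheme.Hom.comp_apply, coprod.inr_desc]
    · rintro ⟨k, z, rfl⟩
      induction k using Fin.lastCases with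
      | last =>
        exact ⟨(coprod.inr : Z (Fin.last n) ⟶ T ⨿ Z (Fin.last n)) z, by
          rw [← Scheme.Hom.comp_apply, coprod.inr_desc]⟩
      | cast k =>
        have : ι k.castSucc z ∈ Set.range p := by
          rw [hr]
          exact Set.mem_iUnion.2 ⟨k, z, rfl⟩
        obtain ⟨t, ht⟩ := this
        exact ⟨(coprod.inl : T ⟶ T ⨿ Z (Fin.last n)) t, by
          rw [← Scheme.Hom.comp_apply, coprod.inl_desc, ht]⟩


/-- Suppose a scheme X is covered, as a topological space, by finitely many closed subschemes each of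
which is affine: there are closed immersions Z_k → X, indexed by a finite type, with each Z_k affine
and whose images cover X. Then X is affine. -/
theorem result (X : Scheme.{u}) {κ : Type v} [Finite κ]
    (Z : κ → Scheme.{u}) (ι : ∀ k, Z k ⟶ X) [∀ k, IsClosedImmersion (ι k)] [∀ k, IsAffine (Z k)]
    (hcov : ∀ x : X, ∃ k, x ∈ Set.range (ι k).base) : IsAffine X := by
  obtain ⟨n, ⟨e⟩⟩ := Finite.exists_equiv_fin κ
  obtain ⟨T, p, hT, hp, hr⟩ := exists_finite_cover n (fun k => Z (e.symm k)) (fun k => ι (e.symm k))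
  haveI : Surjective p := by
    refine ⟨fun x => ?_⟩
    obtain ⟨k, hk⟩ := hcov x
    have : x ∈ Set.range p := by
      rw [hr]
      exact Set.mem_iUnion.2 ⟨e k, by rw [e.symm_apply_apply]; exact hk⟩
    exact this
  exact Groth.Agent.Lib.Helper11.Chev.isAffine_of_isIntegralHom_of_surjective p

end Groth.Agent.S9203
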