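import Groth.Statements.S9206
import Mathlib
import Groth.Agent.S18744

set_option autoImplicit false
universe u
open CategoryTheory AlgebraicGeometry
open Lim

namespace Groth.Agent.S9206

open CategoryTheory CategoryTheory.Limits AlgebraicGeometry TopologicalSpace

theorem exists_evaluation_div {X : Scheme.{u}} {U : X.Opens} (hU : IsAffineOpen U) (s : X)
    (hs : s ∈ U) (a : X.residueField s) :
    ∃ r r' : Γ(X, U), (X.evaluation U s hs).hom r' ≠ 0 ∧
      a * (X.evaluation U s hs).hom r' = (X.evaluation U s hs).hom r := by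
  obtain ⟨z, rfl⟩ := X.residue_surjective s a
  letI := X.presheaf.algebra_section_stalk ⟨s, hs⟩
  haveI := hU.isLocalization_stalk ⟨s, hs⟩
  obtain ⟨⟨r, r'⟩, h⟩ := IsLocalization.surj (hU.primeIdealOf ⟨s, hs⟩).asIdeal.primeCompl z
  refine ⟨r, r'.1, ?_, ?_⟩
  · have hu : IsUnit (algebraMap Γ(X, U) (X.presheaf.stalk s) r'.1) :=
      IsLocalization.map_units _ r'
    have : IsUnit ((X.residue s).hom (algebraMap Γ(X, U) (X.presheaf.stalk s) r'.1)) :=
      hu.map _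
    exact this.ne_zero
  · have := congrArg (X.residue s).hom h
    rw [map_mul] at this
    exact this

theorem appLE_refine {X Y Z : Scheme.{u}} (p : X ⟶ Z) (q : X ⟶ Y) (g : Y ⟶ Z) (e : q ≫ g = p)
    (W₁ : Z.Opens) (W : Y.Opens) (U : X.Opens) (h₁ : U ≤ p ⁻¹ᵁ W₁) (h' : W ≤ g ⁻¹ᵁ W₁)
    (h : U ≤ q ⁻¹ᵁ W) (z : Γ(Z, W₁)) :
    (p.appLE W₁ U h₁).hom z = (q.appLE W U h).hom ((g.appLE W₁ W h').hom z) := by
  subst e
  rw [← RingHom.comp_apply, ← CommRingCat.hom_comp, Scheme.Hom.appLE_comp_appLE]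

theorem evaluation_appLE {X Y : Scheme.{u}} (f : X ⟶ Y) (W : Y.Opens) (U : X.Opens)
    (h : U ≤ f ⁻¹ᵁ W) (s : X) (hs : s ∈ U) (z : Γ(Y, W)) :
    (X.evaluation U s hs).hom ((f.appLE W U h).hom z) =
      (f.residueFieldMap s).hom ((Y.evaluation W (f s) (h hs)).hom z) := by
  have h1 := Scheme.evaluation_naturality_apply f s (h hs) z
  rw [h1]
  show (X.residue s).hom ((X.presheaf.germ U s hs).hom ((X.presheaf.map (homOfLE h).op).hom
    ((f.app W).hom z))) = (X.residue s).hom ((X.presheaf.germ (f ⁻¹ᵁ W) s (h hs)).hom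
    ((f.app W).hom z))
  rw [TopCat.Presheaf.germ_res_apply]

theorem final_step {X Y : Scheme.{u}} (p : X ⟶ Y) (s : X) (a : X.residueField s)
    (b₁ b₂ : Y.residueField (p s)) (h0 : (p.residueFieldMap s).hom b₂ ≠ 0)
    (h : a * (p.residueFieldMap s).hom b₂ = (p.residueFieldMap s).hom b₁) :
    (p.residueFieldMap s).hom (b₁ / b₂) = a := by
  rw [map_div₀, ← h, mul_div_assoc, div_self h0, mul_one]

/-- Let S = lim S_i be a cofiltered limit of schemes with affine transition morphisms and let s be a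
point of S with images s_i in S_i. Then the residue field κ(s) is the colimit of the residue fields
κ(s_i): every element of κ(s) is the image of an element of κ(s_i) for some i under the map of
residue fields induced by S → S_i (the maps κ(s_i) → κ(s) being injective, this says that the
canonical map from the colimit is an isomorphism). -/
theorem result {I : Type u} [SmallCategory I] [IsCofiltered I]
    (D : I ⥤ Scheme.{u}) (c : Limits.Cone D) (hc : Limits.IsLimit c)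
    [∀ (i j : I) (f : i ⟶ j), IsAffineHom (D.map f)] (s : c.pt) (a : c.pt.residueField s) :
    ∃ (i : I) (b : (D.obj i).residueField ((c.π.app i).base s)), ((c.π.app i).residueFieldMap s).hom b = a := by
  haveI : ∀ {i j : I} (f : i ⟶ j), IsAffineHom (D.map f) := fun f => inferInstance
  obtain ⟨i₀⟩ := IsCofiltered.nonempty (C := I)
  obtain ⟨_, ⟨V, hV : IsAffineOpen V, rfl⟩, hsV, -⟩ :=
    (D.obj i₀).isBasis_affineOpens.exists_subset_of_mem_open (Set.mem_univ (c.π.app i₀ s))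
      isOpen_univ
  have hπ : IsAffineHom (c.π.app i₀) := isAffineHom_π_app D c hc i₀
  have hU : IsAffineOpen (c.π.app i₀ ⁻¹ᵁ V) := hV.preimage _
  have hsU : s ∈ c.π.app i₀ ⁻¹ᵁ V := hsV
  obtain ⟨r, r', hr', hrr'⟩ := exists_evaluation_div hU s hsU a
  obtain ⟨j₁, f₁, t, rfl⟩ := Groth.Agent.S18744.exists_appLE_eq D c hc i₀ V hV r
  obtain ⟨j₂, f₂, t', rfl⟩ := Groth.Agent.S18744.exists_appLE_eq D c hc i₀ V hV r'
  obtain ⟨j, g₁, g₂, hg⟩ := IsCofiltered.cospan f₁ f₂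
  set W : (D.obj j).Opens := D.map (g₁ ≫ f₁) ⁻¹ᵁ V with hW
  have hWU : c.π.app i₀ ⁻¹ᵁ V ≤ c.π.app j ⁻¹ᵁ W := by
    rw [hW, ← Scheme.Hom.comp_preimage, c.w]
  have hW1 : W ≤ D.map g₁ ⁻¹ᵁ (D.map f₁ ⁻¹ᵁ V) := by
    rw [hW, ← Scheme.Hom.comp_preimage, ← D.map_comp]
  have hW2 : W ≤ D.map g₂ ⁻¹ᵁ (D.map f₂ ⁻¹ᵁ V) := by
    rw [hW, ← Scheme.Hom.comp_preimage, ← D.map_comp, hg]
  have e1 := appLE_refine (c.π.app j₁) (c.π.app j) (D.map g₁) (c.w g₁) (D.map f₁ ⁻¹ᵁ V) W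
    (c.π.app i₀ ⁻¹ᵁ V) (by rw [← Scheme.Hom.comp_preimage, c.w]) hW1 hWU t
  have e2 := appLE_refine (c.π.app j₂) (c.π.app j) (D.map g₂) (c.w g₂) (D.map f₂ ⁻¹ᵁ V) W
    (c.π.app i₀ ⁻¹ᵁ V) (by rw [← Scheme.Hom.comp_preimage, c.w]) hW2 hWU t'
  have hr1 : (c.pt.evaluation (c.π.app i₀ ⁻¹ᵁ V) s hsU).hom
      (((c.π.app j₁).appLE (D.map f₁ ⁻¹ᵁ V) (c.π.app i₀ ⁻¹ᵁ V)
        (by rw [← Scheme.Hom.comp_preimage, c.w])).hom t) = _ :=
    (congrArg _ e1).trans (evaluation_appLE (c.π.app j) W _ hWU s hsU _)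
  have hr2 : (c.pt.evaluation (c.π.app i₀ ⁻¹ᵁ V) s hsU).hom
      (((c.π.app j₂).appLE (D.map f₂ ⁻¹ᵁ V) (c.π.app i₀ ⁻¹ᵁ V)
        (by rw [← Scheme.Hom.comp_preimage, c.w])).hom t') = _ :=
    (congrArg _ e2).trans (evaluation_appLE (c.π.app j) W _ hWU s hsU _)
  set b₁ := ((D.obj j).evaluation W (c.π.app j s) (hWU hsU)).hom
    (((D.map g₁).appLE (D.map f₁ ⁻¹ᵁ V) W hW1).hom t) with hb₁
  set b₂ := ((D.obj j).evaluation W (c.π.app j s) (hWU hsU)).hom
    (((D.map g₂).appLE (D.map f₂ ⁻¹ᵁ V) W hW2).hom t') with hb₂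
  refine ⟨j, b₁ / b₂, final_step (c.π.app j) s a b₁ b₂ ?_ ?_⟩
  · rw [← hr2]; exact hr'
  · rw [← hr2, ← hr1]; exact hrr'

end Groth.Agent.S9206
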