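import Groth.Statements.S9208
-- import your own Groth.Agent.* helpers here
import Mathlib
import Groth.Agent.Lib.Helper26LfpOfHom

set_option autoImplicit false
universe u
open CategoryTheory AlgebraicGeometry
open Lim

namespace Groth.Agent.S9208

open Groth.Agent.Lib.Helper26.LfpOfHom Opposite Limits

/-- Let f : X → S be a morphism of schemes. Suppose that for every inverse system (T_j) of affine
schemes over S indexed by a nonempty directed preordered set, with limit T, the canonical map
colim_j Mor_S(T_j, X) → Mor_S(T, X) is surjective: every S-morphism T → X is the composite of the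
projection T → T_j with an S-morphism T_j → X for some j. Then f is locally of finite presentation
(surjectivity alone suffices; bijectivity is not required). -/
theorem result {X S : Scheme.{u}} (f : X ⟶ S)
    (h : ∀ (J : Type u) [Preorder J] [IsDirected J (· ≤ ·)] [Nonempty J] (D : Jᵒᵖ ⥤ Scheme.{u})
      (t : D ⟶ (Functor.const Jᵒᵖ).obj S) (c : Limits.Cone D) (_ : Limits.IsLimit c),
      (∀ j, IsAffine (D.obj j)) → ∀ (j₀ : Jᵒᵖ) (g : c.pt ⟶ X), g ≫ f = c.π.app j₀ ≫ t.app j₀ →
        ∃ (j : Jᵒᵖ) (gj : D.obj j ⟶ X), gj ≫ f = t.app j ∧ c.π.app j ≫ gj = g) :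
    LocallyOfFinitePresentation f := by
  apply lfp_of_affHyp
  intro U hU J _ _ _ A α cc hcc g j₀ hg
  obtain ⟨j, gj, h1, h2⟩ := h J (A.op ⋙ Scheme.Spec)
    { app := fun j => Spec.map (α.app j.unop) ≫ hU.fromSpec
      naturality := fun i j a => by
        have := α.naturality a.unop
        simp only [Functor.const_obj_obj, Functor.const_obj_map, Category.id_comp] at this
        show Spec.map (A.map a.unop) ≫ Spec.map (α.app j.unop) ≫ hU.fromSpec =
          (Spec.map (α.app i.unop) ≫ hU.fromSpec) ≫ 𝟙 _
        rw [Category.comp_id, ← Spec.map_comp_assoc, ← this] }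
    (Scheme.Spec.mapCone cc.op) (isLimitOfPreserves Scheme.Spec hcc.op)
    (fun j => by dsimp; infer_instance) (op j₀) g hg
  exact ⟨j.unop, gj, h1, h2⟩

end Groth.Agent.S9208
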