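import Groth.Statements.S9209
import Groth.Agent.Lib.Helper4DVRRef2

set_option autoImplicit false
universe u
open CategoryTheory CategoryTheory.Limits AlgebraicGeometry
open Lim

namespace Groth.Agent.S9209

/-- Let S be a locally Noetherian scheme, f : X → S a separated morphism of finite type and h : U → X a
morphism of finite type whose image is dense in X. Suppose that for every discrete valuation ring A
with fraction field K and every commutative square formed by a morphism Spec K → U → X and a
morphism Spec A → S, there is a morphism Spec A → X making the resulting diagram commute. Then f is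
proper. -/
theorem result {X S U : Scheme.{u}} [IsLocallyNoetherian S] (f : X ⟶ S)
    [IsSeparated f] [LocallyOfFiniteType f] [QuasiCompact f] (h : U ⟶ X) [LocallyOfFiniteType h] [QuasiCompact h]
    (hd : DenseRange h.base)
    (H : ∀ (A : Type u) [CommRing A] [IsDomain A] [IsDiscreteValuationRing A]
      (u : Spec (CommRingCat.of (FractionRing A)) ⟶ U) (y : Spec (CommRingCat.of A) ⟶ S),
      u ≫ h ≫ f = Spec.map (CommRingCat.ofHom (algebraMap A (FractionRing A))) ≫ y →
        ∃ l : Spec (CommRingCat.of A) ⟶ X, l ≫ f = y ∧ Spec.map (CommRingCat.ofHom (algebraMap A (FractionRing A))) ≫ l = u ≫ h) :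
    IsProper f := by
  have hX : IsLocallyNoetherian X := LocallyOfFiniteType.isLocallyNoetherian f
  have hU : IsLocallyNoetherian U := LocallyOfFiniteType.isLocallyNoetherian h
  have huc : UniversallyClosed f := by
    refine UniversallyClosed.of_valuativeCriterion f
      (Groth.Agent.Lib.Helper4.DVRRef.existence_of_dvr_refined f fun x => ?_)
    have hx : x ∈ closure (Set.range h) := by rw [hd.closure_range]; trivial
    obtain ⟨u₀, hu₀⟩ := Groth.Agent.Lib.Helper4.DVRSch.exists_specializes_of_mem_closure_range h hx
    refine ⟨h u₀, hu₀, U.residueField u₀, inferInstance, h.residueFieldMap u₀,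
      RingHom.EssFiniteType.residueFieldMap (LocallyOfFiniteType.stalkMap h u₀), ?_⟩
    intro V hV y hy
    have := hV
    rw [← Category.assoc, Scheme.Hom.SpecMap_residueFieldMap_fromSpecResidueField,
      Category.assoc] at hy
    rw [Scheme.Hom.SpecMap_residueFieldMap_fromSpecResidueField]
    obtain ⟨a, b, hab, hba, ha, hb⟩ := Groth.Agent.Lib.Helper4.DVREx.dvr_bridge V
    obtain ⟨l, hl1, hl2⟩ := H V (Spec.map a ≫ U.fromSpecResidueField u₀) y (by
      rw [Category.assoc, ← hy, ← Category.assoc, ← Spec.map_comp, ha])
    refine ⟨l, hl1, ?_⟩
    rw [← hb, Spec.map_comp, Category.assoc, hl2, Category.assoc, ← Category.assoc,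
      ← Spec.map_comp, hab, Spec.map_id, Category.id_comp]
  exact { }

end Groth.Agent.S9209
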