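import Groth.Statements.S9210
import Groth.Agent.Lib.Helper4DVRSep

set_option autoImplicit false
universe u
open CategoryTheory CategoryTheory.Limits AlgebraicGeometry
open Lim

namespace Groth.Agent.S9210

/-- Let S be a locally Noetherian scheme, f : X → S a morphism locally of finite type and h : U → X a
morphism of finite type whose image is dense in X. Suppose that for every discrete valuation ring A
with fraction field K and every commutative square formed by a morphism Spec K → U → X and a
morphism Spec A → S, there is at most one morphism Spec A → X making the resulting diagram commute.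
Then f is separated. -/
theorem result {X S U : Scheme.{u}} [IsLocallyNoetherian S] (f : X ⟶ S)
    [LocallyOfFiniteType f] (h : U ⟶ X) [LocallyOfFiniteType h] [QuasiCompact h] (hd : DenseRange h.base)
    (H : ∀ (A : Type u) [CommRing A] [IsDomain A] [IsDiscreteValuationRing A]
      (u : Spec (CommRingCat.of (FractionRing A)) ⟶ U) (y : Spec (CommRingCat.of A) ⟶ S),
      u ≫ h ≫ f = Spec.map (CommRingCat.ofHom (algebraMap A (FractionRing A))) ≫ y →
        ∀ l₁ l₂ : Spec (CommRingCat.of A) ⟶ X, l₁ ≫ f = y → Spec.map (CommRingCat.ofHom (algebraMap A (FractionRing A))) ≫ l₁ = u ≫ h →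
          l₂ ≫ f = y → Spec.map (CommRingCat.ofHom (algebraMap A (FractionRing A))) ≫ l₂ = u ≫ h → l₁ = l₂) :
    IsSeparated f := by
  have hX : IsLocallyNoetherian X := LocallyOfFiniteType.isLocallyNoetherian f
  have hU : IsLocallyNoetherian U := LocallyOfFiniteType.isLocallyNoetherian h
  refine Groth.Agent.Lib.Helper4.DVRSep.isSeparated_of_dvr_uniqueness f fun x => ?_
  have hx : x ∈ closure (Set.range h) := by rw [hd.closure_range]; trivial
  obtain ⟨u₀, hu₀⟩ := Groth.Agent.Lib.Helper4.DVRSch.exists_specializes_of_mem_closure_range h hx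
  refine ⟨h u₀, hu₀, U.residueField u₀, inferInstance, h.residueFieldMap u₀,
    RingHom.EssFiniteType.residueFieldMap (LocallyOfFiniteType.stalkMap h u₀), ?_⟩
  intro V hV g₁ g₂ h1 h2 h3
  have := hV
  rw [Scheme.Hom.SpecMap_residueFieldMap_fromSpecResidueField] at h2 h3
  let e : FractionRing V ≃ₐ[V] U.residueField u₀ := FractionRing.algEquiv V _
  have he : algebraMap V (FractionRing V) =
      (e.symm : U.residueField u₀ →+* FractionRing V).comp V.subtype := by
    ext a
    exact (e.symm.commutes a).symm
  have he' : Spec.map (CommRingCat.ofHom (algebraMap V (FractionRing V))) =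
      Spec.map (CommRingCat.ofHom (e.symm : U.residueField u₀ →+* FractionRing V)) ≫
        Spec.map (CommRingCat.ofHom V.subtype) := by
    rw [he, CommRingCat.ofHom_comp, Spec.map_comp]
  refine H V (Spec.map (CommRingCat.ofHom (e.symm : U.residueField u₀ →+* FractionRing V)) ≫
    U.fromSpecResidueField u₀) (g₁ ≫ f) ?_ g₁ g₂ rfl ?_ h1.symm ?_
  · rw [he', Category.assoc, Category.assoc, ← Category.assoc (U.fromSpecResidueField u₀), ← h2]
    simp
  · rw [he', Category.assoc, Category.assoc, h2]
  · rw [he', Category.assoc, Category.assoc, h3]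

end Groth.Agent.S9210
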