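import Groth.Statements.S9211
import Groth.Agent.Lib.Helper4DVRSep

set_option autoImplicit false
universe u
open CategoryTheory CategoryTheory.Limits AlgebraicGeometry
open Lim

namespace Groth.Agent.S9211

/-- Let S be a locally Noetherian scheme and f : X → S a morphism locally of finite type. Then f is
separated if and only if the following uniqueness holds: for every generic point η of an irreducible
component of X, every discrete valuation ring A contained in the residue field κ(η) with fraction
field κ(η) (a valuation subring of κ(η) which is a discrete valuation ring), and every pair of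
morphisms Spec A → X with the same composite to S and both restricting on Spec κ(η) to the canonical
morphism Spec κ(η) → X, the two morphisms coincide. -/
theorem result {X S : Scheme.{u}} [IsLocallyNoetherian S] (f : X ⟶ S)
    [LocallyOfFiniteType f] :
    IsSeparated f ↔ ∀ (η : X), closure {η} ∈ irreducibleComponents (X : Type u) →
      ∀ (A : ValuationSubring (X.residueField η)), IsDiscreteValuationRing A →
        ∀ l₁ l₂ : Spec (CommRingCat.of A) ⟶ X, l₁ ≫ f = l₂ ≫ f →
          Spec.map (CommRingCat.ofHom A.subtype) ≫ l₁ = X.fromSpecResidueField η →
          Spec.map (CommRingCat.ofHom A.subtype) ≫ l₂ = X.fromSpecResidueField η → l₁ = l₂ := by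
  constructor
  · intro hsep η _ A hA l₁ l₂ h1 h2 h3
    have hU := IsSeparated.valuativeCriterion f
    let S : ValuativeCommSq f :=
      { R := A
        K := X.residueField η
        i₁ := X.fromSpecResidueField η
        i₂ := l₁ ≫ f
        commSq := ⟨by rw [← h2]; simp; rfl⟩ }
    have := hU S
    let k₁ : S.commSq.LiftStruct := ⟨l₁, h2, rfl⟩
    let k₂ : S.commSq.LiftStruct := ⟨l₂, h3, h1.symm⟩
    exact congrArg CommSq.LiftStruct.l (Subsingleton.elim k₁ k₂)
  · intro H
    refine Groth.Agent.Lib.Helper4.DVRSep.isSeparated_of_dvr_uniqueness f fun x => ?_
    obtain ⟨η, hη⟩ := QuasiSober.sober (isIrreducible_irreducibleComponent (x := x))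
      isClosed_irreducibleComponent
    have hmem : closure {η} ∈ irreducibleComponents (X : Type u) := by
      rw [hη.def]; exact irreducibleComponent_mem_irreducibleComponents x
    refine ⟨η, hη.specializes mem_irreducibleComponent, X.residueField η, inferInstance, 𝟙 _,
      (RingHom.FiniteType.id _).essFiniteType, ?_⟩
    intro V hV g₁ g₂ h1 h2 h3
    rw [Spec.map_id] at h2 h3
    erw [Category.id_comp] at h2 h3
    exact H η hmem V hV g₁ g₂ h1 h2 h3

end Groth.Agent.S9211
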