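import Groth.Statements.S9212
import Groth.Agent.Lib.Helper4DVRRef2
import Groth.Agent.S9211

set_option autoImplicit false
universe u
open CategoryTheory CategoryTheory.Limits AlgebraicGeometry
open Lim

namespace Groth.Agent.S9212

/-- Let S be a locally Noetherian scheme and f : X → S a morphism of finite type. Then f is proper if
and only if: for every generic point η of an irreducible component of X, every discrete valuation
ring A contained in the residue field κ(η) with fraction field κ(η) (a valuation subring of κ(η)
which is a discrete valuation ring), and every morphism Spec A → S whose restriction to Spec κ(η) is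
the canonical morphism Spec κ(η) → X followed by f, there is exactly one morphism Spec A → X over S
restricting to the canonical morphism on Spec κ(η). -/
theorem result {X S : Scheme.{u}} [IsLocallyNoetherian S] (f : X ⟶ S)
    [LocallyOfFiniteType f] [QuasiCompact f] :
    IsProper f ↔ ∀ (η : X), closure {η} ∈ irreducibleComponents (X : Type u) →
      ∀ (A : ValuationSubring (X.residueField η)), IsDiscreteValuationRing A →
        ∀ y : Spec (CommRingCat.of A) ⟶ S,
          Spec.map (CommRingCat.ofHom A.subtype) ≫ y = X.fromSpecResidueField η ≫ f →
          ∃! l : Spec (CommRingCat.of A) ⟶ X,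
            l ≫ f = y ∧ Spec.map (CommRingCat.ofHom A.subtype) ≫ l = X.fromSpecResidueField η := by
  constructor
  · intro hp η _ A hA y hy
    have hE : ValuativeCriterion.Existence f := by
      have := UniversallyClosed.eq_valuativeCriterion
      have h2 : (ValuativeCriterion.Existence ⊓ @QuasiCompact) f := by
        rw [← this]; infer_instance
      exact h2.1
    have hU := IsSeparated.valuativeCriterion f
    let S : ValuativeCommSq f :=
      { R := A
        K := X.residueField η
        i₁ := X.fromSpecResidueField η
        i₂ := y
        commSq := ⟨hy.symm⟩ }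
    obtain ⟨l, hl1, hl2⟩ := (hE S).exists_lift
    refine ⟨l, ⟨hl2, hl1⟩, ?_⟩
    rintro l' ⟨hl'2, hl'1⟩
    have := hU S
    let k₁ : S.commSq.LiftStruct := ⟨l, hl1, hl2⟩
    let k₂ : S.commSq.LiftStruct := ⟨l', hl'1, hl'2⟩
    exact congrArg CommSq.LiftStruct.l (Subsingleton.elim k₂ k₁)
  · intro H
    have hsep : IsSeparated f := by
      rw [Groth.Agent.S9211.result]
      intro η hη A hA l₁ l₂ h1 h2 h3
      obtain ⟨l, -, hl⟩ := H η hη A hA (l₁ ≫ f) (by rw [← Category.assoc, h2])
      rw [hl l₁ ⟨rfl, h2⟩, hl l₂ ⟨h1.symm, h3⟩]
    have huc : UniversallyClosed f := by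
      refine UniversallyClosed.of_valuativeCriterion f
        (Groth.Agent.Lib.Helper4.DVRRef.existence_of_dvr_refined f fun x => ?_)
      obtain ⟨η, hη⟩ := QuasiSober.sober (isIrreducible_irreducibleComponent (x := x))
        isClosed_irreducibleComponent
      have hmem : closure {η} ∈ irreducibleComponents (X : Type u) := by
        rw [hη.def]; exact irreducibleComponent_mem_irreducibleComponents x
      refine ⟨η, hη.specializes mem_irreducibleComponent, X.residueField η, inferInstance, 𝟙 _,
        (RingHom.FiniteType.id _).essFiniteType, ?_⟩
      intro V hV y hy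
      rw [Spec.map_id] at hy ⊢
      erw [Category.id_comp] at hy ⊢
      obtain ⟨l, ⟨hl1, hl2⟩, -⟩ := H η hmem V hV y hy
      exact ⟨l, hl1, hl2⟩
    exact { }

end Groth.Agent.S9212
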