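import Groth.Statements.S9214
import Mathlib
import Groth.Agent.Lib.Helper22NA13
import Groth.Agent.S0591

set_option autoImplicit false
universe u
open CategoryTheory CategoryTheory.Limits AlgebraicGeometry
open Lim

namespace Groth.Agent.S9214

open Limits

/-- Let S = lim S_i be a cofiltered limit of Noetherian schemes with affine transition morphisms, and
suppose X → S is of finite type and quasi-separated. One can then find an index i, a finite type
morphism W → S_i and a morphism X → W over S_i (compatible with X → S → S_i) for which the resulting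
map X → S ×_{S_i} W into the fibre product is a closed immersion. -/
theorem result {I : Type u} [SmallCategory I] [IsCofiltered I]
    (D : I ⥤ Scheme.{u}) (c : Limits.Cone D) (hc : Limits.IsLimit c)
    [∀ (i j : I) (f : i ⟶ j), IsAffineHom (D.map f)] [∀ i, IsNoetherian (D.obj i)]
    {X : Scheme.{u}} (a : X ⟶ c.pt) [QuasiSeparated a] [QuasiCompact a] [LocallyOfFiniteType a] :
    ∃ (i : I) (W : Scheme.{u}) (w : W ⟶ D.obj i) (b : X ⟶ W) (hb : a ≫ c.π.app i = b ≫ w),
      LocallyOfFiniteType w ∧ QuasiCompact w ∧ IsClosedImmersion (pullback.lift a b hb) := by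
  have haff : ∀ {i j : I} (f : i ⟶ j), IsAffineHom (D.map f) := fun f => inferInstance
  obtain ⟨i₀⟩ := IsCofiltered.nonempty (C := I)
  have hπ : IsAffineHom (c.π.app i₀) := isAffineHom_π_app D c hc i₀
  have hcS : CompactSpace c.pt := Scheme.compactSpace_of_isLimit D c hc
  have hqS : QuasiSeparatedSpace c.pt := quasiSeparatedSpace_of_quasiSeparated (c.π.app i₀)
  have hcX : CompactSpace X := (quasiCompact_iff_compactSpace a).mp inferInstance
  have hqX : QuasiSeparatedSpace X := quasiSeparatedSpace_of_quasiSeparated a
  obtain ⟨Y, g, ι, h1, h2, h3, h4, h5, h6, h7⟩ :=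
    Groth.Agent.Lib.Helper22.NA13.exists_closedImmersion_fp a
  obtain ⟨i, Yi, fi, g', k1, k2, k3, k4⟩ := Groth.Agent.S0591.result D c hc Y g
  have hb : a ≫ c.π.app i = (ι ≫ g') ≫ fi := by
    rw [← h7, Category.assoc, Category.assoc, k4.w]
  refine ⟨i, Yi, fi, ι ≫ g', hb, inferInstance, k2, ?_⟩
  have hp : IsPullback g g' (c.π.app i) fi := k4.flip
  have : pullback.lift a (ι ≫ g') hb = ι ≫ hp.isoPullback.hom := by
    apply pullback.hom_ext
    · rw [pullback.lift_fst, Category.assoc, IsPullback.isoPullback_hom_fst, h7]
    · rw [pullback.lift_snd, Category.assoc, IsPullback.isoPullback_hom_snd]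
  rw [this]
  infer_instance

end Groth.Agent.S9214
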