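import Groth.Statements.S9216
import Mathlib
import Groth.Agent.Lib.Helper22FibDimLim
import Groth.Agent.Lib.Helper22NA14

set_option autoImplicit false
universe u
open CategoryTheory CategoryTheory.Limits AlgebraicGeometry
open Lim

namespace Groth.Agent.S9216

open Limits Groth.Agent.Lib.Helper22 Groth.Agent.Lib.Helper22.FTIdeal Groth.Agent.Lib.Helper22.FTLimit

/-- Let S be a quasi-compact quasi-separated scheme, f : X → S a morphism of finite presentation and d a
natural number. Let Z be a closed subscheme of X such that every fibre of Z → S has dimension at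
most d. Then there is a closed subscheme Z' of X containing Z such that Z' → X is of finite
presentation and every fibre of Z' → S has dimension at most d. -/
theorem result {X S Z : Scheme.{u}} [CompactSpace S]
    [QuasiSeparatedSpace S] (f : X ⟶ S) [LocallyOfFinitePresentation f] [QuasiCompact f] [QuasiSeparated f]
    (d : ℕ) (ι : Z ⟶ X) [IsClosedImmersion ι] (hZ : ∀ s : S, topologicalKrullDim ↥((ι ≫ f).fiber s) ≤ d) :
    ∃ (Z' : Scheme.{u}) (ι' : Z' ⟶ X) (k : Z ⟶ Z'), IsClosedImmersion ι' ∧ LocallyOfFinitePresentation ι' ∧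
      k ≫ ι' = ι ∧ ∀ s : S, topologicalKrullDim ↥((ι' ≫ f).fiber s) ≤ d := by
  have hcX : CompactSpace X := (quasiCompact_iff_compactSpace f).mp inferInstance
  have hqX : QuasiSeparatedSpace X := quasiSeparatedSpace_of_quasiSeparated f
  let DX : (Idx ι.ker)ᵒᵖ ⥤ Scheme.{u} := FTLimit.diag ι.ker ⋙ Over.forget X
  let cX₀ : Cone DX := (Over.forget X).mapCone (cone ι.ker)
  have hconn : IsConnected (Idx ι.ker)ᵒᵖ := IsCofiltered.isConnected _
  have hX₀ : IsLimit cX₀ := isLimitOfPreserves (Over.forget X) (coneIsLimit ι.ker)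
  let cX : Cone DX := cX₀.extend ι.toImage
  have hX : IsLimit cX := IsLimit.ofIsoLimit hX₀ (Cone.extendIso cX₀ (asIso ι.toImage).symm)
  let DS : (Idx ι.ker)ᵒᵖ ⥤ Scheme.{u} := (Functor.const _).obj S
  let cS : Cone DS := constCone _ S
  have hS : IsLimit cS := isLimitConstCone _ S
  have ht : ∀ {x y : (Idx ι.ker)ᵒᵖ} (a : x ⟶ y),
      DX.map a ≫ (y.unop.1.subschemeι ≫ f) = x.unop.1.subschemeι ≫ f := fun {x y} a => by
    have h := Scheme.IdealSheafData.inclusion_subschemeι (show y.unop.1 ≤ x.unop.1 from a.unop.le)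
    exact (Category.assoc _ _ _).symm.trans (congrArg (· ≫ f) h)
  let φ : DX ⟶ DS :=
    { app := fun x => x.unop.1.subschemeι ≫ f
      naturality := fun x y a => (ht a).trans (Category.comp_id _).symm }
  have hlft : ∀ x, LocallyOfFiniteType (φ.app x) := fun x =>
    inferInstanceAs (LocallyOfFiniteType (x.unop.1.subschemeι ≫ f))
  have hqc : ∀ x, QuasiCompact (φ.app x) := fun x =>
    inferInstanceAs (QuasiCompact (x.unop.1.subschemeι ≫ f))
  have haff : ∀ (x y : (Idx ι.ker)ᵒᵖ) (a : x ⟶ y), IsAffineHom (DS.map a) := fun x y a =>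
    inferInstanceAs (IsAffineHom (𝟙 S))
  have hcpt : ∀ x, CompactSpace (DS.obj x) := fun x => inferInstanceAs (CompactSpace S)
  have hcl : ∀ (x y : (Idx ι.ker)ᵒᵖ) (a : x ⟶ y),
      IsClosedImmersion (pullback.lift (DX.map a) (φ.app x) (φ.naturality a)) := fun x y a => by
    have h1 : IsClosedImmersion (DX.map a) := by
      change IsClosedImmersion ((FTLimit.diag ι.ker).map a).left
      rw [FTLimit.diag_map_left]
      exact NA14.isClosedImmersion_inclusion _
    have h2 : IsIso (pullback.fst (φ.app y) (DS.map a)) := by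
      have : IsIso (DS.map a) := inferInstanceAs (IsIso (𝟙 S))
      infer_instance
    have h3 : IsClosedImmersion (pullback.lift (DX.map a) (φ.app x) (φ.naturality a) ≫
        pullback.fst (φ.app y) (DS.map a)) := by
      rw [pullback.lift_fst]; exact h1
    exact IsClosedImmersion.of_comp _ (pullback.fst (φ.app y) (DS.map a))
  have hf : ∀ x, (ι ≫ f) ≫ cS.π.app x = cX.π.app x ≫ φ.app x := fun x => by
    have h := Scheme.IdealSheafData.inclusion_subschemeι (show x.unop.1 ≤ ι.ker from x.unop.2.1)
    change (ι ≫ f) ≫ 𝟙 S = (ι.toImage ≫ Scheme.IdealSheafData.inclusion _) ≫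
      x.unop.1.subschemeι ≫ f
    rw [Category.comp_id, Category.assoc, reassoc_of% h, Scheme.Hom.toImage_imageι_assoc]
  obtain ⟨x, hx⟩ := FibDimLim.exists_stage_fibre_dim_le DX DS φ cX cS hX hS hcl (ι ≫ f) hf d hZ
  have h6 : LocallyOfFinitePresentation x.unop.1.subschemeι :=
    locallyOfFinitePresentation_subschemeι _ x.unop.2.2
  refine ⟨x.unop.1.subscheme, x.unop.1.subschemeι,
    ι.toImage ≫ Scheme.IdealSheafData.inclusion x.unop.2.1, inferInstance, h6, ?_, hx⟩
  rw [Category.assoc, Scheme.IdealSheafData.inclusion_subschemeι, Scheme.Hom.toImage_imageι]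

end Groth.Agent.S9216
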