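import Groth.Statements.S9217
-- import your own Groth.Agent.* helpers here
import Mathlib
import Groth.Agent.Lib.Helper26StalkLim
import Groth.Agent.Lib.Helper26LimFP3

set_option autoImplicit false
universe u
open CategoryTheory AlgebraicGeometry
open Lim

namespace Groth.Agent.S9217

open Limits Groth.Agent.Lib.Helper26.StalkLim Groth.Agent.Lib.Helper26.LimFP TopologicalSpace
  Opposite

/-- A global section is determined by its restriction to an open containing every point but `z`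
and its germ at `z`. -/
theorem section_ext_of_compl {Z : Scheme.{u}} (z : Z) (U' : Z.Opens)
    (hU' : ∀ w : Z, w ≠ z → w ∈ U') (s t : Γ(Z, ⊤)) (h₁ : U'.ι.appTop s = U'.ι.appTop t)
    (h₂ : (Z.fromSpecStalk z).appTop s = (Z.fromSpecStalk z).appTop t) : s = t := by
  apply TopCat.Presheaf.section_ext Z.sheaf ⊤ s t
  intro w hw
  by_cases hwz : w = z
  · subst hwz
    rw [Scheme.fromSpecStalk_appTop] at h₂
    have hA : (Z.fromSpecStalk w) ⁻¹ᵁ ⊤ = ⊤ := rfl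
    have i1 : IsIso (homOfLE (le_top : (Z.fromSpecStalk w) ⁻¹ᵁ ⊤ ≤ ⊤)) :=
      ⟨homOfLE (by rw [hA]), Subsingleton.elim _ _, Subsingleton.elim _ _⟩
    have hinj : Function.Injective ((Scheme.ΓSpecIso (Z.presheaf.stalk w)).inv ≫
        (Spec (Z.presheaf.stalk w)).presheaf.map
          (homOfLE (le_top : (Z.fromSpecStalk w) ⁻¹ᵁ ⊤ ≤ ⊤)).op) :=
      (ConcreteCategory.bijective_of_isIso _).1
    apply hinj
    exact h₂
  · have hwU : w ∈ U'.ι ''ᵁ ⊤ := by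
      rw [Scheme.Opens.ι_image_top]; exact hU' w hwz
    rw [Scheme.Opens.ι_appTop] at h₁
    have e1 := Z.presheaf.germ_res_apply (homOfLE (le_top : U'.ι ''ᵁ ⊤ ≤ ⊤)) w hwU s
    have e2 := Z.presheaf.germ_res_apply (homOfLE (le_top : U'.ι ''ᵁ ⊤ ≤ ⊤)) w hwU t
    show Z.presheaf.germ ⊤ w hw s = Z.presheaf.germ ⊤ w hw t
    rw [← e1, ← e2]
    exact congrArg _ h₁


/-- Morphisms out of `X` are determined by their restrictions to the complement of a closed point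
and to the spectrum of the local ring at that point. -/
theorem hom_ext_of_compl {X Y : Scheme.{u}} (x : X) (U : X.Opens)
    (hxU : ∀ w : X, w ≠ x → w ∈ U) (g₁ g₂ : X ⟶ Y) (h₁ : U.ι ≫ g₁ = U.ι ≫ g₂)
    (h₂ : X.fromSpecStalk x ≫ g₁ = X.fromSpecStalk x ≫ g₂) : g₁ = g₂ := by
  have hpt : g₁ x = g₂ x := by
    let pt : ↥(Spec (X.presheaf.stalk x)) := IsLocalRing.closedPoint (X.presheaf.stalk x)
    have hpt' : X.fromSpecStalk x pt = x := Scheme.fromSpecStalk_closedPoint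
    have e : ∀ g : X ⟶ Y, g x = (X.fromSpecStalk x ≫ g) pt := fun g => by
      rw [Scheme.Hom.comp_apply, hpt']
    rw [e g₁, e g₂, h₂]
  obtain ⟨V, hV, hxV⟩ : ∃ V : Y.Opens, IsAffineOpen V ∧ g₁ x ∈ V := by
    obtain ⟨_, ⟨V, hV, rfl⟩, hxV, -⟩ :=
      Y.isBasis_affineOpens.exists_subset_of_mem_open (Set.mem_univ (g₁ x)) isOpen_univ
    exact ⟨V, hV, hxV⟩
  obtain ⟨a, ha⟩ := AffNhd.exists_le x (g₁ ⁻¹ᵁ V ⊓ g₂ ⁻¹ᵁ V) ⟨hxV, by
    show g₂ x ∈ V
    rw [← hpt]; exact hxV⟩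
  have e₁ : a.U ≤ g₁ ⁻¹ᵁ V := ha.trans inf_le_left
  have e₂ : a.U ≤ g₂ ⁻¹ᵁ V := ha.trans inf_le_right
  have hcov : ∀ y : X, y ∈ Set.range U.ι ∨ y ∈ Set.range a.U.ι := by
    intro y
    by_cases hy : y = x
    · right; rw [Scheme.Opens.range_ι]; rw [hy]; exact a.mem
    · left; rw [Scheme.Opens.range_ι]; exact hxU y hy
  refine hom_ext_two U.ι a.U.ι hcov h₁ ?_
  rw [← Scheme.Hom.resLE_comp_ι g₁ e₁, ← Scheme.Hom.resLE_comp_ι g₂ e₂]
  congr 1
  have : IsAffine V.toScheme := hV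
  apply ext_of_isAffine
  ext s
  refine section_ext_of_compl (Z := a.U.toScheme) ⟨x, a.mem⟩ (a.U.ι ⁻¹ᵁ U) ?_ _ _ ?_ ?_
  · intro w hw
    exact hxU w.1 (fun h => hw (Subtype.ext h))
  · have key : (a.U.ι ⁻¹ᵁ U).ι ≫ g₁.resLE V a.U e₁ = (a.U.ι ⁻¹ᵁ U).ι ≫ g₂.resLE V a.U e₂ := by
      rw [← cancel_mono V.ι, Category.assoc, Category.assoc, Scheme.Hom.resLE_comp_ι,
        Scheme.Hom.resLE_comp_ι, ← morphismRestrict_ι_assoc, ← morphismRestrict_ι_assoc, h₁]
    have := congr($(key).appTop s)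
    simpa only [Scheme.Hom.comp_appTop, CommRingCat.comp_apply] using this
  · have key : a.U.toScheme.fromSpecStalk ⟨x, a.mem⟩ ≫ g₁.resLE V a.U e₁ =
        a.U.toScheme.fromSpecStalk ⟨x, a.mem⟩ ≫ g₂.resLE V a.U e₂ := by
      rw [← cancel_mono V.ι, Category.assoc, Category.assoc, Scheme.Hom.resLE_comp_ι,
        Scheme.Hom.resLE_comp_ι]
      have h3 := Scheme.SpecMap_stalkMap_fromSpecStalk (f := a.U.ι) (x := ⟨x, a.mem⟩)
      rw [← reassoc_of% h3, ← reassoc_of% h3]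
      exact congrArg _ h₂
    have := congr($(key).appTop s)
    simpa only [Scheme.Hom.comp_appTop, CommRingCat.comp_apply] using this


section Glue

variable {X : Scheme.{u}} (x : X) (U : X.Opens)

/-- The preimage of `U` in `Spec Γ(X, W_j)`, written as a preimage of the preimage at stage `i`. -/
noncomputable abbrev Oj (i : (AffNhd x)ᵒᵖ) (j : Over i) : ((specDiagram x).obj j.left).Opens :=
  (specDiagram x).map j.hom ⁻¹ᵁ (toX x i ⁻¹ᵁ U)

lemma Oj_eq (i : (AffNhd x)ᵒᵖ) (j : Over i) : Oj x U i j = toX x j.left ⁻¹ᵁ U := by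
  show (specDiagram x).map j.hom ⁻¹ᵁ (toX x i ⁻¹ᵁ U) = _
  rw [← Scheme.Hom.comp_preimage, map_toX]

lemma range_Oj (i : (AffNhd x)ᵒᵖ) (j : Over i) :
    Set.range ((Oj x U i j).ι ≫ toX x j.left) ⊆ Set.range U.ι := by
  rintro _ ⟨y, rfl⟩
  rw [Scheme.Opens.range_ι]
  have hy : y.1 ∈ toX x j.left ⁻¹ᵁ U := (Oj_eq x U i j) ▸ y.2
  exact hy

/-- The map from the punctured neighbourhood to `U`. -/
noncomputable def liftU (i : (AffNhd x)ᵒᵖ) (j : Over i) :
    (Oj x U i j : Scheme.{u}) ⟶ (U : Scheme.{u}) :=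
  IsOpenImmersion.lift U.ι ((Oj x U i j).ι ≫ toX x j.left) (range_Oj x U i j)

@[reassoc]
lemma liftU_ι (i : (AffNhd x)ᵒᵖ) (j : Over i) :
    liftU x U i j ≫ U.ι = (Oj x U i j).ι ≫ toX x j.left :=
  IsOpenImmersion.lift_fac _ _ _

lemma resLE_liftU (i : (AffNhd x)ᵒᵖ) {j k : Over i} (f : j ⟶ k)
    (e : Oj x U i j ≤ (specDiagram x).map f.left ⁻¹ᵁ Oj x U i k) :
    ((specDiagram x).map f.left).resLE (Oj x U i k) (Oj x U i j) e ≫ liftU x U i k =
      liftU x U i j := by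
  rw [← cancel_mono U.ι, Category.assoc, liftU_ι, liftU_ι, Scheme.Hom.resLE_comp_ι_assoc,
    map_toX]

lemma isPullback_liftU (i : (AffNhd x)ᵒᵖ) (j : Over i) :
    IsPullback (liftU x U i j) (Oj x U i j).ι U.ι (toX x j.left) := by
  refine IsOpenImmersion.isPullback _ _ _ _ (liftU_ι x U i j).symm ?_
  rw [Scheme.Opens.opensRange_ι, Scheme.Opens.opensRange_ι, Oj_eq]

lemma quasiCompact_Oj [QuasiCompact U.ι] (i : (AffNhd x)ᵒᵖ) (j : Over i) :
    QuasiCompact (Oj x U i j).ι := by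
  rw [Oj_eq]
  exact MorphismProperty.of_isPullback (isPullback_morphismRestrict (toX x j.left) U)
    inferInstance

lemma comp_eq_aux {Y : Scheme.{u}} (i : (AffNhd x)ᵒᵖ)
    (π : Spec (X.presheaf.stalk x) ⟶ (specDiagram x).obj i)
    (hπ : π ≫ toX x i = X.fromSpecStalk x)
    (a : (U : Scheme.{u}) ⟶ Y) (b : Spec (X.presheaf.stalk x) ⟶ Y)
    (gi : (specDiagram x).obj i ⟶ Y) (hgi1 : π ≫ gi = b)
    (hab : ((X.fromSpecStalk x) ⁻¹ᵁ U).ι ≫ b = ((X.fromSpecStalk x) ∣_ U) ≫ a)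
    (e : π ⁻¹ᵁ (toX x i ⁻¹ᵁ U) ≤ π ⁻¹ᵁ Oj x U i (Over.mk (𝟙 i))) :
    π.resLE (Oj x U i (Over.mk (𝟙 i))) (π ⁻¹ᵁ (toX x i ⁻¹ᵁ U)) e ≫
      liftU x U i (Over.mk (𝟙 i)) ≫ a =
    π.resLE (Oj x U i (Over.mk (𝟙 i))) (π ⁻¹ᵁ (toX x i ⁻¹ᵁ U)) e ≫
      (Oj x U i (Over.mk (𝟙 i))).ι ≫ gi := by
  have hP : π ⁻¹ᵁ (toX x i ⁻¹ᵁ U) = (X.fromSpecStalk x) ⁻¹ᵁ U := by
    rw [← Scheme.Hom.comp_preimage, hπ]
  rw [Scheme.Hom.resLE_comp_ι_assoc, hgi1]
  have e1 : (π ⁻¹ᵁ (toX x i ⁻¹ᵁ U)).ι =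
      ((Spec (X.presheaf.stalk x)).isoOfEq hP).hom ≫ ((X.fromSpecStalk x) ⁻¹ᵁ U).ι :=
    (Scheme.isoOfEq_hom_ι _ hP).symm
  have e2 : π.resLE (Oj x U i (Over.mk (𝟙 i))) (π ⁻¹ᵁ (toX x i ⁻¹ᵁ U)) e ≫
      liftU x U i (Over.mk (𝟙 i)) =
      ((Spec (X.presheaf.stalk x)).isoOfEq hP).hom ≫ ((X.fromSpecStalk x) ∣_ U) := by
    rw [← cancel_mono U.ι, Category.assoc, liftU_ι, Scheme.Hom.resLE_comp_ι_assoc,
      Category.assoc, morphismRestrict_ι]
    show (π ⁻¹ᵁ (toX x i ⁻¹ᵁ U)).ι ≫ π ≫ toX x i = _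
    rw [hπ, e1, Category.assoc]
  rw [← Category.assoc, e2, e1, Category.assoc, Category.assoc, hab]

lemma last_aux {Y : Scheme.{u}} {i k : (AffNhd x)ᵒᵖ} (f : k ⟶ i)
    (πk : Spec (X.presheaf.stalk x) ⟶ (specDiagram x).obj k)
    (πi : Spec (X.presheaf.stalk x) ⟶ (specDiagram x).obj i)
    (hw : πk ≫ (specDiagram x).map f = πi) (hπ : πk ≫ toX x k = X.fromSpecStalk x)
    (M : X ⟶ Y) (gi : (specDiagram x).obj i ⟶ Y) (b : Spec (X.presheaf.stalk x) ⟶ Y)
    (hgi1 : πi ≫ gi = b) (hM2 : toX x k ≫ M = (specDiagram x).map f ≫ gi) :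
    X.fromSpecStalk x ≫ M = b := by
  rw [← hπ, Category.assoc, hM2, ← Category.assoc, hw, hgi1]

end Glue

set_option maxHeartbeats 1600000 in
/-- Existence part: glueing a morphism on the complement of a closed point with a morphism on the
spectrum of the local ring. -/
theorem exists_glue {X Y S : Scheme.{u}} (p : X ⟶ S) (q : Y ⟶ S) [LocallyOfFinitePresentation q]
    (x : X) (U : X.Opens) (hxU : ∀ w : X, w ≠ x → w ∈ U) [QuasiCompact U.ι]
    (a : (U : Scheme.{u}) ⟶ Y) (b : Spec (X.presheaf.stalk x) ⟶ Y) (ha : a ≫ q = U.ι ≫ p)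
    (hb : b ≫ q = X.fromSpecStalk x ≫ p)
    (hab : ((X.fromSpecStalk x) ⁻¹ᵁ U).ι ≫ b = ((X.fromSpecStalk x) ∣_ U) ≫ a) :
    ∃ g : X ⟶ Y, g ≫ q = p ∧ U.ι ≫ g = a ∧ X.fromSpecStalk x ≫ g = b := by
  have inst : ∀ {i j : (AffNhd x)ᵒᵖ} (f : i ⟶ j), IsAffineHom ((specDiagram x).map f) :=
    fun f => inferInstance
  -- the structure morphisms of the system
  let t : specDiagram x ⟶ (Functor.const _).obj S :=
    { app := fun i => toX x i ≫ p
      naturality := fun i j f => by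
        show (specDiagram x).map f ≫ toX x j ≫ p = (toX x i ≫ p) ≫ 𝟙 S
        rw [Category.comp_id, map_toX_assoc] }
  have hbt : (specCone x).π ≫ t = (Functor.const _).map (b ≫ q) := by
    ext i : 2
    show (specCone x).π.app i ≫ toX x i ≫ p = b ≫ q
    rw [π_toX_assoc]
    exact hb.symm
  obtain ⟨i, gi, hgi1, hgi2⟩ := Scheme.exists_π_app_comp_eq_of_locallyOfFinitePresentation
    (specDiagram x) t q (specCone x) (specIsLimit x) b hbt
  have hgi2' : gi ≫ q = toX x i ≫ p := hgi2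
  -- the punctured neighbourhood
  have hcpt : ∀ j : Over i,
      CompactSpace ((opensDiagram (specDiagram x) i (toX x i ⁻¹ᵁ U)).obj j) := by
    intro j
    have h1 : QuasiCompact (Oj x U i j).ι := quasiCompact_Oj x U i j
    exact @QuasiCompact.compactSpace_of_compactSpace _ _ (Oj x U i j).ι h1 inferInstance
  let t' : opensDiagram (specDiagram x) i (toX x i ⁻¹ᵁ U) ⟶ (Functor.const _).obj S :=
    { app := fun j => (Oj x U i j).ι ≫ toX x j.left ≫ p
      naturality := fun j k f => by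
        show ((specDiagram x).map f.left).resLE (Oj x U i k) (Oj x U i j) _ ≫
          (Oj x U i k).ι ≫ toX x k.left ≫ p = ((Oj x U i j).ι ≫ toX x j.left ≫ p) ≫ 𝟙 S
        rw [Category.comp_id, Scheme.Hom.resLE_comp_ι_assoc, map_toX_assoc] }
  let i' : Over i := Over.mk (𝟙 i)
  have hα : (Oj x U i i').ι ≫ toX x i ≫ p = (liftU x U i i' ≫ a) ≫ q := by
    rw [Category.assoc, ha, liftU_ι_assoc]
    rfl
  have hβ : (Oj x U i i').ι ≫ toX x i ≫ p = ((Oj x U i i').ι ≫ gi) ≫ q := by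
    rw [Category.assoc, hgi2']
  have hαβ : ∀ e, ((specCone x).π.app i).resLE (Oj x U i i')
      ((specCone x).π.app i ⁻¹ᵁ (toX x i ⁻¹ᵁ U)) e ≫ liftU x U i i' ≫ a =
      ((specCone x).π.app i).resLE (Oj x U i i')
        ((specCone x).π.app i ⁻¹ᵁ (toX x i ⁻¹ᵁ U)) e ≫ (Oj x U i i').ι ≫ gi := fun e =>
    comp_eq_aux x U i ((specCone x).π.app i) (π_toX x i) a b gi hgi1 hab e
  obtain ⟨k, hik, hk⟩ := Scheme.exists_hom_comp_eq_comp_of_locallyOfFiniteType
    (opensDiagram (specDiagram x) i (toX x i ⁻¹ᵁ U)) t' q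
    (opensCone (specDiagram x) (specCone x) i (toX x i ⁻¹ᵁ U))
    (isLimitOpensCone (specDiagram x) (specCone x) (specIsLimit x) i (toX x i ⁻¹ᵁ U))
    (i := i') (liftU x U i i' ≫ a) ((Oj x U i i').ι ≫ gi) hα hβ (hαβ _)
  have hk' : ∀ e, ((specDiagram x).map hik.left).resLE (Oj x U i i') (Oj x U i k) e ≫
      liftU x U i i' ≫ a = ((specDiagram x).map hik.left).resLE (Oj x U i i') (Oj x U i k) e ≫
      (Oj x U i i').ι ≫ gi := fun e => hk
  -- glueing
  have hcov : ∀ y : X, y ∈ Set.range U.ι ∨ y ∈ Set.range (toX x k.left) := by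
    intro y
    by_cases hy : y = x
    · right; rw [range_toX, hy]; exact k.left.unop.mem
    · left; rw [Scheme.Opens.range_ι]; exact hxU y hy
  have hleft : (specDiagram x).map hik.left ≫ toX x i = toX x k.left := map_toX x hik.left
  have he : Oj x U i k ≤ (specDiagram x).map hik.left ⁻¹ᵁ Oj x U i i' := by
    rw [Oj_eq, Oj_eq, ← Scheme.Hom.comp_preimage]
    exact le_of_eq (congrArg (fun φ => φ ⁻¹ᵁ U) hleft.symm)
  have hm : liftU x U i k ≫ a = (Oj x U i k).ι ≫ (specDiagram x).map hik.left ≫ gi := by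
    have h3 := hk' he
    rw [← Category.assoc, resLE_liftU x U i hik he, Scheme.Hom.resLE_comp_ι_assoc] at h3
    exact h3
  obtain ⟨M, hM1, hM2⟩ := exists_glue_hom_two U.ι (toX x k.left) hcov (liftU x U i k)
    (Oj x U i k).ι (isPullback_liftU x U i k) a ((specDiagram x).map hik.left ≫ gi) hm
  refine ⟨M, ?_, hM1, ?_⟩
  · refine hom_ext_two U.ι (toX x k.left) hcov ?_ ?_
    · rw [reassoc_of% hM1, ha]
    · rw [reassoc_of% hM2, hgi2', reassoc_of% hleft]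
  · exact last_aux x hik.left ((specCone x).π.app k.left) ((specCone x).π.app i)
      ((specCone x).w hik.left) (π_toX x k.left) M gi b hgi1 hM2

/-- Let S be a scheme, X and Y schemes over S with Y locally of finite presentation over S, and x a
closed point of X such that the inclusion of U = X - {x} in X is quasi-compact; let V be the
complement of the closed point in Spec O_{X,x}, i.e. the preimage of U under the canonical morphism
Spec O_{X,x} → X. Then restriction is a bijection from the S-morphisms X → Y to the pairs (a, b) of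
S-morphisms a : U → Y, b : Spec O_{X,x} → Y which agree on V: two morphisms X → Y with the same
restrictions to U and to Spec O_{X,x} are equal, and every such compatible pair of S-morphisms is
the pair of restrictions of an S-morphism X → Y. -/
theorem result {X Y S : Scheme.{u}} (p : X ⟶ S) (q : Y ⟶ S) [LocallyOfFinitePresentation q]
    (x : X) (U : X.Opens) (hU : (U : Set X) = {x}ᶜ) [QuasiCompact U.ι] :
    (∀ g₁ g₂ : X ⟶ Y, U.ι ≫ g₁ = U.ι ≫ g₂ → X.fromSpecStalk x ≫ g₁ = X.fromSpecStalk x ≫ g₂ → g₁ = g₂) ∧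
    (∀ (a : (U : Scheme.{u}) ⟶ Y) (b : Spec (X.presheaf.stalk x) ⟶ Y), a ≫ q = U.ι ≫ p →
      b ≫ q = X.fromSpecStalk x ≫ p → ((X.fromSpecStalk x) ⁻¹ᵁ U).ι ≫ b = ((X.fromSpecStalk x) ∣_ U) ≫ a →
        ∃ g : X ⟶ Y, g ≫ q = p ∧ U.ι ≫ g = a ∧ X.fromSpecStalk x ≫ g = b) := by
  have hxU : ∀ w : X, w ≠ x → w ∈ U := by
    intro w hw
    show w ∈ (U : Set X)
    rw [hU]
    exact hw
  exact ⟨fun g₁ g₂ h₁ h₂ => hom_ext_of_compl x U hxU g₁ g₂ h₁ h₂,
    fun a b ha hb hab => exists_glue p q x U hxU a b ha hb hab⟩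

end Groth.Agent.S9217
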