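import Groth.Statements.S9220
-- import your own Groth.Agent.* helpers here
import Mathlib
import Groth.Agent.Lib.Helper26LimFP6
import Groth.Agent.S9189

set_option autoImplicit false
universe u
open CategoryTheory AlgebraicGeometry
open Lim

namespace Groth.Agent.S9220

open Limits Groth.Agent.Lib.Helper26.LimFP Groth.Agent.Lib.Helper2.LimLoc

/-- For an affine morphism, being locally of finite presentation can be checked on
`Γ(Y, U) ⟶ Γ(X, f⁻¹U)` for all affine opens `U`. -/
theorem lfp_iff_of_isAffineHom {X Y : Scheme.{u}} (f : X ⟶ Y) [IsAffineHom f] :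
    LocallyOfFinitePresentation f ↔
      ∀ U : Y.Opens, IsAffineOpen U → (f.app U).hom.FinitePresentation := by
  have h1 := targetAffineLocally_affineAnd_iff_affineLocally
    RingHom.finitePresentation_isLocal f
  have h2 := targetAffineLocally_affineAnd_iff' (Q := @RingHom.FinitePresentation)
    RingHom.finitePresentation_isLocal.respectsIso f
  have h3 : LocallyOfFinitePresentation f ↔ affineLocally @RingHom.FinitePresentation f := by
    rw [HasRingHomProperty.eq_affineLocally @LocallyOfFinitePresentation]
  rw [h3]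
  constructor
  · intro h
    exact (h2.mp (h1.mpr ⟨inferInstance, h⟩)).2
  · intro h
    exact (h1.mp (h2.mpr ⟨inferInstance, h⟩)).2

theorem qcqsDescent_isClosedImmersion : QcqsDescent @IsClosedImmersion := by
  intro I _ _ D c hc _ i₀ _ _ X₀ Y₀ f₀ g₀ _ _ _ _ _ X Y f g qY qX hY hX hf
  have : IsClosedImmersion f := hf
  exact Groth.Agent.S9189.result D c hc i₀ f₀ g₀ f g qY qX hY hX

/-- Let S = lim S_i be a cofiltered limit of quasi-compact quasi-separated schemes with affine
transition morphisms, and let I be a quasi-coherent sheaf of ideals of finite type on S (its ideal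
of sections on every affine open is finitely generated). Then for some index i there is a
quasi-coherent sheaf of ideals of finite type I_i on S_i such that I = I_i · O_S, the pullback ideal
sheaf along S → S_i. -/
theorem result {I : Type u} [SmallCategory I] [IsCofiltered I]
    (D : I ⥤ Scheme.{u}) (c : Limits.Cone D) (hc : Limits.IsLimit c)
    [∀ (i j : I) (f : i ⟶ j), IsAffineHom (D.map f)] [∀ i, CompactSpace (D.obj i)]
    [∀ i, QuasiSeparatedSpace (D.obj i)] (J : c.pt.IdealSheafData)
    (hJ : ∀ U : c.pt.affineOpens, (J.ideal U).FG) :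
    ∃ (i : I) (Ji : (D.obj i).IdealSheafData), (∀ U : (D.obj i).affineOpens, (Ji.ideal U).FG) ∧
      Ji.comap (c.π.app i) = J := by
  have hlfp : LocallyOfFinitePresentation J.subschemeι := by
    rw [lfp_iff_of_isAffineHom]
    intro U hU
    apply RingHom.FinitePresentation.of_surjective _ (J.subschemeι_app_surjective ⟨U, hU⟩)
    rw [J.ker_subschemeι_app ⟨U, hU⟩]
    exact hJ ⟨U, hU⟩
  obtain ⟨i, Zi, fi, g, h1, h2, h3, h4, pb⟩ :=
    exists_model_of_qcqsDescent qcqsDescent_isClosedImmersion hc J.subschemeι
      (inferInstance : IsClosedImmersion J.subschemeι)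
  have : IsClosedImmersion fi := h4
  refine ⟨i, fi.ker, ?_, ?_⟩
  · intro U
    rw [Scheme.Hom.ker_apply]
    have hfp := (lfp_iff_of_isAffineHom fi).mp h1 U.1 U.2
    have hs := fi.app_surjective U.1 U.2
    algebraize [(fi.app U.1).hom]
    have : Algebra.FinitePresentation Γ(D.obj i, U.1) Γ(Zi, fi ⁻¹ᵁ U.1) := hfp
    exact Algebra.FinitePresentation.ker_fG_of_surjective
      (Algebra.ofId Γ(D.obj i, U.1) Γ(Zi, fi ⁻¹ᵁ U.1)) hs
  · rw [← Scheme.IdealSheafData.ker_fst_of_isClosedImmersion fi (c.π.app i)]
    have e := pb.flip.isoPullback_hom_fst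
    rw [← Scheme.Hom.ker_comp_of_isIso pb.flip.isoPullback.hom, e,
      Scheme.IdealSheafData.ker_subschemeι]

end Groth.Agent.S9220
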