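import Groth.Statements.S9224
import Mathlib
import Groth.Agent.Lib.Helper22AF

set_option autoImplicit false
universe u
open CategoryTheory CategoryTheory.Limits AlgebraicGeometry
open Lim

namespace Groth.Agent.S9224

open Groth.Agent.Lib.Helper22 Limits TensorProduct

/-- Let f : X → S be a quasi-compact morphism, g : T → S a morphism, t a point of T and Z a closed
subset of X_T = X ×_S T which does not meet the fibre of X_T → T over t. Then there exist an affine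
open neighbourhood V of t in T, an affine scheme T' with a morphism b : T' → S locally of finite
presentation, a morphism a : V → T' whose composite with b is the restriction of g, and a closed
subset Z' of X_{T'} = X ×_S T' which does not meet the fibre over t' = a(t), such that the induced
morphism X_V → X_{T'} maps every point of X_V lying over Z (under X_V → X_T) into Z'. The morphisms
X_V → X_T and X_V → X_{T'} are the canonical ones, characterised by their projections. -/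
theorem result {X S T : Scheme.{u}} (f : X ⟶ S) [QuasiCompact f] (g : T ⟶ S) (t : T)
    (Z : Set ↥(pullback f g)) (hZ : IsClosed Z) (hZt : ∀ z ∈ Z, (pullback.snd f g).base z ≠ t) :
    ∃ (V : T.Opens) (ht : t ∈ V) (T' : Scheme.{u}) (b : T' ⟶ S) (a : (V : Scheme.{u}) ⟶ T')
      (n : pullback f (V.ι ≫ g) ⟶ pullback f g) (m : pullback f (V.ι ≫ g) ⟶ pullback f b)
      (Z' : Set ↥(pullback f b)),
      IsAffineOpen V ∧ IsAffine T' ∧ LocallyOfFinitePresentation b ∧ a ≫ b = V.ι ≫ g ∧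
      n ≫ pullback.fst f g = pullback.fst f (V.ι ≫ g) ∧ n ≫ pullback.snd f g = pullback.snd f (V.ι ≫ g) ≫ V.ι ∧
      m ≫ pullback.fst f b = pullback.fst f (V.ι ≫ g) ∧ m ≫ pullback.snd f b = pullback.snd f (V.ι ≫ g) ≫ a ∧
      IsClosed Z' ∧ (∀ z' ∈ Z', (pullback.snd f b).base z' ≠ a.base ⟨t, ht⟩) ∧
      ∀ z : ↥(pullback f (V.ι ≫ g)), n.base z ∈ Z → m.base z ∈ Z' := by
  -- affine opens
  obtain ⟨S₀, hS₀, hgt, -⟩ := exists_isAffineOpen_mem_and_subset
    (X := S) (x := g t) (U := ⊤) trivial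
  have htg : t ∈ g ⁻¹ᵁ S₀ := hgt
  obtain ⟨V, hV, ht, hVS⟩ := exists_isAffineOpen_mem_and_subset htg
  have hcpt : IsCompact (f ⁻¹ᵁ S₀ : Set X) := f.isCompact_preimage hS₀.isCompact
  obtain ⟨K, hKfin, hK⟩ := isCompact_iff_finite_and_eq_biUnion_affineOpens.mp hcpt
  have hKle : ∀ k : K, k.1.1 ≤ f ⁻¹ᵁ S₀ := by
    intro k
    rw [hK]
    exact le_iSup₂ (f := fun (i : X.affineOpens) (_ : i ∈ K) => (i : X.Opens)) k.1 k.2
  have hKfin' : Finite K := hKfin.to_subtype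
  -- algebra structures
  letI algA : Algebra Γ(S, S₀) Γ(T, V) := (g.appLE S₀ V hVS).hom.toAlgebra
  letI algB : ∀ k : K, Algebra Γ(S, S₀) Γ(X, k.1.1) :=
    fun k => (f.appLE S₀ k.1.1 (hKle k)).hom.toAlgebra
  have hB : ∀ k : K, Spec.map (CommRingCat.ofHom (algebraMap Γ(S, S₀) Γ(X, k.1.1))) ≫
      hS₀.fromSpec = k.1.2.fromSpec ≫ f :=
    fun k => IsAffineOpen.SpecMap_appLE_fromSpec f hS₀ k.1.2 (hKle k)
  have hy : V.ι ≫ g = hV.isoSpec.hom ≫
      Spec.map (CommRingCat.ofHom (algebraMap Γ(S, S₀) Γ(T, V))) ≫ hS₀.fromSpec := by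
    have := IsAffineOpen.SpecMap_appLE_fromSpec g hS₀ hV hVS
    change V.ι ≫ g = hV.isoSpec.hom ≫ Spec.map (g.appLE S₀ V hVS) ≫ hS₀.fromSpec
    rw [this, ← Category.assoc, IsAffineOpen.isoSpec_hom_fromSpec]
  -- the point
  let tV : ↥(V : Scheme.{u}) := ⟨t, ht⟩
  let p : Ideal Γ(T, V) := (hV.isoSpec.hom tV : PrimeSpectrum Γ(T, V)).asIdeal
  have hp : p.IsPrime := (hV.isoSpec.hom tV : PrimeSpectrum Γ(T, V)).isPrime
  have e4 : hV.isoSpec.inv (hV.isoSpec.hom tV) = tV := by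
    refine (Scheme.Hom.comp_apply hV.isoSpec.hom hV.isoSpec.inv tV).symm.trans ?_
    rw [Iso.hom_inv_id]
    rfl
  -- the morphism n
  let n : pullback f (V.ι ≫ g) ⟶ pullback f g :=
    pullback.lift (pullback.fst f (V.ι ≫ g)) (pullback.snd f (V.ι ≫ g) ≫ V.ι)
      (by rw [Category.assoc, pullback.condition])
  have hn1 : n ≫ pullback.fst f g = pullback.fst f (V.ι ≫ g) := pullback.lift_fst _ _ _
  have hn2 : n ≫ pullback.snd f g = pullback.snd f (V.ι ≫ g) ≫ V.ι := pullback.lift_snd _ _ _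
  -- charts on X_V
  let ι : ∀ k : K, Spec (CommRingCat.of (Γ(X, k.1.1) ⊗[Γ(S, S₀)] Γ(T, V))) ⟶
      pullback f (V.ι ≫ g) :=
    fun k => AF.glue (R := Γ(S, S₀)) (B := Γ(X, k.1.1)) (A := Γ(T, V)) f (V.ι ≫ g)
      k.1.2.fromSpec hS₀.fromSpec hV.isoSpec (hB k) hy
  -- the ideals
  let Zk : ∀ k : K, Set (PrimeSpectrum (Γ(X, k.1.1) ⊗[Γ(S, S₀)] Γ(T, V))) :=
    fun k => (ι k ≫ n) ⁻¹' Z
  have hZk : ∀ k, IsClosed (Zk k) := fun k => hZ.preimage (ι k ≫ n).continuous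
  let J : ∀ k : K, Ideal (Γ(X, k.1.1) ⊗[Γ(S, S₀)] Γ(T, V)) :=
    fun k => PrimeSpectrum.vanishingIdeal (Zk k)
  have hJZ : ∀ k, PrimeSpectrum.zeroLocus (J k : Set _) = Zk k := by
    intro k
    rw [PrimeSpectrum.zeroLocus_vanishingIdeal_eq_closure, (hZk k).closure_eq]
  have hJ : ∀ (k : K) (q : Ideal (Γ(X, k.1.1) ⊗[Γ(S, S₀)] Γ(T, V))), q.IsPrime → J k ≤ q →
      q.comap (AF.inr (R := Γ(S, S₀)) (A := Γ(T, V)) (B := Γ(X, k.1.1))) ≠ p := by
    intro k q hq hJq hqp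
    let x : ↥(Spec (CommRingCat.of (Γ(X, k.1.1) ⊗[Γ(S, S₀)] Γ(T, V)))) := ⟨q, hq⟩
    have h1 : x ∈ Zk k := by
      rw [← hJZ k]
      exact hJq
    have h2 := hZt _ h1
    apply h2
    have e1 : (ι k ≫ n) ≫ pullback.snd f g =
        (AF.tsnd (R := Γ(S, S₀)) (A := Γ(T, V)) (B := Γ(X, k.1.1)) ≫ hV.isoSpec.inv) ≫ V.ι := by
      rw [Category.assoc, hn2, ← Category.assoc, AF.glue_snd]
    have e2 : (AF.tsnd (R := Γ(S, S₀)) (A := Γ(T, V)) (B := Γ(X, k.1.1))) x =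
        hV.isoSpec.hom tV := by
      apply PrimeSpectrum.ext
      exact hqp
    have e3 : (pullback.snd f g) ((ι k ≫ n) x) = ((ι k ≫ n) ≫ pullback.snd f g) x :=
      (Scheme.Hom.comp_apply _ _ _).symm
    refine e3.trans ?_
    rw [e1, Scheme.Hom.comp_apply, Scheme.Hom.comp_apply, e2, e4]
    rfl
  have hex : ∀ k : K, ∃ (c : Γ(T, V)) (s : Finset (Γ(X, k.1.1) × Γ(T, V))), c ∉ p ∧
      (∀ i ∈ s, i.2 ∈ p) ∧
      ((1 : Γ(X, k.1.1)) ⊗ₜ[Γ(S, S₀)] c - ∑ i ∈ s, i.1 ⊗ₜ[Γ(S, S₀)] i.2) ∈ J k := by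
    intro k
    obtain ⟨c, hc, hmem⟩ := AF.exists_tmul_mem_sup p (J k) (hJ k)
    obtain ⟨j, hj, e, he, hje⟩ := Submodule.mem_sup.mp hmem
    obtain ⟨s, hs, rfl⟩ := AF.exists_finset_of_mem_map p e he
    refine ⟨c, s, hc, hs, ?_⟩
    rw [← hje, add_sub_cancel_right]
    exact hj
  choose c s hc hs hcs using hex
  -- the polynomial ring
  let σ : Type u := Σ k : K, Option ↥(s k)
  let v : σ → Γ(T, V) := fun x => Option.elim x.2 (c x.1) (fun i => i.1.2)
  let o : K → σ := fun k => ⟨k, none⟩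
  let w : ∀ k : K, ↥(s k) → σ := fun k i => ⟨k, some i⟩
  have hvo : ∀ k, v (o k) = c k := fun k => rfl
  have hvw : ∀ k (i : ↥(s k)), v (w k i) = i.1.2 := fun k i => rfl
  let aev : MvPolynomial σ Γ(S, S₀) →ₐ[Γ(S, S₀)] Γ(T, V) := MvPolynomial.aeval v
  let j' : ∀ k : K, Γ(X, k.1.1) ⊗[Γ(S, S₀)] MvPolynomial σ Γ(S, S₀) :=
    fun k => AF.liftElt (R := Γ(S, S₀)) (o k) (s k) (w k)
  let T' : Scheme.{u} := Spec (CommRingCat.of (MvPolynomial σ Γ(S, S₀)))
  let b : T' ⟶ S :=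
    Spec.map (CommRingCat.ofHom (algebraMap Γ(S, S₀) (MvPolynomial σ Γ(S, S₀)))) ≫ hS₀.fromSpec
  let a : (V : Scheme.{u}) ⟶ T' := hV.isoSpec.hom ≫ Spec.map (CommRingCat.ofHom aev.toRingHom)
  have hab : a ≫ b = V.ι ≫ g := by
    rw [hy]
    change (hV.isoSpec.hom ≫ Spec.map (CommRingCat.ofHom aev.toRingHom)) ≫
      Spec.map (CommRingCat.ofHom (algebraMap Γ(S, S₀) (MvPolynomial σ Γ(S, S₀)))) ≫
        hS₀.fromSpec = _
    rw [Category.assoc, ← Spec.map_comp_assoc, ← CommRingCat.ofHom_comp]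
    congr 3
    exact congrArg CommRingCat.ofHom aev.comp_algebraMap
  have hblfp : LocallyOfFinitePresentation b := by
    have hfin : Finite σ := inferInstance
    have h1 : LocallyOfFinitePresentation
        (Spec.map (CommRingCat.ofHom (algebraMap Γ(S, S₀) (MvPolynomial σ Γ(S, S₀))))) := by
      rw [HasRingHomProperty.Spec_iff (P := @LocallyOfFinitePresentation)]
      exact RingHom.finitePresentation_algebraMap.mpr inferInstance
    exact inferInstanceAs (LocallyOfFinitePresentation (_ ≫ _))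
  let m : pullback f (V.ι ≫ g) ⟶ pullback f b :=
    pullback.lift (pullback.fst f (V.ι ≫ g)) (pullback.snd f (V.ι ≫ g) ≫ a)
      (by rw [Category.assoc, hab, pullback.condition])
  have hm1 : m ≫ pullback.fst f b = pullback.fst f (V.ι ≫ g) := pullback.lift_fst _ _ _
  have hm2 : m ≫ pullback.snd f b = pullback.snd f (V.ι ≫ g) ≫ a := pullback.lift_snd _ _ _
  have hy' : b = (Iso.refl T').hom ≫
      Spec.map (CommRingCat.ofHom (algebraMap Γ(S, S₀) (MvPolynomial σ Γ(S, S₀)))) ≫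
        hS₀.fromSpec := (Category.id_comp _).symm
  let ι' : ∀ k : K, Spec (CommRingCat.of (Γ(X, k.1.1) ⊗[Γ(S, S₀)] MvPolynomial σ Γ(S, S₀))) ⟶
      pullback f b :=
    fun k => AF.glue (R := Γ(S, S₀)) (B := Γ(X, k.1.1)) (A := MvPolynomial σ Γ(S, S₀)) f b
      k.1.2.fromSpec hS₀.fromSpec (Iso.refl T') (hB k) hy'
  have hι'o : ∀ k, IsOpenImmersion (ι' k) := fun k => by
    have h0 : IsOpenImmersion k.1.2.fromSpec := k.1.2.isOpenImmersion_fromSpec
    exact AF.isOpenImmersion_glue (R := Γ(S, S₀)) (B := Γ(X, k.1.1))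
      (A := MvPolynomial σ Γ(S, S₀)) f b k.1.2.fromSpec hS₀.fromSpec (Iso.refl T') (hB k) hy'
  have hι'r : ∀ k, Set.range (ι' k) = (pullback.fst f b) ⁻¹' (k.1.1 : Set X) := by
    intro k
    have := AF.range_glue (R := Γ(S, S₀)) (B := Γ(X, k.1.1)) (A := MvPolynomial σ Γ(S, S₀)) f b
      k.1.2.fromSpec hS₀.fromSpec (Iso.refl T') (hB k) hy'
    exact this.trans (congrArg _ k.1.2.range_fromSpec)
  have hιr : ∀ k, Set.range (ι k) = (pullback.fst f (V.ι ≫ g)) ⁻¹' (k.1.1 : Set X) := by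
    intro k
    have := AF.range_glue (R := Γ(S, S₀)) (B := Γ(X, k.1.1)) (A := Γ(T, V)) f (V.ι ≫ g)
      k.1.2.fromSpec hS₀.fromSpec hV.isoSpec (hB k) hy
    exact this.trans (congrArg _ k.1.2.range_fromSpec)
  let Dk : ∀ k : K,
      Set ↥(Spec (CommRingCat.of (Γ(X, k.1.1) ⊗[Γ(S, S₀)] MvPolynomial σ Γ(S, S₀)))) :=
    fun k => {q | j' k ∉ q.asIdeal}
  have hDk : ∀ k, IsOpen (Dk k) := fun k => (PrimeSpectrum.basicOpen (j' k)).isOpen
  let D : ∀ k : K, Set ↥(pullback f b) := fun k => (ι' k) '' (Dk k)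
  have hD : ∀ k, IsOpen (D k) := fun k =>
    (ι' k).isOpenEmbedding.isOpenMap _ (hDk k)
  let Z' : Set ↥(pullback f b) := (⋃ k, D k)ᶜ
  have hZ' : IsClosed Z' := (isOpen_iUnion hD).isClosed_compl
  refine ⟨V, ht, T', b, a, n, m, Z', hV, inferInstance, hblfp, hab, hn1, hn2, hm1, hm2, hZ',
    ?_, ?_⟩
  · intro z' hz' heq
    apply hz'
    -- `fst z'` lies in `f⁻¹ S₀`
    have h1 : f ((pullback.fst f b) z') ∈ S₀ := by
      have e1 : f ((pullback.fst f b) z') = (pullback.fst f b ≫ f) z' :=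
        (Scheme.Hom.comp_apply _ _ _).symm
      rw [e1, pullback.condition]
      change ((pullback.snd f b ≫ Spec.map (CommRingCat.ofHom
        (algebraMap Γ(S, S₀) (MvPolynomial σ Γ(S, S₀))))) ≫ hS₀.fromSpec) z' ∈ S₀
      rw [Scheme.Hom.comp_apply]
      have : hS₀.fromSpec ((pullback.snd f b ≫ Spec.map (CommRingCat.ofHom
          (algebraMap Γ(S, S₀) (MvPolynomial σ Γ(S, S₀))))) z') ∈ Set.range hS₀.fromSpec :=
        ⟨_, rfl⟩
      rw [hS₀.range_fromSpec] at this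
      exact this
    have h2 : (pullback.fst f b) z' ∈ f ⁻¹ᵁ S₀ := h1
    rw [hK] at h2
    simp only [TopologicalSpace.Opens.mem_iSup] at h2
    obtain ⟨k0, hk0, hk0z⟩ := h2
    let k : K := ⟨k0, hk0⟩
    have h3 : z' ∈ Set.range (ι' k) := by
      rw [hι'r k]
      exact hk0z
    obtain ⟨q', rfl⟩ := h3
    refine Set.mem_iUnion.mpr ⟨k, q', ?_, rfl⟩
    -- `q'` lies over `p'`
    have e2 : (AF.tsnd (R := Γ(S, S₀)) (A := MvPolynomial σ Γ(S, S₀)) (B := Γ(X, k.1.1))) q' =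
        (Spec.map (CommRingCat.ofHom aev.toRingHom)) (hV.isoSpec.hom tV) := by
      have e3 : ι' k ≫ pullback.snd f b =
          AF.tsnd (R := Γ(S, S₀)) (A := MvPolynomial σ Γ(S, S₀)) (B := Γ(X, k.1.1)) := by
        have := AF.glue_snd (R := Γ(S, S₀)) (B := Γ(X, k.1.1)) (A := MvPolynomial σ Γ(S, S₀))
          f b k.1.2.fromSpec hS₀.fromSpec (Iso.refl T') (hB k) hy'
        rw [Iso.refl_inv, Category.comp_id] at this
        exact this
      rw [← e3, Scheme.Hom.comp_apply]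
      refine heq.trans ?_
      exact Scheme.Hom.comp_apply _ _ _
    have e4 : q'.asIdeal.comap (AF.inr (R := Γ(S, S₀)) (A := MvPolynomial σ Γ(S, S₀))
        (B := Γ(X, k.1.1))) = p.comap aev.toRingHom := congrArg PrimeSpectrum.asIdeal e2
    have hq'p : q'.asIdeal.IsPrime := q'.isPrime
    exact AF.liftElt_not_mem (R := Γ(S, S₀)) v p (o k) (s k) (w k) (hc k)
      (fun i => hs k i.1 i.2) q'.asIdeal e4
  · intro z hz hmem
    obtain ⟨k, hk⟩ := Set.mem_iUnion.mp hmem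
    obtain ⟨q', hq', hq'z⟩ := hk
    -- `z` lies in the chart `k`
    have h1 : (pullback.fst f (V.ι ≫ g)) z ∈ (k.1.1 : Set X) := by
      have e1 : (pullback.fst f (V.ι ≫ g)) z = (m ≫ pullback.fst f b) z := by rw [hm1]
      rw [e1, Scheme.Hom.comp_apply, ← hq'z]
      have h2 : (ι' k) q' ∈ Set.range (ι' k) := ⟨q', rfl⟩
      rw [hι'r k] at h2
      exact h2
    have h3 : z ∈ Set.range (ι k) := by
      rw [hιr k]
      exact h1
    obtain ⟨q, rfl⟩ := h3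
    -- the comparison of charts
    let μ : Spec (CommRingCat.of (Γ(X, k.1.1) ⊗[Γ(S, S₀)] Γ(T, V))) ⟶
        Spec (CommRingCat.of (Γ(X, k.1.1) ⊗[Γ(S, S₀)] MvPolynomial σ Γ(S, S₀))) :=
      AF.tmap (R := Γ(S, S₀)) (B := Γ(X, k.1.1)) aev
    have hμ : ι k ≫ m = μ ≫ ι' k := by
      refine AF.glue_comp_lift (R := Γ(S, S₀)) (B := Γ(X, k.1.1)) (A := Γ(T, V))
        (A' := MvPolynomial σ Γ(S, S₀)) f (V.ι ≫ g) k.1.2.fromSpec hS₀.fromSpec hV.isoSpec (hB k) hy
        b (Iso.refl T') hy' aev a ?_ hab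
      change hV.isoSpec.inv ≫ hV.isoSpec.hom ≫ Spec.map (CommRingCat.ofHom aev.toRingHom) =
        Spec.map (CommRingCat.ofHom aev.toRingHom) ≫ 𝟙 _
      rw [Iso.inv_hom_id_assoc, Category.comp_id]
    have h4 : μ q = q' := by
      apply (ι' k).isOpenEmbedding.injective
      rw [hq'z, ← Scheme.Hom.comp_apply, ← hμ, Scheme.Hom.comp_apply]
    -- `q` lies in `Z_k`
    have h5 : q ∈ Zk k := by
      change (ι k ≫ n) q ∈ Z
      rw [Scheme.Hom.comp_apply]
      exact hz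
    rw [← hJZ k] at h5
    have h6 : J k ≤ q.asIdeal := h5
    have h7 := h6 (hcs k)
    apply hq'
    rw [← h4]
    change Algebra.TensorProduct.map (AlgHom.id Γ(S, S₀) Γ(X, k.1.1)) aev (j' k) ∈ q.asIdeal
    rw [AF.map_liftElt (R := Γ(S, S₀)) v (o k) (s k) (w k) (hvw k)]
    exact h7

end Groth.Agent.S9224
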