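import Groth.Statements.S9226
import Mathlib
import Groth.Agent.Lib.Helper5RLR2

set_option autoImplicit false
universe u
open CAlg

namespace Groth.Agent.S9226

open Groth.Agent.Lib.Helper5

/-- Let R be a regular local ring, m ≥ 1, f_1, ..., f_m elements of the maximal ideal, and D_1, ..., D_m
derivations of R such that the determinant of the matrix (D_i(f_j)) is a unit of R. Then R/(f_1,
..., f_m) is a regular local ring and f_1, ..., f_m is a regular sequence on R. -/
theorem result (R : Type u) [CommRing R]
    [IsRegularLocalRing R] (m : ℕ) (hm : 1 ≤ m) (f : Fin m → R)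
    (hf : ∀ i, f i ∈ IsLocalRing.maximalIdeal R) (D : Fin m → Derivation ℤ R R)
    (hdet : IsUnit (Matrix.det (Matrix.of (fun i j : Fin m => D i (f j))))) :
    IsRegularLocalRing (R ⧸ Ideal.span (Set.range f)) ∧
      RingTheory.Sequence.IsRegular R (List.ofFn f) := by
  classical
  have hIsNoeth : IsNoetherianRing R := inferInstance
  -- derivations map `m²` into `m`
  have hDsq : ∀ (i : Fin m) (y : R), y ∈ IsLocalRing.maximalIdeal R ^ 2 →
      D i y ∈ IsLocalRing.maximalIdeal R := by
    intro i y hy
    rw [pow_two] at hy
    refine Submodule.mul_induction_on hy ?_ ?_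
    · intro a ha b hb
      rw [Derivation.leibniz, smul_eq_mul, smul_eq_mul]
      exact Ideal.add_mem _ (Ideal.mul_mem_right _ _ ha) (Ideal.mul_mem_right _ _ hb)
    · intro a b ha hb
      rw [map_add]
      exact Ideal.add_mem _ ha hb
  let x : Fin m → IsLocalRing.maximalIdeal R := fun i => ⟨f i, hf i⟩
  have hli : LinearIndependent (IsLocalRing.ResidueField R)
      (fun i => (IsLocalRing.maximalIdeal R).toCotangent (x i)) := by
    rw [Fintype.linearIndependent_iff]
    intro g hg
    have hsurj := IsLocalRing.residue_surjective (R := R)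
    obtain ⟨a, ha⟩ : ∃ a : Fin m → R, ∀ j, IsLocalRing.residue R (a j) = g j :=
      ⟨fun j => Function.surjInv hsurj (g j), fun j => Function.surjInv_eq hsurj (g j)⟩
    have h1 : (IsLocalRing.maximalIdeal R).toCotangent (∑ j, a j • x j) = 0 := by
      rw [map_sum, ← hg]
      refine Finset.sum_congr rfl fun j _ => ?_
      rw [map_smul, ← ha j]
      rfl
    rw [Ideal.toCotangent_eq_zero] at h1
    have h2 : ((∑ j, a j • x j : IsLocalRing.maximalIdeal R) : R) = ∑ j, a j * f j := by
      rw [Submodule.coe_sum]
      rfl
    rw [h2] at h1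
    -- apply the derivations
    have h3 : ∀ i, ∑ j, D i (f j) * a j ∈ IsLocalRing.maximalIdeal R := by
      intro i
      have h4 := hDsq i _ h1
      rw [map_sum] at h4
      have h5 : ∑ j, D i (a j * f j) = ∑ j, D i (f j) * a j + ∑ j, f j * D i (a j) := by
        rw [← Finset.sum_add_distrib]
        refine Finset.sum_congr rfl fun j _ => ?_
        rw [Derivation.leibniz, smul_eq_mul, smul_eq_mul]
        ring
      rw [h5] at h4
      have h6 : ∑ j, f j * D i (a j) ∈ IsLocalRing.maximalIdeal R :=
        Ideal.sum_mem _ fun j _ => Ideal.mul_mem_right _ _ (hf j)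
      exact (Ideal.add_mem_iff_left _ h6).mp h4
    -- reduce modulo `m`
    let Mbar : Matrix (Fin m) (Fin m) (IsLocalRing.ResidueField R) :=
      (Matrix.of (fun i j : Fin m => D i (f j))).map (IsLocalRing.residue R)
    have hdetbar : Mbar.det ≠ 0 := by
      have h7 : Mbar.det = IsLocalRing.residue R (Matrix.det (Matrix.of (fun i j : Fin m => D i (f j)))) :=
        (RingHom.map_det (IsLocalRing.residue R) _).symm
      rw [h7]
      exact (hdet.map (IsLocalRing.residue R)).ne_zero
    have hmul : Mbar.mulVec g = 0 := by
      funext i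
      have h8 := (IsLocalRing.residue_eq_zero_iff _).mpr (h3 i)
      rw [map_sum] at h8
      rw [Pi.zero_apply, ← h8]
      simp only [Matrix.mulVec, dotProduct, Mbar, Matrix.map_apply, Matrix.of_apply, map_mul, ha]
    have hg0 := Matrix.eq_zero_of_mulVec_eq_zero hdetbar hmul
    intro j
    rw [hg0]
    rfl
  have hloc : IsLocalRing (R ⧸ Ideal.span (Set.range f)) := isLocalRing_quotient_span_range x
  exact ⟨(isRegularLocalRing_quotient_of_linearIndependent' x hli (Ideal.span (Set.range f)) rfl).1,
    isRegular_ofFn_of_linearIndependent x hli⟩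

end Groth.Agent.S9226
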