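import Groth.Statements.S9230
import Mathlib
import Groth.Agent.Lib.Helper28HzFF
import Groth.Agent.Lib.Helper28HzProp
import Groth.Agent.Lib.Helper28UnivCat
import Groth.Agent.Lib.Helper28FormalEquidimLoc
import Groth.Agent.S4754
import Groth.Agent.S2811
import Groth.Agent.S13598
-- import your own Groth.Agent.* helpers here

set_option autoImplicit false
universe u
open EGA4

namespace Groth.Agent.S9230

open TensorProduct IsLocalRing Groth.Agent.Lib.Helper28 Groth.Agent.Lib.Helper28.HzFF

theorem isGeomNormal_fiber_cpl_of (R S : Type u) [CommRing R] [IsLocalRing R]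
    [IsNoetherianRing R] [CommRing S] [IsLocalRing S] [Algebra R S] [IsLocalHom (algebraMap R S)]
    [Hensel.IsHenselization R S] (p : Ideal R) [p.IsPrime]
    (h : EGA4.IsGeomNormal p.ResidueField (p.Fiber (EGA4.Cpl R))) :
    EGA4.IsGeomNormal p.ResidueField (p.Fiber (EGA4.Cpl S)) := by
  obtain ⟨e⟩ := hz_exists_algEquiv_cpl R S
  let E : p.Fiber (EGA4.Cpl R) ≃ₐ[p.ResidueField] p.Fiber (EGA4.Cpl S) :=
    Algebra.TensorProduct.congr AlgEquiv.refl e
  intro k' _ _ hfin
  exact isNormalRing_of_ringEquiv
    (Algebra.TensorProduct.congr (AlgEquiv.refl : k' ≃ₐ[p.ResidueField] k') E).toRingEquiv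
    (h k' hfin)

/-- For a Noetherian local ring A whose formal fibres are geometrically normal, every henselization S of
A is universally catenary. -/
theorem result (A S : Type u) [CommRing A]
    [IsLocalRing A] [IsNoetherianRing A] [CommRing S] [IsLocalRing S] [Algebra A S]
    [IsLocalHom (algebraMap A S)] [Hensel.IsHenselization A S]
    (hA : EGA4.HasGeomNormalFormalFibres A) : CAlg.IsUniversallyCatenary S := by
  have hSN : IsNoetherianRing S := Groth.Agent.Lib.Helper3.HzP.hz_isNoetherianRing A S
  have hSh : HenselianLocalRing S := Hensel.IsHenselization.henselian A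
  have hS : EGA4.HasGeomNormalFormalFibres S := fun q _ =>
    isGeomNormal_fiber_of_isPiSeparable A S (EGA4.Cpl S)
      (fun p _ => hz_isPiSeparable A S p)
      (fun p _ => isGeomNormal_fiber_cpl_of A S p (hA p)) q
  apply isUniversallyCatenary_of_isFormallyCatenary
  intro q hq
  have hnt : Nontrivial (S ⧸ q) := Ideal.Quotient.nontrivial_iff.mpr hq.ne_top
  have hSq : EGA4.HasGeomNormalFormalFibres (S ⧸ q) := Groth.Agent.S4754.result S hS q
  have hhens : HenselianLocalRing (S ⧸ q) := Groth.Agent.S13598.henselian_quotient q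
  have hdom : IsDomain (EGA4.Cpl (S ⧸ q)) := Groth.Agent.S2811.result (S ⧸ q) hSq
  exact isEquidim_of_isDomain (EGA4.Cpl (S ⧸ q))

end Groth.Agent.S9230
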