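import Groth.Statements.S9239
import Groth.Agent.Lib.Helper3Branch
import Groth.Agent.Lib.Helper3ShTensor
import Groth.Agent.S9237
import Groth.Agent.S9238
import Mathlib

set_option autoImplicit false
universe u
open Brnch

namespace Groth.Agent.S9239

open IsLocalRing Groth.Agent.Lib.Helper3

/-- For a Noetherian local ring A with completion A^ at its maximal ideal, A^ has at least as many
branches as A, and at least as many geometric branches as A. -/
theorem result (A : Type u) [CommRing A] [IsLocalRing A] [IsNoetherianRing A] :
    Brnch.numBranches A ≤ Brnch.numBranches (AdicCompletion (IsLocalRing.maximalIdeal A) A) ∧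
      Brnch.numGeomBranches A ≤
        Brnch.numGeomBranches (AdicCompletion (IsLocalRing.maximalIdeal A) A) := by
  haveI hC : HenselianLocalRing (AdicCompletion (maximalIdeal A) A) :=
    Branch.henselianLocalRing_of_isAdicComplete _
  constructor
  · haveI := Branch.isHenselization_self (AdicCompletion (maximalIdeal A) A)
    rw [← Groth.Agent.S9237.result A (Hz.Rh A),
      ← Groth.Agent.S9237.result (AdicCompletion (maximalIdeal A) A)
        (AdicCompletion (maximalIdeal A) A)]
    obtain ⟨ψ, hψ, -⟩ := Hensel.IsHenselization.universal (R := A) (S := Hz.Rh A)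
      (AdicCompletion (maximalIdeal A) A) (algebraMap A (AdicCompletion (maximalIdeal A) A))
      inferInstance
    letI := ψ.toAlgebra
    haveI := Branch.faithfullyFlat_psi A (Hz.Rh A) ψ hψ
    exact Branch.card_minimalPrimes_le_of_faithfullyFlat (Hz.Rh A)
      (AdicCompletion (maximalIdeal A) A)
  · obtain ⟨Ash, _, _, _, _, _⟩ := Branch.exists_isStrictHenselization A
    obtain ⟨Csh, _, _, _, _, _⟩ := Branch.exists_isStrictHenselization (AdicCompletion (maximalIdeal A) A)
    rw [← Groth.Agent.S9238.result A Ash,
      ← Groth.Agent.S9238.result (AdicCompletion (maximalIdeal A) A) Csh]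
    letI : Algebra A Csh := ((algebraMap (AdicCompletion (maximalIdeal A) A) Csh).comp
      (algebraMap A (AdicCompletion (maximalIdeal A) A))).toAlgebra
    haveI : IsScalarTower A (AdicCompletion (maximalIdeal A) A) Csh :=
      IsScalarTower.of_algebraMap_eq (fun _ => rfl)
    obtain ⟨g, hg⟩ := ShTensor.exists_map (A := A) (B := AdicCompletion (maximalIdeal A) A)
      (S := Ash) (T := Csh)
    letI : Algebra Ash Csh := g.toRingHom.toAlgebra
    haveI : IsScalarTower A Ash Csh :=
      IsScalarTower.of_algebraMap_eq (fun a => (g.commutes a).symm)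
    haveI : Module.FaithfullyFlat (AdicCompletion (maximalIdeal A) A) Csh :=
      HzP.sh_faithfullyFlat _ _
    haveI : Module.Flat A Csh := Module.Flat.trans A (AdicCompletion (maximalIdeal A) A) Csh
    haveI : Module.Flat Ash Csh :=
      (IndEt.flat_iff_of_isIndEtale (IndEt.isIndEtale_of_isStrictHenselization A Ash) Csh).mp
        inferInstance
    haveI : IsLocalHom (algebraMap Ash Csh) := hg
    haveI : Module.FaithfullyFlat Ash Csh := Module.FaithfullyFlat.of_flat_of_isLocalHom
    exact Branch.card_minimalPrimes_le_of_faithfullyFlat Ash Csh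

end Groth.Agent.S9239
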