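import Groth.Statements.S9245
import Groth.Agent.Lib.Helper2NoethDesc
import Mathlib

set_option autoImplicit false
universe u
open CAlg

namespace Groth.Agent.S9245

/-- For an étale ring map A → B and a prime q of B with contraction p in A, the localization A_p is a
Noetherian ring exactly when the localization B_q is. -/
theorem result (A B : Type u) [CommRing A] [CommRing B]
    [Algebra A B] [Algebra.Etale A B] (q : Ideal B) [q.IsPrime] :
    IsNoetherianRing (Localization.AtPrime (Ideal.comap (algebraMap A B) q)) ↔
      IsNoetherianRing (Localization.AtPrime q) := by
  set p : Ideal A := q.comap (algebraMap A B) with hp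
  haveI hlies : q.LiesOver p := ⟨rfl⟩
  letI alg := Localization.AtPrime.algebraOfLiesOver p q
  haveI hloc : IsLocalHom (algebraMap (Localization.AtPrime p) (Localization.AtPrime q)) := by
    rw [RingHom.algebraMap_toAlgebra]
    exact Localization.isLocalHom_localRingHom p q (algebraMap A B) Ideal.LiesOver.over
  haveI hflatB : Module.Flat B (Localization.AtPrime q) := IsLocalization.flat _ q.primeCompl
  haveI hflatA : Module.Flat A (Localization.AtPrime q) := Module.Flat.trans A B _
  haveI hflat : Module.Flat (Localization.AtPrime p) (Localization.AtPrime q) :=
    (Module.flat_iff_of_isLocalization (Localization.AtPrime p) p.primeCompl _).mpr hflatA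
  haveI hess : Algebra.EssFiniteType (Localization.AtPrime p) (Localization.AtPrime q) :=
    .of_comp A _ _
  constructor
  · intro h
    exact Algebra.EssFiniteType.isNoetherianRing (Localization.AtPrime p) (Localization.AtPrime q)
  · intro h
    haveI : Module.FaithfullyFlat (Localization.AtPrime p) (Localization.AtPrime q) :=
      Module.FaithfullyFlat.of_flat_of_isLocalHom
    exact Groth.Agent.Lib.Helper2.NoethDesc.isNoetherianRing_of_faithfullyFlat
      (R := Localization.AtPrime p) (S := Localization.AtPrime q)

end Groth.Agent.S9245
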