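import Groth.Statements.S9250
import Mathlib
import Groth.Agent.Lib.Helper28RegDescent
import Groth.Agent.Lib.Helper28FibreTrans
-- import your own Groth.Agent.* helpers here

set_option autoImplicit false
universe u
open CAlg

namespace Groth.Agent.S9250
open Groth.Agent.Lib.Helper28 TensorProduct

/-- Let R → S be a regular ring map with S Noetherian and R regular. Then S is regular. -/
theorem result (R S : Type u) [CommRing R] [CommRing S] [Algebra R S]
    [IsRegularRing R] [IsNoetherianRing S] (h : CAlg.IsRegularHom R S) : IsRegularRing S := by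
  obtain ⟨hflat, hfib⟩ := h
  rw [isRegularRing_iff]
  intro Q hQ
  have hRp : IsRegularLocalRing (Localization.AtPrime (Q.comap (algebraMap R S))) :=
    IsRegularRing.isRegularLocalRing_localization _
  obtain ⟨Q', hQ', hQeq⟩ := exists_prime_fiber_comap_eq (A := R) Q
  obtain ⟨e⟩ := nonempty_localization_fiber_equiv (Q.comap (algebraMap R S)) Q' Q hQeq
  obtain ⟨hN, hgeom⟩ := hfib (Q.comap (algebraMap R S))
  have h1 : IsRegularRing ((Q.comap (algebraMap R S)).ResidueField ⊗[(Q.comap (algebraMap R S)).ResidueField]
      ((Q.comap (algebraMap R S)).Fiber S)) :=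
    hgeom (Q.comap (algebraMap R S)).ResidueField inferInstance
  have h2 : IsRegularRing ((Q.comap (algebraMap R S)).Fiber S) :=
    IsRegularRing.of_ringEquiv (R := (Q.comap (algebraMap R S)).ResidueField ⊗[(Q.comap (algebraMap R S)).ResidueField]
      ((Q.comap (algebraMap R S)).Fiber S))
      (Algebra.TensorProduct.lid (Q.comap (algebraMap R S)).ResidueField
        ((Q.comap (algebraMap R S)).Fiber S)).toRingEquiv
  have h3 : IsRegularLocalRing (Localization.AtPrime Q') :=
    IsRegularRing.isRegularLocalRing_localization _
  have h4 : IsRegularLocalRing (EGA4.FibLocRing R S Q) := IsRegularLocalRing.of_ringEquiv (R := Localization.AtPrime Q') e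
  exact isRegularLocalRing_localization_of_fibLocRing Q hRp h4

end Groth.Agent.S9250
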