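import Groth.Statements.S9258
import Groth.Agent.Lib.Helper19SqZeroDer

set_option autoImplicit false
universe u
open CAlg

namespace Groth.Agent.S9258

/-- Suppose A → B is a local map of Noetherian local rings, B is complete, and A → B is formally smooth
for the adic topology of the maximal ideal of B. Then each derivation D of A extends to a derivation
D' of B, in the sense that D' restricted along A → B equals D followed by A → B. -/
theorem result (A B : Type u) [CommRing A]
    [CommRing B] [IsLocalRing A] [IsLocalRing B] [IsNoetherianRing A] [IsNoetherianRing B]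
    [Algebra A B] [IsLocalHom (algebraMap A B)]
    [IsAdicComplete (IsLocalRing.maximalIdeal B) B]
    (hfs : CAlgX.IsAdicFormallySmooth A B (IsLocalRing.maximalIdeal B)) (D : Derivation ℤ A A) :
    ∃ D' : Derivation ℤ B B, ∀ a : A, D' (algebraMap A B a) = algebraMap A B (D a) := by
  classical
  have hmemiff : ∀ (n : ℕ) (x y : B), x ≡ y [SMOD (IsLocalRing.maximalIdeal B ^ n • ⊤ : Submodule B B)] ↔
      Ideal.Quotient.mk (IsLocalRing.maximalIdeal B ^ n) x =
        Ideal.Quotient.mk (IsLocalRing.maximalIdeal B ^ n) y := by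
    intro n x y
    rw [SModEq.sub_mem, smul_eq_mul, Ideal.mul_top, Ideal.Quotient.eq]
  -- the approximations
  let S : ℕ → Type u := fun n =>
    {δ : B → B ⧸ IsLocalRing.maximalIdeal B ^ n // (∀ a b, δ (a + b) = δ a + δ b) ∧
      (∀ a b, δ (a * b) = Ideal.Quotient.mk _ a * δ b + Ideal.Quotient.mk _ b * δ a) ∧
      ∀ a, δ (algebraMap A B a) = Ideal.Quotient.mk _ (algebraMap A B (D a))}
  have step : ∀ (n : ℕ) (δ : S n), ∃ δ' : S (n + 1), ∀ b,
      Ideal.Quotient.factor (Ideal.pow_le_pow_right (Nat.le_succ n)) (δ'.1 b) = δ.1 b := by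
    intro n δ
    let fac : B ⧸ IsLocalRing.maximalIdeal B ^ (n + 1) →+* B ⧸ IsLocalRing.maximalIdeal B ^ n :=
      Ideal.Quotient.factor (Ideal.pow_le_pow_right (Nat.le_succ n))
    letI : Module (B ⧸ IsLocalRing.maximalIdeal B ^ (n + 1))
        (B ⧸ IsLocalRing.maximalIdeal B ^ n) := Module.compHom _ fac
    have hsm : ∀ (c : B ⧸ IsLocalRing.maximalIdeal B ^ (n + 1))
        (y : B ⧸ IsLocalRing.maximalIdeal B ^ n), c • y = fac c * y := fun _ _ => rfl
    let g : (B ⧸ IsLocalRing.maximalIdeal B ^ (n + 1)) →ₗ[B ⧸ IsLocalRing.maximalIdeal B ^ (n + 1)]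
        (B ⧸ IsLocalRing.maximalIdeal B ^ n) :=
      { toFun := fac
        map_add' := map_add fac
        map_smul' := fun c x => by
          rw [smul_eq_mul, map_mul, RingHom.id_apply, hsm] }
    have hg : Function.Surjective g :=
      Ideal.Quotient.factor_surjective (Ideal.pow_le_pow_right (Nat.le_succ n))
    obtain ⟨δX, h1, h2, h3, h4⟩ :=
      Groth.Agent.Lib.Helper19.SqZeroDer.exists_derivation_core (IsLocalRing.maximalIdeal B) hfs
        (Ideal.Quotient.mk (IsLocalRing.maximalIdeal B ^ (n + 1)))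
        ⟨n + 1, fun x hx => Ideal.Quotient.eq_zero_iff_mem.2 hx⟩ g hg δ.1 δ.2.1
        (fun a b => by
          rw [δ.2.2.1, hsm, hsm]
          rfl)
        (fun a => Ideal.Quotient.mk _ (algebraMap A B (D a)))
        (fun a b => by simp only [map_add])
        (fun a b => by
          rw [Derivation.leibniz, map_add, smul_eq_mul, smul_eq_mul, map_mul, map_mul, map_add,
            map_mul, map_mul, smul_eq_mul, smul_eq_mul])
        (fun a => by
          rw [δ.2.2.2]
          rfl)
    exact ⟨⟨δX, h1, fun a b => by rw [h2, smul_eq_mul, smul_eq_mul], h4⟩, h3⟩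
  have base : S 0 := by
    haveI : Subsingleton (B ⧸ IsLocalRing.maximalIdeal B ^ 0) := by
      rw [pow_zero, Ideal.one_eq_top]
      exact Ideal.Quotient.subsingleton_iff.2 rfl
    exact ⟨fun _ => 0, fun _ _ => Subsingleton.elim _ _, fun _ _ => Subsingleton.elim _ _,
      fun _ => Subsingleton.elim _ _⟩
  let seq : ∀ n, S n := fun n => Nat.rec base (fun n δ => Classical.choose (step n δ)) n
  have hseq : ∀ n b, Ideal.Quotient.factor (Ideal.pow_le_pow_right (Nat.le_succ n))
      ((seq (n + 1)).1 b) = (seq n).1 b := fun n => Classical.choose_spec (step n (seq n))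
  -- representatives
  have hrex : ∀ n b, ∃ r : B, Ideal.Quotient.mk (IsLocalRing.maximalIdeal B ^ n) r = (seq n).1 b :=
    fun n b => Ideal.Quotient.mk_surjective _
  choose r hr using hrex
  have hcompat : ∀ (m n : ℕ), m ≤ n → ∀ b,
      Ideal.Quotient.mk (IsLocalRing.maximalIdeal B ^ m) (r n b) = (seq m).1 b := by
    intro m n hmn
    induction n, hmn using Nat.le_induction with
    | base => exact fun b => hr m b
    | succ n hmn ih =>
      intro b
      rw [← ih b, Ideal.Quotient.eq]
      have h5 : Ideal.Quotient.mk (IsLocalRing.maximalIdeal B ^ n) (r (n + 1) b) =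
          Ideal.Quotient.mk (IsLocalRing.maximalIdeal B ^ n) (r n b) := by
        rw [hr n b, ← hseq n b, ← hr (n + 1) b]
        rfl
      exact Ideal.pow_le_pow_right hmn (Ideal.Quotient.eq.1 h5)
  have hL : ∀ b, ∃ L : B, ∀ n, Ideal.Quotient.mk (IsLocalRing.maximalIdeal B ^ n) L =
      (seq n).1 b := by
    intro b
    obtain ⟨L, hL⟩ := IsPrecomplete.prec' (I := IsLocalRing.maximalIdeal B) (M := B)
      (fun n => r n b) (fun {m n} hmn => by
        rw [hmemiff, hcompat m n hmn b, hr m b])
    refine ⟨L, fun n => ?_⟩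
    rw [← (hmemiff n _ _).1 (hL n), hr n b]
  choose L hL using hL
  have huniq : ∀ x y : B, (∀ n, Ideal.Quotient.mk (IsLocalRing.maximalIdeal B ^ n) x =
      Ideal.Quotient.mk (IsLocalRing.maximalIdeal B ^ n) y) → x = y := by
    intro x y h
    rw [IsHausdorff.eq_iff_smodEq (I := IsLocalRing.maximalIdeal B)]
    intro n
    exact (hmemiff n x y).2 (h n)
  have hLadd : ∀ a b, L (a + b) = L a + L b := fun a b => huniq _ _ fun n => by
    rw [map_add, hL, hL, hL, (seq n).2.1]
  have hLmul : ∀ a b, L (a * b) = a • L b + b • L a := fun a b => huniq _ _ fun n => by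
    rw [smul_eq_mul, smul_eq_mul, map_add, map_mul, map_mul, hL, hL, hL, (seq n).2.2.1]
  have hLA : ∀ a, L (algebraMap A B a) = algebraMap A B (D a) := fun a => huniq _ _ fun n => by
    rw [hL, (seq n).2.2.2]
  let D₀ : B →ₗ[ℤ] B := (AddMonoidHom.mk' L hLadd).toIntLinearMap
  exact ⟨Derivation.mk' D₀ hLmul, hLA⟩

end Groth.Agent.S9258
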