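import Groth.Statements.S9260
import Mathlib

set_option autoImplicit false
universe u
open CAlg

namespace Groth.Agent.S9260

open Polynomial

set_option linter.unusedSectionVars false

section
variable {A R G : Type*} [CommRing A] [CommRing R] [Algebra A R] [Group G] [Fintype G]
  [MulSemiringAction G R] [SMulCommClass G A R] {ι : Type*}

/-- coefficient in `A` attached to `ψ`. -/
noncomputable def cA (a : ι → A) (ψ : G → Option ι) : A := ∏ σ, (ψ σ).elim 1 (fun i => - a i)

/-- exponent of `X` attached to `ψ`. -/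
def ex (ψ : G → Option ι) : ℕ := ∑ σ : G, (ψ σ).elim 1 (fun _ => 0)

/-- coefficient in `R` attached to `ψ`. -/
noncomputable def rho (r : ι → R) (ψ : G → Option ι) : R := ∏ σ, (ψ σ).elim 1 (fun i => σ • r i)

/-- translation action on the `ψ`'s. -/
def shift (τ : G) : (G → Option ι) ≃ (G → Option ι) := (Equiv.mulLeft τ).arrowCongr (Equiv.refl _)

theorem shift_apply (τ : G) (ψ : G → Option ι) (σ : G) : shift τ ψ σ = ψ (τ⁻¹ * σ) := rfl

theorem cA_shift (a : ι → A) (τ : G) (ψ : G → Option ι) : cA a (shift τ ψ) = cA a ψ := by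
  unfold cA
  exact Fintype.prod_equiv (Equiv.mulLeft τ⁻¹) _ _ (fun σ => rfl)

theorem ex_shift (τ : G) (ψ : G → Option ι) : ex (shift τ ψ) = ex ψ := by
  unfold ex
  exact Fintype.sum_equiv (Equiv.mulLeft τ⁻¹) _ _ (fun σ => rfl)

theorem rho_shift (r : ι → R) (τ : G) (ψ : G → Option ι) : rho r (shift τ ψ) = τ • rho r ψ := by
  unfold rho
  rw [Finset.smul_prod']
  refine Fintype.prod_equiv (Equiv.mulLeft τ⁻¹) _ _ (fun σ => ?_)
  rw [shift_apply]
  change _ = τ • (ψ (τ⁻¹ * σ)).elim 1 (fun i => (τ⁻¹ * σ) • r i)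
  cases ψ (τ⁻¹ * σ) with
  | none => simp
  | some i => simp [← mul_smul]

theorem prod_monomial' {κ : Type*} (s : Finset κ) (n : κ → ℕ) (c : κ → R) :
    ∏ i ∈ s, (monomial (n i) (c i) : R[X]) = monomial (∑ i ∈ s, n i) (∏ i ∈ s, c i) := by
  classical
  induction s using Finset.induction_on with
  | empty => simp
  | insert i s hi ih =>
    rw [Finset.prod_insert hi, Finset.sum_insert hi, Finset.prod_insert hi, ih,
      monomial_mul_monomial]

theorem expand [Fintype ι] [DecidableEq G] (a : ι → A) (r : ι → R) :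
    ∏ σ : G, (X - C (σ • ∑ i, algebraMap A R (a i) * r i))
      = ∑ ψ : G → Option ι, monomial (ex ψ) (algebraMap A R (cA a ψ) * rho r ψ) := by
  classical
  have h1 : ∀ σ : G, (X - C (σ • ∑ i, algebraMap A R (a i) * r i) : R[X])
      = ∑ o : Option ι, monomial (o.elim 1 (fun _ => 0))
          (algebraMap A R (o.elim 1 (fun i => - a i)) * o.elim 1 (fun i => σ • r i)) := by
    intro σ
    rw [Fintype.sum_option, Finset.smul_sum, map_sum, sub_eq_add_neg, ← Finset.sum_neg_distrib]
    congr 1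
    · simp [monomial_one_one_eq_X]
    · refine Finset.sum_congr rfl fun i _ => ?_
      simp only [Option.elim, smul_mul', smul_algebraMap, map_neg, neg_mul, monomial_zero_left]
  simp only [h1]
  rw [Finset.prod_univ_sum, Fintype.piFinset_univ]
  refine Finset.sum_congr rfl fun ψ _ => ?_
  rw [prod_monomial', Finset.prod_mul_distrib, ← map_prod]
  rfl

theorem ex_le (ψ : G → Option ι) : ex ψ ≤ Fintype.card G := by
  unfold ex
  calc ∑ σ : G, (ψ σ).elim 1 (fun _ => 0) ≤ ∑ _σ : G, 1 := by
        refine Finset.sum_le_sum fun σ _ => ?_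
        cases ψ σ <;> simp
    _ = Fintype.card G := by simp

theorem ex_lt (ψ : G → Option ι) (h : ψ ≠ fun _ => none) : ex ψ < Fintype.card G := by
  unfold ex
  obtain ⟨σ₀, hσ₀⟩ : ∃ σ₀, ψ σ₀ ≠ none := by
    by_contra hcon
    push Not at hcon
    exact h (funext hcon)
  calc ∑ σ : G, (ψ σ).elim 1 (fun _ => 0) < ∑ _σ : G, 1 := by
        refine Finset.sum_lt_sum (fun σ _ => ?_) ⟨σ₀, Finset.mem_univ _, ?_⟩
        · cases ψ σ <;> simp
        · cases hh : ψ σ₀ with
          | none => exact absurd hh hσ₀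
          | some i => simp
    _ = Fintype.card G := by simp

theorem cA_mem (J : Ideal A) (a : ι → A) (ha : ∀ i, a i ∈ J) (ψ : G → Option ι)
    (h : ψ ≠ fun _ => none) : cA a ψ ∈ J := by
  obtain ⟨σ₀, hσ₀⟩ : ∃ σ₀, ψ σ₀ ≠ none := by
    by_contra hcon
    push Not at hcon
    exact h (funext hcon)
  unfold cA
  refine Ideal.prod_mem (i := σ₀) _ (Finset.mem_univ _) ?_
  cases hh : ψ σ₀ with
  | none => exact absurd hh hσ₀
  | some i => exact neg_mem (ha i)

theorem main [Fintype ι] [Algebra.IsInvariant A R G] (J : Ideal A) (a : ι → A)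
    (ha : ∀ i, a i ∈ J) (r : ι → R) :
    ∃ P : Polynomial A, P.Monic ∧ P.natDegree ≤ Fintype.card G ∧
      (∀ i : ℕ, i < Fintype.card G → P.coeff i ∈ J) ∧
      Polynomial.map (algebraMap A R) P
        = ∏ σ : G, (X - C (σ • ∑ i, algebraMap A R (a i) * r i)) := by
  classical
  obtain ⟨n, hn⟩ : ∃ n, n = Fintype.card G := ⟨_, rfl⟩
  obtain ⟨ψ₀, hψ₀⟩ : ∃ ψ₀ : G → Option ι, ψ₀ = fun _ => none := ⟨_, rfl⟩
  obtain ⟨key, hkey⟩ : ∃ key : (G → Option ι) → A × ℕ, key = fun ψ => (cA a ψ, ex ψ) := ⟨_, rfl⟩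
  obtain ⟨U, hU⟩ : ∃ U : Finset (G → Option ι), U = Finset.univ.erase ψ₀ := ⟨_, rfl⟩
  obtain ⟨T, hT⟩ : ∃ T : Finset (A × ℕ), T = U.image key := ⟨_, rfl⟩
  -- invariance of fibre sums
  have hinv : ∀ p : A × ℕ, ∀ τ : G,
      τ • (∑ ψ ∈ U with key ψ = p, rho r ψ) = ∑ ψ ∈ U with key ψ = p, rho r ψ := by
    intro p τ
    rw [Finset.smul_sum]
    simp only [← rho_shift]
    refine Finset.sum_equiv (shift τ) (fun ψ => ?_) (fun ψ _ => rfl)
    simp only [Finset.mem_filter, hU, Finset.mem_erase, Finset.mem_univ, and_true, hkey,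
      cA_shift, ex_shift]
    refine and_congr_left fun _ => not_congr ?_
    rw [hψ₀]
    constructor
    · intro h
      rw [h]
      rfl
    · intro h
      funext σ
      have := congrFun h (τ * σ)
      simpa [shift_apply] using this
  choose c' hc' using fun p : A × ℕ =>
    Algebra.IsInvariant.isInvariant (A := A) (G := G) (∑ ψ ∈ U with key ψ = p, rho r ψ) (hinv p)
  have hTp : ∀ p ∈ T, p.2 < n ∧ p.1 ∈ J := by
    intro p hp
    rw [hT, Finset.mem_image] at hp
    obtain ⟨ψ, hψ, rfl⟩ := hp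
    rw [hU, Finset.mem_erase] at hψ
    rw [hkey, hn]
    exact ⟨ex_lt ψ (hψ₀ ▸ hψ.1), cA_mem J a ha ψ (hψ₀ ▸ hψ.1)⟩
  obtain ⟨Q, hQ⟩ : ∃ Q : A[X], Q = ∑ p ∈ T, monomial p.2 (p.1 * c' p) := ⟨_, rfl⟩
  have hQdeg : Q.degree < n := by
    rw [← Polynomial.mem_degreeLT, hQ]
    refine Submodule.sum_mem _ fun p hp => ?_
    rw [Polynomial.mem_degreeLT]
    exact lt_of_le_of_lt (degree_monomial_le _ _) (by exact_mod_cast (hTp p hp).1)
  refine ⟨X ^ n + Q, monic_X_pow_add hQdeg, ?_, ?_, ?_⟩
  · rw [← hn]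
    refine natDegree_add_le_of_degree_le (natDegree_X_pow_le n) ?_
    exact natDegree_le_of_degree_le hQdeg.le
  · intro i hi
    rw [← hn] at hi
    rw [coeff_add, coeff_X_pow, if_neg hi.ne, zero_add, hQ, finsetSum_coeff]
    refine Ideal.sum_mem _ fun p hp => ?_
    rw [coeff_monomial]
    split_ifs
    · exact Ideal.mul_mem_right _ _ (hTp p hp).2
    · exact zero_mem _
  · rw [expand, ← Finset.add_sum_erase Finset.univ _ (Finset.mem_univ ψ₀), ← hU]
    rw [Polynomial.map_add, Polynomial.map_pow, map_X, hQ, Polynomial.map_sum]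
    congr 1
    · have e1 : ex ψ₀ = n := by
        rw [hψ₀, hn]
        simp [ex]
      have e2 : cA a ψ₀ = 1 := by
        rw [hψ₀]
        simp [cA]
      have e3 : rho r ψ₀ = 1 := by
        rw [hψ₀]
        simp [rho]
      rw [e1, e2, e3, map_one, mul_one, monomial_one_right_eq_X_pow]
    · rw [← Finset.sum_fiberwise_of_maps_to (s := U) (t := T) (g := key)
        (fun ψ hψ => hT ▸ Finset.mem_image_of_mem key hψ)]
      refine Finset.sum_congr rfl fun p _ => ?_
      rw [map_monomial, map_mul, hc', Finset.mul_sum, map_sum]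
      refine Finset.sum_congr rfl fun ψ hψ => ?_
      rw [Finset.mem_filter] at hψ
      have h1 : cA a ψ = p.1 := by rw [← hψ.2, hkey]
      have h2 : ex ψ = p.2 := by rw [← hψ.2, hkey]
      rw [h1, h2]

end


/-- Suppose a finite group G with n elements acts on a ring R by ring automorphisms, A → R is a ring map
compatible with the action whose image contains the invariants (so that A maps onto R^G), J is an
ideal of A, and x lies in JR. Then ∏_σ (T - σ(x)) is the image of a monic polynomial over A of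
degree at most n whose coefficients below degree n all lie in J. (The published statement takes A =
R^G and a polynomial of degree n; this row allows any such A mapping onto R^G and asks degree at
most n, which is the same when A is nonzero.) -/
theorem result (A R G : Type u) [CommRing A]
    [CommRing R] [Algebra A R] [Group G] [Fintype G] [MulSemiringAction G R] [SMulCommClass G A R]
    [Algebra.IsInvariant A R G] (J : Ideal A) (x : R) (hx : x ∈ Ideal.map (algebraMap A R) J) :
    ∃ P : Polynomial A, P.Monic ∧ P.natDegree ≤ Fintype.card G ∧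
      (∀ i : ℕ, i < Fintype.card G → P.coeff i ∈ J) ∧
      Polynomial.map (algebraMap A R) P = ∏ σ : G, (Polynomial.X - Polynomial.C (σ • x)) := by
  have hx' : x ∈ Submodule.span R (algebraMap A R '' (J : Set A)) := hx
  rw [Submodule.mem_span_image_iff_exists_fun] at hx'
  obtain ⟨t, htJ, c, hc⟩ := hx'
  obtain ⟨P, h1, h2, h3, h4⟩ := main (A := A) (R := R) (G := G) J (fun i : t => (i : A))
    (fun i => htJ i.2) c
  refine ⟨P, h1, h2, h3, ?_⟩
  rw [h4]
  have e : ∑ i : t, algebraMap A R (i : A) * c i = x := by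
    rw [← hc]
    refine Finset.sum_congr rfl fun i _ => ?_
    rw [smul_eq_mul, mul_comm]
  rw [e]

end Groth.Agent.S9260
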