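import Groth.Statements.S9261
import Mathlib.RingTheory.Flat.Basic
import Mathlib.RingTheory.Invariant.Basic
import Mathlib.LinearAlgebra.TensorProduct.Pi
import Mathlib.RingTheory.TensorProduct.Basic

set_option autoImplicit false
universe u
open CAlg

namespace Groth.Agent.S9261

/-- Let G be a finite group acting on a ring R, S = R^G its ring of invariants (here: S → R injective
with image the invariants) and A a flat S-algebra. Then the map A → A ⊗_S R is injective with image
the invariants of G acting on A ⊗_S R through the second factor; that is, A → (A ⊗_S R)^G is an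
isomorphism. -/
theorem result (S R A G : Type u) [CommRing S] [CommRing R] [Algebra S R]
    [FaithfulSMul S R] [Group G] [Finite G] [MulSemiringAction G R] [SMulCommClass G S R]
    [Algebra.IsInvariant S R G] [CommRing A] [Algebra S A] [Module.Flat S A] :
    Function.Injective (algebraMap A (TensorProduct S A R)) ∧
      ∀ x : TensorProduct S A R,
        (∀ σ : G, Algebra.TensorProduct.map (AlgHom.id S A) (MulSemiringAction.toAlgHom S R σ) x = x) →
          x ∈ Set.range (algebraMap A (TensorProduct S A R)) := by
  classical
  cases nonempty_fintype G
  -- the exact sequence `S → R → (G → R)`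
  let ι : S →ₗ[S] R := Algebra.linearMap S R
  let dσ : G → (R →ₗ[S] R) := fun σ => (MulSemiringAction.toAlgHom S R σ).toLinearMap - LinearMap.id
  let d : R →ₗ[S] (G → R) := LinearMap.pi dσ
  have hιinj : Function.Injective ι := FaithfulSMul.algebraMap_injective S R
  have hexact : Function.Exact ι d := by
    intro r
    constructor
    · intro hr
      have h1 : ∀ σ : G, σ • r = r := by
        intro σ
        have := congrFun hr σ
        simp only [d, dσ, LinearMap.pi_apply, LinearMap.sub_apply, AlgHom.toLinearMap_apply,
          MulSemiringAction.toAlgHom_apply, LinearMap.id_coe, id_eq, Pi.zero_apply] at this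
        exact sub_eq_zero.mp this
      obtain ⟨s, hs⟩ := Algebra.IsInvariant.isInvariant (A := S) (G := G) r h1
      exact ⟨s, hs⟩
    · rintro ⟨s, rfl⟩
      ext σ
      simp only [d, dσ, ι, LinearMap.pi_apply, LinearMap.sub_apply, AlgHom.toLinearMap_apply,
        MulSemiringAction.toAlgHom_apply, LinearMap.id_coe, id_eq, Pi.zero_apply,
        Algebra.linearMap_apply]
      rw [smul_algebraMap, sub_self]
  have hexactT : Function.Exact (ι.lTensor A) (d.lTensor A) := Module.Flat.lTensor_exact A hexact
  have hinjT : Function.Injective (ι.lTensor A) :=
    Module.Flat.lTensor_preserves_injective_linearMap ι hιinj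
  have halg : ∀ a : A, algebraMap A (TensorProduct S A R) a =
      (ι.lTensor A) ((TensorProduct.rid S A).symm a) := by
    intro a
    rw [Algebra.TensorProduct.algebraMap_apply, TensorProduct.rid_symm_apply,
      LinearMap.lTensor_tmul]
    simp [ι]
  constructor
  · intro a b hab
    rw [halg, halg] at hab
    exact (TensorProduct.rid S A).symm.injective (hinjT hab)
  · have h1 : ∀ (σ : G) (x : TensorProduct S A R),
        (TensorProduct.piRight S S A (fun _ : G => R)) ((d.lTensor A) x) σ =
          ((dσ σ).lTensor A) x := by
      intro σ x
      induction x using TensorProduct.induction_on with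
      | zero => simp
      | tmul a r => simp [d, TensorProduct.piRightHom_tmul]
      | add y z hy hz => simp only [map_add, Pi.add_apply, hy, hz]
    have h2 : ∀ (σ : G) (x : TensorProduct S A R), ((dσ σ).lTensor A) x =
          Algebra.TensorProduct.map (AlgHom.id S A) (MulSemiringAction.toAlgHom S R σ) x - x := by
      intro σ x
      induction x using TensorProduct.induction_on with
      | zero => simp
      | tmul a r => simp [dσ, TensorProduct.tmul_sub]
      | add y z hy hz => rw [map_add, map_add, hy, hz]; abel
    intro x hx
    have hdx : (d.lTensor A) x = 0 := by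
      apply (TensorProduct.piRight S S A (fun _ : G => R)).injective
      rw [map_zero]
      ext σ
      rw [h1, h2, hx σ, sub_self]
      rfl
    obtain ⟨y, hy⟩ := (hexactT x).mp hdx
    refine ⟨TensorProduct.rid S A y, ?_⟩
    rw [halg, LinearEquiv.symm_apply_apply, hy]

end Groth.Agent.S9261
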