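import Groth.Statements.S9262
import Groth.Agent.Lib.Helper3HzFib2
import Groth.Agent.Lib.Helper3HzNormal
import Mathlib

set_option autoImplicit false
universe u
open Hensel

namespace Groth.Agent.S9262

open IsLocalRing

/-- DVR iff along flat local maps with `m_A B = m_B`, given the normal-domain iff. -/
theorem dvr_iff {A B : Type u} [CommRing A] [CommRing B] [IsLocalRing A] [IsLocalRing B]
    [IsNoetherianRing A] [IsNoetherianRing B] [Algebra A B] [Module.FaithfullyFlat A B]
    (hmax : (maximalIdeal A).map (algebraMap A B) = maximalIdeal B)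
    (hn : (IsDomain A ∧ IsIntegrallyClosed A) ↔ (IsDomain B ∧ IsIntegrallyClosed B)) :
    (∃ _ : IsDomain A, IsDiscreteValuationRing A) ↔ (∃ _ : IsDomain B, IsDiscreteValuationRing B) := by
  have h1 : (maximalIdeal B).spanFinrank ≤ (maximalIdeal A).spanFinrank := by
    rw [← hmax]
    exact Ideal.spanFinrank_map_le_of_fg _ (maximalIdeal A).fg_of_isNoetherianRing
  have h2 := Groth.Agent.Lib.LeadEtaleRegular.spanFinrank_maximalIdeal_le_of_faithfullyFlat A B hmax
  have h3 : (maximalIdeal B).spanFinrank = (maximalIdeal A).spanFinrank := le_antisymm h1 h2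
  rw [IsLocalRing.spanFinrank_maximalIdeal_eq_finrank_cotangentSpace,
    IsLocalRing.spanFinrank_maximalIdeal_eq_finrank_cotangentSpace] at h3
  constructor
  · rintro ⟨hd, hdvr⟩
    obtain ⟨hdB, -⟩ := hn.mp ⟨hd, inferInstance⟩
    refine ⟨hdB, ?_⟩
    rw [← IsLocalRing.finrank_CotangentSpace_eq_one_iff, h3,
      IsLocalRing.finrank_CotangentSpace_eq_one_iff]
    exact hdvr
  · rintro ⟨hd, hdvr⟩
    obtain ⟨hdA, -⟩ := hn.mpr ⟨hd, inferInstance⟩
    refine ⟨hdA, ?_⟩
    rw [← IsLocalRing.finrank_CotangentSpace_eq_one_iff, ← h3,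
      IsLocalRing.finrank_CotangentSpace_eq_one_iff]
    exact hdvr

/-- Let R be a Noetherian local ring with henselization S and strict henselization T. Then R is a
discrete valuation ring exactly when S is one, and exactly when T is one. -/
theorem result (R S T : Type u)
    [CommRing R] [IsLocalRing R] [IsNoetherianRing R] [CommRing S] [IsLocalRing S] [Algebra R S]
    [IsLocalHom (algebraMap R S)] [Hensel.IsHenselization R S] [CommRing T] [IsLocalRing T]
    [Algebra R T] [IsLocalHom (algebraMap R T)] [Hensel.IsStrictHenselization R T] :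
    ((∃ _ : IsDomain R, IsDiscreteValuationRing R) ↔ (∃ _ : IsDomain S, IsDiscreteValuationRing S)) ∧
      ((∃ _ : IsDomain R, IsDiscreteValuationRing R) ↔
        (∃ _ : IsDomain T, IsDiscreteValuationRing T)) := by
  constructor
  · haveI := Groth.Agent.Lib.Helper3.HzP.hz_faithfullyFlat R S
    haveI := Groth.Agent.Lib.Helper3.HzP.hz_isNoetherianRing R S
    exact dvr_iff (Groth.Agent.Lib.Helper3.HzP.hz_map_maximalIdeal R S)
      (Groth.Agent.Lib.Helper3.HzP.hz_normal_iff R S)
  · haveI := Groth.Agent.Lib.Helper3.HzP.sh_faithfullyFlat R T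
    haveI := Groth.Agent.Lib.Helper3.HzP.sh_isNoetherianRing R T
    exact dvr_iff (Groth.Agent.Lib.Helper3.HzP.sh_map_maximalIdeal R T)
      (Groth.Agent.Lib.Helper3.HzP.sh_normal_iff R T)

end Groth.Agent.S9262
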