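import Groth.Statements.S9275
import Mathlib
-- import your own Groth.Agent.* helpers here

set_option autoImplicit false
universe u
open EtAlg

namespace Groth.Agent.S9275

theorem etale_loc_loc {A B : Type u} [CommRing A] [CommRing B] [Algebra A B] (g h₀ : B)
    (hh₀ : Algebra.Etale A (Localization.Away h₀)) :
    ((algebraMap (Localization.Away g)
      (Localization.Away (algebraMap B (Localization.Away g) h₀))).comp
      (algebraMap A (Localization.Away g))).Etale := by
  have hunit : IsUnit (algebraMap B (Localization.Away (algebraMap B (Localization.Away g) h₀)) h₀) := by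
    have := IsLocalization.Away.algebraMap_isUnit
      (S := Localization.Away (algebraMap B (Localization.Away g) h₀))
      (algebraMap B (Localization.Away g) h₀)
    rwa [← IsScalarTower.algebraMap_apply] at this
  letI : Algebra (Localization.Away h₀) (Localization.Away (algebraMap B (Localization.Away g) h₀)) :=
    (IsLocalization.Away.lift h₀ hunit).toAlgebra
  haveI : IsScalarTower B (Localization.Away h₀)
      (Localization.Away (algebraMap B (Localization.Away g) h₀)) :=
    IsScalarTower.of_algebraMap_eq (fun x => (IsLocalization.Away.lift_eq h₀ hunit x).symm)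
  haveI : IsScalarTower A (Localization.Away h₀)
      (Localization.Away (algebraMap B (Localization.Away g) h₀)) :=
    IsScalarTower.of_algebraMap_eq (fun x => by
      rw [IsScalarTower.algebraMap_apply A B (Localization.Away h₀),
        ← IsScalarTower.algebraMap_apply B (Localization.Away h₀),
        ← IsScalarTower.algebraMap_apply A B])
  haveI : IsLocalization.Away (algebraMap B (Localization.Away h₀) g)
      (Localization.Away (algebraMap B (Localization.Away g) h₀)) :=
    IsLocalization.Away.commutes (Localization.Away h₀) (Localization.Away g) _ h₀ g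
  haveI : Algebra.Etale (Localization.Away h₀)
      (Localization.Away (algebraMap B (Localization.Away g) h₀)) :=
    Algebra.Etale.of_isLocalizationAway (algebraMap B (Localization.Away h₀) g)
  haveI := hh₀
  have hcomp : Algebra.Etale A (Localization.Away (algebraMap B (Localization.Away g) h₀)) :=
    Algebra.Etale.comp A (Localization.Away h₀) _
  rw [← IsScalarTower.algebraMap_eq, RingHom.etale_algebraMap]
  exact hcomp

/-- Let A → B be a ring map and J an ideal of B such that A → B is étale at every prime of V(J), in the
sense that every prime q ⊇ J has some h ∉ q with A → B_h étale. Then there is g ∈ B mapping to a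
unit of B/J such that A → B_g is étale. -/
theorem result (A B : Type u) [CommRing A] [CommRing B]
    [Algebra A B] (J : Ideal B)
    (h : ∀ (q : Ideal B) [q.IsPrime], J ≤ q → ∃ h : B, h ∉ q ∧ Algebra.Etale A (Localization.Away h)) :
    ∃ g : B, IsUnit (Ideal.Quotient.mk J g) ∧ Algebra.Etale A (Localization.Away g) := by
  classical
  have hsup : J ⊔ Ideal.span {h₀ : B | Algebra.Etale A (Localization.Away h₀)} = ⊤ := by
    by_contra hne
    obtain ⟨q, hq, hle⟩ := Ideal.exists_le_maximal _ hne
    haveI := hq.isPrime
    obtain ⟨h₀, hh₀, het⟩ := h q (le_sup_left.trans hle)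
    exact hh₀ (hle (Ideal.mem_sup_right (Ideal.subset_span het)))
  obtain ⟨j, hj, g, hg, hjg⟩ := Submodule.mem_sup.1
    (hsup ▸ Submodule.mem_top : (1 : B) ∈ J ⊔ Ideal.span {h₀ : B | Algebra.Etale A (Localization.Away h₀)})
  refine ⟨g, ?_, ?_⟩
  · have : Ideal.Quotient.mk J g = 1 := by
      rw [← map_one (Ideal.Quotient.mk J), ← hjg, map_add, Ideal.Quotient.eq_zero_iff_mem.2 hj,
        zero_add]
    rw [this]
    exact isUnit_one
  · rw [← RingHom.etale_algebraMap]
    apply RingHom.Etale.ofLocalizationSpanTarget (algebraMap A (Localization.Away g))
      (algebraMap B (Localization.Away g) '' {h₀ : B | Algebra.Etale A (Localization.Away h₀)})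
    · rw [← Ideal.map_span]
      exact Ideal.eq_top_of_isUnit_mem _ (Ideal.mem_map_of_mem _ hg)
        (IsLocalization.Away.algebraMap_isUnit g)
    · rintro ⟨_, h₀, hh₀, rfl⟩
      exact etale_loc_loc g h₀ hh₀

end Groth.Agent.S9275
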