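import Groth.Statements.S9276
import Groth.Agent.Lib.Helper7PairHzG
import Groth.Agent.Lib.Helper26HzNoeth
import Groth.Agent.Lib.Helper7GRingMax
import Groth.Agent.Lib.Helper7ExcDim1
import Groth.Agent.Lib.Helper7ExcLoc
import Groth.Agent.Lib.Helper3HzD
import Groth.Agent.S2045
import Groth.Agent.S2772

set_option autoImplicit false
universe u
open CAlg

namespace Groth.Agent.S9276

/-- Let A be a G-ring, I an ideal of A and B the henselization of the pair (A, I). Then B is a G-ring. -/
theorem result (A : Type u) [CommRing A] (hA : CAlg.IsGRing A) (I : Ideal A)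
    (B : Type u) [CommRing B] [Algebra A B] (hB : Hens2.IsPairHenselization A I B) :
    CAlg.IsGRing B := by
  haveI : IsNoetherianRing A := hA.1
  haveI : IsNoetherianRing B :=
    Groth.Agent.Lib.Helper26.HzNoeth.isNoetherianRing_of_isPairHenselization hB
  rw [Groth.Agent.Lib.Helper7.GRingMax.isGRing_iff_maximalIdeals]
  intro n hn
  let m : Ideal A := n.comap (algebraMap A B)
  haveI : m.IsPrime := Ideal.comap_isPrime _ _
  letI alg : Algebra (Localization.AtPrime m) (Localization.AtPrime n) :=
    (Localization.localRingHom m n (algebraMap A B) rfl).toAlgebra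
  haveI : IsNoetherianRing (Localization.AtPrime m) :=
    IsLocalization.isNoetherianRing m.primeCompl _ inferInstance
  haveI : IsNoetherianRing (Localization.AtPrime n) :=
    IsLocalization.isNoetherianRing n.primeCompl _ inferInstance
  letI alg2 : Algebra (Localization.AtPrime m) (Groth.Agent.Lib.Helper3.Hz.Rh (Localization.AtPrime n)) :=
    ((algebraMap (Localization.AtPrime n) (Groth.Agent.Lib.Helper3.Hz.Rh (Localization.AtPrime n))).comp
      (Localization.localRingHom m n (algebraMap A B) rfl)).toAlgebra
  haveI : IsLocalHom (Localization.localRingHom m n (algebraMap A B) rfl) :=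
    Localization.isLocalHom_localRingHom _ _ _ rfl
  haveI : IsLocalHom (algebraMap (Localization.AtPrime m)
      (Groth.Agent.Lib.Helper3.Hz.Rh (Localization.AtPrime n))) := by
    show IsLocalHom ((algebraMap (Localization.AtPrime n)
      (Groth.Agent.Lib.Helper3.Hz.Rh (Localization.AtPrime n))).comp
      (Localization.localRingHom m n (algebraMap A B) rfl))
    infer_instance
  haveI hHz : Hensel.IsHenselization (Localization.AtPrime m)
      (Groth.Agent.Lib.Helper3.Hz.Rh (Localization.AtPrime n)) := by
    refine Groth.Agent.Lib.Helper7.PairHzG.isHenselization_of_pair hB n m rfl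
      (Localization.AtPrime m) (Localization.AtPrime n) _ ?_
    ext a
    show algebraMap (Localization.AtPrime n) _ (Localization.localRingHom m n (algebraMap A B) rfl
      (algebraMap A (Localization.AtPrime m) a)) = _
    rw [Localization.localRingHom_to_map]
    rfl
  have hGm : CAlg.IsGRing (Localization.AtPrime m) :=
    Groth.Agent.Lib.Helper7.ExcLoc.isGRing_localization A hA m.primeCompl
  have hGS : CAlg.IsGRing (Groth.Agent.Lib.Helper3.Hz.Rh (Localization.AtPrime n)) :=
    Groth.Agent.S2045.result (R := Localization.AtPrime m) hGm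
  have h1 := Groth.Agent.Lib.Helper7.ExcDim1.isRegularHom_cpl_of_isGRing _ hGS
  exact (Groth.Agent.S2772.result (Localization.AtPrime n)
    (Groth.Agent.Lib.Helper3.Hz.Rh (Localization.AtPrime n))).mp h1


end Groth.Agent.S9276
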