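import Groth.Statements.S9278
import Groth.Agent.Lib.Helper13McCoy
import Mathlib.RingTheory.Ideal.AssociatedPrime.Finiteness
import Mathlib.Algebra.Ring.NonZeroDivisors
import Mathlib.Tactic
-- import your own Groth.Agent.* helpers here

set_option autoImplicit false
universe u
open CAlgX

namespace Groth.Agent.S9278

theorem annihilator_eq_bot_iff {R : Type u} [CommRing R] [IsNoetherianRing R] [Nontrivial R]
    (I : Ideal R) : I.annihilator = ⊥ ↔ (I = ⊤ ∨ ∃ a ∈ I, IsRegular a) := by
  classical
  constructor
  · intro hann
    right
    by_contra hno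
    push Not at hno
    have hsub : (I : Set R) ⊆ ⋃ p ∈ associatedPrimes R R, (p : Set R) := by
      rw [biUnion_associatedPrimes_eq_compl_nonZeroDivisors]
      intro a ha hreg
      exact hno a ha (isRegular_iff_mem_nonZeroDivisors.mpr hreg)
    have hfin : (associatedPrimes R R).Finite := associatedPrimes.finite R R
    have hsub' : (I : Set R) ⊆ ⋃ p ∈ (↑hfin.toFinset : Set (Ideal R)), ((fun q => q) p : Ideal R) := by
      simpa using hsub
    obtain ⟨p, hp, hIp⟩ := (Ideal.subset_union_prime (f := fun q : Ideal R => q) ⊥ ⊥
      (fun q hq _ _ => (hfin.mem_toFinset.mp hq).isPrime)).mp hsub'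
    have hpass : IsAssociatedPrime p R := hfin.mem_toFinset.mp hp
    obtain ⟨hprime, x, hx⟩ := isAssociatedPrime_iff.mp hpass
    have hx0 : x ≠ 0 := by
      rintro rfl
      apply hprime.ne_top
      rw [hx, eq_top_iff]
      intro r _
      rw [Submodule.mem_colon_singleton]
      simp
    have hxann : x ∈ I.annihilator := by
      rw [Submodule.mem_annihilator]
      intro a ha
      have := hIp ha
      rw [hx, Submodule.mem_colon_singleton, Submodule.mem_bot] at this
      rw [smul_eq_mul, mul_comm]
      exact this
    rw [hann, Submodule.mem_bot] at hxann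
    exact hx0 hxann
  · rintro (rfl | ⟨a, ha, hreg⟩)
    · rw [eq_bot_iff]
      intro x hx
      have := Submodule.mem_annihilator.mp hx 1 Submodule.mem_top
      rw [Submodule.mem_bot]
      simpa using this
    · rw [eq_bot_iff]
      intro x hx
      have := Submodule.mem_annihilator.mp hx a ha
      rw [Submodule.mem_bot]
      apply hreg.right
      simpa using this

/-- Let R be a Noetherian local ring and φ : R^m → R^n a map of finite free modules with matrix M. Then
φ is injective if and only if the rank of M is m and the determinantal ideal I(M) is the unit ideal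
or contains a nonzerodivisor. -/
theorem result (R : Type u) [CommRing R]
    [IsLocalRing R] [IsNoetherianRing R] (m n : ℕ) (M : Matrix (Fin n) (Fin m) R) :
    Function.Injective (Matrix.mulVecLin M) ↔
      CAlgX.matrixRank M = m ∧ (CAlgX.detIdeal M = ⊤ ∨ ∃ a ∈ CAlgX.detIdeal M, IsRegular a) := by
  constructor
  · intro hinj
    have hann := Groth.Agent.Helper13McCoy.annihilator_minorIdeal_eq_bot M hinj
    have hne : CAlgX.minorIdeal M m ≠ ⊥ := by
      intro h0
      rw [h0] at hann
      have h1 : (1 : R) ∈ (⊥ : Ideal R).annihilator := by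
        rw [Submodule.mem_annihilator]
        intro x hx
        rw [Submodule.mem_bot] at hx
        rw [hx, smul_zero]
      rw [hann, Submodule.mem_bot] at h1
      exact one_ne_zero h1
    have hrank := Groth.Agent.Helper13McCoy.matrixRank_eq M hne
    refine ⟨hrank, ?_⟩
    unfold CAlgX.detIdeal
    rw [hrank]
    exact (annihilator_eq_bot_iff _).mp hann
  · rintro ⟨hrank, hI⟩
    unfold CAlgX.detIdeal at hI
    rw [hrank] at hI
    exact Groth.Agent.Helper13McCoy.injective_of_annihilator M ((annihilator_eq_bot_iff _).mpr hI)

end Groth.Agent.S9278
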