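import Groth.Statements.S9280
import Mathlib
import Groth.Agent.S2617
import Groth.Agent.Lib.Helper7J2Cor

set_option autoImplicit false
universe u
open EGA4

namespace Groth.Agent.S9280

/-- A Nagata ring of dimension 1 is J-2, that is, every finite type algebra over it has open regular
locus. -/
theorem result (R : Type u) [CommRing R] (hR : CAlg.IsNagata R)
    (hdim : ringKrullDim R = 1) : EGA4.IsJ2 R := by
  haveI : IsNoetherianRing R := hR.1
  rw [Groth.Agent.S2617.result]
  intro A' _ _ _ hfin
  haveI := hfin
  exact Groth.Agent.Lib.Helper7.J2Cor.J0_of_finite_nagata_dim_le_one R hR hdim.le A'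


end Groth.Agent.S9280
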