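import Groth.Statements.S9283
-- import your own Groth.Agent.* helpers here

set_option autoImplicit false
universe u
open CAlg

namespace Groth.Agent.S9283

theorem aux (R : Type u) [CommRing R] [IsLocalRing R] (s : Finset R)
    (hs : ∀ g ∈ s, g ∈ IsLocalRing.maximalIdeal R) (x : R) (hx : x ≠ 0)
    (h : ∀ f ∈ IsLocalRing.maximalIdeal R, ∃ n : ℕ, f ^ n * x = 0) :
    ∃ y : R, y ≠ 0 ∧ (∀ f ∈ IsLocalRing.maximalIdeal R, ∃ n : ℕ, f ^ n * y = 0) ∧
      ∀ g ∈ s, g * y = 0 := by
  classical
  induction s using Finset.induction_on with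
  | empty => exact ⟨x, hx, h, by simp⟩
  | insert a s ha ih =>
    obtain ⟨y, hy, hy', hys⟩ := ih (fun g hg => hs g (Finset.mem_insert_of_mem hg))
    obtain ⟨n, hn⟩ := hy' a (hs a (Finset.mem_insert_self a s))
    -- least n with a^n * y = 0
    have hex : ∃ n : ℕ, a ^ n * y = 0 := ⟨n, hn⟩
    set m := Nat.find hex with hm
    have hm0 : a ^ m * y = 0 := Nat.find_spec hex
    have hmpos : m ≠ 0 := by
      intro h0
      rw [h0] at hm0
      simp at hm0
      exact hy hm0
    obtain ⟨k, hk⟩ := Nat.exists_eq_succ_of_ne_zero hmpos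
    have hk' : a ^ k * y ≠ 0 := by
      intro h0
      have := Nat.find_min' hex h0
      omega
    refine ⟨a ^ k * y, hk', ?_, ?_⟩
    · intro f hf
      obtain ⟨j, hj⟩ := hy' f hf
      refine ⟨j, ?_⟩
      calc f ^ j * (a ^ k * y) = a ^ k * (f ^ j * y) := by ring
        _ = 0 := by rw [hj, mul_zero]
    · intro g hg
      rcases Finset.mem_insert.mp hg with rfl | hg
      · calc g * (g ^ k * y) = g ^ (k+1) * y := by ring
          _ = 0 := by rw [← Nat.succ_eq_add_one, ← hk]; exact hm0
      · calc g * (a ^ k * y) = a ^ k * (g * y) := by ring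
          _ = 0 := by rw [hys g hg, mul_zero]


/-- Let R be an auto-associated ring, that is, a local ring whose maximal ideal is weakly associated to
R: some nonzero x ∈ R is killed by a power of every element of the maximal ideal. Then every proper
finitely generated ideal of R has a nonzero annihilator. -/
theorem result (R : Type u) [CommRing R] [IsLocalRing R]
    (h : ∃ x : R, x ≠ 0 ∧ ∀ f ∈ IsLocalRing.maximalIdeal R, ∃ n : ℕ, f ^ n * x = 0)
    (I : Ideal R) (hI : I.FG) (hI' : I ≠ ⊤) : I.annihilator ≠ ⊥ := by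
  classical
  obtain ⟨x, hx, hx'⟩ := h
  obtain ⟨s, rfl⟩ := hI
  have hs : ∀ g ∈ s, g ∈ IsLocalRing.maximalIdeal R := by
    intro g hg
    exact IsLocalRing.le_maximalIdeal hI' (Ideal.subset_span hg)
  obtain ⟨y, hy, -, hys⟩ := aux R s hs x hx hx'
  intro hbot
  apply hy
  have : y ∈ (Ideal.span (s : Set R)).annihilator := by
    rw [Submodule.mem_annihilator_span]
    intro g
    simpa [mul_comm] using hys g.1 g.2
  rw [hbot] at this
  simpa using this

end Groth.Agent.S9283
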