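import Groth.Statements.S9285
-- import your own Groth.Agent.* helpers here

set_option autoImplicit false
universe u
open CAlg

namespace Groth.Agent.S9285

/-- A ring R has the property that every proper finitely generated ideal has a nonzero annihilator if
and only if every injective linear map R → R^n admits a retraction. -/
theorem result (R : Type u) [CommRing R] :
    (∀ I : Ideal R, I.FG → I ≠ ⊤ → I.annihilator ≠ ⊥) ↔
      ∀ (n : ℕ) (u : R →ₗ[R] (Fin n → R)), Function.Injective u →
        ∃ v : (Fin n → R) →ₗ[R] R, v.comp u = LinearMap.id := by
  classical
  constructor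
  · intro hP n u hu
    set a : Fin n → R := u 1 with ha
    have hur : ∀ r : R, u r = r • a := by
      intro r
      have : u (r • (1 : R)) = r • u 1 := u.map_smul r 1
      simpa using this
    have hann : (Ideal.span (Set.range a)).annihilator = ⊥ := by
      rw [eq_bot_iff]
      intro r hr
      rw [Submodule.mem_annihilator_span] at hr
      have : u r = 0 := by
        rw [hur r]
        funext i
        simpa using hr ⟨a i, Set.mem_range_self i⟩
      have h0 : r = 0 := hu (by rw [this, map_zero])
      simpa using h0
    have htop : Ideal.span (Set.range a) = ⊤ := by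
      by_contra hne
      exact hP _ ⟨Finset.univ.image a, by simp⟩ hne hann
    have h1 : (1 : R) ∈ Ideal.span (Set.range a) := by rw [htop]; trivial
    obtain ⟨b, hb⟩ := (Ideal.mem_span_range_iff_exists_fun).mp h1
    refine ⟨∑ i, b i • LinearMap.proj i, ?_⟩
    ext
    simp only [LinearMap.comp_apply, LinearMap.id_apply, hur, one_smul]
    simp only [LinearMap.sum_apply, LinearMap.smul_apply, LinearMap.proj_apply, smul_eq_mul]
    exact hb
  · intro hS I hI hI' hann
    obtain ⟨n, a, ha⟩ := Submodule.fg_iff_exists_fin_generating_family.mp hI
    let u : R →ₗ[R] (Fin n → R) := LinearMap.toSpanSingleton R (Fin n → R) a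
    have hu : Function.Injective u := by
      rw [injective_iff_map_eq_zero]
      intro r hr
      have hr' : r • a = 0 := hr
      have : r ∈ I.annihilator := by
        rw [← ha]
        show r ∈ (Ideal.span (Set.range a)).annihilator
        rw [Submodule.mem_annihilator_span]
        rintro ⟨_, i, rfl⟩
        have := congrFun hr' i
        simpa using this
      rw [hann] at this
      simpa using this
    obtain ⟨v, hv⟩ := hS n u hu
    have h1 : v a = 1 := by
      have := LinearMap.congr_fun hv 1
      simpa [u] using this
    apply hI'
    rw [Ideal.eq_top_iff_one, ← h1, ← ha]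
    have hsum : a = ∑ i, a i • (Pi.single i (1 : R) : Fin n → R) := by
      funext j
      simp [Finset.sum_apply, Pi.single_apply]
    rw [hsum, map_sum]
    refine Submodule.sum_mem _ (fun i _ => ?_)
    rw [map_smul, smul_eq_mul]
    refine Ideal.mul_mem_right _ _ ?_
    exact Submodule.subset_span ⟨i, by simp [Finset.sum_apply, Pi.single_apply]⟩

end Groth.Agent.S9285
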