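import Groth.Statements.S9291
import Mathlib.RingTheory.Localization.Ideal
-- import your own Groth.Agent.* helpers here

set_option autoImplicit false
universe u
open EtAlg

namespace Groth.Agent.S9291

/-- Let A be a ring, I an ideal and u a unit of A/I. Then there is an étale ring map A → A' such that
A/I → A'/IA' is an isomorphism, together with a unit of A' mapping to the image of u. -/
theorem result (A : Type u) [CommRing A] (I : Ideal A) (u : (A ⧸ I)ˣ) :
    ∃ (A' : Type u) (_ : CommRing A') (_ : Algebra A A'), Algebra.Etale A A' ∧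
      Function.Bijective (Ideal.quotientMap (Ideal.map (algebraMap A A') I) (algebraMap A A')
        Ideal.le_comap_map) ∧
      ∃ u' : A'ˣ, Ideal.Quotient.mk (Ideal.map (algebraMap A A') I) (u' : A') =
        Ideal.quotientMap (Ideal.map (algebraMap A A') I) (algebraMap A A') Ideal.le_comap_map
          (u : A ⧸ I) := by
  classical
  obtain ⟨a, ha⟩ := Ideal.Quotient.mk_surjective (u : A ⧸ I)
  obtain ⟨b, hb⟩ := Ideal.Quotient.mk_surjective ((u⁻¹ : (A ⧸ I)ˣ) : A ⧸ I)
  refine ⟨Localization.Away a, inferInstance, inferInstance, inferInstance, ?_, ?_⟩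
  · set φ := algebraMap A (Localization.Away a) with hφ
    have hunit : ∀ n : ℕ, IsUnit (φ (a ^ n)) := fun n =>
      IsLocalization.map_units (Localization.Away a) (⟨a ^ n, n, rfl⟩ : Submonoid.powers a)
    constructor
    · rw [injective_iff_map_eq_zero]
      intro x hx
      obtain ⟨x, rfl⟩ := Ideal.Quotient.mk_surjective x
      rw [Ideal.quotientMap_mk, Ideal.Quotient.eq_zero_iff_mem,
        IsLocalization.mem_map_algebraMap_iff (Submonoid.powers a)] at hx
      obtain ⟨⟨⟨i, hi⟩, ⟨_, n, rfl⟩⟩, hx⟩ := hx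
      simp only at hx
      rw [← map_mul, IsLocalization.eq_iff_exists (Submonoid.powers a)] at hx
      obtain ⟨⟨_, m, rfl⟩, hx⟩ := hx
      simp only at hx
      have h1 : a ^ m * (x * a ^ n) ∈ I := by rw [hx]; exact I.mul_mem_left _ hi
      have h2 : (Ideal.Quotient.mk I) (a ^ m * (x * a ^ n)) = 0 :=
        Ideal.Quotient.eq_zero_iff_mem.mpr h1
      rw [map_mul, map_mul, map_pow, map_pow, ha] at h2
      have h3 : (u : A ⧸ I) ^ (m + n) * (Ideal.Quotient.mk I) x = 0 := by
        rw [pow_add]; rw [← h2]; ring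
      have h4 : IsUnit ((u : A ⧸ I) ^ (m + n)) := (u.isUnit).pow _
      exact (h4.mul_right_eq_zero).mp h3
    · intro y'
      obtain ⟨z, rfl⟩ := Ideal.Quotient.mk_surjective y'
      obtain ⟨⟨y, ⟨_, n, rfl⟩⟩, hz⟩ := IsLocalization.surj (Submonoid.powers a) z
      simp only at hz
      refine ⟨Ideal.Quotient.mk I (y * b ^ n), ?_⟩
      rw [Ideal.quotientMap_mk, Ideal.Quotient.eq]
      have h1 : y - a ^ n * (y * b ^ n) ∈ I := by
        rw [← Ideal.Quotient.eq_zero_iff_mem, map_sub, map_mul, map_mul, map_pow, map_pow, ha, hb]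
        have : (u : A ⧸ I) ^ n * ((u⁻¹ : (A ⧸ I)ˣ) : A ⧸ I) ^ n = 1 := by
          rw [← mul_pow]; simp
        calc (Ideal.Quotient.mk I) y - (u : A ⧸ I) ^ n * ((Ideal.Quotient.mk I) y * ((u⁻¹ : (A ⧸ I)ˣ) : A ⧸ I) ^ n)
            = (Ideal.Quotient.mk I) y * (1 - (u : A ⧸ I) ^ n * ((u⁻¹ : (A ⧸ I)ˣ) : A ⧸ I) ^ n) := by ring
          _ = 0 := by rw [this, sub_self, mul_zero]
      have h2 : φ (a ^ n) * (z - φ (y * b ^ n)) ∈ Ideal.map φ I := by
        have : φ (a ^ n) * (z - φ (y * b ^ n)) = φ (y - a ^ n * (y * b ^ n)) := by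
          rw [map_sub, mul_sub, ← hz, ← map_mul]; ring
        rw [this]
        exact Ideal.mem_map_of_mem _ h1
      obtain ⟨w, hw⟩ := (hunit n).exists_left_inv
      have h3 := (Ideal.map φ I).mul_mem_left w h2
      rw [← mul_assoc, hw, one_mul] at h3
      have h4 := (Ideal.map φ I).neg_mem h3
      rwa [neg_sub] at h4
  · have hunit : IsUnit (algebraMap A (Localization.Away a) a) :=
      IsLocalization.map_units (Localization.Away a) (⟨a, 1, by simp⟩ : Submonoid.powers a)
    refine ⟨hunit.unit, ?_⟩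
    rw [← ha, Ideal.quotientMap_mk]
    rfl

end Groth.Agent.S9291
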