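import Groth.Statements.S9292
import Mathlib.RingTheory.Localization.Ideal
import Mathlib.RingTheory.Etale.Pi
-- import your own Groth.Agent.* helpers here

set_option autoImplicit false
universe u
open EtAlg

namespace Groth.Agent.S9292

/-- An element of a finite product whose components lie in the componentwise extended ideals
lies in the extended ideal. -/
theorem mem_map_pi {A : Type u} [CommRing A] (I : Ideal A) {n : ℕ} (B : Fin n → Type u)
    [∀ k, CommRing (B k)] [∀ k, Algebra A (B k)] (s : Π k, B k)
    (hs : ∀ k, s k ∈ Ideal.map (algebraMap A (B k)) I) :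
    s ∈ Ideal.map (algebraMap A (Π k, B k)) I := by
  classical
  have key : ∀ k, ∀ t ∈ Ideal.map (algebraMap A (B k)) I,
      (Pi.single k t : Π k, B k) ∈ Ideal.map (algebraMap A (Π k, B k)) I := by
    intro k t ht
    refine Submodule.span_induction ?_ ?_ ?_ ?_ ht
    · rintro _ ⟨i, hi, rfl⟩
      have : (Pi.single k (algebraMap A (B k) i) : Π k, B k) =
          algebraMap A (Π k, B k) i * Pi.single k 1 := by
        funext l
        by_cases hl : l = k
        · subst hl; simp
        · simp [hl]
      rw [this]
      exact Ideal.mul_mem_right _ _ (Ideal.mem_map_of_mem _ hi)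
    · rw [Pi.single_zero]; exact zero_mem _
    · intro x y _ _ hx hy
      rw [Pi.single_add]; exact add_mem hx hy
    · intro r x _ hx
      rw [smul_eq_mul]
      have : (Pi.single k (r * x) : Π k, B k) = Pi.single k r * Pi.single k x := by
        rw [← Pi.single_mul]
      rw [this]
      exact Ideal.mul_mem_left _ _ hx
  have : s = ∑ k, Pi.single k (s k) := by
    rw [Finset.univ_sum_single]
  rw [this]
  exact Submodule.sum_mem _ (fun k _ => key k (s k) (hs k))

theorem exists_pow_mul_mem {A : Type u} [CommRing A] (I : Ideal A) (a x : A)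
    (h : algebraMap A (Localization.Away a) x ∈ Ideal.map (algebraMap A (Localization.Away a)) I) :
    ∃ m : ℕ, a ^ m * x ∈ I := by
  rw [IsLocalization.mem_map_algebraMap_iff (Submonoid.powers a)] at h
  obtain ⟨⟨⟨i, hi⟩, ⟨_, n, rfl⟩⟩, hx⟩ := h
  simp only at hx
  rw [← map_mul, IsLocalization.eq_iff_exists (Submonoid.powers a)] at hx
  obtain ⟨⟨_, m, rfl⟩, hx⟩ := hx
  simp only at hx
  refine ⟨m + n, ?_⟩
  have h1 : a ^ m * (x * a ^ n) ∈ I := by rw [hx]; exact I.mul_mem_left _ hi
  have : a ^ (m + n) * x = a ^ m * (x * a ^ n) := by rw [pow_add]; ring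
  rw [this]; exact h1


/-- Let A be a ring, I an ideal, and e_1, ..., e_n a complete system of orthogonal idempotents of A/I
(equivalently a finite disjoint open covering of Spec(A/I)). Then one can find an A-algebra A' that
is étale over A, such that the induced map A/I → A'/IA' is bijective, together with a complete
system of orthogonal idempotents of A' lifting the e_j. -/
theorem result (A : Type u) [CommRing A] (I : Ideal A)
    (n : ℕ) (e : Fin n → A ⧸ I) (he : CompleteOrthogonalIdempotents e) :
    ∃ (A' : Type u) (_ : CommRing A') (_ : Algebra A A'), Algebra.Etale A A' ∧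
      Function.Bijective (Ideal.quotientMap (Ideal.map (algebraMap A A') I) (algebraMap A A')
        Ideal.le_comap_map) ∧
      ∃ e' : Fin n → A', CompleteOrthogonalIdempotents e' ∧
        ∀ j, Ideal.Quotient.mk (Ideal.map (algebraMap A A') I) (e' j) =
          Ideal.quotientMap (Ideal.map (algebraMap A A') I) (algebraMap A A') Ideal.le_comap_map
            (e j) := by
  classical
  choose a ha using fun j => Ideal.Quotient.mk_surjective (e j)
  let B : Fin n → Type u := fun k => Localization.Away (a k)
  let alg : ∀ k, A →+* B k := fun k => algebraMap A (B k)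
  have hunit : ∀ k, IsUnit (alg k (a k)) := fun k =>
    IsLocalization.map_units (Localization.Away (a k)) (⟨a k, 1, by simp⟩ : Submonoid.powers (a k))
  -- F1, F2
  have hidem : ∀ k, a k * a k - a k ∈ I := by
    intro k
    rw [← Ideal.Quotient.eq_zero_iff_mem, map_sub, map_mul, ha, (he.idem k).eq, sub_self]
  have hortho : ∀ j k, j ≠ k → a k * a j ∈ I := by
    intro j k hjk
    rw [← Ideal.Quotient.eq_zero_iff_mem, map_mul, ha, ha]
    exact he.ortho (Ne.symm hjk)
  have F1 : ∀ k, alg k (a k) - 1 ∈ Ideal.map (alg k) I := by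
    intro k
    obtain ⟨w, hw⟩ := (hunit k).exists_left_inv
    have h1 : alg k (a k * a k - a k) ∈ Ideal.map (alg k) I := Ideal.mem_map_of_mem _ (hidem k)
    have h2 := (Ideal.map (alg k) I).mul_mem_left w h1
    have : w * alg k (a k * a k - a k) = alg k (a k) - 1 := by
      rw [map_sub, map_mul, mul_sub, ← mul_assoc, hw, one_mul]
    rwa [this] at h2
  have F2 : ∀ j k, j ≠ k → alg k (a j) ∈ Ideal.map (alg k) I := by
    intro j k hjk
    obtain ⟨w, hw⟩ := (hunit k).exists_left_inv
    have h1 : alg k (a k * a j) ∈ Ideal.map (alg k) I := Ideal.mem_map_of_mem _ (hortho j k hjk)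
    have h2 := (Ideal.map (alg k) I).mul_mem_left w h1
    have : w * alg k (a k * a j) = alg k (a j) := by
      rw [map_mul, ← mul_assoc, hw, one_mul]
    rwa [this] at h2
  have F1' : ∀ k, Ideal.Quotient.mk (Ideal.map (alg k) I) (alg k (a k)) = 1 := by
    intro k
    have := Ideal.Quotient.eq.mpr (F1 k)
    simpa using this
  have F2' : ∀ j k, j ≠ k → Ideal.Quotient.mk (Ideal.map (alg k) I) (alg k (a j)) = 0 :=
    fun j k hjk => Ideal.Quotient.eq_zero_iff_mem.mpr (F2 j k hjk)
  refine ⟨Π k, B k, inferInstance, inferInstance, inferInstance, ?_, ?_⟩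
  · constructor
    · rw [injective_iff_map_eq_zero]
      intro x hx
      obtain ⟨x, rfl⟩ := Ideal.Quotient.mk_surjective x
      rw [Ideal.quotientMap_mk, Ideal.Quotient.eq_zero_iff_mem] at hx
      have hk : ∀ k, e k * Ideal.Quotient.mk I x = 0 := by
        intro k
        have h1 : alg k x ∈ Ideal.map (alg k) I := by
          have := Ideal.mem_map_of_mem (Pi.evalRingHom B k) hx
          rw [Ideal.map_map] at this
          exact this
        obtain ⟨m, hm⟩ := exists_pow_mul_mem I (a k) x h1
        have h2 : (e k) ^ m * Ideal.Quotient.mk I x = 0 := by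
          have := Ideal.Quotient.eq_zero_iff_mem.mpr hm
          rwa [map_mul, map_pow, ha] at this
        calc e k * Ideal.Quotient.mk I x = e k ^ (m + 1) * Ideal.Quotient.mk I x := by
              rw [(he.idem k).pow_succ_eq]
          _ = e k * (e k ^ m * Ideal.Quotient.mk I x) := by ring
          _ = 0 := by rw [h2, mul_zero]
      calc Ideal.Quotient.mk I x = (∑ k, e k) * Ideal.Quotient.mk I x := by
            rw [he.complete, one_mul]
        _ = ∑ k, e k * Ideal.Quotient.mk I x := Finset.sum_mul _ _ _
        _ = 0 := Finset.sum_eq_zero (fun k _ => hk k)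
    · intro t'
      obtain ⟨t, rfl⟩ := Ideal.Quotient.mk_surjective t'
      have hsurj : ∀ k, ∃ (y : A) (m : ℕ), t k * alg k (a k ^ m) = alg k y := by
        intro k
        obtain ⟨⟨y, ⟨_, m, rfl⟩⟩, hz⟩ := IsLocalization.surj (Submonoid.powers (a k)) (t k)
        exact ⟨y, m, hz⟩
      choose y m hym using hsurj
      refine ⟨Ideal.Quotient.mk I (∑ j, a j * y j), ?_⟩
      rw [Ideal.quotientMap_mk, Ideal.Quotient.eq]
      apply mem_map_pi I B
      intro k
      show alg k (∑ j, a j * y j) - t k ∈ Ideal.map (alg k) I
      rw [← Ideal.Quotient.eq]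
      have h1 : Ideal.Quotient.mk (Ideal.map (alg k) I) (alg k (∑ j, a j * y j)) =
          Ideal.Quotient.mk (Ideal.map (alg k) I) (alg k (y k)) := by
        rw [map_sum, map_sum, Finset.sum_eq_single k]
        · rw [map_mul, map_mul, F1', one_mul]
        · intro j _ hj
          rw [map_mul, map_mul, F2' j k hj, zero_mul]
        · intro h; exact absurd (Finset.mem_univ k) h
      have h2 : Ideal.Quotient.mk (Ideal.map (alg k) I) (t k) =
          Ideal.Quotient.mk (Ideal.map (alg k) I) (alg k (y k)) := by
        rw [← hym k, map_mul, map_pow, map_pow, F1', one_pow, mul_one]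
      rw [h1, h2]
  · refine ⟨fun j => Pi.single j 1, CompleteOrthogonalIdempotents.single B, ?_⟩
    intro j
    rw [← ha j, Ideal.quotientMap_mk, Ideal.Quotient.eq]
    have hneg : algebraMap A (Π k, B k) (a j) - (Pi.single j 1 : Π k, B k) ∈
        Ideal.map (algebraMap A (Π k, B k)) I := by
      apply mem_map_pi I B
      intro k
      by_cases hk : k = j
      · subst hk
        simpa using F1 k
      · have : (algebraMap A (Π k, B k) (a j) - (Pi.single j 1 : Π k, B k)) k = alg k (a j) := by
          simp [hk, alg]
        rw [this]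
        exact F2 j k (Ne.symm hk)
    have := (Ideal.map (algebraMap A (Π k, B k)) I).neg_mem hneg
    rwa [neg_sub] at this

end Groth.Agent.S9292
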