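import Groth.Statements.S9300
-- import your own Groth.Agent.* helpers here

set_option autoImplicit false
universe u
open CAlg

namespace Groth.Agent.S9300

/-- Let A and B be domains and A → B a ring map for which the generic point of Spec(A) has a unique
preimage in Spec(B). Then every nonzero ideal of B has nonzero preimage in A. -/
theorem result (A B : Type u) [CommRing A] [IsDomain A]
    [CommRing B] [IsDomain B] (φ : A →+* B)
    (h : ∃! q : PrimeSpectrum B, Ideal.comap φ q.asIdeal = ⊥) (J : Ideal B) (hJ : J ≠ ⊥) :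
    Ideal.comap φ J ≠ ⊥ := by
  classical
  obtain ⟨q₀, hq₀, huniq⟩ := h
  -- φ is injective
  have hinj : Function.Injective φ := by
    rw [injective_iff_map_eq_zero]
    intro a ha
    have : a ∈ Ideal.comap φ q₀.asIdeal := by
      rw [Ideal.mem_comap, ha]; exact zero_mem _
    rw [hq₀] at this
    simpa using this
  have hbot : Ideal.comap φ (⊥ : Ideal B) = ⊥ := by
    rw [← RingHom.ker_eq_comap_bot]
    exact (RingHom.injective_iff_ker_eq_bot φ).mp hinj
  intro hJ0
  -- multiplicative set
  let S : Submonoid B := (nonZeroDivisors A).map φ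
  have hdisj : Disjoint (J : Set B) (S : Set B) := by
    rw [Set.disjoint_left]
    rintro b hbJ ⟨a, ha, rfl⟩
    have : a ∈ Ideal.comap φ J := hbJ
    rw [hJ0] at this
    have h0 : a = 0 := by simpa using this
    exact (nonZeroDivisors.ne_zero ha) h0
  obtain ⟨P, hP, hJP, hPS⟩ := Ideal.exists_le_prime_disjoint J S hdisj
  have hcomap : Ideal.comap φ P = ⊥ := by
    rw [eq_bot_iff]
    intro a ha
    by_contra h0
    have h0' : a ≠ 0 := by simpa using h0
    have : φ a ∈ (S : Set B) := ⟨a, mem_nonZeroDivisors_of_ne_zero h0', rfl⟩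
    exact Set.disjoint_left.mp hPS ha this
  have h1 := huniq ⟨P, hP⟩ hcomap
  have h2 := huniq ⟨⊥, Ideal.isPrime_bot⟩ hbot
  have hPbot : P = ⊥ := by
    have := h1.trans h2.symm
    exact congrArg PrimeSpectrum.asIdeal this
  apply hJ
  rw [eq_bot_iff]
  exact hJP.trans hPbot.le

end Groth.Agent.S9300
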