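import Groth.Statements.S9302
import Mathlib.Algebra.Polynomial.Identities
import Mathlib.Algebra.Polynomial.Div
import Mathlib.RingTheory.Jacobson.Ideal
-- import your own Groth.Agent.* helpers here

set_option autoImplicit false
universe u
open CategoryTheory
open EtAlg

namespace Groth.Agent.S9302

open CategoryTheory Limits Polynomial

theorem exists_of_compatible {J : Type u} [Preorder J] (F : J ⥤ CommRingCat.{u})
    (x : ∀ j, F.obj j) (hx : ∀ (i j : J) (φ : i ⟶ j), (F.map φ).hom (x i) = x j) :
    ∃ y : ((Limits.limit F : CommRingCat.{u}) : Type u), ∀ j, (Limits.limit.π F j).hom y = x j := by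
  let t := isLimitOfPreserves (forget CommRingCat.{u}) (limit.isLimit F)
  let s : (F ⋙ forget CommRingCat.{u}).sections := ⟨x, fun {i j} φ => hx i j φ⟩
  refine ⟨(Types.isLimitEquivSections t).symm s, fun j => ?_⟩
  exact Types.isLimitEquivSections_symm_apply t s j

theorem limit_ext' {J : Type u} [Preorder J] (F : J ⥤ CommRingCat.{u})
    (x y : ((Limits.limit F : CommRingCat.{u}) : Type u))
    (h : ∀ j, (Limits.limit.π F j).hom x = (Limits.limit.π F j).hom y) : x = y :=
  Concrete.limit_ext F x y h

theorem isUnit_of_forall {J : Type u} [Preorder J] (F : J ⥤ CommRingCat.{u})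
    (z : ((Limits.limit F : CommRingCat.{u}) : Type u))
    (hz : ∀ j, IsUnit ((Limits.limit.π F j).hom z)) : IsUnit z := by
  choose w hw using fun j => (hz j).exists_right_inv
  have hcomp : ∀ (i j : J) (φ : i ⟶ j), (F.map φ).hom (w i) = w j := by
    intro i j φ
    have h1 : (F.map φ).hom ((Limits.limit.π F i).hom z) = (Limits.limit.π F j).hom z := by
      have := Limits.limit.w F φ
      rw [← this]
      rfl
    have h2 : (Limits.limit.π F j).hom z * (F.map φ).hom (w i) = 1 := by
      rw [← h1, ← map_mul, hw i, map_one]
    -- uniqueness of inverses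
    calc (F.map φ).hom (w i) = (w j * (Limits.limit.π F j).hom z) * (F.map φ).hom (w i) := by
          rw [mul_comm (w j), hw j, one_mul]
      _ = w j * ((Limits.limit.π F j).hom z * (F.map φ).hom (w i)) := by ring
      _ = w j := by rw [h2, mul_one]
  obtain ⟨y, hy⟩ := exists_of_compatible F w hcomp
  refine IsUnit.of_mul_eq_one y ?_
  apply limit_ext' F
  intro j
  rw [map_mul, hy j, hw j, map_one]

theorem root_unique {R : Type u} [CommRing R] (I : Ideal R) (hI : I ≤ Ideal.jacobson ⊥)
    (g : R[X]) (a b : R) (ha : g.eval a = 0) (hb : g.eval b = 0) (hab : b - a ∈ I)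
    (hu : IsUnit (Ideal.Quotient.mk I (g.derivative.eval a))) : a = b := by
  obtain ⟨k, hk⟩ := Polynomial.binomExpansion g a (b - a)
  rw [add_sub_cancel, ha, hb, zero_add] at hk
  have h1 : (b - a) * (g.derivative.eval a + k * (b - a)) = 0 := by
    rw [hk]; ring
  haveI := isLocalHom_of_le_jacobson_bot I hI
  have h2 : IsUnit (g.derivative.eval a + k * (b - a)) := by
    apply isUnit_of_map_unit (Ideal.Quotient.mk I)
    have : Ideal.Quotient.mk I (g.derivative.eval a + k * (b - a)) =
        Ideal.Quotient.mk I (g.derivative.eval a) := by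
      rw [map_add, (Ideal.Quotient.eq_zero_iff_mem).mpr (I.mul_mem_left k hab), add_zero]
    rw [this]; exact hu
  have h3 := (h2.mul_left_eq_zero).mp h1
  exact (sub_eq_zero.mp h3).symm


/-- Henselian pairs are preserved under limits: for an inverse system (A_j, I_j) of henselian pairs over
a preordered set J, the limit A = lim A_j with the ideal I = lim I_j (elements all of whose
projections lie in the I_j) is a henselian pair. -/
theorem result (J : Type u) [Preorder J] (F : J ⥤ CommRingCat.{u})
    (I : ∀ j : J, Ideal (F.obj j))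
    (hI : ∀ (i j : J) (φ : i ⟶ j), Ideal.map (F.map φ).hom (I i) ≤ I j)
    (h : ∀ j : J, HenselianRing (F.obj j) (I j)) :
    HenselianRing ((Limits.limit F : CommRingCat.{u}) : Type u)
      (⨅ j : J, Ideal.comap (Limits.limit.π F j).hom (I j)) := by
  classical
  set L := ((Limits.limit F : CommRingCat.{u}) : Type u) with hL
  set 𝔞 : Ideal L := ⨅ j : J, Ideal.comap (Limits.limit.π F j).hom (I j) with h𝔞
  have hmem : ∀ x : L, x ∈ 𝔞 ↔ ∀ j, (Limits.limit.π F j).hom x ∈ I j := by
    intro x
    simp only [h𝔞, Ideal.mem_iInf, Ideal.mem_comap]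
  have hw : ∀ (i j : J) (φ : i ⟶ j) (x : L),
      (F.map φ).hom ((Limits.limit.π F i).hom x) = (Limits.limit.π F j).hom x := by
    intro i j φ x
    have := Limits.limit.w F φ
    rw [← this]
    rfl
  refine ⟨?_, ?_⟩
  · intro x hx
    rw [Ideal.mem_jacobson_bot]
    intro y
    apply isUnit_of_forall F
    intro j
    have h1 : (Limits.limit.π F j).hom x ∈ Ideal.jacobson ⊥ := (h j).jac ((hmem x).mp hx j)
    rw [Ideal.mem_jacobson_bot] at h1
    have := h1 ((Limits.limit.π F j).hom y)
    rwa [map_add, map_mul, map_one]
  · intro f hf a₀ hfa hunit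
    -- componentwise data
    have hj1 : ∀ j, (f.map (Limits.limit.π F j).hom).eval ((Limits.limit.π F j).hom a₀) ∈ I j := by
      intro j
      rw [Polynomial.eval_map_apply]
      exact (hmem _).mp hfa j
    have hj2 : ∀ j, IsUnit (Ideal.Quotient.mk (I j)
        ((f.map (Limits.limit.π F j).hom).derivative.eval ((Limits.limit.π F j).hom a₀))) := by
      intro j
      rw [Polynomial.derivative_map, Polynomial.eval_map_apply]
      obtain ⟨c, hc⟩ := hunit.exists_right_inv
      obtain ⟨c, rfl⟩ := Ideal.Quotient.mk_surjective c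
      rw [← map_mul, ← map_one (Ideal.Quotient.mk 𝔞), Ideal.Quotient.eq] at hc
      have h2 := (hmem _).mp hc j
      rw [map_sub, map_mul, map_one] at h2
      refine IsUnit.of_mul_eq_one (Ideal.Quotient.mk (I j) ((Limits.limit.π F j).hom c)) ?_
      rw [← map_mul, ← map_one (Ideal.Quotient.mk (I j)), Ideal.Quotient.eq]
      exact h2
    choose a ha1 ha2 using fun j =>
      (h j).is_henselian (f.map (Limits.limit.π F j).hom) (hf.map _)
        ((Limits.limit.π F j).hom a₀) (hj1 j) (hj2 j)
    have hcomp : ∀ (i j : J) (φ : i ⟶ j), (F.map φ).hom (a i) = a j := by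
      intro i j φ
      have hmap : (f.map (Limits.limit.π F i).hom).map (F.map φ).hom =
          f.map (Limits.limit.π F j).hom := by
        rw [Polynomial.map_map]
        congr 1
        ext x
        exact hw i j φ x
      -- both are roots of f_j close to a₀_j
      have hroot : (f.map (Limits.limit.π F j).hom).eval ((F.map φ).hom (a i)) = 0 := by
        rw [← hmap, Polynomial.eval_map_apply]
        have := ha1 i
        rw [Polynomial.IsRoot.def] at this
        rw [this, map_zero]
      have hclose : (F.map φ).hom (a i) - (Limits.limit.π F j).hom a₀ ∈ I j := by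
        rw [← hw i j φ a₀, ← map_sub]
        exact hI i j φ (Ideal.mem_map_of_mem _ (ha2 i))
      have hclose2 : (F.map φ).hom (a i) - a j ∈ I j := by
        have := (I j).sub_mem hclose (ha2 j)
        rwa [sub_sub_sub_cancel_right] at this
      have hunit_j : IsUnit (Ideal.Quotient.mk (I j)
          ((f.map (Limits.limit.π F j).hom).derivative.eval (a j))) := by
        -- derivative at a j ≡ derivative at a₀_j mod I j
        have hdvd := Polynomial.sub_dvd_eval_sub (a j) ((Limits.limit.π F j).hom a₀)
          (f.map (Limits.limit.π F j).hom).derivative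
        obtain ⟨c, hc⟩ := hdvd
        have : Ideal.Quotient.mk (I j) ((f.map (Limits.limit.π F j).hom).derivative.eval (a j)) =
            Ideal.Quotient.mk (I j)
              ((f.map (Limits.limit.π F j).hom).derivative.eval ((Limits.limit.π F j).hom a₀)) := by
          rw [Ideal.Quotient.eq, hc]
          exact (I j).mul_mem_right _ (ha2 j)
        rw [this]; exact hj2 j
      exact (root_unique (I j) (h j).jac (f.map (Limits.limit.π F j).hom) (a j)
        ((F.map φ).hom (a i)) (ha1 j) hroot hclose2 hunit_j).symm
    obtain ⟨y, hy⟩ := exists_of_compatible F a hcomp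
    refine ⟨y, ?_, ?_⟩
    · rw [Polynomial.IsRoot.def]
      apply limit_ext' F
      intro j
      rw [← Polynomial.eval_map_apply, hy j, map_zero]
      exact ha1 j
    · rw [hmem]
      intro j
      rw [map_sub, hy j]
      exact ha2 j

end Groth.Agent.S9302
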