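import Groth.Statements.S9303
import Mathlib
-- import your own Groth.Agent.* helpers here

set_option autoImplicit false
universe u
open CAlg

namespace Groth.Agent.S9303

section aux
variable {A : Type u} [CommRing A]

/-- general criterion for bijectivity of `A_f → D_f` -/
theorem bij_of (f : A) (D : Type u) [CommRing D] [Algebra A D]
    (hinj : ∀ a : A, algebraMap A D a = 0 → ∃ n : ℕ, f ^ n * a = 0)
    (hsurj : ∀ d : D, ∃ (a : A) (n : ℕ), algebraMap A D a = algebraMap A D (f ^ n) * d) :
    Function.Bijective (algebraMap (Localization.Away f)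
      (Localization (Algebra.algebraMapSubmonoid D (Submonoid.powers f)))) := by
  constructor
  · rw [injective_iff_map_eq_zero]
    intro z hz
    obtain ⟨⟨a, s⟩, rfl⟩ := IsLocalization.mk'_surjective (Submonoid.powers f) z
    dsimp only at hz ⊢
    rw [IsLocalization.algebraMap_mk' D (Localization.Away f)
      (Localization (Algebra.algebraMapSubmonoid D (Submonoid.powers f))) a s,
      IsLocalization.mk'_eq_zero_iff] at hz
    obtain ⟨⟨m, hm⟩, hma⟩ := hz
    obtain ⟨m', ⟨p, rfl⟩, rfl⟩ := hm
    dsimp only at hma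
    rw [← map_mul] at hma
    obtain ⟨n, hn⟩ := hinj _ hma
    rw [IsLocalization.mk'_eq_zero_iff]
    refine ⟨⟨f ^ (n + p), ⟨n + p, rfl⟩⟩, ?_⟩
    dsimp only
    rw [pow_add, mul_assoc]
    exact hn
  · intro w
    obtain ⟨⟨d, s⟩, rfl⟩ := IsLocalization.mk'_surjective
      (Algebra.algebraMapSubmonoid D (Submonoid.powers f)) w
    obtain ⟨s, hs⟩ := s
    obtain ⟨m', ⟨k, rfl⟩, rfl⟩ := hs
    obtain ⟨a, n, han⟩ := hsurj d
    refine ⟨IsLocalization.mk' (Localization.Away f) a
      (⟨f ^ (n + k), ⟨n + k, rfl⟩⟩ : Submonoid.powers f), ?_⟩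
    rw [IsLocalization.algebraMap_mk' D (Localization.Away f)
      (Localization (Algebra.algebraMapSubmonoid D (Submonoid.powers f)))]
    apply IsLocalization.mk'_eq_of_eq
    dsimp only
    rw [han, pow_add, map_mul]
    ring

section
variable (f : A) (C : Type u) [CommRing C] [Algebra A C]
local notation "Af" => Localization.Away f
local notation "Cf" => Localization (Algebra.algebraMapSubmonoid C (Submonoid.powers f))

/-- facts extracted from the hypothesis at `f` -/
theorem facts
    (e : Af) (he : IsIdempotentElem e)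
    (hloc : IsLocalization.Away e Cf) :
    (∀ j : A, algebraMap A C j = 0 → e * algebraMap A Af j = 0) ∧
    (∃ j₀ : A, algebraMap A C j₀ = 0 ∧ ∃ q : ℕ, algebraMap A Af j₀ =
        algebraMap A Af (f ^ q) * (1 - e)) ∧
    (∀ c : C, ∃ (a : A) (p : ℕ), algebraMap A C a = algebraMap A C (f ^ p) * c) := by
  haveI : IsLocalization (Submonoid.powers e) Cf := hloc
  have hpow : ∀ n : ℕ, e * e ^ n = e := by
    intro n
    induction n with
    | zero => simp
    | succ n ih => rw [pow_succ, ← mul_assoc, ih]; exact he
  -- kernel characterization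
  have hker : ∀ z : Af, algebraMap Af Cf z = 0 → e * z = 0 := by
    intro z hz
    obtain ⟨⟨m, n, rfl⟩, hm⟩ := (IsLocalization.map_eq_zero_iff (Submonoid.powers e) Cf z).1 hz
    dsimp only at hm
    calc e * z = e * e ^ n * z := by rw [hpow]
      _ = e * (e ^ n * z) := by ring
      _ = 0 := by rw [hm, mul_zero]
  have hunit : IsUnit (algebraMap Af Cf e) :=
    IsLocalization.map_units Cf (⟨e, Submonoid.mem_powers e⟩ : Submonoid.powers e)
  have hone : algebraMap Af Cf e = 1 := by
    have h2 : algebraMap Af Cf e * algebraMap Af Cf e = algebraMap Af Cf e * 1 := by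
      rw [← map_mul, he.eq, mul_one]
    exact hunit.mul_left_cancel h2
  refine ⟨?_, ?_, ?_⟩
  · intro j hj
    apply hker
    rw [← IsScalarTower.algebraMap_apply A Af Cf, IsScalarTower.algebraMap_apply A C Cf, hj,
      map_zero]
  · obtain ⟨⟨a, s⟩, has⟩ := IsLocalization.mk'_surjective (Submonoid.powers f) (1 - e)
    obtain ⟨s, q, rfl⟩ := s
    dsimp only at has
    rw [IsLocalization.mk'_eq_iff_eq_mul] at has
    dsimp only at has
    -- algebraMap a = (1 - e) * alg (f^q)
    have h0 : algebraMap C Cf (algebraMap A C a) = 0 := by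
      rw [← IsScalarTower.algebraMap_apply A C Cf, IsScalarTower.algebraMap_apply A Af Cf, has,
        map_mul, map_sub, map_one, hone, sub_self, zero_mul]
    obtain ⟨⟨m, hm⟩, hma⟩ := (IsLocalization.map_eq_zero_iff
      (Algebra.algebraMapSubmonoid C (Submonoid.powers f)) Cf _).1 h0
    obtain ⟨m', ⟨p, rfl⟩, rfl⟩ := hm
    dsimp only at hma
    refine ⟨f ^ p * a, by rw [map_mul]; exact hma, p + q, ?_⟩
    rw [map_mul, has, pow_add, map_mul]
    ring
  · intro c
    obtain ⟨⟨x, ⟨m, n, rfl⟩⟩, hx⟩ := IsLocalization.surj (Submonoid.powers e) (algebraMap C Cf c)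
    dsimp only at hx
    rw [map_pow, hone, one_pow, mul_one] at hx
    obtain ⟨⟨a, s⟩, rfl⟩ := IsLocalization.mk'_surjective (Submonoid.powers f) x
    obtain ⟨s, k, rfl⟩ := s
    dsimp only at hx
    have h1 : algebraMap C Cf (c * algebraMap A C (f ^ k)) = algebraMap C Cf (algebraMap A C a) := by
      rw [map_mul, hx, ← IsScalarTower.algebraMap_apply A C Cf,
        IsScalarTower.algebraMap_apply A Af Cf, ← map_mul,
        ← IsScalarTower.algebraMap_apply A C Cf, IsScalarTower.algebraMap_apply A Af Cf]
      congr 1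
      exact IsLocalization.mk'_spec _ a _
    obtain ⟨⟨m, hm⟩, hma⟩ := (IsLocalization.eq_iff_exists
      (Algebra.algebraMapSubmonoid C (Submonoid.powers f)) Cf).1 h1
    obtain ⟨m', ⟨p, rfl⟩, rfl⟩ := hm
    dsimp only at hma
    refine ⟨f ^ p * a, p + k, ?_⟩
    rw [map_mul, ← hma, pow_add, map_mul]
    ring
end

end aux

/-- Let A be a ring, I a finitely generated ideal and A → C a ring map such that for every f ∈ I the map
A_f → C_f is the localization of A_f at an idempotent. Then there is a surjection A → C' (C' = A/K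
for an ideal K) such that A_f → (C × C')_f is an isomorphism for every f ∈ I. -/
theorem result (A : Type u) [CommRing A]
    (I : Ideal A) (hI : I.FG) (C : Type u) [CommRing C] [Algebra A C]
    (h : ∀ f ∈ I, ∃ e : Localization.Away f, IsIdempotentElem e ∧
      IsLocalization.Away e (Localization (Algebra.algebraMapSubmonoid C (Submonoid.powers f)))) :
    ∃ K : Ideal A, ∀ f ∈ I, Function.Bijective
      (algebraMap (Localization.Away f)
        (Localization (Algebra.algebraMapSubmonoid (C × (A ⧸ K)) (Submonoid.powers f)))) := by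
  classical
  -- extract data
  have hdata : ∀ f ∈ I, ∃ e : Localization.Away f, IsIdempotentElem e ∧
      (∀ j : A, algebraMap A C j = 0 → e * algebraMap A (Localization.Away f) j = 0) ∧
      (∃ j₀ : A, algebraMap A C j₀ = 0 ∧ ∃ q : ℕ, algebraMap A (Localization.Away f) j₀ =
        algebraMap A (Localization.Away f) (f ^ q) * (1 - e)) ∧
      (∀ c : C, ∃ (a : A) (p : ℕ), algebraMap A C a = algebraMap A C (f ^ p) * c) := by
    intro f hf
    obtain ⟨e, he, hloc⟩ := h f hf
    exact ⟨e, he, facts f C e he hloc⟩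
  -- the ideal K
  let K : Ideal A :=
    { carrier := {a | ∀ f ∈ I, ∀ j : A, algebraMap A C j = 0 →
        algebraMap A (Localization.Away f) (a * j) = 0}
      add_mem' := by
        intro a b ha hb f hf j hj
        rw [add_mul, map_add, ha f hf j hj, hb f hf j hj, add_zero]
      zero_mem' := by
        intro f hf j hj
        rw [zero_mul, map_zero]
      smul_mem' := by
        intro c a ha f hf j hj
        rw [smul_eq_mul, mul_assoc, map_mul, ha f hf j hj, mul_zero] }
  have hK : ∀ a : A, a ∈ K ↔ ∀ f ∈ I, ∀ j : A, algebraMap A C j = 0 →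
        algebraMap A (Localization.Away f) (a * j) = 0 := fun a => Iff.rfl
  refine ⟨K, ?_⟩
  intro f hf
  obtain ⟨s, rfl⟩ := hI
  -- partition of a power of f
  have K2 : ∃ (M : ℕ) (y' j' : A), y' ∈ K ∧ algebraMap A C j' = 0 ∧ f ^ M = y' + j' := by
    obtain ⟨e, he, P1, ⟨j₀, hj₀, q, hq⟩, -⟩ := hdata f hf
    obtain ⟨⟨x, t⟩, hx⟩ := IsLocalization.mk'_surjective (Submonoid.powers f) e
    obtain ⟨t, n, rfl⟩ := t
    dsimp only at hx
    rw [IsLocalization.mk'_eq_iff_eq_mul] at hx
    dsimp only at hx
    -- hx : algebraMap x = e * algebraMap (f^n)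
    -- for each generator g, choose data
    have hgen : ∀ g ∈ s, ∃ (jg : A) (N : ℕ), f ^ N * (x * jg) = 0 ∧
        ∀ j : A, algebraMap A C j = 0 → ∀ y : A, y * jg = 0 → ∃ N' : ℕ, g ^ N' * (y * j) = 0 := by
      intro g hg
      have hgI : g ∈ Ideal.span (s : Set A) := Ideal.subset_span hg
      obtain ⟨eg, heg, Q1, ⟨jg, hjg, qg, hqg⟩, -⟩ := hdata g hgI
      have h0 : algebraMap A (Localization.Away f) (x * jg) = 0 := by
        rw [map_mul, hx]
        calc e * algebraMap A (Localization.Away f) (f ^ n) * algebraMap A (Localization.Away f) jg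
            = algebraMap A (Localization.Away f) (f ^ n) *
              (e * algebraMap A (Localization.Away f) jg) := by ring
          _ = 0 := by rw [P1 jg hjg, mul_zero]
      obtain ⟨⟨m, N, rfl⟩, hN⟩ := (IsLocalization.map_eq_zero_iff (Submonoid.powers f)
        (Localization.Away f) _).1 h0
      dsimp only at hN
      refine ⟨jg, N, hN, ?_⟩
      intro j hj y hy
      have h1 : algebraMap A (Localization.Away g) (g ^ qg * (y * j)) = 0 := by
        have e1 : algebraMap A (Localization.Away g) j =
            (1 - eg) * algebraMap A (Localization.Away g) j := by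
          rw [sub_mul, one_mul, Q1 j hj, sub_zero]
        rw [map_mul, map_mul, e1]
        calc algebraMap A (Localization.Away g) (g ^ qg) *
            (algebraMap A (Localization.Away g) y *
              ((1 - eg) * algebraMap A (Localization.Away g) j))
            = algebraMap A (Localization.Away g) y *
              (algebraMap A (Localization.Away g) (g ^ qg) * (1 - eg)) *
                algebraMap A (Localization.Away g) j := by ring
          _ = 0 := by rw [← hqg, ← map_mul, hy, map_zero, zero_mul]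
      obtain ⟨⟨m, N', rfl⟩, hN'⟩ := (IsLocalization.map_eq_zero_iff (Submonoid.powers g)
        (Localization.Away g) _).1 h1
      dsimp only at hN'
      refine ⟨N' + qg, ?_⟩
      rw [pow_add, mul_assoc]
      exact hN'
    choose! jg Ng hg1 hg2 using hgen
    set m := s.sup Ng with hm
    set y := f ^ m * x with hy
    have hyj : ∀ g ∈ s, y * jg g = 0 := by
      intro g hg
      have hle : Ng g ≤ m := Finset.le_sup hg
      obtain ⟨d, hd⟩ := Nat.exists_eq_add_of_le hle
      calc y * jg g = f ^ d * (f ^ (Ng g) * (x * jg g)) := by rw [hy, hd, pow_add]; ring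
        _ = 0 := by rw [hg1 g hg, mul_zero]
    have hyK : y ∈ K := by
      rw [hK]
      intro h hh j hj
      let Z : Ideal A := (Ideal.span {y * j}).annihilator
      have hle : Ideal.span (s : Set A) ≤ Z.radical := by
        rw [Ideal.span_le]
        intro g hg
        obtain ⟨N', hN'⟩ := hg2 g hg j hj y (hyj g hg)
        refine ⟨N', ?_⟩
        rw [Submodule.mem_annihilator_span_singleton, smul_eq_mul]
        exact hN'
      obtain ⟨N, hN⟩ := hle hh
      rw [Submodule.mem_annihilator_span_singleton, smul_eq_mul] at hN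
      exact (IsLocalization.map_eq_zero_iff (Submonoid.powers h) (Localization.Away h) _).2
        ⟨⟨h ^ N, N, rfl⟩, hN⟩
    have e1 : algebraMap A (Localization.Away f) (f ^ q * y + f ^ (m + n) * j₀) =
        algebraMap A (Localization.Away f) (f ^ (q + m + n)) := by
      rw [map_add, map_mul, map_mul, map_mul, hx, hq]
      simp only [pow_add, map_mul]
      ring
    obtain ⟨⟨c, t, rfl⟩, hc⟩ := (IsLocalization.eq_iff_exists (Submonoid.powers f)
      (Localization.Away f)).1 e1
    dsimp only at hc
    refine ⟨t + (q + m + n), f ^ t * (f ^ q * y), f ^ t * (f ^ (m + n) * j₀),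
      K.mul_mem_left _ (K.mul_mem_left _ hyK), ?_, ?_⟩
    · rw [map_mul, map_mul, hj₀, mul_zero, mul_zero]
    · rw [pow_add, ← hc]
      ring
  obtain ⟨M, y', j', hy', hj', hM⟩ := K2
  obtain ⟨e, he, P1, -, P3⟩ := hdata f hf
  apply bij_of
  · intro a ha
    rw [Prod.algebraMap_apply, Prod.mk_eq_zero] at ha
    obtain ⟨ha1, ha2⟩ := ha
    rw [Ideal.Quotient.algebraMap_eq, Ideal.Quotient.eq_zero_iff_mem] at ha2
    have h0 : algebraMap A (Localization.Away f) (f ^ M * a) = 0 := by
      have : f ^ M * a = y' * a + a * j' := by rw [hM]; ring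
      rw [this, map_add, (hK y').1 hy' f hf a ha1, (hK a).1 ha2 f hf j' hj', add_zero]
    obtain ⟨⟨c, t, rfl⟩, hc⟩ := (IsLocalization.map_eq_zero_iff (Submonoid.powers f)
      (Localization.Away f) _).1 h0
    dsimp only at hc
    refine ⟨t + M, ?_⟩
    rw [pow_add, mul_assoc]
    exact hc
  · rintro ⟨c, a₂⟩
    obtain ⟨a₂, rfl⟩ := Ideal.Quotient.mk_surjective a₂
    obtain ⟨a₁, p₁, h1⟩ := P3 c
    refine ⟨y' * a₁ + j' * (f ^ p₁ * a₂), M + p₁, ?_⟩
    rw [Prod.algebraMap_apply, Prod.algebraMap_apply, Prod.mk_mul_mk]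
    have hy0 : Ideal.Quotient.mk K y' = 0 := Ideal.Quotient.eq_zero_iff_mem.2 hy'
    refine Prod.ext ?_ ?_
    · dsimp only
      rw [map_add, map_mul, map_mul _ j', hj', zero_mul, add_zero, h1, pow_add, map_mul _ (f ^ M),
        hM, map_add, hj', add_zero]
      ring
    · dsimp only
      rw [Ideal.Quotient.algebraMap_eq, map_add, map_mul, hy0, zero_mul, zero_add, pow_add, hM]
      simp only [map_mul, map_add, hy0, zero_add]
      ring

end Groth.Agent.S9303
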