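import Groth.Statements.S9305
import Groth.Agent.Lib.Helper3Branch
import Groth.Agent.Lib.Helper3IndEtHz
import Groth.Agent.Lib.Helper3TensorLocal
import Mathlib

set_option autoImplicit false
universe u
open CAlg

namespace Groth.Agent.S9305

open TensorProduct in
/-- Let A be a local ring with finitely many minimal primes, A' the integral closure of A_red in its
total ring of fractions and A^sh a strict henselization of A. In the ring A' ⊗_A A^sh, each minimal
prime lies in exactly one maximal ideal and each maximal ideal contains exactly one minimal prime. -/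
theorem result {A Ash : Type u} [CommRing A]
    [IsLocalRing A] (hfin : (minimalPrimes A).Finite) [CommRing Ash] [IsLocalRing Ash] [Algebra A Ash]
    [IsLocalHom (algebraMap A Ash)] [Hensel.IsStrictHenselization A Ash] :
    (∀ q ∈ minimalPrimes ((CAlg2.normRed A) ⊗[A] Ash),
        ∃! m : Ideal ((CAlg2.normRed A) ⊗[A] Ash), m.IsMaximal ∧ q ≤ m) ∧
      (∀ m : Ideal ((CAlg2.normRed A) ⊗[A] Ash), m.IsMaximal →
        ∃! q : Ideal ((CAlg2.normRed A) ⊗[A] Ash), q ∈ minimalPrimes ((CAlg2.normRed A) ⊗[A] Ash) ∧ q ≤ m) := by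
  haveI hH : HenselianLocalRing Ash := Hensel.IsStrictHenselization.henselian A
  haveI : Algebra.IsIntegral A (CAlg2.normRed A) := by
    haveI : Algebra.IsIntegral A (CAlg2.red A) :=
      Algebra.isIntegral_of_surjective Ideal.Quotient.mk_surjective
    exact Algebra.IsIntegral.trans (CAlg2.red A)
  constructor
  · intro q hq
    haveI : q.IsPrime := hq.1.1
    exact Groth.Agent.Lib.Helper3.Branch.existsUnique_maximal_ge _
      Groth.Agent.Lib.Helper3.TensorLocal.includeRight_isIntegral q
  · intro m hm
    haveI : m.IsPrime := hm.isPrime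
    have hind : EtPBC.IsIndEtale (CAlg2.normRed A) ((CAlg2.normRed A) ⊗[A] Ash) :=
      Groth.Agent.S0733.result A Ash (CAlg2.normRed A)
        (Groth.Agent.Lib.Helper3.IndEt.isIndEtale_of_isStrictHenselization A Ash)
    have hL : @Groth.Agent.Lib.Helper3.Branch.LDP ((CAlg2.normRed A) ⊗[A] Ash) _ m :=
      Groth.Agent.Lib.Helper3.Branch.ldp_of_isIndEtale (CAlg2.normRed A)
        (fun p _ => Groth.Agent.Lib.Helper3.Branch.normal_normRed A hfin p) _ hind m
    exact @Groth.Agent.Lib.Helper3.Branch.existsUnique_minimalPrimes_le_of_ldp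
      ((CAlg2.normRed A) ⊗[A] Ash) _ m _ hL

end Groth.Agent.S9305
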