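import Groth.Statements.S9313
import Groth.Agent.Lib.Helper26HenselEtale
import Mathlib

set_option autoImplicit false
universe u
open CAlg

namespace Groth.Agent.S9313

-- a finite-type algebra is quasi-finite at the primes of a finite "direct factor" of `B/IB`
theorem quasiFiniteAt_comap {A B C : Type u} [CommRing A] [CommRing B] [CommRing C]
    [Algebra A B] [Algebra A C] [Algebra.FiniteType A B] [Module.Finite A C]
    (π : B →ₐ[A] C) (hπ : Function.Surjective π) (I : Ideal A) (ε : B) (hε : π ε = 1)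
    (hker : ∀ b, π b = 0 → ε * b ∈ I.map (algebraMap A B))
    (hI : ∀ a ∈ I, algebraMap A C a = 0) (Q : Ideal C) [Q.IsPrime] :
    Algebra.QuasiFiniteAt A (Q.comap π.toRingHom) := by
  set q := Q.comap π.toRingHom with hq
  haveI : q.IsPrime := Ideal.comap_isPrime _ _
  suffices h : Algebra.WeaklyQuasiFiniteAt A q from Algebra.QuasiFiniteAt.of_weaklyQuasiFiniteAt q
  rw [Algebra.weaklyQuasiFiniteAt_iff]
  set P := Ideal.map (algebraMap A (Localization.AtPrime q)) (Ideal.under A q) with hP
  let g : B →ₐ[A] (Localization.AtPrime q ⧸ P) :=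
    (Ideal.Quotient.mkₐ A P).comp (IsScalarTower.toAlgHom A B (Localization.AtPrime q))
  have hεq : ε ∉ q := by
    intro h
    have h1 : π ε ∈ Q := h
    rw [hε] at h1
    exact (Ideal.IsPrime.ne_top inferInstance) (Ideal.eq_top_of_isUnit_mem _ h1 isUnit_one)
  have hIp : I ≤ Ideal.under A q := by
    intro a ha
    show algebraMap A B a ∈ q
    show π (algebraMap A B a) ∈ Q
    rw [AlgHom.commutes, hI a ha]
    exact Q.zero_mem
  have hg : ∀ b ∈ RingHom.ker π.toRingHom, g b = 0 := by
    intro b hb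
    have h1 : ε * b ∈ I.map (algebraMap A B) := hker b hb
    have h2 : algebraMap B (Localization.AtPrime q) (ε * b) ∈ P := by
      have h3 : (I.map (algebraMap A B)).map (algebraMap B (Localization.AtPrime q)) ≤ P := by
        rw [Ideal.map_map, ← IsScalarTower.algebraMap_eq]
        exact Ideal.map_mono hIp
      exact h3 (Ideal.mem_map_of_mem _ h1)
    have h4 : IsUnit (algebraMap B (Localization.AtPrime q) ε) :=
      IsLocalization.map_units (M := q.primeCompl) _ ⟨ε, hεq⟩
    rw [map_mul] at h2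
    have h5 : algebraMap B (Localization.AtPrime q) b ∈ P := by
      obtain ⟨u, hu⟩ := h4
      have := P.mul_mem_left (↑u⁻¹) h2
      rwa [← mul_assoc, ← hu, Units.inv_mul, one_mul] at this
    show Ideal.Quotient.mk P (algebraMap B (Localization.AtPrime q) b) = 0
    exact Ideal.Quotient.eq_zero_iff_mem.mpr h5
  let f : C →ₐ[A] (Localization.AtPrime q ⧸ P) :=
    (Ideal.Quotient.liftₐ (RingHom.ker π.toRingHom) g hg).comp
      (Ideal.quotientKerAlgEquivOfSurjective hπ).symm.toAlgHom
  have hfπ : ∀ b : B, f (π b) = g b := by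
    intro b
    show Ideal.Quotient.liftₐ (RingHom.ker π.toRingHom) g hg
      ((Ideal.quotientKerAlgEquivOfSurjective hπ).symm (π b)) = g b
    have h1 : (Ideal.quotientKerAlgEquivOfSurjective hπ).symm (π b) =
        Ideal.Quotient.mk (RingHom.ker π.toRingHom) b := by
      rw [AlgEquiv.symm_apply_eq]
      rfl
    rw [h1]
    rfl
  haveI : Algebra.QuasiFinite A C := inferInstance
  refine Algebra.QuasiFinite.of_forall_exists_mul_mem_range f fun x => ?_
  obtain ⟨y, rfl⟩ := Ideal.Quotient.mk_surjective x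
  obtain ⟨b, s, rfl⟩ := IsLocalization.exists_mk'_eq q.primeCompl y
  refine ⟨π s.1, ?_, π b, ?_⟩
  · rw [hfπ]
    show IsUnit (Ideal.Quotient.mk P (algebraMap B (Localization.AtPrime q) s.1))
    exact (IsLocalization.map_units (M := q.primeCompl) _ s).map _
  · rw [hfπ]
    show f (π b) = _
    rw [hfπ]
    show Ideal.Quotient.mk P (algebraMap B (Localization.AtPrime q) b) =
      Ideal.Quotient.mk P (IsLocalization.mk' _ b s) *
        Ideal.Quotient.mk P (algebraMap B (Localization.AtPrime q) s.1)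
    rw [← map_mul, IsLocalization.mk'_spec]

open Groth.Agent.Lib.Helper26.HenselEtale in
-- a ZMT-good element which is `1` on the finite factor
theorem exists_good_map_eq_one {A B C : Type u} [CommRing A] [CommRing B] [CommRing C]
    [Algebra A B] [Algebra A C] [Algebra.FiniteType A B] [Module.Finite A C]
    (π : B →ₐ[A] C) (hπ : Function.Surjective π) (I : Ideal A) (ε : B) (hε : π ε = 1)
    (hker : ∀ b, π b = 0 → ε * b ∈ I.map (algebraMap A B))
    (hI : ∀ a ∈ I, algebraMap A C a = 0) :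
    ∃ j : B, Good A j ∧ π j = 1 := by
  classical
  let φ : integralClosure A B →ₐ[A] C := π.comp (integralClosure A B).val
  let J : Ideal (integralClosure A B) :=
    { carrier := {x | Good A (x : B)}
      add_mem' := fun ha hb => Good.add ha hb
      zero_mem' := good_zero
      smul_mem' := fun c x hx => Good.mul_left (c : B) c.2 hx }
  have htop : J ⊔ RingHom.ker φ.toRingHom = ⊤ := by
    by_contra hne
    obtain ⟨m, hm, hle⟩ := Ideal.exists_le_maximal _ hne
    letI : Algebra (integralClosure A B) C := φ.toRingHom.toAlgebra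
    haveI : IsScalarTower A (integralClosure A B) C :=
      IsScalarTower.of_algebraMap_eq (fun a => (φ.commutes a).symm)
    haveI : Algebra.IsIntegral A C := Algebra.IsIntegral.of_finite A C
    haveI : Algebra.IsIntegral (integralClosure A B) C := Algebra.IsIntegral.tower_top A
    obtain ⟨Q, hQmax, hQ⟩ := Ideal.exists_ideal_over_maximal_of_isIntegral (S := C) m
      (le_trans le_sup_right hle)
    haveI := hQmax.isPrime
    haveI := quasiFiniteAt_comap π hπ I ε hε hker hI Q
    obtain ⟨r, hrq, hr1, hr2⟩ := Algebra.zariskisMainProperty_iff.mp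
      (Algebra.ZariskisMainProperty.of_finiteType (R := A) (Q.comap π.toRingHom))
    have hrJ : (⟨r, hr1⟩ : integralClosure A B) ∈ J := ⟨hr1, hr2⟩
    have hrm : (⟨r, hr1⟩ : integralClosure A B) ∈ m := hle (Ideal.mem_sup_left hrJ)
    rw [← hQ] at hrm
    exact hrq hrm
  obtain ⟨j, hj, c, hc, hjc⟩ := Submodule.mem_sup.mp ((Ideal.eq_top_iff_one _).mp htop)
  refine ⟨(j : B), hj, ?_⟩
  have h1 : φ j + φ c = 1 := by rw [← map_add, hjc, map_one]
  have h2 : φ c = 0 := hc
  rw [h2, add_zero] at h1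
  exact h1

open Groth.Agent.Lib.Helper26.HenselEtale in
-- a power of a good element moves `IB` into `IB'`
theorem exists_pow_mul_mem {A B : Type u} [CommRing A] [CommRing B] [Algebra A B] (I : Ideal A)
    (g₁ : B) (hg₁ : Good A g₁) (y : B) (hy : y ∈ I.map (algebraMap A B)) :
    ∃ k : ℕ, ∃ z ∈ I.map (algebraMap A (integralClosure A B)), (z : B) = g₁ ^ k * y := by
  let g' : integralClosure A B := ⟨g₁, hg₁.1⟩
  unfold Ideal.map at hy
  induction hy using Submodule.span_induction with
  | mem y hy =>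
    obtain ⟨a, ha, rfl⟩ := hy
    exact ⟨0, algebraMap A (integralClosure A B) a, Ideal.mem_map_of_mem _ ha, by
      rw [pow_zero, one_mul]; rfl⟩
  | zero => exact ⟨0, 0, Ideal.zero_mem _, by simp⟩
  | add y₁ y₂ _ _ h₁ h₂ =>
    obtain ⟨k₁, z₁, hz₁, e₁⟩ := h₁
    obtain ⟨k₂, z₂, hz₂, e₂⟩ := h₂
    refine ⟨k₁ + k₂, g' ^ k₂ * z₁ + g' ^ k₁ * z₂,
      Ideal.add_mem _ (Ideal.mul_mem_left _ _ hz₁) (Ideal.mul_mem_left _ _ hz₂), ?_⟩
    show g₁ ^ k₂ * (z₁ : B) + g₁ ^ k₁ * (z₂ : B) = _
    rw [e₁, e₂, pow_add]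
    ring
  | smul b y _ h =>
    obtain ⟨k, z, hz, e⟩ := h
    obtain ⟨m, hm⟩ := hg₁.2 b
    refine ⟨m + k, (⟨g₁ ^ m * b, hm⟩ : integralClosure A B) * z, Ideal.mul_mem_left _ _ hz, ?_⟩
    show g₁ ^ m * b * (z : B) = _
    rw [e, pow_add, smul_eq_mul]
    ring

/-- Let A be a ring with an ideal I and A → B a ring map of finite type, and suppose B/IB = C_1 × C_2
(given by an idempotent e of B/IB with C_1 = (B/IB)/(1 - e)) where C_1 is finite over A/I. Writing
B' for the integral closure of A in B, some g ∈ B' has idempotent image in B'/IB' lifting e (so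
B'/IB' = C_1' × C_2' compatibly with the decomposition of B/IB), and the map B'_g → B_g is an
isomorphism (whence C_1' = C_1). -/
theorem result (A B : Type u) [CommRing A] [CommRing B]
    [Algebra A B] [Algebra.FiniteType A B] (I : Ideal A) (e : B ⧸ Ideal.map (algebraMap A B) I)
    (he : IsIdempotentElem e)
    (hfin : Module.Finite (A ⧸ I) ((B ⧸ Ideal.map (algebraMap A B) I) ⧸ Ideal.span {1 - e})) :
    ∃ g : integralClosure A B,
      IsIdempotentElem (Ideal.Quotient.mk (Ideal.map (algebraMap A (integralClosure A B)) I) g) ∧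
      Ideal.Quotient.mk (Ideal.map (algebraMap A B) I) (g : B) = e ∧
      Function.Bijective (algebraMap (Localization.Away g)
        (Localization (Algebra.algebraMapSubmonoid B (Submonoid.powers g)))) := by
  classical
  obtain ⟨ε, hεe⟩ := Ideal.Quotient.mk_surjective e
  let π : B →ₐ[A] ((B ⧸ Ideal.map (algebraMap A B) I) ⧸ Ideal.span {1 - e}) :=
    (Ideal.Quotient.mkₐ A (Ideal.span {1 - e})).comp
      (Ideal.Quotient.mkₐ A (Ideal.map (algebraMap A B) I))
  have hπ : Function.Surjective π :=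
    Ideal.Quotient.mk_surjective.comp Ideal.Quotient.mk_surjective
  have hπdef : ∀ b : B, π b = Ideal.Quotient.mk (Ideal.span {1 - e})
      (Ideal.Quotient.mk (Ideal.map (algebraMap A B) I) b) := fun b => rfl
  haveI : Module.Finite A ((B ⧸ Ideal.map (algebraMap A B) I) ⧸ Ideal.span {1 - e}) :=
    Module.Finite.trans (A ⧸ I) _
  have he0 : e * (1 - e) = 0 := by rw [mul_sub, mul_one, he.eq, sub_self]
  have hkill : ∀ x ∈ Ideal.span {1 - e}, e * x = 0 := by
    intro x hx
    obtain ⟨u, rfl⟩ := Ideal.mem_span_singleton'.mp hx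
    rw [mul_comm u, ← mul_assoc, he0, zero_mul]
  have hε : π ε = 1 := by
    rw [hπdef, hεe, ← map_one (Ideal.Quotient.mk (Ideal.span {1 - e})), eq_comm,
      Ideal.Quotient.eq]
    exact Ideal.mem_span_singleton_self _
  have hker : ∀ b, π b = 0 → ε * b ∈ I.map (algebraMap A B) := by
    intro b hb
    rw [hπdef, Ideal.Quotient.eq_zero_iff_mem] at hb
    have h1 := hkill _ hb
    rw [← hεe, ← map_mul, Ideal.Quotient.eq_zero_iff_mem] at h1
    exact h1
  have hI : ∀ a ∈ I, algebraMap A ((B ⧸ Ideal.map (algebraMap A B) I) ⧸ Ideal.span {1 - e}) a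
      = 0 := by
    intro a ha
    have h1 : algebraMap A _ a = π (algebraMap A B a) := (π.commutes a).symm
    rw [h1, hπdef]
    have h2 : Ideal.Quotient.mk (Ideal.map (algebraMap A B) I) (algebraMap A B a) = 0 :=
      Ideal.Quotient.eq_zero_iff_mem.mpr (Ideal.mem_map_of_mem _ ha)
    rw [h2, map_zero]
  obtain ⟨j, hj, hj1⟩ := exists_good_map_eq_one π hπ I ε hε hker hI
  have hje : Ideal.Quotient.mk (Ideal.map (algebraMap A B) I) j * e = e := by
    have h1 : Ideal.Quotient.mk (Ideal.map (algebraMap A B) I) j - 1 ∈ Ideal.span {1 - e} := by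
      rw [← Ideal.Quotient.eq, map_one]
      exact hj1
    have h2 := hkill _ h1
    rw [mul_sub, mul_one, sub_eq_zero, mul_comm] at h2
    exact h2
  have hjne : ∀ n : ℕ, Ideal.Quotient.mk (Ideal.map (algebraMap A B) I) j ^ n * e = e := by
    intro n
    induction n with
    | zero => rw [pow_zero, one_mul]
    | succ n ih => rw [pow_succ, mul_assoc, hje, ih]
  obtain ⟨m₀, hm₀⟩ := hj.2 ε
  have hg₁ : Groth.Agent.Lib.Helper26.HenselEtale.Good A (j ^ m₀ * ε * j) := hj.mul_left _ hm₀
  have hg₁e : Ideal.Quotient.mk (Ideal.map (algebraMap A B) I) (j ^ m₀ * ε * j) = e := by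
    rw [map_mul, map_mul, map_pow, hεe, hjne, mul_comm, hje]
  have hidem : (j ^ m₀ * ε * j) * (j ^ m₀ * ε * j) - (j ^ m₀ * ε * j) ∈
      I.map (algebraMap A B) := by
    rw [← Ideal.Quotient.eq_zero_iff_mem, map_sub, map_mul, hg₁e, he.eq, sub_self]
  obtain ⟨k, z, hz, hzk⟩ := exists_pow_mul_mem I _ hg₁ _ hidem
  let g' : integralClosure A B := ⟨j ^ m₀ * ε * j, hg₁.1⟩
  have hz' : g' ^ k * (g' * g' - g') = z := by
    apply Subtype.ext
    rw [hzk]
    rfl
  have hgood : Groth.Agent.Lib.Helper26.HenselEtale.Good A ((g' ^ (k + 1) : integralClosure A B) : B) := by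
    have : ((g' ^ (k + 1) : integralClosure A B) : B) =
        (j ^ m₀ * ε * j) ^ k * (j ^ m₀ * ε * j) := by
      rw [← pow_succ]; rfl
    rw [this]
    exact hg₁.mul_left _ (hg₁.1.pow k)
  refine ⟨g' ^ (k + 1), ?_, ?_, ?_, ?_⟩
  · -- idempotent modulo `IB'`
    set γ := Ideal.Quotient.mk (Ideal.map (algebraMap A (integralClosure A B)) I) g' with hγ
    have h1 : γ ^ k * (γ * γ - γ) = 0 := by
      rw [hγ, ← map_mul, ← map_sub, ← map_pow, ← map_mul, hz']
      exact Ideal.Quotient.eq_zero_iff_mem.mpr hz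
    have h2 : γ ^ (k + 1) * γ = γ ^ (k + 1) := by
      have : γ ^ (k + 1) * γ - γ ^ (k + 1) = γ ^ k * (γ * γ - γ) := by ring
      rw [← sub_eq_zero, this, h1]
    have h3 : ∀ n : ℕ, γ ^ (k + 1) * γ ^ n = γ ^ (k + 1) := by
      intro n
      induction n with
      | zero => rw [pow_zero, mul_one]
      | succ n ih => rw [pow_succ γ n, ← mul_assoc, ih, h2]
    show _ * _ = _
    rw [map_pow]
    exact h3 (k + 1)
  · show Ideal.Quotient.mk (Ideal.map (algebraMap A B) I) ((j ^ m₀ * ε * j) ^ (k + 1)) = e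
    rw [map_pow, hg₁e]
    exact he.pow_succ_eq k
  · exact localizationAlgebra_injective _ _ Subtype.val_injective
  · intro x
    obtain ⟨b, s, rfl⟩ := IsLocalization.exists_mk'_eq
      (Algebra.algebraMapSubmonoid B (Submonoid.powers (g' ^ (k + 1)))) x
    obtain ⟨_, ⟨_, ⟨n, rfl⟩, rfl⟩⟩ := s
    obtain ⟨m, hm⟩ := hgood.2 b
    have hm' : ((g' ^ (k + 1) : integralClosure A B) : B) ^ m * b ∈ integralClosure A B := hm
    refine ⟨IsLocalization.mk' _ (⟨_, hm'⟩ : integralClosure A B)
      (⟨(g' ^ (k + 1)) ^ (m + n), ⟨m + n, rfl⟩⟩ : Submonoid.powers (g' ^ (k + 1))), ?_⟩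
    rw [localizationAlgebraMap_def, IsLocalization.map_mk', IsLocalization.mk'_eq_iff_eq]
    congr 1
    show (((g' ^ (k + 1)) ^ n : integralClosure A B) : B) *
        (((g' ^ (k + 1) : integralClosure A B) : B) ^ m * b) =
      (((g' ^ (k + 1)) ^ (m + n) : integralClosure A B) : B) * b
    rw [pow_add]
    push_cast
    ring

end Groth.Agent.S9313
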