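import Groth.Statements.S9318
import Mathlib.RingTheory.AdicCompletion.Completeness
-- import your own Groth.Agent.* helpers here

set_option autoImplicit false
universe u
open CAlg

namespace Groth.Agent.S9318

theorem evalₐ_eq_zero_iff {S : Type u} [CommRing S] (𝔫 : Ideal S) (h : 𝔫.FG) (n : ℕ)
    (x : AdicCompletion 𝔫 S) :
    AdicCompletion.evalₐ 𝔫 n x = 0 ↔ x ∈ (𝔫.map (algebraMap S (AdicCompletion 𝔫 S))) ^ n := by
  rw [← Ideal.map_pow]
  have h1 := AdicCompletion.pow_smul_top_eq_ker_eval (M := S) (n := n) h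
  have hle1 : 𝔫 ^ n ≤ (𝔫 ^ n • ⊤ : Ideal S) := by simp
  have hle2 : (𝔫 ^ n • ⊤ : Ideal S) ≤ 𝔫 ^ n := by simp
  have h2 : AdicCompletion.evalₐ 𝔫 n x = 0 ↔ AdicCompletion.eval 𝔫 S n x = 0 := by
    constructor
    · intro hx
      rw [← AdicCompletion.factor_evalₐ_eq_eval 𝔫 x hle1, hx, map_zero]
    · intro hx
      rw [← AdicCompletion.factor_eval_eq_evalₐ 𝔫 x hle2, hx, map_zero]
  rw [h2, ← LinearMap.mem_ker, ← h1, Ideal.smul_top_eq_map]
  rfl


/-- Let `R → S` be a ring map and `𝔫 ⊆ S` a finitely generated ideal, and let `S^` be the `𝔫`-adic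
completion of `S`. Then `R → S` is formally smooth for the `𝔫`-adic topology if and only if `R → S^`
is formally smooth for the adic topology of the extension of `𝔫` to `S^`. No Noetherian hypothesis
is made on `S`. -/
theorem result {R S : Type u} [CommRing R] [CommRing S]
    [Algebra R S] (𝔫 : Ideal S) (h𝔫 : 𝔫.FG) :
    CAlgX.IsAdicFormallySmooth R S 𝔫 ↔
      CAlgX.IsAdicFormallySmooth R (AdicCompletion 𝔫 S) (𝔫.map (algebraMap S (AdicCompletion 𝔫 S))) := by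
  classical
  constructor
  · intro hS A _ _ J hJ ψ ⟨k, hk⟩
    -- restrict to S
    let ι : S →ₐ[R] AdicCompletion 𝔫 S := IsScalarTower.toAlgHom R S (AdicCompletion 𝔫 S)
    have hι : ∀ s, ι s = algebraMap S (AdicCompletion 𝔫 S) s := fun s => rfl
    obtain ⟨χ₀, hχ₀⟩ := hS A J hJ (ψ.comp ι) ⟨k, fun x hx => by
      show ψ (ι x) = 0
      apply hk
      rw [hι, ← Ideal.map_pow]
      exact Ideal.mem_map_of_mem _ hx⟩
    have hχ₀' : ∀ s, Ideal.Quotient.mk J (χ₀ s) = ψ (ι s) := fun s => AlgHom.congr_fun hχ₀ s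
    -- χ₀ kills 𝔫^(2k)
    have hJ' : ∀ s ∈ 𝔫 ^ k, χ₀ s ∈ J := by
      intro s hs
      rw [← Ideal.Quotient.eq_zero_iff_mem, hχ₀']
      apply hk
      rw [hι, ← Ideal.map_pow]
      exact Ideal.mem_map_of_mem _ hs
    have hkill : ∀ s ∈ 𝔫 ^ (k + k), χ₀ s = 0 := by
      intro s hs
      rw [pow_add] at hs
      refine Submodule.mul_induction_on hs ?_ ?_
      · intro a ha b hb
        rw [map_mul]
        have : χ₀ a * χ₀ b ∈ J ^ 2 := by
          rw [pow_two]; exact Ideal.mul_mem_mul (hJ' a ha) (hJ' b hb)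
        rw [hJ] at this
        simpa using this
      · intro a b ha hb
        rw [map_add, ha, hb, add_zero]
    let χ₁ : S ⧸ 𝔫 ^ (k + k) →+* A := Ideal.Quotient.lift (𝔫 ^ (k + k)) χ₀.toRingHom hkill
    have hχ₁ : ∀ s, χ₁ (Ideal.Quotient.mk _ s) = χ₀ s := fun s => rfl
    let χ : AdicCompletion 𝔫 S →ₐ[R] A :=
      { toRingHom := χ₁.comp (AdicCompletion.evalₐ 𝔫 (k + k)).toRingHom
        commutes' := by
          intro r
          show χ₁ (AdicCompletion.evalₐ 𝔫 (k + k) (algebraMap R (AdicCompletion 𝔫 S) r)) = _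
          rw [AdicCompletion.algebraMap_apply, AdicCompletion.evalₐ_of, hχ₁]
          exact χ₀.commutes r }
    have hχ : ∀ x, χ x = χ₁ (AdicCompletion.evalₐ 𝔫 (k + k) x) := fun x => rfl
    refine ⟨χ, ?_⟩
    ext x
    show Ideal.Quotient.mk J (χ x) = ψ x
    obtain ⟨s, hs⟩ := Ideal.Quotient.mk_surjective (AdicCompletion.evalₐ 𝔫 (k + k) x)
    have h1 : AdicCompletion.evalₐ 𝔫 (k + k) (x - ι s) = 0 := by
      rw [map_sub, hι, AdicCompletion.algebraMap_apply, Algebra.algebraMap_self,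
        RingHom.id_apply, AdicCompletion.evalₐ_of, hs, sub_self]
    rw [evalₐ_eq_zero_iff 𝔫 h𝔫] at h1
    have h2 : ψ (x - ι s) = 0 := by
      apply hk
      exact Ideal.pow_le_pow_right (Nat.le_add_right k k) h1
    rw [map_sub, sub_eq_zero] at h2
    rw [h2, hχ, ← hs, hχ₁, hχ₀']
  · intro hS A _ _ J hJ ψ ⟨k, hk⟩
    let ψ₁ : S ⧸ 𝔫 ^ k →+* A ⧸ J := Ideal.Quotient.lift (𝔫 ^ k) ψ.toRingHom hk
    have hψ₁ : ∀ s, ψ₁ (Ideal.Quotient.mk _ s) = ψ s := fun s => rfl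
    let ψh : AdicCompletion 𝔫 S →ₐ[R] A ⧸ J :=
      { toRingHom := ψ₁.comp (AdicCompletion.evalₐ 𝔫 k).toRingHom
        commutes' := by
          intro r
          show ψ₁ (AdicCompletion.evalₐ 𝔫 k (algebraMap R (AdicCompletion 𝔫 S) r)) = _
          rw [AdicCompletion.algebraMap_apply, AdicCompletion.evalₐ_of, hψ₁]
          exact ψ.commutes r }
    have hψh : ∀ x, ψh x = ψ₁ (AdicCompletion.evalₐ 𝔫 k x) := fun x => rfl
    obtain ⟨χh, hχh⟩ := hS A J hJ ψh ⟨k, fun x hx => by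
      rw [hψh, (evalₐ_eq_zero_iff 𝔫 h𝔫 k x).mpr hx, map_zero]⟩
    let ι : S →ₐ[R] AdicCompletion 𝔫 S := IsScalarTower.toAlgHom R S (AdicCompletion 𝔫 S)
    refine ⟨χh.comp ι, ?_⟩
    ext s
    show Ideal.Quotient.mk J (χh (ι s)) = ψ s
    have := AlgHom.congr_fun hχh (ι s)
    have h3 : Ideal.Quotient.mk J (χh (ι s)) = ψh (ι s) := this
    rw [h3, hψh]
    show ψ₁ (AdicCompletion.evalₐ 𝔫 k (algebraMap S (AdicCompletion 𝔫 S) s)) = ψ s
    rw [AdicCompletion.algebraMap_apply, Algebra.algebraMap_self, RingHom.id_apply,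
      AdicCompletion.evalₐ_of, hψ₁]

end Groth.Agent.S9318
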