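import Groth.Statements.S9324
-- import your own Groth.Agent.* helpers here
import Groth.Agent.Lib.Helper26PairHzMore
import Groth.Agent.S1971
import Groth.Agent.S0526

set_option autoImplicit false
universe u
open Hensel

namespace Groth.Agent.S9324

open Groth.Agent.Lib.Helper26.PairHz TensorProduct

open TensorProduct in
/-- Let `(A, I) → (B, J)` be a map of pairs, i.e. `I B ⊆ J`, such that `J` and `I B` have the same
radical, and suppose `A → B` is integral. Let `A^h` be a henselization of the pair `(A, I)`, `B^h` a
henselization of the pair `(B, J)`, and `φ : A^h → B^h` an `A`-algebra homomorphism (there is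
exactly one, by the universal property of `A^h`). Then the induced map `A^h ⊗_A B → B^h` is
bijective: henselization commutes with integral base change. -/
theorem result {A B Ah Bh : Type u} [CommRing A]
    [CommRing B] [CommRing Ah] [CommRing Bh] [Algebra A B] (I : Ideal A) (J : Ideal B)
    (hIJ : I.map (algebraMap A B) ≤ J) (hrad : J.radical = (I.map (algebraMap A B)).radical)
    [Algebra.IsIntegral A B] [Algebra A Ah] (hA : Hens2.IsPairHenselization A I Ah)
    [Algebra B Bh] [Algebra A Bh] [IsScalarTower A B Bh] (hB : Hens2.IsPairHenselization B J Bh)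
    (φ : Ah →ₐ[A] Bh) :
    Function.Bijective (Algebra.TensorProduct.productMap φ (IsScalarTower.toAlgHom A B Bh)) := by
  -- replace J by IB
  have hzl : PrimeSpectrum.zeroLocus (J : Set B) =
      PrimeSpectrum.zeroLocus ((I.map (algebraMap A B) : Ideal B) : Set B) := by
    rw [← PrimeSpectrum.zeroLocus_radical, hrad, PrimeSpectrum.zeroLocus_radical]
  have hB' : Hens2.IsPairHenselization B (I.map (algebraMap A B)) Bh :=
    (Groth.Agent.S1971.result B J (I.map (algebraMap A B)) hzl Bh).mp hB
  -- the tensor product as a B-algebra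
  letI : Algebra B (Ah ⊗[A] B) :=
    (Algebra.TensorProduct.includeRight (R := A) (A := Ah) (B := B)).toRingHom.toAlgebra
  have hBT : ∀ b : B, algebraMap B (Ah ⊗[A] B) b = (1 : Ah) ⊗ₜ[A] b := fun b => rfl
  haveI : IsScalarTower A B (Ah ⊗[A] B) := IsScalarTower.of_algebraMap_eq (fun a => by
    rw [hBT, Algebra.TensorProduct.algebraMap_apply, Algebra.algebraMap_eq_smul_one (A := B),
      ← TensorProduct.smul_tmul, Algebra.smul_def, mul_one])
  -- T is a henselization of (B, IB)
  have hT : Hens2.IsPairHenselization B (I.map (algebraMap A B)) (Ah ⊗[A] B) := by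
    refine ⟨?_, ?_⟩
    · haveI : HenselianRing Ah (I.map (algebraMap A Ah)) := hA.1
      have h1 := Groth.Agent.S0526.result Ah (I.map (algebraMap A Ah)) (Ah ⊗[A] B)
      rw [map_map_tower I] at h1
      rw [map_map_tower I]
      exact h1
    · intro D _ K f hD hK
      letI : Algebra A D := (f.comp (algebraMap A B)).toAlgebra
      have hK' : I.map (algebraMap A D) ≤ K := by
        change I.map (f.comp (algebraMap A B)) ≤ K
        rw [← Ideal.map_map]; exact hK
      obtain ⟨g₀, hg₀⟩ := exists_algHom_of_isPairHenselization hA D K hD hK'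
      let fA : B →ₐ[A] D := AlgHom.mk f (fun a => rfl)
      let G : Ah ⊗[A] B →ₐ[A] D := Algebra.TensorProduct.productMap g₀ fA
      refine ⟨G.toRingHom, ?_, ?_⟩
      · ext b
        change G ((1 : Ah) ⊗ₜ[A] b) = f b
        simp [G, fA]
      · intro G' hG'
        have hG'b : ∀ b : B, G' ((1 : Ah) ⊗ₜ[A] b) = f b := fun b =>
          congrArg (fun k : B →+* D => k b) hG'
        have cG' : ∀ a : A, G' (algebraMap A (Ah ⊗[A] B) a) = algebraMap A D a := by
          intro a
          rw [IsScalarTower.algebraMap_apply A B (Ah ⊗[A] B), hBT, hG'b]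
          rfl
        let G'A : Ah ⊗[A] B →ₐ[A] D := AlgHom.mk G' cG'
        have e1 : G'A.comp Algebra.TensorProduct.includeLeft = g₀ := hg₀ _
        have e2 : G'A = G := by
          apply Algebra.TensorProduct.ext
          · rw [e1]
            ext x
            simp [G]
          · ext b
            change G' ((1 : Ah) ⊗ₜ[A] b) = G ((1 : Ah) ⊗ₜ[A] b)
            rw [hG'b]
            simp [G, fA]
        refine RingHom.ext (fun z => ?_)
        exact congrArg (fun k : Ah ⊗[A] B →ₐ[A] D => k z) e2
  -- compare
  obtain ⟨ε⟩ := nonempty_algEquiv hT hB'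
  obtain ⟨k, -, hkuniq⟩ := hT.2 Bh _ (algebraMap B Bh) hB'.1 le_rfl
  have e1 : (ε : Ah ⊗[A] B →+* Bh) = k := hkuniq _ (by ext b; exact ε.commutes b)
  have e2 : (Algebra.TensorProduct.productMap φ (IsScalarTower.toAlgHom A B Bh)).toRingHom = k :=
    hkuniq _ (by
      ext b
      change (Algebra.TensorProduct.productMap φ (IsScalarTower.toAlgHom A B Bh))
        ((1 : Ah) ⊗ₜ[A] b) = algebraMap B Bh b
      simp)
  have e3 : ⇑(Algebra.TensorProduct.productMap φ (IsScalarTower.toAlgHom A B Bh)) = ⇑ε := by
    ext z
    exact congrArg (fun k : Ah ⊗[A] B →+* Bh => k z) (e2.trans e1.symm)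
  rw [e3]
  exact ε.bijective

end Groth.Agent.S9324
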