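import Groth.Statements.S9325
import Mathlib
-- import your own Groth.Agent.* helpers here

set_option autoImplicit false
universe u
open CAlg

namespace Groth.Agent.S9325

section
variable {A : Type u} [CommRing A] (I J : Ideal A)

/-- `J / IJ` as a module over `A / I`. -/
abbrev TT : Type u := ↥J ⧸ (I • ⊤ : Submodule A ↥J)

/-- class of an element of `J` in `J / IJ`. -/
noncomputable def tau (z : A) (hz : z ∈ J) : TT I J := Submodule.Quotient.mk ⟨z, hz⟩

theorem mk_smul_tau (a z : A) (hz : z ∈ J) :
    (Ideal.Quotient.mk I a) • tau I J z hz = tau I J (a * z) (J.mul_mem_left a hz) := rfl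

theorem tau_add (z w : A) (hz : z ∈ J) (hw : w ∈ J) :
    tau I J (z + w) (J.add_mem hz hw) = tau I J z hz + tau I J w hw := rfl

theorem tau_eq_zero_iff (z : A) (hz : z ∈ J) : tau I J z hz = 0 ↔ z ∈ I * J := by
  unfold tau
  rw [Submodule.Quotient.mk_eq_zero]
  constructor
  · intro h
    have h2 : (⟨z, hz⟩ : ↥J) ∈ (I • ⊤ : Submodule A ↥J) := h
    have h3 := Submodule.mem_map_of_mem (f := J.subtype) h2
    rw [Submodule.map_smul'', Submodule.map_top, Submodule.range_subtype] at h3
    exact h3
  · intro h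
    have h3 : z ∈ (I • (⊤ : Submodule A ↥J)).map J.subtype := by
      rw [Submodule.map_smul'', Submodule.map_top, Submodule.range_subtype]
      exact h
    obtain ⟨w, hw, hwz⟩ := h3
    have : w = ⟨z, hz⟩ := Subtype.ext hwz
    rw [← this]
    exact hw

end

section
variable {A : Type u} [CommRing A] (I J : Ideal A)

theorem local_step (g : A ⧸ I) (c : ℕ) (f : Fin c → Localization.Away g)
    (hf : CAlgX.IsH1Regular f)
    (hspan : Ideal.span (Set.range f) = (J.map (Ideal.Quotient.mk I)).map
      (algebraMap (A ⧸ I) (Localization.Away g)))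
    (x : A) (hxI : x ∈ I) (hxJ2 : x ∈ J * J) :
    ∃ N : ℕ, ∀ g' : A, Ideal.Quotient.mk I g' = g → g' ^ N * x ∈ I * J := by
  classical
  set S := Submonoid.powers g with hS
  have hfi : ∀ i, ∃ (φ : A) (_ : φ ∈ J) (s : S),
      f i = Localization.mk (Ideal.Quotient.mk I φ) s := by
    intro i
    have h1 : f i ∈ (J.map (Ideal.Quotient.mk I)).map
        (algebraMap (A ⧸ I) (Localization.Away g)) := by
      rw [← hspan]; exact Ideal.subset_span ⟨i, rfl⟩
    rw [IsLocalization.mem_map_algebraMap_iff S] at h1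
    obtain ⟨⟨⟨a, ha⟩, s⟩, h2⟩ := h1
    obtain ⟨φ, hφ, rfl⟩ := (Ideal.mem_map_iff_of_surjective _ Ideal.Quotient.mk_surjective).mp ha
    refine ⟨φ, hφ, s, ?_⟩
    rw [Localization.mk_eq_mk', IsLocalization.eq_mk'_iff_mul_eq]
    exact h2
  choose φ hφ s hfs using hfi
  let F : Fin c → LocalizedModule S (TT I J) :=
    fun i => LocalizedModule.mk (tau I J (φ i) (hφ i)) (s i)
  let ι := LocalizedModule.mkLinearMap S (TT I J)
  have KF : ∀ (i : Fin c) (v : A) (hv : v ∈ J),
      f i • ι (tau I J v hv) =
        algebraMap (A ⧸ I) (Localization.Away g) (Ideal.Quotient.mk I v) • F i := by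
    intro i v hv
    rw [hfs i, LocalizedModule.mkLinearMap_apply, LocalizedModule.mk_smul_mk,
      ← Localization.mk_one_eq_algebraMap, LocalizedModule.mk_smul_mk, mul_one, one_mul,
      mk_smul_tau, mk_smul_tau]
    congr 1
    simp only [mul_comm]
  have hJJ : J * J ≤ J := Ideal.mul_le_right
  have P : ∀ (z : A) (hz : z ∈ J * J), ∃ a : Fin c → Localization.Away g,
      ∑ i, a i * f i = algebraMap (A ⧸ I) (Localization.Away g) (Ideal.Quotient.mk I z) ∧
      ι (tau I J z (hJJ hz)) = ∑ i, a i • F i := by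
    intro z hz
    refine Submodule.smul_induction_on' (p := fun z hz => ∃ a : Fin c → Localization.Away g,
      ∑ i, a i * f i = algebraMap (A ⧸ I) (Localization.Away g) (Ideal.Quotient.mk I z) ∧
      ι (tau I J z (hJJ hz)) = ∑ i, a i • F i) hz ?_ ?_
    · intro r hr n hn
      have hu : algebraMap (A ⧸ I) (Localization.Away g) (Ideal.Quotient.mk I r) ∈
          Submodule.span (Localization.Away g) (Set.range f) := by
        change _ ∈ Ideal.span (Set.range f)
        rw [hspan]
        exact Ideal.mem_map_of_mem _ (Ideal.mem_map_of_mem _ hr)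
      obtain ⟨α, hα⟩ := (Submodule.mem_span_range_iff_exists_fun _).mp hu
      refine ⟨fun i => α i * algebraMap (A ⧸ I) (Localization.Away g) (Ideal.Quotient.mk I n),
        ?_, ?_⟩
      · have : ∀ i, α i * algebraMap (A ⧸ I) (Localization.Away g) (Ideal.Quotient.mk I n) * f i =
            (α i • f i) * algebraMap (A ⧸ I) (Localization.Away g) (Ideal.Quotient.mk I n) := by
          intro i; rw [smul_eq_mul]; ring
        simp only [this]
        rw [← Finset.sum_mul, hα, smul_eq_mul, map_mul, map_mul]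
      · have h1 : tau I J (r • n) (hJJ (Submodule.smul_mem_smul hr hn)) =
            (Ideal.Quotient.mk I r) • tau I J n hn := rfl
        rw [h1, map_smul, ← algebraMap_smul (Localization.Away g) (Ideal.Quotient.mk I r), ← hα,
          Finset.sum_smul]
        refine Finset.sum_congr rfl fun i _ => ?_
        rw [smul_assoc, KF i n hn, smul_smul]
    · intro z hz w hw ⟨a1, h11, h12⟩ ⟨a2, h21, h22⟩
      refine ⟨a1 + a2, ?_, ?_⟩
      · simp only [Pi.add_apply, add_mul, Finset.sum_add_distrib, h11, h21, map_add]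
      · have h1 : tau I J (z + w) (hJJ (add_mem hz hw)) =
            tau I J z (hJJ hz) + tau I J w (hJJ hw) := rfl
        rw [h1, map_add, h12, h22]
        simp only [Pi.add_apply, add_smul, Finset.sum_add_distrib]
  obtain ⟨a, ha1, ha2⟩ := P x hxJ2
  have hx0 : algebraMap (A ⧸ I) (Localization.Away g) (Ideal.Quotient.mk I x) = 0 := by
    rw [Ideal.Quotient.eq_zero_iff_mem.mpr hxI, map_zero]
  rw [hx0] at ha1
  have hspanK := hf a ha1
  let ψ := Fintype.linearCombination (Localization.Away g) F
  have hψ : ψ a = 0 := by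
    have hle : Submodule.span (Localization.Away g)
        {v : Fin c → Localization.Away g | ∃ i j : Fin c,
          v = Pi.single i (f j) - Pi.single j (f i)} ≤ LinearMap.ker ψ := by
      rw [Submodule.span_le]
      rintro _ ⟨i, j, rfl⟩
      rw [SetLike.mem_coe, LinearMap.mem_ker, map_sub, Fintype.linearCombination_apply,
        Fintype.linearCombination_apply]
      simp only [Pi.single_apply, ite_smul, zero_smul, Finset.sum_ite_eq', Finset.mem_univ,
        if_true]
      rw [sub_eq_zero]
      change f j • LocalizedModule.mk (tau I J (φ i) (hφ i)) (s i) =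
        f i • LocalizedModule.mk (tau I J (φ j) (hφ j)) (s j)
      rw [hfs j, hfs i, LocalizedModule.mk_smul_mk, LocalizedModule.mk_smul_mk, mk_smul_tau,
        mk_smul_tau, mul_comm (s j)]
      congr 1
      simp only [mul_comm]
    exact hle hspanK
  have hι : ι (tau I J x (hJJ hxJ2)) = 0 := by
    rw [ha2, ← Fintype.linearCombination_apply]
    exact hψ
  obtain ⟨⟨_, N, rfl⟩, hs'⟩ := (IsLocalizedModule.eq_zero_iff S ι).mp hι
  refine ⟨N, fun g' hg' => ?_⟩
  rw [← tau_eq_zero_iff I J (g' ^ N * x) (J.mul_mem_left _ (hJJ hxJ2)), ← mk_smul_tau, map_pow, hg']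
  exact hs'

end

/-- Let `A` be a ring and `I ⊆ J` ideals of `A` such that the ideal `J/I` of `A/I` is `H_1`-regular: for
every prime `𝔮` of `A/I` containing `J/I` there is `g ∉ 𝔮` such that the extension of `J/I` to
`(A/I)_g` is generated by an `H_1`-regular sequence (a finite sequence all of whose linear relations
are combinations of the trivial ones). Then `I ∩ J² = I J`. -/
theorem result {A : Type u} [CommRing A] (I J : Ideal A)
    (hIJ : I ≤ J)
    (h : ∀ (𝔮 : Ideal (A ⧸ I)) [𝔮.IsPrime], J.map (Ideal.Quotient.mk I) ≤ 𝔮 →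
      ∃ g : A ⧸ I, g ∉ 𝔮 ∧ ∃ (c : ℕ) (f : Fin c → Localization.Away g),
        CAlgX.IsH1Regular f ∧
          Ideal.span (Set.range f) =
            (J.map (Ideal.Quotient.mk I)).map (algebraMap (A ⧸ I) (Localization.Away g))) :
    I ⊓ J ^ 2 = I * J := by
  apply le_antisymm
  · rintro x ⟨hxI, hxJ2⟩
    have hxJ2' : x ∈ J * J := by
      have : x ∈ J ^ 2 := hxJ2
      rwa [pow_two] at this
    by_contra hx
    let K : Ideal A := (I * J : Submodule A A).colon {x}
    have hK : K ≠ ⊤ := by
      intro hK
      apply hx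
      have h1 : (1 : A) ∈ K := hK ▸ Submodule.mem_top
      rw [Submodule.mem_colon_singleton, one_smul] at h1
      exact h1
    obtain ⟨m, hm, hKm⟩ := Ideal.exists_le_maximal K hK
    by_cases hJm : J ≤ m
    · have hIm : I ≤ m := hIJ.trans hJm
      have h𝔮 : (m.map (Ideal.Quotient.mk I)).IsPrime :=
        Ideal.map_isPrime_of_surjective Ideal.Quotient.mk_surjective (by rwa [Ideal.mk_ker])
      obtain ⟨g, hg, c, f, hf, hspan⟩ := h (m.map (Ideal.Quotient.mk I)) (Ideal.map_mono hJm)
      obtain ⟨N, hN⟩ := local_step I J g c f hf hspan x hxI hxJ2'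
      obtain ⟨g', rfl⟩ := Ideal.Quotient.mk_surjective g
      have h1 : g' ^ N ∈ K := by
        rw [Submodule.mem_colon_singleton]; exact hN g' rfl
      have h2 : g' ∈ m := hm.isPrime.mem_of_pow_mem N (hKm h1)
      exact hg (Ideal.mem_map_of_mem _ h2)
    · obtain ⟨j, hjJ, hjm⟩ := Set.not_subset.mp hJm
      apply hjm
      apply hKm
      rw [Submodule.mem_colon_singleton, smul_eq_mul, mul_comm j x]
      exact Ideal.mul_mem_mul hxI hjJ
  · refine le_inf Ideal.mul_le_left ?_
    rw [pow_two]
    exact Ideal.mul_mono_left hIJ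

end Groth.Agent.S9325
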