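import Groth.Statements.S9326
import Mathlib

set_option autoImplicit false
universe u
open CAlg

namespace Groth.Agent.S9326

open Topology Filter

/-- key approximation lemma: with a decreasing basis `V n` of open subgroups and `W n = closure (u (V n))`
open, `W n ⊆ u (V n)` -/
lemma closure_image_subset {N M : Type u} [AddCommGroup N]
    [AddCommGroup M] [UniformSpace N] [IsUniformAddGroup N] [TopologicalSpace M]
    [IsTopologicalAddGroup M] [T2Space M] [T2Space N] [CompleteSpace N]
    (u : N →+ M) (hu : Continuous u)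
    (V : ℕ → OpenAddSubgroup N) (hVanti : ∀ m n, m ≤ n → ∀ x, x ∈ V n → x ∈ V m)
    (hVbasis : ∀ U ∈ 𝓝 (0 : N), ∃ n, (V n : Set N) ⊆ U)
    (W : ℕ → AddSubgroup M) (hWcoe : ∀ n, (W n : Set M) = closure (u '' (V n : Set N)))
    (hWopen : ∀ n, IsOpen (W n : Set M)) (n₀ : ℕ) (y : M) (hy : y ∈ W n₀) :
    ∃ x ∈ V n₀, u x = y := by
  have hVW : ∀ n x, x ∈ V n → u x ∈ W n := by
    intro n x hx
    have : u x ∈ (W n : Set M) := by
      rw [hWcoe]; exact subset_closure ⟨x, hx, rfl⟩
    exact this
  have hWanti : ∀ m n, m ≤ n → ∀ z, z ∈ W n → z ∈ W m := by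
    intro m n hmn z hz
    have hz' : z ∈ (W n : Set M) := hz
    rw [hWcoe] at hz'
    have : z ∈ (W m : Set M) := by
      rw [hWcoe]
      refine closure_mono ?_ hz'
      rintro _ ⟨x, hx, rfl⟩
      exact ⟨x, hVanti m n hmn x hx, rfl⟩
    exact this
  -- one approximation step
  have step : ∀ (m : ℕ) (s : N), y - u s ∈ W (n₀ + m) →
      ∃ x, x ∈ V (n₀ + m) ∧ y - u (s + x) ∈ W (n₀ + m + 1) := by
    intro m s hs
    have hs' : y - u s ∈ closure (u '' (V (n₀ + m) : Set N)) := by
      rw [← hWcoe]; exact hs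
    rw [mem_closure_iff] at hs'
    have hopen : IsOpen ((fun t : M => t - (y - u s)) ⁻¹' (W (n₀ + m + 1) : Set M)) :=
      (hWopen _).preimage (continuous_id.sub continuous_const)
    have hmem : (y - u s) ∈ ((fun t : M => t - (y - u s)) ⁻¹' (W (n₀ + m + 1) : Set M)) := by
      simp only [Set.mem_preimage, sub_self]
      exact (W (n₀ + m + 1)).zero_mem
    obtain ⟨z, hz1, x, hx, rfl⟩ := hs' _ hopen hmem
    refine ⟨x, hx, ?_⟩
    have h1 : u x - (y - u s) ∈ W (n₀ + m + 1) := hz1
    have h2 : y - u (s + x) = -(u x - (y - u s)) := by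
      rw [map_add]; abel
    rw [h2]
    exact (W (n₀ + m + 1)).neg_mem h1
  -- build the sequence of partial sums
  let t : (m : ℕ) → {s : N // y - u s ∈ W (n₀ + m)} := fun m =>
    Nat.rec (motive := fun m => {s : N // y - u s ∈ W (n₀ + m)})
      ⟨0, by simpa using hy⟩
      (fun m tm => ⟨tm.1 + Classical.choose (step m tm.1 tm.2),
        (Classical.choose_spec (step m tm.1 tm.2)).2⟩) m
  have ht_succ : ∀ m, (t (m + 1)).1 - (t m).1 ∈ V (n₀ + m) := by
    intro m
    have : (t (m + 1)).1 = (t m).1 + Classical.choose (step m (t m).1 (t m).2) := rfl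
    rw [this, add_sub_cancel_left]
    exact (Classical.choose_spec (step m (t m).1 (t m).2)).1
  have ht0 : (t 0).1 = 0 := rfl
  -- differences
  have hdiff : ∀ k l, k ≤ l → (t l).1 - (t k).1 ∈ V (n₀ + k) := by
    intro k l hkl
    induction l, hkl using Nat.le_induction with
    | base => simp only [sub_self]; exact (V (n₀ + k)).zero_mem
    | succ l hkl ih =>
      have h1 := ht_succ l
      have h2 : (t (l + 1)).1 - (t l).1 ∈ V (n₀ + k) :=
        hVanti (n₀ + k) (n₀ + l) (by omega) _ h1
      have : (t (l + 1)).1 - (t k).1 = ((t (l + 1)).1 - (t l).1) + ((t l).1 - (t k).1) := by abel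
      rw [this]
      exact (V (n₀ + k)).add_mem h2 ih
  -- Cauchy
  have hcauchy : CauchySeq (fun m => (t m).1) := by
    rw [cauchySeq_iff]
    intro E hE
    rw [uniformity_eq_comap_nhds_zero N, Filter.mem_comap] at hE
    obtain ⟨U, hU, hUE⟩ := hE
    obtain ⟨n, hn⟩ := hVbasis U hU
    refine ⟨n, fun k hk l hl => ?_⟩
    apply hUE
    simp only [Set.mem_preimage]
    apply hn
    rcases le_total k l with hkl | hkl
    · exact hVanti n (n₀ + k) (by omega) _ (hdiff k l hkl)
    · have := hVanti n (n₀ + l) (by omega) _ (hdiff l k hkl)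
      have h2 : (t l).1 - (t k).1 = -((t k).1 - (t l).1) := by abel
      rw [h2]
      exact (V n).neg_mem this
  obtain ⟨x, hx⟩ := cauchySeq_tendsto_of_complete hcauchy
  -- x - s_m ∈ V (n₀ + m)
  have hxdiff : ∀ m, x - (t m).1 ∈ V (n₀ + m) := by
    intro m
    have hclosed : IsClosed ((V (n₀ + m) : Set N)) := (V (n₀ + m)).isClosed
    have htend : Tendsto (fun l => (t l).1 - (t m).1) atTop (𝓝 (x - (t m).1)) :=
      hx.sub tendsto_const_nhds
    refine hclosed.mem_of_tendsto htend ?_
    filter_upwards [Filter.eventually_ge_atTop m] with l hl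
    exact hdiff m l hl
  have hxV : x ∈ V n₀ := by
    have := hxdiff 0
    simpa [ht0] using this
  refine ⟨x, hxV, ?_⟩
  -- y - u x ∈ W (n₀ + m) for all m
  have hz : ∀ m, y - u x ∈ W (n₀ + m) := by
    intro m
    have h1 := (t m).2
    have h2 : u (x - (t m).1) ∈ W (n₀ + m) := hVW _ _ (hxdiff m)
    have : y - u x = (y - u (t m).1) - u (x - (t m).1) := by
      rw [map_sub]; abel
    rw [this]
    exact (W (n₀ + m)).sub_mem h1 h2
  -- hence zero
  by_contra hne
  have hne' : y - u x ≠ 0 := fun h => hne (by rw [sub_eq_zero] at h; exact h.symm)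
  have hnhds : ({y - u x}ᶜ : Set M) ∈ 𝓝 (0 : M) :=
    isOpen_compl_singleton.mem_nhds (by simpa using hne'.symm)
  obtain ⟨C, ⟨hC0, hCcl⟩, hCsub⟩ := (closed_nhds_basis (0 : M)).mem_iff.1 hnhds
  have hpre : u ⁻¹' C ∈ 𝓝 (0 : N) := by
    apply hu.continuousAt
    rw [map_zero]; exact hC0
  obtain ⟨n, hn⟩ := hVbasis _ hpre
  have hWC : (W n : Set M) ⊆ C := by
    rw [hWcoe]
    apply closure_minimal _ hCcl
    rintro _ ⟨a, ha, rfl⟩
    exact hn ha
  have : y - u x ∈ W n := hWanti n (n₀ + n) (by omega) _ (hz n)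
  exact hCsub (hWC this) rfl


/-- Let `u : N → M` be a continuous homomorphism of topological abelian groups. Assume `M` is Hausdorff
and `N` is Hausdorff and complete, linearly topologized (every neighbourhood of zero contains an
open subgroup) and first countable (zero has a countable basis of neighbourhoods). Then exactly one
of two things holds: `u` is an open map; or there is an open subgroup of `N` whose image is nowhere
dense in `M`. -/
theorem result {N M : Type u} [AddCommGroup N]
    [AddCommGroup M] [UniformSpace N] [IsUniformAddGroup N] [TopologicalSpace M]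
    [IsTopologicalAddGroup M] [T2Space M] [T2Space N] [CompleteSpace N] [NonarchimedeanAddGroup N]
    [FirstCountableTopology N] (u : N →+ M) (hu : Continuous u) :
    Xor (IsOpenMap u) (∃ V : OpenAddSubgroup N, IsNowhereDense (u '' (V : Set N))) := by
  by_cases hex : ∃ V : OpenAddSubgroup N, IsNowhereDense (u '' (V : Set N))
  · right
    refine ⟨hex, ?_⟩
    intro hopen
    obtain ⟨V, hV⟩ := hex
    have h1 : IsOpen (u '' (V : Set N)) := hopen _ V.isOpen
    have h2 : u '' (V : Set N) ⊆ interior (closure (u '' (V : Set N))) :=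
      interior_maximal subset_closure h1
    have h3 : (0 : M) ∈ u '' (V : Set N) := ⟨0, V.zero_mem, map_zero u⟩
    have := h2 h3
    rw [hV] at this
    exact this
  · left
    refine ⟨?_, hex⟩
    push Not at hex
    -- decreasing basis of open subgroups
    obtain ⟨s, hs⟩ := (𝓝 (0 : N)).exists_antitone_basis
    have hV' : ∀ n, ∃ V : OpenAddSubgroup N, (V : Set N) ⊆ s n := fun n =>
      NonarchimedeanAddGroup.is_nonarchimedean (s n) (hs.mem n)
    choose V' hV' using hV'
    obtain ⟨V, hV0, hVs⟩ : ∃ V : ℕ → OpenAddSubgroup N, V 0 = V' 0 ∧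
        ∀ n, V (n + 1) = V n ⊓ V' (n + 1) :=
      ⟨fun n => Nat.rec (V' 0) (fun k Vk => Vk ⊓ V' (k + 1)) n, rfl, fun n => rfl⟩
    have hVle : ∀ n, V n ≤ V' n := by
      intro n
      cases n with
      | zero => rw [hV0]
      | succ n => rw [hVs]; exact inf_le_right
    have hVanti' : Antitone V := antitone_nat_of_succ_le (fun n => by rw [hVs]; exact inf_le_left)
    have hVanti : ∀ m n, m ≤ n → ∀ x, x ∈ V n → x ∈ V m := fun m n hmn x hx => hVanti' hmn hx
    have hVbasis : ∀ U ∈ 𝓝 (0 : N), ∃ n, (V n : Set N) ⊆ U := by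
      intro U hU
      obtain ⟨n, -, hn⟩ := hs.toHasBasis.mem_iff.1 hU
      refine ⟨n, fun x hx => hn (hV' n (hVle n hx))⟩
    obtain ⟨W, hW⟩ : ∃ W : ℕ → AddSubgroup M,
        ∀ n, W n = (((V n : AddSubgroup N)).map u).topologicalClosure := ⟨_, fun n => rfl⟩
    have hWcoe : ∀ n, (W n : Set M) = closure (u '' (V n : Set N)) := by
      intro n
      rw [hW]
      simp only [AddSubgroup.topologicalClosure_coe, AddSubgroup.coe_map]
      rfl
    have hWopen : ∀ n, IsOpen (W n : Set M) := by
      intro n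
      have hne : (interior (closure (u '' (V n : Set N)))).Nonempty := by
        rw [Set.nonempty_iff_ne_empty]
        exact hex (V n)
      obtain ⟨z, hz⟩ := hne
      apply AddSubgroup.isOpen_of_mem_nhds (W n) (g := z)
      rw [hWcoe]
      exact mem_interior_iff_mem_nhds.1 hz
    have himage : ∀ n, u '' (V n : Set N) = (W n : Set M) := by
      intro n
      apply Set.Subset.antisymm
      · rw [hWcoe]; exact subset_closure
      · intro y hy
        obtain ⟨x, hx, rfl⟩ := closure_image_subset u hu V hVanti hVbasis W hWcoe hWopen n y hy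
        exact ⟨x, hx, rfl⟩
    -- open map
    intro U hU
    rw [isOpen_iff_mem_nhds]
    rintro _ ⟨a, ha, rfl⟩
    have h1 : (fun x => a + x) ⁻¹' U ∈ 𝓝 (0 : N) := by
      apply (continuous_const.add continuous_id).continuousAt
      show U ∈ 𝓝 (a + id 0)
      rw [id, add_zero]
      exact hU.mem_nhds ha
    obtain ⟨n, hn⟩ := hVbasis _ h1
    have h2 : (fun z : M => z - u a) ⁻¹' (W n : Set M) ∈ 𝓝 (u a) := by
      apply (continuous_id.sub continuous_const).continuousAt
      show (W n : Set M) ∈ 𝓝 (id (u a) - u a)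
      rw [id, sub_self]
      exact (hWopen n).mem_nhds (W n).zero_mem
    refine Filter.mem_of_superset h2 ?_
    intro z hz
    have hz' : z - u a ∈ (W n : Set M) := hz
    rw [← himage] at hz'
    obtain ⟨x, hx, hxz⟩ := hz'
    refine ⟨a + x, hn hx, ?_⟩
    rw [map_add, hxz]; abel

end Groth.Agent.S9326
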