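import Groth.Statements.S9330
-- import your own Groth.Agent.* helpers here
import Groth.Agent.Lib.Helper26PairHzMore
import Groth.Agent.S1998

set_option autoImplicit false
universe u
open Hensel

namespace Groth.Agent.S9330

open Groth.Agent.Lib.Helper26.PairHz Groth.Agent.Lib.Helper2

/-- Let `(A_i, I_i)` be a directed system of pairs (rings `A_i` with ideals `I_i`, the transition maps
sending `I_i` into `I_j`), with colimit ring `A` and `I ⊆ A` the ideal generated by (equivalently,
the union of) the images of the `I_i`. For each `i` let `B_i` be a henselization of the pair `(A_i,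
I_i)`, with the compatible transition maps `B_i → B_j` over `A_i → A_j` (these are the induced ones,
being unique), and give the colimit of the `B_i` the `A`-algebra structure induced by the maps `A_i
→ B_i`. Then `colim B_i`, with the extension of `I`, is a henselization of the pair `(A, I)`. (The
index set is taken in the universe of the rings; the statement fails for non-filtered colimits.) -/
theorem result {ι : Type u} [Preorder ι] [IsDirectedOrder ι] [Nonempty ι]
    (G : ι → Type u) [∀ i, CommRing (G i)] (f : ∀ i j : ι, i ≤ j → (G i →+* G j))
    [DirectedSystem G (fun i j h => f i j h)] (I : ∀ i, Ideal (G i))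
    (hI : ∀ (i j : ι) (h : i ≤ j), (I i).map (f i j h) ≤ I j)
    (B : ι → Type u) [∀ i, CommRing (B i)] [∀ i, Algebra (G i) (B i)]
    (hB : ∀ i, Hens2.IsPairHenselization (G i) (I i) (B i))
    (g : ∀ i j : ι, i ≤ j → (B i →+* B j)) [DirectedSystem B (fun i j h => g i j h)]
    (hg : ∀ (i j : ι) (h : i ≤ j), (g i j h).comp (algebraMap (G i) (B i)) = (algebraMap (G j) (B j)).comp (f i j h))
    [Algebra (DirectLimit G f) (DirectLimit B g)]
    (halg : ∀ (i : ι) (x : G i), algebraMap (DirectLimit G f) (DirectLimit B g) (DirectLimit.Ring.of G f i x) =
      DirectLimit.Ring.of B g i (algebraMap (G i) (B i) x)) :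
    Hens2.IsPairHenselization (DirectLimit G f) (⨆ i, (I i).map (DirectLimit.Ring.of G f i))
      (DirectLimit B g) := by
  have halg' : ∀ i, (algebraMap (DirectLimit G f) (DirectLimit B g)).comp (DirectLimit.Ring.of G f i) =
      (DirectLimit.Ring.of B g i).comp (algebraMap (G i) (B i)) := fun i => RingHom.ext (halg i)
  refine ⟨?_, ?_⟩
  · -- Henselian
    have hK : ∀ i j (h : i ≤ j), ((I i).map (algebraMap (G i) (B i))).map (g i j h) ≤
        (I j).map (algebraMap (G j) (B j)) := by
      intro i j h
      rw [Ideal.map_map, hg, ← Ideal.map_map]
      exact Ideal.map_mono (hI i j h)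
    have h1 := Groth.Agent.S1998.result B g (fun i => (I i).map (algebraMap (G i) (B i))) hK
      (fun i => (hB i).1)
    let e := Ring.DirectLimit.ringEquiv B g
    have h2 := henselianRing_map_of_surjective e.toRingHom e.surjective (by
      have : RingHom.ker e.toRingHom = ⊥ := (RingHom.injective_iff_ker_eq_bot _).mp e.injective
      rw [this]; exact bot_le) _ h1
    have h3 : (⨆ i, ((I i).map (algebraMap (G i) (B i))).map
        (Ring.DirectLimit.of B (fun i j h => g i j h) i)).map e.toRingHom =
        (⨆ i, (I i).map (DirectLimit.Ring.of G f i)).map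
          (algebraMap (DirectLimit G f) (DirectLimit B g)) := by
      rw [Ideal.map_iSup, Ideal.map_iSup]
      congr 1
      ext i : 1
      rw [Ideal.map_map, Ideal.map_map, Ideal.map_map, halg' i]
      congr 1
      ext x
      exact Ring.DirectLimit.ringEquiv_of B g
    rw [h3] at h2
    exact h2
  · intro D _ K F hD hK
    have hKi : ∀ i, (I i).map (F.comp (DirectLimit.Ring.of G f i)) ≤ K := by
      intro i
      rw [← Ideal.map_map]
      exact (Ideal.map_mono (le_iSup (fun i => (I i).map (DirectLimit.Ring.of G f i)) i)).trans hK
    have hex : ∀ i, ∃! β : B i →+* D,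
        β.comp (algebraMap (G i) (B i)) = F.comp (DirectLimit.Ring.of G f i) :=
      fun i => (hB i).2 D K _ hD (hKi i)
    choose β hβ hβuniq using hex
    have hcompat : ∀ i j (h : i ≤ j) (x : B i), β j (g i j h x) = β i x := by
      intro i j h x
      have : (β j).comp (g i j h) = β i := by
        apply hβuniq
        rw [RingHom.comp_assoc, hg, ← RingHom.comp_assoc, hβ j, RingHom.comp_assoc]
        congr 1
        ext y
        exact DirectLimit.Ring.of_f h y
      exact congrArg (fun k : B i →+* D => k x) this
    let β' : DirectLimit B g →+* D := DirectLimit.Ring.lift B g D β hcompat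
    have hβ' : ∀ i (x : B i), β' (DirectLimit.Ring.of B g i x) = β i x := fun i x => rfl
    refine ⟨β', ?_, ?_⟩
    · refine RingHom.ext (fun z => ?_)
      induction z using DirectLimit.induction with
      | _ i x =>
        change β' (algebraMap _ _ (DirectLimit.Ring.of G f i x)) = F (DirectLimit.Ring.of G f i x)
        rw [halg, hβ']
        exact congrArg (fun k : G i →+* D => k x) (hβ i)
    · intro β'' hβ''
      refine RingHom.ext (fun z => ?_)
      induction z using DirectLimit.induction with
      | _ i x =>
        change β'' (DirectLimit.Ring.of B g i x) = β' (DirectLimit.Ring.of B g i x)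
        rw [hβ']
        have : β''.comp (DirectLimit.Ring.of B g i) = β i := by
          apply hβuniq
          rw [RingHom.comp_assoc, ← halg' i, ← RingHom.comp_assoc]
          have : β''.comp (algebraMap (DirectLimit G f) (DirectLimit B g)) = F := hβ''
          rw [this]
        exact congrArg (fun k : B i →+* D => k x) this

end Groth.Agent.S9330
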