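import Groth.Statements.S9333
import Mathlib.AlgebraicGeometry.Morphisms.Finite
import Mathlib.AlgebraicGeometry.PullbackCarrier

set_option autoImplicit false
universe u
open QFin

namespace Groth.Agent.S9333

open AlgebraicGeometry CategoryTheory Limits

/-- Closedness of a point of a fibre, in terms of specializations in the ambient scheme. -/
theorem isClosed_singleton_fiber_iff {X S : Scheme.{u}} (f : X ⟶ S) (s : S) (a : ↑(f.fiber s)) :
    IsClosed ({a} : Set ↑(f.fiber s)) ↔
      ∀ z : X, (f.fiberι s).base a ⤳ z → f.base z = s → z = (f.fiberι s).base a := by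
  have hemb := (f.fiberι s).isEmbedding
  constructor
  · intro hc z hz hzs
    have hzr : z ∈ Set.range (f.fiberι s).base := by
      rw [Scheme.Hom.range_fiberι]; exact hzs
    obtain ⟨b, rfl⟩ := hzr
    have hab : a ⤳ b := hemb.isInducing.specializes_iff.mp hz
    have := hab.mem_closed hc (Set.mem_singleton a)
    rw [Set.mem_singleton_iff.mp this]
  · intro h
    rw [← closure_subset_iff_isClosed]
    intro b hb
    have hab : a ⤳ b := specializes_iff_mem_closure.mpr hb
    have h1 : (f.fiberι s).base a ⤳ (f.fiberι s).base b := hab.map (f.fiberι s).continuous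
    have h2 : f.base ((f.fiberι s).base b) = s := by
      have : (f.fiberι s).base b ∈ Set.range (f.fiberι s).base := ⟨b, rfl⟩
      rw [Scheme.Hom.range_fiberι] at this
      exact this
    exact Set.mem_singleton_iff.mpr (hemb.injective (h _ h1 h2))

/-- If `x` is closed in its fibre then the residue field extension is finite. -/
theorem isFinite_of_isClosed_asFiber {X S : Scheme.{u}} (f : X ⟶ S) [LocallyOfFiniteType f] (x : X)
    (hx : IsClosed ({f.asFiber x} : Set ↑(f.fiber (f.base x)))) :
    IsFinite (Spec.map (f.residueFieldMap x)) := by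
  have h1 : IsClosedImmersion (f.asFiberHom x) := by
    apply IsClosedImmersion.of_isPreimmersion
    rw [Scheme.Hom.range_asFiberHom]
    exact hx
  have h2 : LocallyOfFiniteType (f.fiberToSpecResidueField (f.base x)) :=
    MorphismProperty.pullback_snd _ _ inferInstance
  have h3 : LocallyOfFiniteType (Spec.map (f.residueFieldMap x)) := by
    rw [← Scheme.Hom.asFiberHom_fiberToSpecResidueField]
    infer_instance
  exact isFinite_iff_locallyOfFiniteType_of_jacobsonSpace.mpr h3

theorem eq_of_specializes_of_isDiscrete {T : Type*} [TopologicalSpace T] {D : Set T}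
    (hD : _root_.IsDiscrete D) {a b : T} (ha : a ∈ D) (hb : b ∈ D) (h : a ⤳ b) : a = b := by
  have : DiscreteTopology D := isDiscrete_iff_discreteTopology.mp hD
  have h1 : (⟨a, ha⟩ : D) ⤳ ⟨b, hb⟩ := (subtype_specializes_iff _ _).mpr h
  exact congrArg Subtype.val h1.eq

open AlgebraicGeometry CategoryTheory in
/-- Let f : X → S be locally of finite type, g : S' → S any morphism and X' = X ×_S S' with projections
g' : X' → X and f' : X' → S'. If x' ∈ X' maps to x ∈ X and x is closed in the fibre X_{f x}, then x'
is closed in the fibre X'_{f' x'}. -/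
theorem result {X S X' S' : Scheme.{u}} (f : X ⟶ S) [LocallyOfFiniteType f] (g : S' ⟶ S)
    (g' : X' ⟶ X) (f' : X' ⟶ S') (hsq : IsPullback g' f' f g) (x' : X')
    (hx : IsClosed ({f.asFiber (g'.base x')} : Set ↑(f.fiber (f.base (g'.base x'))))) :
    IsClosed ({f'.asFiber x'} : Set ↑(f'.fiber (f'.base x'))) := by
  have hfin := isFinite_of_isClosed_asFiber f (g'.base x') hx
  rw [isClosed_singleton_fiber_iff] at hx ⊢
  rw [Scheme.Hom.fiberι_asFiber] at hx ⊢
  set x := g'.base x' with hxdef
  -- the composite `Spec κ(x) ⟶ X ⟶ S` is locally quasi-finite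
  have hcomp : X.fromSpecResidueField x ≫ f =
      Spec.map (f.residueFieldMap x) ≫ S.fromSpecResidueField (f.base x) :=
    (Scheme.Hom.SpecMap_residueFieldMap_fromSpecResidueField f x).symm
  have hlqf : LocallyQuasiFinite (X.fromSpecResidueField x ≫ f) := by
    rw [hcomp]; infer_instance
  -- base change to `S'`
  let p := pullback.snd (X.fromSpecResidueField x) g'
  have hpb : IsPullback (pullback.fst (X.fromSpecResidueField x) g') (p ≫ f')
      (X.fromSpecResidueField x ≫ f) g :=
    (IsPullback.of_hasPullback (X.fromSpecResidueField x) g').paste_vert hsq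
  have hq : LocallyQuasiFinite (p ≫ f') := MorphismProperty.of_isPullback hpb hlqf
  have hp : IsPreimmersion p := MorphismProperty.pullback_snd _ _ inferInstance
  have hrange : Set.range p.base = g'.base ⁻¹' {x} := by
    rw [Scheme.Pullback.range_snd, Scheme.range_fromSpecResidueField]
  intro z' hz' hfz'
  -- `z'` lies over `x`
  have h1 : x ⤳ g'.base z' := hz'.map g'.continuous
  have hw : ∀ y : X', f.base (g'.base y) = g.base (f'.base y) := by
    intro y
    rw [← Scheme.Hom.comp_apply, ← Scheme.Hom.comp_apply, hsq.w]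
  have h2 : f.base (g'.base z') = f.base x := by
    rw [hw, hfz', hxdef, hw]
  have h3 : g'.base z' = x := hx _ h1 h2
  obtain ⟨w1, hw1⟩ : x' ∈ Set.range p.base := by rw [hrange]; rfl
  obtain ⟨w2, hw2⟩ : z' ∈ Set.range p.base := by rw [hrange]; exact h3
  have h4 : w1 ⤳ w2 := by
    rw [← hp.isEmbedding.isInducing.specializes_iff, hw1, hw2]; exact hz'
  have hD := (p ≫ f').isDiscrete_preimage_singleton (f'.base x')
  have hm1 : w1 ∈ (p ≫ f').base ⁻¹' {f'.base x'} := by
    show (p ≫ f').base w1 = f'.base x'
    rw [Scheme.Hom.comp_apply, hw1]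
  have hm2 : w2 ∈ (p ≫ f').base ⁻¹' {f'.base x'} := by
    show (p ≫ f').base w2 = f'.base x'
    rw [Scheme.Hom.comp_apply, hw2, hfz']
  have h5 := eq_of_specializes_of_isDiscrete hD hm1 hm2 h4
  rw [← hw2, ← hw1, h5]

end Groth.Agent.S9333
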