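import Groth.Statements.S9336
import Groth.Agent.S9334
import Mathlib.AlgebraicGeometry.Morphisms.Finite

set_option autoImplicit false
universe u
open QFin

namespace Groth.Agent.S9336

open AlgebraicGeometry CategoryTheory in
/-- Let f : X → Y be surjective and g : Y → S locally of finite type. If g ∘ f is locally quasi-finite
(and locally of finite type), then g is locally quasi-finite. -/
theorem result {X Y S : Scheme.{u}} (f : X ⟶ Y) (g : Y ⟶ S) [Surjective f]
    [LocallyQuasiFinite (f ≫ g)] [LocallyOfFiniteType (f ≫ g)] [LocallyOfFiniteType g] :
    LocallyQuasiFinite g := by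
  have hf : LocallyOfFiniteType f := locallyOfFiniteType_of_comp f g
  rw [locallyQuasiFinite_iff_isDiscrete_preimage_singleton]
  intro s
  rw [isDiscrete_iff_discreteTopology, ← (g.fiberHomeo s).discreteTopology_iff]
  -- the base change of `f` to the fibre of `g`
  let p1 := Limits.pullback.fst f (g.fiberι s)
  let p2 := Limits.pullback.snd f (g.fiberι s)
  have hsurj : Surjective p2 := MorphismProperty.pullback_snd _ _ inferInstance
  have hlft : LocallyOfFiniteType p2 := MorphismProperty.pullback_snd _ _ inferInstance
  have hpre : IsPreimmersion p1 := MorphismProperty.pullback_fst _ _ inferInstance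
  have hrange : Set.range p1.base = (f ≫ g).base ⁻¹' {s} := by
    rw [Scheme.Pullback.range_fst, Scheme.Hom.range_fiberι]
    rfl
  have hdisc : DiscreteTopology ↑(Limits.pullback f (g.fiberι s)) := by
    have h1 : _root_.IsDiscrete (Set.range p1.base) := by
      rw [hrange]; exact (f ≫ g).isDiscrete_preimage_singleton s
    have h2 : DiscreteTopology (Set.range p1.base) := isDiscrete_iff_discreteTopology.mp h1
    exact (p1.isEmbedding.toHomeomorph).symm.discreteTopology
  have hclosed : ∀ a : ↑(g.fiber s), IsClosed ({a} : Set ↑(g.fiber s)) := by
    intro a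
    obtain ⟨p, rfl⟩ := p2.surjective a
    exact p2.closePoints_subset_preimage_closedPoints (isClosed_discrete {p})
  rw [discreteTopology_iff_isOpen_singleton]
  intro a
  refine Groth.Agent.S9334.isOpen_singleton_of_isLocallyNoetherian _ a (hclosed a) ?_
  intro x' hx'
  have := hx'.mem_closed (hclosed x') (Set.mem_singleton x')
  exact (Set.mem_singleton_iff.mp this).symm

end Groth.Agent.S9336
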