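import Groth.Statements.S9337
import Groth.Agent.Lib.Helper14FtPts

set_option autoImplicit false
universe u
open FtPts

namespace Groth.Agent.S9337

open AlgebraicGeometry CategoryTheory

theorem isClosedImmersion_fromSpecResidueField_field (k : Type u) [Field k]
    (pt : Spec (CommRingCat.of k)) :
    IsClosedImmersion ((Spec (CommRingCat.of k)).fromSpecResidueField pt) := by
  apply isClosed_singleton_iff_isClosedImmersion.mp
  have : pt = IsLocalRing.closedPoint k := Subsingleton.elim (α := PrimeSpectrum k) _ _
  rw [this]
  exact IsLocalRing.isClosed_singleton_closedPoint k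

theorem isIso_fromSpecResidueField_field (k : Type u) [Field k] (pt : Spec (CommRingCat.of k)) :
    IsIso ((Spec (CommRingCat.of k)).fromSpecResidueField pt) := by
  have h1 := isClosedImmersion_fromSpecResidueField_field k pt
  have h2 : Surjective ((Spec (CommRingCat.of k)).fromSpecResidueField pt) := by
    refine ⟨fun y => ⟨IsLocalRing.closedPoint _, ?_⟩⟩
    exact Subsingleton.elim (α := PrimeSpectrum k) _ _
  exact isIso_of_isClosedImmersion_of_surjective _

open AlgebraicGeometry CategoryTheory in
/-- Let k be a field and f : Spec k → S a morphism of schemes with image point u. Then f is locally of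
finite type if and only if some affine open U ∋ u of S has u as a closed point and the residue field
of Spec k (that is, k) is finite over κ(u). -/
theorem result (S : Scheme.{u}) (k : Type u) [Field k] (f : Spec (CommRingCat.of k) ⟶ S) :
    LocallyOfFiniteType f ↔
      ∃ U : S.Opens, IsAffineOpen U ∧ ∃ hu : f.base (IsLocalRing.closedPoint k) ∈ U,
        IsClosed ({⟨f.base (IsLocalRing.closedPoint k), hu⟩} : Set ↥U) ∧
          (f.residueFieldMap (IsLocalRing.closedPoint k)).hom.Finite := by
  set pt : Spec (CommRingCat.of k) := IsLocalRing.closedPoint k with hpt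
  have hcomp := Scheme.Hom.SpecMap_residueFieldMap_fromSpecResidueField f pt
  have hiso := isIso_fromSpecResidueField_field k pt
  constructor
  · intro hf
    obtain ⟨U, hU, hu, hc⟩ :=
      Groth.Agent.Lib.Helper14.exists_affineOpen_isClosed_of_locallyOfFiniteType S k f pt
    refine ⟨U, hU, hu, hc, ?_⟩
    have h1 : LocallyOfFiniteType
        (Spec.map (f.residueFieldMap pt) ≫ S.fromSpecResidueField (f.base pt)) := by
      rw [hcomp]; infer_instance
    have h2 : LocallyOfFiniteType (Spec.map (f.residueFieldMap pt)) :=
      locallyOfFiniteType_of_comp _ (S.fromSpecResidueField (f.base pt))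
    have h3 : (f.residueFieldMap pt).hom.FiniteType :=
      (HasRingHomProperty.Spec_iff (P := @LocallyOfFiniteType)).mp h2
    exact RingHom.finite_iff_finiteType_of_isJacobsonRing.mpr h3
  · rintro ⟨U, hU, hu, hc, hfin⟩
    have h1 : LocallyOfFiniteType (S.fromSpecResidueField (f.base pt)) :=
      Groth.Agent.Lib.Helper14.ftPoint_of_isClosed_in_open S U _ hu hc
    have h2 : LocallyOfFiniteType (Spec.map (f.residueFieldMap pt)) :=
      (HasRingHomProperty.Spec_iff (P := @LocallyOfFiniteType)).mpr
        (RingHom.FiniteType.of_finite hfin)
    have h3 : LocallyOfFiniteType ((Spec (CommRingCat.of k)).fromSpecResidueField pt ≫ f) := by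
      rw [← hcomp]; infer_instance
    exact (MorphismProperty.cancel_left_of_respectsIso @LocallyOfFiniteType
      ((Spec (CommRingCat.of k)).fromSpecResidueField pt) f).mp h3

end Groth.Agent.S9337
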