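import Groth.Statements.S9338
import Groth.Agent.Lib.Helper14NilFT
import Mathlib.RingTheory.HopkinsLevitzki
import Mathlib.AlgebraicGeometry.Morphisms.ClosedImmersion

set_option autoImplicit false
universe u
open FtPts

namespace Groth.Agent.S9338

/-- Ring level statement. -/
theorem finiteType_of_residue_comp {R A : Type*} [CommRing R] [CommRing A] [IsArtinianRing A]
    [IsLocalRing A] (ψ : R →+* A) (h : ((IsLocalRing.residue A).comp ψ).FiniteType) :
    ψ.FiniteType := by
  let _ : Algebra R A := ψ.toAlgebra
  let _ : Algebra R (IsLocalRing.ResidueField A) := ((IsLocalRing.residue A).comp ψ).toAlgebra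
  let π : A →ₐ[R] IsLocalRing.ResidueField A :=
    { IsLocalRing.residue A with commutes' := fun _ => rfl }
  have hπ : Function.Surjective π := IsLocalRing.residue_surjective
  have : Algebra.FiniteType R (IsLocalRing.ResidueField A) := h
  have hker : RingHom.ker π.toRingHom = IsLocalRing.maximalIdeal A := IsLocalRing.ker_residue
  have hfg : (RingHom.ker π.toRingHom).FG := IsNoetherian.noetherian _
  have hnil : IsNilpotent (RingHom.ker π.toRingHom) := by
    rw [hker, ← IsLocalRing.jacobson_eq_maximalIdeal (⊥ : Ideal A) bot_ne_top]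
    exact IsArtinianRing.isNilpotent_jacobson_bot
  exact Groth.Agent.Lib.Helper14.finiteType_of_surjective_of_fg_nilpotent_ker π hπ hfg hnil

open AlgebraicGeometry CategoryTheory in
/-- For an Artinian local ring A with residue field κ, a morphism f : Spec A → S is (locally) of finite
type exactly when the composite Spec κ → Spec A → S is. -/
theorem result (S : Scheme.{u}) (A : Type u) [CommRing A] [IsArtinianRing A] [IsLocalRing A]
    (f : Spec (CommRingCat.of A) ⟶ S) :
    LocallyOfFiniteType f ↔
      LocallyOfFiniteType (Spec.map (CommRingCat.ofHom (IsLocalRing.residue A)) ≫ f) := by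
  have hci : IsClosedImmersion (Spec.map (CommRingCat.ofHom (IsLocalRing.residue A))) :=
    IsClosedImmersion.spec_of_surjective _ IsLocalRing.residue_surjective
  constructor
  · intro hf
    infer_instance
  · intro h
    -- all points of `Spec A` coincide
    have hsub : ∀ y : Spec (CommRingCat.of A), y = IsLocalRing.closedPoint A := by
      intro y
      apply PrimeSpectrum.ext
      have : y.asIdeal.IsMaximal := IsArtinianRing.isMaximal_of_isPrime y.asIdeal
      exact IsLocalRing.eq_maximalIdeal this
    obtain ⟨_, ⟨U₀, hU₀', rfl⟩, huU₀, -⟩ := S.isBasis_affineOpens.exists_subset_of_mem_open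
      (Set.mem_univ (f.base (IsLocalRing.closedPoint A))) isOpen_univ
    have hU₀ : IsAffineOpen U₀ := hU₀'
    have hrange : Set.range f.base ⊆ Set.range hU₀.fromSpec.base := by
      rw [hU₀.range_fromSpec]
      rintro _ ⟨y, rfl⟩
      rw [hsub y]; exact huU₀
    let g := IsOpenImmersion.lift hU₀.fromSpec f hrange
    have hg : g ≫ hU₀.fromSpec = f := IsOpenImmersion.lift_fac _ _ _
    obtain ⟨ψ, hψ⟩ := Spec.map_surjective g
    have h1 : LocallyOfFiniteType
        ((Spec.map (CommRingCat.ofHom (IsLocalRing.residue A)) ≫ g) ≫ hU₀.fromSpec) := by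
      rw [Category.assoc, hg]; exact h
    have h2 : LocallyOfFiniteType (Spec.map (CommRingCat.ofHom (IsLocalRing.residue A)) ≫ g) :=
      locallyOfFiniteType_of_comp _ hU₀.fromSpec
    rw [← hψ, ← Spec.map_comp, HasRingHomProperty.Spec_iff (P := @LocallyOfFiniteType)] at h2
    have h3 : ψ.hom.FiniteType := finiteType_of_residue_comp ψ.hom h2
    have h4 : LocallyOfFiniteType g := by
      rw [← hψ, HasRingHomProperty.Spec_iff (P := @LocallyOfFiniteType)]
      exact h3
    rw [← hg]
    infer_instance

end Groth.Agent.S9338
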