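import Groth.Statements.S9340
import Groth.Agent.S9339

set_option autoImplicit false
universe u
open FtPts

namespace Groth.Agent.S9340

open AlgebraicGeometry CategoryTheory in
/-- A surjective morphism locally of finite type maps the set of finite type points of the source onto
the set of finite type points of the target. -/
theorem result {T S : Scheme.{u}} (f : T ⟶ S) [LocallyOfFiniteType f] [Surjective f] :
    f.base '' {t : ↑T | LocallyOfFiniteType (T.fromSpecResidueField t)} =
      {s : ↑S | LocallyOfFiniteType (S.fromSpecResidueField s)} := by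
  apply subset_antisymm (Groth.Agent.S9339.result f)
  intro s hs
  have hs' : LocallyOfFiniteType (S.fromSpecResidueField s) := hs
  obtain ⟨t₀, ht₀⟩ := f.surjective s
  have hmem : t₀ ∈ Set.range (f.fiberι s).base := by
    rw [Scheme.Hom.range_fiberι]; exact ht₀
  obtain ⟨a₀, -⟩ := hmem
  have : Nonempty ↑(f.fiber s) := ⟨a₀⟩
  obtain ⟨a, ha⟩ := Groth.Agent.Lib.Helper14.exists_ftPoint (f.fiber s)
  refine ⟨(f.fiberι s).base a, Groth.Agent.Lib.Helper14.ftPoint_of_fiber f s hs' a ha, ?_⟩
  have : (f.fiberι s).base a ∈ Set.range (f.fiberι s).base := ⟨a, rfl⟩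
  rw [Scheme.Hom.range_fiberι] at this
  exact this

end Groth.Agent.S9340
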