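import Groth.Statements.S9341
import Groth.Agent.Lib.Helper14FtPts

set_option autoImplicit false
universe u
open FtPts

namespace Groth.Agent.S9341

open AlgebraicGeometry CategoryTheory in
theorem part1 (S : Scheme.{u}) (Z : Set ↑S) (hZ : IsLocallyClosed Z) (hne : Z.Nonempty) :
    (Z ∩ {s : ↑S | LocallyOfFiniteType (S.fromSpecResidueField s)}).Nonempty := by
  obtain ⟨U, C, hU, hC, rfl⟩ := hZ
  obtain ⟨z, hzU, hzC⟩ := hne
  obtain ⟨_, ⟨V, hV, rfl⟩, hzV, hVU⟩ := S.isBasis_affineOpens.exists_subset_of_mem_open hzU hU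
  have hVaff : IsAffineOpen V := hV
  have : CompactSpace ↥V := isCompact_iff_compactSpace.mp hVaff.isCompact
  have hcl : IsClosed ((Subtype.val : ↥V → ↑S) ⁻¹' C) := hC.preimage continuous_subtype_val
  obtain ⟨x, hxC, hx⟩ := hcl.exists_closed_singleton ⟨⟨z, hzV⟩, hzC⟩
  refine ⟨x.1, ⟨hVU x.2, hxC⟩, ?_⟩
  exact Groth.Agent.Lib.Helper14.ftPoint_of_isClosed_in_open S V x.1 x.2 hx

open AlgebraicGeometry CategoryTheory in
/-- Every nonempty locally closed subset of a scheme S contains a finite type point of S; in particular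
for a closed subset Z the finite type points lying in Z are dense in Z. -/
theorem result (S : Scheme.{u}) :
    (∀ Z : Set ↑S, IsLocallyClosed Z → Z.Nonempty →
        (Z ∩ {s : ↑S | LocallyOfFiniteType (S.fromSpecResidueField s)}).Nonempty) ∧
      ∀ Z : Set ↑S, IsClosed Z →
        Z ⊆ closure (Z ∩ {s : ↑S | LocallyOfFiniteType (S.fromSpecResidueField s)}) := by
  refine ⟨part1 S, ?_⟩
  intro Z hZ z hz
  rw [mem_closure_iff]
  intro o ho hzo
  have hlc : IsLocallyClosed (o ∩ Z) := ⟨o, Z, ho, hZ, rfl⟩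
  have := part1 S (o ∩ Z) hlc ⟨z, hzo, hz⟩
  rwa [Set.inter_assoc] at this

end Groth.Agent.S9341
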