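import Groth.Statements.S9342
import Groth.Agent.Lib.Helper14FtPts

set_option autoImplicit false
universe u
open FtPts

namespace Groth.Agent.S9342

open AlgebraicGeometry CategoryTheory in
/-- The finite type points of a scheme S are exactly the points that are closed in some affine open
neighbourhood. -/
theorem result (S : Scheme.{u}) (s : S) :
    LocallyOfFiniteType (S.fromSpecResidueField s) ↔
      ∃ U : S.Opens, IsAffineOpen U ∧ ∃ hs : s ∈ U, IsClosed ({⟨s, hs⟩} : Set ↥U) := by
  constructor
  · intro hf
    obtain ⟨U, hU, hu, hc⟩ :=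
      Groth.Agent.Lib.Helper14.exists_affineOpen_isClosed_of_locallyOfFiniteType S
        (S.residueField s) (S.fromSpecResidueField s) (IsLocalRing.closedPoint _)
    have key : ∀ (t : S) (ht : t ∈ U), t = s → IsClosed ({⟨t, ht⟩} : Set ↥U) →
        ∃ hs : s ∈ U, IsClosed ({⟨s, hs⟩} : Set ↥U) := by
      rintro t ht rfl h
      exact ⟨ht, h⟩
    exact ⟨U, hU, key _ hu (Scheme.fromSpecResidueField_apply _ _) hc⟩
  · rintro ⟨U, hU, hs, hc⟩
    exact Groth.Agent.Lib.Helper14.ftPoint_of_isClosed_in_open S U s hs hc

end Groth.Agent.S9342
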