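import Groth.Statements.S9347
import Mathlib.AlgebraicGeometry.AffineScheme
import Mathlib.AlgebraicGeometry.Properties
import Mathlib.RingTheory.Ideal.MinimalPrime.Localization

set_option autoImplicit false
universe u
open Dom

namespace Groth.Agent.S9347

/-- A point whose closure is an irreducible component has no proper generization. -/
theorem eq_of_specializes_of_mem_irreducibleComponents {T : Type*} [TopologicalSpace T] [T0Space T]
    {η y : T} (hη : closure {η} ∈ irreducibleComponents T) (h : y ⤳ η) : y = η := by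
  have h1 : closure {η} ⊆ closure {y} := specializes_iff_closure_subset.mp h
  have h2 : closure {y} ⊆ closure {η} := hη.2 isIrreducible_singleton.closure h1
  have h3 : η ⤳ y := specializes_iff_closure_subset.mpr h2
  exact (h.antisymm h3).eq

open AlgebraicGeometry CategoryTheory in
theorem key {X S : Scheme.{u}} (f : X ⟶ S)
    (η : ↑S) (hη : closure {η} ∈ irreducibleComponents (↑S : Type u)) (hnot : η ∉ Set.range f.base)
    (U : S.Opens) (hU : IsAffineOpen U) (hηU : η ∈ U) (W : X.Opens) (hW : IsAffineOpen W)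
    (e : W ≤ f ⁻¹ᵁ U) :
    ∃ r : Γ(S, U), η ∈ S.basicOpen r ∧ f.appLE U W e r = 0 := by
  by_contra hcon
  push Not at hcon
  set p := hU.primeIdealOf ⟨η, hηU⟩ with hp
  have hpη : hU.fromSpec p = η := hU.fromSpec_primeIdealOf ⟨η, hηU⟩
  have hmem : ∀ r : Γ(S, U), η ∈ S.basicOpen r ↔ r ∉ p.asIdeal := by
    intro r
    rw [← hpη]
    change p ∈ (hU.fromSpec ⁻¹ᵁ S.basicOpen r) ↔ _
    rw [hU.fromSpec_preimage_basicOpen]
    rfl
  have hker : (⊥ : Ideal Γ(X, W)).comap (f.appLE U W e).hom ≤ p.asIdeal := by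
    intro r hr
    by_contra hrp
    exact hcon r ((hmem r).mpr hrp) (by simpa using hr)
  obtain ⟨Q, -, hQ, hQp⟩ := Ideal.exists_ideal_comap_le_prime p.asIdeal (⊥ : Ideal Γ(X, W)) hker
  let q : ↥(Spec Γ(X, W)) := (⟨Q, hQ⟩ : PrimeSpectrum Γ(X, W))
  have hfx : f.base (hW.fromSpec.base q) = hU.fromSpec.base (Spec.map (f.appLE U W e) q) := by
    rw [← Scheme.Hom.comp_apply, ← Scheme.Hom.comp_apply, hU.SpecMap_appLE_fromSpec f hW e]
  have hsp : (PrimeSpectrum.comap (f.appLE U W e).hom ⟨Q, hQ⟩ : PrimeSpectrum Γ(S, U)) ⤳ p :=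
    (PrimeSpectrum.le_iff_specializes _ _).mp hQp
  have hsp' : f.base (hW.fromSpec.base q) ⤳ η := by
    rw [hfx, ← hpη]
    exact hsp.map hU.fromSpec.continuous
  exact hnot ⟨_, eq_of_specializes_of_mem_irreducibleComponents hη hsp'⟩

open AlgebraicGeometry CategoryTheory in
/-- Let f : X → S be quasi-compact and let η ∈ S be a point whose closure is an irreducible component of
S (a maximal point of S). If η is not in the image of f, then η has an open neighbourhood V with
f⁻¹(V) empty. -/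
theorem result {X S : Scheme.{u}} (f : X ⟶ S) [QuasiCompact f]
    (η : ↑S) (hη : closure {η} ∈ irreducibleComponents (↑S : Type u)) (hnot : η ∉ Set.range f.base) :
    ∃ V : S.Opens, η ∈ V ∧ f ⁻¹ᵁ V = ⊥ := by
  obtain ⟨U, hU, hηU⟩ : ∃ U : S.Opens, IsAffineOpen U ∧ η ∈ U := by
    obtain ⟨V, hV, hηV, -⟩ := S.isBasis_affineOpens.exists_subset_of_mem_open
      (Set.mem_univ η) isOpen_univ
    obtain ⟨U, hU, rfl⟩ := hV
    exact ⟨U, hU, hηV⟩
  have hc : IsCompact (f ⁻¹ᵁ U : Set X) := f.isCompact_preimage hU.isCompact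
  obtain ⟨s, hs, hsU⟩ := isCompact_iff_finite_and_eq_biUnion_affineOpens.mp hc
  have hle : ∀ W ∈ s, (W : X.Opens) ≤ f ⁻¹ᵁ U := by
    intro W hW
    rw [hsU]
    exact le_iSup₂ (f := fun (i : X.affineOpens) (_ : i ∈ s) => (i : X.Opens)) W hW
  have hkey : ∀ W : X.affineOpens, ∃ r : Γ(S, U), W ∈ s →
      (η ∈ S.basicOpen r ∧ ∃ e : (W : X.Opens) ≤ f ⁻¹ᵁ U, f.appLE U W e r = 0) := by
    intro W
    by_cases hWs : W ∈ s
    · obtain ⟨r, hr1, hr2⟩ := key f η hη hnot U hU hηU W W.2 (hle W hWs)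
      exact ⟨r, fun _ => ⟨hr1, hle W hWs, hr2⟩⟩
    · exact ⟨0, fun h => absurd h hWs⟩
  choose r hr using hkey
  classical
  let R : Γ(S, U) := ∏ W ∈ hs.toFinset, r W
  refine ⟨S.basicOpen R, ?_, ?_⟩
  · -- η lies in the basic open of the product
    have : ∀ t : Finset X.affineOpens, (∀ W ∈ t, W ∈ s) → η ∈ S.basicOpen (∏ W ∈ t, r W) := by
      intro t
      induction t using Finset.induction_on with
      | empty =>
        intro _
        simp only [Finset.prod_empty, Scheme.basicOpen_one]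
        exact hηU
      | insert a t ha ih =>
        intro h
        rw [Finset.prod_insert ha, Scheme.basicOpen_mul]
        exact ⟨(hr a (h a (Finset.mem_insert_self a t))).1,
          ih fun W hW => h W (Finset.mem_insert_of_mem hW)⟩
    exact this _ fun W hW => hs.mem_toFinset.mp hW
  · rw [eq_bot_iff]
    intro x hx
    have hxU : x ∈ f ⁻¹ᵁ U := f.preimage_mono (S.basicOpen_le R) hx
    rw [hsU] at hxU
    obtain ⟨W, hxW⟩ := TopologicalSpace.Opens.mem_iSup.mp hxU
    obtain ⟨hWs, hxW⟩ := TopologicalSpace.Opens.mem_iSup.mp hxW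
    obtain ⟨-, e, hre⟩ := hr W hWs
    have hR0 : f.appLE U W e R = 0 := by
      have hdvd : r W ∣ R := Finset.dvd_prod_of_mem _ (hs.mem_toFinset.mpr hWs)
      obtain ⟨c, hc⟩ := hdvd
      rw [hc, map_mul, hre, zero_mul]
    have hb := Scheme.basicOpen_appLE f W U e R
    rw [hR0, Scheme.basicOpen_zero] at hb
    have : x ∈ (W : X.Opens) ⊓ f ⁻¹ᵁ S.basicOpen R := ⟨hxW, hx⟩
    rw [← hb] at this
    exact this

end Groth.Agent.S9347
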