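import Groth.Statements.S9343
import Groth.Agent.S9347
import Mathlib.AlgebraicGeometry.PullbackCarrier

set_option autoImplicit false
universe u
open Dom

namespace Groth.Agent.S9343

/-- In a quasi-sober space every point is a specialization of a point whose closure is an
irreducible component. -/
theorem exists_maximal_generization {T : Type*} [TopologicalSpace T] [QuasiSober T] (t : T) :
    ∃ ξ : T, ξ ⤳ t ∧ closure {ξ} ∈ irreducibleComponents T := by
  have hirr : IsIrreducible (irreducibleComponent t) := isIrreducible_irreducibleComponent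
  have hcl : IsClosed (irreducibleComponent t) := isClosed_irreducibleComponent
  refine ⟨hirr.genericPoint, ?_, ?_⟩
  · rw [specializes_iff_mem_closure, hirr.closure_genericPoint hcl]
    exact mem_irreducibleComponent
  · rw [hirr.closure_genericPoint hcl]
    exact irreducibleComponent_mem_irreducibleComponents t

open AlgebraicGeometry CategoryTheory in
/-- The base change of a quasi-compact dominant morphism f : X → S along a morphism g : S' → S along
which generalizations lift is dominant. -/
theorem result {X S X' S' : Scheme.{u}} (f : X ⟶ S) [QuasiCompact f] [IsDominant f]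
    (g : S' ⟶ S) (g' : X' ⟶ X) (f' : X' ⟶ S') (hsq : IsPullback g' f' f g) (hg : GeneralizingMap g.base) :
    IsDominant f' := by
  refine ⟨?_⟩
  intro s'
  obtain ⟨ξ', hξ's', hξ'⟩ := exists_maximal_generization s'
  -- the image of ξ' is a maximal point of S
  have hgξ' : closure {g.base ξ'} ∈ irreducibleComponents (↑S : Type u) := by
    obtain ⟨ζ, hζ, hζmax⟩ := exists_maximal_generization (g.base ξ')
    obtain ⟨ξ'', hξ'', hgξ''⟩ := hg hζ
    have : ξ'' = ξ' :=
      Groth.Agent.S9347.eq_of_specializes_of_mem_irreducibleComponents hξ' hξ''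
    rw [this] at hgξ''
    rw [hgξ'']
    exact hζmax
  have hrange : g.base ξ' ∈ Set.range f.base := by
    by_contra hnot
    obtain ⟨V, hV, hfV⟩ := Groth.Agent.S9347.result f (g.base ξ') hgξ' hnot
    obtain ⟨_, hyV, x, rfl⟩ := (f.denseRange).inter_open_nonempty _ V.isOpen ⟨_, hV⟩
    have : x ∈ f ⁻¹ᵁ V := hyV
    rw [hfV] at this
    exact this
  obtain ⟨x, hx⟩ := hrange
  obtain ⟨p, -, hp⟩ := Scheme.exists_preimage_of_isPullback hsq x ξ' hx
  have h1 : ξ' ∈ Set.range f'.base := ⟨p, hp⟩
  have h2 : s' ∈ closure {ξ'} := specializes_iff_mem_closure.mp hξ's'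
  exact closure_mono (Set.singleton_subset_iff.mpr h1) h2

end Groth.Agent.S9343
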