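import Groth.Statements.S9345
import Groth.Agent.S9343
import Mathlib.AlgebraicGeometry.Properties

set_option autoImplicit false
universe u
open Dom

namespace Groth.Agent.S9345

/-- Topological core: a continuous map with dense range out of a space with finitely many
irreducible components. -/
theorem top_core {A B : Type*} [TopologicalSpace A] [TopologicalSpace B] [QuasiSober A] [T0Space B]
    (φ : A → B) (hφ : Continuous φ) (hA : (irreducibleComponents A).Finite)
    (hd : DenseRange φ) :
    (∀ s : B, closure {s} ∈ irreducibleComponents B → s ∈ Set.range φ) ∧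
      (irreducibleComponents B).Finite := by
  classical
  set 𝒯 : Set (Set B) := (fun Z => closure (φ '' Z)) '' irreducibleComponents A with h𝒯
  have h𝒯fin : 𝒯.Finite := hA.image _
  have hclosed : ∀ z ∈ h𝒯fin.toFinset, IsClosed z := by
    intro z hz
    obtain ⟨Z, -, rfl⟩ := h𝒯fin.mem_toFinset.mp hz
    exact isClosed_closure
  have hcover : (Set.univ : Set B) ⊆ ⋃₀ (↑h𝒯fin.toFinset : Set (Set B)) := by
    have hcl : IsClosed (⋃₀ (↑h𝒯fin.toFinset : Set (Set B))) := by
      rw [Set.sUnion_eq_biUnion]
      exact h𝒯fin.toFinset.finite_toSet.isClosed_biUnion fun z hz => hclosed z hz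
    have hsub : Set.range φ ⊆ ⋃₀ (↑h𝒯fin.toFinset : Set (Set B)) := by
      rintro _ ⟨a, rfl⟩
      have : a ∈ ⋃₀ irreducibleComponents A := by
        rw [sUnion_irreducibleComponents]; trivial
      obtain ⟨Z, hZ, haZ⟩ := this
      refine ⟨closure (φ '' Z), ?_, subset_closure ⟨a, haZ, rfl⟩⟩
      exact h𝒯fin.mem_toFinset.mpr ⟨Z, hZ, rfl⟩
    rw [← hd.closure_range]
    exact hcl.closure_subset_iff.mpr hsub
  have hcomp : ∀ T ∈ irreducibleComponents B, ∃ Z ∈ irreducibleComponents A,
      T = closure (φ '' Z) := by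
    intro T hT
    obtain ⟨z, hz, hTz⟩ := (isIrreducible_iff_sUnion_isClosed.mp hT.1) h𝒯fin.toFinset hclosed
      ((Set.subset_univ _).trans hcover)
    obtain ⟨Z, hZ, rfl⟩ := h𝒯fin.mem_toFinset.mp hz
    refine ⟨Z, hZ, subset_antisymm hTz ?_⟩
    exact hT.2 (hZ.1.image φ hφ.continuousOn).closure hTz
  refine ⟨?_, ?_⟩
  · intro s hs
    obtain ⟨Z, hZ, hsZ⟩ := hcomp _ hs
    have hZcl : IsClosed Z := isClosed_of_mem_irreducibleComponents Z hZ
    have hgen : IsGenericPoint hZ.1.genericPoint Z := hZ.1.isGenericPoint_genericPoint hZcl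
    have h1 : IsGenericPoint (φ hZ.1.genericPoint) (closure (φ '' Z)) := hgen.image hφ
    have h2 : IsGenericPoint s (closure (φ '' Z)) := by
      rw [← hsZ]; exact isGenericPoint_closure
    exact ⟨_, h1.eq h2⟩
  · refine h𝒯fin.subset ?_
    intro T hT
    obtain ⟨Z, hZ, rfl⟩ := hcomp T hT
    exact ⟨Z, hZ, rfl⟩

open AlgebraicGeometry CategoryTheory in
/-- For a morphism f : X → S whose source has only finitely many irreducible components, the image of f
is dense exactly when it contains the generic point of each irreducible component of S, and then S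
too has finitely many. -/
theorem result {X S : Scheme.{u}} (f : X ⟶ S)
    (hX : (irreducibleComponents (↑X : Type u)).Finite) :
    (IsDominant f ↔ ∀ s : ↑S, closure {s} ∈ irreducibleComponents (↑S : Type u) → s ∈ Set.range f.base) ∧
      (IsDominant f → (irreducibleComponents (↑S : Type u)).Finite) := by
  refine ⟨⟨fun hf => ?_, fun h => ⟨?_⟩⟩, fun hf => ?_⟩
  · exact (top_core f.base f.continuous hX hf.denseRange).1
  · intro s'
    obtain ⟨ξ, hξs', hξ⟩ := Groth.Agent.S9343.exists_maximal_generization s'
    have h2 : s' ∈ closure {ξ} := specializes_iff_mem_closure.mp hξs'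
    exact closure_mono (Set.singleton_subset_iff.mpr (h ξ hξ)) h2
  · exact (top_core f.base f.continuous hX hf.denseRange).2

end Groth.Agent.S9345
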