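import Groth.Statements.S9346
import Mathlib.AlgebraicGeometry.FunctionField
import Mathlib.AlgebraicGeometry.Stalk

set_option autoImplicit false
universe u
open Dom

namespace Groth.Agent.S9346

open AlgebraicGeometry CategoryTheory

/-- The zero ideal of a stalk of an integral scheme maps to the generic point. -/
theorem fromSpecStalk_bot {X : Scheme.{u}} [AlgebraicGeometry.IsIntegral X] (x : X) :
    (X.fromSpecStalk x).base (⊥ : PrimeSpectrum (X.presheaf.stalk x)) = genericPoint ↑X := by
  have h1 : genericPoint ↑X ⤳ x := genericPoint_specializes x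
  have h2 : genericPoint ↑X ∈ Set.range (X.fromSpecStalk x).base := by
    rw [Scheme.range_fromSpecStalk]; exact h1
  obtain ⟨q, hq⟩ := h2
  have h3 : (⊥ : PrimeSpectrum (X.presheaf.stalk x)) ⤳ (q : PrimeSpectrum (X.presheaf.stalk x)) :=
    (PrimeSpectrum.le_iff_specializes _ _).mp bot_le
  have h4 : (X.fromSpecStalk x).base (⊥ : PrimeSpectrum (X.presheaf.stalk x)) ⤳ genericPoint ↑X := by
    rw [← hq]
    exact h3.map (X.fromSpecStalk x).continuous
  exact (h4.antisymm (genericPoint_specializes _)).eq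

theorem fromSpecStalk_injective {X : Scheme.{u}} (x : X) :
    Function.Injective (X.fromSpecStalk x).base :=
  (X.fromSpecStalk x).isEmbedding.injective

theorem map_generic_of_stalk_injective {X Y : Scheme.{u}} [AlgebraicGeometry.IsIntegral X]
    [AlgebraicGeometry.IsIntegral Y] (f : X ⟶ Y) (x : X)
    (h : Function.Injective (f.stalkMap x)) : f.base (genericPoint ↑X) = genericPoint ↑Y := by
  have hcomm : f.base ((X.fromSpecStalk x).base (⊥ : PrimeSpectrum (X.presheaf.stalk x))) =
      (Y.fromSpecStalk (f.base x)).base ((Spec.map (f.stalkMap x)).base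
        (⊥ : PrimeSpectrum (X.presheaf.stalk x))) := by
    rw [← Scheme.Hom.comp_apply, ← Scheme.Hom.comp_apply, Scheme.SpecMap_stalkMap_fromSpecStalk]
  have hbot : (Spec.map (f.stalkMap x)).base (⊥ : PrimeSpectrum (X.presheaf.stalk x)) =
      (⊥ : PrimeSpectrum (Y.presheaf.stalk (f.base x))) := by
    apply PrimeSpectrum.ext
    change Ideal.comap (f.stalkMap x).hom ⊥ = ⊥
    rw [← RingHom.ker_eq_comap_bot]
    exact (RingHom.injective_iff_ker_eq_bot _).mp h
  rw [← fromSpecStalk_bot x, hcomm, hbot, fromSpecStalk_bot]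

theorem stalk_injective_of_map_generic {X Y : Scheme.{u}} [AlgebraicGeometry.IsIntegral X]
    [AlgebraicGeometry.IsIntegral Y] (f : X ⟶ Y)
    (h : f.base (genericPoint ↑X) = genericPoint ↑Y) (x : X) :
    Function.Injective (f.stalkMap x) := by
  have hcomm : f.base ((X.fromSpecStalk x).base (⊥ : PrimeSpectrum (X.presheaf.stalk x))) =
      (Y.fromSpecStalk (f.base x)).base ((Spec.map (f.stalkMap x)).base
        (⊥ : PrimeSpectrum (X.presheaf.stalk x))) := by
    rw [← Scheme.Hom.comp_apply, ← Scheme.Hom.comp_apply, Scheme.SpecMap_stalkMap_fromSpecStalk]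
  rw [fromSpecStalk_bot x, h, ← fromSpecStalk_bot (f.base x)] at hcomm
  have hbot := fromSpecStalk_injective _ hcomm
  change Function.Injective (f.stalkMap x).hom
  rw [RingHom.injective_iff_ker_eq_bot, RingHom.ker_eq_comap_bot]
  have := congrArg PrimeSpectrum.asIdeal hbot
  exact this.symm

theorem fromSpec_bot {X : Scheme.{u}} [AlgebraicGeometry.IsIntegral X] {U : X.Opens}
    (hU : IsAffineOpen U) [Nonempty U] [IsDomain Γ(X, U)] :
    hU.fromSpec.base (⊥ : PrimeSpectrum Γ(X, U)) = genericPoint ↑X := by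
  have h1 := hU.primeIdealOf_genericPoint
  rw [genericPoint_eq_bot_of_affine] at h1
  have h2 := hU.fromSpec_primeIdealOf ⟨genericPoint ↑X,
    ((genericPoint_spec X).mem_open_set_iff U.isOpen).mpr (by simpa using ‹Nonempty U›)⟩
  exact (congrArg hU.fromSpec.base h1.symm).trans h2

open AlgebraicGeometry CategoryTheory in
/-- For a morphism f : X → Y between integral schemes, these six conditions coincide: (1) f is dominant;
(2) f sends the generic point of X to that of Y; (3) there exist affine opens U ⊆ X, V ⊆ Y with U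
nonempty and U ⊆ f⁻¹V such that the induced ring map on sections is injective; (4) the same for all
such pairs; (5) for some x ∈ X the map of local rings O_{Y,f x} → O_{X,x} is injective; (6) the same
for all x. -/
theorem result {X Y : Scheme.{u}} [AlgebraicGeometry.IsIntegral X] [AlgebraicGeometry.IsIntegral Y] (f : X ⟶ Y) :
    [IsDominant f,
      f.base (genericPoint ↑X) = genericPoint ↑Y,
      ∃ (U : X.Opens) (V : Y.Opens) (hUV : U ≤ f ⁻¹ᵁ V), IsAffineOpen U ∧ IsAffineOpen V ∧ (U : Set ↑X).Nonempty ∧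
        Function.Injective (f.appLE V U hUV),
      ∀ (U : X.Opens) (V : Y.Opens) (hUV : U ≤ f ⁻¹ᵁ V), IsAffineOpen U → IsAffineOpen V → (U : Set ↑X).Nonempty →
        Function.Injective (f.appLE V U hUV),
      ∃ x : ↑X, Function.Injective (f.stalkMap x),
      ∀ x : ↑X, Function.Injective (f.stalkMap x)].TFAE := by
  have hne : Nonempty ↑X := inferInstance
  tfae_have 1 ↔ 2 := by
    constructor
    · intro hf
      apply ((genericPoint_spec ↑Y).eq _).symm
      have := (genericPoint_spec ↑X).image f.continuous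
      rwa [Set.image_univ, hf.denseRange.closure_range] at this
    · intro h
      refine ⟨?_⟩
      intro y
      have h1 : y ∈ closure {genericPoint ↑Y} := by
        rw [(genericPoint_spec ↑Y).def]; trivial
      have h2 : genericPoint ↑Y ∈ Set.range f.base := ⟨_, h⟩
      exact closure_mono (Set.singleton_subset_iff.mpr h2) h1
  tfae_have 2 → 6 := fun h x => stalk_injective_of_map_generic f h x
  tfae_have 6 → 5 := by
    intro h
    exact ⟨hne.some, h _⟩
  tfae_have 5 → 2 := by
    rintro ⟨x, hx⟩
    exact map_generic_of_stalk_injective f x hx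
  tfae_have 6 → 4 := by
    intro h U V hUV hU hV hUne
    obtain ⟨x, hxU⟩ := hUne
    change Function.Injective (f.appLE V U hUV).hom
    rw [injective_iff_map_eq_zero]
    intro a ha
    have hfx : f.base x ∈ V := hUV hxU
    apply germ_injective_of_isIntegral Y (f.base x) hfx
    apply h x
    rw [map_zero, map_zero, Scheme.Hom.germ_stalkMap_apply]
    have : X.presheaf.germ U x hxU ((f.appLE V U hUV).hom a) = 0 := by rw [ha, map_zero]
    rw [Scheme.Hom.appLE, CommRingCat.hom_comp, RingHom.comp_apply] at this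
    rw [← this]
    exact (TopCat.Presheaf.germ_res_apply X.presheaf (homOfLE hUV) x hxU _).symm
  tfae_have 4 → 3 := by
    intro h
    obtain ⟨x⟩ := hne
    obtain ⟨_, ⟨V, hV, rfl⟩, hxV, -⟩ := Y.isBasis_affineOpens.exists_subset_of_mem_open
      (Set.mem_univ (f.base x)) isOpen_univ
    obtain ⟨_, ⟨U, hU, rfl⟩, hxU, hUV⟩ := X.isBasis_affineOpens.exists_subset_of_mem_open
      (show x ∈ f ⁻¹ᵁ V from hxV) (f ⁻¹ᵁ V).isOpen
    exact ⟨U, V, hUV, hU, hV, ⟨x, hxU⟩, h U V hUV hU hV ⟨x, hxU⟩⟩
  tfae_have 3 → 2 := by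
    rintro ⟨U, V, hUV, hU, hV, ⟨x, hxU⟩, hinj⟩
    have : Nonempty U := ⟨⟨x, hxU⟩⟩
    have : Nonempty V := ⟨⟨f.base x, hUV hxU⟩⟩
    have : IsDomain Γ(X, U) := IsIntegral.component_integral U
    have : IsDomain Γ(Y, V) := IsIntegral.component_integral V
    have hcomm : f.base (hU.fromSpec.base (⊥ : PrimeSpectrum Γ(X, U))) =
        hV.fromSpec.base ((Spec.map (f.appLE V U hUV)).base (⊥ : PrimeSpectrum Γ(X, U))) := by
      rw [← Scheme.Hom.comp_apply, ← Scheme.Hom.comp_apply, hV.SpecMap_appLE_fromSpec f hU hUV]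
    have hbot : (Spec.map (f.appLE V U hUV)).base (⊥ : PrimeSpectrum Γ(X, U)) =
        (⊥ : PrimeSpectrum Γ(Y, V)) := by
      apply PrimeSpectrum.ext
      change Ideal.comap (f.appLE V U hUV).hom ⊥ = ⊥
      rw [← RingHom.ker_eq_comap_bot]
      exact (RingHom.injective_iff_ker_eq_bot _).mp hinj
    rw [← fromSpec_bot hU, hcomm, hbot, fromSpec_bot hV]
  tfae_finish

end Groth.Agent.S9346
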