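import Groth.Statements.S9348
import Mathlib.AlgebraicGeometry.PullbackCarrier

set_option autoImplicit false
universe u
open Dom

namespace Groth.Agent.S9348

open AlgebraicGeometry CategoryTheory in
/-- Let f : X → Y be a morphism and g : Y' → Y open and surjective. If the base change f' : X ×_Y Y' →
Y' of f is quasi-compact, then so is f. -/
theorem result {X Y X' Y' : Scheme.{u}} (f : X ⟶ Y) (g : Y' ⟶ Y) [Surjective g]
    (hg : IsOpenMap g.base) (g' : X' ⟶ X) (f' : X' ⟶ Y') (hsq : IsPullback g' f' f g) [QuasiCompact f'] :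
    QuasiCompact f := by
  rw [quasiCompact_iff_forall_isAffineOpen]
  intro U hU
  -- choose for each point of U an affine open of Y' mapping into U
  have key : ∀ y : U, ∃ V : Y'.Opens, IsAffineOpen V ∧ (V : Set Y') ⊆ g.base ⁻¹' (U : Set Y) ∧
      (y : Y) ∈ g.base '' (V : Set Y') := by
    intro y
    obtain ⟨y', hy'⟩ := g.surjective y.1
    have hy'U : y' ∈ g ⁻¹ᵁ U := by
      show g.base y' ∈ U
      rw [hy']; exact y.2
    obtain ⟨V, hV, hy'V, hVU⟩ := Y'.isBasis_affineOpens.exists_subset_of_mem_open hy'U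
      (g ⁻¹ᵁ U).isOpen
    obtain ⟨W, hW⟩ : ∃ W : Y'.Opens, (W : Set Y') = V := by
      obtain ⟨W, _, hW⟩ := hV
      exact ⟨W, hW⟩
    refine ⟨W, ?_, ?_, ?_⟩
    · obtain ⟨W', hW', hW'V⟩ := hV
      have : W = W' := by
        apply TopologicalSpace.Opens.ext
        rw [hW]; exact hW'V.symm
      rw [this]; exact hW'
    · rw [hW]; exact hVU
    · rw [hW]; exact ⟨y', hy'V, hy'⟩
  choose V hVaff hVU hyV using key
  have hcover : (U : Set Y) ⊆ ⋃ y : U, g.base '' (V y : Set Y') := by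
    intro y hy
    exact Set.mem_iUnion.mpr ⟨⟨y, hy⟩, hyV ⟨y, hy⟩⟩
  obtain ⟨t, ht⟩ := hU.isCompact.elim_finite_subcover (fun y : U => g.base '' (V y : Set Y'))
    (fun y => hg _ (V y).isOpen) hcover
  let W : Set Y' := ⋃ y ∈ t, (V y : Set Y')
  have hWopen : IsOpen W := isOpen_biUnion fun y _ => (V y).isOpen
  have hWcompact : IsCompact W := t.finite_toSet.isCompact_biUnion fun y _ => (hVaff y).isCompact
  have hgW : g.base '' W = (U : Set Y) := by
    apply subset_antisymm
    · rintro _ ⟨y', hy', rfl⟩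
      obtain ⟨y, hy⟩ := Set.mem_iUnion.mp hy'
      obtain ⟨hyt, hy'V⟩ := Set.mem_iUnion.mp hy
      exact hVU y hy'V
    · intro y hy
      obtain ⟨z, hz⟩ := Set.mem_iUnion.mp (ht hy)
      obtain ⟨hzt, y', hy'V, hy'y⟩ := Set.mem_iUnion.mp hz
      exact ⟨y', Set.mem_iUnion₂.mpr ⟨z, hzt, hy'V⟩, hy'y⟩
  have hcomp : IsCompact (f'.base ⁻¹' W) := QuasiCompact.isCompact_preimage W hWopen hWcompact
  have himg := Scheme.image_preimage_eq_of_isPullback hsq.flip W
  have : (f ⁻¹ᵁ U : Set X) = g'.base '' (f'.base ⁻¹' W) := by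
    rw [himg, hgW]; rfl
  rw [this]
  exact hcomp.image g'.continuous

end Groth.Agent.S9348
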