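import Groth.Statements.S9353
import Groth.Agent.Lib.Helper2FlatOver

set_option autoImplicit false
universe u
open FlatMod

namespace Groth.Agent.S9353

open AlgebraicGeometry CategoryTheory Opposite in
/-- Let f : X → S be a morphism of schemes and let F be an O_X-module that is quasi-coherent. Flatness
of F over S is equivalent to the following: for all affine opens U ⊆ X and V ⊆ S with U ⊆ f⁻¹V the
module F(U) is flat over O_S(V). -/
theorem result {X S : Scheme.{u}} (f : X ⟶ S) (F : X.Modules) (hF : Coh.IsQCoh F) :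
    FlatMod.IsFlatOver f F ↔
      ∀ (U : X.Opens) (V : S.Opens) (hUV : U ≤ f ⁻¹ᵁ V), IsAffineOpen U → IsAffineOpen V →
        @Module.Flat Γ(S, V) (F.val.obj (op U)) _ _ (Module.compHom (F.val.obj (op U)) (f.appLE V U hUV).hom) := by
  haveI : F.IsQuasicoherent := hF
  constructor
  · intro H U V hUV hU hV
    exact Groth.Agent.Lib.Helper2.FlatOver.flat_sections_of_isFlatOverAt f F hU hV hUV
      (fun x _ => H x)
  · intro H x
    obtain ⟨V, hV, hxV⟩ : ∃ V : S.Opens, IsAffineOpen V ∧ f.base x ∈ V := by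
      obtain ⟨W, hW⟩ := (S.isBasis_affineOpens).exists_subset_of_mem_open
        (Set.mem_univ (f.base x)) isOpen_univ
      obtain ⟨⟨V, hV, rfl⟩, hxV, -⟩ := hW
      exact ⟨V, hV, hxV⟩
    obtain ⟨U, hU, hxU, hUV⟩ : ∃ U : X.Opens, IsAffineOpen U ∧ x ∈ U ∧ U ≤ f ⁻¹ᵁ V := by
      obtain ⟨W, hW⟩ := (X.isBasis_affineOpens).exists_subset_of_mem_open
        (show x ∈ ((f ⁻¹ᵁ V : X.Opens) : Set X) from hxV) (f ⁻¹ᵁ V).isOpen
      obtain ⟨⟨U, hU, rfl⟩, hxU, hUV⟩ := hW
      exact ⟨U, hU, hxU, hUV⟩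
    exact Groth.Agent.Lib.Helper2.FlatOver.isFlatOverAt_of_flat_sections f F hU hV hUV
      (H U V hUV hU hV) x hxU

end Groth.Agent.S9353
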