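import Groth.Statements.S9356
import Groth.Agent.S9334
import Groth.Agent.Lib.Helper14FtPts
import Mathlib.RingTheory.Ideal.KrullsHeightTheorem

set_option autoImplicit false
universe u
open FibDim

namespace Groth.Agent.S9356

open AlgebraicGeometry CategoryTheory in
/-- Let f : X → S be locally of finite type and x ⤳ x' a nontrivial specialization of points of the
fibre X_s. Then dim_x(X_s) ≤ dim_{x'}(X_s) and dim O_{X_s,x} < dim O_{X_s,x'}. (The assertion on
transcendence degrees of residue fields is a separate statement.) -/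
theorem result {X S : Scheme.{u}} (f : X ⟶ S) [LocallyOfFiniteType f] (s : S)
    (x x' : ↑(f.fiber s)) (hsp : x ⤳ x') (hne : x ≠ x') :
    FlatMor.localDim ↑(f.fiber s) x ≤ FlatMor.localDim ↑(f.fiber s) x' ∧
      ringKrullDim ((f.fiber s).presheaf.stalk x) < ringKrullDim ((f.fiber s).presheaf.stalk x') := by
  constructor
  · unfold FlatMor.localDim
    refine le_iInf fun U => ?_
    exact iInf_le_of_le ⟨U.1, hsp.mem_open U.1.isOpen U.2⟩ le_rfl
  · have : IsLocallyNoetherian (f.fiber s) := Groth.Agent.S9334.isLocallyNoetherian_fiber f s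
    obtain ⟨_, ⟨U, hU', rfl⟩, hx'U, -⟩ := (f.fiber s).isBasis_affineOpens.exists_subset_of_mem_open
      (Set.mem_univ x') isOpen_univ
    have hU : IsAffineOpen U := hU'
    have hxU : x ∈ U := hsp.mem_open U.isOpen hx'U
    have : IsNoetherianRing Γ(f.fiber s, U) := IsLocallyNoetherian.component_noetherian ⟨U, hU⟩
    have hle := Groth.Agent.Lib.Helper14.primeIdealOf_le_of_specializes hU x x' hxU hx'U hsp
    have hne' : (hU.primeIdealOf ⟨x, hxU⟩).asIdeal ≠ (hU.primeIdealOf ⟨x', hx'U⟩).asIdeal := by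
      intro h
      apply hne
      have h1 := hU.fromSpec_primeIdealOf ⟨x, hxU⟩
      have h2 := hU.fromSpec_primeIdealOf ⟨x', hx'U⟩
      rw [PrimeSpectrum.ext h] at h1
      exact h1.symm.trans h2
    have hlt := lt_of_le_of_ne hle hne'
    let _ := TopCat.Presheaf.algebra_section_stalk (f.fiber s).presheaf (⟨x, hxU⟩ : U)
    let _ := TopCat.Presheaf.algebra_section_stalk (f.fiber s).presheaf (⟨x', hx'U⟩ : U)
    have h1 := hU.isLocalization_stalk ⟨x, hxU⟩
    have h2 := hU.isLocalization_stalk ⟨x', hx'U⟩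
    rw [IsLocalization.AtPrime.ringKrullDim_eq_height (hU.primeIdealOf ⟨x, hxU⟩).asIdeal
        ((f.fiber s).presheaf.stalk x),
      IsLocalization.AtPrime.ringKrullDim_eq_height (hU.primeIdealOf ⟨x', hx'U⟩).asIdeal
        ((f.fiber s).presheaf.stalk x')]
    exact WithBot.coe_lt_coe.mpr (Ideal.height_strict_mono_of_isPrime hlt)

end Groth.Agent.S9356
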