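import Groth.Statements.S9361
import Mathlib

set_option autoImplicit false
universe u
open SchImage

namespace Groth.Agent.S9361

open AlgebraicGeometry CategoryTheory CategoryTheory.Limits

/-- the canonical map to the scheme-theoretic image is scheme-theoretically dominant. -/
lemma toImage_dominant {X Y : Scheme.{u}} (f : X ⟶ Y) [QuasiCompact f] :
    IsSchemeTheoreticallyDominant f.toImage := by
  rw [isSchemeTheoreticallyDominant_iff]
  refine Scheme.IdealSheafData.ext_of_iSup_eq_top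
    (fun U : Y.affineOpens ↦ (⟨f.imageι ⁻¹ᵁ U.1, U.2.preimage f.imageι⟩ : f.image.affineOpens))
    ?_ ?_
  · have h1 : ⨆ U : Y.affineOpens, (U : Y.Opens) = ⊤ := iSup_affineOpens_eq_top Y
    change ⨆ U : Y.affineOpens, f.imageι ⁻¹ᵁ (U : Y.Opens) = ⊤
    rw [← Scheme.Hom.preimage_iSup, h1]
    rfl
  · intro U
    rw [Scheme.Hom.ker_apply]
    simp only [Scheme.IdealSheafData.ideal_bot, Pi.bot_apply]
    rw [← RingHom.injective_iff_ker_eq_bot]
    exact f.toImage_app_injective U


open AlgebraicGeometry CategoryTheory in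
/-- Let f : X → Y be separated, V ⊆ Y a retrocompact open and s : V → X a section of f over V. If Y' ⊆ X
is the scheme-theoretic image of s, then Y' → Y is an isomorphism over V. -/
theorem result {X Y : Scheme.{u}} (f : X ⟶ Y) [IsSeparated f] (V : Y.Opens) [QuasiCompact V.ι]
    (s : (↑V : Scheme.{u}) ⟶ X) (hs : s ≫ f = V.ι) :
    IsIso ((s.imageι ≫ f) ∣_ V) := by
  have hqc : QuasiCompact s := by
    have : QuasiCompact (s ≫ f) := by rw [hs]; infer_instance
    exact QuasiCompact.of_comp s f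
  have hdom := toImage_dominant s
  obtain ⟨h, hh⟩ : ∃ h, h = s.imageι ≫ f := ⟨_, rfl⟩
  rw [← hh]
  have hsep : IsSeparated h := by rw [hh]; infer_instance
  have hth : s.toImage ≫ h = V.ι := by rw [hh, s.toImage_imageι_assoc, hs]
  have hrange : Set.range s.toImage.base ⊆ Set.range (h ⁻¹ᵁ V).ι.base := by
    rw [Scheme.Opens.range_ι]
    rintro _ ⟨v, rfl⟩
    change h.base (s.toImage.base v) ∈ V
    rw [← Scheme.Hom.comp_apply, hth]
    exact v.2
  let σ : (↑V : Scheme.{u}) ⟶ ↑(h ⁻¹ᵁ V) := IsOpenImmersion.lift (h ⁻¹ᵁ V).ι s.toImage hrange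
  have hσ : σ ≫ (h ⁻¹ᵁ V).ι = s.toImage := IsOpenImmersion.lift_fac _ _ _
  have hσh : σ ≫ (h ∣_ V) = 𝟙 _ := by
    rw [← cancel_mono V.ι, Category.assoc, morphismRestrict_ι, ← Category.assoc, hσ, hth,
      Category.id_comp]
  have hpb : IsPullback (𝟙 (↑V : Scheme.{u})) σ s.toImage (h ⁻¹ᵁ V).ι := by
    refine ⟨⟨by rw [Category.id_comp, hσ]⟩, ⟨PullbackCone.IsLimit.mk _ (fun c => c.fst) ?_ ?_ ?_⟩⟩
    · intro c; exact Category.comp_id _
    · intro c
      rw [← cancel_mono (h ⁻¹ᵁ V).ι, Category.assoc, hσ, c.condition]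
    · intro c m hm1 _
      rw [← hm1, Category.comp_id]
  have hσdom : IsSchemeTheoreticallyDominant σ := IsSchemeTheoreticallyDominant.of_isPullback hpb
  have hsepr : IsSeparated (h ∣_ V) := inferInstance
  have hσcl : IsClosedImmersion σ := by
    have : IsClosedImmersion (σ ≫ (h ∣_ V)) := by rw [hσh]; infer_instance
    exact IsClosedImmersion.of_comp σ (h ∣_ V)
  have hσiso : IsIso σ := IsClosedImmersion.isIso_iff_ker_eq_bot.mpr σ.ker_eq_bot
  have : h ∣_ V = inv σ := by
    rw [← cancel_epi σ, hσh, IsIso.hom_inv_id]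
  rw [this]
  infer_instance

end Groth.Agent.S9361
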