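import Groth.Statements.S9362
import Mathlib
import Groth.Agent.Lib.Helper23QCohGen
-- import your own Groth.Agent.* helpers here

set_option autoImplicit false
universe u
open QCohSub

namespace Groth.Agent.S9362


open AlgebraicGeometry CategoryTheory Limits
open Groth.Agent.Lib.Helper23.QCohLocal Groth.Agent.Lib.Helper23.FPColim

/-- a module squeezed between a quasi-coherent module (via an epimorphism) and a quasi-coherent module (via a
monomorphism) is quasi-coherent -/
theorem qcoh_of_epi_mono {X : Scheme.{u}} {A B F : X.Modules} [A.IsQuasicoherent] [F.IsQuasicoherent]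
    (π : A ⟶ B) [Epi π] (m : B ⟶ F) [Mono m] : B.IsQuasicoherent := by
  have h1 : (cokernel (π ≫ m)).IsQuasicoherent := isQuasicoherent_cokernel (π ≫ m)
  haveI hc : (cokernel m).IsQuasicoherent :=
    @Groth.Agent.Lib.Helper23.TensorQCoh.isQuasicoherent_of_iso _ _ _ (cokernelEpiComp π m) h1
  have hk : (kernel (cokernel.π m)).IsQuasicoherent := isQuasicoherent_kernel _
  have hl : IsLimit (KernelFork.ofι m (cokernel.condition m)) :=
    Abelian.monoIsKernelOfCokernel _ (colimit.isColimit _)
  exact @Groth.Agent.Lib.Helper23.TensorQCoh.isQuasicoherent_of_iso _ _ _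
    ((kernelIsKernel (cokernel.π m)).conePointUniqueUpToIso hl) hk

theorem qcoh_image_of_sigma {X : Scheme.{u}} {ι : Type u} (A : ι → X.Modules) (hA : ∀ i, (A i).IsQuasicoherent)
    {G F : X.Modules} (d : (∐ A) ⟶ G) (j : G ⟶ F) [Mono j] [F.IsQuasicoherent] : (image d).IsQuasicoherent := by
  haveI : (∐ A : X.Modules).IsQuasicoherent := isQuasicoherent_colimit (Discrete.functor A) (fun t => hA t.as)
  exact qcoh_of_epi_mono (factorThruImage d) (image.ι d ≫ j)

open AlgebraicGeometry CategoryTheory in
/-- Let F be a quasi-coherent O_X-module and G ⊆ F an O_X-submodule. There is a quasi-coherent submodule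
G' ⊆ G such that Hom(H, G') → Hom(H, G) is bijective for every quasi-coherent O_X-module H; in
particular G' is the largest quasi-coherent submodule of F contained in G (it is unique up to unique
isomorphism over G). -/
theorem result (X : Scheme.{u}) (F G : X.Modules) (hF : Coh.IsQCoh F) (j : G ⟶ F) [Mono j] :
    ∃ (G' : X.Modules) (k : G' ⟶ G), Coh.IsQCoh G' ∧ Mono k ∧
      ∀ H : X.Modules, Coh.IsQCoh H → Function.Bijective (fun φ : H ⟶ G' => φ ≫ k) := by
  haveI : F.IsQuasicoherent := hF
  let s : Set (Subobject G) := {S | (S : X.Modules).IsQuasicoherent}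
  let d := Subobject.smallCoproductDesc.{u, u, u+1} s
  let T : Subobject G := Subobject.sSup.{u, u, u+1} s
  have hT : T = Subobject.mk (image.ι d) := rfl
  have hI : (image d).IsQuasicoherent := by
    refine qcoh_image_of_sigma _ (fun t => ?_) d j
    obtain ⟨S, hS, hSt⟩ := t.2
    have h1 : (equivShrink.{u} (Subobject G)).symm t.1 = S := by
      rw [← hSt, Equiv.symm_apply_apply]
    rw [h1]
    exact hS
  have hTq : (T : X.Modules).IsQuasicoherent :=
    @Groth.Agent.Lib.Helper23.TensorQCoh.isQuasicoherent_of_iso _ _ _ (Subobject.underlyingIso (image.ι d)).symm hI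
  refine ⟨(T : X.Modules), T.arrow, hTq, inferInstance, fun H hH => ⟨?_, ?_⟩⟩
  · intro φ ψ h
    exact (cancel_mono T.arrow).1 h
  · intro φ
    haveI : H.IsQuasicoherent := hH
    have hIφ : (image φ).IsQuasicoherent := qcoh_of_epi_mono (factorThruImage φ) (image.ι φ ≫ j)
    let S : Subobject G := Subobject.mk (image.ι φ)
    have hS : S ∈ s :=
      @Groth.Agent.Lib.Helper23.TensorQCoh.isQuasicoherent_of_iso _ _ _ (Subobject.underlyingIso (image.ι φ)).symm hIφ
    have hle : S ≤ T := Subobject.le_sSup.{u, u, u+1} s S hS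
    refine ⟨factorThruImage φ ≫ (Subobject.underlyingIso (image.ι φ)).inv ≫ Subobject.ofLE S T hle, ?_⟩
    change (factorThruImage φ ≫ (Subobject.underlyingIso (image.ι φ)).inv ≫ Subobject.ofLE S T hle) ≫ T.arrow = φ
    simp only [Category.assoc, Subobject.ofLE_arrow]
    rw [Subobject.underlyingIso_arrow, image.fac]

end Groth.Agent.S9362
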