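import Groth.Statements.S9364
import Groth.Agent.Lib.Helper7Synt32

set_option autoImplicit false
set_option linter.style.haveILetI false
universe u
open Synt

namespace Groth.Agent.S9364

open AlgebraicGeometry CategoryTheory in
/-- Let f : X → S, x ∈ X and V ⊆ S an affine open neighbourhood of f x. Then f is syntomic at x if and
only if some affine open U ∋ x with f(U) ⊆ V has f|_U : U → V standard syntomic. -/
theorem result {X S : Scheme.{u}} (f : X ⟶ S) (x : X) (V : S.affineOpens)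
    (hV : f.base x ∈ V.1) :
    Synt.IsSyntomicAt f x ↔
      ∃ (U : X.affineOpens) (e : U.1 ≤ f ⁻¹ᵁ V.1), x ∈ U.1 ∧ Synt.IsStandardSyntomic (f.resLE V.1 U.1 e) := by
  obtain ⟨V, hVaff⟩ := V
  replace hVaff : IsAffineOpen V := hVaff
  replace hV : f x ∈ V := hV
  constructor
  · rintro ⟨U₀, V₀, e₀, hxU₀, h₀⟩
    replace h₀ : Groth.Agent.Lib.Helper7.Synt.SyntomicHom (f.appLE V₀.1 U₀.1 e₀).hom := h₀
    -- an affine neighbourhood `W` of `x` inside `f ⁻¹ V`
    obtain ⟨_, ⟨W : X.Opens, hW, rfl⟩, hxW, hWV⟩ :=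
      X.isBasis_affineOpens.exists_subset_of_mem_open hV (f ⁻¹ᵁ V).2
    replace hW : IsAffineOpen W := hW
    obtain ⟨r, s, hxs, ers, hrs⟩ :=
      AlgebraicGeometry.exists_basicOpen_le_appLE_of_appLE_of_isAffine
        (P := @Groth.Agent.Lib.Helper7.Synt.SyntomicHom)
        Groth.Agent.Lib.Helper7.Synt.syntomicHom_awayTarget
        Groth.Agent.Lib.Helper7.Synt.syntomicHom_localizationAwayPreserves x ⟨V, hVaff⟩ V₀
        ⟨W, hW⟩ U₀ hxW hxU₀ e₀ h₀ hV
    -- `U₁ = D(s)`, syntomic over `V`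
    have hU₁ : IsAffineOpen (X.basicOpen s) := hW.basicOpen s
    have e₁ : X.basicOpen s ≤ f ⁻¹ᵁ V :=
      ers.trans (f.preimage_mono (S.basicOpen_le r))
    have h₁ : Groth.Agent.Lib.Helper7.Synt.SyntomicHom (f.appLE V (X.basicOpen s) e₁).hom := by
      haveI := hVaff.isLocalization_basicOpen r
      have := Groth.Agent.Lib.Helper7.Synt.syntomicHom_awaySource Γ(S, S.basicOpen r) r _ hrs
      have heq : f.appLE V (X.basicOpen s) e₁ =
          S.presheaf.map (homOfLE (S.basicOpen_le r)).op ≫ f.appLE (S.basicOpen r) (X.basicOpen s) ers :=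
        (f.map_appLE ers (homOfLE (S.basicOpen_le r)).op).symm
      rw [heq, CommRingCat.hom_comp]
      exact this
    letI algA := (f.appLE V (X.basicOpen s) e₁).hom.toAlgebra
    obtain ⟨g, hg, n, c, F, hF, ⟨ε₀⟩⟩ :=
      Groth.Agent.Lib.Helper7.Synt.exists_relGCI_away_of_isSyntomic Γ(S, V) Γ(X, X.basicOpen s) h₁
        (hU₁.primeIdealOf ⟨x, hxs⟩)
    have hxg : x ∈ X.basicOpen g := by
      have h3 : hU₁.fromSpec ⁻¹ᵁ X.basicOpen g = PrimeSpectrum.basicOpen g :=
        hU₁.fromSpec_preimage_basicOpen g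
      have h4 : hU₁.primeIdealOf ⟨x, hxs⟩ ∈ hU₁.fromSpec ⁻¹ᵁ X.basicOpen g := by
        rw [h3]; exact hg
      have h5 : hU₁.fromSpec (hU₁.primeIdealOf ⟨x, hxs⟩) = x := hU₁.fromSpec_primeIdealOf ⟨x, hxs⟩
      have h6 : hU₁.fromSpec (hU₁.primeIdealOf ⟨x, hxs⟩) ∈ X.basicOpen g := h4
      rwa [h5] at h6
    have hU : IsAffineOpen (X.basicOpen g) := hU₁.basicOpen g
    have e : X.basicOpen g ≤ f ⁻¹ᵁ V := (X.basicOpen_le g).trans e₁
    refine ⟨⟨X.basicOpen g, hU⟩, e, hxg, ?_⟩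
    haveI := hU₁.isLocalization_basicOpen g
    let ε₁ : Γ(X, X.basicOpen g) ≃ₐ[Γ(X, X.basicOpen s)] Localization.Away g :=
      IsLocalization.algEquiv (Submonoid.powers g) _ _
    refine Groth.Agent.Lib.Helper7.Synt.isStandardSyntomic_resLE_of_algEquiv f hU hVaff e n c F hF
      (ε₁.toRingEquiv.trans ε₀.toRingEquiv) (fun r' => ?_)
    show ε₀ (ε₁ ((f.appLE V (X.basicOpen g) e).hom r')) = _
    have h7 : (f.appLE V (X.basicOpen g) e).hom r' =
        algebraMap Γ(X, X.basicOpen s) Γ(X, X.basicOpen g)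
          ((f.appLE V (X.basicOpen s) e₁).hom r') := by
      have := f.appLE_map e₁ (homOfLE (X.basicOpen_le g)).op
      rw [← this]
      rfl
    rw [h7, ε₁.commutes]
    have h8 : algebraMap Γ(X, X.basicOpen s) (Localization.Away g)
        ((f.appLE V (X.basicOpen s) e₁).hom r') = algebraMap Γ(S, V) (Localization.Away g) r' :=
      (IsScalarTower.algebraMap_apply Γ(S, V) Γ(X, X.basicOpen s) (Localization.Away g) r').symm
    rw [h8, ε₀.commutes]
  · rintro ⟨⟨U, hU⟩, e, hxU, h⟩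
    exact ⟨⟨U, hU⟩, ⟨V, hVaff⟩, e, hxU,
      Groth.Agent.Lib.Helper7.Synt.syntomicHom_appLE_of_isStandardSyntomic_resLE f hU hVaff e h⟩


end Groth.Agent.S9364
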