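import Groth.Statements.S9365
import Groth.Agent.Lib.Helper7Synt33

set_option autoImplicit false
set_option linter.style.haveILetI false
universe u
open Synt

namespace Groth.Agent.S9365

open AlgebraicGeometry CategoryTheory in
/-- If f : X → S is flat, locally of finite presentation, and every fibre X_s → Spec κ(s) is syntomic
(X_s is a local complete intersection over κ(s)), then f is syntomic. -/
theorem result {X S : Scheme.{u}} (f : X ⟶ S) [Flat f] [LocallyOfFinitePresentation f]
    (hfib : ∀ s : S, Synt.IsSyntomicMor (f.fiberToSpecResidueField s)) :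
    Synt.IsSyntomicMor f := by
  intro x
  obtain ⟨_, ⟨V : S.Opens, hV, rfl⟩, hxV, -⟩ :=
    S.isBasis_affineOpens.exists_subset_of_mem_open (Set.mem_univ (f x)) isOpen_univ
  obtain ⟨_, ⟨U : X.Opens, hU, rfl⟩, hxU, hUV⟩ :=
    X.isBasis_affineOpens.exists_subset_of_mem_open hxV (f ⁻¹ᵁ V).2
  replace hU : IsAffineOpen U := hU
  replace hV : IsAffineOpen V := hV
  refine ⟨⟨U, hU⟩, ⟨V, hV⟩, hUV, hxU, ?_⟩
  letI := (f.appLE V U hUV).hom.toAlgebra
  show Synt.IsSyntomic Γ(S, V) Γ(X, U)
  have hflat : (f.appLE V U hUV).hom.Flat :=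
    HasRingHomProperty.appLE @Flat f inferInstance ⟨V, hV⟩ ⟨U, hU⟩ hUV
  have hfp : (f.appLE V U hUV).hom.FinitePresentation :=
    HasRingHomProperty.appLE @LocallyOfFinitePresentation f inferInstance ⟨V, hV⟩ ⟨U, hU⟩ hUV
  exact ⟨hflat, hfp, fun p =>
    Groth.Agent.Lib.Helper7.Synt.isLCIOver_fiber_appLE_of_fiber f hfib hU hV hUV p⟩


end Groth.Agent.S9365
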