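import Groth.Statements.S9367
import Groth.Agent.Lib.Helper7Synt26

set_option autoImplicit false
universe u
open Synt

namespace Groth.Agent.S9367

open AlgebraicGeometry CategoryTheory in
/-- If f : X → S is syntomic, then x ↦ dim_x(X_{f x}) is locally constant on X. -/
theorem result {X S : Scheme.{u}} (f : X ⟶ S) (hf : Synt.IsSyntomicMor f) :
    IsLocallyConstant (fun x : ↑X => FlatMor.fibreDimAt f x) := by
  rw [IsLocallyConstant.iff_exists_open]
  intro x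
  obtain ⟨⟨U, hU⟩, ⟨V, hV⟩, e, hxU, hsynt⟩ := hf x
  replace hU : AlgebraicGeometry.IsAffineOpen U := hU
  replace hV : AlgebraicGeometry.IsAffineOpen V := hV
  letI := (f.appLE V U e).hom.toAlgebra
  replace hsynt : Synt.IsSyntomic Γ(S, V) Γ(X, U) := hsynt
  obtain ⟨g, hg, N, hN⟩ := Groth.Agent.Lib.Helper7.Synt.exists_fibLD_eq_of_isSyntomic
    Γ(S, V) Γ(X, U) hsynt (hU.primeIdealOf ⟨x, hxU⟩)
  have hconst : ∀ z : PrimeSpectrum Γ(X, U), g ∉ z.asIdeal →
      FlatMor.fibreDimAt f (hU.fromSpec z) = (N : WithBot ℕ∞) := by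
    intro z hz
    rw [Groth.Agent.Lib.Helper4.FibDim.fibreDimAt_eq_fibLD,
      Groth.Agent.Lib.Helper4.FibDim.fibLD_fromSpec f hU hV e]
    exact hN z hz
  refine ⟨hU.fromSpec '' (PrimeSpectrum.basicOpen g : Set (PrimeSpectrum Γ(X, U))), ?_, ?_, ?_⟩
  · exact hU.fromSpec.isOpenEmbedding.isOpenMap _ (PrimeSpectrum.basicOpen g).isOpen
  · exact ⟨hU.primeIdealOf ⟨x, hxU⟩, hg, hU.fromSpec_primeIdealOf ⟨x, hxU⟩⟩
  · rintro _ ⟨z, hz, rfl⟩
    have hx : FlatMor.fibreDimAt f x = (N : WithBot ℕ∞) := by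
      have := hconst (hU.primeIdealOf ⟨x, hxU⟩) hg
      rwa [hU.fromSpec_primeIdealOf ⟨x, hxU⟩] at this
    rw [hx]
    exact hconst z hz


end Groth.Agent.S9367
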