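import Groth.Statements.S9368
import Groth.Agent.Lib.Helper7Synt31

set_option autoImplicit false
set_option linter.style.haveILetI false
universe u
open Synt

namespace Groth.Agent.S9368

open AlgebraicGeometry CategoryTheory in
/-- For X locally of finite type over a field k with structure morphism p, the following are equivalent:
(1) p is syntomic; (2) every x ∈ X has an affine open neighbourhood whose coordinate ring is a
global complete intersection over k; (3) each stalk O_{X,x} is a complete intersection ring over k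
(k-algebra structures induced by p). -/
theorem result (k : Type u) [Field k] (X : Scheme.{u}) (p : X ⟶ Spec (CommRingCat.of k)) [LocallyOfFiniteType p] :
    [Synt.IsSyntomicMor p,
      ∀ x : ↑X, ∃ U : X.affineOpens, x ∈ U.1 ∧
        letI := ((Scheme.ΓSpecIso (CommRingCat.of k)).inv ≫ p.appLE ⊤ U.1 le_top).hom.toAlgebra
        Synt.IsGlobalCI k Γ(X, U.1),
      ∀ x : ↑X,
        letI := ((Scheme.ΓSpecIso (CommRingCat.of k)).inv ≫ p.appLE ⊤ ⊤ le_top ≫ X.presheaf.germ ⊤ x trivial).hom.toAlgebra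
        Synt.IsCIOver k (X.presheaf.stalk x)].TFAE := by
  classical
  -- the identification `k ≅ Γ(Spec k, ⊤)`
  set ι : k →+* Γ(Spec (CommRingCat.of k), ⊤) :=
    (Scheme.ΓSpecIso (CommRingCat.of k)).inv.hom with hι_def
  have hι : Function.Bijective ι :=
    ConcreteCategory.bijective_of_isIso (Scheme.ΓSpecIso (CommRingCat.of k)).inv
  -- key: for every affine open `U`, syntomic over `Γ(Spec k, ⊤)` iff lci over `k`
  have key : ∀ (U : X.Opens),
      letI := ((Scheme.ΓSpecIso (CommRingCat.of k)).inv ≫ p.appLE ⊤ U le_top).hom.toAlgebra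
      Groth.Agent.Lib.Helper7.Synt.SyntomicHom (p.appLE ⊤ U le_top).hom ↔
        Synt.IsLCIOver k Γ(X, U) := by
    intro U
    letI := ((Scheme.ΓSpecIso (CommRingCat.of k)).inv ≫ p.appLE ⊤ U le_top).hom.toAlgebra
    have hcomp : algebraMap k Γ(X, U) = (p.appLE ⊤ U le_top).hom.comp ι := rfl
    exact Groth.Agent.Lib.Helper7.Synt.syntomicHom_iff_isLCIOver (k := k) (B := Γ(X, U))
      (p.appLE ⊤ U le_top).hom ι hι hcomp
  -- finite type
  have hft : ∀ (U : X.Opens) (hU : IsAffineOpen U),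
      letI := ((Scheme.ΓSpecIso (CommRingCat.of k)).inv ≫ p.appLE ⊤ U le_top).hom.toAlgebra
      Algebra.FiniteType k Γ(X, U) := by
    intro U hU
    letI := ((Scheme.ΓSpecIso (CommRingCat.of k)).inv ≫ p.appLE ⊤ U le_top).hom.toAlgebra
    have h1 : (p.appLE ⊤ U le_top).hom.FiniteType :=
      LocallyOfFiniteType.finiteType_appLE p (isAffineOpen_top _) hU le_top
    have h2 : ι.FiniteType := RingHom.FiniteType.of_surjective ι hι.2
    have h3 : ((p.appLE ⊤ U le_top).hom.comp ι).FiniteType := h1.comp h2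
    exact h3
  -- the stalk as a localization, over `k`
  have hstalk : ∀ (U : X.Opens) (hU : IsAffineOpen U) (x : X) (hx : x ∈ U),
      letI := ((Scheme.ΓSpecIso (CommRingCat.of k)).inv ≫ p.appLE ⊤ U le_top).hom.toAlgebra
      letI := ((Scheme.ΓSpecIso (CommRingCat.of k)).inv ≫ p.appLE ⊤ ⊤ le_top ≫
        X.presheaf.germ ⊤ x trivial).hom.toAlgebra
      Nonempty (Localization.AtPrime (hU.primeIdealOf ⟨x, hx⟩).asIdeal ≃ₐ[k]
        X.presheaf.stalk x) := by
    intro U hU x hx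
    letI := ((Scheme.ΓSpecIso (CommRingCat.of k)).inv ≫ p.appLE ⊤ U le_top).hom.toAlgebra
    letI := ((Scheme.ΓSpecIso (CommRingCat.of k)).inv ≫ p.appLE ⊤ ⊤ le_top ≫
      X.presheaf.germ ⊤ x trivial).hom.toAlgebra
    letI := X.presheaf.algebra_section_stalk ⟨x, hx⟩
    haveI := hU.isLocalization_stalk ⟨x, hx⟩
    haveI : IsScalarTower k Γ(X, U) (X.presheaf.stalk x) := by
      refine .of_algebraMap_eq' ?_
      show ((Scheme.ΓSpecIso (CommRingCat.of k)).inv ≫ p.appLE ⊤ ⊤ le_top ≫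
        X.presheaf.germ ⊤ x trivial).hom = (X.presheaf.germ U x hx).hom.comp
          ((Scheme.ΓSpecIso (CommRingCat.of k)).inv ≫ p.appLE ⊤ U le_top).hom
      rw [← CommRingCat.hom_comp, Category.assoc]
      congr 2
      rw [← p.appLE_map (le_top : (⊤ : X.Opens) ≤ p ⁻¹ᵁ ⊤) (homOfLE (le_top : U ≤ ⊤)).op,
        Category.assoc, TopCat.Presheaf.germ_res]
    exact ⟨(IsLocalization.algEquiv (hU.primeIdealOf ⟨x, hx⟩).asIdeal.primeCompl
      (Localization.AtPrime (hU.primeIdealOf ⟨x, hx⟩).asIdeal)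
      (X.presheaf.stalk x)).restrictScalars k⟩
  tfae_have 1 → 2 := by
    intro h x
    obtain ⟨_, ⟨U : X.Opens, hU, rfl⟩, hxU, -⟩ :=
      X.isBasis_affineOpens.exists_subset_of_mem_open (Set.mem_univ x) isOpen_univ
    replace hU : IsAffineOpen U := hU
    have h1 := (Groth.Agent.Lib.Helper7.Synt.isSyntomicMor_iff_forall p).mp h ⟨U, hU⟩
      ⟨⊤, isAffineOpen_top _⟩ le_top
    letI algU := ((Scheme.ΓSpecIso (CommRingCat.of k)).inv ≫ p.appLE ⊤ U le_top).hom.toAlgebra
    have h2 : Synt.IsLCIOver k Γ(X, U) := (key U).mp h1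
    obtain ⟨g, hg, hGCI⟩ := h2.2 (hU.primeIdealOf ⟨x, hxU⟩)
    have hxg : x ∈ X.basicOpen g := by
      have h3 : hU.fromSpec ⁻¹ᵁ X.basicOpen g = PrimeSpectrum.basicOpen g :=
        hU.fromSpec_preimage_basicOpen g
      have h4 : hU.primeIdealOf ⟨x, hxU⟩ ∈ hU.fromSpec ⁻¹ᵁ X.basicOpen g := by
        rw [h3]; exact hg
      have h5 : hU.fromSpec (hU.primeIdealOf ⟨x, hxU⟩) = x := hU.fromSpec_primeIdealOf ⟨x, hxU⟩
      have h6 : hU.fromSpec (hU.primeIdealOf ⟨x, hxU⟩) ∈ X.basicOpen g := h4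
      rwa [h5] at h6
    refine ⟨⟨X.basicOpen g, hU.basicOpen g⟩, hxg, ?_⟩
    letI algU' := ((Scheme.ΓSpecIso (CommRingCat.of k)).inv ≫
      p.appLE ⊤ (X.basicOpen g) le_top).hom.toAlgebra
    show Synt.IsGlobalCI k Γ(X, X.basicOpen g)
    haveI := hU.isLocalization_basicOpen g
    haveI : IsScalarTower k Γ(X, U) Γ(X, X.basicOpen g) := by
      refine .of_algebraMap_eq' ?_
      show ((Scheme.ΓSpecIso (CommRingCat.of k)).inv ≫
        p.appLE ⊤ (X.basicOpen g) le_top).hom =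
        (X.presheaf.map (homOfLE (X.basicOpen_le g)).op).hom.comp
          ((Scheme.ΓSpecIso (CommRingCat.of k)).inv ≫ p.appLE ⊤ U le_top).hom
      rw [← CommRingCat.hom_comp, Category.assoc, p.appLE_map]
    exact Groth.Agent.S9146.isGlobalCI_of_algEquiv
      ((IsLocalization.algEquiv (Submonoid.powers g) (Localization.Away g)
        Γ(X, X.basicOpen g)).restrictScalars k) hGCI
  tfae_have 2 → 3 := by
    intro h x
    obtain ⟨⟨U, hU⟩, hxU, hGCI⟩ := h x
    letI algU := ((Scheme.ΓSpecIso (CommRingCat.of k)).inv ≫ p.appLE ⊤ U le_top).hom.toAlgebra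
    replace hGCI : Synt.IsGlobalCI k Γ(X, U) := hGCI
    letI := ((Scheme.ΓSpecIso (CommRingCat.of k)).inv ≫ p.appLE ⊤ ⊤ le_top ≫
      X.presheaf.germ ⊤ x trivial).hom.toAlgebra
    show Synt.IsCIOver k (X.presheaf.stalk x)
    obtain ⟨ε⟩ := hstalk U hU x hxU
    exact Groth.Agent.Lib.Helper7.Synt.isCIOver_of_algEquiv k ε
      (Groth.Agent.Lib.Helper7.Synt.isCIOver_localization_of_isGlobalCI k Γ(X, U) hGCI _)
  tfae_have 3 → 1 := by
    intro h x
    obtain ⟨_, ⟨U : X.Opens, hU, rfl⟩, hxU, -⟩ :=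
      X.isBasis_affineOpens.exists_subset_of_mem_open (Set.mem_univ x) isOpen_univ
    replace hU : IsAffineOpen U := hU
    refine ⟨⟨U, hU⟩, ⟨⊤, isAffineOpen_top _⟩, le_top, hxU, ?_⟩
    show Groth.Agent.Lib.Helper7.Synt.SyntomicHom (p.appLE ⊤ U le_top).hom
    letI algU := ((Scheme.ΓSpecIso (CommRingCat.of k)).inv ≫ p.appLE ⊤ U le_top).hom.toAlgebra
    rw [key U, Groth.Agent.Lib.Helper7.Synt.isLCIOver_iff_forall_isCIOver]
    refine ⟨hft U hU, fun q => ?_⟩
    have hy : hU.fromSpec q ∈ U := by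
      have h := hU.opensRange_fromSpec
      have h' : hU.fromSpec q ∈ hU.fromSpec.opensRange := ⟨q, rfl⟩
      rw [h] at h'
      exact h'
    have hq : hU.primeIdealOf ⟨hU.fromSpec q, hy⟩ = q := by
      apply hU.fromSpec.isOpenEmbedding.injective
      exact hU.fromSpec_primeIdealOf ⟨hU.fromSpec q, hy⟩
    letI := ((Scheme.ΓSpecIso (CommRingCat.of k)).inv ≫ p.appLE ⊤ ⊤ le_top ≫
      X.presheaf.germ ⊤ (hU.fromSpec q) trivial).hom.toAlgebra
    obtain ⟨ε⟩ := hstalk U hU (hU.fromSpec q) hy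
    have h1 : Synt.IsCIOver k (X.presheaf.stalk (hU.fromSpec q)) := h (hU.fromSpec q)
    have h2 := Groth.Agent.Lib.Helper7.Synt.isCIOver_of_algEquiv k ε.symm h1
    rw [hq] at h2
    exact h2
  tfae_finish


end Groth.Agent.S9368
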