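import Groth.Statements.S9373
import Mathlib
import Groth.Agent.Lib.Helper2QCoh
-- import your own Groth.Agent.* helpers here

set_option autoImplicit false
universe u
open QCohSub

namespace Groth.Agent.S9373

open AlgebraicGeometry CategoryTheory in
/-- The support of a quasi-coherent O_X-module is closed under specialization. -/
theorem result (X : Scheme.{u}) (F : X.Modules) (hF : Coh.IsQCoh F) :
    StableUnderSpecialization (CohB1.support F) := by
  haveI : F.IsQuasicoherent := hF
  intro x y hxy hx hy
  apply hx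
  have hsub : Subsingleton (F.presheaf.stalk y) := hy
  have hunit : ∀ {r : X.presheaf.stalk x} {z : F.presheaf.stalk x},
      IsUnit r → r • z = 0 → z = 0 := by
    intro r z hr hz
    obtain ⟨u, rfl⟩ := hr
    have : (↑u⁻¹ : X.presheaf.stalk x) • ((u : X.presheaf.stalk x) • z) = z := by
      rw [smul_smul, Units.inv_mul, one_smul]
    rw [← this, hz, smul_zero]
  obtain ⟨U, hU, hyU, -⟩ :=
    exists_isAffineOpen_mem_and_subset (X := X) (x := y) (U := ⊤) trivial
  have hxU : x ∈ U := hxy.mem_open U.2 hyU
  have key : ∀ z : F.presheaf.stalk x, z = 0 := by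
    intro z
    obtain ⟨s, m, hs, hsm⟩ := Groth.Agent.Lib.Helper2.QCoh.exists_smul_eq_germ hU F x hxU z
    obtain ⟨s', hs', hs'm⟩ :=
      Groth.Agent.Lib.Helper2.QCoh.exists_smul_eq_zero_of_germ_eq_zero hU F y hyU m
        (Subsingleton.elim _ _)
    have hs'x : x ∈ X.basicOpen s' := hxy.mem_open (X.basicOpen s').2 hs'
    have h1 : X.presheaf.germ U x hxU s' • F.presheaf.germ U x hxU m = 0 := by
      rw [← Groth.Agent.Lib.Helper2.QCoh.germ_smul, hs'm, map_zero]
    have h2 : F.presheaf.germ U x hxU m = 0 :=
      hunit ((X.mem_basicOpen s' x hxU).mp hs'x) h1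
    rw [h2] at hsm
    exact hunit ((X.mem_basicOpen s x hxU).mp hs) hsm
  exact ⟨fun z z' => by rw [key z, key z']⟩

end Groth.Agent.S9373
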