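import Groth.Statements.S9381
import Groth.Agent.Lib.Helper4VarDim10
open Groth.Agent.Lib.Helper4.VarDim

set_option autoImplicit false
set_option linter.style.haveILetI false
universe u
open FibDim

namespace Groth.Agent.S9381

open AlgebraicGeometry CategoryTheory in
/-- Let f : X → S be locally of finite type and x ⤳ x' a nontrivial specialization of points of X in the
same fibre (f x = f x'). Then trdeg_{κ(f x)} κ(x) > trdeg_{κ(f x')} κ(x'). -/
theorem result {X S : Scheme.{u}} (f : X ⟶ S) [LocallyOfFiniteType f] (x x' : X)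
    (hsp : x ⤳ x') (hne : x ≠ x') (hfx : f.base x = f.base x') :
    @Algebra.trdeg (S.residueField (f.base x')) (X.residueField x') _ _ (f.residueFieldMap x').hom.toAlgebra <
      @Algebra.trdeg (S.residueField (f.base x)) (X.residueField x) _ _ (f.residueFieldMap x).hom.toAlgebra := by
  letI : (f.fiber (f.base x')).Over (Spec (CommRingCat.of (S.residueField (f.base x')))) :=
    ⟨f.fiberToSpecResidueField (f.base x')⟩
  haveI : LocallyOfFiniteType
      ((f.fiber (f.base x')) ↘ Spec (CommRingCat.of (S.residueField (f.base x')))) :=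
    locallyOfFiniteType_fiberToSpecResidueField f (f.base x')
  obtain ⟨z', hz'⟩ : ∃ z' : f.fiber (f.base x'), f.fiberι (f.base x') z' = x' :=
    ⟨f.asFiber x', f.fiberι_asFiber x'⟩
  obtain ⟨z, hz⟩ : ∃ z : f.fiber (f.base x'), f.fiberι (f.base x') z = x :=
    ⟨(f.fiberHomeo (f.base x')).symm ⟨x, hfx⟩, f.fiberι_fiberHomeo_symm _ _⟩
  have hsp' : z ⤳ z' := by
    rw [← (f.fiberι (f.base x')).isEmbedding.isInducing.specializes_iff, hz, hz']
    exact hsp
  have hne' : z ≠ z' := by
    rintro rfl
    exact hne (hz.symm.trans hz')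
  have hlt := trdegNat_lt_of_specializes (S.residueField (f.base x')) (f.fiber (f.base x'))
    z z' hsp' hne'
  have e1 := trdeg_residueFieldMap_eq_trdegNat_fiber f (f.base x') z' x' hz'
  have e2 := trdeg_residueFieldMap_eq_trdegNat_fiber f (f.base x') z x hz
  erw [e1, e2]
  exact_mod_cast hlt

end Groth.Agent.S9381
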