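import Groth.Statements.S9383
import Mathlib
import Groth.Agent.Lib.Helper22SpecPushoutLocal

set_option autoImplicit false
universe u
open QCohSub

namespace Groth.Agent.S9383

open AlgebraicGeometry CategoryTheory Limits Groth.Agent.Lib.Helper22.SpPO

theorem fs_quotient {Γ : Type u} [CommRing Γ] (I J K S : Ideal Γ) (hK : K = I ⊓ J)
    (hS : S = I ⊔ J) (h1 : I ≤ S) (h2 : J ≤ S) (h3 : K ≤ I) (h4 : K ≤ J) :
    FS (Ideal.Quotient.factor h1) (Ideal.Quotient.factor h2) (Ideal.Quotient.factor h4)
      (Ideal.Quotient.factor h3) := by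
  subst hK hS
  refine ⟨?_, ?_, ?_⟩
  · intro r
    obtain ⟨x, rfl⟩ := Ideal.Quotient.mk_surjective r
    simp [Ideal.Quotient.factor_mk]
  · intro r hr1 hr2
    obtain ⟨x, rfl⟩ := Ideal.Quotient.mk_surjective r
    rw [Ideal.Quotient.factor_mk, Ideal.Quotient.eq_zero_iff_mem] at hr1 hr2
    rw [Ideal.Quotient.eq_zero_iff_mem]
    exact ⟨hr2, hr1⟩
  · intro b a hba
    obtain ⟨y, rfl⟩ := Ideal.Quotient.mk_surjective b
    obtain ⟨x, rfl⟩ := Ideal.Quotient.mk_surjective a
    rw [Ideal.Quotient.factor_mk, Ideal.Quotient.factor_mk, Ideal.Quotient.eq] at hba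
    obtain ⟨ι, hι, κ, hκ, hικ⟩ := Submodule.mem_sup.mp hba
    refine ⟨Ideal.Quotient.mk _ (x + ι), ?_, ?_⟩
    · rw [Ideal.Quotient.factor_mk, Ideal.Quotient.eq]
      have : x + ι - y = -κ := by linear_combination hικ
      rw [this]
      exact J.neg_mem hκ
    · rw [Ideal.Quotient.factor_mk, Ideal.Quotient.eq]
      have : x + ι - x = ι := by ring
      rw [this]
      exact hι

/-- The affine chart `Spec (Γ(S,U)/K(U)) ⟶ V(K)` with unfolded source. -/
noncomputable def chart {S : Scheme.{u}} (K : S.IdealSheafData) (U : S.affineOpens) :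
    Spec (CommRingCat.of (Γ(S, U.1) ⧸ K.ideal U)) ⟶ K.subscheme := K.subschemeCover.f U

instance {S : Scheme.{u}} (K : S.IdealSheafData) (U : S.affineOpens) :
    IsOpenImmersion (chart K U) := K.subschemeCover.map_prop U

theorem chart_inclusion {S : Scheme.{u}} {K L : S.IdealSheafData} (hKL : K ≤ L)
    (U : S.affineOpens) :
    chart L U ≫ Scheme.IdealSheafData.inclusion hKL =
      sp (Ideal.Quotient.factor (hKL U)) ≫ chart K U :=
  Scheme.IdealSheafData.subSchemeCover_map_inclusion hKL U

theorem opensRange_chart {S : Scheme.{u}} (K : S.IdealSheafData) (U : S.affineOpens) :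
    (chart K U).opensRange = K.subschemeι ⁻¹ᵁ U :=
  Scheme.IdealSheafData.opensRange_subschemeCover_map K U

theorem chart_isPullback {S : Scheme.{u}} {K L : S.IdealSheafData} (hKL : K ≤ L)
    (U : S.affineOpens) :
    IsPullback (chart L U) (sp (Ideal.Quotient.factor (hKL U)))
      (Scheme.IdealSheafData.inclusion hKL) (chart K U) := by
  refine (IsOpenImmersion.isPullback (sp (Ideal.Quotient.factor (hKL U)))
    (chart L U) (chart K U) (Scheme.IdealSheafData.inclusion hKL)
    (chart_inclusion hKL U) ?_).flip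
  rw [opensRange_chart, opensRange_chart, ← Scheme.Hom.comp_preimage,
    Scheme.IdealSheafData.inclusion_subschemeι]

open AlgebraicGeometry CategoryTheory in
/-- For closed subschemes X, Y ⊆ S with ideal sheaves I, J, the scheme-theoretic union (ideal sheaf I ⊓
J) is the pushout, in the category of schemes, of X and Y along the scheme-theoretic intersection
(ideal sheaf I ⊔ J). The exact sequence 0 → O_{X∪Y} → O_X × O_Y → O_{X∩Y} → 0 is not stated. -/
theorem result (S : Scheme.{u}) (I J : S.IdealSheafData) :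
    IsPushout (Scheme.IdealSheafData.inclusion (le_sup_left : I ≤ I ⊔ J))
      (Scheme.IdealSheafData.inclusion (le_sup_right : J ≤ I ⊔ J))
      (Scheme.IdealSheafData.inclusion (inf_le_left : I ⊓ J ≤ I))
      (Scheme.IdealSheafData.inclusion (inf_le_right : I ⊓ J ≤ J)) := by
  refine isPushout_of_locally_FS _ _ _ _ ?_ (ι := S.affineOpens)
    (fun U => Γ(S, U.1) ⧸ (I ⊓ J).ideal U) (fun U => Γ(S, U.1) ⧸ (I ⊔ J).ideal U)
    (fun U => Γ(S, U.1) ⧸ I.ideal U) (fun U => Γ(S, U.1) ⧸ J.ideal U)
    (fun U => Ideal.Quotient.factor ((le_sup_left : I ≤ I ⊔ J) U))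
    (fun U => Ideal.Quotient.factor ((le_sup_right : J ≤ I ⊔ J) U))
    (fun U => Ideal.Quotient.factor ((inf_le_right : I ⊓ J ≤ J) U))
    (fun U => Ideal.Quotient.factor ((inf_le_left : I ⊓ J ≤ I) U))
    (fun U => fs_quotient (I.ideal U) (J.ideal U) _ _ rfl rfl _ _ _ _)
    (fun U => Ideal.Quotient.factor_surjective _)
    (fun U => chart (I ⊓ J) U)
    (fun z => ⟨_, (I ⊓ J).subschemeCover.covers z⟩)
    (fun U => chart I U) (fun U => chart J U)
    (fun U => chart (I ⊔ J) U)
    (fun U => chart_inclusion _ U)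
    (fun U => chart_inclusion _ U)
    (fun U => chart_isPullback _ U) (fun U => chart_isPullback _ U)
  rw [Scheme.IdealSheafData.inclusion_comp, Scheme.IdealSheafData.inclusion_comp]

end Groth.Agent.S9383
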