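import Groth.Statements.S9390
import Mathlib
import Groth.Agent.Lib.Helper2QCoh
-- import your own Groth.Agent.* helpers here

set_option autoImplicit false
universe u
open QCohSub

namespace Groth.Agent.S9390

open AlgebraicGeometry CategoryTheory in
/-- For a quasi-coherent O_X-module F, an affine open U = Spec A of X, M = F(U) and x ∈ U with prime p ⊆
A, the prime p is in Supp(M) if and only if x is in Supp(F). -/
theorem result (X : Scheme.{u}) (F : X.Modules) (hF : Coh.IsQCoh F)
    (U : X.affineOpens) (x : X) (hx : x ∈ U.1) :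
    U.2.primeIdealOf ⟨x, hx⟩ ∈ Module.support Γ(X, U.1) Γ(F, U.1) ↔ x ∈ CohB1.support F := by
  haveI : F.IsQuasicoherent := hF
  have hU := U.2
  have hunit : ∀ {r : X.presheaf.stalk x} {z : F.presheaf.stalk x},
      IsUnit r → r • z = 0 → z = 0 := by
    intro r z hr hz
    obtain ⟨u, rfl⟩ := hr
    have : (↑u⁻¹ : X.presheaf.stalk x) • ((u : X.presheaf.stalk x) • z) = z := by
      rw [smul_smul, Units.inv_mul, one_smul]
    rw [← this, hz, smul_zero]
  rw [← not_iff_not]
  rw [Module.notMem_support_iff']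
  show _ ↔ ¬ ¬ Subsingleton (F.presheaf.stalk x)
  rw [not_not]
  constructor
  · intro h
    refine ⟨fun y y' => ?_⟩
    have key : ∀ y : F.presheaf.stalk x, y = 0 := by
      intro y
      obtain ⟨s, m, hs, hsm⟩ := Groth.Agent.Lib.Helper2.QCoh.exists_smul_eq_germ hU F x hx y
      obtain ⟨r, hr, hrm⟩ := h m
      have hrx : x ∈ X.basicOpen r :=
        (Groth.Agent.Lib.Helper2.mem_basicOpen_iff_notMem_primeIdealOf hU x hx r).mpr hr
      have h1 : X.presheaf.germ U.1 x hx r • F.presheaf.germ U.1 x hx m = 0 := by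
        rw [← Groth.Agent.Lib.Helper2.QCoh.germ_smul, hrm, map_zero]
      have h2 : F.presheaf.germ U.1 x hx m = 0 :=
        hunit ((X.mem_basicOpen r x hx).mp hrx) h1
      rw [h2] at hsm
      exact hunit ((X.mem_basicOpen s x hx).mp hs) hsm
    rw [key y, key y']
  · intro h m
    obtain ⟨s, hs, hsm⟩ :=
      Groth.Agent.Lib.Helper2.QCoh.exists_smul_eq_zero_of_germ_eq_zero hU F x hx m
        (Subsingleton.elim _ _)
    exact ⟨s, (Groth.Agent.Lib.Helper2.mem_basicOpen_iff_notMem_primeIdealOf hU x hx s).mp hs,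
      hsm⟩

end Groth.Agent.S9390
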