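import Groth.Statements.S9391
import Groth.Agent.Lib.Helper14Japanese

set_option autoImplicit false
universe u
open CAlg

namespace Groth.Agent.S9391

/-- A localization of an N-1 domain which is again a domain is N-1. -/
theorem result (R : Type u) [CommRing R] [IsDomain R] (M : Submonoid R)
    (S : Type u) [CommRing S] [IsDomain S] [Algebra R S] [IsLocalization M S]
    (h : CAlg.IsN1 R) : CAlg.IsN1 S := by
  exact Groth.Agent.Lib.Helper14.isN1_of_isLocalization R M S h

end Groth.Agent.S9391
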