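import Groth.Statements.S9395
import Mathlib
-- import your own Groth.Agent.* helpers here

set_option autoImplicit false
set_option linter.style.haveILetI false
set_option linter.unusedSectionVars false
universe u
open CAlg

namespace Groth.Agent.S9395


/-- For a Noetherian domain R, if the Laurent polynomial ring R[X, 1/X] (the localization of R[X] away
from X) is N-1, then R is N-1. -/
theorem result (R : Type u) [CommRing R] [IsDomain R] [IsNoetherianRing R]
    (S : Type u) [CommRing S] [IsDomain S] [Algebra (Polynomial R) S]
    [IsLocalization.Away (Polynomial.X : Polynomial R) S] (h : CAlg.IsN1 S) : CAlg.IsN1 R := by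
  classical
  unfold CAlg.IsN1 at h ⊢
  -- R → S
  let ρ : R →+* S := (algebraMap (Polynomial R) S).comp Polynomial.C
  -- ev : S → R, X ↦ 1
  have hX1 : IsUnit ((Polynomial.evalRingHom (1:R)) Polynomial.X) := by simp
  let ev : S →+* R := IsLocalization.Away.lift (Polynomial.X : Polynomial R)
    (g := Polynomial.evalRingHom (1:R)) hX1
  have hev : ∀ r : R, ev (ρ r) = r := by
    intro r
    simp only [ρ, ev, RingHom.comp_apply, IsLocalization.Away.lift_eq]
    simp
  have hρinj : Function.Injective ρ := fun a b hab => by
    have := congrArg ev hab; simpa [hev] using this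
  let M : Submonoid S := (nonZeroDivisors R).map ρ
  have hM : M ≤ nonZeroDivisors S := by
    rintro _ ⟨r, hr, rfl⟩
    refine mem_nonZeroDivisors_of_ne_zero ?_
    intro h0
    exact (nonZeroDivisors.ne_zero hr) (hρinj (by simpa using h0))
  let T := Localization M
  have hTinj : Function.Injective (algebraMap S T) := IsLocalization.injective T hM
  have hιu : ∀ y : M, IsUnit (algebraMap S (FractionRing S) y) := fun y =>
    IsLocalization.map_units (FractionRing S) ⟨(y : S), hM y.2⟩
  let ι : T →+* FractionRing S := IsLocalization.lift (M := M) hιu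
  have hιinj : Function.Injective ι := by
    rw [IsLocalization.lift_injective_iff]
    intro x y
    exact ⟨fun hxy => by rw [hTinj hxy], fun hxy => by rw [IsFractionRing.injective S _ hxy]⟩
  have hEu : ∀ y : M, IsUnit (((algebraMap R (FractionRing R)).comp ev) y) := by
    rintro ⟨_, r, hr, rfl⟩
    simp only [RingHom.comp_apply, hev]
    exact IsLocalization.map_units (FractionRing R) ⟨r, hr⟩
  let E : T →+* FractionRing R := IsLocalization.lift (M := M) hEu
  have hju : ∀ y : nonZeroDivisors R, IsUnit (((algebraMap S T).comp ρ) y) := by
    intro y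
    exact IsLocalization.map_units T (⟨ρ y, ⟨y, y.2, rfl⟩⟩ : M)
  let j : FractionRing R →+* T := IsLocalization.lift (M := nonZeroDivisors R) hju
  have hjR : ∀ r : R, j (algebraMap R (FractionRing R) r) = algebraMap S T (ρ r) := fun r => by
    simp only [j, IsLocalization.lift_eq, RingHom.comp_apply]
  have hES : ∀ s : S, E (algebraMap S T s) = algebraMap R (FractionRing R) (ev s) := fun s => by
    simp only [E, IsLocalization.lift_eq, RingHom.comp_apply]
  have hιS : ∀ s : S, ι (algebraMap S T s) = algebraMap S (FractionRing S) s := fun s => by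
    simp only [ι, IsLocalization.lift_eq]
  have hEj : ∀ x : FractionRing R, E (j x) = x := by
    have : E.comp j = RingHom.id _ := by
      refine IsLocalization.ringHom_ext (nonZeroDivisors R) ?_
      ext r
      simp only [RingHom.comp_apply, hjR, hES, hev, RingHom.id_apply]
    intro x
    exact congrArg (fun f : FractionRing R →+* FractionRing R => f x) this
  let κ : FractionRing R →+* FractionRing S := ι.comp j
  have hκinj : Function.Injective κ := κ.injective
  have hκR : ∀ r : R, κ (algebraMap R (FractionRing R) r) = algebraMap S (FractionRing S) (ρ r) :=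
    fun r => by simp only [κ, RingHom.comp_apply, hjR, hιS]
  -- integrality
  have hint : ∀ x ∈ integralClosure R (FractionRing R), κ x ∈ integralClosure S (FractionRing S) := by
    intro x hx
    obtain ⟨p, hp, hp0⟩ := hx
    refine ⟨p.map ρ, hp.map ρ, ?_⟩
    rw [Polynomial.eval₂_map]
    have hcomp : (algebraMap S (FractionRing S)).comp ρ = κ.comp (algebraMap R (FractionRing R)) := by
      ext r; simp only [RingHom.comp_apply, hκR]
    rw [hcomp, ← Polynomial.hom_eval₂, hp0, map_zero]
  have hNoeth : IsNoetherianRing S :=
    IsLocalization.isNoetherianRing (Submonoid.powers (Polynomial.X : Polynomial R)) S inferInstance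
  have hN1 : IsNoetherian S (Subalgebra.toSubmodule (integralClosure S (FractionRing S))) :=
    isNoetherian_of_isNoetherianRing_of_finite S (integralClosure S (FractionRing S))
  set N : Submodule S (FractionRing S) :=
    Submodule.span S (κ '' (integralClosure R (FractionRing R) : Set (FractionRing R))) with hN
  have hNle : N ≤ Subalgebra.toSubmodule (integralClosure S (FractionRing S)) := by
    rw [hN, Submodule.span_le]
    rintro _ ⟨x, hx, rfl⟩
    exact hint x hx
  have hNfg : N.FG := isNoetherian_submodule.mp hN1 N hNle
  obtain ⟨F, hFsub, hFspan⟩ := (Submodule.fg_span_iff_fg_span_finset_subset _).mp hNfg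
  obtain ⟨F₀, hF₀sub, hF₀img⟩ := Finset.subset_set_image_iff.mp hFsub
  refine (Module.Finite.iff_fg (N := Subalgebra.toSubmodule (integralClosure R (FractionRing R)))).mpr ?_
  refine ⟨F₀, le_antisymm (Submodule.span_le.mpr hF₀sub) ?_⟩
  intro x hx
  have hx' : x ∈ integralClosure R (FractionRing R) := hx
  have hmem : κ x ∈ Submodule.span S ((F₀.image κ : Finset (FractionRing S)) : Set (FractionRing S)) := by
    rw [hF₀img, ← hFspan]
    exact Submodule.subset_span ⟨x, hx', rfl⟩
  rw [Submodule.mem_span_finset] at hmem
  obtain ⟨f, -, hf⟩ := hmem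
  rw [Finset.sum_image (fun a _ b _ hab => hκinj hab)] at hf
  have h1 : j x = ∑ y ∈ F₀, algebraMap S T (f (κ y)) * j y := by
    apply hιinj
    rw [map_sum]
    refine Eq.trans (show ι (j x) = κ x from rfl) ?_
    rw [← hf]
    refine Finset.sum_congr rfl (fun y _ => ?_)
    rw [map_mul, hιS, Algebra.smul_def]
    rfl
  have h2 : x = ∑ y ∈ F₀, (ev (f (κ y))) • y := by
    have := congrArg E h1
    rw [hEj, map_sum] at this
    rw [this]
    refine Finset.sum_congr rfl (fun y _ => ?_)
    rw [map_mul, hES, hEj, Algebra.smul_def]
  rw [h2]
  exact Submodule.sum_mem _ (fun y hy => Submodule.smul_mem _ _ (Submodule.subset_span hy))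

end Groth.Agent.S9395
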