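import Groth.Statements.S9401
import Groth.Agent.Lib.Helper28NagSmooth
-- import your own Groth.Agent.* helpers here

set_option autoImplicit false
universe u
open CAlg TensorProduct

namespace Groth.Agent.S9401

/-- The Nagata property descends along smooth ring maps that are surjective on spectra. -/
theorem result (R : Type u) [CommRing R] (S : Type u)
    [CommRing S] [Algebra R S] [Algebra.Smooth R S]
    (hs : Function.Surjective (PrimeSpectrum.comap (algebraMap R S))) (hS : CAlg.IsNagata S) :
    CAlg.IsNagata R := by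
  have := hS.1
  have : Module.Flat R S := inferInstance
  have : Module.FaithfullyFlat R S := Module.FaithfullyFlat.of_comap_surjective hs
  have hN : IsNoetherianRing R := by
    rw [isNoetherianRing_iff_ideal_fg]
    intro I
    exact Ideal.FG.of_FG_map_of_faithfullyFlat (S := S) (IsNoetherian.noetherian _)
  refine ⟨hN, fun p hp => ?_⟩
  have : Algebra.Smooth (R ⧸ p) ((R ⧸ p) ⊗[R] S) := inferInstance
  have : Module.FaithfullyFlat (R ⧸ p) ((R ⧸ p) ⊗[R] S) := inferInstance
  have hsurj : Function.Surjective
      (Algebra.TensorProduct.includeRight (R := R) (A := R ⧸ p) (B := S)).toRingHom := by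
    intro x
    induction x using TensorProduct.induction_on with
    | zero => exact ⟨0, map_zero _⟩
    | tmul a b =>
      obtain ⟨r, rfl⟩ := Ideal.Quotient.mk_surjective a
      refine ⟨r • b, ?_⟩
      change (1 : R ⧸ p) ⊗ₜ[R] (r • b) = Ideal.Quotient.mk p r ⊗ₜ[R] b
      rw [← TensorProduct.smul_tmul]
      congr 1
      rw [Algebra.smul_def, mul_one]; rfl
    | add x y hx hy =>
      obtain ⟨a, ha⟩ := hx
      obtain ⟨b, hb⟩ := hy
      exact ⟨a + b, by rw [map_add, ha, hb]⟩
  have hNag : IsNagata ((R ⧸ p) ⊗[R] S) :=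
    Groth.Agent.Lib.Helper28.isNagata_of_surjective _ hsurj hS
  exact Groth.Agent.Lib.Helper28.NagSmooth.isN2_of_smooth_of_isNagata (R ⧸ p) ((R ⧸ p) ⊗[R] S) hNag

end Groth.Agent.S9401
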