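import Groth.Statements.S9403
-- import your own Groth.Agent.* helpers here

set_option autoImplicit false
universe u
open CAlg

namespace Groth.Agent.S9403

/-- Let R → S be a ring map with S a Noetherian local ring which is an algebra over the rationals, and f
∈ S such that some S-linear form on the module of differentials of S over R sends df to 1 (df spans
a free direct summand of rank one). Then f is a nonzerodivisor of S. (The published statement asks
only that S·df be a direct summand of the module of differentials, which also holds for the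
rationals with a square-zero element adjoined, where f is a zero divisor; this row asks for an
S-linear form on the differentials sending df to 1, as the published proof uses.) -/
theorem result (R : Type u) [CommRing R]
    (S : Type u) [CommRing S] [IsLocalRing S] [IsNoetherianRing S] [Algebra R S] [Algebra ℚ S]
    (f : S) (θ : Ω[S⁄R] →ₗ[S] S) (hθ : θ (KaehlerDifferential.D R S f) = 1) : f ∈ nonZeroDivisors S := by
  -- the derivation `D = θ ∘ d`
  set D : S → S := fun x => θ (KaehlerDifferential.D R S x) with hDdef
  have hDmul : ∀ x y, D (x * y) = x * D y + y * D x := by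
    intro x y
    simp only [hDdef, Derivation.leibniz, map_add, map_smul, smul_eq_mul]
  have hDpow : ∀ k : ℕ, D (f ^ (k + 1)) = ((k + 1 : ℕ) : S) * f ^ k := by
    intro k
    simp only [hDdef, Derivation.leibniz_pow, map_nsmul, map_smul, hθ, Nat.add_sub_cancel,
      smul_eq_mul, mul_one, nsmul_eq_mul]
  have hD0 : D 0 = 0 := by simp [hDdef]
  have hunit : ∀ k : ℕ, IsUnit ((k + 1 : ℕ) : S) := by
    intro k
    have : ((k + 1 : ℕ) : S) = algebraMap ℚ S ((k + 1 : ℕ) : ℚ) := by simp
    rw [this]
    exact (IsUnit.mk0 _ (by positivity)).map (algebraMap ℚ S)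
  -- Step 1: anything killed by a power of `f` is a multiple of `f`
  have step1 : ∀ (k : ℕ) (x : S), f ^ k * x = 0 → ∃ z, x = f * z := by
    intro k
    induction k with
    | zero =>
      intro x hx
      rw [pow_zero, one_mul] at hx
      exact ⟨0, by rw [hx, mul_zero]⟩
    | succ k ih =>
      intro x hx
      have h1 : D (f ^ (k + 1) * x) = 0 := by rw [hx, hD0]
      rw [hDmul, hDpow] at h1
      have h2 : f ^ k * (f * D x + ((k + 1 : ℕ) : S) * x) = 0 := by
        rw [← h1]; ring
      obtain ⟨z, hz⟩ := ih _ h2
      obtain ⟨u, hu⟩ := hunit k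
      refine ⟨↑u⁻¹ * (z - D x), ?_⟩
      have h3 : ((k + 1 : ℕ) : S) * x = f * (z - D x) := by
        rw [mul_sub, ← hz]; ring
      calc x = ↑u⁻¹ * (↑u * x) := by rw [← mul_assoc, Units.inv_mul, one_mul]
        _ = ↑u⁻¹ * (f * (z - D x)) := by rw [hu, h3]
        _ = f * (↑u⁻¹ * (z - D x)) := by ring
  -- Step 2: anything killed by a power of `f` is a multiple of every power of `f`
  have step2 : ∀ (n k : ℕ) (x : S), f ^ k * x = 0 → ∃ z, x = f ^ n * z := by
    intro n
    induction n with
    | zero => intro k x _; exact ⟨x, by rw [pow_zero, one_mul]⟩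
    | succ n ih =>
      intro k x hx
      obtain ⟨z, hz⟩ := step1 k x hx
      have hz' : f ^ (k + 1) * z = 0 := by rw [pow_succ, mul_assoc, ← hz, hx]
      obtain ⟨w, hw⟩ := ih (k + 1) z hz'
      exact ⟨w, by rw [hz, hw, pow_succ]; ring⟩
  by_cases hf : IsUnit f
  · exact hf.mem_nonZeroDivisors
  rw [mem_nonZeroDivisors_iff_left]
  intro x hx
  have hfm : f ∈ IsLocalRing.maximalIdeal S := (IsLocalRing.mem_maximalIdeal f).mpr hf
  have hbot := Ideal.iInf_pow_eq_bot_of_isLocalRing (IsLocalRing.maximalIdeal S)
    (Ideal.IsMaximal.ne_top inferInstance)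
  have hxmem : x ∈ ⨅ i : ℕ, IsLocalRing.maximalIdeal S ^ i := by
    rw [Ideal.mem_iInf]
    intro n
    obtain ⟨z, hz⟩ := step2 n 1 x (by rwa [pow_one])
    rw [hz]
    exact Ideal.mul_mem_right _ _ (Ideal.pow_mem_pow hfm n)
  rw [hbot] at hxmem
  exact hxmem

end Groth.Agent.S9403
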