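import Groth.Statements.S9410
import Mathlib
import Groth.Agent.Lib.Helper28SepUp
import Groth.Agent.Lib.Helper28SepDown
-- import your own Groth.Agent.* helpers here

set_option autoImplicit false
universe u
open CAlg

namespace Groth.Agent.S9410
open Groth.Agent.Lib.Helper28 IsLocalRing TensorProduct

theorem hQreg : ∀ (R S : Type u) [CommRing R] [CommRing S], (R ≃+* S) →
      IsRegularLocalRing R → IsRegularLocalRing S := fun R _ _ _ e _ =>
    IsRegularLocalRing.of_ringEquiv (R := R) e

open Groth.Agent.Lib.Helper28 TensorProduct in
theorem isNoetherianRing_tensor_of_finite (k K A : Type u) [Field k] [Field K] [Algebra k K]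
    [Module.Finite k K] [CommRing A] [Algebra k A] [IsNoetherianRing A] :
    IsNoetherianRing (K ⊗[k] A) := by
  have h1 : IsNoetherianRing (A ⊗[k] K) := Algebra.FiniteType.isNoetherianRing A (A ⊗[k] K)
  exact isNoetherianRing_of_ringEquiv _ (Algebra.TensorProduct.comm k A K).toRingEquiv

open Groth.Agent.Lib.Helper28 TensorProduct in
theorem isRegularRing_iff_locallyQ (R : Type u) [CommRing R] [IsNoetherianRing R] :
    IsRegularRing R ↔ LocallyQ (fun R _ => IsRegularLocalRing R) R :=
  isRegularRing_iff


/-- Given a separable algebraic field extension k'/k and a Noetherian k'-algebra A, geometric regularity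
of A over k' is equivalent to geometric regularity of A over k. -/
theorem result (k : Type u) [Field k] (k' : Type u)
    [Field k'] [Algebra k k'] [Algebra.IsSeparable k k'] (A : Type u) [CommRing A] [Algebra k' A]
    [Algebra k A] [IsScalarTower k k' A] [IsNoetherianRing A] :
    CAlg.IsGeometricallyRegular k A ↔ CAlg.IsGeometricallyRegular k' A := by
  constructor
  · intro h K' _ _ hfin
    have := isNoetherianRing_tensor_of_finite k' K' A
    rw [isRegularRing_iff_locallyQ]
    refine geomProperty_of_isSeparable_up k k' A (LocallyQ (fun R _ => IsRegularLocalRing R))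
      (fun R S _ _ e h => LocallyQ.of_ringEquiv _ hQreg e h)
      (fun R _ M R' _ _ _ h => locallyQ_of_isLocalization _ hQreg M R' h) ?_ K' hfin
    intro K _ _ hK
    have := isNoetherianRing_tensor_of_finite k K A
    exact (isRegularRing_iff_locallyQ _).mp (h K hK)
  · intro h K _ _ hfin
    have := isNoetherianRing_tensor_of_finite k K A
    rw [isRegularRing_iff_locallyQ]
    refine geomLocallyQ_of_isSeparable_down _ hQreg k k' A ?_ K hfin
    intro K' _ _ hK'
    have := isNoetherianRing_tensor_of_finite k' K' A
    exact (isRegularRing_iff_locallyQ _).mp (h K' hK')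

end Groth.Agent.S9410
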