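import Groth.Statements.S9411
import Mathlib
import Groth.Agent.Lib.Helper28SepUp
import Groth.Agent.Lib.Helper28SepDown
-- import your own Groth.Agent.* helpers here

set_option autoImplicit false
universe u
open EGA4

namespace Groth.Agent.S9411
open Groth.Agent.Lib.Helper28 IsLocalRing TensorProduct

theorem hQnorm : ∀ (R S : Type u) [CommRing R] [CommRing S], (R ≃+* S) →
      (IsDomain R ∧ IsIntegrallyClosed R) → (IsDomain S ∧ IsIntegrallyClosed S) :=
  fun _ _ _ _ e h =>
    have := h.1
    have := h.2
    ⟨e.symm.toMulEquiv.isDomain _, IsIntegrallyClosed.of_equiv e⟩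


/-- Let k'/k be a separable algebraic field extension and A a k'-algebra. Geometric normality of A over
k' is equivalent to geometric normality of A over k. -/
theorem result (k : Type u) [Field k] (k' : Type u) [Field k']
    [Algebra k k'] [Algebra.IsSeparable k k'] (A : Type u) [CommRing A] [Algebra k' A]
    [Algebra k A] [IsScalarTower k k' A] :
    EGA4.IsGeomNormal k A ↔ EGA4.IsGeomNormal k' A := by
  constructor
  · intro h K' _ _ hfin
    exact geomProperty_of_isSeparable_up k k' A
      (LocallyQ (fun R _ => IsDomain R ∧ IsIntegrallyClosed R))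
      (fun R S _ _ e h => LocallyQ.of_ringEquiv _ hQnorm e h)
      (fun R _ M R' _ _ _ h => locallyQ_of_isLocalization _ hQnorm M R' h)
      (fun K _ _ hK => h K hK) K' hfin
  · intro h K _ _ hfin
    exact geomLocallyQ_of_isSeparable_down _ hQnorm k k' A (fun K' _ _ hK' => h K' hK') K hfin

end Groth.Agent.S9411
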