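import Groth.Statements.S9412
import Mathlib.RingTheory.Localization.LocalizationLocalization
import Mathlib.RingTheory.Localization.BaseChange
import Mathlib.RingTheory.IntegralClosure.IntegrallyClosed
import Mathlib.RingTheory.IsTensorProduct

set_option autoImplicit false
universe u
open EGA4

namespace Groth.Agent.S9412

open TensorProduct

/-- Normality is invariant under ring isomorphisms. -/
theorem isNormalRing_of_ringEquiv {C D : Type u} [CommRing C] [CommRing D] (e : C ≃+* D)
    (h : EGA4.IsNormalRing C) : EGA4.IsNormalRing D := by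
  intro q _
  have hp : (q.comap e.toRingHom).IsPrime := Ideal.comap_isPrime _ _
  obtain ⟨h1, h2⟩ := h (q.comap e.toRingHom)
  have H : (q.comap e.toRingHom).primeCompl.map e.toMonoidHom = q.primeCompl := by
    ext x
    constructor
    · rintro ⟨y, hy, rfl⟩
      exact hy
    · intro hx
      refine ⟨e.symm x, ?_, by simp⟩
      show e.symm x ∉ q.comap e.toRingHom
      rw [Ideal.mem_comap]
      simpa using hx
  let E : Localization.AtPrime (q.comap e.toRingHom) ≃+* Localization.AtPrime q :=
    IsLocalization.ringEquivOfRingEquiv _ _ e H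
  exact ⟨E.symm.toMulEquiv.isDomain _, IsIntegrallyClosed.of_equiv E⟩

/-- A localization of a normal ring is normal. -/
theorem isNormalRing_of_isLocalization {C D : Type u} [CommRing C] [CommRing D] [Algebra C D]
    (M : Submonoid C) [IsLocalization M D] (h : EGA4.IsNormalRing C) : EGA4.IsNormalRing D := by
  intro q _
  have hp : (q.comap (algebraMap C D)).IsPrime := Ideal.comap_isPrime _ _
  obtain ⟨h1, h2⟩ := h (q.comap (algebraMap C D))
  have : IsLocalization.AtPrime (Localization.AtPrime q) (q.comap (algebraMap C D)) :=
    IsLocalization.isLocalization_isLocalization_atPrime_isLocalization M _ q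
  let E : Localization.AtPrime (q.comap (algebraMap C D)) ≃ₐ[C] Localization.AtPrime q :=
    IsLocalization.algEquiv (q.comap (algebraMap C D)).primeCompl _ _
  exact ⟨E.symm.toRingEquiv.toMulEquiv.isDomain _, IsIntegrallyClosed.of_equiv E.toRingEquiv⟩

/-- `B ⊗ k'` is a localization of `A ⊗ k'`. -/
theorem isNormalRing_tensor_right (k : Type u) [Field k] (A : Type u) [CommRing A]
    [Algebra k A] (M : Submonoid A) (B : Type u) [CommRing B] [Algebra A B] [IsLocalization M B]
    [Algebra k B] [IsScalarTower k A B] (k' : Type u) [Field k'] [Algebra k k']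
    (h : EGA4.IsNormalRing (A ⊗[k] k')) : EGA4.IsNormalRing (B ⊗[k] k') := by
  letI : Algebra (A ⊗[k] k') (B ⊗[k] k') :=
    (Algebra.TensorProduct.map (IsScalarTower.toAlgHom k A B) (AlgHom.id k k')).toRingHom.toAlgebra
  have : IsScalarTower A (A ⊗[k] k') (B ⊗[k] k') := IsScalarTower.of_algebraMap_eq fun a => by
    rw [RingHom.algebraMap_toAlgebra]
    simp [Algebra.TensorProduct.algebraMap_apply]
  have hpush : Algebra.IsPushout A B (A ⊗[k] k') (B ⊗[k] k') :=
    Algebra.IsPushout.tensorProduct_tensorProduct k k' A B (by
      ext x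
      rw [RingHom.algebraMap_toAlgebra]
      simp)
  have : IsLocalization (Algebra.algebraMapSubmonoid (A ⊗[k] k') M) (B ⊗[k] k') :=
    (Algebra.isLocalization_iff_isPushout M B).mpr hpush.symm
  exact isNormalRing_of_isLocalization (Algebra.algebraMapSubmonoid (A ⊗[k] k') M) h

/-- A localization of a geometrically normal algebra over a field k is geometrically normal over k. -/
theorem result (k : Type u) [Field k] (A : Type u) [CommRing A]
    [Algebra k A] (M : Submonoid A) (B : Type u) [CommRing B] [Algebra A B] [IsLocalization M B]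
    [Algebra k B] [IsScalarTower k A B] (h : EGA4.IsGeomNormal k A) :
    EGA4.IsGeomNormal k B := by
  intro k' _ _ hfin
  have h1 : EGA4.IsNormalRing (A ⊗[k] k') :=
    isNormalRing_of_ringEquiv (Algebra.TensorProduct.comm k k' A).toRingEquiv (h k' hfin)
  have h2 : EGA4.IsNormalRing (B ⊗[k] k') := isNormalRing_tensor_right k A M B k' h1
  exact isNormalRing_of_ringEquiv (Algebra.TensorProduct.comm k B k').toRingEquiv h2

end Groth.Agent.S9412
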