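import Groth.Statements.S9414
import Mathlib

set_option autoImplicit false
universe u
open CAlg

namespace Groth.Agent.S9414

open TensorProduct in
/-- For an algebraically closed field k, a finite type k-algebra S and a maximal ideal m of S with
residue field κ = S/m, the κ-vector spaces κ ⊗_S Ω_{S/k} and m/m² have the same dimension. -/
theorem result (k : Type u) [Field k]
    [IsAlgClosed k] (S : Type u) [CommRing S] [Algebra k S] [Algebra.FiniteType k S]
    (m : Ideal S) [m.IsMaximal] :
    Module.finrank (S ⧸ m) ((S ⧸ m) ⊗[S] Ω[S⁄k]) = Module.finrank (S ⧸ m) m.Cotangent := by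
  classical
  let κ := S ⧸ m
  letI : Field κ := Ideal.Quotient.field m
  have hfin : Module.Finite k κ := finite_of_finite_type_of_isJacobsonRing k κ
  have hbij : Function.Bijective (algebraMap k κ) :=
    IsAlgClosed.algebraMap_bijective_of_isIntegral
  have hsurj : Function.Surjective (algebraMap S κ) := Ideal.Quotient.mk_surjective
  let ek : k ≃ₐ[k] κ := AlgEquiv.ofBijective (Algebra.ofId k κ) hbij
  -- a section of `S/ker² → κ`
  let g : κ →ₐ[k] S ⧸ (RingHom.ker (algebraMap S κ) ^ 2) :=
    (Algebra.ofId k _).comp ek.symm.toAlgHom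
  have hg : (IsScalarTower.toAlgHom k S κ).kerSquareLift.comp g = AlgHom.id k κ := by
    apply AlgHom.ext
    intro x
    obtain ⟨c, rfl⟩ := ek.surjective x
    have : ek c = algebraMap k κ c := rfl
    rw [this, AlgHom.commutes, AlgHom.id_apply]
  obtain ⟨l, hl⟩ := (retractionKerCotangentToTensorEquivSection
    (R := k) (P := S) (S := κ) hsurj).symm ⟨g, hg⟩
  have hinj : Function.Injective (KaehlerDifferential.kerCotangentToTensor k S κ) := by
    intro x y hxy
    have := congrArg l hxy
    rwa [← LinearMap.comp_apply, ← LinearMap.comp_apply, hl] at this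
  have hsub : Subsingleton (Ω[κ⁄k]) := KaehlerDifferential.subsingleton_of_surjective k κ hbij.2
  have hsurj' : Function.Surjective (KaehlerDifferential.kerCotangentToTensor k S κ) := by
    intro y
    exact (KaehlerDifferential.exact_kerCotangentToTensor_mapBaseChange k S κ hsurj y).mp
      (Subsingleton.elim _ _)
  let e : (RingHom.ker (algebraMap S κ)).Cotangent ≃ₗ[S] κ ⊗[S] Ω[S⁄k] :=
    LinearEquiv.ofBijective _ ⟨hinj, hsurj'⟩
  have key : ∀ (I : Ideal S) (hI : I = m), Nonempty (I.Cotangent ≃ₗ[S] κ ⊗[S] Ω[S⁄k]) →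
      Nonempty (m.Cotangent ≃ₗ[S] κ ⊗[S] Ω[S⁄k]) := by
    rintro I rfl h
    exact h
  obtain ⟨e'⟩ := key _ (by rw [Ideal.Quotient.algebraMap_eq, Ideal.mk_ker]) ⟨e⟩
  exact ((e'.extendScalarsOfSurjective hsurj).finrank_eq).symm

end Groth.Agent.S9414
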