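import Groth.Statements.S9415
import Groth.Agent.Lib.Helper12SepGen
import Mathlib.RingTheory.Smooth.Kaehler
import Mathlib.RingTheory.Smooth.Basic

set_option autoImplicit false
universe u
open CAlg

namespace Groth.Agent.S9415




/-- Let R be a Noetherian local algebra over a field k whose residue field κ is a finitely generated,
separable (that is, geometrically reduced) field extension of k. Then the map from m/m² (m the
maximal ideal, realised as the kernel of R → κ) to κ ⊗_R Ω_{R/k} sending the class of x to 1 ⊗ dx is
injective. -/
theorem result (k : Type u) [Field k] (R : Type u)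
    [CommRing R] [IsLocalRing R] [IsNoetherianRing R] [Algebra k R]
    [Algebra.EssFiniteType k (IsLocalRing.ResidueField R)]
    [Algebra.IsGeometricallyReduced k (IsLocalRing.ResidueField R)] :
    Function.Injective
      (KaehlerDifferential.kerCotangentToTensor k R (IsLocalRing.ResidueField R)) := by
  have hsm : Algebra.FormallySmooth k (IsLocalRing.ResidueField R) :=
    Groth.Agent.Lib.Helper12.SepGen.formallySmooth k _
  have hf : Function.Surjective (algebraMap R (IsLocalRing.ResidueField R)) :=
    Ideal.Quotient.mk_surjective
  let g := (IsScalarTower.toAlgHom k R (IsLocalRing.ResidueField R)).kerSquareLift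
  have hg : Function.Surjective g := by
    intro x
    obtain ⟨y, rfl⟩ := hf x
    exact ⟨Ideal.Quotient.mk _ y, rfl⟩
  have hg' : IsNilpotent (RingHom.ker (g.toRingHom)) := by
    refine ⟨2, ?_⟩
    have : RingHom.ker (g.toRingHom) = _ := AlgHom.ker_kerSquareLift _
    rw [this, Ideal.cotangentIdeal_square]
    rfl
  let σ := Algebra.FormallySmooth.liftOfSurjective (AlgHom.id k _) g hg hg'
  have hσ : g.comp σ = AlgHom.id k _ := Algebra.FormallySmooth.comp_liftOfSurjective _ g hg hg'
  obtain ⟨l, hl⟩ := (retractionKerCotangentToTensorEquivSection
    (R := k) hf).symm ⟨σ, hσ⟩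
  exact Function.LeftInverse.injective (g := l) (fun x => LinearMap.congr_fun hl x)

end Groth.Agent.S9415
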