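import Groth.Statements.S9425
import Mathlib.RingTheory.Etale.Basic

set_option autoImplicit false
universe u
open CAlg

namespace Groth.Agent.S9425

/-- A directed colimit of formally étale R-algebras is formally étale over R. The colimit is encoded by
compatible R-algebra maps S_i → S which are jointly surjective and whose kernels die further along
the system. -/
theorem result {ι : Type u} [Preorder ι] [IsDirected ι (· ≤ ·)] [Nonempty ι]
    (R : Type u) [CommRing R] (G : ι → Type u) [∀ i, CommRing (G i)] [∀ i, Algebra R (G i)]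
    (f : ∀ i j, i ≤ j → (G i →ₐ[R] G j)) (S : Type u) [CommRing S] [Algebra R S]
    (g : ∀ i, G i →ₐ[R] S) (hg : ∀ i j (h : i ≤ j), (g j).comp (f i j h) = g i)
    (hsurj : ∀ s : S, ∃ i, ∃ x : G i, g i x = s)
    (hker : ∀ i (x : G i), g i x = 0 → ∃ j, ∃ h : i ≤ j, f i j h x = 0)
    (h : ∀ i, Algebra.FormallyEtale R (G i)) : Algebra.FormallyEtale R S := by
  rw [Algebra.FormallyEtale.iff_comp_bijective]
  intro B _ _ I hI
  have hbij : ∀ i, Function.Bijective
      ((Ideal.Quotient.mkₐ R I).comp : (G i →ₐ[R] B) → G i →ₐ[R] B ⧸ I) :=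
    fun i => Algebra.FormallyEtale.comp_bijective R (G i) I hI
  constructor
  · intro φ ψ e
    ext s
    obtain ⟨i, x, rfl⟩ := hsurj s
    have : φ.comp (g i) = ψ.comp (g i) := by
      apply (hbij i).1
      show (Ideal.Quotient.mkₐ R I).comp (φ.comp (g i)) = (Ideal.Quotient.mkₐ R I).comp (ψ.comp (g i))
      rw [← AlgHom.comp_assoc, ← AlgHom.comp_assoc]
      exact congrArg (fun t => AlgHom.comp t (g i)) e
    exact AlgHom.congr_fun this x
  · intro χ
    choose lam hlam using fun i => (hbij i).2 (χ.comp (g i))
    have hcompat : ∀ i j (h : i ≤ j), (lam j).comp (f i j h) = lam i := by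
      intro i j h
      apply (hbij i).1
      show (Ideal.Quotient.mkₐ R I).comp ((lam j).comp (f i j h)) = (Ideal.Quotient.mkₐ R I).comp (lam i)
      rw [← AlgHom.comp_assoc, hlam j, hlam i, AlgHom.comp_assoc, hg]
    have hcompat' : ∀ i j (h : i ≤ j) (x : G i), lam j (f i j h x) = lam i x :=
      fun i j h x => AlgHom.congr_fun (hcompat i j h) x
    have hg' : ∀ i j (h : i ≤ j) (x : G i), g j (f i j h x) = g i x :=
      fun i j h x => AlgHom.congr_fun (hg i j h) x
    have hwd : ∀ i j (x : G i) (y : G j), g i x = g j y → lam i x = lam j y := by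
      intro i j x y hxy
      obtain ⟨k, hik, hjk⟩ := exists_ge_ge i j
      have h0 : g k (f i k hik x - f j k hjk y) = 0 := by
        rw [map_sub, hg', hg', hxy, sub_self]
      obtain ⟨l, hkl, hl⟩ := hker k _ h0
      rw [map_sub, sub_eq_zero] at hl
      calc lam i x = lam l (f k l hkl (f i k hik x)) := by rw [hcompat', hcompat']
        _ = lam l (f k l hkl (f j k hjk y)) := by rw [hl]
        _ = lam j y := by rw [hcompat', hcompat']
    choose idx rep hrep using hsurj
    have hφ : ∀ i (x : G i), lam (idx (g i x)) (rep (g i x)) = lam i x :=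
      fun i x => hwd _ _ _ _ (hrep _)
    have hcommon : ∀ s t : S, ∃ k, ∃ x y : G k, g k x = s ∧ g k y = t := by
      intro s t
      obtain ⟨k, hik, hjk⟩ := exists_ge_ge (idx s) (idx t)
      exact ⟨k, f _ k hik (rep s), f _ k hjk (rep t), by rw [hg', hrep], by rw [hg', hrep]⟩
    obtain ⟨i0⟩ := ‹Nonempty ι›
    let φ : S →ₐ[R] B :=
      { toFun := fun s => lam (idx s) (rep s)
        map_one' := by
          show lam (idx 1) (rep 1) = 1
          rw [← map_one (g i0), hφ, map_one]
        map_mul' := by
          intro s t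
          obtain ⟨k, x, y, rfl, rfl⟩ := hcommon s t
          show lam (idx (g k x * g k y)) (rep (g k x * g k y)) =
            lam (idx (g k x)) (rep (g k x)) * lam (idx (g k y)) (rep (g k y))
          rw [← map_mul, hφ, hφ, hφ, map_mul]
        map_zero' := by
          show lam (idx 0) (rep 0) = 0
          rw [← map_zero (g i0), hφ, map_zero]
        map_add' := by
          intro s t
          obtain ⟨k, x, y, rfl, rfl⟩ := hcommon s t
          show lam (idx (g k x + g k y)) (rep (g k x + g k y)) =
            lam (idx (g k x)) (rep (g k x)) + lam (idx (g k y)) (rep (g k y))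
          rw [← map_add, hφ, hφ, hφ, map_add]
        commutes' := by
          intro r
          show lam (idx (algebraMap R S r)) (rep (algebraMap R S r)) = algebraMap R B r
          rw [← (g i0).commutes r, hφ, (lam i0).commutes] }
    refine ⟨φ, ?_⟩
    ext s
    show (Ideal.Quotient.mkₐ R I) (lam (idx s) (rep s)) = χ s
    conv_rhs => rw [← hrep s]
    exact AlgHom.congr_fun (hlam (idx s)) (rep s)

end Groth.Agent.S9425
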