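import Groth.Statements.S9435
import Mathlib.RingTheory.Etale.StandardEtale
import Mathlib.FieldTheory.PrimitiveElement
import Mathlib.Algebra.Polynomial.Lifts

set_option autoImplicit false
universe u
open CAlg

namespace Groth.Agent.S9435

open Polynomial in
/-- Every element of `κ(p)` is a fraction `a / s` with `s ∉ p`. -/
theorem exists_mul_eq_algebraMap (R : Type u) [CommRing R] (p : Ideal R) [p.IsPrime]
    (x : p.ResidueField) :
    ∃ (s : R) (a : R), s ∉ p ∧ x * algebraMap R p.ResidueField s = algebraMap R p.ResidueField a := by
  obtain ⟨y, rfl⟩ := IsLocalRing.residue_surjective x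
  obtain ⟨a, s, rfl⟩ := IsLocalization.exists_mk'_eq p.primeCompl y
  refine ⟨s.1, a, s.2, ?_⟩
  rw [IsScalarTower.algebraMap_apply R (Localization.AtPrime p) p.ResidueField,
    IsScalarTower.algebraMap_apply R (Localization.AtPrime p) p.ResidueField]
  change IsLocalRing.residue _ _ * IsLocalRing.residue _ _ = IsLocalRing.residue _ _
  rw [← map_mul, IsLocalization.mk'_spec]

/-- A common denominator for a finite subset of `κ(p)`. -/
theorem exists_common_denominator (R : Type u) [CommRing R] (p : Ideal R) [p.IsPrime]
    (T : Finset p.ResidueField) :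
    ∃ s : R, s ∉ p ∧ ∀ x ∈ T, ∃ a : R,
      x * algebraMap R p.ResidueField s = algebraMap R p.ResidueField a := by
  classical
  induction T using Finset.induction_on with
  | empty => exact ⟨1, (Ideal.ne_top_iff_one p).mp (Ideal.IsPrime.ne_top inferInstance), by simp⟩
  | insert x T _ ih =>
    obtain ⟨s, hs, h⟩ := ih
    obtain ⟨t, a, ht, hta⟩ := exists_mul_eq_algebraMap R p x
    refine ⟨s * t, fun hmem => ?_, ?_⟩
    · rcases Ideal.IsPrime.mem_or_mem inferInstance hmem with h1 | h1
      · exact hs h1
      · exact ht h1
    · intro y hy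
      rcases Finset.mem_insert.mp hy with rfl | hy
      · refine ⟨s * a, ?_⟩
        rw [map_mul, map_mul, ← hta]; ring
      · obtain ⟨b, hb⟩ := h y hy
        refine ⟨b * t, ?_⟩
        rw [map_mul, map_mul, ← hb]; ring

/-- Given a prime p of a ring R and a finite separable extension L of κ(p), there is an étale R-algebra
R' with a prime p' over p whose residue field is κ(p)-isomorphic to L. Stated through an R-algebra
map ψ : R' → L whose image generates the field L: its kernel is such a prime p' and the induced
κ(p') → L is then an isomorphism over κ(p). -/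
theorem result (R : Type u) [CommRing R]
    (p : Ideal R) [p.IsPrime] (L : Type u) [Field L] [Algebra p.ResidueField L] [Algebra R L]
    [IsScalarTower R p.ResidueField L] [Module.Finite p.ResidueField L]
    [Algebra.IsSeparable p.ResidueField L] :
    ∃ (R' : Type u) (_ : CommRing R') (_ : Algebra R R') (_ : Algebra.Etale R R') (ψ : R' →ₐ[R] L),
      Subfield.closure (Set.range ψ) = ⊤ := by
  classical
  let K := p.ResidueField
  obtain ⟨α, hα⟩ := Field.exists_primitive_element K L
  let fb : Polynomial K := minpoly K α
  have hfb_monic : fb.Monic := minpoly.monic (Algebra.IsIntegral.isIntegral α)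
  have hfb_sep : fb.Separable := Algebra.IsSeparable.isSeparable K α
  have hfb_root : Polynomial.aeval α fb = 0 := minpoly.aeval K α
  -- common denominator
  obtain ⟨s, hs, hden⟩ := exists_common_denominator R p
    ((Finset.range (fb.natDegree + 1)).image fb.coeff)
  let Rs := Localization.Away s
  have hsK0 : algebraMap R K s ≠ 0 := by
    rw [Ne, Ideal.algebraMap_residueField_eq_zero]; exact hs
  have hsK : IsUnit (algebraMap R K s) := IsUnit.mk0 _ hsK0
  letI : Algebra Rs K := (IsLocalization.Away.lift s hsK).toAlgebra
  haveI : IsScalarTower R Rs K := IsScalarTower.of_algebraMap_eq fun r =>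
    (IsLocalization.Away.lift_eq s hsK r).symm
  letI : Algebra Rs L := ((algebraMap K L).comp (algebraMap Rs K)).toAlgebra
  haveI : IsScalarTower Rs K L := IsScalarTower.of_algebraMap_eq fun _ => rfl
  haveI : IsScalarTower R Rs L := IsScalarTower.of_algebraMap_eq fun r => by
    change algebraMap R L r = algebraMap K L (algebraMap Rs K (algebraMap R Rs r))
    rw [← IsScalarTower.algebraMap_apply R Rs K, ← IsScalarTower.algebraMap_apply R K L]
  have hlifts : fb ∈ Polynomial.lifts (algebraMap Rs K) := by
    rw [Polynomial.lifts_iff_coeff_lifts]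
    intro k
    by_cases hk : k ∈ Finset.range (fb.natDegree + 1)
    · obtain ⟨a, ha⟩ := hden (fb.coeff k) (Finset.mem_image_of_mem _ hk)
      refine ⟨IsLocalization.mk' Rs a (⟨s, Submonoid.mem_powers s⟩ : Submonoid.powers s), ?_⟩
      have h1 : algebraMap Rs K (IsLocalization.mk' Rs a
          (⟨s, Submonoid.mem_powers s⟩ : Submonoid.powers s)) * algebraMap R K s =
          algebraMap R K a := by
        rw [IsScalarTower.algebraMap_apply R Rs K s, ← map_mul]
        have := IsLocalization.mk'_spec Rs a (⟨s, Submonoid.mem_powers s⟩ : Submonoid.powers s)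
        rw [this, ← IsScalarTower.algebraMap_apply R Rs K]
      exact mul_right_cancel₀ hsK0 (h1.trans ha.symm)
    · have : fb.coeff k = 0 :=
        Polynomial.coeff_eq_zero_of_natDegree_lt (by simpa using hk)
      exact ⟨0, by simp [this]⟩
  obtain ⟨f, hfmap, -, hfmonic⟩ := Polynomial.lifts_and_natDegree_eq_and_monic hlifts hfb_monic
  let P : StandardEtalePair Rs := ⟨f, hfmonic, Polynomial.derivative f, ⟨1, 0, 1, by ring⟩⟩
  have haeval : ∀ g : Polynomial Rs,
      Polynomial.aeval α g = Polynomial.aeval α (g.map (algebraMap Rs K)) :=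
    fun g => (Polynomial.aeval_map_algebraMap K α g).symm
  have hmap : P.HasMap α := by
    refine ⟨?_, ?_⟩
    · change Polynomial.aeval α f = 0
      rw [haeval, hfmap]; exact hfb_root
    · change IsUnit (Polynomial.aeval α (Polynomial.derivative f))
      rw [haeval, ← Polynomial.derivative_map, hfmap]
      exact IsUnit.mk0 _ (hfb_sep.aeval_derivative_ne_zero hfb_root)
  let R' := P.Ring
  letI : Algebra R R' := ((algebraMap Rs R').comp (algebraMap R Rs)).toAlgebra
  haveI : IsScalarTower R Rs R' := IsScalarTower.of_algebraMap_eq fun _ => rfl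
  haveI : Algebra.Etale R R' := Algebra.Etale.comp R Rs R'
  let ψ : R' →ₐ[R] L := (P.lift α hmap).restrictScalars R
  refine ⟨R', inferInstance, inferInstance, inferInstance, ψ, ?_⟩
  -- the subfield generated by the image is everything
  set F := Subfield.closure (Set.range ψ) with hF
  have hαF : α ∈ F := Subfield.subset_closure ⟨P.X, P.lift_X α hmap⟩
  have hRF : ∀ r : R, algebraMap R L r ∈ F := fun r =>
    Subfield.subset_closure ⟨algebraMap R R' r, ψ.commutes r⟩
  have hKF : ∀ x : K, algebraMap K L x ∈ F := by
    intro x
    obtain ⟨t, a, ht, hta⟩ := exists_mul_eq_algebraMap R p x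
    have ht0 : algebraMap R L t ≠ 0 := by
      rw [IsScalarTower.algebraMap_apply R K L, Ne, map_eq_zero,
        Ideal.algebraMap_residueField_eq_zero]
      exact ht
    have : algebraMap K L x = algebraMap R L a / algebraMap R L t := by
      rw [eq_div_iff ht0, IsScalarTower.algebraMap_apply R K L,
        IsScalarTower.algebraMap_apply R K L, ← map_mul, hta]
    rw [this]; exact F.div_mem (hRF a) (hRF t)
  let F' : IntermediateField K L := Subfield.toIntermediateField F hKF
  have hF' : F' = ⊤ := by
    rw [_root_.eq_top_iff, ← hα, IntermediateField.adjoin_simple_le_iff]; exact hαF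
  rw [_root_.eq_top_iff]
  intro x _
  have : x ∈ F' := hF' ▸ IntermediateField.mem_top
  exact this

end Groth.Agent.S9435
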