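import Groth.Statements.S9439
import Mathlib
import Groth.Agent.Lib.Helper28FlatNormal
import Groth.Agent.Lib.Helper28DepthFlat3
import Groth.Agent.Lib.Helper5RLR
import Groth.Agent.Lib.Helper28Serre
import Groth.Agent.Lib.Helper19ComplNoeth
-- import your own Groth.Agent.* helpers here

set_option autoImplicit false
universe u
open CAlg

namespace Groth.Agent.S9439
open Groth.Agent.Lib.Helper28 IsLocalRing TensorProduct

/-- An associated prime of `S ⧸ J` for a radical ideal `J` is a minimal prime over `J`. -/
theorem mem_minimalPrimes_of_mem_associatedPrimes_quotient {S : Type u} [CommRing S]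
    (J : Ideal S) (hJ : J.IsRadical) (q : Ideal S) (hq : q ∈ associatedPrimes S (S ⧸ J)) :
    q ∈ J.minimalPrimes := by
  obtain ⟨hprime, xbar, hx⟩ := hq
  obtain ⟨x, rfl⟩ := Ideal.Quotient.mk_surjective xbar
  have hmem : ∀ a : S, a ∈ q ↔ ∃ n : ℕ, a ^ n * x ∈ J := by
    intro a
    rw [hx]
    constructor
    · rintro ⟨n, hn⟩
      rw [Submodule.mem_colon_singleton, Submodule.mem_bot] at hn
      refine ⟨n, ?_⟩
      rw [← Ideal.Quotient.eq_zero_iff_mem, map_mul]
      exact hn
    · rintro ⟨n, hn⟩
      refine ⟨n, ?_⟩
      rw [Submodule.mem_colon_singleton, Submodule.mem_bot]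
      rw [← Ideal.Quotient.eq_zero_iff_mem, map_mul] at hn
      exact hn
  have hJq : J ≤ q := by
    intro a ha
    rw [hmem]
    exact ⟨1, by rw [pow_one]; exact J.mul_mem_right _ ha⟩
  have hxJ : x ∉ J := by
    intro hxJ
    apply hprime.ne_top
    rw [eq_top_iff]
    intro a _
    rw [hmem]
    exact ⟨1, J.mul_mem_left _ hxJ⟩
  rw [← hJ.radical, Ideal.radical_eq_sInf, Ideal.mem_sInf] at hxJ
  push Not at hxJ
  obtain ⟨q₀, ⟨hJq₀, hq₀⟩, hxq₀⟩ := hxJ
  obtain ⟨q', hq'min, hq'q₀⟩ := Ideal.exists_minimalPrimes_le hJq₀
  have hq'prime : q'.IsPrime := hq'min.1.1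
  have hxq' : x ∉ q' := fun h => hxq₀ (hq'q₀ h)
  have hqq' : q ≤ q' := by
    intro a ha
    obtain ⟨n, hn⟩ := (hmem a).mp ha
    rcases hq'prime.mem_or_mem (hq'min.1.2 hn) with h | h
    · exact hq'prime.mem_of_pow_mem n h
    · exact absurd h hxq'
  have : q' ≤ q := hq'min.2 ⟨hprime, hJq⟩ hqq'
  rw [le_antisymm hqq' this]
  exact hq'min

open Groth.Agent.Lib.Helper28 IsLocalRing TensorProduct in
theorem dvr_localization_of_mem_minimalPrimes {R S : Type u} [CommRing R] [CommRing S]
    [IsNoetherianRing R] [IsNoetherianRing S] [Algebra R S] [Module.Flat R S]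
    (p : Ideal R) [p.IsPrime] [IsDomain (Localization.AtPrime p)]
    [IsDiscreteValuationRing (Localization.AtPrime p)]
    (hJ : (p.map (algebraMap R S)).IsRadical) (q : Ideal S) [q.IsPrime]
    (hq : q ∈ (p.map (algebraMap R S)).minimalPrimes) :
    ∃ _ : IsDomain (Localization.AtPrime q), IsDiscreteValuationRing (Localization.AtPrime q) := by
  have hunder : q.comap (algebraMap R S) = p := under_eq_of_mem_minimalPrimes_map p q hq
  -- `p S_q` is the maximal ideal
  have hmapmax : (q.comap (algebraMap R S)).map (algebraMap R (Localization.AtPrime q)) =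
      maximalIdeal (Localization.AtPrime q) := by
    rw [hunder, IsScalarTower.algebraMap_eq R S (Localization.AtPrime q), ← Ideal.map_map,
      ← Localization.AtPrime.map_eq_maximalIdeal,
      ← IsLocalization.AtPrime.radical_map_of_mem_minimalPrimes (Localization.AtPrime q) q _ hq,
      ← IsLocalization.map_radical q.primeCompl, hJ.radical]
  -- transport statements about the fibre local ring
  have key : ∀ (I₀ : Ideal (Localization.AtPrime q)), I₀ = maximalIdeal (Localization.AtPrime q) →
      ∀ [IsLocalRing (Localization.AtPrime q ⧸ I₀)],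
      IsRegularLocalRing (Localization.AtPrime q ⧸ I₀) ∧
        (maximalIdeal (Localization.AtPrime q ⧸ I₀)).height = 0 := by
    rintro _ rfl _
    have hfield : IsField (Localization.AtPrime q ⧸ maximalIdeal (Localization.AtPrime q)) :=
      (Ideal.Quotient.maximal_ideal_iff_isField_quotient _).mp inferInstance
    have hbot : maximalIdeal (Localization.AtPrime q ⧸ maximalIdeal (Localization.AtPrime q)) = ⊥ :=
      IsLocalRing.isField_iff_maximalIdeal_eq.mp hfield
    refine ⟨isRegularLocalRing_of_maximalIdeal_eq_bot hbot, ?_⟩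
    rw [hbot]
    have : IsDomain (Localization.AtPrime q ⧸ maximalIdeal (Localization.AtPrime q)) :=
      hfield.isDomain
    exact Ideal.height_bot
  have hloc : IsLocalRing (EGA4.FibLocRing R S q) := isLocalRing_fibLocRing q
  obtain ⟨hF, hF0⟩ := key _ hmapmax
  have hA : IsRegularLocalRing (Localization.AtPrime (q.comap (algebraMap R S))) := by
    have key2 : ∀ (p₁ : Ideal R) [p₁.IsPrime], p = p₁ →
        IsRegularLocalRing (Localization.AtPrime p₁) := by
      rintro _ _ rfl
      infer_instance
    exact key2 _ hunder.symm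
  have hreg : IsRegularLocalRing (Localization.AtPrime q) :=
    isRegularLocalRing_localization_of_fibLocRing q hA hF
  have hdom : IsDomain (Localization.AtPrime q) :=
    Groth.Agent.Lib.Helper5.isDomain_of_isRegularLocalRing _
  refine ⟨hdom, ?_⟩
  have hht : q.height = 1 := by
    rw [height_eq_height_fibLocRing_add (A := R) q, hF0, zero_add, hunder]
    have h1 : ringKrullDim (Localization.AtPrime p) = 1 :=
      IsPrincipalIdealRing.ringKrullDim_eq_one _ (IsDiscreteValuationRing.not_isField _)
    rw [IsLocalization.AtPrime.ringKrullDim_eq_height p (Localization.AtPrime p)] at h1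
    exact_mod_cast h1
  have hdim : ringKrullDim (Localization.AtPrime q) = 1 := by
    rw [IsLocalization.AtPrime.ringKrullDim_eq_height q (Localization.AtPrime q), hht]
    rfl
  rw [← IsLocalRing.finrank_CotangentSpace_eq_one_iff]
  have h2 := (IsRegularLocalRing.iff_finrank_cotangentSpace (Localization.AtPrime q)).mp hreg
  rw [hdim] at h2
  exact_mod_cast h2



/-- Let R be a Noetherian local ring, R^ its completion and p a prime with R_p a discrete valuation ring
and with R^/pR^ reduced (p analytically unramified: the completion of R/p, which is R^/pR^, is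
reduced). Then the localization of R^ at any associated prime of R^/pR^ is a discrete valuation
ring. -/
theorem result
    (R : Type u) [CommRing R] [IsLocalRing R] [IsNoetherianRing R] (p : Ideal R) [p.IsPrime]
    [IsDomain (Localization.AtPrime p)] [IsDiscreteValuationRing (Localization.AtPrime p)]
    (hp : IsReduced (AdicCompletion (IsLocalRing.maximalIdeal R) R ⧸
      p.map (algebraMap R (AdicCompletion (IsLocalRing.maximalIdeal R) R))))
    (q : Ideal (AdicCompletion (IsLocalRing.maximalIdeal R) R)) [q.IsPrime]
    (hq : q ∈ associatedPrimes (AdicCompletion (IsLocalRing.maximalIdeal R) R)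
      (AdicCompletion (IsLocalRing.maximalIdeal R) R ⧸
        p.map (algebraMap R (AdicCompletion (IsLocalRing.maximalIdeal R) R)))) :
    ∃ _ : IsDomain (Localization.AtPrime q), IsDiscreteValuationRing (Localization.AtPrime q) := by
  have hNS : IsNoetherianRing (AdicCompletion (IsLocalRing.maximalIdeal R) R) :=
    Groth.Agent.Lib.Helper19.isNoetherianRing_adicCompletion _
  have hJrad : (p.map (algebraMap R (AdicCompletion (IsLocalRing.maximalIdeal R) R))).IsRadical :=
    (Ideal.isRadical_iff_quotient_reduced _).mpr hp
  have hqmin := mem_minimalPrimes_of_mem_associatedPrimes_quotient _ hJrad q hq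
  exact dvr_localization_of_mem_minimalPrimes p hJrad q hqmin

end Groth.Agent.S9439
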