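import Groth.Statements.S9445
import Mathlib.RingTheory.Smooth.Basic

set_option autoImplicit false
universe u
open CAlg

namespace Groth.Agent.S9445


lemma exists_lift_ringHom (S S' B : Type u) [CommRing S] [CommRing S'] [Algebra S S']
    [Algebra.FormallyEtale S S'] [CommRing B]
    (ψ : S →+* B) (N : Ideal B) (hN : IsNilpotent N) (g₀ : S' →+* B ⧸ N)
    (h : g₀.comp (algebraMap S S') = (Ideal.Quotient.mk N).comp ψ) :
    ∃ σ : S' →+* B, σ.comp (algebraMap S S') = ψ ∧ (Ideal.Quotient.mk N).comp σ = g₀ := by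
  let _ := ψ.toAlgebra
  let g₀' : S' →ₐ[S] B ⧸ N :=
    { g₀ with
      commutes' := fun s => by
        have := RingHom.congr_fun h s
        simp only [RingHom.comp_apply] at this
        exact this }
  refine ⟨(Algebra.FormallySmooth.lift N hN g₀').toRingHom, ?_, ?_⟩
  · ext s
    simp only [RingHom.comp_apply, AlgHom.toRingHom_eq_coe, RingHom.coe_coe, AlgHom.commutes]
    rfl
  · ext x
    simp only [RingHom.comp_apply, AlgHom.toRingHom_eq_coe, RingHom.coe_coe,
      Algebra.FormallySmooth.mk_lift]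
    rfl

lemma unique_lift_ringHom (S S' B : Type u) [CommRing S] [CommRing S'] [Algebra S S']
    [Algebra.FormallyEtale S S'] [CommRing B]
    (N : Ideal B) (hN : IsNilpotent N) (σ₁ σ₂ : S' →+* B)
    (h1 : σ₁.comp (algebraMap S S') = σ₂.comp (algebraMap S S'))
    (h2 : (Ideal.Quotient.mk N).comp σ₁ = (Ideal.Quotient.mk N).comp σ₂) : σ₁ = σ₂ := by
  let _ := (σ₁.comp (algebraMap S S')).toAlgebra
  let a₁ : S' →ₐ[S] B := { σ₁ with commutes' := fun s => rfl }
  let a₂ : S' →ₐ[S] B := { σ₂ with commutes' := fun s => (RingHom.congr_fun h1 s).symm }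
  have : a₁ = a₂ := Algebra.FormallyUnramified.ext N hN (fun x => RingHom.congr_fun h2 x)
  ext x
  exact AlgHom.congr_fun this x

open TensorProduct in
theorem main_aux (R : Type u) [CommRing R]
    (S : Type u) [CommRing S] [Algebra R S] (S' : Type u) [CommRing S'] [Algebra R S']
    [Algebra S S'] [IsScalarTower R S S'] [Algebra.FormallyEtale S S'] (k : ℕ) :
    Function.Bijective (Ideal.quotientMap (KaehlerDifferential.ideal R S' ^ (k + 1))
      (Algebra.TensorProduct.map (AlgHom.id S' S') (IsScalarTower.toAlgHom R S S')).toRingHom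
      (Ideal.le_comap_pow
        (Algebra.TensorProduct.map (AlgHom.id S' S') (IsScalarTower.toAlgHom R S S')).toRingHom
        (K := KaehlerDifferential.ideal R S') (k + 1))) := by
  set φ := (Algebra.TensorProduct.map (AlgHom.id S' S') (IsScalarTower.toAlgHom R S S')) with hφ
  set J' := KaehlerDifferential.ideal R S' with hJ'
  set I : Ideal (S' ⊗[R] S) := J'.comap φ.toRingHom with hI
  set Φ := Ideal.quotientMap (J' ^ (k + 1)) φ.toRingHom (Ideal.le_comap_pow φ.toRingHom (K := J') (k + 1)) with hΦ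
  -- notation
  let T := S' ⊗[R] S
  let T' := S' ⊗[R] S'
  let B := T ⧸ I ^ (k + 1)
  let B' := T' ⧸ J' ^ (k + 1)
  let N : Ideal B := I.map (Ideal.Quotient.mk (I ^ (k + 1)))
  let N' : Ideal B' := J'.map (Ideal.Quotient.mk (J' ^ (k + 1)))
  have hN : IsNilpotent N := by
    refine ⟨k + 1, ?_⟩
    rw [← Ideal.map_pow, Ideal.zero_eq_bot, Ideal.map_quotient_self]
  have hN' : IsNilpotent N' := by
    refine ⟨k + 1, ?_⟩
    rw [← Ideal.map_pow, Ideal.zero_eq_bot, Ideal.map_quotient_self]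
  have hφl : ∀ s' : S', φ (s' ⊗ₜ 1) = s' ⊗ₜ 1 := by
    intro s'; simp [φ]
  have hφr : ∀ s : S, φ (1 ⊗ₜ s) = 1 ⊗ₜ (algebraMap S S' s) := by
    intro s; simp [φ]
  -- membership facts
  have hmemI : ∀ s : S, (algebraMap S S' s) ⊗ₜ[R] (1 : S) - (1 : S') ⊗ₜ[R] s ∈ I := by
    intro s
    simp only [hI, Ideal.mem_comap, AlgHom.toRingHom_eq_coe, RingHom.coe_coe, map_sub, hφl, hφr]
    have := KaehlerDifferential.one_smul_sub_smul_one_mem_ideal R (algebraMap S S' s)
    rw [← neg_sub]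
    exact J'.neg_mem this
  let ψ : S →+* B := (Ideal.Quotient.mk (I ^ (k + 1))).comp
    (Algebra.TensorProduct.includeRight : S →ₐ[R] T).toRingHom
  let α : S' →+* B := (Ideal.Quotient.mk (I ^ (k + 1))).comp
    (Algebra.TensorProduct.includeLeft : S' →ₐ[R] T).toRingHom
  let g₀ : S' →+* B ⧸ N := (Ideal.Quotient.mk N).comp α
  have hg₀ : g₀.comp (algebraMap S S') = (Ideal.Quotient.mk N).comp ψ := by
    ext s
    simp only [g₀, α, ψ, RingHom.comp_apply, AlgHom.toRingHom_eq_coe, RingHom.coe_coe,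
      Algebra.TensorProduct.includeLeft_apply, Algebra.TensorProduct.includeRight_apply]
    rw [Ideal.Quotient.eq, ← map_sub]
    exact Ideal.mem_map_of_mem _ (hmemI s)
  obtain ⟨σ₂, hσ₂S, hσ₂N⟩ := exists_lift_ringHom S S' B ψ N hN g₀ hg₀
  have hσ₂S' : ∀ s : S, σ₂ (algebraMap S S' s) = Ideal.Quotient.mk (I ^ (k + 1)) (1 ⊗ₜ s) :=
    fun s => RingHom.congr_fun hσ₂S s
  have hσ₂N' : ∀ s' : S', σ₂ s' - Ideal.Quotient.mk (I ^ (k + 1)) (s' ⊗ₜ 1) ∈ N := by
    intro s'
    have := RingHom.congr_fun hσ₂N s'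
    simp only [g₀, α, RingHom.comp_apply] at this
    rw [Ideal.Quotient.eq] at this
    exact this
  let αR : S' →ₐ[R] B := (Ideal.Quotient.mkₐ R (I ^ (k + 1))).comp
    (Algebra.TensorProduct.includeLeft : S' →ₐ[R] T)
  let σ₂R : S' →ₐ[R] B :=
    { σ₂ with
      commutes' := fun r => by
        change σ₂ (algebraMap R S' r) = _
        rw [IsScalarTower.algebraMap_apply R S S', hσ₂S']
        rw [IsScalarTower.algebraMap_apply R T B]
        congr 1
        rw [Algebra.TensorProduct.algebraMap_apply, Algebra.TensorProduct.tmul_one_eq_one_tmul] }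
  let σ : T' →ₐ[R] B := Algebra.TensorProduct.productMap αR σ₂R
  have hσl : ∀ s' : S', σ (s' ⊗ₜ 1) = Ideal.Quotient.mk (I ^ (k + 1)) (s' ⊗ₜ 1) := by
    intro s'
    change Algebra.TensorProduct.productMap αR σ₂R (s' ⊗ₜ 1) = _
    rw [Algebra.TensorProduct.productMap_left_apply]
    rfl
  have hσr : ∀ s' : S', σ (1 ⊗ₜ s') = σ₂ s' := by
    intro s'
    change Algebra.TensorProduct.productMap αR σ₂R (1 ⊗ₜ s') = _
    rw [Algebra.TensorProduct.productMap_right_apply]
    rfl
  have hσφ : ∀ t : T, σ (φ t) = Ideal.Quotient.mk (I ^ (k + 1)) t := by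
    intro t
    induction t using TensorProduct.induction_on with
    | zero => simp
    | add x y hx hy => rw [map_add, map_add, hx, hy, map_add]
    | tmul s' s =>
      have h1 : (s' ⊗ₜ[R] s : T) = (s' ⊗ₜ 1) * (1 ⊗ₜ s) := by simp
      rw [h1, map_mul, map_mul, hφl, hφr, hσl, hσr, hσ₂S', map_mul]
  have hσJ : J'.map σ.toRingHom ≤ N := by
    rw [hJ', ← KaehlerDifferential.span_range_eq_ideal, Ideal.map_span, Ideal.span_le]
    rintro _ ⟨_, ⟨s', rfl⟩, rfl⟩
    simp only [AlgHom.toRingHom_eq_coe, RingHom.coe_coe, map_sub, hσl, hσr]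
    exact hσ₂N' s'
  have hσJk : J' ^ (k + 1) ≤ RingHom.ker σ.toRingHom := by
    intro x hx
    rw [RingHom.mem_ker]
    have h1 : σ.toRingHom x ∈ (J' ^ (k + 1)).map σ.toRingHom := Ideal.mem_map_of_mem _ hx
    rw [Ideal.map_pow] at h1
    have h2 := Ideal.pow_right_mono hσJ (k + 1) h1
    have h3 : N ^ (k + 1) = ⊥ := by
      rw [← Ideal.map_pow, Ideal.map_quotient_self]
    rw [h3] at h2
    exact h2
  let σbar : B' →+* B := Ideal.Quotient.lift (J' ^ (k + 1)) σ.toRingHom (fun x hx => hσJk hx)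
  have hΦmk : ∀ t : T, Φ (Ideal.Quotient.mk _ t) = Ideal.Quotient.mk _ (φ t) := by
    intro t
    rw [hΦ, Ideal.quotientMap_mk]
    rfl
  have hinj : ∀ b : B, σbar (Φ b) = b := by
    intro b
    obtain ⟨t, rfl⟩ := Ideal.Quotient.mk_surjective b
    rw [hΦmk]
    change σ (φ t) = _
    exact hσφ t
  refine ⟨Function.LeftInverse.injective hinj, ?_⟩
  -- surjectivity
  have hNN' : N ≤ N'.comap Φ := by
    rw [Ideal.map_le_iff_le_comap]
    intro t ht
    rw [Ideal.mem_comap, Ideal.mem_comap, hΦmk]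
    exact Ideal.mem_map_of_mem _ ht
  let τ₁ : S' →+* B' := Φ.comp σ₂
  let τ₂ : S' →+* B' := (Ideal.Quotient.mk (J' ^ (k + 1))).comp
    (Algebra.TensorProduct.includeRight : S' →ₐ[R] T').toRingHom
  have hτ : τ₁ = τ₂ := by
    apply unique_lift_ringHom S S' B' N' hN' τ₁ τ₂
    · ext s
      change Φ (σ₂ (algebraMap S S' s)) =
        Ideal.Quotient.mk (J' ^ (k + 1)) (1 ⊗ₜ (algebraMap S S' s))
      rw [hσ₂S', hΦmk, hφr]
    · ext s'
      change Ideal.Quotient.mk N' (Φ (σ₂ s')) =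
        Ideal.Quotient.mk N' (Ideal.Quotient.mk (J' ^ (k + 1)) (1 ⊗ₜ s'))
      rw [Ideal.Quotient.eq]
      have e1 : Φ (σ₂ s') - Ideal.Quotient.mk (J' ^ (k + 1)) (1 ⊗ₜ s') =
          Φ (σ₂ s' - Ideal.Quotient.mk (I ^ (k + 1)) (s' ⊗ₜ 1)) +
          Ideal.Quotient.mk (J' ^ (k + 1)) (s' ⊗ₜ 1 - 1 ⊗ₜ s') := by
        rw [map_sub, hΦmk, hφl, map_sub]
        ring
      rw [e1]
      apply N'.add_mem
      · exact hNN' (hσ₂N' s')
      · apply Ideal.mem_map_of_mem
        have := KaehlerDifferential.one_smul_sub_smul_one_mem_ideal R s'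
        rw [← neg_sub]
        exact J'.neg_mem this
  have hsurj : ∀ t' : T', Φ (σ t') = Ideal.Quotient.mk (J' ^ (k + 1)) t' := by
    intro t'
    induction t' using TensorProduct.induction_on with
    | zero => rw [map_zero, map_zero, map_zero]
    | add x y hx hy => rw [map_add, map_add, hx, hy, map_add]
    | tmul a b =>
      have h1 : (a ⊗ₜ[R] b : T') = (a ⊗ₜ 1) * (1 ⊗ₜ b) := by simp
      rw [h1, map_mul, map_mul, hσl, hσr, hΦmk, hφl, map_mul]
      congr 1
      exact RingHom.congr_fun hτ b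
  intro b'
  obtain ⟨t', rfl⟩ := Ideal.Quotient.mk_surjective b'
  exact ⟨σ t', hsurj t'⟩

open TensorProduct in


open TensorProduct in
/-- For ring maps R → S → S' with S → S' formally étale and k ≥ 0, let J' ⊆ S' ⊗_R S' be the kernel of
multiplication and I ⊆ S' ⊗_R S its preimage under the map induced by S → S' (I is the kernel of S'
⊗_R S → S', and (S' ⊗_R S)/I^{k+1} is S' ⊗_S P^k_{S/R}); then (S' ⊗_R S)/I^{k+1} → (S' ⊗_R
S')/J'^{k+1} is bijective. (The consequence S' ⊗_S Ω_{S/R} ≅ Ω_{S'/R} is Mathlib's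
KaehlerDifferential.isBaseChange_of_formallyEtale.) -/
theorem result (R : Type u) [CommRing R]
    (S : Type u) [CommRing S] [Algebra R S] (S' : Type u) [CommRing S'] [Algebra R S']
    [Algebra S S'] [IsScalarTower R S S'] [Algebra.FormallyEtale S S'] (k : ℕ) :
    Function.Bijective (Ideal.quotientMap (KaehlerDifferential.ideal R S' ^ (k + 1))
      (Algebra.TensorProduct.map (AlgHom.id S' S') (IsScalarTower.toAlgHom R S S')).toRingHom
      (Ideal.le_comap_pow
        (Algebra.TensorProduct.map (AlgHom.id S' S') (IsScalarTower.toAlgHom R S S')).toRingHom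
        (K := KaehlerDifferential.ideal R S') (k + 1))) := by
  exact main_aux R S S' k

end Groth.Agent.S9445
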