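import Groth.Statements.S9450
import Mathlib

set_option autoImplicit false
universe u
open CAlg

namespace Groth.Agent.S9450

open KaehlerDifferential

section
variable (A : Type u) [CommRing A] (B : Type u) [CommRing B] [Algebra A B]
  (C : Type u) [CommRing C] [Algebra B C] [Algebra A C] [IsScalarTower A B C]

theorem surj_BC (hC : Function.Surjective (algebraMap A C)) :
    Function.Surjective (algebraMap B C) := by
  intro c
  obtain ⟨a, rfl⟩ := hC c
  exact ⟨algebraMap A B a, (IsScalarTower.algebraMap_apply A B C a).symm⟩

theorem surj_part (hC : Function.Surjective (algebraMap A C)) :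
    Function.Surjective (KaehlerDifferential.kerCotangentToTensor A B C) := by
  have hex := KaehlerDifferential.exact_kerCotangentToTensor_mapBaseChange A B C (surj_BC A B C hC)
  have : Subsingleton (Ω[C⁄A]) := KaehlerDifferential.subsingleton_of_surjective A C hC
  intro y
  exact (hex y).mp (Subsingleton.elim _ _)

/-- the map `A/I² → C` -/
noncomputable def gC : (A ⧸ (RingHom.ker (algebraMap A C)) ^ 2) →ₐ[A] C :=
  Ideal.Quotient.liftₐ _ (Algebra.ofId A C) (fun a ha => by
    have : a ∈ RingHom.ker (algebraMap A C) := Ideal.pow_le_self two_ne_zero ha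
    exact this)

theorem gC_mk (a : A) : gC A C (Ideal.Quotient.mk _ a) = algebraMap A C a := rfl

theorem gC_surj (hC : Function.Surjective (algebraMap A C)) : Function.Surjective (gC A C) := by
  intro c
  obtain ⟨a, rfl⟩ := hC c
  exact ⟨Ideal.Quotient.mk _ a, rfl⟩

theorem gC_ker_le : RingHom.ker ((gC A C : (A ⧸ (RingHom.ker (algebraMap A C)) ^ 2) →ₐ[A] C) : (A ⧸ (RingHom.ker (algebraMap A C)) ^ 2) →+* C) ≤ (RingHom.ker (algebraMap A C)).cotangentIdeal := by
  intro z hz
  obtain ⟨a, rfl⟩ := Ideal.Quotient.mk_surjective z
  exact Ideal.mk_mem_cotangentIdeal.mpr hz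

theorem gC_nil : IsNilpotent (RingHom.ker ((gC A C : (A ⧸ (RingHom.ker (algebraMap A C)) ^ 2) →ₐ[A] C) : (A ⧸ (RingHom.ker (algebraMap A C)) ^ 2) →+* C)) := by
  refine ⟨2, ?_⟩
  rw [Ideal.zero_eq_bot, eq_bot_iff, ← Ideal.cotangentIdeal_square]
  exact Ideal.pow_right_mono (gC_ker_le A C) 2

variable [Algebra.FormallySmooth A B]

/-- the lift `B → A/I²` -/
noncomputable def sLift (hC : Function.Surjective (algebraMap A C)) :
    B →ₐ[A] (A ⧸ (RingHom.ker (algebraMap A C)) ^ 2) :=
  Algebra.FormallySmooth.liftOfSurjective (IsScalarTower.toAlgHom A B C) (gC A C)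
    (gC_surj A C hC) (gC_nil A C)

theorem gC_sLift (hC : Function.Surjective (algebraMap A C)) (b : B) :
    gC A C (sLift A B C hC b) = algebraMap B C b :=
  Algebra.FormallySmooth.liftOfSurjective_apply _ _ _ _ b

theorem sLift_mem (hC : Function.Surjective (algebraMap A C)) (b : B)
    (hb : b ∈ RingHom.ker (algebraMap B C)) :
    sLift A B C hC b ∈ (RingHom.ker (algebraMap A C)).cotangentIdeal := by
  apply gC_ker_le A C
  rw [RingHom.mem_ker]
  show gC A C (sLift A B C hC b) = 0
  rw [gC_sLift]
  exact hb

/-- `J → I/I²` -/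
noncomputable def r0 (hC : Function.Surjective (algebraMap A C)) :
    (RingHom.ker (algebraMap B C)) →ₗ[A] (RingHom.ker (algebraMap A C)).Cotangent :=
  ((RingHom.ker (algebraMap A C)).cotangentEquivIdeal.symm :
      (RingHom.ker (algebraMap A C)).cotangentIdeal →ₗ[A] (RingHom.ker (algebraMap A C)).Cotangent) ∘ₗ
    (LinearMap.codRestrict ((RingHom.ker (algebraMap A C)).cotangentIdeal.restrictScalars A)
      ((sLift A B C hC).toLinearMap ∘ₗ ((RingHom.ker (algebraMap B C)).restrictScalars A).subtype)
      (fun b => sLift_mem A B C hC b.1 b.2))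

theorem r0_apply (hC : Function.Surjective (algebraMap A C)) (b : RingHom.ker (algebraMap B C)) :
    r0 A B C hC b = (RingHom.ker (algebraMap A C)).cotangentEquivIdeal.symm
      ⟨sLift A B C hC b.1, sLift_mem A B C hC b.1 b.2⟩ := rfl

theorem r0_kills (hC : Function.Surjective (algebraMap A C)) :
    ((RingHom.ker (algebraMap B C)) • (⊤ : Submodule B (RingHom.ker (algebraMap B C)))).restrictScalars A
      ≤ LinearMap.ker (r0 A B C hC) := by
  intro x hx
  rw [Submodule.restrictScalars_mem] at hx
  rw [LinearMap.mem_ker]
  refine Submodule.smul_induction_on hx ?_ ?_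
  · intro j hj y _
    rw [r0_apply]
    rw [LinearEquiv.symm_apply_eq, map_zero]
    apply Subtype.ext
    show sLift A B C hC ((j • y : RingHom.ker (algebraMap B C)) : B) = 0
    have h1 : ((j • y : RingHom.ker (algebraMap B C)) : B) = j * (y : B) := rfl
    rw [h1, map_mul]
    have h2 : sLift A B C hC j * sLift A B C hC (y : B) ∈
        (RingHom.ker (algebraMap A C)).cotangentIdeal *
          (RingHom.ker (algebraMap A C)).cotangentIdeal :=
      Ideal.mul_mem_mul (sLift_mem A B C hC j hj) (sLift_mem A B C hC y.1 y.2)
    have h3 : (RingHom.ker (algebraMap A C)).cotangentIdeal *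
          (RingHom.ker (algebraMap A C)).cotangentIdeal = ⊥ :=
      (pow_two _).symm.trans (Ideal.cotangentIdeal_square _)
    exact Ideal.mem_bot.mp (h3.le h2)
  · intro x y hx hy
    rw [map_add, hx, hy, add_zero]

/-- the retraction -/
noncomputable def rMap (hC : Function.Surjective (algebraMap A C)) :
    (RingHom.ker (algebraMap B C)).Cotangent →ₗ[A] (RingHom.ker (algebraMap A C)).Cotangent :=
  Submodule.liftQ
    (((RingHom.ker (algebraMap B C)) • (⊤ : Submodule B (RingHom.ker (algebraMap B C)))).restrictScalars A)
    (r0 A B C hC) (r0_kills A B C hC)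

theorem rMap_toCotangent (hC : Function.Surjective (algebraMap A C))
    (b : RingHom.ker (algebraMap B C)) :
    rMap A B C hC ((RingHom.ker (algebraMap B C)).toCotangent b) = r0 A B C hC b := rfl

theorem rMap_comp (hC : Function.Surjective (algebraMap A C)) :
    rMap A B C hC ∘ₗ (Ideal.mapCotangent (RingHom.ker (algebraMap A C))
        (RingHom.ker (algebraMap B C)) (Algebra.ofId A B)
        (le_of_eq (congrArg RingHom.ker (IsScalarTower.algebraMap_eq A B C)))) = LinearMap.id := by
  apply LinearMap.ext
  intro x
  obtain ⟨a, rfl⟩ := Ideal.toCotangent_surjective _ x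
  rw [LinearMap.comp_apply, Ideal.mapCotangent_toCotangent, rMap_toCotangent, r0_apply,
    LinearMap.id_apply]
  have h1 : sLift A B C hC ((Algebra.ofId A B) (a : A)) =
      (RingHom.ker (algebraMap A C) ^ 2).mkQ (a : A) := (sLift A B C hC).commutes (a : A)
  have := Ideal.cotangentEquivIdeal_symm_apply (RingHom.ker (algebraMap A C)) (a : A) a.2
  rw [← this]
  congr 1
  exact Subtype.ext h1

end

section
variable (A : Type u) [CommRing A] (B : Type u) [CommRing B] [Algebra A B]
  (C : Type u) [CommRing C] [Algebra B C] [Algebra A C] [IsScalarTower A B C]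

/-- the extension `A → C` -/
noncomputable abbrev P1 (hC : Function.Surjective (algebraMap A C)) : Algebra.Extension.{u} A C :=
  { Ring := A, σ := fun c => (hC c).choose, algebraMap_σ := fun c => (hC c).choose_spec }

/-- the extension `B → C` -/
noncomputable abbrev P2 (hC : Function.Surjective (algebraMap A C)) : Algebra.Extension.{u} A C :=
  { Ring := B, σ := fun c => (surj_BC A B C hC c).choose,
    algebraMap_σ := fun c => (surj_BC A B C hC c).choose_spec }

/-- the map of extensions -/
noncomputable def fHom (hC : Function.Surjective (algebraMap A C)) :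
    (P1 A C hC).Hom (P2 A B C hC) :=
  { toRingHom := algebraMap A B
    toRingHom_algebraMap := fun x => rfl
    algebraMap_toRingHom := fun x => (IsScalarTower.algebraMap_apply A B C x).symm }

variable [Algebra.FormallySmooth A B]

theorem h1_surj (hC : Function.Surjective (algebraMap A C)) :
    Function.Surjective (Algebra.Extension.H1Cotangent.map (fHom A B C hC)) := by
  have : Algebra.FormallySmooth A (P1 A C hC).Ring := inferInstanceAs (Algebra.FormallySmooth A A)
  have : Algebra.FormallySmooth A (P2 A B C hC).Ring := inferInstanceAs (Algebra.FormallySmooth A B)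
  have h := Algebra.Extension.H1Cotangent.equivOfFormallySmooth_toLinearMap (fHom A B C hC)
  intro y
  obtain ⟨z, hz⟩ := (Algebra.Extension.H1Cotangent.equivOfFormallySmooth (P1 A C hC)
    (P2 A B C hC)).surjective y
  refine ⟨z, ?_⟩
  rw [← hz, ← h]
  rfl

theorem ker_le_range (hC : Function.Surjective (algebraMap A C)) :
    LinearMap.ker ((KaehlerDifferential.kerCotangentToTensor A B C).restrictScalars A) ≤
      LinearMap.range (Ideal.mapCotangent (RingHom.ker (algebraMap A C))
          (RingHom.ker (algebraMap B C)) (Algebra.ofId A B)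
          (le_of_eq (congrArg RingHom.ker (IsScalarTower.algebraMap_eq A B C)))) := by
  intro y hy
  rw [LinearMap.mem_ker] at hy
  obtain ⟨x, rfl⟩ := Ideal.toCotangent_surjective _ y
  have hy' : (KaehlerDifferential.kerCotangentToTensor A B C)
      ((RingHom.ker (algebraMap B C)).toCotangent x) = 0 := hy
  rw [KaehlerDifferential.kerCotangentToTensor_toCotangent] at hy'
  have hmem : (Algebra.Extension.Cotangent.mk (P := P2 A B C hC) x) ∈
      LinearMap.ker (P2 A B C hC).cotangentComplex := by
    rw [LinearMap.mem_ker, Algebra.Extension.cotangentComplex_mk]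
    exact hy'
  obtain ⟨z, hz⟩ := h1_surj A B C hC ⟨_, hmem⟩
  obtain ⟨a, ha⟩ := Algebra.Extension.Cotangent.mk_surjective z.1
  have hz1 := congrArg Subtype.val hz
  rw [Algebra.Extension.H1Cotangent.map_apply_coe, ← ha, Algebra.Extension.Cotangent.map_mk] at hz1
  refine ⟨(RingHom.ker (algebraMap A C)).toCotangent a, ?_⟩
  rw [Ideal.mapCotangent_toCotangent]
  exact congrArg Algebra.Extension.Cotangent.val hz1

end

/-- For ring maps A → B → C with A → C surjective and A → B formally smooth, writing I = ker(A → C) and
J = ker(B → C), the sequence 0 → I/I² → J/J² → C ⊗_B Ω_{B/A} → 0 is split exact: the first map is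
injective and admits an A-linear retraction, its range is the kernel of the second map (class of x ↦
1 ⊗ dx), and the second map is surjective. -/
theorem result (A : Type u) [CommRing A]
    (B : Type u) [CommRing B] [Algebra A B] [Algebra.FormallySmooth A B] (C : Type u) [CommRing C]
    [Algebra B C] [Algebra A C] [IsScalarTower A B C] (hC : Function.Surjective (algebraMap A C)) :
    Function.Injective (Ideal.mapCotangent (RingHom.ker (algebraMap A C))
        (RingHom.ker (algebraMap B C)) (Algebra.ofId A B)
        (le_of_eq (congrArg RingHom.ker (IsScalarTower.algebraMap_eq A B C)))) ∧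
      (∃ r : (RingHom.ker (algebraMap B C)).Cotangent →ₗ[A] (RingHom.ker (algebraMap A C)).Cotangent,
        r ∘ₗ (Ideal.mapCotangent (RingHom.ker (algebraMap A C)) (RingHom.ker (algebraMap B C))
          (Algebra.ofId A B)
          (le_of_eq (congrArg RingHom.ker (IsScalarTower.algebraMap_eq A B C)))) = LinearMap.id) ∧
      LinearMap.range (Ideal.mapCotangent (RingHom.ker (algebraMap A C))
          (RingHom.ker (algebraMap B C)) (Algebra.ofId A B)
          (le_of_eq (congrArg RingHom.ker (IsScalarTower.algebraMap_eq A B C)))) =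
        LinearMap.ker ((KaehlerDifferential.kerCotangentToTensor A B C).restrictScalars A) ∧
      Function.Surjective (KaehlerDifferential.kerCotangentToTensor A B C) := by
  refine ⟨?_, ⟨rMap A B C hC, rMap_comp A B C hC⟩, ?_, surj_part A B C hC⟩
  · intro x y hxy
    have h := rMap_comp A B C hC
    have hx := LinearMap.congr_fun h x
    have hy := LinearMap.congr_fun h y
    simp only [LinearMap.comp_apply, LinearMap.id_apply] at hx hy
    rw [← hx, ← hy, hxy]
  · apply le_antisymm
    · rintro _ ⟨x, rfl⟩
      obtain ⟨a, rfl⟩ := Ideal.toCotangent_surjective _ x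
      rw [LinearMap.mem_ker, Ideal.mapCotangent_toCotangent]
      show KaehlerDifferential.kerCotangentToTensor A B C (Ideal.toCotangent _ _) = 0
      rw [KaehlerDifferential.kerCotangentToTensor_toCotangent]
      show (1 : C) ⊗ₜ[B] (KaehlerDifferential.D A B) (algebraMap A B (a : A)) = 0
      rw [Derivation.map_algebraMap, TensorProduct.tmul_zero]
    · exact ker_le_range A B C hC

end Groth.Agent.S9450
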