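import Groth.Statements.S9451
import Mathlib

set_option autoImplicit false
universe u
open CategoryTheory CategoryTheory.Limits TensorProduct
open CAlg

namespace Groth.Agent.S9451

/-- Let (A_i) be a filtered system of rings with colimit A and B a smooth A-algebra. Then some stage A_i
carries a smooth A_i-algebra B_i with B isomorphic to A ⊗_{A_i} B_i as A-algebras (the base change
along the colimit map A_i → A; existence of an isomorphism). -/
theorem result {I : Type u} [SmallCategory I] [IsFiltered I]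
    (D : I ⥤ CommRingCat.{u}) (c : Cocone D) (hc : IsColimit c) (B : Type u) [CommRing B]
    [Algebra c.pt B] [Algebra.Smooth c.pt B] :
    ∃ (i : I) (Bi : Type u) (_ : CommRing Bi) (_ : Algebra (D.obj i) Bi),
      Algebra.Smooth (D.obj i) Bi ∧
      (letI : Algebra (D.obj i) c.pt := (c.ι.app i).hom.toAlgebra
       Nonempty (B ≃ₐ[c.pt] (c.pt ⊗[D.obj i] Bi))) := by
  classical
  obtain ⟨A₀, B₀, _, _, hfg, hsm, ⟨e⟩⟩ := Algebra.Smooth.exists_subalgebra_fg ℤ c.pt B
  haveI hft : Algebra.FiniteType ℤ A₀ := (Subalgebra.fg_iff_finiteType A₀).mp hfg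
  have huniq : ∀ {X : Type u} [CommRing X] (p q : ULift.{u} ℤ →+* X), p = q := by
    intro X _ p q
    have h1 : p.comp (ULift.ringEquiv (R := ℤ)).symm.toRingHom =
        q.comp (ULift.ringEquiv (R := ℤ)).symm.toRingHom := RingHom.ext_int _ _
    ext x
    have hx : x = (ULift.ringEquiv (R := ℤ)).symm (ULift.ringEquiv x) :=
      (RingEquiv.symm_apply_apply _ x).symm
    rw [hx]
    exact RingHom.congr_fun h1 _
  haveI : IsNoetherianRing (ULift.{u} ℤ) :=
    isNoetherianRing_of_ringEquiv ℤ (ULift.ringEquiv (R := ℤ)).symm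
  let R : CommRingCat.{u} := CommRingCat.of (ULift.{u} ℤ)
  let can : ∀ X : CommRingCat.{u}, R ⟶ X := fun X =>
    CommRingCat.ofHom ((Int.castRingHom X).comp (ULift.ringEquiv (R := ℤ)).toRingHom)
  have hcan : ∀ {X : CommRingCat.{u}} (p q : R ⟶ X), p = q := by
    intro X p q
    ext1
    exact huniq _ _
  let α : (Functor.const I).obj R ⟶ D :=
    { app := fun i => can (D.obj i)
      naturality := fun i j φ => hcan _ _ }
  let S : CommRingCat.{u} := CommRingCat.of A₀
  let f : R ⟶ S := can S
  have hf : f.hom.FinitePresentation := by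
    rw [← RingHom.FinitePresentation.of_finiteType]
    have h1 : (Int.castRingHom A₀).FiniteType := by
      rw [← algebraMap_int_eq]
      exact RingHom.finiteType_algebraMap.mpr hft
    have h2 : ((ULift.ringEquiv (R := ℤ)).toRingHom : ULift.{u} ℤ →+* ℤ).FiniteType :=
      RingHom.FiniteType.of_surjective _ (ULift.ringEquiv (R := ℤ)).surjective
    exact h1.comp h2
  let g : S ⟶ c.pt := CommRingCat.ofHom A₀.val.toRingHom
  obtain ⟨i, g', hg'1, hg'2⟩ := RingHom.EssFiniteType.exists_eq_comp_ι_app_of_isColimit R D α f c hc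
    hf g (fun i => hcan _ _)
  letI : Algebra A₀ (D.obj i) := g'.hom.toAlgebra
  letI : Algebra (D.obj i) c.pt := (c.ι.app i).hom.toAlgebra
  haveI : IsScalarTower A₀ (D.obj i) c.pt := IsScalarTower.of_algebraMap_eq' (by
    have := congrArg CommRingCat.Hom.hom hg'2
    exact this)
  refine ⟨i, D.obj i ⊗[A₀] B₀, inferInstance, inferInstance, inferInstance, ⟨?_⟩⟩
  exact e.trans (Algebra.TensorProduct.cancelBaseChange A₀ (D.obj i) c.pt c.pt B₀).symm

end Groth.Agent.S9451
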