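import Groth.Statements.S9458
import Groth.Agent.Lib.Helper3HzTensor
import Groth.Agent.Lib.Helper3HenselLF
import Groth.Agent.S0505
import Mathlib

set_option autoImplicit false
universe u
open Hensel

namespace Groth.Agent.S9458

open IsLocalRing Groth.Agent.Lib.Helper3 Algebra.TensorProduct
open scoped TensorProduct

set_option maxHeartbeats 1000000 in

/-- Let R → S be of finite type and quasi-finite at a prime q lying over p, and let R_p^h, S_q^h be
henselizations of the local rings, S_q^h carrying the compatible R_p^h-algebra structure (the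
canonical local map R_p^h → S_q^h). Then S_q^h is finite over R_p^h. (The published statement also
identifies S_q^h with a localization of R_p^h ⊗_{R_p} S_q; this row states only that S_q^h is finite
over R_p^h.) -/
theorem result (R : Type u) [CommRing R] (S : Type u)
    [CommRing S] [Algebra R S] [Algebra.FiniteType R S] (p : Ideal R) [p.IsPrime] (q : Ideal S)
    [q.IsPrime] [q.LiesOver p] [Algebra.QuasiFiniteAt R q]
    (Rh : Type u) [CommRing Rh] [IsLocalRing Rh] [Algebra (Localization.AtPrime p) Rh]
    [IsLocalHom (algebraMap (Localization.AtPrime p) Rh)]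
    [Hensel.IsHenselization (Localization.AtPrime p) Rh]
    (Sh : Type u) [CommRing Sh] [IsLocalRing Sh] [Algebra (Localization.AtPrime q) Sh]
    [IsLocalHom (algebraMap (Localization.AtPrime q) Sh)]
    [Hensel.IsHenselization (Localization.AtPrime q) Sh]
    [Algebra (Localization.AtPrime p) (Localization.AtPrime q)]
    [IsScalarTower R (Localization.AtPrime p) (Localization.AtPrime q)]
    [Algebra Rh Sh] [Algebra (Localization.AtPrime p) Sh]
    [IsScalarTower (Localization.AtPrime p) Rh Sh]
    [IsScalarTower (Localization.AtPrime p) (Localization.AtPrime q) Sh] :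
    Module.Finite Rh Sh := by
  letI : Algebra R Rh :=
    ((algebraMap (Localization.AtPrime p) Rh).comp (algebraMap R (Localization.AtPrime p))).toAlgebra
  haveI : IsScalarTower R (Localization.AtPrime p) Rh := IsScalarTower.of_algebraMap_eq (fun _ => rfl)
  letI : Algebra S Sh :=
    ((algebraMap (Localization.AtPrime q) Sh).comp (algebraMap S (Localization.AtPrime q))).toAlgebra
  haveI : IsScalarTower S (Localization.AtPrime q) Sh := IsScalarTower.of_algebraMap_eq (fun _ => rfl)
  letI : Algebra R Sh := ((algebraMap S Sh).comp (algebraMap R S)).toAlgebra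
  haveI : IsScalarTower R S Sh := IsScalarTower.of_algebraMap_eq (fun _ => rfl)
  haveI : IsScalarTower R Rh Sh := by
    refine IsScalarTower.of_algebraMap_eq (fun r => ?_)
    show algebraMap (Localization.AtPrime q) Sh (algebraMap S (Localization.AtPrime q)
      (algebraMap R S r)) = algebraMap Rh Sh (algebraMap (Localization.AtPrime p) Rh
        (algebraMap R (Localization.AtPrime p) r))
    rw [← IsScalarTower.algebraMap_apply R S (Localization.AtPrime q),
      IsScalarTower.algebraMap_apply R (Localization.AtPrime p) (Localization.AtPrime q),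
      ← IsScalarTower.algebraMap_apply (Localization.AtPrime p) (Localization.AtPrime q) Sh,
      IsScalarTower.algebraMap_apply (Localization.AtPrime p) Rh Sh]
  haveI : IsLocalHom (algebraMap Rh Sh) := HzTensor.isLocalHom_algebraMap R p Rh S q Sh
  haveI hRh : HenselianLocalRing Rh :=
    Hensel.IsHenselization.henselian (R := Localization.AtPrime p)
  let L := Localization.AtPrime (HzTensor.Q R S Rh Sh)
  -- `Q` lies over the maximal ideal and over `q`
  haveI hQl : (HzTensor.Q R S Rh Sh).LiesOver (maximalIdeal Rh) := by
    constructor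
    ext a
    rw [Ideal.under_def, Ideal.mem_comap, HzTensor.Q, Ideal.mem_comap]
    have : HzTensor.phi R S Rh Sh (algebraMap Rh (Rh ⊗[R] S) a) = algebraMap Rh Sh a := by
      simp [HzTensor.phi]
    rw [this, mem_maximalIdeal, mem_maximalIdeal, mem_nonunits_iff, mem_nonunits_iff, not_iff_not]
    exact ⟨fun h => h.map _, fun h => isUnit_of_map_unit (algebraMap Rh Sh) a h⟩
  have hQq : q = (HzTensor.Q R S Rh Sh).comap
      (Algebra.TensorProduct.includeRight : S →ₐ[R] Rh ⊗[R] S).toRingHom := by
    rw [← HzTensor.comap_maximalIdeal S q Sh]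
    ext s
    rw [Ideal.mem_comap, Ideal.mem_comap, HzTensor.Q, Ideal.mem_comap]
    have : HzTensor.phi R S Rh Sh ((Algebra.TensorProduct.includeRight :
        S →ₐ[R] Rh ⊗[R] S).toRingHom s) = algebraMap S Sh s := by
      simp [HzTensor.phi]
    rw [this]
  haveI : Algebra.QuasiFiniteAt Rh (HzTensor.Q R S Rh Sh) :=
    Algebra.QuasiFiniteAt.baseChange q (HzTensor.Q R S Rh Sh) hQq
  haveI hLfin : Module.Finite Rh L :=
    Hensel.finite_localization_of_quasiFiniteAt (R := Rh) (HzTensor.Q R S Rh Sh)
  haveI : HenselianLocalRing L := Groth.Agent.S0505.result Rh L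
  -- universal property
  have huniv := HzTensor.universal (R := R) (S := S) (Ah := Rh) (Bh := Sh)
    (fun T _ _ u v hu h => HzTensor.UA_of_hz R p Rh T u v hu h)
    (fun T _ _ w hw => HzTensor.UB_of_hz S q Sh T w hw)
  obtain ⟨g, hg, -⟩ := huniv L (RingHom.id L) inferInstance
  haveI : IsLocalHom (HzTensor.phiL R S Rh Sh) := HzTensor.isLocalHom_phiL
  haveI hSh : HenselianLocalRing Sh :=
    Hensel.IsHenselization.henselian (R := Localization.AtPrime q)
  obtain ⟨g', -, huniq⟩ := huniv Sh (HzTensor.phiL R S Rh Sh) inferInstance
  have h1 : (HzTensor.phiL R S Rh Sh).comp g = RingHom.id Sh := by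
    rw [huniq ((HzTensor.phiL R S Rh Sh).comp g) (by
        show ((HzTensor.phiL R S Rh Sh).comp g).comp _ = _
        rw [RingHom.comp_assoc, hg, RingHom.comp_id]),
      huniq (RingHom.id Sh) (RingHom.id_comp _)]
  have hsurj : Function.Surjective (HzTensor.phiL R S Rh Sh) := fun y =>
    ⟨g y, RingHom.congr_fun h1 y⟩
  let ψ : L →ₗ[Rh] Sh :=
    { toFun := HzTensor.phiL R S Rh Sh
      map_add' := map_add _
      map_smul' := fun a x => by
        rw [Algebra.smul_def, map_mul, RingHom.id_apply, Algebra.smul_def]
        congr 1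
        rw [IsScalarTower.algebraMap_apply Rh (Rh ⊗[R] S) L, HzTensor.phiL_algebraMap]
        simp [HzTensor.phi] }
  exact Module.Finite.of_surjective ψ hsurj

end Groth.Agent.S9458
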