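import Groth.Statements.S9459
import Groth.Agent.Lib.Helper3HzTensor
import Groth.Agent.Lib.Helper3HzE
import Mathlib

set_option autoImplicit false
universe u
open Hensel

namespace Groth.Agent.S9459

open IsLocalRing Groth.Agent.Lib.Helper3

open TensorProduct in
/-- Let R → S be a ring map, q a prime of S over p, and R^h, S^h henselizations of R_p and S_q, S^h
carrying the compatible R^h-algebra structure (the canonical map R^h → S^h). Let φ : R^h ⊗_R S → S^h
be the induced map and Q the preimage under φ of the maximal ideal (a prime lying over the maximal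
ideal of R^h and over q). Then S^h is a henselization of the local ring (R^h ⊗_R S)_Q: for every
henselization E of (R^h ⊗_R S)_Q there is a ring isomorphism E ≅ S^h compatible with the two maps
from R^h ⊗_R S. -/
theorem result (R : Type u) [CommRing R] (S : Type u)
    [CommRing S] [Algebra R S] (p : Ideal R) [p.IsPrime] (q : Ideal S) [q.IsPrime] [q.LiesOver p]
    (Rh : Type u) [CommRing Rh] [IsLocalRing Rh] [Algebra (Localization.AtPrime p) Rh]
    [IsLocalHom (algebraMap (Localization.AtPrime p) Rh)]
    [Hensel.IsHenselization (Localization.AtPrime p) Rh] [Algebra R Rh]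
    [IsScalarTower R (Localization.AtPrime p) Rh]
    (Sh : Type u) [CommRing Sh] [IsLocalRing Sh] [Algebra (Localization.AtPrime q) Sh]
    [IsLocalHom (algebraMap (Localization.AtPrime q) Sh)]
    [Hensel.IsHenselization (Localization.AtPrime q) Sh] [Algebra S Sh]
    [IsScalarTower S (Localization.AtPrime q) Sh] [Algebra R Sh] [IsScalarTower R S Sh]
    [Algebra Rh Sh] [IsScalarTower R Rh Sh]
    (E : Type u) [CommRing E] [IsLocalRing E]
    [Algebra (Localization.AtPrime (Ideal.comap (Algebra.TensorProduct.lift (IsScalarTower.toAlgHom R Rh Sh) (IsScalarTower.toAlgHom R S Sh)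
          (fun _ _ => Commute.all _ _)) (IsLocalRing.maximalIdeal Sh))) E]
    [IsLocalHom (algebraMap (Localization.AtPrime
      (Ideal.comap (Algebra.TensorProduct.lift (IsScalarTower.toAlgHom R Rh Sh) (IsScalarTower.toAlgHom R S Sh)
          (fun _ _ => Commute.all _ _)) (IsLocalRing.maximalIdeal Sh))) E)]
    [Hensel.IsHenselization (Localization.AtPrime
      (Ideal.comap (Algebra.TensorProduct.lift (IsScalarTower.toAlgHom R Rh Sh) (IsScalarTower.toAlgHom R S Sh)
          (fun _ _ => Commute.all _ _)) (IsLocalRing.maximalIdeal Sh))) E] :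
    ∃ e : E ≃+* Sh, ∀ d : Rh ⊗[R] S,
      e (algebraMap (Localization.AtPrime
        (Ideal.comap (Algebra.TensorProduct.lift (IsScalarTower.toAlgHom R Rh Sh) (IsScalarTower.toAlgHom R S Sh)
          (fun _ _ => Commute.all _ _)) (IsLocalRing.maximalIdeal Sh))) E
        (algebraMap (Rh ⊗[R] S) _ d)) = (Algebra.TensorProduct.lift (IsScalarTower.toAlgHom R Rh Sh) (IsScalarTower.toAlgHom R S Sh)
          (fun _ _ => Commute.all _ _)) d := by
  haveI : IsLocalHom (algebraMap Rh Sh) := HzTensor.isLocalHom_algebraMap R p Rh S q Sh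
  let L := Localization.AtPrime (HzTensor.Q R S Rh Sh)
  letI : Algebra L Sh := (HzTensor.phiL R S Rh Sh).toAlgebra
  haveI : IsLocalHom (algebraMap L Sh) := HzTensor.isLocalHom_phiL
  haveI : Hensel.IsHenselization L Sh :=
    ⟨Hensel.IsHenselization.henselian (R := Localization.AtPrime q), fun T _ _ f hf =>
      HzTensor.universal (fun T _ _ u v hu h => HzTensor.UA_of_hz R p Rh T u v hu h)
        (fun T _ _ w hw => HzTensor.UB_of_hz S q Sh T w hw) T f hf⟩
  obtain ⟨e₁⟩ := Hz.nonempty_algEquiv (R := L) E
  obtain ⟨e₂⟩ := Hz.nonempty_algEquiv (R := L) Sh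
  refine ⟨(e₁.trans e₂.symm).toRingEquiv, fun d => ?_⟩
  show (e₁.trans e₂.symm) (algebraMap L E (algebraMap (Rh ⊗[R] S) L d)) = _
  rw [AlgEquiv.commutes]
  exact HzTensor.phiL_algebraMap d

end Groth.Agent.S9459
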