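import Groth.Statements.S9460
import Groth.Agent.Lib.Helper3ShTensor2
import Groth.Agent.Lib.Helper3ShG
import Mathlib

set_option autoImplicit false
universe u
open Hensel

namespace Groth.Agent.S9460

open IsLocalRing Groth.Agent.Lib.Helper3

open TensorProduct in
/-- Let R → S be a ring map, q a prime of S over p, and R^{sh}, S^{sh} strict henselizations of R_p and
S_q, S^{sh} carrying a compatible R^{sh}-algebra structure (a map R^{sh} → S^{sh} over R; these
correspond to the embeddings of separable closures in the published statement). Let φ : R^{sh} ⊗_R S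
→ S^{sh} be the induced map and Q the preimage under φ of the maximal ideal (a prime over the
maximal ideal of R^{sh} and over q). Then S^{sh} is a strict henselization of (R^{sh} ⊗_R S)_Q:
every strict henselization E of that local ring admits a ring isomorphism E ≅ S^{sh} compatible with
the two maps from R^{sh} ⊗_R S. -/
theorem result (R : Type u) [CommRing R]
    (S : Type u) [CommRing S] [Algebra R S] (p : Ideal R) [p.IsPrime] (q : Ideal S) [q.IsPrime]
    [q.LiesOver p]
    (Rh : Type u) [CommRing Rh] [IsLocalRing Rh] [Algebra (Localization.AtPrime p) Rh]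
    [IsLocalHom (algebraMap (Localization.AtPrime p) Rh)]
    [Hensel.IsStrictHenselization (Localization.AtPrime p) Rh] [Algebra R Rh]
    [IsScalarTower R (Localization.AtPrime p) Rh]
    (Sh : Type u) [CommRing Sh] [IsLocalRing Sh] [Algebra (Localization.AtPrime q) Sh]
    [IsLocalHom (algebraMap (Localization.AtPrime q) Sh)]
    [Hensel.IsStrictHenselization (Localization.AtPrime q) Sh] [Algebra S Sh]
    [IsScalarTower S (Localization.AtPrime q) Sh] [Algebra R Sh] [IsScalarTower R S Sh]
    [Algebra Rh Sh] [IsScalarTower R Rh Sh]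
    (E : Type u) [CommRing E] [IsLocalRing E]
    [Algebra (Localization.AtPrime (Ideal.comap (Algebra.TensorProduct.lift (IsScalarTower.toAlgHom R Rh Sh) (IsScalarTower.toAlgHom R S Sh)
          (fun _ _ => Commute.all _ _)) (IsLocalRing.maximalIdeal Sh))) E]
    [IsLocalHom (algebraMap (Localization.AtPrime
      (Ideal.comap (Algebra.TensorProduct.lift (IsScalarTower.toAlgHom R Rh Sh) (IsScalarTower.toAlgHom R S Sh)
          (fun _ _ => Commute.all _ _)) (IsLocalRing.maximalIdeal Sh))) E)]
    [Hensel.IsStrictHenselization (Localization.AtPrime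
      (Ideal.comap (Algebra.TensorProduct.lift (IsScalarTower.toAlgHom R Rh Sh) (IsScalarTower.toAlgHom R S Sh)
          (fun _ _ => Commute.all _ _)) (IsLocalRing.maximalIdeal Sh))) E] :
    ∃ e : E ≃+* Sh, ∀ d : Rh ⊗[R] S,
      e (algebraMap (Localization.AtPrime
        (Ideal.comap (Algebra.TensorProduct.lift (IsScalarTower.toAlgHom R Rh Sh) (IsScalarTower.toAlgHom R S Sh)
          (fun _ _ => Commute.all _ _)) (IsLocalRing.maximalIdeal Sh))) E
        (algebraMap (Rh ⊗[R] S) _ d)) = (Algebra.TensorProduct.lift (IsScalarTower.toAlgHom R Rh Sh) (IsScalarTower.toAlgHom R S Sh)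
          (fun _ _ => Commute.all _ _)) d := by
  haveI : IsLocalHom (algebraMap Rh Sh) := ShTensor2.isLocalHom_algebraMap R p Rh S q Sh
  let L := Localization.AtPrime (HzTensor.Q R S Rh Sh)
  letI : Algebra L Sh := (HzTensor.phiL R S Rh Sh).toAlgebra
  haveI : IsLocalHom (algebraMap L Sh) := HzTensor.isLocalHom_phiL
  haveI : Hensel.IsStrictHenselization L Sh := ShTensor2.isStrictHenselization R p Rh S q Sh
  let Ω := SeparableClosure (ResidueField L)
  letI : Algebra L Ω := ((algebraMap (ResidueField L) Ω).comp (residue L)).toAlgebra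
  haveI : IsScalarTower L (ResidueField L) Ω := IsScalarTower.of_algebraMap_eq (fun _ => rfl)
  obtain ⟨e₁⟩ := Groth.Agent.Lib.Helper3.Sh.nonempty_algEquiv (R := L) (Ω := Ω) E
  obtain ⟨e₂⟩ := Groth.Agent.Lib.Helper3.Sh.nonempty_algEquiv (R := L) (Ω := Ω) Sh
  refine ⟨(e₁.trans e₂.symm).toRingEquiv, fun d => ?_⟩
  show (e₁.trans e₂.symm) (algebraMap L E (algebraMap (Rh ⊗[R] S) L d)) = _
  rw [AlgEquiv.commutes]
  exact HzTensor.phiL_algebraMap d

end Groth.Agent.S9460
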