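import Groth.Statements.S9461
import Groth.Agent.Lib.Helper3ShTensor2
import Groth.Agent.Lib.Helper3HenselLF
import Groth.Agent.Lib.Helper3HenselK
import Groth.Agent.S0505
import Mathlib

set_option autoImplicit false
universe u
open Hensel

namespace Groth.Agent.S9461

open IsLocalRing Groth.Agent.Lib.Helper3 Algebra.TensorProduct
open scoped TensorProduct

set_option maxHeartbeats 1000000 in

/-- Let R → S be of finite type and quasi-finite at a prime q over p, and R^{sh}, S^{sh} strict
henselizations of R_p and S_q with a compatible local map R^{sh} → S^{sh} (over R). Then R^{sh} →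
S^{sh} is finite and its residue field extension is finite and purely inseparable. (The published
statement also identifies S^{sh} with a localization of R^{sh} ⊗_{R_p} S_q; this row states only the
finiteness and the residue-field assertions.) -/
theorem result (R : Type u) [CommRing R] (S : Type u)
    [CommRing S] [Algebra R S] [Algebra.FiniteType R S] (p : Ideal R) [p.IsPrime] (q : Ideal S)
    [q.IsPrime] [q.LiesOver p] [Algebra.QuasiFiniteAt R q]
    (Rh : Type u) [CommRing Rh] [IsLocalRing Rh] [Algebra (Localization.AtPrime p) Rh]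
    [IsLocalHom (algebraMap (Localization.AtPrime p) Rh)]
    [Hensel.IsStrictHenselization (Localization.AtPrime p) Rh] [Algebra R Rh]
    [IsScalarTower R (Localization.AtPrime p) Rh]
    (Sh : Type u) [CommRing Sh] [IsLocalRing Sh] [Algebra (Localization.AtPrime q) Sh]
    [IsLocalHom (algebraMap (Localization.AtPrime q) Sh)]
    [Hensel.IsStrictHenselization (Localization.AtPrime q) Sh] [Algebra S Sh]
    [IsScalarTower S (Localization.AtPrime q) Sh] [Algebra R Sh] [IsScalarTower R S Sh]
    [Algebra Rh Sh] [IsScalarTower R Rh Sh] [IsLocalHom (algebraMap Rh Sh)] :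
    Module.Finite Rh Sh ∧
      Module.Finite (IsLocalRing.ResidueField Rh) (IsLocalRing.ResidueField Sh) ∧
      IsPurelyInseparable (IsLocalRing.ResidueField Rh) (IsLocalRing.ResidueField Sh) := by
  haveI hRh : HenselianLocalRing Rh :=
    Hensel.IsStrictHenselization.henselian (R := Localization.AtPrime p)
  haveI hRhsep := Hensel.IsStrictHenselization.isSepClosure (R := Localization.AtPrime p) (S := Rh)
  haveI : IsSepClosed (ResidueField Rh) := hRhsep.sep_closed
  let L := Localization.AtPrime (HzTensor.Q R S Rh Sh)
  haveI hQl : (HzTensor.Q R S Rh Sh).LiesOver (maximalIdeal Rh) := by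
    constructor
    ext a
    rw [Ideal.under_def, Ideal.mem_comap, HzTensor.Q, Ideal.mem_comap]
    have : HzTensor.phi R S Rh Sh (algebraMap Rh (Rh ⊗[R] S) a) = algebraMap Rh Sh a := by
      simp [HzTensor.phi]
    rw [this, mem_maximalIdeal, mem_maximalIdeal, mem_nonunits_iff, mem_nonunits_iff, not_iff_not]
    exact ⟨fun h => h.map _, fun h => isUnit_of_map_unit (algebraMap Rh Sh) a h⟩
  have hQq : q = (HzTensor.Q R S Rh Sh).comap
      (Algebra.TensorProduct.includeRight : S →ₐ[R] Rh ⊗[R] S).toRingHom := by
    rw [← ShTensor2.comap_maximalIdeal' S q Sh]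
    ext s
    rw [Ideal.mem_comap, Ideal.mem_comap, HzTensor.Q, Ideal.mem_comap]
    have : HzTensor.phi R S Rh Sh ((Algebra.TensorProduct.includeRight :
        S →ₐ[R] Rh ⊗[R] S).toRingHom s) = algebraMap S Sh s := by
      simp [HzTensor.phi]
    rw [this]
  haveI : Algebra.QuasiFiniteAt Rh (HzTensor.Q R S Rh Sh) :=
    Algebra.QuasiFiniteAt.baseChange q (HzTensor.Q R S Rh Sh) hQq
  haveI hLfin : Module.Finite Rh L :=
    Hensel.finite_localization_of_quasiFiniteAt (R := Rh) (HzTensor.Q R S Rh Sh)
  haveI : HenselianLocalRing L := Groth.Agent.S0505.result Rh L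
  haveI : Algebra.IsIntegral Rh L := Algebra.IsIntegral.of_finite Rh L
  haveI : IsLocalHom (algebraMap Rh L) := Hensel.isLocalHom_of_finite
  haveI : IsSepClosed (ResidueField L) := by
    letI := (ResidueField.map (algebraMap Rh L)).toAlgebra
    haveI : Algebra.IsAlgebraic (ResidueField Rh) (ResidueField L) :=
      Groth.Agent.S1964.isAlgebraic_residueField
    exact Algebra.IsAlgebraic.isSepClosed (F := ResidueField Rh)
  letI : Algebra L Sh := (HzTensor.phiL R S Rh Sh).toAlgebra
  haveI : IsLocalHom (algebraMap L Sh) := HzTensor.isLocalHom_phiL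
  haveI hst : Hensel.IsStrictHenselization L Sh := ShTensor2.isStrictHenselization R p Rh S q Sh
  haveI hSh : HenselianLocalRing Sh := hst.henselian
  haveI : Algebra.IsSeparable (ResidueField L) (ResidueField Sh) := hst.isSepClosure.separable
  have hκbij : Function.Bijective (ResidueField.map (algebraMap L Sh)) :=
    IsSepClosed.algebraMap_bijective (ResidueField L) (ResidueField Sh)
  let κe : ResidueField L ≃+* ResidueField Sh := RingEquiv.ofBijective _ hκbij
  let τ : ResidueField Sh →+* ResidueField L := (κe.symm : ResidueField Sh →+* ResidueField L)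
  have hτ : τ.comp (ResidueField.map (algebraMap L Sh)) = ResidueField.map (RingHom.id L) := by
    rw [ResidueField.map_id]
    apply RingHom.ext
    intro x
    show κe.symm (κe x) = x
    rw [κe.symm_apply_apply]
  obtain ⟨g, ⟨hg1, hg2⟩, -⟩ := hst.universal L (RingHom.id L) τ hτ
  obtain ⟨g', -, huniq⟩ := hst.universal Sh (algebraMap L Sh) (RingHom.id _)
    (RingHom.id_comp _)
  have h1 : (algebraMap L Sh).comp g = RingHom.id Sh := by
    rw [huniq ((algebraMap L Sh).comp g) ⟨by rw [RingHom.comp_assoc, hg1, RingHom.comp_id],
        fun x => by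
          show residue Sh (algebraMap L Sh (g x)) = residue Sh x
          have : residue Sh (algebraMap L Sh (g x)) = κe (residue L (g x)) := rfl
          rw [this, hg2]
          show κe (κe.symm _) = _
          rw [κe.apply_symm_apply]⟩,
      huniq (RingHom.id Sh) ⟨RingHom.id_comp _, fun x => rfl⟩]
  have hsurj : Function.Surjective (HzTensor.phiL R S Rh Sh) := fun y =>
    ⟨g y, RingHom.congr_fun h1 y⟩
  let ψ : L →ₗ[Rh] Sh :=
    { toFun := HzTensor.phiL R S Rh Sh
      map_add' := map_add _
      map_smul' := fun a x => by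
        rw [Algebra.smul_def, map_mul, RingHom.id_apply, Algebra.smul_def]
        congr 1
        rw [IsScalarTower.algebraMap_apply Rh (Rh ⊗[R] S) L, HzTensor.phiL_algebraMap]
        simp [HzTensor.phi] }
  haveI hfin : Module.Finite Rh Sh := Module.Finite.of_surjective ψ hsurj
  haveI hfin2 : Module.Finite (ResidueField Rh) (ResidueField Sh) :=
    Module.Finite.of_restrictScalars_finite Rh (ResidueField Rh) (ResidueField Sh)
  exact ⟨hfin, hfin2, inferInstance⟩

end Groth.Agent.S9461
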