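import Groth.Statements.S9468
-- import your own Groth.Agent.* helpers here

set_option autoImplicit false
universe u
open Hensel

namespace Groth.Agent.S9468

/-- An `R`-algebra map `Φ : S →ₐ[R] κ(p)` has prime kernel lying over `p` with trivial residue
field extension. -/
theorem residueField_map_bijective_of_algHom (R : Type u) [CommRing R] (p : Ideal R) [p.IsPrime]
    (S : Type u) [CommRing S] [Algebra R S] (Φ : S →ₐ[R] p.ResidueField) :
    ∃ (_ : (RingHom.ker Φ.toRingHom).IsPrime)
      (hq : p = (RingHom.ker Φ.toRingHom).comap (algebraMap R S)),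
      Function.Bijective (Ideal.ResidueField.map p (RingHom.ker Φ.toRingHom) (algebraMap R S) hq) := by
  haveI hprime : (RingHom.ker Φ.toRingHom).IsPrime := RingHom.ker_isPrime _
  have hq : p = (RingHom.ker Φ.toRingHom).comap (algebraMap R S) := by
    ext x
    rw [Ideal.mem_comap, RingHom.mem_ker]
    change _ ↔ Φ (algebraMap R S x) = 0
    rw [Φ.commutes, Ideal.algebraMap_residueField_eq_zero]
  refine ⟨hprime, hq, RingHom.injective _, ?_⟩
  -- the lift `κ(q) → κ(p)` of `Φ`
  let ψ : (RingHom.ker Φ.toRingHom).ResidueField →+* p.ResidueField :=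
    Ideal.ResidueField.lift (RingHom.ker Φ.toRingHom) Φ.toRingHom le_rfl (by
      intro x hx
      rw [Submonoid.mem_comap, IsUnit.mem_submonoid_iff]
      exact IsUnit.mk0 _ (fun h0 => hx (RingHom.mem_ker.mpr h0)))
  have hcomp : ψ.comp (Ideal.ResidueField.map p (RingHom.ker Φ.toRingHom) (algebraMap R S) hq) =
      RingHom.id _ := by
    apply Ideal.ResidueField.ringHom_ext
    ext r
    simp only [RingHom.comp_apply, Ideal.ResidueField.map_algebraMap, RingHom.id_apply]
    rw [Ideal.ResidueField.lift_algebraMap]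
    exact Φ.commutes r
  intro y
  refine ⟨ψ y, ?_⟩
  apply ψ.injective
  exact congrFun (congrArg DFunLike.coe hcomp) (ψ y)

/-- Let R be a ring and p a prime of R. Consider pairs (S, q) with S an étale R-algebra and q a prime of
S lying over p such that κ(p) → κ(q) is bijective; a morphism of pairs is an R-algebra map pulling
the second prime back to the first. Then any two pairs admit morphisms of pairs to a common third
pair. -/
theorem result (R : Type u) [CommRing R]
    (p : Ideal R) [p.IsPrime] (S₁ : Type u) [CommRing S₁] [Algebra R S₁] [Algebra.Etale R S₁] (q₁ : Ideal S₁) [q₁.IsPrime] (hq₁ : p = q₁.comap (algebraMap R S₁))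
    (hq₁κ : Function.Bijective (Ideal.ResidueField.map p q₁ (algebraMap R S₁) hq₁))
    (S₂ : Type u) [CommRing S₂] [Algebra R S₂] [Algebra.Etale R S₂] (q₂ : Ideal S₂) [q₂.IsPrime] (hq₂ : p = q₂.comap (algebraMap R S₂))
    (hq₂κ : Function.Bijective (Ideal.ResidueField.map p q₂ (algebraMap R S₂) hq₂)) :
    ∃ (S₃ : Type u) (_ : CommRing S₃) (_ : Algebra R S₃) (_ : Algebra.Etale R S₃) (q₃ : Ideal S₃)
      (_ : q₃.IsPrime) (hq₃ : p = q₃.comap (algebraMap R S₃)),
      Function.Bijective (Ideal.ResidueField.map p q₃ (algebraMap R S₃) hq₃) ∧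
        ∃ (φ₁ : S₁ →ₐ[R] S₃) (φ₂ : S₂ →ₐ[R] S₃),
          q₃.comap φ₁.toRingHom = q₁ ∧ q₃.comap φ₂.toRingHom = q₂ := by
  classical
  -- the two `R`-algebra maps `S_i → κ(p)`
  let e₁ := RingEquiv.ofBijective _ hq₁κ
  let e₂ := RingEquiv.ofBijective _ hq₂κ
  let ρ₁ : S₁ →ₐ[R] p.ResidueField :=
    { toRingHom := (e₁.symm : q₁.ResidueField →+* p.ResidueField).comp
        (algebraMap S₁ q₁.ResidueField)
      commutes' := fun r => by
        change e₁.symm (algebraMap S₁ q₁.ResidueField (algebraMap R S₁ r)) = _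
        rw [RingEquiv.symm_apply_eq]
        change _ = Ideal.ResidueField.map p q₁ (algebraMap R S₁) hq₁ (algebraMap R _ r)
        rw [Ideal.ResidueField.map_algebraMap] }
  let ρ₂ : S₂ →ₐ[R] p.ResidueField :=
    { toRingHom := (e₂.symm : q₂.ResidueField →+* p.ResidueField).comp
        (algebraMap S₂ q₂.ResidueField)
      commutes' := fun r => by
        change e₂.symm (algebraMap S₂ q₂.ResidueField (algebraMap R S₂ r)) = _
        rw [RingEquiv.symm_apply_eq]
        change _ = Ideal.ResidueField.map p q₂ (algebraMap R S₂) hq₂ (algebraMap R _ r)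
        rw [Ideal.ResidueField.map_algebraMap] }
  have hρ₁ : ∀ x, ρ₁ x = 0 ↔ x ∈ q₁ := by
    intro x
    change e₁.symm (algebraMap S₁ q₁.ResidueField x) = 0 ↔ _
    rw [map_eq_zero_iff _ e₁.symm.injective, Ideal.algebraMap_residueField_eq_zero]
  have hρ₂ : ∀ x, ρ₂ x = 0 ↔ x ∈ q₂ := by
    intro x
    change e₂.symm (algebraMap S₂ q₂.ResidueField x) = 0 ↔ _
    rw [map_eq_zero_iff _ e₂.symm.injective, Ideal.algebraMap_residueField_eq_zero]
  let Φ : TensorProduct R S₁ S₂ →ₐ[R] p.ResidueField :=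
    Algebra.TensorProduct.lift ρ₁ ρ₂ (fun _ _ => Commute.all _ _)
  haveI : Algebra.Etale R (TensorProduct R S₁ S₂) :=
    Algebra.Etale.comp R S₁ (TensorProduct R S₁ S₂)
  obtain ⟨hprime, hq₃, hbij⟩ :=
    residueField_map_bijective_of_algHom R p (TensorProduct R S₁ S₂) Φ
  refine ⟨TensorProduct R S₁ S₂, inferInstance, inferInstance, inferInstance,
    RingHom.ker Φ.toRingHom, hprime, hq₃, hbij,
    Algebra.TensorProduct.includeLeft, Algebra.TensorProduct.includeRight, ?_, ?_⟩
  · ext x
    rw [Ideal.mem_comap, RingHom.mem_ker, ← hρ₁]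
    change Φ (x ⊗ₜ 1) = 0 ↔ _
    simp [Φ]
  · ext x
    rw [Ideal.mem_comap, RingHom.mem_ker, ← hρ₂]
    change Φ (1 ⊗ₜ x) = 0 ↔ _
    simp [Φ]

end Groth.Agent.S9468
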