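import Groth.Statements.S9469
import Groth.Agent.S9468
import Mathlib.RingTheory.Unramified.Basic
import Mathlib.RingTheory.Kaehler.Basic

set_option autoImplicit false
universe u
open Hensel

namespace Groth.Agent.S9469

/-- Two `R`-algebra maps `S → κ(p)` with the same kernel `q` are equal when `κ(p) → κ(q)` is
bijective. -/
theorem algHom_residueField_ext (R : Type u) [CommRing R] (p : Ideal R) [p.IsPrime]
    (S : Type u) [CommRing S] [Algebra R S] (q : Ideal S) [q.IsPrime]
    (hq : p = q.comap (algebraMap R S))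
    (hqκ : Function.Bijective (Ideal.ResidueField.map p q (algebraMap R S) hq))
    (α β : S →ₐ[R] p.ResidueField) (hα : RingHom.ker α.toRingHom = q)
    (hβ : RingHom.ker β.toRingHom = q) : α = β := by
  have key : ∀ (γ : S →ₐ[R] p.ResidueField) (hγ : RingHom.ker γ.toRingHom = q) (x : S),
      Ideal.ResidueField.map p q (algebraMap R S) hq (γ x) = algebraMap S q.ResidueField x := by
    intro γ hγ x
    let γ' : q.ResidueField →+* p.ResidueField :=
      Ideal.ResidueField.lift q γ.toRingHom hγ.ge (by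
        intro y hy
        rw [Submonoid.mem_comap, IsUnit.mem_submonoid_iff]
        exact IsUnit.mk0 _ (fun h0 => hy (hγ ▸ RingHom.mem_ker.mpr h0)))
    have hcomp : γ'.comp (Ideal.ResidueField.map p q (algebraMap R S) hq) = RingHom.id _ := by
      apply Ideal.ResidueField.ringHom_ext
      ext r
      simp only [RingHom.comp_apply, Ideal.ResidueField.map_algebraMap, RingHom.id_apply]
      rw [Ideal.ResidueField.lift_algebraMap]
      exact γ.commutes r
    obtain ⟨z, hz⟩ := hqκ.2 (algebraMap S q.ResidueField x)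
    have h1 : γ' (algebraMap S q.ResidueField x) = γ x :=
      Ideal.ResidueField.lift_algebraMap _ _ _ _ x
    have h2 : γ' (Ideal.ResidueField.map p q (algebraMap R S) hq z) = z :=
      congrFun (congrArg DFunLike.coe hcomp) z
    rw [← h1, ← hz, h2]
  ext x
  apply hqκ.1
  rw [key α hα, key β hβ]

/-- Let R be a ring and p a prime of R. Consider pairs (S, q) with S an étale R-algebra and q a prime of
S lying over p such that κ(p) → κ(q) is bijective; a morphism of pairs is an R-algebra map pulling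
the second prime back to the first. Then any two parallel morphisms of pairs φ, ψ : (S₁, q₁) → (S₂,
q₂) are coequalized by a morphism of pairs (S₂, q₂) → (S₃, q₃). -/
theorem result (R : Type u) [CommRing R]
    (p : Ideal R) [p.IsPrime] (S₁ : Type u) [CommRing S₁] [Algebra R S₁] [Algebra.Etale R S₁] (q₁ : Ideal S₁) [q₁.IsPrime] (hq₁ : p = q₁.comap (algebraMap R S₁))
    (hq₁κ : Function.Bijective (Ideal.ResidueField.map p q₁ (algebraMap R S₁) hq₁))
    (S₂ : Type u) [CommRing S₂] [Algebra R S₂] [Algebra.Etale R S₂] (q₂ : Ideal S₂) [q₂.IsPrime] (hq₂ : p = q₂.comap (algebraMap R S₂))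
    (hq₂κ : Function.Bijective (Ideal.ResidueField.map p q₂ (algebraMap R S₂) hq₂))
    (φ ψ : S₁ →ₐ[R] S₂) (hφ : q₂.comap φ.toRingHom = q₁) (hψ : q₂.comap ψ.toRingHom = q₁) :
    ∃ (S₃ : Type u) (_ : CommRing S₃) (_ : Algebra R S₃) (_ : Algebra.Etale R S₃) (q₃ : Ideal S₃)
      (_ : q₃.IsPrime) (hq₃ : p = q₃.comap (algebraMap R S₃)),
      Function.Bijective (Ideal.ResidueField.map p q₃ (algebraMap R S₃) hq₃) ∧
        ∃ χ : S₂ →ₐ[R] S₃, q₃.comap χ.toRingHom = q₂ ∧ χ.comp φ = χ.comp ψ := by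
  classical
  -- the `R`-algebra map `ρ₂ : S₂ → κ(p)` with kernel `q₂`
  let e₂ := RingEquiv.ofBijective _ hq₂κ
  let ρ₂ : S₂ →ₐ[R] p.ResidueField :=
    { toRingHom := (e₂.symm : q₂.ResidueField →+* p.ResidueField).comp
        (algebraMap S₂ q₂.ResidueField)
      commutes' := fun r => by
        change e₂.symm (algebraMap S₂ q₂.ResidueField (algebraMap R S₂ r)) = _
        rw [RingEquiv.symm_apply_eq]
        change _ = Ideal.ResidueField.map p q₂ (algebraMap R S₂) hq₂ (algebraMap R _ r)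
        rw [Ideal.ResidueField.map_algebraMap] }
  have hρ₂ : ∀ x, ρ₂ x = 0 ↔ x ∈ q₂ := by
    intro x
    change e₂.symm (algebraMap S₂ q₂.ResidueField x) = 0 ↔ _
    rw [map_eq_zero_iff _ e₂.symm.injective, Ideal.algebraMap_residueField_eq_zero]
  have hkerρ₂ : RingHom.ker ρ₂.toRingHom = q₂ := by
    ext x; rw [RingHom.mem_ker]; exact hρ₂ x
  -- `ρ₂ ∘ φ = ρ₂ ∘ ψ`
  have hρφψ : ρ₂.comp φ = ρ₂.comp ψ := by
    apply algHom_residueField_ext R p S₁ q₁ hq₁ hq₁κ
    · ext x
      rw [RingHom.mem_ker, ← hφ, Ideal.mem_comap]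
      exact hρ₂ (φ x)
    · ext x
      rw [RingHom.mem_ker, ← hψ, Ideal.mem_comap]
      exact hρ₂ (ψ x)
  -- the idempotent generating the diagonal ideal
  obtain ⟨e, he, hsp⟩ : ∃ e, IsIdempotentElem e ∧
      KaehlerDifferential.ideal R S₁ = Ideal.span {e} :=
    (Ideal.isIdempotentElem_iff_of_fg _ (KaehlerDifferential.ideal_fg R S₁)).mp <|
      (Ideal.cotangent_subsingleton_iff _).mp <| inferInstanceAs <| Subsingleton Ω[S₁⁄R]
  let Θ : TensorProduct R S₁ S₁ →ₐ[R] S₂ :=
    Algebra.TensorProduct.lift φ ψ (fun _ _ => Commute.all _ _)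
  let e' : S₂ := Θ e
  have he' : IsIdempotentElem e' := he.map Θ
  -- `ρ₂ e' = 0`
  have hρe' : ρ₂ e' = 0 := by
    have h1 : (ρ₂.comp Θ) = (ρ₂.comp φ).comp (Algebra.TensorProduct.lmul' R) := by
      apply Algebra.TensorProduct.ext'
      intro a b
      simp only [AlgHom.comp_apply, Θ, Algebra.TensorProduct.lift_tmul,
        Algebra.TensorProduct.lmul'_apply_tmul, map_mul]
      congr 1
      exact (AlgHom.congr_fun hρφψ b).symm
    have h2 : e ∈ KaehlerDifferential.ideal R S₁ := hsp ▸ Ideal.mem_span_singleton_self e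
    have h3 : Algebra.TensorProduct.lmul' R e = 0 := h2
    have := AlgHom.congr_fun h1 e
    simp only [AlgHom.comp_apply, h3, map_zero] at this
    exact this
  -- `φ x - ψ x` is a multiple of `e'`
  have hdiff : ∀ x : S₁, ∃ c : S₂, φ x - ψ x = c * e' := by
    intro x
    have h1 : (x ⊗ₜ[R] (1 : S₁) - (1 : S₁) ⊗ₜ[R] x) ∈ KaehlerDifferential.ideal R S₁ := by
      have := KaehlerDifferential.one_smul_sub_smul_one_mem_ideal R x
      rw [← Ideal.neg_mem_iff] at this
      simpa using this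
    rw [hsp, Ideal.mem_span_singleton'] at h1
    obtain ⟨t, ht⟩ := h1
    refine ⟨Θ t, ?_⟩
    have := congrArg Θ ht
    simp only [map_mul, map_sub, Θ, Algebra.TensorProduct.lift_tmul, map_one, mul_one,
      one_mul] at this
    exact this.symm
  -- the third pair
  let S₃ := Localization.Away (1 - e')
  haveI : Algebra.Etale R S₃ := Algebra.Etale.comp R S₂ S₃
  let χ : S₂ →ₐ[R] S₃ := IsScalarTower.toAlgHom R S₂ S₃
  have hχe' : χ e' = 0 := by
    have hu : IsUnit (χ (1 - e')) := IsLocalization.Away.algebraMap_isUnit (1 - e')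
    have h0 : χ e' * χ (1 - e') = 0 := by
      rw [← map_mul, mul_sub, mul_one, he'.eq, sub_self, map_zero]
    exact (hu.mul_left_eq_zero).mp h0
  have hunit : ∀ y : Submonoid.powers (1 - e'), IsUnit (ρ₂ y) := by
    rintro ⟨_, n, rfl⟩
    simp only [map_pow, map_sub, map_one, hρe', sub_zero, one_pow, isUnit_one]
  let Φ₃ : S₃ →ₐ[R] p.ResidueField := IsLocalization.liftAlgHom (M := Submonoid.powers (1 - e'))
    (f := ρ₂) hunit
  have hΦ₃χ : ∀ x, Φ₃ (χ x) = ρ₂ x := fun x => IsLocalization.lift_eq _ x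
  obtain ⟨hprime, hq₃, hbij⟩ :=
    Groth.Agent.S9468.residueField_map_bijective_of_algHom R p S₃ Φ₃
  refine ⟨S₃, inferInstance, inferInstance, inferInstance, RingHom.ker Φ₃.toRingHom, hprime, hq₃,
    hbij, χ, ?_, ?_⟩
  · ext x
    rw [Ideal.mem_comap, RingHom.mem_ker, ← hρ₂]
    change Φ₃ (χ x) = 0 ↔ _
    rw [hΦ₃χ]
  · ext x
    obtain ⟨c, hc⟩ := hdiff x
    have : χ (φ x - ψ x) = 0 := by rw [hc, map_mul, hχe', mul_zero]
    rw [map_sub, sub_eq_zero] at this
    exact this

end Groth.Agent.S9469
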