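import Groth.Statements.S9470
import Groth.Agent.Lib.Helper3IndEtField
import Groth.Agent.Lib.Helper3IndEtHz
import Groth.Agent.Lib.Helper3IndEtComp
import Groth.Agent.Lib.Helper3IndEtFP
import Groth.Agent.Lib.Helper3HenselA
import Mathlib

set_option autoImplicit false
universe u
open Hensel

namespace Groth.Agent.S9470

open scoped TensorProduct
open Groth.Agent.Lib.Helper3 Groth.Agent.Lib.Helper3.IndEt IsLocalRing

/-- every element of a henselization is congruent to an element of the base modulo the maximal ideal -/
theorem hz_exists_sub_mem (A S : Type u) [CommRing A] [IsLocalRing A] [CommRing S] [IsLocalRing S]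
    [Algebra A S] [IsLocalHom (algebraMap A S)] [Hensel.IsHenselization A S] (s : S) :
    ∃ a : A, s - algebraMap A S a ∈ maximalIdeal S := by
  obtain ⟨e⟩ := Hz.nonempty_algEquiv (R := A) S
  obtain ⟨a, ha⟩ := Hz.exists_sub_mem_maximalIdeal (e s)
  refine ⟨a, ?_⟩
  by_contra hcon
  have hu : IsUnit (s - algebraMap A S a) := by
    by_contra h
    exact hcon ((mem_maximalIdeal _).mpr h)
  have hu2 : IsUnit (e (s - algebraMap A S a)) := hu.map e
  rw [map_sub, AlgEquiv.commutes] at hu2
  exact ((mem_maximalIdeal _).mp ha) hu2

/-- localization is ind-étale -/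
theorem factor_localization (R : Type u) [CommRing R] (M : Submonoid R) (L : Type u) [CommRing L]
    [Algebra R L] [IsLocalization M L] : Obj.Factor R L := by
  intro P _ _ _ ψ
  obtain ⟨s, ψs, hψs⟩ := exists_factor_localization (R := R) (C := R) (L := L) M ψ
  exact ⟨Localization.Away (s : R), inferInstance, inferInstance, inferInstance, ψs,
    awayTo M s, hψs⟩

section pairs

variable (R : Type u) [CommRing R]
    (p : Ideal R) [p.IsPrime] (Rh : Type u) [CommRing Rh] [IsLocalRing Rh]
    [Algebra (Localization.AtPrime p) Rh] [IsLocalHom (algebraMap (Localization.AtPrime p) Rh)]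
    [Hensel.IsHenselization (Localization.AtPrime p) Rh] [Algebra R Rh]
    [IsScalarTower R (Localization.AtPrime p) Rh]

include p in
theorem factor_Rh : Obj.Factor R Rh := by
  have h1 : EtPBC.IsIndEtale R (Localization.AtPrime p) :=
    isIndEtale_of_factor (factor_localization R p.primeCompl _)
  have h2 : EtPBC.IsIndEtale (Localization.AtPrime p) Rh := isIndEtale_of_isHenselization _ Rh
  exact factor_of_isIndEtale (isIndEtale_comp R (Localization.AtPrime p) Rh h1 h2)

theorem comap_maximalIdeal_Rh : (maximalIdeal Rh).comap (algebraMap R Rh) = p := by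
  rw [IsScalarTower.algebraMap_eq R (Localization.AtPrime p) Rh, ← Ideal.comap_comap,
    ((local_hom_TFAE (algebraMap (Localization.AtPrime p) Rh)).out 0 4 rfl rfl).mp inferInstance]
  exact IsLocalization.AtPrime.under_maximalIdeal (Localization.AtPrime p) p

/-- the canonical map `κ(p) → κ(Rh)` -/
noncomputable def σ : p.ResidueField →+* ResidueField Rh :=
  Ideal.ResidueField.lift p (algebraMap R (ResidueField Rh))
    (fun r hr => by
      rw [RingHom.mem_ker, IsScalarTower.algebraMap_apply R Rh (ResidueField Rh),
        ResidueField.algebraMap_eq, residue_eq_zero_iff]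
      rw [← comap_maximalIdeal_Rh R p Rh] at hr
      exact hr)
    (fun r hr => by
      show IsUnit (algebraMap R (ResidueField Rh) r)
      rw [IsScalarTower.algebraMap_apply R Rh (ResidueField Rh)]
      refine IsUnit.map _ ?_
      by_contra h
      apply hr
      rw [← comap_maximalIdeal_Rh R p Rh]
      exact (mem_maximalIdeal _).mpr h)

theorem σ_surjective : Function.Surjective (σ R p Rh) := by
  intro y
  obtain ⟨s, rfl⟩ := residue_surjective y
  obtain ⟨a, ha⟩ := hz_exists_sub_mem (Localization.AtPrime p) Rh s
  obtain ⟨r, t, rfl⟩ := IsLocalization.exists_mk'_eq p.primeCompl a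
  refine ⟨algebraMap R _ r / algebraMap R _ (t : R), ?_⟩
  rw [map_div₀, σ, Ideal.ResidueField.lift_algebraMap, Ideal.ResidueField.lift_algebraMap]
  rw [← residue_eq_zero_iff, map_sub, sub_eq_zero] at ha
  rw [ha]
  have ht : algebraMap R (ResidueField Rh) (t : R) ≠ 0 := by
    rw [IsScalarTower.algebraMap_apply R Rh (ResidueField Rh), ResidueField.algebraMap_eq, ne_eq,
      residue_eq_zero_iff]
    intro h
    have : (t : R) ∈ (maximalIdeal Rh).comap (algebraMap R Rh) := h
    rw [comap_maximalIdeal_Rh R p Rh] at this
    exact t.2 this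
  rw [div_eq_iff ht, IsScalarTower.algebraMap_apply R Rh (ResidueField Rh),
    IsScalarTower.algebraMap_apply R Rh (ResidueField Rh), ResidueField.algebraMap_eq, ← map_mul,
    IsScalarTower.algebraMap_apply R (Localization.AtPrime p) Rh,
    IsScalarTower.algebraMap_apply R (Localization.AtPrime p) Rh, ← map_mul,
    IsLocalization.mk'_spec]

variable {R p Rh}

section onepair

variable {E : Type u} [CommRing E] [Algebra R E] (q : Ideal E) [q.IsPrime] (g : E →ₐ[R] Rh)
  (hg : (maximalIdeal Rh).comap g.toRingHom = q)

include hg in
theorem under_eq : p = q.comap (algebraMap R E) := by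
  rw [← hg, Ideal.comap_comap, AlgHom.toRingHom_eq_coe, AlgHom.comp_algebraMap,
    comap_maximalIdeal_Rh R p Rh]

/-- the induced map `κ(q) → κ(Rh)` -/
noncomputable def ρ : q.ResidueField →+* ResidueField Rh :=
  Ideal.ResidueField.lift q ((residue Rh).comp g.toRingHom)
    (fun x hx => by
      rw [RingHom.mem_ker, RingHom.comp_apply, residue_eq_zero_iff]
      rw [← hg] at hx
      exact hx)
    (fun x hx => by
      show IsUnit ((residue Rh).comp g.toRingHom x)
      rw [RingHom.comp_apply]
      refine IsUnit.map _ ?_
      by_contra h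
      apply hx
      rw [← hg]
      exact (mem_maximalIdeal _).mpr h)

theorem ρ_comp_map (hq : p = q.comap (algebraMap R E)) :
    (ρ q g hg).comp (Ideal.ResidueField.map p q (algebraMap R E) hq) = σ R p Rh := by
  apply Ideal.ResidueField.ringHom_ext
  ext r
  simp only [RingHom.comp_apply]
  rw [Ideal.ResidueField.map_algebraMap, ρ, σ, Ideal.ResidueField.lift_algebraMap,
    Ideal.ResidueField.lift_algebraMap, RingHom.comp_apply,
    IsScalarTower.algebraMap_apply R Rh (ResidueField Rh), ResidueField.algebraMap_eq]
  congr 1
  exact g.commutes r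

include g hg in
theorem map_bijective (hq : p = q.comap (algebraMap R E)) :
    Function.Bijective (Ideal.ResidueField.map p q (algebraMap R E) hq) := by
  refine ⟨RingHom.injective _, fun y => ?_⟩
  obtain ⟨x, hx⟩ := σ_surjective R p Rh (ρ q g hg y)
  refine ⟨x, ?_⟩
  apply (ρ q g hg).injective
  rw [← hx, ← ρ_comp_map q g hg hq]
  rfl

end onepair

end pairs

/-- Let R be a ring, p a prime of R and R^h a henselization of the local ring R_p, regarded as an
R-algebra through R_p. For pairs (S, q) with S an étale R-algebra and q a prime of S over p such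
that κ(p) → κ(q) is bijective: (a) there is exactly one R-algebra map f : S → R^h under which the
maximal ideal pulls back to q; (b) every element of R^h is f(s) for some such pair, map f and s ∈ S;
(c) if such an f sends s to 0, then some R-algebra map S → S' to another such pair (S', q'), pulling
q' back to q, already sends s to 0. Together with filteredness of the category of pairs this
expresses that R^h is canonically the colimit of S over all pairs (S, q). (The published statement
also records the equal colimit of the local rings S_q.) -/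
theorem result (R : Type u) [CommRing R]
    (p : Ideal R) [p.IsPrime] (Rh : Type u) [CommRing Rh] [IsLocalRing Rh]
    [Algebra (Localization.AtPrime p) Rh] [IsLocalHom (algebraMap (Localization.AtPrime p) Rh)]
    [Hensel.IsHenselization (Localization.AtPrime p) Rh] [Algebra R Rh]
    [IsScalarTower R (Localization.AtPrime p) Rh] :
    (∀ (S : Type u) [CommRing S] [Algebra R S] [Algebra.Etale R S] (q : Ideal S) [q.IsPrime]
        (hq : p = q.comap (algebraMap R S)),
        Function.Bijective (Ideal.ResidueField.map p q (algebraMap R S) hq) →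
          ∃! f : S →ₐ[R] Rh, (IsLocalRing.maximalIdeal Rh).comap f.toRingHom = q) ∧
    (∀ x : Rh, ∃ (S : Type u) (_ : CommRing S) (_ : Algebra R S) (_ : Algebra.Etale R S) (q : Ideal S)
        (_ : q.IsPrime) (hq : p = q.comap (algebraMap R S)),
        Function.Bijective (Ideal.ResidueField.map p q (algebraMap R S) hq) ∧
          ∃ (f : S →ₐ[R] Rh) (s : S), (IsLocalRing.maximalIdeal Rh).comap f.toRingHom = q ∧ f s = x) ∧
    (∀ (S : Type u) [CommRing S] [Algebra R S] [Algebra.Etale R S] (q : Ideal S) [q.IsPrime]
        (hq : p = q.comap (algebraMap R S)),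
        Function.Bijective (Ideal.ResidueField.map p q (algebraMap R S) hq) →
          ∀ (f : S →ₐ[R] Rh), (IsLocalRing.maximalIdeal Rh).comap f.toRingHom = q → ∀ s : S, f s = 0 →
            ∃ (S' : Type u) (_ : CommRing S') (_ : Algebra R S') (_ : Algebra.Etale R S') (q' : Ideal S')
              (_ : q'.IsPrime) (hq' : p = q'.comap (algebraMap R S')),
              Function.Bijective (Ideal.ResidueField.map p q' (algebraMap R S') hq') ∧
                ∃ φ : S →ₐ[R] S', q'.comap φ.toRingHom = q ∧ φ s = 0) := by
  have H : Obj.Factor R Rh := factor_Rh R p Rh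
  haveI : HenselianLocalRing Rh := Hensel.IsHenselization.henselian (R := Localization.AtPrime p)
  refine ⟨?_, ?_, ?_⟩
  · intro S _ _ _ q _ hq hbij
    let eq : p.ResidueField ≃+* q.ResidueField := RingEquiv.ofBijective _ hbij
    let τ0 : q.ResidueField →+* ResidueField Rh := (σ R p Rh).comp eq.symm.toRingHom
    let τ : q.ResidueField →ₐ[R] ResidueField Rh :=
      { τ0 with
        commutes' := fun r => by
          show σ R p Rh (eq.symm (algebraMap R q.ResidueField r)) = _
          have : eq (algebraMap R p.ResidueField r) = algebraMap R q.ResidueField r := by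
            exact (RingEquiv.ofBijective_apply _ hbij _).trans
              (Ideal.ResidueField.map_algebraMap p q (algebraMap R S) hq r)
          rw [← this, RingEquiv.symm_apply_apply, σ, Ideal.ResidueField.lift_algebraMap] }
    obtain ⟨f, hf, huniq⟩ := Groth.Agent.Lib.Helper3.Hensel.existsUnique_algHom_of_etale (R := R) (S := Rh) q τ
    refine ⟨f, Groth.Agent.Lib.Helper3.Hensel.comap_eq_of_residue q τ.toRingHom f hf, ?_⟩
    intro f' hf'
    apply huniq
    intro a
    have h1 := ρ_comp_map q f' hf' hq
    have h2 : ρ q f' hf' = τ0 := by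
      refine RingHom.ext fun y => ?_
      obtain ⟨x, rfl⟩ := eq.surjective y
      show ρ q f' hf' (eq x) = σ R p Rh (eq.symm (eq x))
      rw [RingEquiv.symm_apply_apply, ← h1]
      rfl
    show residue Rh (f' a) = τ0 (algebraMap S q.ResidueField a)
    rw [← h2, ρ, Ideal.ResidueField.lift_algebraMap]
    rfl
  · intro x
    obtain ⟨E, _, _, _, g, e, rfl⟩ := exists_etale_of_factor H x
    haveI : ((maximalIdeal Rh).comap g.toRingHom).IsPrime := Ideal.comap_isPrime _ _
    refine ⟨E, inferInstance, inferInstance, inferInstance, (maximalIdeal Rh).comap g.toRingHom,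
      inferInstance, under_eq _ g rfl, map_bijective _ g rfl _, g, e, rfl, rfl⟩
  · intro S _ _ _ q _ hq hbij f hf s hfs
    let I : Ideal S := Ideal.span {s}
    haveI : Algebra.FinitePresentation R (S ⧸ I) :=
      Algebra.FinitePresentation.quotient (Submodule.fg_span (Set.finite_singleton _))
    have hker : ∀ a ∈ I, f a = 0 := fun a ha => by
      obtain ⟨z, rfl⟩ := Ideal.mem_span_singleton'.mp ha
      rw [map_mul, hfs, mul_zero]
    let fbar : (S ⧸ I) →ₐ[R] Rh := Ideal.Quotient.liftₐ I f hker
    obtain ⟨E, _, _, _, u, v, huv⟩ := H _ fbar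
    let φ : S →ₐ[R] E := u.comp (Ideal.Quotient.mkₐ R I)
    have hvφ : v.comp φ = f := by
      rw [← AlgHom.comp_assoc, huv]
      ext a
      rfl
    haveI : ((maximalIdeal Rh).comap v.toRingHom).IsPrime := Ideal.comap_isPrime _ _
    refine ⟨E, inferInstance, inferInstance, inferInstance, (maximalIdeal Rh).comap v.toRingHom,
      inferInstance, under_eq _ v rfl, map_bijective _ v rfl _, φ, ?_, ?_⟩
    · rw [Ideal.comap_comap, ← hf, ← hvφ]
      rfl
    · show u (Ideal.Quotient.mk I s) = 0
      have h0 : Ideal.Quotient.mk I s = 0 :=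
        Ideal.Quotient.eq_zero_iff_mem.mpr (Ideal.subset_span (Set.mem_singleton s))
      rw [h0, map_zero]

end Groth.Agent.S9470
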