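import Groth.Statements.S9472
import Groth.Agent.Lib.Helper4DiffOpUnram

set_option autoImplicit false
universe u
open Diff16

namespace Groth.Agent.S9472

open TensorProduct in
/-- Let R → S → S' be ring maps with S → S' formally étale, M an S-module and (P, D_u) a module of
principal parts of order k of M relative to R → S, i.e. D_u : M → P is a differential operator of
order at most k through which every differential operator of order at most k from M to an S-module
factors by a unique S-linear map. If D_u' : S' ⊗_S M → S' ⊗_S P is a differential operator of order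
at most k relative to R → S' with D_u'(1 ⊗ m) = 1 ⊗ D_u(m), then (S' ⊗_S P, D_u') is a module of
principal parts of order k of S' ⊗_S M relative to R → S'. (The published statement writes this as
an identification of S' ⊗_S P^k_{S/R}(M) with P^k_{S'/R}(M') and forms M' by base change over R
rather than over S; with base change over R the identification fails already for k = 0, R the
rationals, S = S' a polynomial ring in one variable and M = S, and the published proof computes with
the base change over S, used here. Target modules are taken in one universe.) -/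
theorem result (R S S' : Type u) [CommRing R]
    [CommRing S] [CommRing S'] [Algebra R S] [Algebra R S'] [Algebra S S'] [IsScalarTower R S S']
    [Algebra.FormallyEtale S S'] (M : Type u) [AddCommGroup M] [Module S M] [Module R M]
    [IsScalarTower R S M] (k : ℕ) (P : Type u) [AddCommGroup P] [Module S P] [Module R P]
    [IsScalarTower R S P] (Du : M →ₗ[R] P) (hDu : Diff16.IsDiffOpLE R S M P k Du)
    (huniv : ∀ (N : Type u) [AddCommGroup N] [Module S N] [Module R N] [IsScalarTower R S N]
      (D : M →ₗ[R] N), Diff16.IsDiffOpLE R S M N k D → ∃! α : P →ₗ[S] N, α.restrictScalars R ∘ₗ Du = D)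
    (Du' : S' ⊗[S] M →ₗ[R] S' ⊗[S] P) (hDu' : Diff16.IsDiffOpLE R S' (S' ⊗[S] M) (S' ⊗[S] P) k Du')
    (hext : Du' ∘ₗ (TensorProduct.mk S S' M 1).restrictScalars R =
      (TensorProduct.mk S S' P 1).restrictScalars R ∘ₗ Du) :
    ∀ (N' : Type u) [AddCommGroup N'] [Module S' N'] [Module R N'] [IsScalarTower R S' N']
      (D' : S' ⊗[S] M →ₗ[R] N'), Diff16.IsDiffOpLE R S' (S' ⊗[S] M) N' k D' →
        ∃! α : S' ⊗[S] P →ₗ[S'] N', α.restrictScalars R ∘ₗ Du' = D' := by
  intro N' _ _ _ _ D' hD'
  letI : Module S N' := Module.compHom N' (algebraMap S S')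
  haveI : IsScalarTower S S' N' := IsScalarTower.of_algebraMap_smul (fun _ _ => rfl)
  haveI : IsScalarTower R S N' := by
    refine ⟨fun r s n => ?_⟩
    change algebraMap S S' (r • s) • n = r • (algebraMap S S' s • n)
    have e : algebraMap S S' (r • s) = r • algebraMap S S' s := by
      rw [Algebra.smul_def, map_mul, ← IsScalarTower.algebraMap_apply, ← Algebra.smul_def]
    rw [e, smul_assoc]
  let ι : M →ₗ[R] S' ⊗[S] M := (TensorProduct.mk S S' M 1).restrictScalars R
  have hι : ∀ (s : S) (m : M), ι (s • m) = s • ι m := fun s m => by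
    simp [ι]
  have hD₀ : Diff16.IsDiffOpLE R S M N' k (D' ∘ₗ ι) :=
    Groth.Agent.Lib.Helper4.isDiffOpLE_comp_of_semilinear ι hι k D' hD'
  obtain ⟨α₀, hα₀, hα₀u⟩ := huniv N' (D' ∘ₗ ι) hD₀
  have hext' : ∀ m : M, Du' ((1 : S') ⊗ₜ[S] m) = (1 : S') ⊗ₜ[S] Du m := fun m =>
    LinearMap.congr_fun hext m
  refine ⟨α₀.liftBaseChange S', ?_, ?_⟩
  · -- the factorisation
    have h0 : Diff16.IsDiffOpLE R S' (S' ⊗[S] P) N' 0 ((α₀.liftBaseChange S').restrictScalars R) :=
      fun b x => map_smul (α₀.liftBaseChange S') b x
    have h1 := Groth.Agent.Lib.Helper4.isDiffOpLE_comp hDu' h0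
    refine Groth.Agent.Lib.Helper4.eq_of_isDiffOpLE_of_one_tmul (S := S) k _ _ h1 hD' ?_
    intro m
    have h2 := LinearMap.congr_fun hα₀ m
    simp only [LinearMap.comp_apply, LinearMap.restrictScalars_apply] at h2 ⊢
    rw [hext', LinearMap.liftBaseChange_tmul, one_smul, h2]
    rfl
  · -- uniqueness
    intro β hβ
    let β₀ : P →ₗ[S] N' := (β.restrictScalars S) ∘ₗ (TensorProduct.mk S S' P 1)
    have hβ₀ : β₀.restrictScalars R ∘ₗ Du = D' ∘ₗ ι := by
      ext m
      have h3 := LinearMap.congr_fun hβ ((1 : S') ⊗ₜ[S] m)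
      simp only [LinearMap.comp_apply, LinearMap.restrictScalars_apply] at h3
      rw [hext'] at h3
      exact h3
    have h4 : β₀ = α₀ := hα₀u β₀ hβ₀
    apply TensorProduct.AlgebraTensorModule.ext
    intro s' p
    have h5 : s' ⊗ₜ[S] p = s' • ((1 : S') ⊗ₜ[S] p) := by
      rw [TensorProduct.smul_tmul', smul_eq_mul, mul_one]
    rw [h5, map_smul, map_smul, LinearMap.liftBaseChange_tmul, one_smul, ← h4]
    rfl

end Groth.Agent.S9472
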