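import Groth.Statements.S9485
import Mathlib
import Groth.Agent.Lib.Helper20FEtFaith

set_option autoImplicit false
universe u
open Pi1

namespace Groth.Agent.S9485

open AlgebraicGeometry CategoryTheory CategoryTheory.Limits
open Pi1

/-- a morphism whose image meets every connected component induces a faithful restriction functor
(proof of helper20's S0243 without the closed immersion hypothesis). -/
theorem faithful_of_meets_components {X Y : Scheme.{u}} (i : Y ⟶ X)
    (h : ∀ x : X, (connectedComponent x ∩ Set.range i.base).Nonempty) :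
    (FEt.restrict i).Faithful := by
  apply Groth.Agent.Lib.Helper20.FEtFaith.faithful_of_forall_clopen
  intro A C hC hsub
  have hA : IsFinite A.hom ∧ Etale A.hom := A.prop
  have hA1 : IsFinite A.hom := hA.1
  have hA2 : Etale A.hom := hA.2
  by_contra hne
  obtain ⟨z, hz⟩ : ∃ z, z ∉ C := by
    by_contra hcon
    push Not at hcon
    exact hne (Set.eq_univ_of_forall hcon)
  have hD : IsClopen (A.hom '' Cᶜ) :=
    ⟨A.hom.isClosedMap _ hC.compl.1, A.hom.isOpenMap _ hC.compl.2⟩
  have hsubD : connectedComponent (A.hom z) ⊆ A.hom '' Cᶜ :=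
    hD.connectedComponent_subset ⟨z, hz, rfl⟩
  obtain ⟨y, hy1, hy2⟩ := h (A.hom z)
  obtain ⟨z', hz', hz'y⟩ := hsubD hy1
  apply hz'
  apply hsub
  change A.hom z' ∈ Set.range i
  rw [hz'y]
  exact hy2

theorem mem_connectedComponent_of_specializes {Z : Type*} [TopologicalSpace Z] {a b : Z}
    (h : a ⤳ b) : b ∈ connectedComponent a := by
  have h1 : IsPreconnected (closure ({a} : Set Z)) := isPreconnected_singleton.closure
  exact h1.subset_connectedComponent (subset_closure rfl) (specializes_iff_mem_closure.mp h)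

theorem exists_prime_of_dim (A : Type u) [CommRing A] [IsNoetherianRing A] [IsLocalRing A] (f : A)
    (hf : f ∈ IsLocalRing.maximalIdeal A) (p : Ideal A) [p.IsPrime]
    (hdim : (2 : WithBot ℕ∞) ≤ ringKrullDim (A ⧸ p)) :
    ∃ q : Ideal A, q.IsPrime ∧ p ≤ q ∧ f ∈ q ∧ q ≠ IsLocalRing.maximalIdeal A := by
  have hpm : p ≤ IsLocalRing.maximalIdeal A := IsLocalRing.le_maximalIdeal (Ideal.IsPrime.ne_top ‹_›)
  obtain ⟨q, hqmin, hqm⟩ := Ideal.exists_minimalPrimes_le (I := p ⊔ Ideal.span {f})
    (J := IsLocalRing.maximalIdeal A)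
    (sup_le hpm ((Ideal.span_singleton_le_iff_mem _).mpr hf))
  have hqprime : q.IsPrime := hqmin.1.1
  refine ⟨q, hqprime, le_sup_left.trans hqmin.1.2,
    hqmin.1.2 (Ideal.mem_sup_right (Ideal.mem_span_singleton_self f)), ?_⟩
  rintro rfl
  have hht := Ideal.map_height_le_one_of_mem_minimalPrimes hqmin
  haveI : IsLocalRing (A ⧸ p) :=
    IsLocalRing.of_surjective' (Ideal.Quotient.mk p) Ideal.Quotient.mk_surjective
  have hmax : ((IsLocalRing.maximalIdeal A).map (Ideal.Quotient.mk p)).IsMaximal :=
    Ideal.IsMaximal.map_of_surjective_of_ker_le Ideal.Quotient.mk_surjective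
      (by rw [Ideal.mk_ker]; exact hpm)
  have heq := IsLocalRing.eq_maximalIdeal hmax
  rw [heq] at hht
  have h1 := IsLocalRing.maximalIdeal_height_eq_ringKrullDim (R := A ⧸ p)
  rw [← h1] at hdim
  have h2 : ((2 : ℕ∞) : WithBot ℕ∞) ≤
      ((IsLocalRing.maximalIdeal (A ⧸ p)).height : WithBot ℕ∞) := hdim
  rw [WithBot.coe_le_coe] at h2
  have := h2.trans hht
  norm_num at this

open AlgebraicGeometry CategoryTheory CategoryTheory.Limits in
/-- Let A be a Noetherian local ring with maximal ideal m and f ∈ m, U the punctured spectrum of A and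
U₀ that of A/fA (realised as U ×_{Spec A} Spec(A/fA)). Let U' ⊆ U be an open through which U₀ ⟶ Spec
A factors (as u'). If dim(A/p) ≥ 2 for every minimal prime p of A which lies in U' and does not
contain f, then restriction of finite etale covers along u' is faithful. (Such U' exist, e.g. the
complement in U of the one-dimensional irreducible components not meeting U₀, and the condition
passes to smaller such opens, so restriction from the system of these opens is faithful.) -/
theorem result (A : Type u) [CommRing A] [IsNoetherianRing A] [IsLocalRing A] (f : A) (hf : f ∈ IsLocalRing.maximalIdeal A)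
    (U' : (Spec (CommRingCat.of A)).Opens) (hU' : U' ≤ FEt.puncturedSpec A)
    (u' : pullback (FEt.puncturedSpec A).ι (Spec.map (CommRingCat.ofHom (Ideal.Quotient.mk (Ideal.span {f})))) ⟶ (U' : Scheme.{u})) (hu' : u' ≫ U'.ι = (pullback.fst (FEt.puncturedSpec A).ι (Spec.map (CommRingCat.ofHom (Ideal.Quotient.mk (Ideal.span {f})))) ≫ (FEt.puncturedSpec A).ι))
    (hdim : ∀ p : PrimeSpectrum A, p.asIdeal ∈ minimalPrimes A → p ∈ U' → f ∉ p.asIdeal →
      (2 : WithBot ℕ∞) ≤ ringKrullDim (A ⧸ p.asIdeal)) :
    (FEt.restrict u').Faithful := by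
  -- points of `V(f)` other than the closed point are in the image
  have hrange : ∀ q : PrimeSpectrum A, q ≠ IsLocalRing.closedPoint A → f ∈ q.asIdeal →
      ∃ z, U'.ι (u' z) = q := by
    intro q hq hfq
    let y : PrimeSpectrum (A ⧸ Ideal.span {f}) :=
      ⟨q.asIdeal.map (Ideal.Quotient.mk (Ideal.span {f})),
        Ideal.map_isPrime_of_surjective Ideal.Quotient.mk_surjective
          (by rw [Ideal.mk_ker]; exact (Ideal.span_singleton_le_iff_mem _).mpr hfq)⟩
    have hy : Spec.map (CommRingCat.ofHom (Ideal.Quotient.mk (Ideal.span {f}))) y = q := by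
      apply PrimeSpectrum.ext
      change (q.asIdeal.map (Ideal.Quotient.mk (Ideal.span {f}))).comap
        (Ideal.Quotient.mk (Ideal.span {f})) = q.asIdeal
      rw [Ideal.comap_map_of_surjective _ Ideal.Quotient.mk_surjective,
        ← RingHom.ker_eq_comap_bot, Ideal.mk_ker]
      exact sup_eq_left.mpr ((Ideal.span_singleton_le_iff_mem _).mpr hfq)
    let xq : (FEt.puncturedSpec A : Scheme.{u}) := ⟨q, hq⟩
    obtain ⟨z, hz1, hz2⟩ := Scheme.Pullback.exists_preimage_pullback
      (f := (FEt.puncturedSpec A).ι)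
      (g := Spec.map (CommRingCat.ofHom (Ideal.Quotient.mk (Ideal.span {f})))) xq y
      (by rw [hy]; rfl)
    refine ⟨z, ?_⟩
    rw [← Scheme.Hom.comp_apply, hu', Scheme.Hom.comp_apply, hz1]
    rfl
  apply faithful_of_meets_components
  intro x
  -- a minimal prime below x
  let P : PrimeSpectrum A := U'.ι x
  have hPU' : P ∈ U' := x.2
  obtain ⟨p, hpmin, hpP⟩ := Ideal.exists_minimalPrimes_le (I := (⊥ : Ideal A)) (J := P.asIdeal)
    bot_le
  have hpprime : p.IsPrime := hpmin.1.1
  let pP : PrimeSpectrum A := ⟨p, hpprime⟩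
  have hspec : pP ⤳ P := (PrimeSpectrum.le_iff_specializes pP P).mp hpP
  have hpU' : pP ∈ U' := hspec.mem_open U'.isOpen hPU'
  let a : (U' : Scheme.{u}) := ⟨pP, hpU'⟩
  have hax : a ⤳ x := (subtype_specializes_iff a x).mpr hspec
  have hcc : connectedComponent x = connectedComponent a :=
    (connectedComponent_eq (mem_connectedComponent_of_specializes hax)).symm
  rw [hcc]
  by_cases hfp : f ∈ p
  · obtain ⟨z, hz⟩ := hrange pP (hU' hpU') hfp
    refine ⟨a, mem_connectedComponent, z, ?_⟩
    apply Subtype.ext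
    exact hz
  · have hd := hdim pP hpmin hpU' hfp
    obtain ⟨q, hqprime, hpq, hfq, hqm⟩ := exists_prime_of_dim A f hf p hd
    let qP : PrimeSpectrum A := ⟨q, hqprime⟩
    have hqne : qP ≠ IsLocalRing.closedPoint A := by
      intro h
      exact hqm (congrArg PrimeSpectrum.asIdeal h)
    obtain ⟨z, hz⟩ := hrange qP hqne hfq
    have hqU' : qP ∈ U' := by
      rw [← hz]
      exact (u' z).2
    let b : (U' : Scheme.{u}) := ⟨qP, hqU'⟩
    have hab : a ⤳ b :=
      (subtype_specializes_iff a b).mpr ((PrimeSpectrum.le_iff_specializes pP qP).mp hpq)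
    refine ⟨b, mem_connectedComponent_of_specializes hab, z, ?_⟩
    apply Subtype.ext
    exact hz

end Groth.Agent.S9485
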