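import Groth.Statements.S9491
import Groth.Agent.Lib.Helper4FEtNormal2

set_option autoImplicit false
set_option linter.style.haveILetI false
universe u
open Pi1

namespace Groth.Agent.S9491

open AlgebraicGeometry CategoryTheory CategoryTheory.Limits in
/-- The essential image of restriction of finite etale covers from a normal integral scheme X to its
generic point Spec K consists of the finite etale K-schemes whose points are spectra of finite
extensions L of K in which X is unramified. Precisely: let L be a finite field extension of K and Y₀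
the object Spec L → Spec K of the category of finite etale covers of Spec K; then Y₀ is isomorphic
to the restriction of a finite etale cover of X if and only if the normalization of X in Spec L is
finite etale over X. (With full faithfulness of this restriction functor for normal X, this says
that the fundamental group of X is the Galois group of the union M of all finite subextensions of a
separable closure in which X is unramified.) -/
theorem result {X : Scheme.{u}} [IsIntegral X] (hX : Pi1.IsNormalScheme X)
    (L : Type u) [Field L] [Algebra X.functionField L] [FiniteDimensional X.functionField L]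
    [QuasiCompact (Spec.map (CommRingCat.ofHom (algebraMap X.functionField L)) ≫ X.fromSpecStalk (genericPoint X))] [QuasiSeparated (Spec.map (CommRingCat.ofHom (algebraMap X.functionField L)) ≫ X.fromSpecStalk (genericPoint X))]
    (Y₀ : FEt.Cat (Spec X.functionField)) (e : Y₀.left ≅ Spec (CommRingCat.of L))
    (he : e.hom ≫ Spec.map (CommRingCat.ofHom (algebraMap X.functionField L)) = Y₀.hom) :
    (FEt.restrict (X.fromSpecStalk (genericPoint X))).essImage Y₀ ↔
      (Etale (Spec.map (CommRingCat.ofHom (algebraMap X.functionField L)) ≫ X.fromSpecStalk (genericPoint X)).fromNormalization ∧ IsFinite (Spec.map (CommRingCat.ofHom (algebraMap X.functionField L)) ≫ X.fromSpecStalk (genericPoint X)).fromNormalization) := by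
  set φ : X.functionField →+* L := algebraMap X.functionField L with hφ
  set j := X.fromSpecStalk (genericPoint X) with hj
  set g := Spec.map (CommRingCat.ofHom φ) ≫ j with hg
  have he' : e.inv ≫ Y₀.hom = Spec.map (CommRingCat.ofHom φ) := by
    rw [Iso.inv_comp_eq]; exact he.symm
  constructor
  · rintro ⟨Y, ⟨α⟩⟩
    haveI : IsFinite (Y.hom : Y.left ⟶ X) := Y.prop.1
    haveI : Etale (Y.hom : Y.left ⟶ X) := Y.prop.2
    let αl : pullback (Y.hom : Y.left ⟶ X) j ≅ Y₀.left :=
      (MorphismProperty.Over.forget _ _ _ ⋙ CategoryTheory.Over.forget _).mapIso α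
    have hαl : αl.inv ≫ pullback.snd (Y.hom : Y.left ⟶ X) j = Y₀.hom :=
      MorphismProperty.Over.w α.inv
    let θ : Spec (CommRingCat.of L) ≅ pullback (Y.hom : Y.left ⟶ X) j := e.symm ≪≫ αl.symm
    have hθ : θ.hom ≫ pullback.snd (Y.hom : Y.left ⟶ X) j = Spec.map (CommRingCat.ofHom φ) := by
      simp only [θ, Iso.trans_hom, Iso.symm_hom, Category.assoc]
      rw [hαl, he']
    have hgY : g = (θ.hom ≫ pullback.fst (Y.hom : Y.left ⟶ X) j) ≫ (Y.hom : Y.left ⟶ X) := by
      rw [Category.assoc, pullback.condition, reassoc_of% hθ]
    haveI := Groth.Agent.Lib.Helper4.FEtNormal.isIso_desc_of_iso hX (Y.hom : Y.left ⟶ X) θ g hgY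
    have hd : g.normalizationDesc (θ.hom ≫ pullback.fst (Y.hom : Y.left ⟶ X) j)
        (Y.hom : Y.left ⟶ X) hgY ≫ (Y.hom : Y.left ⟶ X) = g.fromNormalization :=
      Scheme.Hom.normalizationDesc_comp _ _ _ _
    rw [← hd]
    exact ⟨inferInstance, inferInstance⟩
  · rintro ⟨hEt, hFin⟩
    have halg : φ.IsIntegral := fun x => Algebra.IsIntegral.isIntegral x
    haveI := Groth.Agent.Lib.Helper4.FEtNormal.isIso_toGenericFibre L φ halg
    set c := Groth.Agent.Lib.Helper4.FEtNormal.toGenericFibre L φ with hc
    have hcs : c ≫ pullback.snd g.fromNormalization j = Spec.map (CommRingCat.ofHom φ) :=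
      pullback.lift_snd _ _ _
    let Y : FEt.Cat X := MorphismProperty.Over.mk ⊤ g.fromNormalization ⟨hFin, hEt⟩
    refine ⟨Y, ⟨MorphismProperty.Over.isoMk ((asIso c).symm ≪≫ e.symm) ?_⟩⟩
    show ((asIso c).symm ≪≫ e.symm).hom ≫ Y₀.hom = pullback.snd g.fromNormalization j
    simp only [Iso.trans_hom, Iso.symm_hom, asIso_inv, Category.assoc, IsIso.inv_comp_eq]
    rw [he', hcs]

end Groth.Agent.S9491
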