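import Groth.Statements.S9495
import Mathlib.AlgebraicGeometry.Morphisms.QuasiCompact
import Mathlib.AlgebraicGeometry.PullbackCarrier

set_option autoImplicit false
universe u
open SchMor

namespace Groth.Agent.S9495

open AlgebraicGeometry CategoryTheory Limits in
/-- The affine-target case. -/
theorem isClosed_range_of_stable_Spec {X : Scheme.{u}} {R : CommRingCat.{u}} (f : X ⟶ Spec R)
    [QuasiCompact f] (H : StableUnderSpecialization (Set.range f)) : IsClosed (Set.range f) := by
  obtain ⟨A, g, hg⟩ := compactSpace_iff_exists.mp (QuasiCompact.compactSpace_of_compactSpace f)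
  obtain ⟨φ, hφ⟩ := Spec.homEquiv.symm.surjective (g ≫ f)
  have hrange : Set.range (g ≫ f) = Set.range f := by
    rw [Scheme.Hom.comp_base, TopCat.coe_comp, Set.range_comp, hg.range_eq, Set.image_univ]
  rw [← hrange, ← hφ] at H ⊢
  exact PrimeSpectrum.isClosed_range_of_stableUnderSpecialization φ.hom H

open AlgebraicGeometry in
open CategoryTheory in
/-- For a quasi-compact morphism of schemes f : X → S, the image f(X) is closed in S if and only if it
is stable under specialization. -/
theorem result
    {X S : Scheme.{u}} (f : X ⟶ S) [QuasiCompact f] :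
    IsClosed (Set.range f) ↔ StableUnderSpecialization (Set.range f) := by
  refine ⟨fun h => h.stableUnderSpecialization, fun H => ?_⟩
  rw [← closure_subset_iff_isClosed]
  intro y hy
  obtain ⟨i, y', rfl⟩ := S.affineCover.exists_eq y
  let ι := S.affineCover.f i
  have hqc : QuasiCompact (Limits.pullback.snd f ι) := MorphismProperty.pullback_snd _ _ ‹_›
  have hrange : Set.range (Limits.pullback.snd f ι) = ι ⁻¹' Set.range f :=
    Scheme.Pullback.range_snd f ι
  have hstable : StableUnderSpecialization (Set.range (Limits.pullback.snd f ι)) := by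
    rw [hrange]
    intro a b hab ha
    exact H (hab.map ι.continuous) ha
  have hclosed : IsClosed (ι ⁻¹' Set.range f) := by
    rw [← hrange]
    exact @isClosed_range_of_stable_Spec _ _ (Limits.pullback.snd f ι) hqc hstable
  have h1 : y' ∈ closure (ι ⁻¹' Set.range f) := by
    rw [← ι.isOpenEmbedding.isOpenMap.preimage_closure_eq_closure_preimage ι.continuous]
    exact hy
  rw [hclosed.closure_eq] at h1
  exact h1

end Groth.Agent.S9495
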