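import Groth.Statements.S9502
import Mathlib
import Groth.Agent.Lib.Helper27LRSImm3

set_option autoImplicit false
universe u
open SchMor

namespace Groth.Agent.S9502

open AlgebraicGeometry in
open CategoryTheory in
/-- Let f : X → Y be a morphism of schemes such that (1) the underlying continuous map of f is a
homeomorphism onto a closed subset of Y and (2) the map of sheaves of rings O_Y → f_*O_X is
surjective (locally surjective on sections). Then f is a closed immersion in the sense of locally
ringed spaces: (1) and (2) hold and (3) the kernel of O_Y → f_*O_X is locally generated by sections,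
i.e. around every point of Y there are sections of O_Y killed in f_*O_X whose germs generate the
kernel of the stalk map O_{Y,y} → (f_*O_X)_y at every nearby point y. (For a morphism of schemes (1)
and (2) alone already give surjective stalk maps; the content of this row is condition (3).) -/
theorem result
    {X Y : Scheme.{u}} (f : X ⟶ Y) (h1 : Topology.IsClosedEmbedding f)
    (h2 : TopCat.Presheaf.IsLocallySurjective f.c) :
    LRSImm.IsClosedImmersion f.toLRSHom := by
  refine ⟨h1, h2, ?_⟩
  intro y
  obtain ⟨U, hU, hyU, -⟩ := AlgebraicGeometry.exists_isAffineOpen_mem_and_subset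
    (x := y) (U := ⊤) trivial
  have hc : IsCompact ((f ⁻¹ᵁ U : X.Opens) : Set X) := h1.isCompact_preimage hU.isCompact
  refine ⟨U, hyU, ↥(Groth.Agent.Lib.Helper27LRSImm.secKer f.toLRSHom U), fun j => j.1,
    fun j => j.2, ?_⟩
  intro x' hx'
  have hrange : (Set.range fun j : ↥(Groth.Agent.Lib.Helper27LRSImm.secKer f.toLRSHom U) =>
      Y.presheaf.germ U x' hx' j.1) =
      (Y.presheaf.germ U x' hx').hom '' (Groth.Agent.Lib.Helper27LRSImm.secKer f.toLRSHom U) := by
    ext w
    constructor
    · rintro ⟨j, rfl⟩
      exact ⟨j.1, j.2, rfl⟩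
    · rintro ⟨a, ha, rfl⟩
      exact ⟨⟨a, ha⟩, rfl⟩
  refine Eq.trans (congrArg Ideal.span hrange) ?_
  apply le_antisymm
  · rw [Ideal.span_le]
    rintro _ ⟨a, ha, rfl⟩
    exact Groth.Agent.Lib.Helper27LRSImm.germ_mem_ker f.toLRSHom a ha x' hx'
  · exact Groth.Agent.Lib.Helper27LRSImm.stalkKer_le_map_of_isCompact f hU hc x' hx'

end Groth.Agent.S9502
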