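import Groth.Statements.S9505
import Mathlib
import Groth.Agent.Lib.Helper27LRSImm4

set_option autoImplicit false
universe u
open LRSImm

namespace Groth.Agent.S9505

open AlgebraicGeometry in
open CategoryTheory in
/-- Let X be a scheme and i : Z → X a closed immersion of locally ringed spaces: a homeomorphism onto a
closed subset of X such that O_X → i_*O_Z is surjective as a map of sheaves and its kernel is
locally generated by sections. Then the locally ringed space Z is a scheme and i is a closed
immersion of schemes (affine-locally of the form Spec(R/I) → Spec R): there are a scheme Z' and an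
isomorphism of locally ringed spaces Z' ≅ Z whose composite with i is a closed immersion of schemes
Z' → X. -/
theorem result
    (X : Scheme.{u}) (Z : LocallyRingedSpace.{u}) (i : Z ⟶ X.toLocallyRingedSpace)
    (hi : LRSImm.IsClosedImmersion i) :
    ∃ (Z' : Scheme.{u}) (e : Z'.toLocallyRingedSpace ≅ Z),
      AlgebraicGeometry.IsClosedImmersion (Scheme.Hom.mk (e.hom ≫ i) : Z' ⟶ X) := by
  have hcover : ∀ z : Z, ∃ (R : CommRingCat.{u})
      (f : Spec.toLocallyRingedSpace.obj (Opposite.op R) ⟶ Z),
      (z ∈ Set.range f.base) ∧ LocallyRingedSpace.IsOpenImmersion f := by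
    intro z
    obtain ⟨U, hU, hzU, -⟩ := AlgebraicGeometry.exists_isAffineOpen_mem_and_subset
      (x := i.base z) (U := ⊤) trivial
    let W : TopologicalSpace.Opens Z := (TopologicalSpace.Opens.map i.base).obj U
    let κ : Z.restrict W.isOpenEmbedding ⟶ Z := Z.ofRestrict W.isOpenEmbedding
    have hκr : Set.range κ.base = i.base ⁻¹' (U : Set X) := Subtype.range_coe
    have hF : LocallyRingedSpace.IsOpenImmersion hU.fromSpec.toLRSHom :=
      inferInstanceAs (IsOpenImmersion hU.fromSpec)
    have hsub : Set.range (κ ≫ i).base ⊆ Set.range hU.fromSpec.toLRSHom.base := by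
      rintro _ ⟨w, rfl⟩
      have : Set.range hU.fromSpec.toLRSHom.base = (U : Set X) := hU.range_fromSpec
      rw [this]
      exact w.2
    let j := LocallyRingedSpace.IsOpenImmersion.lift hU.fromSpec.toLRSHom (κ ≫ i) hsub
    have hfac : j ≫ hU.fromSpec.toLRSHom = κ ≫ i :=
      LocallyRingedSpace.IsOpenImmersion.lift_fac hU.fromSpec.toLRSHom (κ ≫ i) hsub
    obtain ⟨e, -⟩ := Groth.Agent.Lib.Helper27LRSImm.exists_affine_iso i hU κ j hfac hi hκr
    refine ⟨_, e.inv ≫ κ, ?_, inferInstance⟩
    have hzW : z ∈ Set.range κ.base := by rw [hκr]; exact hzU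
    obtain ⟨w, rfl⟩ := hzW
    exact ⟨e.hom.base w, by
      change (e.hom ≫ e.inv ≫ κ).base w = κ.base w
      rw [Iso.hom_inv_id_assoc]⟩
  refine ⟨LocallyRingedSpace.IsOpenImmersion.scheme Z hcover, Iso.refl _, ?_⟩
  obtain ⟨h1, h2, h3⟩ := hi
  have hid : (Iso.refl Z).hom ≫ i = i := Category.id_comp i
  refine { isClosedEmbedding := ?a, stalkMap_surjective := ?b }
  case a =>
    change Topology.IsClosedEmbedding ((Iso.refl Z).hom ≫ i).base
    rw [hid]; exact h1
  case b =>
    intro z
    change Function.Surjective (((Iso.refl Z).hom ≫ i).stalkMap z)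
    rw [hid]
    exact Groth.Agent.Lib.Helper27LRSImm.stalkMap_surjective i h1.isInducing h2 z

end Groth.Agent.S9505
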