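import Groth.Statements.S9509
-- import your own Groth.Agent.* helpers here

set_option autoImplicit false
universe u
open SchMor

namespace Groth.Agent.S9509

open AlgebraicGeometry in
open CategoryTheory in
/-- (3) ⇒ (1): Let f : X → S be a morphism of schemes. Suppose S is covered by affine opens W_i, each
preimage f⁻¹(W_i) is covered by affine opens V_{i,j}, and any two V_{i,j}, V_{i,j'} with the same
index i meet in a quasi-compact open (one covered by finitely many affine opens). Then f is
quasi-separated. -/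
theorem result
    {X S : Scheme.{u}} (f : X ⟶ S) {ι : Type u} (W : ι → S.affineOpens)
    (hW : ⨆ i, (W i : S.Opens) = ⊤) {κ : ι → Type u} (V : ∀ i, κ i → X.affineOpens)
    (hV : ∀ i, ⨆ j, (V i j : X.Opens) = f ⁻¹ᵁ (W i : S.Opens))
    (hVV : ∀ i (j j' : κ i), IsCompact ((V i j : Set X) ∩ (V i j' : Set X))) :
    QuasiSeparated f := by
  rw [HasAffineProperty.iff_of_iSup_eq_top (P := @QuasiSeparated) W hW]
  intro i
  -- the open subscheme `f⁻¹(W i)` with its cover by the preimages of the `V i j`
  let X' : X.Opens := f ⁻¹ᵁ (W i : S.Opens)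
  have hle : ∀ j, (V i j : X.Opens) ≤ X' := fun j => by
    change (V i j : X.Opens) ≤ f ⁻¹ᵁ (W i : S.Opens)
    rw [← hV i]; exact le_iSup (fun j => (V i j : X.Opens)) j
  let U : κ i → X'.toScheme.Opens := fun j => X'.ι ⁻¹ᵁ (V i j : X.Opens)
  refine Scheme.quasiSeparatedSpace_of_isOpenCover U ?_ ?_ ?_
  · refine TopologicalSpace.IsOpenCover.mk ?_
    rw [_root_.eq_top_iff]
    rintro ⟨x, hx⟩ -
    have hx' : x ∈ ⨆ j, (V i j : X.Opens) := by rw [hV i]; exact hx
    obtain ⟨j, hj⟩ := TopologicalSpace.Opens.mem_iSup.mp hx'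
    exact TopologicalSpace.Opens.mem_iSup.mpr ⟨j, hj⟩
  · intro j
    exact (V i j).2.preimage_of_isOpenImmersion X'.ι (by rw [Scheme.Opens.opensRange_ι]; exact hle j)
  · intro j j'
    have h1 : ((U j : Set X'.toScheme) ∩ (U j' : Set X'.toScheme)) =
        X'.ι ⁻¹' ((V i j : Set X) ∩ (V i j' : Set X)) := rfl
    rw [h1]
    refine (X'.ι.isOpenEmbedding.isInducing.isCompact_preimage_iff ?_).mpr (hVV i j j')
    rw [Scheme.Opens.range_ι]
    exact fun x hx => hle j hx.1

end Groth.Agent.S9509
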