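import Groth.Statements.S9510
-- import your own Groth.Agent.* helpers here

set_option autoImplicit false
universe u
open SchMor

namespace Groth.Agent.S9510

open AlgebraicGeometry in
open CategoryTheory in
/-- Let X be a scheme, X = ⋃ U_i an affine open covering and V ⊆ X an affine open. Then there is a
standard open covering V = D(f_1) ∪ … ∪ D(f_m), with f_1, …, f_m sections of O_X over V, such that
each D(f_j) is also a standard open D(g) of one of the U_i (g a section over that U_i). -/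
theorem result
    (X : Scheme.{u}) {ι : Type u} (U : ι → X.affineOpens) (hU : ⨆ i, (U i : X.Opens) = ⊤)
    (V : X.affineOpens) :
    ∃ s : Finset Γ(X, (V : X.Opens)),
      (⨆ f ∈ s, X.basicOpen f) = (V : X.Opens) ∧
        ∀ f ∈ s, ∃ (i : ι) (g : Γ(X, (U i : X.Opens))), X.basicOpen f = X.basicOpen g := by
  classical
  have key : ∀ x : (V : X.Opens), ∃ f : Γ(X, (V : X.Opens)), ↑x ∈ X.basicOpen f ∧
      ∃ (i : ι) (g : Γ(X, (U i : X.Opens))), X.basicOpen f = X.basicOpen g := by
    intro x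
    obtain ⟨i, hi⟩ := TopologicalSpace.Opens.mem_iSup.mp (hU.ge (Set.mem_univ (x : X)))
    obtain ⟨f, g, e, hf⟩ := exists_basicOpen_le_affine_inter V.prop (U i).prop x ⟨x.prop, hi⟩
    exact ⟨f, hf, i, g, e⟩
  choose f hf₁ hf₂ using key
  have hspan : Ideal.span (Set.range f) = ⊤ := by
    rw [← V.prop.self_le_iSup_basicOpen_iff]
    intro x hx
    rw [iSup_range', TopologicalSpace.Opens.mem_iSup]
    exact ⟨_, hf₁ ⟨x, hx⟩⟩
  obtain ⟨t, ht₁, ht₂⟩ := (Ideal.span_eq_top_iff_finite _).mp hspan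
  refine ⟨t, ?_, ?_⟩
  · have h1 := V.prop.iSup_basicOpen_eq_self_iff.mpr ht₂
    refine Eq.trans ?_ h1
    rw [iSup_subtype']
    rfl
  · intro g hg
    obtain ⟨x, rfl⟩ := ht₁ hg
    exact hf₂ x

end Groth.Agent.S9510
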