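import Groth.Statements.S9511
import Mathlib.AlgebraicGeometry.Limits

set_option autoImplicit false
universe u
open LRSImm

namespace Groth.Agent.S9511

open AlgebraicGeometry in
open CategoryTheory TopologicalSpace in
/-- Let X be a locally ringed space and U, V ⊆ X open with X = U ⊔ V (they cover X and are disjoint),
such that the open subspaces X|_U and X|_V are affine schemes. Then X is an affine scheme: the
canonical morphism X → Spec Γ(X, O_X) is an isomorphism of locally ringed spaces. -/
theorem result
    (X : LocallyRingedSpace.{u}) (U V : Opens X.toTopCat) (hUV : IsCompl U V)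
    (A B : CommRingCat.{u})
    (eU : X.restrict U.isOpenEmbedding ≅ (Spec A).toLocallyRingedSpace)
    (eV : X.restrict V.isOpenEmbedding ≅ (Spec B).toLocallyRingedSpace) :
    IsIso X.toΓSpec := by
  have hcov : ∀ x : X.toTopCat, x ∈ U ∨ x ∈ V := by
    intro x
    have : x ∈ (U ⊔ V : Opens X.toTopCat) := by rw [hUV.sup_eq_top]; trivial
    exact this
  let X' : Scheme.{u} :=
    { toLocallyRingedSpace := X
      local_affine := fun x => by
        rcases hcov x with hx | hx
        · exact ⟨⟨U, hx⟩, A, ⟨eU⟩⟩
        · exact ⟨⟨V, hx⟩, B, ⟨eV⟩⟩ }
  have hU : IsAffineOpen (X := X') U := by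
    have e : Scheme.Opens.toScheme (X := X') U ≅ Spec A :=
      Scheme.forgetToLocallyRingedSpace.preimageIso eU
    exact IsAffine.of_isIso e.hom
  have hV : IsAffineOpen (X := X') V := by
    have e : Scheme.Opens.toScheme (X := X') V ≅ Spec B :=
      Scheme.forgetToLocallyRingedSpace.preimageIso eV
    exact IsAffine.of_isIso e.hom
  have htop : IsAffineOpen (⊤ : X'.Opens) := by
    have := IsAffineOpen.iSup_of_disjoint (X := X') (U := fun b : Bool => cond b U V)
      (by intro b; cases b <;> assumption)
      (by
        intro b c h
        cases b <;> cases c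
        · exact (h rfl).elim
        · exact hUV.disjoint.symm
        · exact hUV.disjoint
        · exact (h rfl).elim)
    rw [iSup_bool_eq] at this
    simp only [cond_true, cond_false] at this
    rwa [hUV.sup_eq_top] at this
  haveI : IsAffine (Scheme.Opens.toScheme (X := X') ⊤) := htop
  haveI : IsAffine X' := IsAffine.of_isIso (Scheme.topIso X').inv
  have h : IsIso (Scheme.forgetToLocallyRingedSpace.map X'.toSpecΓ) := inferInstance
  exact h

end Groth.Agent.S9511
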