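import Groth.Statements.S9512
import Mathlib.AlgebraicGeometry.GammaSpecAdjunction

set_option autoImplicit false
universe u
open LRSImm

namespace Groth.Agent.S9512

open AlgebraicGeometry in
open CategoryTheory Opposite in
/-- Let X be a locally ringed space, Y = Spec R an affine scheme and f : X → Y a morphism of locally
ringed spaces. Given a point x of X, the image f(x) is the prime of R obtained as the inverse image
of the maximal ideal of O_{X,x} under the composite R = Γ(Y, O_Y) → Γ(X, O_X) → O_{X,x}. -/
theorem result
    (X : LocallyRingedSpace.{u}) (R : CommRingCat.{u})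
    (f : X ⟶ (Spec R).toLocallyRingedSpace) (x : X.toTopCat) :
    f.base x = PrimeSpectrum.comap
      ((Scheme.ΓSpecIso R).inv ≫ f.c.app (op ⊤) ≫ X.presheaf.germ ⊤ x trivial).hom
      (IsLocalRing.closedPoint (X.presheaf.stalk x)) := by
  set g := (AlgebraicGeometry.ΓSpec.locallyRingedSpaceAdjunction.homEquiv X (op R)).symm f with hg
  have hf : f = X.toΓSpec ≫ Spec.locallyRingedSpaceMap g.unop := by
    have := (AlgebraicGeometry.ΓSpec.locallyRingedSpaceAdjunction.homEquiv X (op R)).apply_symm_apply f
    rw [← hg, AlgebraicGeometry.ΓSpec.locallyRingedSpaceAdjunction_homEquiv_apply] at this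
    exact this.symm
  have hgu : g.unop = (Scheme.ΓSpecIso R).inv ≫ f.c.app (op ⊤) := by
    rw [hg, Adjunction.homEquiv_counit]
    rfl
  conv_lhs => rw [hf]
  rw [hgu]
  rfl

end Groth.Agent.S9512
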