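import Groth.Statements.S9514
import Mathlib
import Groth.Agent.Lib.Helper23FinTypeLocal
-- import your own Groth.Agent.* helpers here

set_option autoImplicit false
universe u
open Coherent

namespace Groth.Agent.S9514


open AlgebraicGeometry CategoryTheory CategoryTheory.Limits Groth.Agent.Lib.Helper23.FinType
  Groth.Agent.Lib.Helper23.QCohLocal Groth.Agent.Lib.Helper23.ModLocal Groth.Agent.Lib.Helper23.AffVanish

variable {X : Scheme.{u}}

open CategoryTheory CategoryTheory.Limits AlgebraicGeometry in
/-- Let X be a locally Noetherian scheme and φ : F → G a morphism of O_X-modules with F and G coherent.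
Then the kernel and the cokernel of φ, taken in the category of O_X-modules, are coherent. -/
theorem result (X : Scheme.{u}) [IsLocallyNoetherian X] {F G : X.Modules}
    (hF : Coh.IsCoh F) (hG : Coh.IsCoh G) (φ : F ⟶ G) :
    Coh.IsCoh (kernel φ) ∧ Coh.IsCoh (cokernel φ) := by
  haveI : F.IsQuasicoherent := hF.1
  haveI : SheafOfModules.IsFiniteType (R := X.ringCatSheaf) F := hF.2
  haveI : G.IsQuasicoherent := hG.1
  haveI : SheafOfModules.IsFiniteType (R := X.ringCatSheaf) G := hG.2
  haveI : (kernel φ).IsQuasicoherent := isQuasicoherent_kernel φ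
  haveI : (cokernel φ).IsQuasicoherent := isQuasicoherent_cokernel φ
  exact ⟨⟨inferInstance, isFiniteType_of_mono (kernel.ι φ)⟩, ⟨inferInstance, isFiniteType_of_epi (cokernel.π φ)⟩⟩

end Groth.Agent.S9514
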