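import Groth.Statements.S9517
import Mathlib
import Groth.Agent.Lib.LeadDeligne2
import Groth.Agent.Lib.Helper23FinType2

set_option autoImplicit false
universe u
open CategoryTheory CategoryTheory.Limits AlgebraicGeometry
attribute [local instance] HasDerivedCategory.standard
open Coherent

namespace Groth.Agent.S9517
open Groth.Agent.Lib.LeadDeligne Groth.Agent.Lib.Helper17.GrSysCoh

/-- Let X be a Noetherian scheme, F a coherent O_X-module, G ⊆ F a quasi-coherent submodule (given by a
monomorphism ι : G → F) and I a quasi-coherent sheaf of ideals. Then there is c ≥ 0 such that for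
every n ≥ c the two subobjects I^(n-c)·(I^c F ∩ G) and I^n F ∩ G of F are equal. (Products J·M are
the submodule sheaves Dual3.idealMul J M; intersections are taken in the lattice of subobjects of
F.) -/
theorem result (X : Scheme.{u}) [IsNoetherian X] (F G : X.Modules) (hF : Coh.IsCoh F)
    (hG : Coh.IsQCoh G) (ι : G ⟶ F) [Mono ι] (I : X.IdealSheafData) :
    ∃ c : ℕ, ∀ n : ℕ, c ≤ n →
      Subobject.mk (Dual3.idealMulι (I ^ (n - c))
          (Subobject.underlying.obj (Subobject.mk (Dual3.idealMulι (I ^ c) F) ⊓ Subobject.mk ι)) ≫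
        (Subobject.mk (Dual3.idealMulι (I ^ c) F) ⊓ Subobject.mk ι).arrow) =
      Subobject.mk (Dual3.idealMulι (I ^ n) F) ⊓ Subobject.mk ι := by
  classical
  haveI : F.IsQuasicoherent := hF.1
  haveI : SheafOfModules.IsFiniteType (R := X.ringCatSheaf) F := hF.2
  haveI : G.IsQuasicoherent := hG
  haveI : CompactSpace X := inferInstance
  haveI hIF : ∀ m : ℕ, ((Dual3.idealMul (I ^ m)).obj F).IsQuasicoherent :=
    fun m => isQuasicoherent_idealMul (I ^ m) F
  -- the subobjects `I^m F ∩ G`
  let K : ℕ → Subobject F := fun m => Subobject.mk (Dual3.idealMulι (I ^ m) F) ⊓ Subobject.mk ι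
  haveI hK : ∀ m : ℕ, (Subobject.underlying.obj (K m) : X.Modules).IsQuasicoherent :=
    fun m => isQuasicoherent_inf (Dual3.idealMulι (I ^ m) F) ι
  -- sections over affine opens
  have hrK : ∀ (m : ℕ) (U : X.affineOpens), LinearMap.range (appL (K m).arrow U.1) =
      (I.ideal U) ^ m • (⊤ : Submodule Γ(X, U.1) Γ(F, U.1)) ⊓ LinearMap.range (appL ι U.1) := by
    intro m U
    rw [range_appL_inf_arrow, range_appL_idealMulι]
    rfl
  obtain ⟨S, hS⟩ := Groth.Agent.Lib.Helper4.Dev.exists_finset_affine_cover (X := X)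
  -- Artin–Rees on each member of the cover
  have hAR : ∀ U : X.affineOpens, ∃ k : ℕ, ∀ n ≥ k,
      (I.ideal U) ^ n • (⊤ : Submodule Γ(X, U.1) Γ(F, U.1)) ⊓ LinearMap.range (appL ι U.1) =
        (I.ideal U) ^ (n - k) • ((I.ideal U) ^ k • (⊤ : Submodule Γ(X, U.1) Γ(F, U.1)) ⊓
          LinearMap.range (appL ι U.1)) := by
    intro U
    haveI : IsNoetherianRing Γ(X, U.1) := IsLocallyNoetherian.component_noetherian U
    haveI : Module.Finite Γ(X, U.1) Γ(F, U.1) :=
      Groth.Agent.Lib.Helper23.FinType.finite_of_isFiniteType F U.2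
    exact Ideal.exists_pow_inf_eq_pow_smul (I.ideal U) (LinearMap.range (appL ι U.1))
  choose k hk using hAR
  refine ⟨S.sup k, fun n hn => ?_⟩
  set c := S.sup k with hc
  have hsec : ∀ U ∈ S, LinearMap.range (appL (Dual3.idealMulι (I ^ (n - c))
      (Subobject.underlying.obj (K c)) ≫ (K c).arrow) U.1) =
      LinearMap.range (appL (K n).arrow U.1) := by
    intro U hU
    rw [range_appL_idealMulι_comp, hrK, hrK]
    exact ar_adjust (I.ideal U) _ (k U) (hk U) c (Finset.le_sup hU) n hn
  have hcov : ∀ x : X, ∃ i : S, x ∈ (i.1.1 : X.Opens) := by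
    intro x
    obtain ⟨U, hU, hx⟩ := hS x
    exact ⟨⟨U, hU⟩, hx⟩
  haveI : ((Dual3.idealMul (I ^ (n - c))).obj (Subobject.underlying.obj (K c))).IsQuasicoherent :=
    isQuasicoherent_idealMul _ _
  have key : Subobject.mk (Dual3.idealMulι (I ^ (n - c)) (Subobject.underlying.obj (K c)) ≫ (K c).arrow) =
      Subobject.mk (K n).arrow := by
    apply le_antisymm
    · exact mk_le_mk_of_sections _ _ (fun i : S => (i.1.1 : X.Opens)) (fun i => i.1.2) hcov
        (fun i => (hsec i.1 i.2).le)
    · exact mk_le_mk_of_sections _ _ (fun i : S => (i.1.1 : X.Opens)) (fun i => i.1.2) hcov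
        (fun i => (hsec i.1 i.2).ge)
  rw [Subobject.mk_arrow] at key
  exact key

end Groth.Agent.S9517
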