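import Groth.Statements.S9515
import Mathlib
import Groth.Agent.Lib.LeadDeligne2
import Groth.Agent.Lib.Helper23Extend2
import Groth.Agent.Lib.Helper20PowKill
import Groth.Agent.Lib.Helper20SuppClosed
import Groth.Agent.S9517
import Groth.Agent.S9514
import Groth.Agent.Lib.Helper23FinTypeLocal

set_option autoImplicit false
universe u
open CategoryTheory CategoryTheory.Limits AlgebraicGeometry
attribute [local instance] HasDerivedCategory.standard
open Coherent

namespace Groth.Agent.S9515

open CategoryTheory CategoryTheory.Limits AlgebraicGeometry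
open Coherent
open Groth.Agent.Lib.LeadDeligne Groth.Agent.Lib.Helper17.GrSysCoh Groth.Agent.Lib.Helper23.Extend
  Groth.Agent.Lib.Helper23.QCohLocal Groth.Agent.Lib.Helper23.FinType

set_option linter.style.haveILetI false

attribute [local instance] restrictFunctor_isRightAdjoint

variable {X : Scheme.{u}}

/-- the graph of a morphism over an open, extended to `X`. -/
theorem exists_graph (F G : X.Modules) [F.IsQuasicoherent] [G.IsQuasicoherent] (U : X.Opens)
    [QuasiCompact U.ι]
    (φ : (Scheme.Modules.restrictFunctor U.ι).obj G ⟶ (Scheme.Modules.restrictFunctor U.ι).obj F) :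
    ∃ (H : X.Modules) (p₁ : H ⟶ G) (p₂ : H ⟶ F), H.IsQuasicoherent ∧ IsoOn p₁ U ∧
      (Scheme.Modules.restrictFunctor U.ι).map p₂ =
        (Scheme.Modules.restrictFunctor U.ι).map p₁ ≫ φ := by
  let j := U.ι
  let adj := Scheme.Modules.restrictAdjunction j
  let Rj := Scheme.Modules.restrictFunctor j
  let Pj := Scheme.Modules.pushforward j
  let η : F ⟶ Pj.obj (Rj.obj F) := adj.unit.app F
  let g : G ⟶ Pj.obj (Rj.obj F) := adj.homEquiv _ _ φ
  have : (Pj.obj (Rj.obj F)).IsQuasicoherent := isQuasicoherent_pushforward j (Rj.obj F)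
  have hpb : IsPullback (pullback.fst g η) (pullback.snd g η) g η := IsPullback.of_hasPullback _ _
  have hpb' := hpb.map Rj
  have htri : Rj.map η ≫ adj.counit.app (Rj.obj F) = 𝟙 _ := adj.left_triangle_components F
  have : IsIso (adj.counit.app (Rj.obj F)) := inferInstance
  have : IsIso (Rj.map η) := by
    have : Rj.map η = inv (adj.counit.app (Rj.obj F)) := IsIso.eq_inv_of_inv_hom_id htri
    rw [this]; infer_instance
  refine ⟨pullback g η, pullback.fst g η, pullback.snd g η, isQuasicoherent_pullback _ _, ?_, ?_⟩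
  · have : IsIso (Rj.map (pullback.fst g η)) := hpb'.isIso_fst_of_isIso
    rw [isIso_restrict_iff, Scheme.Opens.opensRange_ι] at this
    exact this
  · have hw : Rj.map (pullback.fst g η) ≫ Rj.map g = Rj.map (pullback.snd g η) ≫ Rj.map η := hpb'.w
    have hg : Rj.map g ≫ adj.counit.app (Rj.obj F) = φ := by
      have h1 := Adjunction.homEquiv_counit adj G (Rj.obj F) g
      rw [← h1]
      exact Equiv.symm_apply_apply _ _
    calc Rj.map (pullback.snd g η) = Rj.map (pullback.snd g η) ≫ Rj.map η ≫ adj.counit.app (Rj.obj F) := by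
          rw [htri, Category.comp_id]
      _ = Rj.map (pullback.fst g η) ≫ Rj.map g ≫ adj.counit.app (Rj.obj F) := by
          rw [← Category.assoc, ← hw, Category.assoc]
      _ = Rj.map (pullback.fst g η) ≫ φ := by rw [hg]

/-- if the restriction of `M` to `U` is zero then the stalks of `M` at the points of `U` vanish. -/
theorem stalk_subsingleton_of_isZero_restrict (M : X.Modules) (U : X.Opens)
    (h : IsZero ((Scheme.Modules.restrictFunctor U.ι).obj M)) (x : X) (hx : x ∈ U) :
    Subsingleton (M.presheaf.stalk x) := by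
  refine ⟨fun a b => ?_⟩
  have key : ∀ c : M.presheaf.stalk x, c = 0 := by
    intro c
    obtain ⟨W₀, hxW₀, m, rfl⟩ := M.presheaf.exists_germ_eq c
    let V' : (U : Scheme.{u}).Opens := U.ι ⁻¹ᵁ W₀
    have hsub : Subsingleton Γ((Scheme.Modules.restrictFunctor U.ι).obj M, V') :=
      Groth.Agent.Lib.Helper20.SuppClosed.subsingleton_sections_of_isZero h V'
    have hle : U.ι ''ᵁ V' ≤ W₀ := by
      rw [Scheme.Hom.image_preimage_eq_opensRange_inf]; exact inf_le_right
    have hxV : x ∈ U.ι ''ᵁ V' := by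
      rw [Scheme.Hom.image_preimage_eq_opensRange_inf, Scheme.Opens.opensRange_ι]
      exact ⟨hx, hxW₀⟩
    rw [← TopCat.Presheaf.germ_res_apply M.presheaf (homOfLE hle) x hxV m]
    have h0 : M.presheaf.map (homOfLE hle).op m = 0 :=
      hsub.elim (α := Γ((Scheme.Modules.restrictFunctor U.ι).obj M, V')) _ _
    rw [h0, map_zero]
  rw [key a, key b]

/-- kernel and cokernel of a morphism which is an isomorphism over `U` have their supports off `U`. -/
theorem isZero_restrict_kernel_cokernel {A B : X.Modules} (q : A ⟶ B) (U : X.Opens)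
    (hq : IsoOn q U) :
    IsZero ((Scheme.Modules.restrictFunctor U.ι).obj (kernel q)) ∧
      IsZero ((Scheme.Modules.restrictFunctor U.ι).obj (cokernel q)) := by
  let Rj := Scheme.Modules.restrictFunctor U.ι
  have hiso : IsIso (Rj.map q) := by
    rw [isIso_restrict_iff, Scheme.Opens.opensRange_ι]; exact hq
  constructor
  · have h1 : Rj.map (kernel.ι q) ≫ Rj.map q = 0 := by
      rw [← Rj.map_comp, kernel.condition, Rj.map_zero]
    have h2 : Rj.map (kernel.ι q) = 0 := by
      rw [← cancel_mono (Rj.map q), h1, zero_comp]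
    haveI : Mono (Rj.map (kernel.ι q)) := inferInstance
    exact IsZero.of_mono_eq_zero _ h2
  · have h1 : Rj.map q ≫ Rj.map (cokernel.π q) = 0 := by
      rw [← Rj.map_comp, cokernel.condition, Rj.map_zero]
    have h2 : Rj.map (cokernel.π q) = 0 := by
      rw [← cancel_epi (Rj.map q), h1, comp_zero]
    haveI : Epi (Rj.map (cokernel.π q)) := inferInstance
    exact IsZero.of_epi_eq_zero _ h2

theorem exists_pow_killedBy [IsNoetherian X] (M : X.Modules) [M.IsQuasicoherent]
    [SheafOfModules.IsFiniteType (R := X.ringCatSheaf) M] (I : X.IdealSheafData) (U : X.Opens)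
    (hU : (U : Set X) = (I.support : Set X)ᶜ)
    (h : IsZero ((Scheme.Modules.restrictFunctor U.ι).obj M)) :
    ∃ d : ℕ, ∀ (V : X.affineOpens) (a : Γ(X, V.1)), a ∈ I.ideal V ^ d →
      ∀ s : Γ(M, V.1), a • s = 0 := by
  refine Groth.Agent.Lib.Helper20.PowKill.exists_pow_smul_eq_zero M I (fun x hx => ?_)
  by_contra hxI
  have hxU : x ∈ (U : Set X) := by rw [hU]; exact hxI
  exact hx (stalk_subsingleton_of_isZero_restrict M U h x hxU)

theorem mono_comp_of_inf_eq_bot {C : Type*} [Category C] [Abelian C] {A H G : C} (a : A ⟶ H)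
    [Mono a] (p : H ⟶ G) (h : Subobject.mk a ⊓ Subobject.mk (kernel.ι p) = ⊥) : Mono (a ≫ p) := by
  apply Preadditive.mono_of_cancel_zero
  intro Z g hg
  have hf1 : (Subobject.mk a).Factors (g ≫ a) :=
    Subobject.factors_of_factors_right g (Subobject.mk_factors_self a)
  have hg' : (g ≫ a) ≫ p = 0 := by rw [Category.assoc]; exact hg
  have hf2 : (Subobject.mk (kernel.ι p)).Factors (g ≫ a) := by
    rw [← kernel.lift_ι p (g ≫ a) hg']
    exact Subobject.factors_of_factors_right _ (Subobject.mk_factors_self (kernel.ι p))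
  have hf3 : (Subobject.mk a ⊓ Subobject.mk (kernel.ι p)).Factors (g ≫ a) :=
    (Subobject.inf_factors _).2 ⟨hf1, hf2⟩
  rw [h, Subobject.bot_factors_iff_zero] at hf3
  exact (cancel_mono a).1 (hf3.trans zero_comp.symm)

/-- on an affine open, sections killed by the cokernel projection come from the source. -/
theorem exists_app_eq_of_cokernel_π_eq_zero {A B : X.Modules} [A.IsQuasicoherent]
    [B.IsQuasicoherent] (q : A ⟶ B) {V : X.Opens} (hV : IsAffineOpen V) (m : Γ(B, V))
    (h : (cokernel.π q).app V m = 0) : ∃ t : Γ(A, V), q.app V t = m := by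
  haveI : (cokernel q).IsQuasicoherent := isQuasicoherent_cokernel q
  haveI : (kernel (cokernel.π q)).IsQuasicoherent := isQuasicoherent_kernel (cokernel.π q)
  obtain ⟨s', hs'⟩ := exists_app_kernel_ι (cokernel.π q) V m h
  haveI : (Abelian.image q).IsQuasicoherent :=
    inferInstanceAs (kernel (cokernel.π q)).IsQuasicoherent
  obtain ⟨t, ht⟩ := surjective_app_of_epi (Abelian.factorThruImage q) hV s'
  refine ⟨t, ?_⟩
  have h1 : q = Abelian.factorThruImage q ≫ Abelian.image.ι q := (Abelian.image.fac q).symm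
  rw [h1, comp_app_apply, ht]
  exact hs'


/-- Let X be a Noetherian scheme, F a quasi-coherent O_X-module, G a coherent O_X-module and I a
quasi-coherent sheaf of ideals, with U the open complement of the closed subset cut out by I. For
every morphism φ : G|_U → F|_U there are an n ≥ 0 and a morphism ψ : I^n G → F whose restriction to
U is the restriction of the inclusion I^n G → G followed by φ. (Here I^n G ⊆ G is the submodule
sheaf Dual3.idealMul (I^n) G.) -/
theorem result (X : Scheme.{u}) [IsNoetherian X] (F G : X.Modules)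
    (hF : Coh.IsQCoh F) (hG : Coh.IsCoh G) (I : X.IdealSheafData)
    (U : X.Opens) (hU : (U : Set X) = (I.support : Set X)ᶜ)
    (φ : (Scheme.Modules.restrictFunctor U.ι).obj G ⟶
      (Scheme.Modules.restrictFunctor U.ι).obj F) :
    ∃ (n : ℕ) (ψ : (Dual3.idealMul (I ^ n)).obj G ⟶ F),
      (Scheme.Modules.restrictFunctor U.ι).map ψ =
        (Scheme.Modules.restrictFunctor U.ι).map (Dual3.idealMulι (I ^ n) G) ≫ φ := by
  haveI : F.IsQuasicoherent := hF
  haveI : G.IsQuasicoherent := hG.1
  haveI : SheafOfModules.IsFiniteType (R := X.ringCatSheaf) G := hG.2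
  haveI : QuasiCompact U.ι := inferInstance
  let Rj := Scheme.Modules.restrictFunctor U.ι
  obtain ⟨H, p₁, p₂, hHq, hp₁, hp₂⟩ := exists_graph F G U φ
  haveI := hHq
  have hUc : IsCompact (U : Set X) := TopologicalSpace.NoetherianSpace.isCompact _
  have hHft : FTOn H U := FTOn.of_isoOn p₁ hp₁ (fun W' hW' _ => finite_of_isFiniteType G hW')
  obtain ⟨H', ψ', hmono, hH'q, hH'ft, hψ'⟩ := exists_sub_isFiniteType H U hUc hHft
  haveI := hmono
  haveI := hH'q
  haveI := hH'ft
  obtain ⟨q₁, hq₁def⟩ : ∃ q₁ : H' ⟶ G, q₁ = ψ' ≫ p₁ := ⟨_, rfl⟩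
  obtain ⟨q₂, hq₂def⟩ : ∃ q₂ : H' ⟶ F, q₂ = ψ' ≫ p₂ := ⟨_, rfl⟩
  have hq₁ : IsoOn q₁ U := hq₁def ▸ hψ'.comp hp₁
  have hq₂ : Rj.map q₂ = Rj.map q₁ ≫ φ := by
    rw [hq₁def, hq₂def, Functor.map_comp, Functor.map_comp, Category.assoc]
    congr 1
  -- kernel and cokernel
  have hH'coh : Coh.IsCoh H' := ⟨hH'q, hH'ft⟩
  obtain ⟨hTcoh, hCcoh⟩ := Groth.Agent.S9514.result X hH'coh hG q₁
  haveI : (kernel q₁).IsQuasicoherent := hTcoh.1
  haveI : SheafOfModules.IsFiniteType (R := X.ringCatSheaf) (kernel q₁) := hTcoh.2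
  haveI : (cokernel q₁).IsQuasicoherent := hCcoh.1
  haveI : SheafOfModules.IsFiniteType (R := X.ringCatSheaf) (cokernel q₁) := hCcoh.2
  obtain ⟨hTz, hCz⟩ := isZero_restrict_kernel_cokernel q₁ U hq₁
  obtain ⟨d₁, hd₁⟩ := @exists_pow_killedBy X _ (kernel q₁) hTcoh.1 hTcoh.2 I U hU hTz
  obtain ⟨d₂, hd₂⟩ := @exists_pow_killedBy X _ (cokernel q₁) hCcoh.1 hCcoh.2 I U hU hCz
  -- Artin–Rees
  obtain ⟨c, hc⟩ := Groth.Agent.S9517.result X H' (kernel q₁) hH'coh hTcoh.1 (kernel.ι q₁) I
  obtain ⟨n, hn⟩ : ∃ n, n = c + d₁ := ⟨_, rfl⟩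
  have hnc : n - c = d₁ := by omega
  have hinf : Subobject.mk (Dual3.idealMulι (I ^ n) H') ⊓ Subobject.mk (kernel.ι q₁) = ⊥ := by
    rw [← hc n (by omega), hnc, Subobject.mk_eq_bot_iff_zero]
    set Q := Subobject.mk (Dual3.idealMulι (I ^ c) H') ⊓ Subobject.mk (kernel.ι q₁) with hQ
    haveI : ((Dual3.idealMul (I ^ c)).obj H').IsQuasicoherent := isQuasicoherent_idealMul _ _
    haveI : (Subobject.underlying.obj Q : X.Modules).IsQuasicoherent :=
      isQuasicoherent_inf (Dual3.idealMulι (I ^ c) H') (kernel.ι q₁)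
    haveI : ((Dual3.idealMul (I ^ d₁)).obj (Subobject.underlying.obj Q)).IsQuasicoherent :=
      isQuasicoherent_idealMul _ _
    refine Groth.Agent.Lib.Helper27EpiGen.hom_ext_of_affine_cover _ _
      (fun V : X.affineOpens => V.1) (fun V => V.2) (fun x => ?_) _ 0 (fun V s => ?_)
    · obtain ⟨V, hV, hxV, -⟩ := exists_isAffineOpen_mem_and_subset (x := x) (U := ⊤) trivial
      exact ⟨⟨V, hV⟩, hxV⟩
    · have hmem : (Dual3.idealMulι (I ^ d₁) (Subobject.underlying.obj Q) ≫ Q.arrow).app V.1 s ∈
          LinearMap.range (appL (Dual3.idealMulι (I ^ d₁) (Subobject.underlying.obj Q) ≫ Q.arrow) V.1) :=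
        ⟨s, rfl⟩
      rw [range_appL_idealMulι_comp] at hmem
      have hzero : ∀ y ∈ (I ^ d₁).ideal V • LinearMap.range (appL Q.arrow V.1), y = 0 := by
        intro y hy
        refine Submodule.smul_induction_on hy ?_ ?_
        · intro r hr y hy
          have hy' : y ∈ LinearMap.range (appL (kernel.ι q₁) V.1) := by
            have h1 := range_appL_inf_arrow (Dual3.idealMulι (I ^ c) H') (kernel.ι q₁) V.1
            rw [← hQ] at h1
            rw [h1] at hy
            exact hy.2
          obtain ⟨t, rfl⟩ := hy'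
          rw [appL_apply, ← Scheme.Modules.Hom.app_smul, hd₁ V r hr t, map_zero]
        · intro x y hx hy
          rw [hx, hy, add_zero]
      rw [hzero _ hmem]
      exact (zero_app_apply V.1 s).symm
  haveI hbmono : Mono (Dual3.idealMulι (I ^ n) H' ≫ q₁) := mono_comp_of_inf_eq_bot _ _ hinf
  haveI : ((Dual3.idealMul (I ^ (n + d₂))).obj G).IsQuasicoherent := isQuasicoherent_idealMul _ _
  -- factor
  obtain ⟨k, hk⟩ := exists_factor_of_sections (Dual3.idealMulι (I ^ (n + d₂)) G)
    (Dual3.idealMulι (I ^ n) H' ≫ q₁) (fun V : X.affineOpens => V.1) (fun V => V.2)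
    (fun x => by
      obtain ⟨V, hV, hxV, -⟩ := exists_isAffineOpen_mem_and_subset (x := x) (U := ⊤) trivial
      exact ⟨⟨V, hV⟩, hxV⟩)
    (fun V s => by
      have hmem : (Dual3.idealMulι (I ^ (n + d₂)) G).app V.1 s ∈
          LinearMap.range (appL (Dual3.idealMulι (I ^ (n + d₂)) G) V.1) := ⟨s, rfl⟩
      rw [range_appL_idealMulι] at hmem
      have hle : (I ^ (n + d₂)).ideal V • (⊤ : Submodule Γ(X, V.1) Γ(G, V.1)) ≤
          LinearMap.range (appL (Dual3.idealMulι (I ^ n) H' ≫ q₁) V.1) := by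
        rw [range_appL_idealMulι_comp]
        have e1 : (I ^ (n + d₂)).ideal V = (I ^ n).ideal V * (I.ideal V) ^ d₂ := by
          change (I.ideal V) ^ (n + d₂) = (I.ideal V) ^ n * (I.ideal V) ^ d₂
          exact pow_add _ _ _
        rw [e1, Submodule.mul_smul]
        refine Submodule.smul_mono le_rfl ?_
        rw [Submodule.smul_le]
        intro r hr m _
        have h0 : (cokernel.π q₁).app V.1 (r • m) = 0 := by
          rw [Scheme.Modules.Hom.app_smul]
          exact hd₂ V r hr _
        obtain ⟨t, ht⟩ := exists_app_eq_of_cokernel_π_eq_zero q₁ V.2 (r • m) h0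
        exact ⟨t, ht⟩
      obtain ⟨t, ht⟩ := hle hmem
      exact ⟨t, ht⟩)
  refine ⟨n + d₂, k ≫ Dual3.idealMulι (I ^ n) H' ≫ q₂, ?_⟩
  rw [Functor.map_comp, Functor.map_comp, hq₂, ← hk, Functor.map_comp, Functor.map_comp,
    Category.assoc, Category.assoc]

end Groth.Agent.S9515
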