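import Groth.Statements.S9516
import Mathlib
import Groth.Agent.Lib.LeadDeligne3

set_option autoImplicit false
universe u
open CategoryTheory CategoryTheory.Limits AlgebraicGeometry
attribute [local instance] HasDerivedCategory.standard
open Coherent

namespace Groth.Agent.S9516
open Groth.Agent.Lib.LeadDeligne Groth.Agent.Lib.Helper17.GrSysCoh

/-- Let X be a Noetherian scheme, F a quasi-coherent O_X-module, G a coherent O_X-module and I a
quasi-coherent sheaf of ideals, with U the open complement of the closed subset cut out by I. If a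
morphism ψ : I^n G → F restricts to zero on U, then ψ vanishes on I^N G for some N: there is a
morphism ι : I^N G → I^n G commuting with the inclusions into G and with ι ≫ ψ = 0. (Together with
the surjectivity statement this says that colim_n Hom(I^n G, F) → Hom(G|_U, F|_U) is bijective.) -/
theorem result (X : Scheme.{u}) [IsNoetherian X] (F G : X.Modules)
    (hF : Coh.IsQCoh F) (hG : Coh.IsCoh G) (I : X.IdealSheafData)
    (U : X.Opens) (hU : (U : Set X) = (I.support : Set X)ᶜ) (n : ℕ)
    (ψ : (Dual3.idealMul (I ^ n)).obj G ⟶ F)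
    (hψ : (Scheme.Modules.restrictFunctor U.ι).map ψ = 0) :
    ∃ (N : ℕ) (ι : (Dual3.idealMul (I ^ N)).obj G ⟶ (Dual3.idealMul (I ^ n)).obj G),
      ι ≫ Dual3.idealMulι (I ^ n) G = Dual3.idealMulι (I ^ N) G ∧ ι ≫ ψ = 0 := by
  classical
  haveI : F.IsQuasicoherent := hF
  haveI : G.IsQuasicoherent := hG.1
  haveI : SheafOfModules.IsFiniteType (R := X.ringCatSheaf) G := hG.2
  haveI : CompactSpace X := inferInstance
  have hP : Coh.IsCoh ((Dual3.idealMul (I ^ n)).obj G) :=
    Groth.Agent.Lib.Helper4.Dev.isCoh_idealMul (I ^ n) G hG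
  haveI : ((Dual3.idealMul (I ^ n)).obj G).IsQuasicoherent := hP.1
  haveI : SheafOfModules.IsFiniteType (R := X.ringCatSheaf) ((Dual3.idealMul (I ^ n)).obj G) := hP.2
  obtain ⟨S, hS⟩ := Groth.Agent.Lib.Helper4.Dev.exists_finset_affine_cover (X := X)
  have hkill := fun V : X.affineOpens => exists_pow_smul_range_eq_bot I U hU ψ hψ V
  choose m hm using hkill
  obtain ⟨ι, hι⟩ := exists_idealMul_le I G (Nat.le_add_right n (S.sup m))
  refine ⟨n + S.sup m, ι, hι, ?_⟩
  haveI := isQuasicoherent_idealMul (I ^ (n + S.sup m)) G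
  have hcov : ∀ x : X, ∃ i : S, x ∈ (i.1.1 : X.Opens) := by
    intro x
    obtain ⟨V, hV, hx⟩ := hS x
    exact ⟨⟨V, hV⟩, hx⟩
  refine Groth.Agent.Lib.Helper27EpiGen.hom_ext_of_affine_cover _ _ (fun i : S => (i.1.1 : X.Opens))
    (fun i => i.1.2) hcov _ 0 (fun i t => ?_)
  rw [comp_app_apply]
  have h1 := app_mem_pow_smul_top I G n (S.sup m) ι hι i.1 t
  have h2 : ψ.app i.1.1 (ι.app i.1.1 t) ∈
      ((I.ideal i.1) ^ (S.sup m) •
        (⊤ : Submodule Γ(X, i.1.1) Γ((Dual3.idealMul (I ^ n)).obj G, i.1.1))).map (appL ψ i.1.1) :=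
    ⟨_, h1, rfl⟩
  rw [Submodule.map_smul'', Submodule.map_top] at h2
  have h3 : (I.ideal i.1) ^ (S.sup m) • LinearMap.range (appL ψ i.1.1) ≤ ⊥ := by
    rw [← hm i.1]
    exact Submodule.smul_mono_left (Ideal.pow_le_pow_right (Finset.le_sup i.2))
  have h4 := h3 h2
  rw [Submodule.mem_bot] at h4
  rw [h4]
  exact (zero_app_apply _ t).symm

end Groth.Agent.S9516
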