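import Groth.Statements.S9525
import Groth.Agent.Lib.Helper4DevE
import Groth.Agent.Lib.Helper17MV9
import Groth.Agent.Lib.Helper17FinLoc

set_option autoImplicit false
universe u
open Coherent

namespace Groth.Agent.S9525

section aux
open CategoryTheory CategoryTheory.Limits AlgebraicGeometry Groth.Agent.Lib.Helper4.Dev

attribute [local instance] Groth.Agent.Lib.Helper17.FinLoc.preservesFiniteLimits_restrictFunctor
  Groth.Agent.Lib.Helper17.FinLoc.preservesFiniteColimits_restrictFunctor

variable {X : Scheme.{u}} [IsLocallyNoetherian X]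

/-- the open complement of the supports of two coherent modules -/
noncomputable def complOpen (K C : X.Modules) (hK : Coh.IsCoh K) (hC : Coh.IsCoh C) : X.Opens :=
  ⟨(CohB1.support K ∪ CohB1.support C)ᶜ,
    ((isClosed_support K hK).union (isClosed_support C hC)).isOpen_compl⟩

theorem mem_complOpen (K C : X.Modules) (hK : Coh.IsCoh K) (hC : Coh.IsCoh C) (x : X)
    (h1 : Subsingleton (K.presheaf.stalk x)) (h2 : Subsingleton (C.presheaf.stalk x)) :
    x ∈ complOpen K C hK hC := by
  rintro (h | h)
  · exact h h1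
  · exact h h2

theorem isZero_left (K C : X.Modules) (hK : Coh.IsCoh K) (hC : Coh.IsCoh C) :
    IsZero ((Scheme.Modules.restrictFunctor (complOpen K C hK hC).ι).obj K) :=
  Groth.Agent.Lib.Helper17.MV.isZero_restrict_of_support K _ (CohB1.support K) le_rfl
    (Set.disjoint_left.2 fun y hy hy' => hy (Or.inl hy'))

theorem isZero_right (K C : X.Modules) (hK : Coh.IsCoh K) (hC : Coh.IsCoh C) :
    IsZero ((Scheme.Modules.restrictFunctor (complOpen K C hK hC).ι).obj C) :=
  Groth.Agent.Lib.Helper17.MV.isZero_restrict_of_support C _ (CohB1.support C) le_rfl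
    (Set.disjoint_left.2 fun y hy hy' => hy (Or.inr hy'))

theorem subsingleton_kernel_stalk {F G : X.Modules} (φ : G ⟶ F) (x : X)
    (h : Function.Injective (stalkL φ x)) :
    Subsingleton ((kernel φ).presheaf.stalk x) := by
  refine ⟨fun a b => ?_⟩
  apply stalkL_injective_of_mono (kernel.ι φ) x
  apply h
  rw [← stalkL_comp_apply, ← stalkL_comp_apply, kernel.condition, stalkL_zero]
  rfl

theorem subsingleton_cokernel_stalk {F G : X.Modules} (φ : G ⟶ F) (x : X)
    (h : Function.Surjective (stalkL φ x)) :
    Subsingleton ((cokernel φ).presheaf.stalk x) := by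
  have h0 : ∀ c : (cokernel φ).presheaf.stalk x, c = 0 := by
    intro c
    obtain ⟨f, rfl⟩ := stalkL_surjective_of_epi (cokernel.π φ) x c
    obtain ⟨g, rfl⟩ := h f
    rw [← stalkL_comp_apply, cokernel.condition, stalkL_zero]
    rfl
  exact ⟨fun a b => by rw [h0 a, h0 b]⟩

theorem mono_restrict_of_isZero {F G : X.Modules} (φ : G ⟶ F) (U : X.Opens)
    (h : IsZero ((Scheme.Modules.restrictFunctor U.ι).obj (kernel φ))) :
    Mono ((Scheme.Modules.restrictFunctor U.ι).map φ) := by
  apply Preadditive.mono_of_isZero_kernel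
  exact h.of_iso (PreservesKernel.iso (Scheme.Modules.restrictFunctor U.ι) φ).symm

theorem epi_restrict_of_isZero {F G : X.Modules} (φ : G ⟶ F) (U : X.Opens)
    (h : IsZero ((Scheme.Modules.restrictFunctor U.ι).obj (cokernel φ))) :
    Epi ((Scheme.Modules.restrictFunctor U.ι).map φ) := by
  apply Preadditive.epi_of_isZero_cokernel
  exact h.of_iso (PreservesCokernel.iso (Scheme.Modules.restrictFunctor U.ι) φ).symm

end aux

open CategoryTheory CategoryTheory.Limits AlgebraicGeometry in
/-- Let X be a locally Noetherian scheme, F and G coherent O_X-modules, φ : G → F a morphism and x ∈ X.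
(1) If F_x = 0 there is an open neighbourhood U of x with F|_U = 0. (2) If the stalk map φ_x : G_x →
F_x is injective there is an open neighbourhood U of x with φ|_U injective. (4) If φ_x is bijective
there is an open neighbourhood U of x with φ|_U an isomorphism. (Part (3), surjectivity, is the
finite-type statement valid on any ringed space and is not restated.) -/
theorem result (X : Scheme.{u}) [IsLocallyNoetherian X]
    (F G : X.Modules) (hF : Coh.IsCoh F) (hG : Coh.IsCoh G) (φ : G ⟶ F) (x : X) :
    (Subsingleton ↑(F.presheaf.stalk x) →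
      ∃ U : X.Opens, x ∈ U ∧ IsZero ((Scheme.Modules.restrictFunctor U.ι).obj F)) ∧
    (Function.Injective ((TopCat.Presheaf.stalkFunctor _ x).map φ.mapPresheaf).hom →
      ∃ U : X.Opens, x ∈ U ∧ Mono ((Scheme.Modules.restrictFunctor U.ι).map φ)) ∧
    (Function.Bijective ((TopCat.Presheaf.stalkFunctor _ x).map φ.mapPresheaf).hom →
      ∃ U : X.Opens, x ∈ U ∧ IsIso ((Scheme.Modules.restrictFunctor U.ι).map φ)) := by
  refine ⟨fun h => ?_, fun h => ?_, fun h => ?_⟩
  · exact ⟨complOpen F F hF hF, mem_complOpen F F hF hF x h h, isZero_left F F hF hF⟩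
  · have hK : Coh.IsCoh (kernel φ) := Groth.Agent.Lib.Helper4.Dev.isCoh_kernel φ hG hF
    have h1 := subsingleton_kernel_stalk φ x h
    exact ⟨complOpen (kernel φ) (kernel φ) hK hK, mem_complOpen _ _ hK hK x h1 h1,
      mono_restrict_of_isZero φ _ (isZero_left _ _ hK hK)⟩
  · have hK : Coh.IsCoh (kernel φ) := Groth.Agent.Lib.Helper4.Dev.isCoh_kernel φ hG hF
    have hC : Coh.IsCoh (cokernel φ) := Groth.Agent.Lib.Helper4.Dev.isCoh_cokernel φ hG hF
    have h1 := subsingleton_kernel_stalk φ x h.1
    have h2 := subsingleton_cokernel_stalk φ x h.2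
    refine ⟨complOpen (kernel φ) (cokernel φ) hK hC, mem_complOpen _ _ hK hC x h1 h2, ?_⟩
    haveI := mono_restrict_of_isZero φ _ (isZero_left _ _ hK hC)
    haveI := epi_restrict_of_isZero φ _ (isZero_right _ _ hK hC)
    exact isIso_of_mono_of_epi _

end Groth.Agent.S9525
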