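import Groth.Statements.S9526
import Mathlib
import Groth.Agent.Lib.Helper28HomShSec
import Groth.Agent.Lib.Helper23FinType2

set_option autoImplicit false
universe u
open Coherent

namespace Groth.Agent.S9526

open CategoryTheory CategoryTheory.Limits AlgebraicGeometry TopologicalSpace Opposite
open Groth.Agent.Lib.Helper28.HomSh Groth.Agent.Lib.Helper6 Groth.Agent.Lib.Helper23.FinType

variable {X : Scheme.{u}}

/-- the morphism `G|_U ⟶ F|_U` defined by a section of the sheaf Hom over `U`. -/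
noncomputable def homOfSec (G F : X.Modules) (U : X.Opens) (g : Γ(RefHull.homSh G F, U)) :
    (Scheme.Modules.restrictFunctor U.ι).obj G ⟶ (Scheme.Modules.restrictFunctor U.ι).obj F :=
  ⟨PresheafOfModules.homMk
    { app := fun V => AddCommGrpCat.ofHom
        (secHom G F (U.ι ''ᵁ V.unop)
          (res (RefHull.homSh G F) (U.ι_image_le V.unop) g)).toAddMonoidHom
      naturality := fun V W i => by
        ext m
        have hVW : U.ι ''ᵁ W.unop ≤ U.ι ''ᵁ V.unop := Scheme.Hom.image_mono _ (leOfHom i.unop)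
        let m' : Γ(G, U.ι ''ᵁ V.unop) := m
        change secHom G F (U.ι ''ᵁ unop W) (res _ (U.ι_image_le W.unop) g) (res G hVW m') =
          res F hVW (secHom G F (U.ι ''ᵁ unop V) (res _ (U.ι_image_le V.unop) g) m')
        rw [res_secHom, res_res] }
    (fun V r m => by
      let m' : Γ(G, U.ι ''ᵁ V.unop) := m
      change secHom G F (U.ι ''ᵁ unop V) (res _ (U.ι_image_le V.unop) g)
          ((U.ι.appIso V.unop).inv r • m') =
        (U.ι.appIso V.unop).inv r • secHom G F (U.ι ''ᵁ unop V) (res _ (U.ι_image_le V.unop) g) m'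
      rw [map_smul])⟩

theorem homOfSec_app (G F : X.Modules) (U : X.Opens) (g : Γ(RefHull.homSh G F, U))
    (V : (U : Scheme.{u}).Opens) (m : Γ(G, U.ι ''ᵁ V)) :
    ((homOfSec G F U g).app V).hom m =
      secHom G F (U.ι ''ᵁ V) (res (RefHull.homSh G F) (U.ι_image_le V) g) m := rfl



open CategoryTheory CategoryTheory.Limits AlgebraicGeometry in
/-- Let X be a locally Noetherian scheme, F and G coherent O_X-modules, x ∈ X and ψ : G_x → F_x an
O_{X,x}-linear map. Then there are an open neighbourhood U of x and a morphism φ : G|_U → F|_U with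
φ_x = ψ (the stalk map of φ at x, composed with the canonical identifications of the stalks of G|_U
and F|_U at x with G_x and F_x, is ψ). -/
theorem result (X : Scheme.{u}) [IsLocallyNoetherian X]
    (F G : X.Modules) (hF : Coh.IsCoh F) (hG : Coh.IsCoh G) (x : X)
    (ψ : ↑(G.presheaf.stalk x) →ₗ[X.presheaf.stalk x] ↑(F.presheaf.stalk x)) :
    ∃ (U : X.Opens) (hx : x ∈ U)
      (φ : (Scheme.Modules.restrictFunctor U.ι).obj G ⟶ (Scheme.Modules.restrictFunctor U.ι).obj F),
      (Scheme.Modules.restrictStalkNatIso U.ι (⟨x, hx⟩ : U)).inv.app G ≫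
          (TopCat.Presheaf.stalkFunctor _ (⟨x, hx⟩ : U)).map φ.mapPresheaf ≫
            (Scheme.Modules.restrictStalkNatIso U.ι (⟨x, hx⟩ : U)).hom.app F =
        AddCommGrpCat.ofHom ψ.toAddMonoidHom := by
  haveI : G.IsQuasicoherent := hG.1
  haveI : SheafOfModules.IsFiniteType (R := X.ringCatSheaf) G := hG.2
  obtain ⟨W, hW, hxW⟩ : ∃ W : X.Opens, IsAffineOpen W ∧ x ∈ W := by
    obtain ⟨W, hW, hxW, -⟩ := TopologicalSpace.Opens.isBasis_iff_nbhd.mp X.isBasis_affineOpens
      (show x ∈ (⊤ : X.Opens) from trivial)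
    exact ⟨W, hW, hxW⟩
  haveI : IsNoetherianRing Γ(X, W) := IsLocallyNoetherian.component_noetherian ⟨W, hW⟩
  haveI : Module.Finite Γ(X, W) Γ(G, W) := finite_of_isFiniteType G hW
  haveI : Module.FinitePresentation Γ(X, W) Γ(G, W) := Module.finitePresentation_of_finite _ _
  obtain ⟨θ, hθ⟩ := (evalStalk_bijective_of_finitePresentation G F hW x hxW).2 ψ
  obtain ⟨(U : X.Opens), hxU, g, rfl⟩ :=
    TopCat.Presheaf.exists_germ_eq (RefHull.homSh G F).presheaf θ
  rw [RefHull.evalStalk_germ] at hθ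
  refine ⟨U, hxU, homOfSec G F U g, ?_⟩
  ext (θ : G.presheaf.stalk x)
  set θ' := ((Scheme.Modules.restrictStalkNatIso U.ι (⟨x, hxU⟩ : U)).inv.app G).hom θ with hθ'
  obtain ⟨V, hxV, t, ht⟩ := TopCat.Presheaf.exists_germ_eq
    ((Scheme.Modules.restrictFunctor U.ι).obj G).presheaf θ'
  have hxV' : x ∈ U.ι ''ᵁ V := ⟨⟨x, hxU⟩, hxV, rfl⟩
  have e1 : θ = G.presheaf.germ (U.ι ''ᵁ V) x hxV' (t : Γ(G, U.ι ''ᵁ V)) := by
    have h1 := Scheme.Modules.germ_restrictStalkNatIso_hom_app U.ι (⟨x, hxU⟩ : U) G hxV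
    have h2 := congrArg (fun k => k.hom t) h1
    simp only [AddCommGrpCat.hom_comp, AddMonoidHom.coe_comp, Function.comp_apply] at h2
    rw [ht, hθ'] at h2
    refine Eq.trans ?_ h2
    change θ = ((Scheme.Modules.restrictStalkNatIso U.ι (⟨x, hxU⟩ : U)).inv.app G ≫
      (Scheme.Modules.restrictStalkNatIso U.ι (⟨x, hxU⟩ : U)).hom.app G).hom θ
    rw [← NatTrans.comp_app, Iso.inv_hom_id]
    rfl
  change ((Scheme.Modules.restrictStalkNatIso U.ι (⟨x, hxU⟩ : U)).hom.app F).hom
      (((TopCat.Presheaf.stalkFunctor Ab.{u} (⟨x, hxU⟩ : U)).map (homOfSec G F U g).mapPresheaf).hom θ') = ψ θ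
  rw [← ht, TopCat.Presheaf.stalkFunctor_map_germ_apply]
  have h3 := Scheme.Modules.germ_restrictStalkNatIso_hom_app U.ι (⟨x, hxU⟩ : U) F hxV
  have h4 := congrArg (fun k => k.hom (((homOfSec G F U g).app V).hom t)) h3
  simp only [AddCommGrpCat.hom_comp, AddMonoidHom.coe_comp, Function.comp_apply] at h4
  refine h4.trans ?_
  rw [homOfSec_app]
  refine (germ_secHom G F (U.ι ''ᵁ V) (res (RefHull.homSh G F) (U.ι_image_le V) g) t x hxV').trans ?_
  rw [res_homSh_apply, ← e1, ← hθ]

end Groth.Agent.S9526
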