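import Groth.Statements.S9531
import Groth.Agent.Lib.LeadProIso2

set_option autoImplicit false
universe u
open CategoryTheory CategoryTheory.Limits AlgebraicGeometry Opposite
open Algz

namespace Groth.Agent.S9531

/-- Let A be a Noetherian ring, I ⊆ 𝔞 ideals, U = Spec A ∖ V(𝔞), and take (F_n) in Coh(U, I O_U).
Suppose (F_n) extends canonically to Spec A; then (F_n) extends to Spec A: there is an object of
Coh(Spec A, I O) whose restriction to U is isomorphic to (F_n). (Spec A is regarded over itself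
through the identity.) -/
theorem result (A : Type u) [CommRing A] [IsNoetherianRing A] (I 𝔞 : Ideal A) (hI𝔞 : I ≤ 𝔞)
    (G : ℕᵒᵖ ⥤ (↑(LocCoh.puncturedOpen A 𝔞) : Scheme.{u}).Modules) (hG : Formal.IsCohFormal I G)
    (h : Algz.CanonicallyExtends A I (LocCoh.puncturedOpen A 𝔞) G) :
    @Algz.Extends A _ (Spec (CommRingCat.of A)) ⟨𝟙 (Spec (CommRingCat.of A))⟩ I (LocCoh.puncturedOpen A 𝔞) G := by
  letI ovX : (Spec (CommRingCat.of A)).Over (Spec (CommRingCat.of A)) := ⟨𝟙 _⟩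
  obtain ⟨G', hG', hpro⟩ := h
  refine ⟨G', hG', ?_⟩
  haveI : QuasiCompact (LocCoh.puncturedOpen A 𝔞).ι := inferInstance
  have hq : ∀ j, (G.obj j).IsQuasicoherent := fun j => (hG.1 (unop j)).1
  obtain ⟨m, hm, hm', hdata⟩ := Groth.Agent.Lib.LeadProIso.exists_proData hpro
  have hf : (LocCoh.puncturedOpen A 𝔞).ι ≫
      ((Spec (CommRingCat.of A)) ↘ (Spec (CommRingCat.of A))) =
      ((LocCoh.puncturedOpen A 𝔞 : Scheme.{u}) ↘ Spec (CommRingCat.of A)) := Category.comp_id _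
  have h1 := (hdata.comp (Scheme.Modules.restrictFunctor (LocCoh.puncturedOpen A 𝔞).ι)).iso_left
    (Groth.Agent.Lib.LeadProIso.sectSysRestrictIso A (LocCoh.puncturedOpen A 𝔞) G hq)
  have h2 := h1.iso_right (Functor.isoWhiskerLeft G'
    (Scheme.Modules.restrictFunctorIsoPullback (LocCoh.puncturedOpen A 𝔞).ι))
  obtain ⟨e⟩ := Groth.Agent.Lib.LeadProIso.nonempty_iso_of_proData
    (Groth.Agent.Lib.Helper27FormalKer.hyp_of_isCohFormal hG)
    (Groth.Agent.Lib.LeadProIso.hyp_comp_pullback (LocCoh.puncturedOpen A 𝔞).ι hf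
      (Groth.Agent.Lib.Helper27FormalKer.hyp_of_isCohFormal hG')) hm hm' h2
  exact ⟨Functor.isoWhiskerLeft G'
    (Scheme.Modules.restrictFunctorIsoPullback (LocCoh.puncturedOpen A 𝔞).ι) ≪≫ e.symm⟩

end Groth.Agent.S9531
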