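import Groth.Statements.S9535
import Mathlib
import Groth.Agent.Lib.Helper27ComplFunctor
import Groth.Agent.Lib.Helper27ExistProj
import Groth.Agent.Lib.Helper23Restr2
import Groth.Agent.Lib.Helper23TensorUnit
import Groth.Agent.Lib.Helper20FormalPull
import Groth.Agent.Lib.Helper27FibreStalk

set_option autoImplicit false
universe u
open CategoryTheory CategoryTheory.Limits AlgebraicGeometry Opposite
open Algz

namespace Groth.Agent.S9535

/-- (6) ⇒ (2): Let A be a Noetherian ring complete for the I-adic topology, I ⊆ 𝔞 ideals, U = Spec A ∖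
V(𝔞) and (F_n) an object of Coh(U, I O_U). If (F_n) extends to Spec A, then (F_n) is isomorphic to
the completion of a coherent O_U-module. -/
theorem result (A : Type u) [CommRing A] [IsNoetherianRing A] (I 𝔞 : Ideal A) (hI𝔞 : I ≤ 𝔞)
    (G : ℕᵒᵖ ⥤ (↑(LocCoh.puncturedOpen A 𝔞) : Scheme.{u}).Modules) (hG : Formal.IsCohFormal I G) [IsAdicComplete I A]
    (h : @Algz.Extends A _ (Spec (CommRingCat.of A)) ⟨𝟙 (Spec (CommRingCat.of A))⟩ I (LocCoh.puncturedOpen A 𝔞) G) :
    ∃ F : (↑(LocCoh.puncturedOpen A 𝔞) : Scheme.{u}).Modules, Coh.IsCoh F ∧ Nonempty (Formal.completion I F ≅ G) := by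
  obtain ⟨G', hG', ⟨e⟩⟩ := h
  letI ovX : (Spec (CommRingCat.of A)).Over (Spec (CommRingCat.of A)) := ⟨𝟙 _⟩
  haveI : IsProper ((Spec (CommRingCat.of A)) ↘ (Spec (CommRingCat.of A))) := by
    change IsProper (𝟙 _)
    infer_instance
  have hL : CohB1.IsAmple (Coh.structureModule (Spec (CommRingCat.of A))) :=
    Groth.Agent.Lib.Helper23.SecTw.isAmple_of_isQuasiAffine _
      (Groth.Agent.Lib.Helper23.TensorUnit.isInvertible_structureModule _)
  obtain ⟨M', hM', ⟨θ⟩⟩ := Groth.Agent.Lib.Helper27ExistProj.exists_algebraization I _ hL G' hG'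
  have hf : (LocCoh.puncturedOpen A 𝔞).ι ≫
      ((Spec (CommRingCat.of A)) ↘ (Spec (CommRingCat.of A))) =
      ((LocCoh.puncturedOpen A 𝔞 : Scheme.{u}) ↘ Spec (CommRingCat.of A)) := Category.comp_id _
  have hΦ := Groth.Agent.Lib.Helper20.FormalPull.pullback_map_smulMod
    (LocCoh.puncturedOpen A 𝔞).ι hf
  refine ⟨(Scheme.Modules.pullback (LocCoh.puncturedOpen A 𝔞).ι).obj M',
    Groth.Agent.Lib.Helper27FibreStalk.isCoh_pullback _ M' hM', ⟨?_⟩⟩
  exact Groth.Agent.Lib.Helper27ComplFunctor.complIso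
      (Scheme.Modules.pullback (LocCoh.puncturedOpen A 𝔞).ι) hΦ I
      (IsNoetherian.noetherian I) M' ≪≫
    Functor.isoWhiskerRight θ _ ≪≫
    Functor.isoWhiskerLeft G'
      (Scheme.Modules.restrictFunctorIsoPullback (LocCoh.puncturedOpen A 𝔞).ι).symm ≪≫ e

end Groth.Agent.S9535
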