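import Groth.Statements.S9536
import Mathlib
import Groth.Agent.Lib.Helper27ComplFunctor
import Groth.Agent.Lib.Helper27ComplMap
import Groth.Agent.S2269
import Groth.Agent.Lib.Helper20FormalPull
import Groth.Agent.Lib.Helper23FinType2

set_option autoImplicit false
universe u
open CategoryTheory CategoryTheory.Limits AlgebraicGeometry Opposite
open Algz

namespace Groth.Agent.S9536

/-- (2) ⇒ (6): Let A be a Noetherian ring, I ⊆ 𝔞 ideals, U = Spec A ∖ V(𝔞) and (F_n) an object of Coh(U,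
I O_U). If (F_n) is isomorphic to the completion of a coherent O_U-module, then (F_n) extends to
Spec A. -/
theorem result (A : Type u) [CommRing A] [IsNoetherianRing A] (I 𝔞 : Ideal A) (hI𝔞 : I ≤ 𝔞)
    (G : ℕᵒᵖ ⥤ (↑(LocCoh.puncturedOpen A 𝔞) : Scheme.{u}).Modules) (hG : Formal.IsCohFormal I G)
    (F : (↑(LocCoh.puncturedOpen A 𝔞) : Scheme.{u}).Modules) (hF : Coh.IsCoh F) (e : Formal.completion I F ≅ G) :
    @Algz.Extends A _ (Spec (CommRingCat.of A)) ⟨𝟙 (Spec (CommRingCat.of A))⟩ I (LocCoh.puncturedOpen A 𝔞) G := by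
  letI ovX : (Spec (CommRingCat.of A)).Over (Spec (CommRingCat.of A)) := ⟨𝟙 _⟩
  obtain ⟨N, hN, ⟨φ⟩⟩ :=
    (Groth.Agent.S2269.aux (CommRingCat.of A) (LocCoh.puncturedOpen A 𝔞) F).1 hF
  have hcoh : Coh.IsCoh (tilde N) :=
    ⟨inferInstance, (Groth.Agent.Lib.Helper23.FinType.isFiniteType_tilde_iff _ N).2 hN⟩
  refine ⟨Formal.completion I (tilde N),
    Groth.Agent.Lib.Helper27ComplMap.isCohFormal_completion I _ hcoh, ⟨?_⟩⟩
  have hf : (LocCoh.puncturedOpen A 𝔞).ι ≫
      ((Spec (CommRingCat.of A)) ↘ (Spec (CommRingCat.of A))) =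
      ((LocCoh.puncturedOpen A 𝔞 : Scheme.{u}) ↘ Spec (CommRingCat.of A)) := Category.comp_id _
  have hΦ := Groth.Agent.Lib.Helper20.FormalPull.pullback_map_smulMod
    (LocCoh.puncturedOpen A 𝔞).ι hf
  exact Functor.isoWhiskerLeft _
      (Scheme.Modules.restrictFunctorIsoPullback (LocCoh.puncturedOpen A 𝔞).ι) ≪≫
    (Groth.Agent.Lib.Helper27ComplFunctor.complIso
      (Scheme.Modules.pullback (LocCoh.puncturedOpen A 𝔞).ι) hΦ I
      (IsNoetherian.noetherian I) (tilde N)).symm ≪≫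
    Groth.Agent.Lib.Helper27ComplMap.complMapIso I
      (((Scheme.Modules.restrictFunctorIsoPullback (LocCoh.puncturedOpen A 𝔞).ι).app
        (tilde N)).symm ≪≫ φ.symm) ≪≫ e

end Groth.Agent.S9536
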