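import Groth.Statements.S9557
import Groth.Agent.Lib.Helper20EtSections2

set_option autoImplicit false
universe u
open EtLocal

namespace Groth.Agent.S9557

open AlgebraicGeometry CategoryTheory Limits in
/-- Let f : X ⟶ S be any morphism of schemes, s a point of S and x_1, …, x_n pairwise distinct points of
X over s such that f is étale at each x_i (the restriction of f to some open neighbourhood of x_i is
étale). Then there are an étale morphism g : U ⟶ S, a point u of U over s and finitely many opens
V_k of X_U = X ×_S U, each labelled by one of the x_i, such that (1) each V_k ⟶ U is an isomorphism,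
(2) no point of X_U over u lies in two different V_k, and (3) every point of X_U over u mapping to
x_i lies in some V_k labelled by x_i. -/
theorem result {X S : Scheme.{u}} (f : X ⟶ S) (s : S)
    {ι : Type} [Finite ι] (x : ι → ↑X) (hinj : Function.Injective x) (hs : ∀ i, f (x i) = s)
    (hx : ∀ i, ∃ W : X.Opens, x i ∈ W ∧ Etale (W.ι ≫ f)) :
    ∃ (U : Scheme.{u}) (g : U ⟶ S) (u : U), Etale g ∧ g u = s ∧
      ∃ (K : Type) (_ : Finite K) (lab : K → ι) (V : K → (pullback f g).Opens),
        (∀ k, IsIso ((V k).ι ≫ pullback.snd f g)) ∧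
        (∀ (k k' : K) (w : ↑(pullback f g)), w ∈ V k → w ∈ V k' → pullback.snd f g w = u → k = k') ∧
        (∀ (w : ↑(pullback f g)) (i : ι), pullback.snd f g w = u → pullback.fst f g w = x i →
          ∃ k, lab k = i ∧ w ∈ V k) := by
  have hT : (Set.range x).Finite := Set.finite_range x
  obtain ⟨U, g, u, hg, hu, K, hK, lab, V, a1, a2, a3, a4⟩ :=
    Groth.Agent.Lib.Helper20.EtSections.hasSections_of_finite f s (Set.range x) hT (by
      rintro _ ⟨i, rfl⟩
      obtain ⟨W, hW1, hW2⟩ := hx i
      exact ⟨hs i, W, hW1, hW2⟩)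
  have hk : ∀ k, ∃ i, x i = lab k := by
    intro k
    have := a1 k
    let w : ↥(pullback f g) := (V k).ι ((inv ((V k).ι ≫ pullback.snd f g)) u)
    have hwV : w ∈ V k := by
      have : w ∈ Set.range (V k).ι := ⟨_, rfl⟩
      rwa [Scheme.Opens.range_ι] at this
    have hwu : pullback.snd f g w = u := by
      change pullback.snd f g ((V k).ι ((inv ((V k).ι ≫ pullback.snd f g)) u)) = u
      rw [← Scheme.Hom.comp_apply, ← Scheme.Hom.comp_apply, IsIso.inv_hom_id]
      rfl
    exact (a4 k w hwV hwu).2
  refine ⟨U, g, u, hg, hu, K, hK, fun k => (hk k).choose, V, a1, a2, ?_⟩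
  intro w i hwu hwx
  obtain ⟨k, hk1, hk2⟩ := a3 w hwu ⟨i, hwx.symm⟩
  refine ⟨k, ?_, hk2⟩
  apply hinj
  rw [(hk k).choose_spec, hk1, hwx]

end Groth.Agent.S9557
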