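import Groth.Statements.S9564
import Mathlib.RingTheory.Unramified.LocalStructure
import Mathlib.RingTheory.Unramified.LocalRing

set_option autoImplicit false
universe u
open EtLocal

namespace Groth.Agent.S9564

open Algebra

/-- The core construction: an unramified essentially-of-finite-type local `A`-algebra `B` is a
quotient of a localization of a standard étale algebra. -/
theorem exists_surjective (A B : Type u) [CommRing A] [CommRing B]
    [IsLocalRing A] [IsLocalRing B] [Algebra A B]
    [IsLocalHom (algebraMap A B)] [Algebra.EssFiniteType A B]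
    (hm : (IsLocalRing.maximalIdeal A).map (algebraMap A B) = IsLocalRing.maximalIdeal B)
    [Algebra.IsSeparable (IsLocalRing.ResidueField A) (IsLocalRing.ResidueField B)] :
    ∃ (P : StandardEtalePair A) (𝔮 : Ideal P.Ring) (_ : 𝔮.IsPrime)
      (ψ : Localization.AtPrime 𝔮 →ₐ[A] B), Function.Surjective ψ := by
  classical
  have hunr : Algebra.FormallyUnramified A B := Algebra.FormallyUnramified.of_map_maximalIdeal hm
  let C := Algebra.EssFiniteType.subalgebra A B
  let q : Ideal C := (IsLocalRing.maximalIdeal B).comap (algebraMap C B)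
  have hq : q.IsPrime := Ideal.comap_isPrime _ _
  have hM : Algebra.EssFiniteType.submonoid A B = q.primeCompl := by
    ext x
    simp only [Algebra.EssFiniteType.submonoid, Submonoid.mem_comap, IsUnit.mem_submonoid_iff,
      Ideal.mem_primeCompl_iff, q, Ideal.mem_comap, IsLocalRing.mem_maximalIdeal, mem_nonunits_iff,
      not_not]
    exact Iff.rfl
  have hloc : IsLocalization.AtPrime B q := by
    unfold IsLocalization.AtPrime; rw [← hM]; infer_instance
  have : Algebra.IsUnramifiedAt A q :=
    Algebra.FormallyUnramified.of_equiv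
      ((IsLocalization.algEquiv q.primeCompl B (Localization.AtPrime q)).restrictScalars A)
  obtain ⟨f, hfq, P, φ, hφ⟩ :=
    Algebra.IsUnramifiedAt.exists_hasStandardEtaleSurjectionOn (R := A) q
  have hfu : IsUnit (algebraMap C B f) := by
    by_contra h
    exact hfq (by simpa [q] using h)
  let ψ₀ : Localization.Away f →ₐ[A] B :=
    IsLocalization.liftAlgHom (M := Submonoid.powers f) (f := IsScalarTower.toAlgHom A C B) (by
      rintro ⟨_, n, rfl⟩
      simpa using hfu.pow n)
  have hψ₀ : ∀ c : C, ψ₀ (algebraMap C (Localization.Away f) c) = algebraMap C B c := fun c ↦ by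
    simp [ψ₀]
  let ψ : P.Ring →ₐ[A] B := ψ₀.comp φ
  let 𝔮 : Ideal P.Ring := (IsLocalRing.maximalIdeal B).comap ψ
  have h𝔮 : 𝔮.IsPrime := Ideal.comap_isPrime _ _
  let ψ' : Localization.AtPrime 𝔮 →ₐ[A] B :=
    IsLocalization.liftAlgHom (M := 𝔮.primeCompl) (f := ψ) (by
      rintro ⟨y, hy⟩
      by_contra h
      exact hy (by simpa [𝔮] using h))
  have hψ' : ∀ p : P.Ring, ψ' (algebraMap _ _ p) = ψ p := fun p ↦ by simp [ψ']
  refine ⟨P, 𝔮, h𝔮, ψ', fun b ↦ ?_⟩
  obtain ⟨⟨c, s⟩, e⟩ := IsLocalization.surj q.primeCompl b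
  obtain ⟨p₁, hp₁⟩ := hφ (algebraMap C _ c)
  obtain ⟨p₂, hp₂⟩ := hφ (algebraMap C _ s.1)
  have h1 : ψ p₁ = algebraMap C B c := by simp [ψ, hp₁, hψ₀]
  have h2 : ψ p₂ = algebraMap C B s.1 := by simp [ψ, hp₂, hψ₀]
  have hsu : IsUnit (algebraMap C B s.1) := IsLocalization.map_units B s
  have hp₂𝔮 : p₂ ∈ 𝔮.primeCompl := by
    show p₂ ∉ 𝔮
    simp only [𝔮, Ideal.mem_comap, IsLocalRing.mem_maximalIdeal, mem_nonunits_iff, not_not]
    rw [h2]; exact hsu
  refine ⟨IsLocalization.mk' _ p₁ ⟨p₂, hp₂𝔮⟩, ?_⟩
  have := congrArg ψ' (IsLocalization.mk'_spec (Localization.AtPrime 𝔮) p₁ ⟨p₂, hp₂𝔮⟩)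
  rw [map_mul, hψ', hψ', h1, h2] at this
  exact hsu.mul_right_cancel (this.trans e.symm)


/-- Let A → B be an unramified homomorphism of Noetherian local rings, i.e. a local homomorphism with B
essentially of finite type over A, m_A B = m_B, and residue field of B finite separable over that of
A. Then there are a standard étale A-algebra B' = A[t]_g/(f) (f monic and f' invertible in B'), a
prime 𝔮 of B' and an ideal I of the localization of B' at 𝔮 such that B is isomorphic as an
A-algebra to the quotient of that localization by I (existence of an isomorphism). -/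
theorem result (A B : Type u) [CommRing A] [CommRing B]
    [IsLocalRing A] [IsLocalRing B] [IsNoetherianRing A] [IsNoetherianRing B] [Algebra A B]
    [IsLocalHom (algebraMap A B)] [Algebra.EssFiniteType A B]
    (hm : (IsLocalRing.maximalIdeal A).map (algebraMap A B) = IsLocalRing.maximalIdeal B)
    [Module.Finite (IsLocalRing.ResidueField A) (IsLocalRing.ResidueField B)]
    [Algebra.IsSeparable (IsLocalRing.ResidueField A) (IsLocalRing.ResidueField B)] :
    ∃ (P : StandardEtalePair A) (𝔮 : Ideal P.Ring) (_ : 𝔮.IsPrime) (I : Ideal (Localization.AtPrime 𝔮)),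
      Nonempty (B ≃ₐ[A] (Localization.AtPrime 𝔮 ⧸ I)) := by
  obtain ⟨P, 𝔮, h𝔮, ψ, hψ⟩ := exists_surjective A B hm
  exact ⟨P, 𝔮, h𝔮, RingHom.ker ψ, ⟨(Ideal.quotientKerAlgEquivOfSurjective hψ).symm⟩⟩

end Groth.Agent.S9564
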