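import Groth.Statements.S9563
import Groth.Agent.S9564
import Mathlib.RingTheory.Unramified.LocalStructure
import Mathlib.RingTheory.Unramified.LocalRing
import Mathlib.RingTheory.Nakayama

set_option autoImplicit false
universe u
open EtLocal

namespace Groth.Agent.S9563

open Algebra TensorProduct

/-- A surjection `D → B = D/I` of local `A`-algebras with `D` noetherian, `𝔪_A D = 𝔪_D`
and `B` flat over `A` is injective. -/
theorem injective_of_flat (A B D : Type u) [CommRing A] [CommRing B] [CommRing D]
    [IsLocalRing A] [IsLocalRing B] [IsLocalRing D] [Algebra A B] [Algebra A D]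
    [IsNoetherianRing D] [Module.Flat A B]
    (hD : (IsLocalRing.maximalIdeal A).map (algebraMap A D) = IsLocalRing.maximalIdeal D)
    (ψ : D →ₐ[A] B) (hψ : Function.Surjective ψ) : Function.Injective ψ := by
  set m := IsLocalRing.maximalIdeal A with hmdef
  let I : Ideal D := RingHom.ker ψ
  -- multiplication maps
  let μ : m ⊗[A] D →ₗ[A] D := (TensorProduct.lid A D).toLinearMap ∘ₗ (m.subtype.rTensor D)
  let μB : m ⊗[A] B →ₗ[A] B := (TensorProduct.lid A B).toLinearMap ∘ₗ (m.subtype.rTensor B)
  have hμ : ∀ (a : m) (d : D), μ (a ⊗ₜ d) = (a : A) • d := fun a d ↦ by simp [μ]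
  have hμB : Function.Injective μB := by
    simp only [μB, LinearMap.coe_comp, LinearEquiv.coe_coe]
    exact (TensorProduct.lid A B).injective.comp
      (Module.Flat.rTensor_preserves_injective_linearMap (M := B) m.subtype Subtype.val_injective)
  have hcomm : ψ.toLinearMap ∘ₗ μ = μB ∘ₗ (ψ.toLinearMap.lTensor m) := by
    ext a d
    simp [μ, μB]
  have hstep : ∀ x ∈ I, x ∈ IsLocalRing.maximalIdeal D * I := by
    intro x hx
    have hxm : x ∈ IsLocalRing.maximalIdeal D :=
      IsLocalRing.le_maximalIdeal (RingHom.ker_ne_top _) hx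
    -- lift `x` to the tensor product
    have hmul : ∀ (d : D) (t : m ⊗[A] D),
        μ ((LinearMap.lTensor m (LinearMap.mulLeft A d)) t) = d • μ t := by
      intro d t
      induction t using TensorProduct.induction_on with
      | zero => simp
      | tmul a e => simp [hμ]
      | add t₁ t₂ h₁ h₂ => simp only [map_add, h₁, h₂, smul_add]
    have hsurj : ∀ y ∈ (IsLocalRing.maximalIdeal A).map (algebraMap A D), ∃ t, μ t = y := by
      intro y hy
      refine Submodule.span_induction ?_ ⟨0, map_zero _⟩ ?_ ?_ hy
      · rintro _ ⟨a, ha, rfl⟩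
        exact ⟨(⟨a, ha⟩ : m) ⊗ₜ 1, by simp [hμ, Algebra.algebraMap_eq_smul_one]⟩
      · rintro _ _ _ _ ⟨t₁, rfl⟩ ⟨t₂, rfl⟩
        exact ⟨t₁ + t₂, map_add _ _ _⟩
      · rintro d _ _ ⟨t, rfl⟩
        exact ⟨(LinearMap.lTensor m (LinearMap.mulLeft A d)) t, hmul d t⟩
    obtain ⟨t, ht⟩ := hsurj x (hD ▸ hxm)
    have h0 : (ψ.toLinearMap.lTensor m) t = 0 := by
      apply hμB
      have := congrArg (fun l ↦ l t) hcomm
      simp only [LinearMap.comp_apply] at this
      rw [← this, ht, map_zero]
      exact hx
    have hex := lTensor_exact m (LinearMap.exact_subtype_ker_map ψ.toLinearMap) hψ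
    obtain ⟨t', rfl⟩ := (hex t).mp h0
    rw [← ht]
    clear ht h0
    induction t' using TensorProduct.induction_on with
    | zero => simp
    | tmul a i =>
      simp only [LinearMap.lTensor_tmul, Submodule.subtype_apply, hμ, Algebra.smul_def]
      refine Ideal.mul_mem_mul ?_ ?_
      · rw [← hD]; exact Ideal.mem_map_of_mem _ a.2
      · exact i.2
    | add t₁ t₂ h₁ h₂ => simp only [map_add]; exact Ideal.add_mem _ h₁ h₂
  have hI : I = ⊥ :=
    Submodule.eq_bot_of_le_smul_of_le_jacobson_bot (IsLocalRing.maximalIdeal D) I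
      (IsNoetherian.noetherian I) (fun x hx ↦ by simpa using hstep x hx)
      (IsLocalRing.maximalIdeal_le_jacobson ⊥)
  exact (RingHom.injective_iff_ker_eq_bot _).mpr hI


/-- Let A → B be an étale homomorphism of Noetherian local rings, i.e. a local homomorphism with B
essentially of finite type and flat over A, m_A B = m_B, and residue field of B finite separable
over that of A. Then there are a standard étale A-algebra B' = A[t]_g/(f) (f monic and f' invertible
in B') and a prime 𝔮 of B' such that B is isomorphic as an A-algebra to the localization of B' at 𝔮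
(existence of an isomorphism). -/
theorem result (A B : Type u) [CommRing A] [CommRing B]
    [IsLocalRing A] [IsLocalRing B] [IsNoetherianRing A] [IsNoetherianRing B] [Algebra A B]
    [IsLocalHom (algebraMap A B)] [Algebra.EssFiniteType A B] [Module.Flat A B]
    (hm : (IsLocalRing.maximalIdeal A).map (algebraMap A B) = IsLocalRing.maximalIdeal B)
    [Module.Finite (IsLocalRing.ResidueField A) (IsLocalRing.ResidueField B)]
    [Algebra.IsSeparable (IsLocalRing.ResidueField A) (IsLocalRing.ResidueField B)] :
    ∃ (P : StandardEtalePair A) (𝔮 : Ideal P.Ring) (_ : 𝔮.IsPrime),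
      Nonempty (B ≃ₐ[A] Localization.AtPrime 𝔮) := by
  obtain ⟨P, 𝔮, h𝔮, ψ, hψ⟩ := Groth.Agent.S9564.exists_surjective A B hm
  have : IsNoetherianRing P.Ring := Algebra.FiniteType.isNoetherianRing A P.Ring
  have : IsNoetherianRing (Localization.AtPrime 𝔮) :=
    IsLocalization.isNoetherianRing 𝔮.primeCompl _ inferInstance
  have hcomp : (ψ : Localization.AtPrime 𝔮 →+* B).comp (algebraMap A (Localization.AtPrime 𝔮)) =
      algebraMap A B := ψ.comp_algebraMap
  have : IsLocalHom ((ψ : Localization.AtPrime 𝔮 →+* B).comp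
      (algebraMap A (Localization.AtPrime 𝔮))) := by rw [hcomp]; infer_instance
  have : IsLocalHom (algebraMap A (Localization.AtPrime 𝔮)) :=
    isLocalHom_of_comp _ (ψ : Localization.AtPrime 𝔮 →+* B)
  have : Algebra.FormallyUnramified P.Ring (Localization.AtPrime 𝔮) :=
    .of_isLocalization 𝔮.primeCompl
  have : Algebra.FormallyUnramified A (Localization.AtPrime 𝔮) := .comp A P.Ring _
  have : Algebra.EssFiniteType P.Ring (Localization.AtPrime 𝔮) :=
    .of_isLocalization _ 𝔮.primeCompl
  have : Algebra.EssFiniteType A (Localization.AtPrime 𝔮) := .comp A P.Ring _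
  have hD := Algebra.FormallyUnramified.map_maximalIdeal (R := A) (S := Localization.AtPrime 𝔮)
  exact ⟨P, 𝔮, h𝔮, ⟨(AlgEquiv.ofBijective ψ ⟨injective_of_flat A B _ hD ψ hψ, hψ⟩).symm⟩⟩

end Groth.Agent.S9563
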