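import Groth.Statements.S9566
import Groth.Agent.Lib.Helper20EtLocalSch

set_option autoImplicit false
universe u
open EtLocal

namespace Groth.Agent.S9566

open AlgebraicGeometry CategoryTheory in
/-- Let Y be a locally Noetherian scheme, f : X ⟶ Y locally of finite type and x a point of X with image
y. Then f is étale on some open neighbourhood of x if and only if the map of local rings O_{Y,y} →
O_{X,x} is an étale homomorphism of local rings: it is flat, the maximal ideal of O_{Y,y} generates
that of O_{X,x}, and the residue field of x is a finite separable extension of that of y (O_{X,x} is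
automatically essentially of finite type over O_{Y,y}). -/
theorem result {X Y : Scheme.{u}} (f : X ⟶ Y)
    [LocallyOfFiniteType f] [IsLocallyNoetherian Y] (x : X) :
    (∃ U : X.Opens, x ∈ U ∧ Etale (U.ι ≫ f)) ↔
      ((f.stalkMap x).hom.Flat ∧
        (IsLocalRing.maximalIdeal (Y.presheaf.stalk (f.base x))).map (f.stalkMap x).hom =
          IsLocalRing.maximalIdeal (X.presheaf.stalk x) ∧
        letI := (f.residueFieldMap x).hom.toAlgebra
        Module.Finite (Y.residueField (f.base x)) (X.residueField x) ∧
          Algebra.IsSeparable (Y.residueField (f.base x)) (X.residueField x)) := by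
  rw [← Groth.Agent.Lib.Helper20.EtLocal.formallyUnramified_stalkMap_iff_local f x]
  constructor
  · rintro ⟨U, hxU, hU⟩
    exact ⟨Groth.Agent.Lib.Helper20.EtLocal.flat_stalkMap_of_nbhd f x U hxU,
      Groth.Agent.Lib.Helper20.EtLocal.formallyUnramified_stalkMap_of_nbhd f x U hxU⟩
  · rintro ⟨H2, H1⟩
    exact Groth.Agent.Lib.Helper20.EtLocal.exists_etale_nbhd f x H1 H2

end Groth.Agent.S9566
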