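import Groth.Statements.S9571
import Mathlib


set_option autoImplicit false
universe u
open CategoryTheory CategoryTheory.Limits AlgebraicGeometry TopologicalSpace Opposite
open Constr

namespace Groth.Agent.S9571

/-- Let S be a graded ring, X = Proj S and d ≥ 1; let W_d be the union of the opens D_+(ab) over pairs
of homogeneous a, b with deg a = deg b + d (the open over which the twisting sheaves O_X(nd) are
invertible with compatible multiplications). For n ≥ 1 and f homogeneous of degree nd, with s the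
section of O_X(nd) over W_d defined by f, the non-vanishing locus (W_d)_s equals D_+(f) ∩ W_d.
Pointwise: for p in some D_+(ab) as above, p ∈ D_+(f) if and only if the value f/1 of s at p
generates the module of degree-nd fractions at p (the span of the fractions c/t with t ∉ p and deg c
= deg t + nd, over the degree-zero local ring at p). -/
theorem result {R A : Type u} [CommRing R] [CommRing A] [Algebra R A] (𝒜 : ℕ → Submodule R A) [GradedAlgebra 𝒜]
    {d : ℕ} (hd : 0 < d) {i j : ℕ} {a b : A} (ha : a ∈ 𝒜 i) (hb : b ∈ 𝒜 j) (hij : i = j + d)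
    (p : ProjectiveSpectrum 𝒜) (hp : p ∈ ProjectiveSpectrum.basicOpen 𝒜 (a * b))
    {n : ℕ} (hn : 0 < n) (f : 𝒜 (n * d)) :
    p ∈ ProjectiveSpectrum.basicOpen 𝒜 (f : A) ↔
      Submodule.span (Twist.A0 𝒜 p) {(Twist.globalOf 𝒜 f).1 ⟨p, trivial⟩} = ⊤ := by
  classical
  have hone : (1 : A) ∉ p.asHomogeneousIdeal :=
    fun h => p.isPrime.ne_top ((Ideal.eq_top_iff_one _).mpr h)
  have hval : (((Twist.globalOf 𝒜 f).1 ⟨p, trivial⟩ : Twist.twistAt 𝒜 ((n * d : ℕ) : ℤ) p) :
      Twist.Loc 𝒜 p) = Localization.mk (f : A) ⟨1, hone⟩ := rfl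
  have hmk : ∀ x : A, (Localization.mk x ⟨1, hone⟩ : Twist.Loc 𝒜 p) =
      algebraMap A (Twist.Loc 𝒜 p) x := fun x => Localization.mk_one_eq_algebraMap x
  have hab : a * b ∉ p.asHomogeneousIdeal := (ProjectiveSpectrum.mem_basicOpen 𝒜 _ p).mp hp
  have hap : a ∉ p.asHomogeneousIdeal := fun h => hab (Ideal.mul_mem_right _ _ h)
  have hbp : b ∉ p.asHomogeneousIdeal := fun h => hab (Ideal.mul_mem_left _ _ h)
  rw [ProjectiveSpectrum.mem_basicOpen]
  constructor
  · intro hf
    rw [eq_top_iff]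
    rintro ⟨q, hq⟩ -
    rw [Submodule.mem_span_singleton]
    let T : Submodule (Twist.A0 𝒜 p) (Twist.Loc 𝒜 p) :=
      { carrier := {q | ∃ c : Twist.A0 𝒜 p, c.val * Localization.mk (f : A) ⟨1, hone⟩ = q}
        zero_mem' := ⟨0, by rw [HomogeneousLocalization.val_zero, zero_mul]⟩
        add_mem' := by
          rintro _ _ ⟨c, rfl⟩ ⟨c', rfl⟩
          exact ⟨c + c', by rw [HomogeneousLocalization.val_add, add_mul]⟩
        smul_mem' := by
          rintro r _ ⟨c, rfl⟩
          refine ⟨r * c, ?_⟩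
          rw [HomogeneousLocalization.val_mul, Algebra.smul_def,
            HomogeneousLocalization.algebraMap_apply, mul_assoc] }
    have hle : Twist.twistAt 𝒜 ((n * d : ℕ) : ℤ) p ≤ T := by
      unfold Twist.twistAt
      rw [Submodule.span_le]
      rintro _ ⟨i', j', a', s, hs, hij', rfl⟩
      have hsf : s.1 * (f : A) ∉ p.asHomogeneousIdeal := fun h =>
        (p.isPrime.mem_or_mem h).elim hs hf
      have hdeg : i' = j' + n * d := by exact_mod_cast hij'
      refine ⟨HomogeneousLocalization.mk ⟨i', a', ⟨s.1 * (f : A),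
        hdeg ▸ SetLike.mul_mem_graded s.2 f.2⟩, hsf⟩, ?_⟩
      rw [HomogeneousLocalization.val_mk, Localization.mk_mul, Localization.mk_eq_mk_iff,
        Localization.r_iff_exists]
      refine ⟨1, ?_⟩
      simp only [OneMemClass.coe_one, one_mul, Submonoid.coe_mul, mul_one]
      ring
    obtain ⟨c, hc⟩ := hle hq
    refine ⟨c, Subtype.ext ?_⟩
    rw [Twist.coe_smul_val, hval]
    exact hc
  · intro htop hf
    have hbn : b ^ n ∉ p.asHomogeneousIdeal := fun h => hbp (p.isPrime.mem_of_pow_mem n h)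
    have han : a ^ n ∉ p.asHomogeneousIdeal := fun h => hap (p.isPrime.mem_of_pow_mem n h)
    have hanmem : a ^ n ∈ 𝒜 (n * i) := by
      have := SetLike.pow_mem_graded n ha
      simpa [smul_eq_mul] using this
    have hbnmem : b ^ n ∈ 𝒜 (n * j) := by
      have := SetLike.pow_mem_graded n hb
      simpa [smul_eq_mul] using this
    let ψ : Twist.twistAt 𝒜 ((n * d : ℕ) : ℤ) p :=
      ⟨Localization.mk (a ^ n) ⟨b ^ n, hbn⟩,
        Submodule.subset_span ⟨n * i, n * j, ⟨a ^ n, hanmem⟩, ⟨b ^ n, hbnmem⟩, hbn,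
          by subst hij; push_cast; ring, rfl⟩⟩
    have hψ : ψ ∈ Submodule.span (Twist.A0 𝒜 p) {(Twist.globalOf 𝒜 f).1 ⟨p, trivial⟩} := by
      rw [htop]; trivial
    rw [Submodule.mem_span_singleton] at hψ
    obtain ⟨c, hc⟩ := hψ
    have hc' := congrArg Subtype.val hc
    rw [Twist.coe_smul_val, hval] at hc'
    have hu : IsUnit (Localization.mk (a ^ n) ⟨b ^ n, hbn⟩ : Twist.Loc 𝒜 p) := by
      have h1 : (Localization.mk (a ^ n) ⟨b ^ n, hbn⟩ : Twist.Loc 𝒜 p) *
          Localization.mk (b ^ n) ⟨a ^ n, han⟩ = 1 := by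
        rw [Localization.mk_mul, ← Localization.mk_one, Localization.mk_eq_mk_iff,
          Localization.r_iff_exists]
        exact ⟨1, by simp only [OneMemClass.coe_one, one_mul, Submonoid.coe_mul, mul_one]; ring⟩
      exact IsUnit.of_mul_eq_one _ h1
    have hu2 : IsUnit (c.val * Localization.mk (f : A) ⟨1, hone⟩ : Twist.Loc 𝒜 p) := by
      rw [hc']; exact hu
    have hu3 := isUnit_of_mul_isUnit_right hu2
    rw [hmk] at hu3
    exact (IsLocalization.AtPrime.isUnit_to_map_iff (Twist.Loc 𝒜 p)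
      p.asHomogeneousIdeal.toIdeal (f : A)).mp hu3 hf

end Groth.Agent.S9571
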