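import Groth.Statements.S9575
import Mathlib
import Groth.Agent.Lib.Helper27TwistGen

set_option autoImplicit false
universe u
open CategoryTheory CategoryTheory.Limits AlgebraicGeometry TopologicalSpace Opposite
open Constr

namespace Groth.Agent.S9575

/-- Let S be a graded ring, X = Proj S, d ≥ 1, and a, b homogeneous elements with deg a = deg b + d.
Then for every integer n the restriction of the twisting sheaf O_X(nd) to the standard open D_+(ab)
is isomorphic to the structure sheaf of D_+(ab): it is free of rank one, generated by the section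
(a/b)^n. (This is the invertibility half of the fact that D_+(ab) lies in the open W_d where the
O_X(nd) are invertible with compatible multiplications; existence of an isomorphism only. The
compatibility of the multiplication maps O_X(nd) ⊗ O_X(md) → O_X(nd+md) on this open, and the
converse statement that the largest such open is the union of the D_+(ab), are not stated here.) -/
theorem result {R A : Type u} [CommRing R] [CommRing A] [Algebra R A] (𝒜 : ℕ → Submodule R A) [GradedAlgebra 𝒜]
    {d : ℕ} (hd : 0 < d) {i j : ℕ} {a b : A} (ha : a ∈ 𝒜 i) (hb : b ∈ 𝒜 j) (hij : i = j + d) (n : ℤ) :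
    Nonempty ((Twist.twist 𝒜 (n * d)).restrict (Proj.basicOpen 𝒜 (a * b)).ι ≅
      Coh.structureModule ↑(Proj.basicOpen 𝒜 (a * b))) := by
  have hpq : ((n.toNat : ℕ) : ℤ) - ((-n).toNat : ℕ) = n := by omega
  generalize n.toNat = p at hpq
  generalize (-n).toNat = q at hpq
  have hnum : a ^ p * b ^ q ∈ 𝒜 (p • i + q • j) :=
    SetLike.mul_mem_graded (SetLike.pow_mem_graded p ha) (SetLike.pow_mem_graded q hb)
  have hden : b ^ p * a ^ q ∈ 𝒜 (p • j + q • i) :=
    SetLike.mul_mem_graded (SetLike.pow_mem_graded p hb) (SetLike.pow_mem_graded q ha)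
  have hdeg : ((p • i + q • j : ℕ) : ℤ) = ((p • j + q • i : ℕ) : ℤ) + n * d := by
    subst hij
    rw [← hpq]
    push_cast
    simp only [smul_eq_mul]
    push_cast
    ring
  have hW : ∀ y : (Proj.basicOpen 𝒜 (a * b) : (Proj 𝒜).Opens),
      a * b ∉ y.1.asHomogeneousIdeal := fun y =>
    (ProjectiveSpectrum.mem_basicOpen 𝒜 (a * b) y.1).mp y.2
  have hWa : ∀ y : (Proj.basicOpen 𝒜 (a * b) : (Proj 𝒜).Opens),
      a ∉ y.1.asHomogeneousIdeal := fun y h => hW y (Ideal.mul_mem_right _ _ h)
  have hWb : ∀ y : (Proj.basicOpen 𝒜 (a * b) : (Proj 𝒜).Opens),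
      b ∉ y.1.asHomogeneousIdeal := fun y h => hW y (Ideal.mul_mem_left _ _ h)
  have hWnum : ∀ y : (Proj.basicOpen 𝒜 (a * b) : (Proj 𝒜).Opens),
      a ^ p * b ^ q ∉ y.1.asHomogeneousIdeal := fun y h =>
    (y.1.isPrime.mem_or_mem h).elim (fun h' => hWa y (y.1.isPrime.mem_of_pow_mem _ h'))
      (fun h' => hWb y (y.1.isPrime.mem_of_pow_mem _ h'))
  have hWden : ∀ y : (Proj.basicOpen 𝒜 (a * b) : (Proj 𝒜).Opens),
      b ^ p * a ^ q ∉ y.1.asHomogeneousIdeal := fun y h =>
    (y.1.isPrime.mem_or_mem h).elim (fun h' => hWb y (y.1.isPrime.mem_of_pow_mem _ h'))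
      (fun h' => hWa y (y.1.isPrime.mem_of_pow_mem _ h'))
  have hgen := Groth.Agent.Lib.Helper27GrTildeSect.isGen_fracSec 𝒜 (n * d)
    (Proj.basicOpen 𝒜 (a * b)) hnum hden hdeg hWden hWnum
  exact Groth.Agent.Lib.Helper23.SecTw.nonempty_restrict_iso_of_isGen
    (GrTilde.tilde 𝒜 𝒜 (n * d)) (Proj.basicOpen 𝒜 (a * b)) _ hgen

end Groth.Agent.S9575
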