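import Groth.Statements.S9578
import Mathlib
import Groth.Agent.Lib.Helper27GrTildeMul

set_option autoImplicit false
universe u
open CategoryTheory CategoryTheory.Limits AlgebraicGeometry TopologicalSpace Opposite
open Constr

namespace Groth.Agent.S9578

/-- Let S be a graded ring, M a graded S-module (graded in non-negative degrees here), X = Proj S and d
≥ 1; let W_d ⊆ X be the union of the standard opens D_+(ab) over the pairs of homogeneous elements
a, b with deg a = deg b + d (the open over which the twisting sheaves O_X(nd) are invertible with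
compatible multiplications). Then for every integer n the restrictions to W_d of M~(nd) = M~ ⊗
O_X(nd) and of M(nd)~, the module attached to the shifted module, are isomorphic. (Existence of an
isomorphism only; in the published statement it is the canonical multiplication map M~ ⊗ O_X(nd) →
M(nd)~ that restricts to an isomorphism over W_d. That W_d is the largest open over which the
O_X(nd) are invertible with compatible multiplications is not stated here.) -/
theorem result {R A : Type u} [CommRing R] [CommRing A] [Algebra R A] (𝒜 : ℕ → Submodule R A) [GradedAlgebra 𝒜]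
    {M : Type u} [AddCommGroup M] [Module R M] [Module A M] [IsScalarTower R A M] (ℳ : ℕ → Submodule R M)
    [DirectSum.Decomposition ℳ] [SetLike.GradedSMul 𝒜 ℳ]
    {d : ℕ} (hd : 0 < d) (n : ℤ) :
    Nonempty ((Twist.twistBy 𝒜 (GrTilde.tilde 𝒜 ℳ 0) (n * d)).restrict
        (⨆ (j : ℕ) (a : 𝒜 (j + d)) (b : 𝒜 j), Proj.basicOpen 𝒜 ((a : A) * b)).ι ≅
      (GrTilde.tilde 𝒜 ℳ (n * d)).restrict
        (⨆ (j : ℕ) (a : 𝒜 (j + d)) (b : 𝒜 j), Proj.basicOpen 𝒜 ((a : A) * b)).ι) := by
  have h0 : (0 : ℤ) + n * d = n * d := zero_add _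
  have hiso : Groth.Agent.Lib.Helper23.Extend.IsoOn
      (Groth.Agent.Lib.Helper27GrTildeSect.mulHom 𝒜 ℳ h0)
      (⨆ (j : ℕ) (a : 𝒜 (j + d)) (b : 𝒜 j), Proj.basicOpen 𝒜 ((a : A) * b)) := by
    intro W' hW'
    rw [ConcreteCategory.isIso_iff_bijective]
    apply Groth.Agent.Lib.Helper23.SecTw.bijective_app_of_cover
    intro x hx
    have hx' := hW' hx
    simp only [TopologicalSpace.Opens.mem_iSup] at hx'
    obtain ⟨j, ⟨a, ha⟩, ⟨b, hb⟩, hxab⟩ := hx'
    refine ⟨Proj.basicOpen 𝒜 (a * b), hxab, ?_⟩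
    have hpq : ((n.toNat : ℕ) : ℤ) - ((-n).toNat : ℕ) = n := by omega
    generalize n.toNat = p at hpq
    generalize (-n).toNat = q at hpq
    have hnum : a ^ p * b ^ q ∈ 𝒜 (p • (j + d) + q • j) :=
      SetLike.mul_mem_graded (SetLike.pow_mem_graded p ha) (SetLike.pow_mem_graded q hb)
    have hden : b ^ p * a ^ q ∈ 𝒜 (p • j + q • (j + d)) :=
      SetLike.mul_mem_graded (SetLike.pow_mem_graded p hb) (SetLike.pow_mem_graded q ha)
    have hdeg : ((p • (j + d) + q • j : ℕ) : ℤ) = ((p • j + q • (j + d) : ℕ) : ℤ) + n * d := by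
      rw [← hpq]
      simp only [smul_eq_mul]
      push_cast
      ring
    have hW : ∀ y : (Proj.basicOpen 𝒜 (a * b) : (Proj 𝒜).Opens),
        a * b ∉ y.1.asHomogeneousIdeal := fun y =>
      (ProjectiveSpectrum.mem_basicOpen 𝒜 (a * b) y.1).mp y.2
    have hWa : ∀ y : (Proj.basicOpen 𝒜 (a * b) : (Proj 𝒜).Opens),
        a ∉ y.1.asHomogeneousIdeal := fun y h => hW y (Ideal.mul_mem_right _ _ h)
    have hWb : ∀ y : (Proj.basicOpen 𝒜 (a * b) : (Proj 𝒜).Opens),
        b ∉ y.1.asHomogeneousIdeal := fun y h => hW y (Ideal.mul_mem_left _ _ h)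
    have hWnum : ∀ y : (Proj.basicOpen 𝒜 (a * b) : (Proj 𝒜).Opens),
        a ^ p * b ^ q ∉ y.1.asHomogeneousIdeal := fun y h =>
      (y.1.isPrime.mem_or_mem h).elim (fun h' => hWa y (y.1.isPrime.mem_of_pow_mem _ h'))
        (fun h' => hWb y (y.1.isPrime.mem_of_pow_mem _ h'))
    have hWden : ∀ y : (Proj.basicOpen 𝒜 (a * b) : (Proj 𝒜).Opens),
        b ^ p * a ^ q ∉ y.1.asHomogeneousIdeal := fun y h =>
      (y.1.isPrime.mem_or_mem h).elim (fun h' => hWb y (y.1.isPrime.mem_of_pow_mem _ h'))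
        (fun h' => hWa y (y.1.isPrime.mem_of_pow_mem _ h'))
    exact Groth.Agent.Lib.Helper27GrTildeSect.isoOn_mulHom 𝒜 ℳ h0
      (Proj.basicOpen 𝒜 (a * b)) hnum hden hdeg hWden hWnum
  have hiso' : IsIso ((Scheme.Modules.restrictFunctor
      (⨆ (j : ℕ) (a : 𝒜 (j + d)) (b : 𝒜 j), Proj.basicOpen 𝒜 ((a : A) * b)).ι).map
      (Groth.Agent.Lib.Helper27GrTildeSect.mulHom 𝒜 ℳ h0)) := by
    rw [Groth.Agent.Lib.Helper23.Extend.isIso_restrict_iff, Scheme.Opens.opensRange_ι]
    exact hiso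
  have e := @asIso _ _ _ _ ((Scheme.Modules.restrictFunctor
      (⨆ (j : ℕ) (a : 𝒜 (j + d)) (b : 𝒜 j), Proj.basicOpen 𝒜 ((a : A) * b)).ι).map
      (Groth.Agent.Lib.Helper27GrTildeSect.mulHom 𝒜 ℳ h0)) hiso'
  exact ⟨e⟩

end Groth.Agent.S9578
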