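import Groth.Statements.S9580
import Mathlib
import Groth.Agent.Lib.Helper27InvRestrict
import Groth.Agent.Lib.Helper27GrTildeZero
import Groth.Agent.S1614

set_option autoImplicit false
universe u
open CategoryTheory CategoryTheory.Limits AlgebraicGeometry TopologicalSpace Opposite
open Constr

namespace Groth.Agent.S9580

/-- Let S be a graded ring, X = Proj S and Y ⊆ X a quasi-compact open subscheme. Then there is an
integer d ≥ 1 such that Y is contained in the open W_d, the union of the standard opens D_+(ab) over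
homogeneous a, b with deg a = deg b + d, and such that the restriction O_Y(nd) of O_X(nd) to Y is
invertible for every integer n. (The remaining assertions — the multiplication maps among the
O_Y(nd) and M~(nd) are isomorphisms, D_+(f) ∩ Y = Y_s, and the loci Y_s form a basis — are not
stated here.) -/
theorem result {R A : Type u} [CommRing R] [CommRing A] [Algebra R A] (𝒜 : ℕ → Submodule R A) [GradedAlgebra 𝒜]
    (Y : (Proj 𝒜).Opens) (hY : IsCompact (Y : Set (Proj 𝒜))) :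
    ∃ d : ℕ, 0 < d ∧
      (∀ y : Proj 𝒜, y ∈ Y → ∃ (i j : ℕ) (a b : A), a ∈ 𝒜 i ∧ b ∈ 𝒜 j ∧ i = j + d ∧ y ∈ Proj.basicOpen 𝒜 (a * b)) ∧
      ∀ n : ℤ, PicF.IsInvertible ((Twist.twist 𝒜 (n * d)).restrict Y.ι) := by
  classical
  have hex : ∀ y : Proj 𝒜, ∃ (d : ℕ) (f : A), 0 < d ∧ f ∈ 𝒜 d ∧
      f ∉ (show ProjectiveSpectrum 𝒜 from y).asHomogeneousIdeal :=
    fun y => Groth.Agent.Lib.Helper27GrTildeSect.exists_homogeneous_pos_not_mem 𝒜 y
  choose dd ff hdd hff hffy using hex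
  obtain ⟨T, -, hT⟩ := hY.elim_nhds_subcover
    (fun y : Proj 𝒜 => ((Proj.basicOpen 𝒜 (ff y) : (Proj 𝒜).Opens) : Set (Proj 𝒜)))
    (fun y _ => (Proj.basicOpen 𝒜 (ff y)).2.mem_nhds
      ((ProjectiveSpectrum.mem_basicOpen 𝒜 (ff y) y).mpr (hffy y)))
  have hcov : ∀ y : Proj 𝒜, y ∈ Y → ∃ t ∈ T, y ∈ Proj.basicOpen 𝒜 (ff t) := by
    intro y hy
    have := hT hy
    simp only [Set.mem_iUnion, SetLike.mem_coe, exists_prop] at this
    exact this
  refine ⟨∏ t ∈ T, dd t, Finset.prod_pos (fun t _ => hdd t), ?_, ?_⟩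
  · intro y hy
    obtain ⟨t, htT, hyt⟩ := hcov y hy
    obtain ⟨c, hc⟩ := Finset.dvd_prod_of_mem dd htT
    have hyf : ff t ∉ (y : ProjectiveSpectrum 𝒜).asHomogeneousIdeal :=
      (ProjectiveSpectrum.mem_basicOpen 𝒜 (ff t) y).mp hyt
    refine ⟨(c + 1) • dd t, dd t, ff t ^ (c + 1), ff t, SetLike.pow_mem_graded _ (hff t), hff t,
      ?_, ?_⟩
    · rw [hc, smul_eq_mul]
      ring
    · apply (ProjectiveSpectrum.mem_basicOpen 𝒜 _ y).mpr
      intro h
      rw [← pow_succ] at h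
      exact hyf ((y : ProjectiveSpectrum 𝒜).isPrime.mem_of_pow_mem _ h)
  · intro n
    apply Groth.Agent.Lib.Helper27Inv.isInvertible_restrict_of_cover
    intro y hy
    obtain ⟨t, htT, hyt⟩ := hcov y hy
    obtain ⟨c, hc⟩ := Finset.dvd_prod_of_mem dd htT
    refine ⟨Proj.basicOpen 𝒜 (ff t), hyt, ?_⟩
    have hnd : n * ((∏ t ∈ T, dd t : ℕ) : ℤ) = (n * c) * (dd t : ℤ) := by
      rw [hc]
      push_cast
      ring
    rw [hnd]
    exact Groth.Agent.S1614.result 𝒜 (dd t) (hdd t) (ff t) (hff t) (n * c)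

end Groth.Agent.S9580
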