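import Groth.Statements.S9581
import Mathlib.RingTheory.Localization.Ideal
import Mathlib.RingTheory.Ideal.Colon
-- import your own Groth.Agent.* helpers here

set_option autoImplicit false
universe u
open CAlg

namespace Groth.Agent.S9581

theorem smul_mk_eq_zero_iff {R : Type u} [CommRing R] {M : Type u} [AddCommGroup M] [Module R M]
    (p : Ideal R) [p.IsPrime] (a : R) (t s : p.primeCompl) (m : M) :
    (Localization.mk a t : Localization.AtPrime p) •
        (LocalizedModule.mk m s : LocalizedModule p.primeCompl M) = 0 ↔
      ∃ u : p.primeCompl, ((u : R) * a) • m = 0 := by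
  have h0 : (0 : LocalizedModule p.primeCompl M) = LocalizedModule.mk 0 1 :=
    (LocalizedModule.zero_mk 1).symm
  rw [LocalizedModule.mk_smul_mk, h0, LocalizedModule.mk_eq]
  constructor
  · rintro ⟨u, hu⟩
    refine ⟨u, ?_⟩
    simpa [mul_smul, Submonoid.smul_def] using hu
  · rintro ⟨u, hu⟩
    refine ⟨u, ?_⟩
    simpa [mul_smul, Submonoid.smul_def] using hu


/-- (1) ⇔ (3): for a ring R, an R-module M and a prime p of R, the prime p is weakly associated to M
(minimal among the primes containing the annihilator of some element of M) if and only if the
localization M_p contains an element whose annihilator in R_p has radical equal to the maximal ideal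
p R_p. -/
theorem result {R : Type u} [CommRing R] (M : Type u) [AddCommGroup M] [Module R M] (p : Ideal R) [p.IsPrime] :
    p ∈ FlatCA.weakAss R M ↔ IsAssociatedPrime (IsLocalRing.maximalIdeal (Localization.AtPrime p)) (LocalizedModule p.primeCompl M) := by
  classical
  have hmemAnn : ∀ (m : M) (a : R), a ∈ (Submodule.span R {m}).annihilator ↔ a • m = 0 :=
    fun m a => Submodule.mem_annihilator_span_singleton m a
  have hcomap𝔪 : (IsLocalRing.maximalIdeal (Localization.AtPrime p)).comap
      (algebraMap R (Localization.AtPrime p)) = p :=
    IsLocalization.AtPrime.under_maximalIdeal (Localization.AtPrime p) p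
  have hmap𝔪 : p.map (algebraMap R (Localization.AtPrime p)) =
      IsLocalRing.maximalIdeal (Localization.AtPrime p) :=
    IsLocalization.AtPrime.map_eq_maximalIdeal p (Localization.AtPrime p)
  constructor
  · rintro ⟨m, hm⟩
    have hAnn : (Submodule.span R {m}).annihilator ≤ p := hm.1.2
    refine ⟨inferInstance, LocalizedModule.mk m 1, ?_⟩
    apply le_antisymm
    · rw [Ideal.radical_eq_sInf]
      refine le_sInf ?_
      rintro Q ⟨hcolon, hQ⟩
      have h1 : (Submodule.span R {m}).annihilator ≤
          Q.comap (algebraMap R (Localization.AtPrime p)) := by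
        intro a ha
        rw [Ideal.mem_comap]
        apply hcolon
        rw [Submodule.mem_colon_singleton, Submodule.mem_bot, ← Localization.mk_one_eq_algebraMap,
          smul_mk_eq_zero_iff]
        exact ⟨1, by simpa using (hmemAnn m a).mp ha⟩
      have h2 : Q.comap (algebraMap R (Localization.AtPrime p)) ≤ p := by
        have : Q ≤ IsLocalRing.maximalIdeal (Localization.AtPrime p) :=
          IsLocalRing.le_maximalIdeal hQ.ne_top
        calc Q.comap (algebraMap R (Localization.AtPrime p))
            ≤ (IsLocalRing.maximalIdeal (Localization.AtPrime p)).comap _ := Ideal.comap_mono this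
          _ = p := hcomap𝔪
      have h3 : p ≤ Q.comap (algebraMap R (Localization.AtPrime p)) :=
        hm.2 ⟨hQ.comap _, h1⟩ h2
      calc IsLocalRing.maximalIdeal (Localization.AtPrime p)
          = p.map (algebraMap R (Localization.AtPrime p)) := hmap𝔪.symm
        _ ≤ (Q.comap (algebraMap R (Localization.AtPrime p))).map _ := Ideal.map_mono h3
        _ ≤ Q := Ideal.map_comap_le
    · have hne : Submodule.colon (⊥ : Submodule (Localization.AtPrime p)
          (LocalizedModule p.primeCompl M)) {LocalizedModule.mk m 1} ≠ ⊤ := by
        intro htop
        have h1 : (1 : Localization.AtPrime p) ∈ Submodule.colon (⊥ : Submodule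
            (Localization.AtPrime p) (LocalizedModule p.primeCompl M))
            {LocalizedModule.mk m 1} := by rw [htop]; trivial
        rw [Submodule.mem_colon_singleton, Submodule.mem_bot, ← Localization.mk_one,
          smul_mk_eq_zero_iff] at h1
        obtain ⟨u, hu⟩ := h1
        rw [mul_one] at hu
        exact u.2 (hAnn ((hmemAnn m u).mpr hu))
      have : Submodule.colon (⊥ : Submodule (Localization.AtPrime p)
          (LocalizedModule p.primeCompl M)) {LocalizedModule.mk m 1} ≤
          IsLocalRing.maximalIdeal (Localization.AtPrime p) := IsLocalRing.le_maximalIdeal hne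
      exact (Ideal.IsPrime.radical_le_iff inferInstance).mpr this
  · rintro ⟨-, x, hx⟩
    induction x using LocalizedModule.induction_on with
    | h m s =>
    refine ⟨m, ⟨inferInstance, ?_⟩, ?_⟩
    · intro a ha
      have h1 : algebraMap R (Localization.AtPrime p) a ∈
          IsLocalRing.maximalIdeal (Localization.AtPrime p) := by
        rw [hx]
        apply Ideal.le_radical
        rw [Submodule.mem_colon_singleton, Submodule.mem_bot, ← Localization.mk_one_eq_algebraMap,
          smul_mk_eq_zero_iff]
        exact ⟨1, by simpa using (hmemAnn m a).mp ha⟩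
      rw [← hcomap𝔪]
      exact h1
    · rintro q ⟨hq, hAnnq⟩ hqp
      have hdisj : Disjoint (p.primeCompl : Set R) (q : Set R) := by
        rw [Set.disjoint_left]
        intro x hx hxq
        exact hx (hqp hxq)
      have hQ : (q.map (algebraMap R (Localization.AtPrime p))).IsPrime :=
        IsLocalization.isPrime_of_isPrime_disjoint p.primeCompl _ q hq hdisj
      have hcomapQ : (q.map (algebraMap R (Localization.AtPrime p))).comap
          (algebraMap R (Localization.AtPrime p)) = q :=
        IsLocalization.comap_map_of_isPrime_disjoint p.primeCompl _ hq hdisj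
      have hcolon : Submodule.colon (⊥ : Submodule (Localization.AtPrime p)
          (LocalizedModule p.primeCompl M)) {LocalizedModule.mk m s} ≤
          q.map (algebraMap R (Localization.AtPrime p)) := by
        intro y hy
        induction y using Localization.induction_on with
        | H at_ =>
        obtain ⟨a, t⟩ := at_
        rw [Submodule.mem_colon_singleton, Submodule.mem_bot, smul_mk_eq_zero_iff] at hy
        obtain ⟨u, hu⟩ := hy
        have h1 : (u : R) * a ∈ q := hAnnq ((hmemAnn m _).mpr hu)
        have h2 : a ∈ q := (hq.mem_or_mem h1).resolve_left (fun h => u.2 (hqp h))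
        have h3 : (Localization.mk a t : Localization.AtPrime p) =
            algebraMap R (Localization.AtPrime p) a * Localization.mk 1 t := by
          rw [← Localization.mk_one_eq_algebraMap, Localization.mk_mul, mul_one, one_mul]
        rw [h3]
        exact Ideal.mul_mem_right _ _ (Ideal.mem_map_of_mem _ h2)
      have h4 : IsLocalRing.maximalIdeal (Localization.AtPrime p) ≤
          q.map (algebraMap R (Localization.AtPrime p)) := by
        rw [hx]
        exact (Ideal.IsPrime.radical_le_iff hQ).mpr hcolon
      calc p = (IsLocalRing.maximalIdeal (Localization.AtPrime p)).comap _ := hcomap𝔪.symm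
        _ ≤ (q.map (algebraMap R (Localization.AtPrime p))).comap _ := Ideal.comap_mono h4
        _ = q := hcomapQ

end Groth.Agent.S9581
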