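import Groth.Statements.S9582
-- import your own Groth.Agent.* helpers here

set_option autoImplicit false
universe u
open CAlg

namespace Groth.Agent.S9582

/-- For a reduced ring R, the primes weakly associated to the R-module R (primes minimal over the
annihilator of some element) are exactly the minimal primes of R. -/
theorem result {R : Type u} [CommRing R] [IsReduced R] :
    FlatCA.weakAss R R = minimalPrimes R := by
  classical
  ext p
  constructor
  · rintro ⟨m, hm⟩
    -- p is minimal over Ann(m)
    have hp : p.IsPrime := hm.1.1
    have hAnn : (Submodule.span R {m}).annihilator ≤ p := hm.1.2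
    have hmin : ∀ q : Ideal R, q.IsPrime → (Submodule.span R {m}).annihilator ≤ q → q ≤ p → p ≤ q :=
      fun q hq h1 h2 => hm.2 ⟨hq, h1⟩ h2
    have hmem : ∀ a : R, a ∈ (Submodule.span R {m}).annihilator ↔ a * m = 0 := by
      intro a
      rw [Submodule.mem_annihilator_span_singleton, smul_eq_mul]
    -- every prime strictly below p contains m, hence every prime below p contains m or equals p
    refine ⟨⟨hp, bot_le⟩, ?_⟩
    rintro q ⟨hq, -⟩ hqp
    by_contra hne
    -- q ⊊ p
    have hlt : ¬ p ≤ q := hne
    -- m lies in every prime q' ≤ p with ¬ p ≤ q'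
    have key : ∀ q' : Ideal R, q'.IsPrime → q' ≤ p → ¬ p ≤ q' → m ∈ q' := by
      intro q' hq' hq'p hnle
      have : ¬ (Submodule.span R {m}).annihilator ≤ q' := fun h => hnle (hmin q' hq' h hq'p)
      obtain ⟨a, ha, haq⟩ := SetLike.not_le_iff_exists.mp this
      have h0 : a * m = 0 := (hmem a).mp ha
      have : a * m ∈ q' := by rw [h0]; exact zero_mem _
      exact (hq'.mem_or_mem this).resolve_left haq
    have hmp : m ∈ p := hqp (key q hq hqp hlt)
    -- the multiplicative set generated by R∖p and m
    let T : Submonoid R := p.primeCompl ⊔ Submonoid.powers m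
    have h0T : (0 : R) ∈ T := by
      by_contra h0
      have hdisj : Disjoint ((⊥ : Ideal R) : Set R) (T : Set R) := by
        rw [Set.disjoint_left]
        intro x hx hxT
        have : x = 0 := by simpa using hx
        rw [this] at hxT
        exact h0 hxT
      obtain ⟨q', hq', -, hq'T⟩ := Ideal.exists_le_prime_disjoint ⊥ T hdisj
      have hq'p : q' ≤ p := by
        intro x hx
        by_contra hxp
        have : x ∈ T := (le_sup_left : p.primeCompl ≤ T) hxp
        exact Set.disjoint_left.mp hq'T hx this
      have hmq' : m ∉ q' := by
        intro hmq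
        have : m ∈ T := (le_sup_right : Submonoid.powers m ≤ T) (Submonoid.mem_powers m)
        exact Set.disjoint_left.mp hq'T hmq this
      by_cases hpq' : p ≤ q'
      · exact hmq' (hpq' hmp)
      · exact hmq' (key q' hq' hq'p hpq')
    obtain ⟨s, hs, t, ⟨k, rfl⟩, hst⟩ := Submonoid.mem_sup.mp h0T
    have hsm : s * m = 0 := by
      have hnil : IsNilpotent (s * m) := by
        refine ⟨k + 1, ?_⟩
        rw [mul_pow, pow_succ s k, pow_succ m k]
        calc s ^ k * s * (m ^ k * m) = (s ^ k * m) * (s * m ^ k) := by ring
          _ = 0 := by
            have : s * m ^ k = 0 := hst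
            rw [this, mul_zero]
      exact hnil.eq_zero
    exact hs (hAnn ((hmem s).mpr hsm))
  · intro hp
    refine ⟨1, ?_⟩
    have : (Submodule.span R {(1 : R)}).annihilator = ⊥ := by
      have h1 : Submodule.span R {(1 : R)} = ⊤ := Ideal.span_singleton_one
      rw [h1, Submodule.annihilator_top]
      rw [eq_bot_iff]
      intro a ha
      have := Module.mem_annihilator.mp ha 1
      simpa using this
    rw [this]
    exact hp

end Groth.Agent.S9582
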