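import Groth.Statements.S9583
import Groth.Agent.Lib.Helper13WeakAss
-- import your own Groth.Agent.* helpers here

set_option autoImplicit false
universe u
open CAlg

namespace Groth.Agent.S9583

/-- For a ring R and a short exact sequence 0 → M' → M → M'' → 0 of R-modules, every prime weakly
associated to M' is weakly associated to M, and every prime weakly associated to M is weakly
associated to M' or to M''. -/
theorem result {R : Type u} [CommRing R] {M' M M'' : Type u} [AddCommGroup M'] [Module R M'] [AddCommGroup M] [Module R M] [AddCommGroup M''] [Module R M''] (f : M' →ₗ[R] M) (g : M →ₗ[R] M'') (hf : Function.Injective f) (hg : Function.Surjective g) (hfg : Function.Exact f g) :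
    FlatCA.weakAss R M' ⊆ FlatCA.weakAss R M ∧ FlatCA.weakAss R M ⊆ FlatCA.weakAss R M' ∪ FlatCA.weakAss R M'' := by
  classical
  constructor
  · rintro p ⟨m', hm'⟩
    refine ⟨f m', ?_⟩
    have : (Submodule.span R {f m'}).annihilator = (Submodule.span R {m'}).annihilator := by
      ext a
      rw [Groth.Agent.Helper13WeakAss.mem_ann_iff, Groth.Agent.Helper13WeakAss.mem_ann_iff,
        ← map_smul]
      exact ⟨fun h => hf (by rw [h, map_zero]), fun h => by rw [h, map_zero]⟩
    rw [this]; exact hm'
  · rintro p ⟨m, hm⟩
    have hp : p.IsPrime := hm.1.1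
    by_cases hcase : (Submodule.span R {g m}).annihilator ≤ p
    · right
      refine ⟨g m, Groth.Agent.Helper13WeakAss.minimalPrimes_of_le_of_le hm ?_ hcase⟩
      intro a ha
      rw [Groth.Agent.Helper13WeakAss.mem_ann_iff] at ha ⊢
      rw [← map_smul, ha, map_zero]
    · left
      obtain ⟨a, ha, hap⟩ := SetLike.not_le_iff_exists.mp hcase
      rw [Groth.Agent.Helper13WeakAss.mem_ann_iff, ← map_smul] at ha
      obtain ⟨m', hm'⟩ := (hfg (a • m)).mp ha
      refine ⟨m', ?_⟩
      have hann : (Submodule.span R {m'}).annihilator = (Submodule.span R {a • m}).annihilator := by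
        ext b
        rw [Groth.Agent.Helper13WeakAss.mem_ann_iff, Groth.Agent.Helper13WeakAss.mem_ann_iff,
          ← hm', ← map_smul]
        exact ⟨fun h => by rw [h, map_zero], fun h => hf (by rw [h, map_zero])⟩
      rw [hann]
      refine Groth.Agent.Helper13WeakAss.minimalPrimes_of_le_of_le hm ?_ ?_
      · intro b hb
        rw [Groth.Agent.Helper13WeakAss.mem_ann_iff] at hb ⊢
        rw [smul_comm, hb, smul_zero]
      · intro b hb
        rw [Groth.Agent.Helper13WeakAss.mem_ann_iff, ← mul_smul] at hb
        have : b * a ∈ p := hm.1.2 ((Groth.Agent.Helper13WeakAss.mem_ann_iff m _).mpr hb)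
        exact (hp.mem_or_mem this).resolve_right hap

end Groth.Agent.S9583
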