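import Groth.Statements.S9584
import Groth.Agent.Lib.Helper13WeakAss
-- import your own Groth.Agent.* helpers here

set_option autoImplicit false
universe u
open CAlg

namespace Groth.Agent.S9584

/-- For a ring R and an R-module M, M has no weakly associated prime (no prime minimal over the
annihilator of an element) if and only if M = 0. -/
theorem result {R : Type u} [CommRing R] (M : Type u) [AddCommGroup M] [Module R M] :
    FlatCA.weakAss R M = ∅ ↔ Subsingleton M := by
  classical
  constructor
  · intro h
    refine ⟨fun x y => ?_⟩
    have key : ∀ m : M, m = 0 := by
      intro m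
      by_contra hm
      have hne : (Submodule.span R {m}).annihilator ≠ ⊤ := by
        intro htop
        have : (1 : R) ∈ (Submodule.span R {m}).annihilator := by rw [htop]; trivial
        rw [Groth.Agent.Helper13WeakAss.mem_ann_iff, one_smul] at this
        exact hm this
      obtain ⟨⟨p, hp⟩⟩ := Ideal.nonempty_minimalPrimes hne
      have : p ∈ FlatCA.weakAss R M := ⟨m, hp⟩
      rw [h] at this
      exact this
    rw [key x, key y]
  · intro h
    ext p
    simp only [Set.mem_empty_iff_false, iff_false]
    rintro ⟨m, hm⟩
    have : (Submodule.span R {m}).annihilator = ⊤ := by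
      rw [Ideal.eq_top_iff_one, Groth.Agent.Helper13WeakAss.mem_ann_iff]
      exact Subsingleton.elim _ _
    rw [this, Ideal.minimalPrimes_top] at hm
    exact hm

end Groth.Agent.S9584
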