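import Groth.Statements.S9585
import Groth.Agent.Lib.Helper13WeakAss
-- import your own Groth.Agent.* helpers here

set_option autoImplicit false
universe u
open CAlg

namespace Groth.Agent.S9585

/-- For a ring R and an R-module M, an element of R lies in some weakly associated prime of M exactly
when multiplication by it on M is not injective; in other words the union of the weakly associated
primes of M equals the set of zerodivisors on M. -/
theorem result {R : Type u} [CommRing R] (M : Type u) [AddCommGroup M] [Module R M] :
    ⋃ q ∈ FlatCA.weakAss R M, (q : Set R) = {f : R | ¬ IsSMulRegular M f} := by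
  classical
  ext f
  simp only [Set.mem_iUnion, SetLike.mem_coe, exists_prop, Set.mem_setOf_eq]
  constructor
  · rintro ⟨q, ⟨m, hm⟩, hfq⟩
    obtain ⟨y, hy, hfy⟩ := Ideal.exists_mul_mem_of_mem_minimalPrimes hm hfq
    rw [Groth.Agent.Helper13WeakAss.mem_ann_iff] at hy hfy
    intro hreg
    apply hy
    apply hreg
    simp only
    rw [smul_zero, ← mul_smul]
    exact hfy
  · intro hf
    have : ∃ m : M, m ≠ 0 ∧ f • m = 0 := by
      by_contra hcon
      apply hf
      intro x y hxy
      have h0 : f • (x - y) = 0 := by rw [smul_sub, sub_eq_zero]; exact hxy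
      by_contra hne
      exact hcon ⟨x - y, sub_ne_zero.mpr hne, h0⟩
    obtain ⟨m, hm0, hfm⟩ := this
    have hne : (Submodule.span R {m}).annihilator ≠ ⊤ := by
      intro htop
      have : (1 : R) ∈ (Submodule.span R {m}).annihilator := by rw [htop]; trivial
      rw [Groth.Agent.Helper13WeakAss.mem_ann_iff, one_smul] at this
      exact hm0 this
    obtain ⟨⟨p, hp⟩⟩ := Ideal.nonempty_minimalPrimes hne
    exact ⟨p, ⟨m, hp⟩, hp.1.2 ((Groth.Agent.Helper13WeakAss.mem_ann_iff m f).mpr hfm)⟩

end Groth.Agent.S9585
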