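import Groth.Statements.S9586
import Groth.Agent.Lib.Helper13WeakAss
-- import your own Groth.Agent.* helpers here

set_option autoImplicit false
universe u
open CAlg

namespace Groth.Agent.S9586

open Groth.Agent.Helper13WeakAss in
theorem aux {R : Type u} [CommRing R] (M : Type u) [AddCommGroup M] [Module R M] (p : Ideal R)
    [p.IsPrime] (s : Finset R) (hs : ∀ g ∈ s, g ∈ p) (m : M)
    (hm : p ∈ (Submodule.span R {m}).annihilator.minimalPrimes) :
    ∃ m' : M, p ∈ (Submodule.span R {m'}).annihilator.minimalPrimes ∧ ∀ g ∈ s, g • m' = 0 := by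
  classical
  induction s using Finset.induction_on with
  | empty => exact ⟨m, hm, by simp⟩
  | insert a s ha ih =>
    obtain ⟨m₀, hm₀, hkill⟩ := ih (fun g hg => hs g (Finset.mem_insert_of_mem hg))
    have hap : a ∈ p := hs a (Finset.mem_insert_self a s)
    have hex : ∃ e : ℕ, ∃ t ∉ p, (t * a ^ e) • m₀ = 0 := by
      obtain ⟨t, ht, n, hn⟩ := exists_notMem_mul_pow_mem hm₀ hap
      exact ⟨n, t, ht, (mem_ann_iff m₀ _).mp hn⟩
    have hfind := Nat.find_spec hex
    have hne0 : Nat.find hex ≠ 0 := by
      intro h0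
      rw [h0] at hfind
      obtain ⟨t, ht, ht0⟩ := hfind
      rw [pow_zero, mul_one] at ht0
      exact ht (hm₀.1.2 ((mem_ann_iff m₀ t).mpr ht0))
    obtain ⟨k, hk⟩ := Nat.exists_eq_succ_of_ne_zero hne0
    obtain ⟨t, ht, ht0⟩ := hfind
    rw [hk] at ht0
    refine ⟨(t * a ^ k) • m₀, ?_, ?_⟩
    · refine minimalPrimes_of_le_of_le hm₀ ?_ ?_
      · intro b hb
        rw [mem_ann_iff] at hb ⊢
        rw [smul_comm, hb, smul_zero]
      · intro b hb
        rw [mem_ann_iff, ← mul_smul] at hb
        by_contra hbp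
        have hbt : b * t ∉ p := fun h => (Ideal.IsPrime.mem_or_mem ‹p.IsPrime› h).elim hbp ht
        have : ∃ t' ∉ p, (t' * a ^ k) • m₀ = 0 := ⟨b * t, hbt, by rw [mul_assoc]; exact hb⟩
        have := Nat.find_min' hex this
        omega
    · intro g hg
      rcases Finset.mem_insert.mp hg with rfl | hg
      · rw [← mul_smul]
        have : g * (t * g ^ k) = t * g ^ (k + 1) := by ring
        rw [this]; exact ht0
      · rw [smul_comm, hkill g hg, smul_zero]


/-- For a ring R, an R-module M and a finitely generated prime ideal p of R, p is associated to M (equal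
to the annihilator of an element) if and only if p is weakly associated to M (minimal over the
annihilator of an element). -/
theorem result {R : Type u} [CommRing R] (M : Type u) [AddCommGroup M] [Module R M] (p : Ideal R) [p.IsPrime] (hp : p.FG) :
    p ∈ FlatCA.ass R M ↔ p ∈ FlatCA.weakAss R M := by
  classical
  constructor
  · rintro ⟨hp', m, hm⟩
    refine ⟨m, ?_⟩
    rw [← hm, Ideal.minimalPrimes_eq_subsingleton_self]
    rfl
  · rintro ⟨m, hm⟩
    obtain ⟨s, hs⟩ := hp
    have hsp : ∀ g ∈ s, g ∈ p := fun g hg => by rw [← hs]; exact Ideal.subset_span hg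
    obtain ⟨m', hm', hkill⟩ := aux M p s hsp m hm
    refine ⟨inferInstance, m', le_antisymm ?_ hm'.1.2⟩
    rw [← hs, Ideal.span_le]
    intro g hg
    exact (Groth.Agent.Helper13WeakAss.mem_ann_iff m' g).mpr (hkill g hg)

end Groth.Agent.S9586
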