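import Groth.Statements.S9594
import Groth.Agent.Lib.Helper13WeakAss
-- import your own Groth.Agent.* helpers here

set_option autoImplicit false
universe u
open CAlg

namespace Groth.Agent.S9594

/-- For a ring R, an R-module M and a multiplicative subset S of R, (1) the primes of R associated to
the R-module S⁻¹M are the inverse images of the primes of S⁻¹R associated to S⁻¹M, and (2) a prime
of R associated to M which does not meet S is associated to the R-module S⁻¹M. Here a prime is
associated to a module when it equals the annihilator of some element. -/
theorem result {R : Type u} [CommRing R] (S : Submonoid R) (M : Type u) [AddCommGroup M] [Module R M] :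
    FlatCA.ass R (LocalizedModule S M) = Ideal.comap (algebraMap R (Localization S)) '' FlatCA.ass (Localization S) (LocalizedModule S M) ∧
      ∀ p ∈ FlatCA.ass R M, Disjoint (S : Set R) (p : Set R) → p ∈ FlatCA.ass R (LocalizedModule S M) := by
  classical
  constructor
  · ext p
    constructor
    · rintro ⟨hp, x, hx⟩
      induction x using LocalizedModule.induction_on with
      | h m t =>
      -- p is disjoint from S
      have hdisj : Disjoint (S : Set R) (p : Set R) := by
        rw [Set.disjoint_left]
        intro s hs hsp
        rw [SetLike.mem_coe, hx, Groth.Agent.Helper13WeakAss.mem_ann_iff,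
          Groth.Agent.Helper13WeakAss.smul_mk_eq_zero_iff'] at hsp
        obtain ⟨u, hu⟩ := hsp
        have h0 : (LocalizedModule.mk m t : LocalizedModule S M) = 0 := by
          rw [Groth.Agent.Helper13WeakAss.mk_eq_zero_iff]
          exact ⟨u * ⟨s, hs⟩, hu⟩
        apply hp.ne_top
        rw [hx, Ideal.eq_top_iff_one, Groth.Agent.Helper13WeakAss.mem_ann_iff, h0, smul_zero]
      set P := (Submodule.span (Localization S)
        {(LocalizedModule.mk m t : LocalizedModule S M)}).annihilator with hP
      have hcomap : P.comap (algebraMap R (Localization S)) = p := by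
        rw [hx, Groth.Agent.Helper13WeakAss.annihilator_mk_restrict S]
      have hPmap : P = p.map (algebraMap R (Localization S)) := by
        rw [← hcomap]
        exact (IsLocalization.map_comap S (Localization S) P).symm
      have hPprime : P.IsPrime := by
        rw [hPmap]
        exact IsLocalization.isPrime_of_isPrime_disjoint S (Localization S) p hp hdisj
      exact ⟨P, ⟨hPprime, LocalizedModule.mk m t, rfl⟩, hcomap⟩
    · rintro ⟨q, ⟨hq, x, hx⟩, rfl⟩
      refine ⟨hq.comap _, x, ?_⟩
      rw [Groth.Agent.Helper13WeakAss.annihilator_mk_restrict S, hx]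
  · rintro p ⟨hp, m, hm⟩ hdisj
    refine ⟨hp, LocalizedModule.mk m 1, ?_⟩
    ext a
    rw [Groth.Agent.Helper13WeakAss.mem_ann_iff, Groth.Agent.Helper13WeakAss.smul_mk_eq_zero_iff']
    constructor
    · intro ha
      refine ⟨1, ?_⟩
      rw [hm, Groth.Agent.Helper13WeakAss.mem_ann_iff] at ha
      simpa using ha
    · rintro ⟨u, hu⟩
      have h1 : (u : R) * a ∈ p := by
        rw [hm, Groth.Agent.Helper13WeakAss.mem_ann_iff]; exact hu
      exact (hp.mem_or_mem h1).resolve_left (fun h => Set.disjoint_left.mp hdisj u.2 h)

end Groth.Agent.S9594
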