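import Groth.Statements.S9595
import Groth.Agent.Lib.Helper13WeakAss
-- import your own Groth.Agent.* helpers here

set_option autoImplicit false
universe u
open CAlg

namespace Groth.Agent.S9595

/-- For a ring R, an R-module M and a multiplicative subset S of R whose elements are all
nonzerodivisors on M, a prime of R is the annihilator of an element of M if and only if it is the
annihilator in R of an element of S⁻¹M. -/
theorem result {R : Type u} [CommRing R] (S : Submonoid R) (M : Type u) [AddCommGroup M] [Module R M] (hS : ∀ s ∈ S, IsSMulRegular M s) :
    FlatCA.ass R M = FlatCA.ass R (LocalizedModule S M) := by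
  classical
  have hann : ∀ (m : M) (s : S), (Submodule.span R {(LocalizedModule.mk m s : LocalizedModule S M)}).annihilator =
      (Submodule.span R {m}).annihilator := by
    intro m s
    ext a
    rw [Groth.Agent.Helper13WeakAss.mem_ann_iff, Groth.Agent.Helper13WeakAss.mem_ann_iff,
      Groth.Agent.Helper13WeakAss.smul_mk_eq_zero_iff']
    constructor
    · rintro ⟨u, hu⟩
      rw [mul_smul] at hu
      exact hS u u.2 (by simpa using hu)
    · intro h
      exact ⟨1, by simpa using h⟩
  ext p
  constructor
  · rintro ⟨hp, m, hm⟩
    exact ⟨hp, LocalizedModule.mk m 1, by rw [hann]; exact hm⟩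
  · rintro ⟨hp, x, hx⟩
    induction x using LocalizedModule.induction_on with
    | h m s =>
    exact ⟨hp, m, by rw [hann] at hx; exact hx⟩

end Groth.Agent.S9595
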