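import Groth.Statements.S9596
import Mathlib.RingTheory.Ideal.MinimalPrime.Colon
-- import your own Groth.Agent.* helpers here

set_option autoImplicit false
universe u
open CAlg

namespace Groth.Agent.S9596

/-- For a Noetherian ring R and any R-module M, a prime which is minimal among the primes in the support
of M is an associated prime of M. -/
theorem result {R : Type u} [CommRing R] [IsNoetherianRing R] (M : Type u) [AddCommGroup M] [Module R M] (p : PrimeSpectrum R) (hp : Minimal (fun q : PrimeSpectrum R => q ∈ Module.support R M) p) :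
    p.asIdeal ∈ associatedPrimes R M := by
  classical
  obtain ⟨m, hm⟩ := Module.mem_support_iff_exists_annihilator.mp hp.1
  have hcolon : (⊥ : Submodule R M).colon {m} = (Submodule.span R {m}).annihilator := by
    ext a
    rw [Submodule.mem_colon_singleton, Submodule.mem_bot, Submodule.mem_annihilator_span_singleton]
  have hmin : p.asIdeal ∈ ((⊥ : Submodule R M).colon {m}).minimalPrimes := by
    rw [hcolon]
    refine ⟨⟨p.isPrime, hm⟩, ?_⟩
    rintro q ⟨hq, hmq⟩ hqp
    have hqs : (⟨q, hq⟩ : PrimeSpectrum R) ∈ Module.support R M :=
      Module.mem_support_iff_exists_annihilator.mpr ⟨m, hmq⟩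
    exact hp.2 hqs hqp
  obtain ⟨x', hx'⟩ := Submodule.exists_eq_colon_of_mem_minimalPrimes hmin
  rw [AssociatedPrimes.mem_iff, isAssociatedPrime_iff]
  exact ⟨p.isPrime, x', hx'⟩

end Groth.Agent.S9596
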