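import Groth.Statements.S9597
import Mathlib.RingTheory.Ideal.Colon
import Mathlib.RingTheory.Ideal.Quotient.Noetherian
-- import your own Groth.Agent.* helpers here

set_option autoImplicit false
universe u
open CAlg

namespace Groth.Agent.S9597

theorem comap_mem_ass {R : Type u} [CommRing R] [IsNoetherianRing R] (M : Type u) [AddCommGroup M]
    [Module R M] [Module.Finite R M]
    (P : Ideal (R ⧸ Module.annihilator R M))
    (hP : P ∈ associatedPrimes (R ⧸ Module.annihilator R M) (R ⧸ Module.annihilator R M)) :
    P.comap (Ideal.Quotient.mk (Module.annihilator R M)) ∈ associatedPrimes R M := by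
  classical
  rw [AssociatedPrimes.mem_iff, isAssociatedPrime_iff] at hP
  obtain ⟨hPprime, abar, hPa⟩ := hP
  obtain ⟨a, rfl⟩ := Ideal.Quotient.mk_surjective abar
  obtain ⟨s, hs⟩ := (Module.Finite.fg_top : (⊤ : Submodule R M).FG)
  set p := P.comap (Ideal.Quotient.mk (Module.annihilator R M)) with hp
  have hpprime : p.IsPrime := hPprime.comap _
  have hmem : ∀ x : R, x ∈ p ↔ ∀ m ∈ s, (x * a) • m = 0 := by
    intro x
    rw [hp, Ideal.mem_comap, hPa, Submodule.mem_colon_singleton, Submodule.mem_bot, smul_eq_mul,
      ← map_mul, Ideal.Quotient.eq_zero_iff_mem, ← Submodule.annihilator_top, ← hs,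
      Submodule.mem_annihilator_span]
    constructor
    · intro h m hm
      exact h ⟨m, hm⟩
    · intro h m
      exact h m.1 m.2
  have hle : s.inf (fun m => (⊥ : Submodule R M).colon {a • m}) ≤ p := by
    intro x hx
    rw [hmem]
    intro m hm
    have := (Finset.inf_le hm : s.inf (fun m => (⊥ : Submodule R M).colon {a • m}) ≤ _) hx
    rw [Submodule.mem_colon_singleton, Submodule.mem_bot, ← mul_smul] at this
    exact this
  obtain ⟨m, hm, hmp⟩ := (Ideal.IsPrime.inf_le' hpprime).mp hle
  rw [AssociatedPrimes.mem_iff, isAssociatedPrime_iff]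
  refine ⟨hpprime, a • m, le_antisymm ?_ hmp⟩
  intro x hx
  rw [Submodule.mem_colon_singleton, Submodule.mem_bot, ← mul_smul]
  exact (hmem x).mp hx m hm


/-- Let R be a Noetherian ring, M a finite R-module whose associated primes are pairwise incomparable
under inclusion (M has no embedded associated primes), and I the annihilator of M. Then the
associated primes of R/I, viewed as a module over itself, are again pairwise incomparable: R/I has
no embedded primes either. -/
theorem result {R : Type u} [CommRing R] [IsNoetherianRing R] (M : Type u) [AddCommGroup M] [Module R M] [Module.Finite R M] (hM : ∀ p ∈ associatedPrimes R M, ∀ q ∈ associatedPrimes R M, p ≤ q → p = q) :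
    ∀ p ∈ associatedPrimes (R ⧸ Module.annihilator R M) (R ⧸ Module.annihilator R M), ∀ q ∈ associatedPrimes (R ⧸ Module.annihilator R M) (R ⧸ Module.annihilator R M), p ≤ q → p = q := by
  intro P hP Q hQ hPQ
  have h1 := comap_mem_ass M P hP
  have h2 := comap_mem_ass M Q hQ
  have h3 := hM _ h1 _ h2 (Ideal.comap_mono hPQ)
  exact Ideal.comap_injective_of_surjective _ Ideal.Quotient.mk_surjective h3

end Groth.Agent.S9597
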