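import Groth.Statements.S9598
import Mathlib.RingTheory.Jacobson.Ring
import Mathlib.RingTheory.Ideal.AssociatedPrime.Finiteness
-- import your own Groth.Agent.* helpers here

set_option autoImplicit false
universe u
open CAlg

namespace Groth.Agent.S9598

/-- For a field k and a finite type k-algebra S with dim S > 0, some element of S is a nonzerodivisor
and a nonunit. -/
theorem result {k S : Type u} [Field k] [CommRing S] [Algebra k S] [Algebra.FiniteType k S] (hdim : 0 < ringKrullDim S) :
    ∃ f : S, f ∈ nonZeroDivisors S ∧ ¬ IsUnit f := by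
  classical
  haveI : IsNoetherianRing S := Algebra.FiniteType.isNoetherianRing k S
  haveI : IsJacobsonRing S := isJacobsonRing_of_finiteType (A := k)
  have hfin : (associatedPrimes S S).Finite := associatedPrimes.finite S S
  -- there is a maximal ideal which is not associated
  have hex : ∃ m : Ideal S, m.IsMaximal ∧ m ∉ associatedPrimes S S := by
    by_contra hcon
    simp only [not_exists, not_and, not_not] at hcon
    -- then every prime is maximal
    have hdim : Ring.KrullDimLE 0 S := by
      rw [Ring.krullDimLE_zero_iff]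
      intro p hp
      have hjac : p.jacobson = p := IsJacobsonRing.out ‹IsJacobsonRing S› hp.isRadical
      set T : Set (Ideal S) := {J | p ≤ J ∧ J.IsMaximal} with hT
      have hTfin : T.Finite := hfin.subset (fun J hJ => hcon J hJ.2)
      have hle : hTfin.toFinset.inf id ≤ p := by
        rw [Finset.inf_id_eq_sInf, Set.Finite.coe_toFinset]
        exact hjac.le
      obtain ⟨m, hm, hmp⟩ := (Ideal.IsPrime.inf_le' hp).mp hle
      rw [Set.Finite.mem_toFinset] at hm
      have : m = p := hm.2.eq_of_le hp.ne_top hmp
      exact this ▸ hm.2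
    rw [Ring.krullDimLE_iff] at hdim
    have hdim0 : (0 : WithBot ℕ∞) < ringKrullDim S := ‹0 < ringKrullDim S›
    exact absurd (lt_of_lt_of_le hdim0 hdim) (lt_irrefl _)
  obtain ⟨m, hm, hmAss⟩ := hex
  -- prime avoidance
  have hnot : ¬ ((m : Set S) ⊆ ⋃ P ∈ (hfin.toFinset : Set (Ideal S)), (id P : Ideal S)) := by
    rw [Ideal.subset_union_prime (⊥ : Ideal S) (⊥ : Ideal S)]
    · rintro ⟨P, hP, hmP⟩
      rw [Set.Finite.mem_toFinset] at hP
      have hPprime : P.IsPrime := hP.isPrime
      have : m = P := hm.eq_of_le hPprime.ne_top hmP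
      exact hmAss (this ▸ hP)
    · intro P hP _ _
      rw [Set.Finite.mem_toFinset] at hP
      exact hP.isPrime
  obtain ⟨f, hfm, hfU⟩ := Set.not_subset.mp hnot
  refine ⟨f, ?_, fun hu => hm.ne_top (Ideal.eq_top_of_isUnit_mem _ hfm hu)⟩
  have hU := biUnion_associatedPrimes_eq_compl_nonZeroDivisors S
  by_contra hnz
  apply hfU
  have : f ∈ ((nonZeroDivisors S : Set S))ᶜ := hnz
  rw [← hU] at this
  simp only [Set.mem_iUnion] at this ⊢
  obtain ⟨P, hP, hfP⟩ := this
  exact ⟨P, by simpa using hP, hfP⟩

end Groth.Agent.S9598
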