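import Groth.Statements.S9599
import Mathlib.RingTheory.AdicCompletion.Exactness
import Mathlib.RingTheory.Flat.Equalizer
import Mathlib.LinearAlgebra.TensorProduct.Quotient
-- import your own Groth.Agent.* helpers here

set_option autoImplicit false
universe u
open CAlg

namespace Groth.Agent.S9599

open TensorProduct in
/-- For a short exact sequence with flat cokernel, `i k ∈ J M` implies `k ∈ J K`. -/
theorem flat_key {R : Type u} [CommRing R] {K M N : Type u} [AddCommGroup K] [Module R K]
    [AddCommGroup M] [Module R M] [AddCommGroup N] [Module R N] [Module.Flat R N]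
    (i : K →ₗ[R] M) (g : M →ₗ[R] N) (hi : Function.Injective i) (hg : Function.Surjective g)
    (hig : Function.Exact i g) (J : Ideal R) (k : K)
    (hk : i k ∈ (J • ⊤ : Submodule R M)) : k ∈ (J • ⊤ : Submodule R K) := by
  have hinj := LinearMap.lTensor_injective_of_exact_of_flat g hg i hi hig (R ⧸ J)
  have h1 : (i.lTensor (R ⧸ J)) ((1 : R ⧸ J) ⊗ₜ[R] k) = 0 := by
    rw [LinearMap.lTensor_tmul]
    apply (TensorProduct.quotTensorEquivQuotSMul M J).injective
    rw [TensorProduct.quotTensorEquivQuotSMul_mk_one_tmul, map_zero,
      Submodule.Quotient.mk_eq_zero]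
    exact hk
  have h2 : ((1 : R ⧸ J) ⊗ₜ[R] k : (R ⧸ J) ⊗[R] K) = 0 := hinj (by rw [h1, map_zero])
  have h3 := congrArg (TensorProduct.quotTensorEquivQuotSMul K J) h2
  rw [TensorProduct.quotTensorEquivQuotSMul_mk_one_tmul, map_zero,
    Submodule.Quotient.mk_eq_zero] at h3
  exact h3


/-- For a ring R, an ideal I of R and a short exact sequence 0 → K → M → N → 0 of R-modules with N flat
over R, the induced sequence of I-adic completions 0 → K^ → M^ → N^ → 0 is again short exact. -/
theorem result {R : Type u} [CommRing R] (I : Ideal R) {K M N : Type u} [AddCommGroup K] [Module R K] [AddCommGroup M] [Module R M] [AddCommGroup N] [Module R N] [Module.Flat R N] (i : K →ₗ[R] M) (g : M →ₗ[R] N) (hi : Function.Injective i) (hg : Function.Surjective g) (hig : Function.Exact i g) :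
    Function.Injective (AdicCompletion.map I i) ∧ Function.Exact (AdicCompletion.map I i) (AdicCompletion.map I g) ∧ Function.Surjective (AdicCompletion.map I g) := by
  classical
  have key := fun (n : ℕ) (k : K) => flat_key i g hi hg hig (I ^ n) k
  refine ⟨?_, ?_, AdicCompletion.map_surjective I hg⟩
  · rw [injective_iff_map_eq_zero]
    intro x hx
    induction x using AdicCompletion.induction_on with
    | h c =>
    apply AdicCompletion.ext
    intro n
    have h1 := congrArg (fun z => z.val n) hx
    simp only [AdicCompletion.map_mk, AdicCompletion.mk_apply_coe, AdicCompletion.val_zero,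
      Submodule.mkQ_apply, AdicCompletion.AdicCauchySequence.map_apply_coe] at h1
    rw [Pi.zero_apply, Submodule.Quotient.mk_eq_zero] at h1
    rw [AdicCompletion.mk_apply_coe, AdicCompletion.val_zero, Pi.zero_apply,
      Submodule.mkQ_apply, Submodule.Quotient.mk_eq_zero]
    exact key n (c n) h1
  · refine LinearMap.exact_of_comp_eq_zero_of_ker_le_range ?_ (fun y => ?_)
    · rw [AdicCompletion.map_comp, hig.linearMap_comp_eq_zero, AdicCompletion.map_zero]
    · induction y using AdicCompletion.induction_on with
      | h b =>
      intro hz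
      have hb : ∀ n : ℕ, g (b n) ∈ (I ^ n • ⊤ : Submodule R N) := by
        intro n
        have h1 := congrArg (fun z => z.val n) hz
        simp only [AdicCompletion.map_mk, AdicCompletion.mk_apply_coe, AdicCompletion.val_zero,
          Submodule.mkQ_apply, AdicCompletion.AdicCauchySequence.map_apply_coe] at h1
        rw [Pi.zero_apply, Submodule.Quotient.mk_eq_zero] at h1
        exact h1
      -- choose e n ∈ I^n M with g (e n) = g (b n)
      have hex : ∀ n : ℕ, ∃ k : K, b n - i k ∈ (I ^ n • ⊤ : Submodule R M) := by
        intro n
        have h1 : g (b n) ∈ Submodule.map g (I ^ n • ⊤ : Submodule R M) := by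
          rw [Submodule.map_smul'', Submodule.map_top, LinearMap.range_eq_top.mpr hg]
          exact hb n
        obtain ⟨e, he, hge⟩ := h1
        have h2 : g (b n - e) = 0 := by rw [map_sub, hge, sub_self]
        obtain ⟨k, hk⟩ := (hig (b n - e)).mp h2
        refine ⟨k, ?_⟩
        rw [hk]
        simpa using he
      choose k hk using hex
      have hcauchy : ∀ {m n : ℕ}, m ≤ n → k m ≡ k n [SMOD (I ^ m • ⊤ : Submodule R K)] := by
        intro m n hmn
        rw [SModEq.sub_mem]
        apply key m
        have h1 : b m - b n ∈ (I ^ m • ⊤ : Submodule R M) := by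
          have := b.property hmn
          rwa [SModEq.sub_mem] at this
        have h2 : b n - i (k n) ∈ (I ^ m • ⊤ : Submodule R M) :=
          Submodule.smul_mono_left (Ideal.pow_le_pow_right hmn) (hk n)
        have : i (k m - k n) = (b m - b n) + (b n - i (k n)) - (b m - i (k m)) := by
          rw [map_sub]; abel
        rw [this]
        exact Submodule.sub_mem _ (Submodule.add_mem _ h1 h2) (hk m)
      refine ⟨AdicCompletion.mk I K ⟨k, hcauchy⟩, ?_⟩
      apply AdicCompletion.ext
      intro n
      simp only [AdicCompletion.map_mk, AdicCompletion.mk_apply_coe, Submodule.mkQ_apply,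
        AdicCompletion.AdicCauchySequence.map_apply_coe]
      rw [Submodule.Quotient.eq]
      have := Submodule.neg_mem _ (hk n)
      rwa [neg_sub] at this

end Groth.Agent.S9599
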