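import Groth.Statements.S9600
import Mathlib.RingTheory.AdicCompletion.Exactness
-- import your own Groth.Agent.* helpers here

set_option autoImplicit false
universe u
open CAlg

namespace Groth.Agent.S9600

theorem smul_top_eq_bot {R : Type u} [CommRing R] (I : Ideal R) {Q : Type u} [AddCommGroup Q]
    [Module R Q] (c : ℕ) (hc : ∀ x ∈ I ^ c, ∀ q : Q, x • q = 0) (n : ℕ) (hn : c ≤ n) :
    (I ^ n • ⊤ : Submodule R Q) = ⊥ := by
  rw [eq_bot_iff]
  refine le_trans (Submodule.smul_mono_left (Ideal.pow_le_pow_right hn)) ?_
  rw [Submodule.smul_le]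
  intro r hr q _
  rw [hc r hr q]
  exact zero_mem _

theorem key {R : Type u} [CommRing R] (I : Ideal R) {M N Q : Type u} [AddCommGroup M] [Module R M]
    [AddCommGroup N] [Module R N] [AddCommGroup Q] [Module R Q] (i : M →ₗ[R] N) (g : N →ₗ[R] Q)
    (hi : Function.Injective i) (hig : Function.Exact i g) (c : ℕ)
    (hc : ∀ x ∈ I ^ c, ∀ q : Q, x • q = 0) (n : ℕ) (m : M)
    (hm : i m ∈ (I ^ (n + c) • ⊤ : Submodule R N)) : m ∈ (I ^ n • ⊤ : Submodule R M) := by
  have h1 : (I ^ c • ⊤ : Submodule R N) ≤ LinearMap.range i := by
    rw [Submodule.smul_le]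
    intro r hr x _
    rw [← hig.linearMap_ker_eq, LinearMap.mem_ker, map_smul, hc r hr]
  have h2 : (I ^ (n + c) • ⊤ : Submodule R N) ≤ Submodule.map i (I ^ n • ⊤ : Submodule R M) := by
    rw [pow_add, mul_smul, Submodule.map_smul'', Submodule.map_top]
    exact Submodule.smul_mono le_rfl h1
  obtain ⟨m', hm', hmm'⟩ := h2 hm
  rw [← hi hmm']
  exact hm'


/-- Let R be a ring, I an ideal of R and 0 → M → N → Q → 0 a short exact sequence of R-modules in which
Q is killed by some power I^c of I. Then on I-adic completions the map M^ → N^ is injective, N^ → Q^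
is surjective with kernel equal to the image of M^, and the canonical map Q → Q^ is bijective; so 0
→ M^ → N^ → Q → 0 is again short exact. -/
theorem result {R : Type u} [CommRing R] (I : Ideal R) {M N Q : Type u} [AddCommGroup M] [Module R M] [AddCommGroup N] [Module R N] [AddCommGroup Q] [Module R Q] (i : M →ₗ[R] N) (g : N →ₗ[R] Q) (hi : Function.Injective i) (hg : Function.Surjective g) (hig : Function.Exact i g) (c : ℕ) (hc : ∀ x ∈ I ^ c, ∀ q : Q, x • q = 0) :
    Function.Injective (AdicCompletion.map I i) ∧ Function.Exact (AdicCompletion.map I i) (AdicCompletion.map I g) ∧ Function.Surjective (AdicCompletion.map I g) ∧ Function.Bijective (AdicCompletion.of I Q) := by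
  classical
  have hkey := key I i g hi hig c hc
  have hbot := smul_top_eq_bot I c hc
  refine ⟨?_, ?_, AdicCompletion.map_surjective I hg, ?_⟩
  · rw [injective_iff_map_eq_zero]
    intro x hx
    induction x using AdicCompletion.induction_on with
    | h a =>
    apply AdicCompletion.ext
    intro n
    have h1 := congrArg (fun z => z.val (n + c)) hx
    simp only [AdicCompletion.map_mk, AdicCompletion.mk_apply_coe, AdicCompletion.val_zero,
      Submodule.mkQ_apply, AdicCompletion.AdicCauchySequence.map_apply_coe] at h1
    rw [Pi.zero_apply, Submodule.Quotient.mk_eq_zero] at h1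
    rw [AdicCompletion.mk_apply_coe, AdicCompletion.val_zero, Pi.zero_apply,
      Submodule.mkQ_apply, Submodule.Quotient.mk_eq_zero]
    have h2 : a (n + c) ∈ (I ^ n • ⊤ : Submodule R M) := hkey n _ h1
    have h3 := a.property (Nat.le_add_right n c)
    rw [SModEq.sub_mem] at h3
    have : a n = (a n - a (n + c)) + a (n + c) := by abel
    rw [this]
    exact Submodule.add_mem _ h3 h2
  · refine LinearMap.exact_of_comp_eq_zero_of_ker_le_range ?_ (fun y => ?_)
    · rw [AdicCompletion.map_comp, hig.linearMap_comp_eq_zero, AdicCompletion.map_zero]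
    · induction y using AdicCompletion.induction_on with
      | h b =>
      intro hz
      have hb : ∀ n : ℕ, g (b (n + c)) = 0 := by
        intro n
        have h1 := congrArg (fun z => z.val (n + c)) hz
        simp only [AdicCompletion.map_mk, AdicCompletion.mk_apply_coe, AdicCompletion.val_zero,
          Submodule.mkQ_apply, AdicCompletion.AdicCauchySequence.map_apply_coe] at h1
        rw [Pi.zero_apply, Submodule.Quotient.mk_eq_zero, hbot (n + c) (Nat.le_add_left c n)] at h1
        simpa using h1
      choose k hk using fun n => (hig (b (n + c))).mp (hb n)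
      have hcauchy : ∀ {m n : ℕ}, m ≤ n → k m ≡ k n [SMOD (I ^ m • ⊤ : Submodule R M)] := by
        intro m n hmn
        rw [SModEq.sub_mem]
        apply hkey m
        rw [map_sub, hk, hk]
        have := b.property (Nat.add_le_add_right hmn c)
        rwa [SModEq.sub_mem] at this
      refine ⟨AdicCompletion.mk I M ⟨k, hcauchy⟩, ?_⟩
      apply AdicCompletion.ext
      intro n
      simp only [AdicCompletion.map_mk, AdicCompletion.mk_apply_coe, Submodule.mkQ_apply,
        AdicCompletion.AdicCauchySequence.map_apply_coe]
      rw [Submodule.Quotient.eq]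
      show i (k n) - b n ∈ _
      rw [hk n]
      have := b.property (Nat.le_add_right n c)
      rw [SModEq.sub_mem] at this
      have h2 := Submodule.neg_mem _ this
      rwa [neg_sub] at h2
  · rw [AdicCompletion.of_bijective_iff]
    refine { toIsHausdorff := ⟨?_⟩, toIsPrecomplete := ⟨?_⟩ }
    · intro x hx
      have := hx c
      rw [SModEq.zero, hbot c le_rfl] at this
      simpa using this
    · intro f hf
      refine ⟨f c, fun n => ?_⟩
      rcases le_total n c with hn | hn
      · exact hf hn
      · have := hf hn
        rw [SModEq.sub_mem, hbot c le_rfl] at this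
        have h0 : f c = f n := by
          have : f c - f n = 0 := by simpa using this
          exact sub_eq_zero.mp this
        rw [h0]

end Groth.Agent.S9600
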