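import Groth.Statements.S9601
import Mathlib

set_option autoImplicit false
universe u
open CAlg

namespace Groth.Agent.S9601

open Submodule

lemma of_mem {R : Type u} [CommRing R] (I : Ideal R) (M : Type u) [AddCommGroup M] [Module R M]
    (n : ℕ) {m : M} (hm : m ∈ (I ^ n • ⊤ : Submodule R M)) :
    AdicCompletion.of I M m ∈ (I ^ n • ⊤ : Submodule R (AdicCompletion I M)) := by
  have : Submodule.map (AdicCompletion.of I M) (I ^ n • ⊤ : Submodule R M) ≤
      (I ^ n • ⊤ : Submodule R (AdicCompletion I M)) := by
    rw [Submodule.map_smul'']
    exact Submodule.smul_mono le_rfl le_top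
  exact this ⟨m, hm, rfl⟩

/-- For a ring R, an ideal I of R and an R-module M, let M^ be the I-adic completion and K_n the kernel
of the projection M^ → M/IⁿM. The completion M^ is I-adically complete exactly when K_n = Iⁿ M^
holds for every n ≥ 1. -/
theorem result {R : Type u} [CommRing R] (I : Ideal R) (M : Type u) [AddCommGroup M] [Module R M] :
    IsAdicComplete I (AdicCompletion I M) ↔ ∀ n : ℕ, 1 ≤ n → LinearMap.ker (AdicCompletion.eval I M n) = I ^ n • (⊤ : Submodule R (AdicCompletion I M)) := by
  constructor
  · intro hc n _
    apply le_antisymm
    · intro x hx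
      have hxn : x.val n = 0 := hx
      have hlift : ∀ k, ∃ m : M, Submodule.mkQ (I ^ k • ⊤ : Submodule R M) m = x.val k :=
        fun k => Submodule.mkQ_surjective _ _
      choose m hm using hlift
      -- differences
      have hdiff : ∀ a b, a ≤ b → m a - m b ∈ (I ^ a • ⊤ : Submodule R M) := by
        intro a b hab
        rw [← Submodule.Quotient.mk_eq_zero, Submodule.Quotient.mk_sub, sub_eq_zero]
        have h1 : AdicCompletion.transitionMap I M hab (x.val b) = x.val a := x.property hab
        rw [← hm b] at h1
        have h2 : AdicCompletion.transitionMap I M hab (Submodule.mkQ _ (m b)) =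
            Submodule.Quotient.mk (m b) := rfl
        rw [h2] at h1
        rw [h1]; exact hm a
      let f : ℕ → AdicCompletion I M := fun k => AdicCompletion.of I M (m (max k n))
      have hcauchy : ∀ {a b}, a ≤ b → f a ≡ f b [SMOD (I ^ a • ⊤ : Submodule R (AdicCompletion I M))] := by
        intro a b hab
        rw [SModEq.sub_mem]
        show AdicCompletion.of I M (m (max a n)) - AdicCompletion.of I M (m (max b n)) ∈ _
        rw [← map_sub]
        apply of_mem
        exact Submodule.smul_mono_left (Ideal.pow_le_pow_right (le_max_left a n))
          (hdiff _ _ (max_le_max_right n hab))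
      obtain ⟨s, hs⟩ := hc.toIsPrecomplete.prec hcauchy
      have hfs : ∀ k, n ≤ k → (f k).val k = s.val k := by
        intro k hk
        have h1 : f k - s ∈ (I ^ k • ⊤ : Submodule R (AdicCompletion I M)) := SModEq.sub_mem.mp (hs k)
        have h2 := AdicCompletion.pow_smul_top_le_ker_eval I k h1
        rw [LinearMap.mem_ker, map_sub, sub_eq_zero] at h2
        exact h2
      have hfx : ∀ k, n ≤ k → (f k).val k = x.val k := by
        intro k hk
        show (AdicCompletion.of I M (m (max k n))).val k = x.val k
        rw [max_eq_left hk, AdicCompletion.of_apply, hm]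
      have hxs : x = s := by
        apply AdicCompletion.ext
        intro k
        have hk : n ≤ max k n := le_max_right _ _
        have h1 : x.val (max k n) = s.val (max k n) := by rw [← hfx _ hk, hfs _ hk]
        rw [← x.property (le_max_left k n), ← s.property (le_max_left k n), h1]
      rw [hxs]
      have h1 : f n - s ∈ (I ^ n • ⊤ : Submodule R (AdicCompletion I M)) := SModEq.sub_mem.mp (hs n)
      have h2 : f n ∈ (I ^ n • ⊤ : Submodule R (AdicCompletion I M)) := by
        show AdicCompletion.of I M (m (max n n)) ∈ _
        rw [max_self]
        apply of_mem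
        rw [← Submodule.Quotient.mk_eq_zero]
        have := hm n
        rw [hxn] at this
        exact this
      have := Submodule.sub_mem _ h2 h1
      rwa [sub_sub_cancel] at this
    · exact AdicCompletion.pow_smul_top_le_ker_eval I n
  · intro hK
    have : IsPrecomplete I (AdicCompletion I M) := by
      refine ⟨fun f hf => ?_⟩
      have hval : ∀ {a b}, a ≤ b → (f b).val a = (f a).val a := by
        intro a b hab
        have h1 : f a - f b ∈ (I ^ a • ⊤ : Submodule R (AdicCompletion I M)) :=
          SModEq.sub_mem.mp (hf hab)
        have h2 := AdicCompletion.pow_smul_top_le_ker_eval I a h1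
        rw [LinearMap.mem_ker, map_sub, sub_eq_zero] at h2
        exact h2.symm
      let L : AdicCompletion I M := ⟨fun k => (f k).val k, by
        intro a b hab
        show AdicCompletion.transitionMap I M hab ((f b).val b) = (f a).val a
        rw [(f b).property hab, hval hab]⟩
      refine ⟨L, fun n => ?_⟩
      rcases Nat.eq_zero_or_pos n with rfl | hn
      · rw [pow_zero, Ideal.one_eq_top, Submodule.top_smul]
        exact SModEq.top
      · rw [SModEq.sub_mem, ← hK n hn, LinearMap.mem_ker, map_sub, sub_eq_zero]
        rfl
    exact { toIsHausdorff := inferInstance, toIsPrecomplete := this }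

end Groth.Agent.S9601
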