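import Groth.Statements.S9602
import Mathlib.RingTheory.Nilpotent.Basic
-- import your own Groth.Agent.* helpers here

set_option autoImplicit false
universe u
open CAlg

namespace Groth.Agent.S9602

open AdicCompletion

theorem isUnit_val {R : Type u} [CommRing R] (I : Ideal R) (x : AdicCompletion I R)
    (hx : IsUnit (evalOneₐ I x)) (n : ℕ) : IsUnit (x.val n) := by
  obtain ⟨c, rfl⟩ := AdicCompletion.mk_surjective I R x
  rcases Nat.eq_zero_or_pos n with rfl | hn
  · have : Subsingleton (R ⧸ (I ^ 0 • ⊤ : Ideal R)) := by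
      rw [Ideal.Quotient.subsingleton_iff]; simp
    exact isUnit_of_subsingleton _
  · have h1 : evalOneₐ I (AdicCompletion.mk I R c) = Ideal.Quotient.mk I (c 1) := by
      simp [evalOneₐ, evalₐ_mk]
    have h2 : Ideal.Quotient.mk I (c 1) = Ideal.Quotient.mk I (c n) := by
      have := c.property (show 1 ≤ n from hn)
      rw [SModEq.sub_mem] at this
      rw [Ideal.Quotient.eq]
      have h3 : (I ^ 1 • ⊤ : Submodule R R) ≤ I := by
        rw [pow_one]
        intro y hy
        simpa using hy
      exact h3 this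
    rw [h1, h2] at hx
    obtain ⟨s', hs'⟩ := hx.exists_right_inv
    obtain ⟨s, rfl⟩ := Ideal.Quotient.mk_surjective s'
    rw [← map_mul, ← map_one (Ideal.Quotient.mk I), Ideal.Quotient.eq] at hs'
    -- ν = c n * s - 1 ∈ I, ν^n ∈ I^n
    have hν : (c n * s - 1) ^ n ∈ (I ^ n • ⊤ : Ideal R) := by
      have : (c n * s - 1) ^ n ∈ I ^ n := Ideal.pow_mem_pow hs' n
      simpa using this
    have hval : (AdicCompletion.mk I R c).val n = Ideal.Quotient.mk (I ^ n • ⊤ : Ideal R) (c n) := rfl
    rw [hval]
    have hnil : IsNilpotent (Ideal.Quotient.mk (I ^ n • ⊤ : Ideal R) (c n * s - 1)) :=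
      ⟨n, by rw [← map_pow]; exact Ideal.Quotient.eq_zero_iff_mem.mpr hν⟩
    have hunit : IsUnit (Ideal.Quotient.mk (I ^ n • ⊤ : Ideal R) (c n) *
        Ideal.Quotient.mk (I ^ n • ⊤ : Ideal R) s) := by
      have : Ideal.Quotient.mk (I ^ n • ⊤ : Ideal R) (c n) * Ideal.Quotient.mk (I ^ n • ⊤ : Ideal R) s =
          Ideal.Quotient.mk (I ^ n • ⊤ : Ideal R) (c n * s - 1) + 1 := by
        rw [← map_mul, ← map_one (Ideal.Quotient.mk (I ^ n • ⊤ : Ideal R)), ← map_add]
        congr 1; ring
      rw [this]
      exact IsNilpotent.isUnit_add_one hnil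
    exact isUnit_of_mul_isUnit_left hunit

theorem isUnit_of_isUnit_evalOne {R : Type u} [CommRing R] (I : Ideal R) (x : AdicCompletion I R)
    (hx : IsUnit (evalOneₐ I x)) : IsUnit x := by
  have hu := isUnit_val I x hx
  choose w hw using fun n => (hu n).exists_right_inv
  have hcompat : ∀ {m n : ℕ} (hmn : m ≤ n), transitionMap I R hmn (w n) = w m := by
    intro m n hmn
    have h1 : x.val m * transitionMap I R hmn (w n) = 1 := by
      rw [← x.property hmn, ← AdicCompletion.transitionMap_map_mul, hw n]
      rfl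
    calc transitionMap I R hmn (w n)
        = (w m * x.val m) * transitionMap I R hmn (w n) := by
          rw [mul_comm (w m), hw m, one_mul]
      _ = w m * (x.val m * transitionMap I R hmn (w n)) := by ring
      _ = w m := by rw [h1, mul_one]
  let y : AdicCompletion I R := ⟨fun n => w n, fun hmn => hcompat hmn⟩
  refine IsUnit.of_mul_eq_one y ?_
  apply AdicCompletion.ext
  intro n
  exact hw n


/-- Let R be a ring, I an ideal of R and R^ = lim R/Iⁿ the I-adic completion. An element of R^ whose
image in R/I is invertible is itself invertible in R^; and the kernel of R^ → R/I as well as the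
extended ideal I R^ both lie inside the Jacobson radical of R^. -/
theorem result {R : Type u} [CommRing R] (I : Ideal R) :
    (∀ x : AdicCompletion I R, IsUnit (AdicCompletion.evalOneₐ I x) → IsUnit x) ∧
      RingHom.ker (AdicCompletion.evalOneₐ I).toRingHom ≤ (⊥ : Ideal (AdicCompletion I R)).jacobson ∧
      I.map (algebraMap R (AdicCompletion I R)) ≤ (⊥ : Ideal (AdicCompletion I R)).jacobson := by
  have hA := isUnit_of_isUnit_evalOne I
  have hB : RingHom.ker (AdicCompletion.evalOneₐ I).toRingHom ≤
      (⊥ : Ideal (AdicCompletion I R)).jacobson := by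
    intro y hy
    rw [Ideal.mem_jacobson_bot]
    intro z
    apply hA
    have : (AdicCompletion.evalOneₐ I) y = 0 := hy
    rw [map_add, map_mul, this, zero_mul, zero_add, map_one]
    exact isUnit_one
  refine ⟨hA, hB, ?_⟩
  refine le_trans ?_ hB
  rw [Ideal.map_le_iff_le_comap]
  intro r hr
  rw [Ideal.mem_comap, RingHom.mem_ker]
  show (AdicCompletion.evalOneₐ I) (algebraMap R (AdicCompletion I R) r) = 0
  rw [AdicCompletion.algebraMap_apply, Algebra.algebraMap_self, RingHom.id_apply,
    AdicCompletion.evalOneₐ_of]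
  exact Ideal.Quotient.eq_zero_iff_mem.mpr hr

end Groth.Agent.S9602
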