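import Groth.Statements.S9603
import Mathlib

set_option autoImplicit false
universe u
open CAlg

namespace Groth.Agent.S9603

open Submodule

lemma precomplete_sup {A : Type u} [CommRing A] (J K : Ideal A) (M : Type u) [AddCommGroup M]
    [Module A M] (hJ : IsPrecomplete J M) (hK : IsPrecomplete K M) : IsPrecomplete (J ⊔ K) M := by
  refine ⟨fun y hy => ?_⟩
  -- subsequence
  have hstep : ∀ n, y (2 * (n + 1)) - y (2 * n) ∈ (J ^ n • ⊤ : Submodule A M) ⊔ (K ^ n • ⊤ : Submodule A M) := by
    intro n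
    have h1 : y (2 * n) - y (2 * (n + 1)) ∈ ((J ⊔ K) ^ (2 * n) • ⊤ : Submodule A M) :=
      SModEq.sub_mem.mp (hy (by omega))
    have h2 : ((J ⊔ K) ^ (2 * n) • ⊤ : Submodule A M) ≤ (J ^ n • ⊤ : Submodule A M) ⊔ (K ^ n • ⊤ : Submodule A M) := by
      rw [← Submodule.sup_smul, two_mul]
      exact Submodule.smul_mono_left Ideal.sup_pow_add_le_pow_sup_pow
    have h3 := h2 h1
    have h4 := Submodule.neg_mem _ h3
    rwa [neg_sub] at h4
  have hdec : ∀ n, ∃ a ∈ (J ^ n • ⊤ : Submodule A M), ∃ b ∈ (K ^ n • ⊤ : Submodule A M),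
      a + b = y (2 * (n + 1)) - y (2 * n) := fun n => Submodule.mem_sup.mp (hstep n)
  choose a ha b hb hab using hdec
  -- partial sums are Cauchy
  have hcauchy : ∀ (I : Ideal A) (c : ℕ → M), (∀ n, c n ∈ (I ^ n • ⊤ : Submodule A M)) →
      ∀ {m n}, m ≤ n → (∑ k ∈ Finset.range m, c k) ≡ (∑ k ∈ Finset.range n, c k)
        [SMOD (I ^ m • ⊤ : Submodule A M)] := by
    intro I c hc m n hmn
    rw [SModEq.sub_mem]
    have : ∑ k ∈ Finset.range m, c k - ∑ k ∈ Finset.range n, c k = - ∑ k ∈ Finset.Ico m n, c k := by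
      rw [Finset.sum_Ico_eq_sub _ hmn]; abel
    rw [this]
    refine Submodule.neg_mem _ (Submodule.sum_mem _ fun k hk => ?_)
    have hk' : m ≤ k := (Finset.mem_Ico.mp hk).1
    exact Submodule.smul_mono_left (Ideal.pow_le_pow_right hk') (hc k)
  obtain ⟨LJ, hLJ⟩ := hJ.prec (hcauchy J a ha)
  obtain ⟨LK, hLK⟩ := hK.prec (hcauchy K b hb)
  refine ⟨y 0 + LJ + LK, fun n => ?_⟩
  have hz : y (2 * n) = y 0 + ∑ k ∈ Finset.range n, a k + ∑ k ∈ Finset.range n, b k := by
    have h1 : ∑ k ∈ Finset.range n, (y (2 * (k + 1)) - y (2 * k)) = y (2 * n) - y (2 * 0) :=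
      Finset.sum_range_sub (fun k => y (2 * k)) n
    have h2 : ∑ k ∈ Finset.range n, (y (2 * (k + 1)) - y (2 * k)) =
        ∑ k ∈ Finset.range n, a k + ∑ k ∈ Finset.range n, b k := by
      rw [← Finset.sum_add_distrib]
      exact Finset.sum_congr rfl fun k _ => (hab k).symm
    rw [add_assoc, ← h2, h1, mul_zero]; abel
  have h1 : y n - y (2 * n) ∈ ((J ⊔ K) ^ n • ⊤ : Submodule A M) := SModEq.sub_mem.mp (hy (by omega))
  have h2 : y (2 * n) - (y 0 + LJ + LK) ∈ ((J ⊔ K) ^ n • ⊤ : Submodule A M) := by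
    have : y (2 * n) - (y 0 + LJ + LK) =
        (∑ k ∈ Finset.range n, a k - LJ) + (∑ k ∈ Finset.range n, b k - LK) := by
      rw [hz]; abel
    rw [this]
    refine Submodule.add_mem _ ?_ ?_
    · exact Submodule.smul_mono_left (Ideal.pow_right_mono le_sup_left n) (SModEq.sub_mem.mp (hLJ n))
    · exact Submodule.smul_mono_left (Ideal.pow_right_mono le_sup_right n) (SModEq.sub_mem.mp (hLK n))
  rw [SModEq.sub_mem]
  have := Submodule.add_mem _ h1 h2
  rwa [sub_add_sub_cancel] at this

/-- For a ring A, elements f_1, …, f_r generating an ideal I and an A-module M, if the canonical map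
from M to its (f_i)-adic completion is surjective for every i, then the canonical map from M to its
I-adic completion is surjective. -/
theorem result {A : Type u} [CommRing A] {r : ℕ} (f : Fin r → A) (M : Type u) [AddCommGroup M] [Module A M] (h : ∀ i, Function.Surjective (AdicCompletion.of (Ideal.span {f i}) M)) :
    Function.Surjective (AdicCompletion.of (Ideal.span (Set.range f)) M) := by
  rw [AdicCompletion.of_surjective_iff]
  have h' : ∀ i, IsPrecomplete (Ideal.span {f i}) M := fun i =>
    AdicCompletion.of_surjective_iff.mp (h i)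
  clear h
  induction r with
  | zero =>
    have : Ideal.span (Set.range f) = ⊥ := by
      rw [Set.range_eq_empty f, Ideal.span_empty]
    rw [this]; infer_instance
  | succ n ih =>
    have hr : Set.range f = insert (f 0) (Set.range (Fin.tail f)) := by
      conv_lhs => rw [← Fin.cons_self_tail f]
      exact Fin.range_cons _ _
    rw [hr, Ideal.span_insert]
    exact precomplete_sup _ _ M (h' 0) (ih (Fin.tail f) (fun i => h' i.succ))

end Groth.Agent.S9603
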