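import Groth.Statements.S9604
-- import your own Groth.Agent.* helpers here

set_option autoImplicit false
universe u
open CAlg

namespace Groth.Agent.S9604

theorem smul_top_mono {R : Type u} [CommRing R] {A B : Ideal R} (h : A ≤ B) (M : Type u)
    [AddCommGroup M] [Module R M] : (A • ⊤ : Submodule R M) ≤ B • ⊤ :=
  Submodule.smul_mono_left h

theorem aux {R : Type u} [CommRing R] (I J : Ideal R) (c d : ℕ) (hc : 0 < c) (hd : 0 < d)
    (hI : I ^ c ≤ J) (hJ : J ^ d ≤ I) (M : Type u) [AddCommGroup M] [Module R M]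
    (h : IsAdicComplete I M) : IsAdicComplete J M := by
  have hJI : ∀ n : ℕ, J ^ (d * n) ≤ I ^ n := fun n => by
    rw [pow_mul]; exact Ideal.pow_right_mono hJ n
  have hIJ : ∀ n : ℕ, I ^ (c * n) ≤ J ^ n := fun n => by
    rw [pow_mul]; exact Ideal.pow_right_mono hI n
  refine { toIsHausdorff := ⟨?_⟩, toIsPrecomplete := ⟨?_⟩ }
  · intro x hx
    apply h.toIsHausdorff.haus
    intro n
    have := hx (d * n)
    rw [SModEq.zero] at this ⊢
    exact smul_top_mono (hJI n) M this
  · intro f hf
    have hg : ∀ {k l : ℕ}, k ≤ l → f (d * k) ≡ f (d * l) [SMOD (I ^ k • ⊤ : Submodule R M)] := by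
      intro k l hkl
      have := hf (Nat.mul_le_mul_left d hkl)
      rw [SModEq.sub_mem] at this ⊢
      exact smul_top_mono (hJI k) M this
    obtain ⟨L, hL⟩ := h.toIsPrecomplete.prec' (fun k => f (d * k)) hg
    refine ⟨L, fun n => ?_⟩
    have hle : n ≤ d * (c * n) := by
      calc n = 1 * (1 * n) := by ring
        _ ≤ d * (c * n) := Nat.mul_le_mul hd (Nat.mul_le_mul_right n hc)
    have h1 := hf hle
    have h2 := hL (c * n)
    rw [SModEq.sub_mem] at h1 h2 ⊢
    have h2' : f (d * (c * n)) - L ∈ (J ^ n • ⊤ : Submodule R M) := smul_top_mono (hIJ n) M h2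
    have : f n - L = (f n - f (d * (c * n))) + (f (d * (c * n)) - L) := by abel
    rw [this]
    exact Submodule.add_mem _ h1 h2'


/-- Let R be a ring and I, J ideals of R with I^c ⊆ J and J^d ⊆ I for some integers c, d > 0. Then for
an R-module, being complete in the I-adic topology is equivalent to being complete in the J-adic
topology. -/
theorem result {R : Type u} [CommRing R] (I J : Ideal R) (c d : ℕ) (hc : 0 < c) (hd : 0 < d) (hI : I ^ c ≤ J) (hJ : J ^ d ≤ I) (M : Type u) [AddCommGroup M] [Module R M] :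
    IsAdicComplete I M ↔ IsAdicComplete J M := by
  exact ⟨aux I J c d hc hd hI hJ M, aux J I d c hd hc hJ hI M⟩

end Groth.Agent.S9604
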