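import Groth.Statements.S9605
import Mathlib.RingTheory.AdicCompletion.Exactness
-- import your own Groth.Agent.* helpers here

set_option autoImplicit false
universe u
open CAlg

namespace Groth.Agent.S9605

theorem smul_top_quotient {R : Type u} [CommRing R] (J : Ideal R) (M : Type u) [AddCommGroup M]
    [Module R M] (K : Submodule R M) :
    (J • ⊤ : Submodule R (M ⧸ K)) = (J • ⊤ : Submodule R M).map K.mkQ := by
  rw [Submodule.map_smul'', Submodule.map_top, Submodule.range_mkQ]

theorem mk_mem_smul_top_iff {R : Type u} [CommRing R] (J : Ideal R) (M : Type u) [AddCommGroup M]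
    [Module R M] (K : Submodule R M) (x : M) :
    (Submodule.Quotient.mk x : M ⧸ K) ∈ (J • ⊤ : Submodule R (M ⧸ K)) ↔
      x ∈ K ⊔ (J • ⊤ : Submodule R M) := by
  rw [smul_top_quotient, ← Submodule.mkQ_apply, ← Submodule.mem_comap, Submodule.comap_map_mkQ]

theorem isPrecomplete_quotient {R : Type u} [CommRing R] (I : Ideal R) (M : Type u)
    [AddCommGroup M] [Module R M] [IsPrecomplete I M] (K : Submodule R M) :
    IsPrecomplete I (M ⧸ K) := by
  rw [← AdicCompletion.of_surjective_iff]
  intro y
  obtain ⟨z, rfl⟩ := AdicCompletion.map_surjective I (Submodule.mkQ_surjective K) y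
  obtain ⟨x, rfl⟩ := AdicCompletion.of_surjective I M z
  exact ⟨K.mkQ x, (AdicCompletion.map_of I K.mkQ x).symm⟩


/-- For a ring R, an ideal I of R, an I-adically complete R-module M and a submodule K of M, the
quotient M/K is I-adically complete if and only if K = ⋂ₙ (K + IⁿM). -/
theorem result {R : Type u} [CommRing R] (I : Ideal R) (M : Type u) [AddCommGroup M] [Module R M] [IsAdicComplete I M] (K : Submodule R M) :
    IsAdicComplete I (M ⧸ K) ↔ K = ⨅ n : ℕ, K ⊔ I ^ n • (⊤ : Submodule R M) := by
  classical
  have hpre : IsPrecomplete I (M ⧸ K) := isPrecomplete_quotient I M K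
  have hle : K ≤ ⨅ n : ℕ, K ⊔ I ^ n • (⊤ : Submodule R M) := le_iInf fun n => le_sup_left
  constructor
  · intro h
    refine le_antisymm hle ?_
    intro x hx
    rw [Submodule.mem_iInf] at hx
    have h0 : (Submodule.Quotient.mk x : M ⧸ K) = 0 := by
      apply h.toIsHausdorff.haus
      intro n
      rw [SModEq.zero, mk_mem_smul_top_iff]
      exact hx n
    exact (Submodule.Quotient.mk_eq_zero K).mp h0
  · intro h
    refine { toIsHausdorff := ⟨?_⟩, toIsPrecomplete := hpre }
    intro x hx
    obtain ⟨x, rfl⟩ := Submodule.Quotient.mk_surjective K x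
    rw [Submodule.Quotient.mk_eq_zero, h, Submodule.mem_iInf]
    intro n
    have := hx n
    rw [SModEq.zero, mk_mem_smul_top_iff] at this
    exact this

end Groth.Agent.S9605
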