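import Groth.Statements.S9606
import Mathlib
-- import your own Groth.Agent.* helpers here

set_option autoImplicit false
universe u
open CAlg

namespace Groth.Agent.S9606.Aux

set_option autoImplicit false

namespace SqCube

variable {R S : Type u} [CommRing R] [CommRing S] [Algebra R S]

/-- the generating set. -/
def G (R S : Type u) [CommRing R] [CommRing S] [Algebra R S] : Set S :=
  {x : S | x ^ 2 ∈ Set.range (algebraMap R S) ∧ x ^ 3 ∈ Set.range (algebraMap R S)}

theorem isIntegral_of_gen (hgen : Algebra.adjoin R (G R S) = ⊤) : Algebra.IsIntegral R S := by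
  constructor
  intro y
  have hle : Algebra.adjoin R (G R S) ≤ integralClosure R S := by
    apply Algebra.adjoin_le
    rintro x ⟨⟨r, hr⟩, -⟩
    show IsIntegral R x
    refine ⟨Polynomial.X ^ 2 - Polynomial.C r, Polynomial.monic_X_pow_sub_C r (by norm_num), ?_⟩
    simp [hr]
  have : y ∈ Algebra.adjoin R (G R S) := by rw [hgen]; trivial
  exact hle this

/-- the residue field maps are surjective. -/
theorem residue_bijective (hgen : Algebra.adjoin R (G R S) = ⊤)
    (q : Ideal S) [q.IsPrime] (p : Ideal R) [p.IsPrime] (hp : p = q.comap (algebraMap R S)) :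
    Function.Bijective (Ideal.ResidueField.map p q (algebraMap R S) hp) := by
  refine ⟨RingHom.injective _, ?_⟩
  set f := Ideal.ResidueField.map p q (algebraMap R S) hp with hf
  set E := f.fieldRange with hE
  -- the image of S lies in E
  have hS : ∀ y : S, algebraMap S q.ResidueField y ∈ E := by
    intro y
    have hy : y ∈ Algebra.adjoin R (G R S) := by rw [hgen]; trivial
    induction hy using Algebra.adjoin_induction with
    | mem x hx =>
      obtain ⟨⟨r2, h2⟩, ⟨r3, h3⟩⟩ := hx
      by_cases h0 : algebraMap S q.ResidueField x = 0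
      · rw [h0]; exact zero_mem _
      · have e2 : algebraMap S q.ResidueField x ^ 2 ∈ E := by
          rw [← map_pow, ← h2, ← Ideal.ResidueField.map_algebraMap p q (algebraMap R S) hp]
          exact ⟨_, rfl⟩
        have e3 : algebraMap S q.ResidueField x ^ 3 ∈ E := by
          rw [← map_pow, ← h3, ← Ideal.ResidueField.map_algebraMap p q (algebraMap R S) hp]
          exact ⟨_, rfl⟩
        have : algebraMap S q.ResidueField x
            = algebraMap S q.ResidueField x ^ 3 / algebraMap S q.ResidueField x ^ 2 := by
          field_simp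
        rw [this]
        exact div_mem e3 e2
    | algebraMap r =>
      rw [← Ideal.ResidueField.map_algebraMap p q (algebraMap R S) hp]
      exact ⟨_, rfl⟩
    | add x y _ _ hx hy => rw [map_add]; exact add_mem hx hy
    | mul x y _ _ hx hy => rw [map_mul]; exact mul_mem hx hy
  intro z
  obtain ⟨l, rfl⟩ := IsLocalRing.residue_surjective z
  obtain ⟨a, s, rfl⟩ := IsLocalization.exists_mk'_eq q.primeCompl l
  have hspec : IsLocalRing.residue (Localization.AtPrime q) (IsLocalization.mk' _ a s)
      * algebraMap S q.ResidueField (s : S) = algebraMap S q.ResidueField a := by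
    rw [IsScalarTower.algebraMap_apply S (Localization.AtPrime q) q.ResidueField,
      IsScalarTower.algebraMap_apply S (Localization.AtPrime q) q.ResidueField,
      IsLocalRing.ResidueField.algebraMap_eq, ← map_mul, IsLocalization.mk'_spec]
  have hs0 : algebraMap S q.ResidueField (s : S) ≠ 0 := by
    rw [Ne, Ideal.algebraMap_residueField_eq_zero]
    exact s.2
  have : IsLocalRing.residue (Localization.AtPrime q) (IsLocalization.mk' _ a s)
      = algebraMap S q.ResidueField a / algebraMap S q.ResidueField (s : S) := by
    rw [eq_div_iff hs0, hspec]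
  have hmem : IsLocalRing.residue (Localization.AtPrime q) (IsLocalization.mk' _ a s) ∈ E := by
    rw [this]
    exact div_mem (hS a) (hS s)
  exact hmem

theorem comap_injective (hgen : Algebra.adjoin R (G R S) = ⊤) :
    Function.Injective (PrimeSpectrum.comap (algebraMap R S)) := by
  intro q q' h
  have hp' : q.asIdeal.comap (algebraMap R S) = q'.asIdeal.comap (algebraMap R S) :=
    congrArg PrimeSpectrum.asIdeal h
  set p := q.asIdeal.comap (algebraMap R S) with hp
  haveI : p.IsPrime := Ideal.comap_isPrime _ _
  let e := RingEquiv.ofBijective _ (residue_bijective hgen q.asIdeal p rfl)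
  let e' := RingEquiv.ofBijective _ (residue_bijective hgen q'.asIdeal p hp')
  let φ : S →+* p.ResidueField := e.symm.toRingHom.comp (algebraMap S q.asIdeal.ResidueField)
  let φ' : S →+* p.ResidueField := e'.symm.toRingHom.comp (algebraMap S q'.asIdeal.ResidueField)
  have hφR : ∀ r : R, φ (algebraMap R S r) = algebraMap R p.ResidueField r := by
    intro r
    show e.symm (algebraMap S q.asIdeal.ResidueField (algebraMap R S r)) = _
    rw [RingEquiv.symm_apply_eq]
    exact (Ideal.ResidueField.map_algebraMap p q.asIdeal (algebraMap R S) rfl r).symm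
  have hφ'R : ∀ r : R, φ' (algebraMap R S r) = algebraMap R p.ResidueField r := by
    intro r
    show e'.symm (algebraMap S q'.asIdeal.ResidueField (algebraMap R S r)) = _
    rw [RingEquiv.symm_apply_eq]
    exact (Ideal.ResidueField.map_algebraMap p q'.asIdeal (algebraMap R S) hp' r).symm
  have hker : ∀ y, φ y = 0 ↔ y ∈ q.asIdeal := by
    intro y
    show e.symm (algebraMap S q.asIdeal.ResidueField y) = 0 ↔ _
    rw [map_eq_zero_iff _ e.symm.injective, Ideal.algebraMap_residueField_eq_zero]
  have hker' : ∀ y, φ' y = 0 ↔ y ∈ q'.asIdeal := by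
    intro y
    show e'.symm (algebraMap S q'.asIdeal.ResidueField y) = 0 ↔ _
    rw [map_eq_zero_iff _ e'.symm.injective, Ideal.algebraMap_residueField_eq_zero]
  have heq : ∀ y : S, φ y = φ' y := by
    intro y
    have hy : y ∈ Algebra.adjoin R (G R S) := by rw [hgen]; trivial
    induction hy using Algebra.adjoin_induction with
    | mem x hx =>
      obtain ⟨⟨r2, h2⟩, ⟨r3, h3⟩⟩ := hx
      have a2 : φ x ^ 2 = algebraMap R p.ResidueField r2 := by rw [← map_pow, ← h2, hφR]
      have a3 : φ x ^ 3 = algebraMap R p.ResidueField r3 := by rw [← map_pow, ← h3, hφR]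
      have b2 : φ' x ^ 2 = algebraMap R p.ResidueField r2 := by rw [← map_pow, ← h2, hφ'R]
      have b3 : φ' x ^ 3 = algebraMap R p.ResidueField r3 := by rw [← map_pow, ← h3, hφ'R]
      by_cases h0 : algebraMap R p.ResidueField r2 = 0
      · rw [h0] at a2 b2
        rw [pow_eq_zero_iff (by norm_num)] at a2 b2
        rw [a2, b2]
      · have ha : φ x ≠ 0 := by
          intro h; apply h0; rw [← a2, h]; ring
        have hb : φ' x ≠ 0 := by
          intro h; apply h0; rw [← b2, h]; ring
        have e1 : φ x = algebraMap R p.ResidueField r3 / algebraMap R p.ResidueField r2 := by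
          rw [← a2, ← a3]; field_simp
        have e2 : φ' x = algebraMap R p.ResidueField r3 / algebraMap R p.ResidueField r2 := by
          rw [← b2, ← b3]; field_simp
        rw [e1, e2]
    | algebraMap r => rw [hφR, hφ'R]
    | add x y _ _ hx hy => rw [map_add, map_add, hx, hy]
    | mul x y _ _ hx hy => rw [map_mul, map_mul, hx, hy]
  apply PrimeSpectrum.ext
  ext y
  rw [← hker, ← hker', heq]

theorem main
    (hgen : Algebra.adjoin R {x : S | x ^ 2 ∈ Set.range (algebraMap R S) ∧ x ^ 3 ∈ Set.range (algebraMap R S)} = ⊤)
    (hker : ∀ r : R, algebraMap R S r = 0 → IsNilpotent r) :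
    IsHomeomorph (PrimeSpectrum.comap (algebraMap R S)) ∧
      ∀ (q : Ideal S) [q.IsPrime], Function.Bijective (Ideal.ResidueField.map (q.comap (algebraMap R S)) q (algebraMap R S) rfl) := by
  have hgen' : Algebra.adjoin R (G R S) = ⊤ := hgen
  haveI : Algebra.IsIntegral R S := isIntegral_of_gen hgen'
  constructor
  · rw [isHomeomorph_iff_continuous_isClosedMap_bijective]
    refine ⟨PrimeSpectrum.continuous_comap _, ?_, comap_injective hgen', ?_⟩
    · exact PrimeSpectrum.isClosedMap_comap_of_isIntegral _ (algebraMap_isIntegral_iff.mpr inferInstance)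
    · intro p
      obtain ⟨Q, -, hQp, hQ⟩ := Ideal.exists_ideal_over_prime_of_isIntegral p.asIdeal
        (⊥ : Ideal S) (by
          intro r hr
          rw [Ideal.mem_comap, Ideal.mem_bot] at hr
          obtain ⟨k, hk⟩ := hker r hr
          exact p.2.mem_of_pow_mem k (hk ▸ zero_mem _))
      exact ⟨⟨Q, hQp⟩, PrimeSpectrum.ext hQ⟩
  · intro q _
    exact residue_bijective hgen' q _ rfl

end SqCube

end Groth.Agent.S9606.Aux

namespace Groth.Agent.S9606

/-- Let R → S be a ring map with locally nilpotent kernel such that S is generated over R by elements x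
with x² and x³ in the image of R. Then the induced map on spectra is a homeomorphism and every
residue field map κ(p) → κ(q), for q a prime of S with inverse image p, is bijective. -/
theorem result {R S : Type u} [CommRing R] [CommRing S] [Algebra R S]
    (hgen : Algebra.adjoin R {x : S | x ^ 2 ∈ Set.range (algebraMap R S) ∧ x ^ 3 ∈ Set.range (algebraMap R S)} = ⊤)
    (hker : ∀ r : R, algebraMap R S r = 0 → IsNilpotent r) :
    IsHomeomorph (PrimeSpectrum.comap (algebraMap R S)) ∧
      ∀ (q : Ideal S) [q.IsPrime], Function.Bijective (Ideal.ResidueField.map (q.comap (algebraMap R S)) q (algebraMap R S) rfl) := by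
  exact Aux.SqCube.main hgen hker

end Groth.Agent.S9606
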