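import Groth.Statements.S9607
import Mathlib

set_option autoImplicit false
universe u
open CAlg

namespace Groth.Agent.S9607

open MvPolynomial

abbrev P := MvPolynomial (Fin 2) ℤ

noncomputable abbrev B (p n m : ℕ) : Subalgebra ℤ P :=
  Algebra.adjoin ℤ ({X 0 ^ (p ^ n), (p : P) ^ n * X 0, X 1 ^ (p ^ m), (p : P) ^ m * X 1} : Set P)

lemma pow_mul_X_pow_mem (S : Subalgebra ℤ P) (x : P) (p n : ℕ) (hpn : 0 < p ^ n)
    (h1 : x ^ (p ^ n) ∈ S) (h2 : (p : P) ^ n * x ∈ S) (i : ℕ) :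
    (p : P) ^ (n * p ^ n) * x ^ i ∈ S := by
  have hp : (p : P) ∈ S := by
    have : ((p : ℤ) : P) ∈ S := by
      have := S.algebraMap_mem (p : ℤ)
      simpa using this
    simpa using this
  have hi : i = p ^ n * (i / p ^ n) + i % p ^ n := (Nat.div_add_mod i (p ^ n)).symm
  have hr : i % p ^ n < p ^ n := Nat.mod_lt _ hpn
  set q := i / p ^ n
  set r := i % p ^ n
  have hK : n * p ^ n = n * (p ^ n - r) + n * r := by
    rw [← Nat.mul_add]; congr 1; omega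
  rw [hi, hK, pow_add, pow_add, pow_mul x]
  have : (p : P) ^ (n * (p ^ n - r)) * (p : P) ^ (n * r) * ((x ^ p ^ n) ^ q * x ^ r)
      = (p : P) ^ (n * (p ^ n - r)) * ((p : P) ^ n * x) ^ r * (x ^ p ^ n) ^ q := by
    rw [mul_pow, ← pow_mul]; ring
  rw [this]
  exact S.mul_mem (S.mul_mem (S.pow_mem hp _) (S.pow_mem h2 _)) (S.pow_mem h1 _)

lemma pow_mul_mem (p n m : ℕ) (hp : 0 < p) (f : P) :
    (p : P) ^ (n * p ^ n + m * p ^ m) * f ∈ B p n m := by
  have hx1 : (X 0 : P) ^ (p ^ n) ∈ B p n m := Algebra.subset_adjoin (by simp)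
  have hx2 : (p : P) ^ n * X 0 ∈ B p n m := Algebra.subset_adjoin (by simp)
  have hy1 : (X 1 : P) ^ (p ^ m) ∈ B p n m := Algebra.subset_adjoin (by simp)
  have hy2 : (p : P) ^ m * X 1 ∈ B p n m := Algebra.subset_adjoin (by simp)
  induction f using MvPolynomial.induction_on' with
  | monomial s a =>
    have hmon : (monomial s a : P) = a • ((X 0 : P) ^ (s 0) * (X 1 : P) ^ (s 1)) := by
      rw [MvPolynomial.monomial_eq, Finsupp.prod_fintype _ _ (by simp)]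
      simp [Fin.prod_univ_two, MvPolynomial.C_eq_smul_one] 
    rw [hmon, mul_smul_comm]
    refine (B p n m).smul_mem ?_ a
    have : (p : P) ^ (n * p ^ n + m * p ^ m) * ((X 0 : P) ^ (s 0) * (X 1 : P) ^ (s 1))
      = ((p : P) ^ (n * p ^ n) * (X 0 : P) ^ (s 0)) * ((p : P) ^ (m * p ^ m) * (X 1 : P) ^ (s 1)) := by
      rw [pow_add]; ring
    rw [this]
    exact (B p n m).mul_mem (pow_mul_X_pow_mem _ _ p n (pow_pos hp _) hx1 hx2 _)
      (pow_mul_X_pow_mem _ _ p m (pow_pos hp _) hy1 hy2 _)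
  | add f g hf hg =>
    rw [mul_add]; exact (B p n m).add_mem hf hg

/-- For a prime number p and integers n, m > 0 there exists an integer a such that (x + y)^(p^a) and p^a
(x + y) both belong to the subring ℤ[x^(p^n), p^n x, y^(p^m), p^m y] of the polynomial ring ℤ[x, y]. -/
theorem result (p : ℕ) (hp : p.Prime) (n m : ℕ) (hn : 0 < n) (hm : 0 < m) :
    ∃ a : ℕ, ((MvPolynomial.X 0 + MvPolynomial.X 1 : MvPolynomial (Fin 2) ℤ) ^ (p ^ a) ∈ Algebra.adjoin ℤ ({MvPolynomial.X 0 ^ (p ^ n), (p : MvPolynomial (Fin 2) ℤ) ^ n * MvPolynomial.X 0, MvPolynomial.X 1 ^ (p ^ m), (p : MvPolynomial (Fin 2) ℤ) ^ m * MvPolynomial.X 1} : Set (MvPolynomial (Fin 2) ℤ)) ∧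
      (p : MvPolynomial (Fin 2) ℤ) ^ a * (MvPolynomial.X 0 + MvPolynomial.X 1) ∈ Algebra.adjoin ℤ ({MvPolynomial.X 0 ^ (p ^ n), (p : MvPolynomial (Fin 2) ℤ) ^ n * MvPolynomial.X 0, MvPolynomial.X 1 ^ (p ^ m), (p : MvPolynomial (Fin 2) ℤ) ^ m * MvPolynomial.X 1} : Set (MvPolynomial (Fin 2) ℤ))) := by
  set K := n * p ^ n + m * p ^ m with hK
  have hx1 : (X 0 : P) ^ (p ^ n) ∈ B p n m := Algebra.subset_adjoin (by simp)
  have hy1 : (X 1 : P) ^ (p ^ m) ∈ B p n m := Algebra.subset_adjoin (by simp)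
  refine ⟨(n + m) + K, ?_, ?_⟩
  · -- (x+y)^{p^{c}} ≡ x^{p^c} + y^{p^c} mod p
    obtain ⟨r, hr⟩ := exists_add_pow_prime_pow_eq hp (X 0 : P) (X 1 : P) (n + m)
    have hdvd : (p : P) ∣ (X 0 + X 1 : P) ^ p ^ (n + m) - ((X 0 : P) ^ p ^ (n + m) + (X 1 : P) ^ p ^ (n + m)) := by
      refine ⟨X 0 * X 1 * r, ?_⟩
      rw [hr]; ring
    obtain ⟨g, hg⟩ := dvd_sub_pow_of_dvd_sub hdvd K
    have hmain : (X 0 + X 1 : P) ^ p ^ ((n + m) + K) =
        ((X 0 : P) ^ p ^ (n + m) + (X 1 : P) ^ p ^ (n + m)) ^ p ^ K + (p : P) ^ (K + 1) * g := by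
      rw [← hg, pow_add p, pow_mul]; ring
    change (X 0 + X 1 : P) ^ p ^ ((n + m) + K) ∈ B p n m
    rw [hmain]
    refine (B p n m).add_mem ((B p n m).pow_mem ((B p n m).add_mem ?_ ?_) _) ?_
    · rw [pow_add p, pow_mul]; exact (B p n m).pow_mem hx1 _
    · rw [pow_add p, mul_comm, pow_mul]; exact (B p n m).pow_mem hy1 _
    · rw [pow_succ, mul_assoc]
      exact pow_mul_mem p n m hp.pos _
  · change (p : P) ^ ((n + m) + K) * (X 0 + X 1) ∈ B p n m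
    rw [add_comm (n + m) K, pow_add, mul_assoc]
    exact pow_mul_mem p n m hp.pos _

end Groth.Agent.S9607
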