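import Groth.Statements.S9608
import Mathlib

set_option autoImplicit false
universe u
open CAlg

namespace Groth.Agent.S9608

/-- Let k'/k be a field extension and p a prime number. Then k' is generated over k by elements x for
which some n > 0 has x^(p^n) ∈ k and p^n x ∈ k, if and only if either k' = k, or k has
characteristic p and k'/k is purely inseparable. -/
theorem result {k k' : Type u} [Field k] [Field k'] [Algebra k k'] (p : ℕ) (hp : p.Prime) :
    IntermediateField.adjoin k {x : k' | ∃ n : ℕ, 0 < n ∧ x ^ (p ^ n) ∈ Set.range (algebraMap k k') ∧ (p : k') ^ n * x ∈ Set.range (algebraMap k k')} = ⊤ ↔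
      (Function.Surjective (algebraMap k k') ∨ (CharP k p ∧ IsPurelyInseparable k k')) := by
  classical
  haveI : Fact p.Prime := ⟨hp⟩
  set T : Set k' := {x : k' | ∃ n : ℕ, 0 < n ∧ x ^ (p ^ n) ∈ Set.range (algebraMap k k') ∧
    (p : k') ^ n * x ∈ Set.range (algebraMap k k')} with hT
  constructor
  · intro htop
    by_cases hsurj : Function.Surjective (algebraMap k k')
    · exact Or.inl hsurj
    · right
      -- some generator not in the base
      have hex : ∃ x ∈ T, x ∉ Set.range (algebraMap k k') := by
        by_contra hcon
        push Not at hcon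
        apply hsurj
        have hle : IntermediateField.adjoin k T ≤ ⊥ := by
          rw [IntermediateField.adjoin_le_iff]
          intro x hx
          obtain ⟨y, rfl⟩ := hcon x hx
          exact (⊥ : IntermediateField k k').algebraMap_mem y
        rw [htop] at hle
        intro z
        have hz : z ∈ (⊥ : IntermediateField k k') := hle (IntermediateField.mem_top)
        exact IntermediateField.mem_bot.mp hz
      obtain ⟨x, ⟨n, hn, hx1, hx2⟩, hxk⟩ := hex
      have hp0 : (p : k') = 0 := by
        by_contra hne
        apply hxk
        obtain ⟨y, hy⟩ := hx2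
        have hpn : (p : k') ^ n ≠ 0 := pow_ne_zero _ hne
        refine ⟨y / (p : k) ^ n, ?_⟩
        rw [map_div₀, hy, map_pow, map_natCast, mul_div_cancel_left₀ _ hpn]
      haveI hchar' : CharP k' p := by
        have := CharP.exists k'
        obtain ⟨q, hq⟩ := this
        have hdvd : q ∣ p := (CharP.cast_eq_zero_iff k' q p).mp hp0
        rcases (Nat.dvd_prime hp).mp hdvd with h1 | h1
        · subst h1
          exact absurd rfl (CharP.char_ne_one k' 1)
        · rw [← h1]; exact hq
      haveI hchar : CharP k p := (algebraMap k k').charP_iff (algebraMap k k').injective p |>.mpr hchar'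
      refine ⟨hchar, ?_⟩
      haveI : ExpChar k p := ExpChar.prime hp
      have hpi : IsPurelyInseparable k (IntermediateField.adjoin k T) := by
        rw [IntermediateField.isPurelyInseparable_adjoin_iff_pow_mem k k' p]
        intro y hy
        obtain ⟨m, -, hy1, -⟩ := hy
        exact ⟨m, hy1⟩
      rw [htop] at hpi
      exact (IntermediateField.topEquiv (F := k) (E := k')).isPurelyInseparable
  · rintro (hsurj | ⟨hchar, hpi⟩)
    · rw [eq_top_iff]
      intro z _
      obtain ⟨y, rfl⟩ := hsurj z
      exact (IntermediateField.adjoin k T).algebraMap_mem y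
    · haveI : ExpChar k p := ExpChar.prime hp
      haveI hchar' : CharP k' p := (algebraMap k k').charP_iff (algebraMap k k').injective p |>.mp hchar
      rw [eq_top_iff]
      intro z _
      apply IntermediateField.subset_adjoin
      obtain ⟨n, y, hy⟩ := (isPurelyInseparable_iff_pow_mem k p).mp hpi z
      refine ⟨n + 1, Nat.succ_pos n, ⟨y ^ p, ?_⟩, ⟨0, ?_⟩⟩
      · rw [map_pow, hy, ← pow_mul, ← pow_succ]
      · rw [map_zero, CharP.cast_eq_zero k' p, zero_pow (Nat.succ_ne_zero n), zero_mul]

end Groth.Agent.S9608
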