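import Groth.Statements.S9610
import Mathlib

set_option autoImplicit false
universe u
open CAlg

namespace Groth.Agent.S9610

/-- Let k be a field and V a nonzero k-vector space with dim_k V < #k as cardinals. Then every k-linear
endomorphism T of V admits a monic polynomial P over k for which P(T) is not invertible. -/
theorem result {k V : Type u} [Field k] [AddCommGroup V] [Module k V] [Nontrivial V] (hV : Module.rank k V < Cardinal.mk k) (T : Module.End k V) :
    ∃ P : Polynomial k, P.Monic ∧ ¬ IsUnit (Polynomial.aeval T P) := by
  classical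
  by_contra hcon
  push Not at hcon
  -- every nonzero polynomial acts invertibly
  have hunit : ∀ Q : Polynomial k, Q ≠ 0 → IsUnit (Polynomial.aeval T Q) := by
    intro Q hQ
    have hlc : Q.leadingCoeff ≠ 0 := Polynomial.leadingCoeff_ne_zero.mpr hQ
    have hmonic : (Polynomial.C Q.leadingCoeff⁻¹ * Q).Monic :=
      Polynomial.monic_C_mul_of_mul_leadingCoeff_eq_one (inv_mul_cancel₀ hlc)
    have h1 := hcon _ hmonic
    have h2 : Q = Polynomial.C Q.leadingCoeff * (Polynomial.C Q.leadingCoeff⁻¹ * Q) := by
      rw [← mul_assoc, ← Polynomial.C_mul, mul_inv_cancel₀ hlc, Polynomial.C_1, one_mul]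
    rw [h2, map_mul, Polynomial.aeval_C]
    exact ((IsUnit.mk0 _ hlc).map (algebraMap k (Module.End k V))).mul h1
  obtain ⟨v, hv⟩ := exists_ne (0 : V)
  -- w a with (T - a) w a = v
  have hw : ∀ a : k, ∃ w : V, Polynomial.aeval T (Polynomial.X - Polynomial.C a) w = v := by
    intro a
    obtain ⟨u, hu⟩ := hunit _ (Polynomial.X_sub_C_ne_zero a)
    refine ⟨(↑u⁻¹ : Module.End k V) v, ?_⟩
    rw [← hu, ← Module.End.mul_apply, Units.mul_inv, Module.End.one_apply]
  choose w hw using hw
  have hli : LinearIndependent k w := by
    rw [linearIndependent_iff']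
    intro s m hm i hi
    let p : Polynomial k := s.sum fun a => Polynomial.C (m a) * (s.erase a).prod fun j => Polynomial.X - Polynomial.C j
    have hp : Polynomial.aeval T p v = 0 := by
      have h1 := congrArg (Polynomial.aeval T (s.prod fun j => Polynomial.X - Polynomial.C j)) hm
      rw [map_zero, map_sum] at h1
      rw [← h1]
      simp only [p, map_sum, LinearMap.sum_apply]
      apply Finset.sum_congr rfl
      intro a ha
      rw [map_smul, ← Finset.prod_erase_mul _ _ ha]
      rw [map_mul (Polynomial.aeval T) (∏ x ∈ s.erase a, (Polynomial.X - Polynomial.C x)),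
        Module.End.mul_apply, hw a, map_mul, Polynomial.aeval_C, Module.End.mul_apply,
        Module.algebraMap_end_apply]
    have hp0 : p = 0 := by
      by_contra hne
      obtain ⟨u, hu⟩ := hunit p hne
      apply hv
      have : (↑u⁻¹ : Module.End k V) ((u : Module.End k V) v) = v := by
        rw [← Module.End.mul_apply, Units.inv_mul, Module.End.one_apply]
      rw [← this, hu, hp, map_zero]
    have h2 : ∀ j ∈ s.erase i, m j * ((s.erase j).prod fun x => i - x) = 0 := fun j hj => by
      have := Finset.mem_erase_of_ne_of_mem (Finset.ne_of_mem_erase hj).symm hi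
      rw [← (s.erase j).prod_erase_mul _ this, sub_self, mul_zero, mul_zero]
    have h3 := congrArg (Polynomial.eval i) hp0
    simp only [p, Polynomial.eval_finset_sum, Polynomial.eval_mul, Polynomial.eval_C,
      Polynomial.eval_prod, Polynomial.eval_sub, Polynomial.eval_X, Polynomial.eval_zero] at h3
    rw [← s.sum_erase_add _ hi, Finset.sum_eq_zero h2, zero_add] at h3
    exact eq_zero_of_ne_zero_of_mul_right_eq_zero (Finset.prod_ne_zero_iff.2 fun j hj =>
      sub_ne_zero.2 (Finset.ne_of_mem_erase hj).symm) h3
  have := hli.cardinal_le_rank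
  exact absurd hV (not_lt.mpr this)

end Groth.Agent.S9610
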