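import Groth.Statements.S9611
-- import your own Groth.Agent.* helpers here

set_option autoImplicit false
universe u
open CAlg

namespace Groth.Agent.S9611

/-- Let R be a Jacobson ring, p a prime ideal of R which is not maximal, and f an element of R not in p.
Then the set of primes of R containing p and not containing f is infinite. -/
theorem result {R : Type u} [CommRing R] [IsJacobsonRing R] (p : Ideal R) [p.IsPrime] (hp : ¬ p.IsMaximal) (f : R) (hf : f ∉ p) :
    {q : PrimeSpectrum R | p ≤ q.asIdeal ∧ f ∉ q.asIdeal}.Infinite := by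
  classical
  intro hfin
  set T := {q : PrimeSpectrum R | p ≤ q.asIdeal ∧ f ∉ q.asIdeal} with hT
  let 𝓜 : Finset (PrimeSpectrum R) := hfin.toFinset.filter (fun q => q.asIdeal.IsMaximal)
  have hle : 𝓜.inf (fun q => q.asIdeal) ≤ p := by
    intro x hx
    have hx' : ∀ q ∈ 𝓜, x ∈ q.asIdeal := by
      intro q hq
      exact (Finset.inf_le hq : 𝓜.inf (fun q => q.asIdeal) ≤ q.asIdeal) hx
    have hfx : f * x ∈ p.jacobson := by
      rw [Ideal.jacobson, Ideal.mem_sInf]
      rintro J ⟨hpJ, hJ⟩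
      by_cases hfJ : f ∈ J
      · exact J.mul_mem_right _ hfJ
      · have hJT : (⟨J, hJ.isPrime⟩ : PrimeSpectrum R) ∈ T := ⟨hpJ, hfJ⟩
        have hJM : (⟨J, hJ.isPrime⟩ : PrimeSpectrum R) ∈ 𝓜 := by
          simp only [𝓜, Finset.mem_filter, Set.Finite.mem_toFinset]
          exact ⟨hJT, hJ⟩
        exact J.mul_mem_left _ (hx' _ hJM)
    rw [IsJacobsonRing.out ‹IsJacobsonRing R› (Ideal.IsPrime.isRadical ‹p.IsPrime›)] at hfx
    exact (Ideal.IsPrime.mem_or_mem ‹p.IsPrime› hfx).resolve_left hf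
  obtain ⟨q, hq, hqp⟩ := (Ideal.IsPrime.inf_le' ‹p.IsPrime›).mp hle
  have hqmax : q.asIdeal.IsMaximal := by
    simp only [𝓜, Finset.mem_filter] at hq
    exact hq.2
  have : q.asIdeal = p := hqmax.eq_of_le (Ideal.IsPrime.ne_top ‹p.IsPrime›) hqp
  exact hp (this ▸ hqmax)

end Groth.Agent.S9611
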