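import Groth.Statements.S9613
import Mathlib

set_option autoImplicit false
universe u
open CAlg

namespace Groth.Agent.S9613

/-- Let R → K be an injective ring map into a field K which makes K an R-algebra of finite type. Then
for some nonzero f ∈ R the localization R_f is a field over which K is finite; here R_f is realised
as the R-subalgebra of K that is a localization of R away from f. -/
theorem result {R K : Type u} [CommRing R] [Field K] [Algebra R K] (hinj : Function.Injective (algebraMap R K)) [Algebra.FiniteType R K] :
    ∃ f : R, f ≠ 0 ∧ ∃ Rf : Subalgebra R K, IsLocalization.Away f Rf ∧ IsField Rf ∧ Module.Finite Rf K := by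
  classical
  haveI : IsDomain R := hinj.isDomain (algebraMap R K)
  haveI : FaithfulSMul R K := (faithfulSMul_iff_algebraMap_injective R K).mpr hinj
  letI : Algebra (FractionRing R) K := FractionRing.liftAlgebra R K
  haveI : IsScalarTower R (FractionRing R) K := FractionRing.isScalarTower_liftAlgebra R K
  haveI : Algebra.FiniteType (FractionRing R) K :=
    Algebra.FiniteType.of_restrictScalars_finiteType R (FractionRing R) K
  haveI : Module.Finite (FractionRing R) K :=
    finite_of_finite_type_of_isJacobsonRing (FractionRing R) K
  haveI : Algebra.IsAlgebraic (FractionRing R) K := Algebra.IsAlgebraic.of_finite _ _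
  haveI : Algebra.IsAlgebraic R K :=
    (IsFractionRing.comap_isAlgebraic_iff (A := R) (K := FractionRing R) (C := K)).mpr inferInstance
  obtain ⟨s, hs⟩ := (Algebra.FiniteType.out : (⊤ : Subalgebra R K).FG)
  obtain ⟨f, hf0, hf⟩ := Algebra.IsAlgebraic.exists_integral_multiples R s
  have hfK : algebraMap R K f ≠ 0 := fun h => hf0 (hinj (h.trans (map_zero _).symm))
  have hunit : ∀ y : Submonoid.powers f, IsUnit (algebraMap R K y) := by
    rintro ⟨_, n, rfl⟩
    rw [map_pow]
    exact (IsUnit.mk0 _ hfK).pow n
  let φ : Localization.Away f →ₐ[R] K :=
    IsLocalization.liftAlgHom (M := Submonoid.powers f) (f := Algebra.ofId R K) hunit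
  have hφinj : Function.Injective φ := by
    have h1 : Function.Injective (algebraMap R (Localization.Away f)) :=
      IsLocalization.injective _ (powers_le_nonZeroDivisors_of_noZeroDivisors hf0)
    show Function.Injective (IsLocalization.lift (M := Submonoid.powers f)
      (g := (Algebra.ofId R K : R →+* K)) hunit)
    rw [IsLocalization.lift_injective_iff]
    intro x y
    constructor
    · intro h
      rw [h1 h]
    · intro h
      have : x = y := hinj h
      rw [this]
  let e : Localization.Away f ≃ₐ[R] φ.range := AlgEquiv.ofInjective φ hφinj
  refine ⟨f, hf0, φ.range, IsLocalization.isLocalization_of_algEquiv (Submonoid.powers f) e, ?_⟩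
  -- integrality
  have hfinv : (algebraMap R K f)⁻¹ ∈ φ.range := by
    refine ⟨IsLocalization.mk' (Localization.Away f) 1 (⟨f, Submonoid.mem_powers f⟩ : Submonoid.powers f), ?_⟩
    show IsLocalization.lift (M := Submonoid.powers f) (g := (Algebra.ofId R K : R →+* K)) hunit _ = _
    rw [IsLocalization.lift_mk'_spec]
    simp only [map_one]
    show (1 : K) = algebraMap R K f * (algebraMap R K f)⁻¹
    rw [mul_inv_cancel₀ hfK]
  have hint : ∀ z ∈ s, IsIntegral φ.range z := by
    intro z hz
    have h1 : IsIntegral φ.range (f • z) := (hf z hz).tower_top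
    have h2 : z = (⟨(algebraMap R K f)⁻¹, hfinv⟩ : φ.range) • (f • z) := by
      show z = (algebraMap R K f)⁻¹ * (f • z)
      rw [Algebra.smul_def, ← mul_assoc, inv_mul_cancel₀ hfK, one_mul]
    rw [h2]
    exact h1.smul _
  haveI : Algebra.IsIntegral φ.range K := by
    refine ⟨fun x => ?_⟩
    have hx : x ∈ Algebra.adjoin R (s : Set K) := by rw [hs]; trivial
    have hle : Algebra.adjoin R (s : Set K) ≤ (integralClosure φ.range K).restrictScalars R := by
      apply Algebra.adjoin_le
      intro z hz
      exact hint z hz
    exact hle hx
  haveI : Algebra.FiniteType φ.range K := Algebra.FiniteType.of_restrictScalars_finiteType R φ.range K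
  refine ⟨?_, Algebra.IsIntegral.finite⟩
  exact isField_of_isIntegral_of_isField (R := φ.range) (S := K) Subtype.val_injective
    (Field.toIsField K)

end Groth.Agent.S9613
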