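import Groth.Statements.S9614
import Mathlib

set_option autoImplicit false
universe u
open CAlg

namespace Groth.Agent.S9614

open DirectSum


section
variable {R S : Type u} [CommRing R] [CommRing S] [Algebra R S] (𝒜 : ℕ → Submodule R S) [GradedAlgebra 𝒜]
    (M : Type u) [AddCommGroup M] [Module R M] [Module S M] [IsScalarTower R S M] (ℳ : ℕ → Submodule R M) [DirectSum.Decomposition ℳ] [SetLike.GradedSMul 𝒜 ℳ]

open scoped Classical in
lemma comp_smul (a : S) (m : M) (d : ℕ) :
    ((decompose ℳ (a • m) d : ℳ d) : M) =
      ∑ e ∈ (decompose 𝒜 a).support, ∑ f ∈ (decompose ℳ m).support,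
        if e + f = d then ((decompose 𝒜 a e : 𝒜 e) : S) • ((decompose ℳ m f : ℳ f) : M) else 0 := by
  classical
  conv_lhs => rw [← DirectSum.sum_support_decompose 𝒜 a, ← DirectSum.sum_support_decompose ℳ m]
  rw [Finset.sum_smul]
  simp_rw [Finset.smul_sum]
  rw [decompose_sum, DFinsupp.finsetSum_apply, AddSubmonoidClass.coe_finsetSum]
  refine Finset.sum_congr rfl fun e _ => ?_
  rw [decompose_sum, DFinsupp.finsetSum_apply, AddSubmonoidClass.coe_finsetSum]
  refine Finset.sum_congr rfl fun f _ => ?_
  have hmem : ((decompose 𝒜 a e : 𝒜 e) : S) • ((decompose ℳ m f : ℳ f) : M) ∈ ℳ (e + f) :=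
    SetLike.GradedSMul.smul_mem (decompose 𝒜 a e).2 (decompose ℳ m f).2
  split_ifs with hd
  · subst hd
    exact DirectSum.decompose_of_mem_same ℳ hmem
  · exact DirectSum.decompose_of_mem_ne ℳ hmem hd

end

/-- Let S be an ℕ-graded ring and M a finitely generated graded S-module, graded in nonnegative degrees
(the source allows all integer degrees). If x_1, …, x_n are homogeneous elements of M which generate
M modulo S₊ M (S₊ the irrelevant ideal), then x_1, …, x_n generate M. -/
theorem result {R S : Type u} [CommRing R] [CommRing S] [Algebra R S] (𝒜 : ℕ → Submodule R S) [GradedAlgebra 𝒜]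
    (M : Type u) [AddCommGroup M] [Module R M] [Module S M] [IsScalarTower R S M] [Module.Finite S M] (ℳ : ℕ → Submodule R M) [DirectSum.Decomposition ℳ] [SetLike.GradedSMul 𝒜 ℳ]
    {n : ℕ} (x : Fin n → M) (hx : ∀ i, SetLike.IsHomogeneousElem ℳ (x i))
    (h : Submodule.span S (Set.range x) ⊔ (HomogeneousIdeal.irrelevant 𝒜).toIdeal • (⊤ : Submodule S M) = ⊤) :
    Submodule.span S (Set.range x) = ⊤ := by
  classical
  set N := Submodule.span S (Set.range x) with hN
  -- N is homogeneous
  have A : ∀ y ∈ N, ∀ d, ((decompose ℳ y d : ℳ d) : M) ∈ N := by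
    intro y hy
    induction hy using Submodule.span_induction with
    | mem y hy =>
      obtain ⟨i, rfl⟩ := hy
      obtain ⟨e, he⟩ := hx i
      intro d
      by_cases hd : e = d
      · subst hd
        rw [DirectSum.decompose_of_mem_same ℳ he]
        exact Submodule.subset_span ⟨i, rfl⟩
      · rw [DirectSum.decompose_of_mem_ne ℳ he hd]
        exact N.zero_mem
    | zero => intro d; simp
    | add y z _ _ hy hz =>
      intro d
      rw [decompose_add, DirectSum.add_apply, Submodule.coe_add]
      exact N.add_mem (hy d) (hz d)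
    | smul a y _ hy =>
      intro d
      rw [comp_smul 𝒜 M ℳ a y d]
      refine N.sum_mem fun e _ => N.sum_mem fun f _ => ?_
      split_ifs
      · exact N.smul_mem _ (hy f)
      · exact N.zero_mem
  have key : ∀ d, ∀ m ∈ ℳ d, m ∈ N := by
    intro d
    induction d using Nat.strong_induction_on with
    | _ d ih =>
      intro m hm
      have hmem : m ∈ N ⊔ (HomogeneousIdeal.irrelevant 𝒜).toIdeal • (⊤ : Submodule S M) := by
        rw [h]; exact Submodule.mem_top
      obtain ⟨y, hy, z, hz, rfl⟩ := Submodule.mem_sup.mp hmem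
      have h1 : ((decompose ℳ (y + z) d : ℳ d) : M) = y + z := DirectSum.decompose_of_mem_same ℳ hm
      rw [← h1, decompose_add, DirectSum.add_apply, Submodule.coe_add]
      refine N.add_mem (A y hy d) ?_
      -- z part
      refine Submodule.smul_induction_on hz ?_ ?_
      · intro a ha m' _
        rw [comp_smul 𝒜 M ℳ a m' d]
        refine N.sum_mem fun e _ => N.sum_mem fun f _ => ?_
        split_ifs with hd
        · by_cases he : e = 0
          · subst he
            have : ((decompose 𝒜 a 0 : 𝒜 0) : S) = 0 := by
              have := (HomogeneousIdeal.mem_irrelevant_iff 𝒜 a).mp ha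
              simpa [GradedRing.proj_apply] using this
            rw [this, zero_smul]; exact N.zero_mem
          · exact N.smul_mem _ (ih f (by omega) _ (decompose ℳ m' f).2)
        · exact N.zero_mem
      · intro z1 z2 h1 h2
        rw [decompose_add, DirectSum.add_apply, Submodule.coe_add]
        exact N.add_mem h1 h2
  rw [eq_top_iff]
  intro m _
  rw [← DirectSum.sum_support_decompose ℳ m]
  exact N.sum_mem fun f _ => key f _ (decompose ℳ m f).2

end Groth.Agent.S9614
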