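import Groth.Statements.S9615
import Groth.Agent.Lib.Helper4GradedPoly

set_option autoImplicit false
universe u
open CAlg

namespace Groth.Agent.S9615

attribute [local instance] Polynomial.algebra

/-- Let R → S be a homomorphism of ℕ-graded rings, i.e. the structure map carries each graded piece R_i
into S_i. If an element s of S is integral over R, then each homogeneous component of s is integral
over R; so the integral closure of R in S is a graded subring of S. -/
theorem result {R S : Type u} [CommRing R] [CommRing S] [Algebra R S] (ℛ : ℕ → AddSubgroup R) [GradedRing ℛ] (𝒮 : ℕ → AddSubgroup S) [GradedRing 𝒮]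
    (hmap : ∀ i : ℕ, ∀ r ∈ ℛ i, algebraMap R S r ∈ 𝒮 i) (s : S) (hs : IsIntegral R s) (i : ℕ) :
    IsIntegral R ((DirectSum.decompose 𝒮 s i : 𝒮 i) : S) := by
  have hcomm : (algebraMap (Polynomial R) (Polynomial S)).comp (Groth.Agent.Lib.Helper4.GP.gradHom ℛ) =
      (Groth.Agent.Lib.Helper4.GP.gradHom 𝒮).comp (algebraMap R S) := by
    refine RingHom.ext fun r => ?_
    induction r using DirectSum.Decomposition.inductionOn ℛ with
    | zero => simp
    | homogeneous a =>
      rename_i j
      simp only [RingHom.comp_apply]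
      rw [Groth.Agent.Lib.Helper4.GP.gradHom_of_mem ℛ a.2,
        Groth.Agent.Lib.Helper4.GP.gradHom_of_mem 𝒮 (hmap j a.1 a.2)]
      simp [Polynomial.algebraMap_def]
    | add a b ha hb =>
      simp only [map_add, RingHom.comp_apply] at ha hb ⊢
      rw [ha, hb]
  have h1 : IsIntegral (Polynomial R) (Groth.Agent.Lib.Helper4.GP.gradHom 𝒮 s) :=
    IsIntegral.map_of_comp_eq (Groth.Agent.Lib.Helper4.GP.gradHom ℛ)
      (Groth.Agent.Lib.Helper4.GP.gradHom 𝒮) hcomm hs
  have h2 := h1.coeff i
  rw [Groth.Agent.Lib.Helper4.GP.coeff_gradHom] at h2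
  exact h2

end Groth.Agent.S9615
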