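import Groth.Statements.S9617
import Mathlib

set_option autoImplicit false
universe u
open CAlg

namespace Groth.Agent.S9617

open DirectSum

theorem hom_gens_ring {A S : Type u} [CommRing A] [CommRing S] [Algebra A S]
    (𝒜 : ℕ → Submodule A S) [GradedAlgebra 𝒜]
    (h0 : ∀ s ∈ 𝒜 0, s ∈ Set.range (algebraMap A S)) [Algebra.FiniteType A S] :
    ∃ T : Finset S, Algebra.adjoin A (T : Set S) = ⊤ ∧ ∀ t ∈ T, ∃ k, k ≠ 0 ∧ t ∈ 𝒜 k := by
  classical
  obtain ⟨F, hF⟩ := Algebra.FiniteType.out (R := A) (A := S)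
  refine ⟨(F.biUnion fun f => (DFinsupp.support (decompose 𝒜 f)).image
    fun n => (decompose 𝒜 f n : S)).filter (fun t => ∃ k, k ≠ 0 ∧ t ∈ 𝒜 k), ?_, ?_⟩
  · rw [← top_le_iff, ← hF, Algebra.adjoin_le_iff]
    intro f hf
    rw [← DirectSum.sum_support_decompose 𝒜 f]
    refine Subalgebra.sum_mem _ fun n hn => ?_
    by_cases hn0 : n = 0
    · subst hn0
      obtain ⟨a, ha⟩ := h0 _ (decompose 𝒜 f 0).2
      rw [← ha]
      exact Subalgebra.algebraMap_mem _ a
    · apply Algebra.subset_adjoin
      rw [Finset.coe_filter]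
      refine ⟨?_, n, hn0, (decompose 𝒜 f n).2⟩
      rw [Finset.mem_biUnion]
      exact ⟨f, hf, Finset.mem_image.mpr ⟨n, hn, rfl⟩⟩
  · intro t ht
    exact (Finset.mem_filter.mp ht).2

theorem hom_gens_module {A S : Type u} [CommRing A] [CommRing S] [Algebra A S]
    (M : Type u) [AddCommGroup M] [Module A M] [Module S M] [IsScalarTower A S M]
    [Module.Finite S M] (ℳ : ℕ → Submodule A M) [DirectSum.Decomposition ℳ] :
    ∃ G : Finset M, Submodule.span S (G : Set M) = ⊤ ∧ ∀ g ∈ G, ∃ k, g ∈ ℳ k := by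
  classical
  obtain ⟨G0, hG0⟩ := (Module.Finite.fg_top (R := S) (M := M))
  refine ⟨G0.biUnion fun g => (DFinsupp.support (decompose ℳ g)).image
    fun n => (decompose ℳ g n : M), ?_, ?_⟩
  · rw [← top_le_iff, ← hG0, Submodule.span_le]
    intro g hg
    rw [← DirectSum.sum_support_decompose ℳ g]
    refine Submodule.sum_mem _ fun n hn => ?_
    apply Submodule.subset_span
    rw [Finset.coe_biUnion]
    simp only [Set.mem_iUnion]
    exact ⟨g, hg, Finset.mem_image.mpr ⟨n, hn, rfl⟩⟩
  · intro g hg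
    rw [Finset.mem_biUnion] at hg
    obtain ⟨g0, _, hg⟩ := hg
    obtain ⟨n, _, rfl⟩ := Finset.mem_image.mp hg
    exact ⟨n, (decompose ℳ g0 n).2⟩

/-- monomial in the generators -/
noncomputable def mon {S : Type u} [CommRing S] (T : Finset S) (α : T →₀ ℕ) : S :=
  α.prod fun t k => (t : S) ^ k

theorem mon_add_single {S : Type u} [CommRing S] (T : Finset S) (α : T →₀ ℕ) (t : T) :
    mon T (α + Finsupp.single t 1) = (t : S) * mon T α := by
  classical
  rw [mon, Finsupp.prod_add_index' (by simp) (by intro a b c; exact pow_add _ _ _),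
    Finsupp.prod_single_index (by simp), pow_one, mul_comm]
  rfl

theorem mon_mem {A S : Type u} [CommRing A] [CommRing S] [Algebra A S]
    (𝒜 : ℕ → Submodule A S) [GradedAlgebra 𝒜] (T : Finset S) (d : S → ℕ)
    (hd : ∀ t ∈ T, t ∈ 𝒜 (d t)) (α : T →₀ ℕ) :
    mon T α ∈ 𝒜 (Finsupp.weight (fun t : T => d t) α) := by
  rw [mon, Finsupp.weight_apply, Finsupp.prod, Finsupp.sum]
  exact SetLike.prod_pow_mem_graded 𝒜 (fun t : T => d t) (fun t : T => (t : S)) (fun t => α t)
    (fun t _ => hd t.1 t.2)

theorem span_mon {A S : Type u} [CommRing A] [CommRing S] [Algebra A S]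
    (M : Type u) [AddCommGroup M] [Module A M] [Module S M] [IsScalarTower A S M]
    (T : Finset S) (hT : Algebra.adjoin A (T : Set S) = ⊤)
    (G : Finset M) (hG : Submodule.span S (G : Set M) = ⊤) :
    Submodule.span A {w : M | ∃ (α : T →₀ ℕ) (g : M), g ∈ G ∧ w = mon T α • g} = ⊤ := by
  classical
  obtain ⟨W, hWdef⟩ : ∃ W : Set M, W = {w : M | ∃ (α : T →₀ ℕ) (g : M), g ∈ G ∧ w = mon T α • g} :=
    ⟨_, rfl⟩
  rw [← hWdef]
  have hgen : ∀ t ∈ T, ∀ m ∈ Submodule.span A W, t • m ∈ Submodule.span A W := by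
    intro t ht m hm
    induction hm using Submodule.span_induction with
    | mem w hw =>
      rw [hWdef] at hw
      obtain ⟨α, g, hg, rfl⟩ := hw
      apply Submodule.subset_span
      rw [hWdef]
      refine ⟨α + Finsupp.single ⟨t, ht⟩ 1, g, hg, ?_⟩
      rw [mon_add_single, mul_smul]
    | zero => rw [smul_zero]; exact Submodule.zero_mem _
    | add x y _ _ hx hy => rw [smul_add]; exact Submodule.add_mem _ hx hy
    | smul a x _ hx => rw [smul_comm]; exact Submodule.smul_mem _ a hx
  have hall : ∀ s : S, ∀ m ∈ Submodule.span A W, s • m ∈ Submodule.span A W := by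
    intro s
    have hs : s ∈ Algebra.adjoin A (T : Set S) := by rw [hT]; trivial
    induction hs using Algebra.adjoin_induction with
    | mem t ht => exact hgen t ht
    | algebraMap a =>
      intro m hm
      rw [algebraMap_smul]
      exact Submodule.smul_mem _ a hm
    | add x y _ _ hx hy =>
      intro m hm
      rw [add_smul]
      exact Submodule.add_mem _ (hx m hm) (hy m hm)
    | mul x y _ _ hx hy =>
      intro m hm
      rw [mul_smul]
      exact hx _ (hy m hm)
  let N : Submodule S M :=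
    { carrier := Submodule.span A W
      add_mem' := fun ha hb => Submodule.add_mem _ ha hb
      zero_mem' := Submodule.zero_mem _
      smul_mem' := fun s m hm => hall s m hm }
  have hN : N = ⊤ := by
    rw [← top_le_iff, ← hG, Submodule.span_le]
    intro g hg
    change g ∈ Submodule.span A W
    apply Submodule.subset_span
    rw [hWdef]
    exact ⟨0, g, hg, by simp [mon]⟩
  rw [eq_top_iff]
  intro m _
  have : m ∈ N := by rw [hN]; trivial
  exact this


/-- Let S be an ℕ-graded ring, presented as a graded algebra over a ring A mapping onto S₀, such that S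
is of finite type over A, i.e. over S₀. If M is a finitely generated graded S-module, graded in
nonnegative degrees (the source allows all integer degrees), then each graded piece M_n is a finite
module over A, i.e. over S₀. -/
theorem result {A S : Type u} [CommRing A] [CommRing S] [Algebra A S] (𝒜 : ℕ → Submodule A S) [GradedAlgebra 𝒜]
    (h0 : ∀ s ∈ 𝒜 0, s ∈ Set.range (algebraMap A S)) [Algebra.FiniteType A S]
    (M : Type u) [AddCommGroup M] [Module A M] [Module S M] [IsScalarTower A S M] [Module.Finite S M] (ℳ : ℕ → Submodule A M) [DirectSum.Decomposition ℳ] [SetLike.GradedSMul 𝒜 ℳ] (n : ℕ) :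
    Module.Finite A (ℳ n) := by
  classical
  obtain ⟨T, hT, hTd⟩ := hom_gens_ring 𝒜 h0
  obtain ⟨G, hG, hGd⟩ := hom_gens_module (A := A) (S := S) M ℳ
  choose! d hd0 hd using hTd
  choose! e he using hGd
  have hspan := span_mon (A := A) M T hT G hG
  obtain ⟨W, hWdef⟩ : ∃ W : Set M, W = {w : M | ∃ (α : T →₀ ℕ) (g : M), g ∈ G ∧ w = mon T α • g} :=
    ⟨_, rfl⟩
  rw [← hWdef] at hspan
  let π : M →ₗ[A] ℳ n := (DirectSum.component A ℕ (fun i => ℳ i) n).comp
    (DirectSum.decomposeLinearEquiv ℳ).toLinearMap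
  have hπ : ∀ m, π m = decompose ℳ m n := fun m => rfl
  have hπ_same : ∀ m (hm : m ∈ ℳ n), π m = ⟨m, hm⟩ := by
    intro m hm
    apply Subtype.ext
    rw [hπ, DirectSum.decompose_of_mem_same ℳ hm]
  have hπ_ne : ∀ k m, m ∈ ℳ k → k ≠ n → π m = 0 := by
    intro k m hm hk
    apply Subtype.ext
    rw [hπ, DirectSum.decompose_of_mem_ne ℳ hm hk]
    rfl
  have hπsurj : Function.Surjective π := fun m => ⟨m.1, by rw [hπ_same m.1 m.2]⟩
  have h1 : Submodule.span A (π '' W) = ⊤ := by
    rw [← Submodule.map_span, hspan, Submodule.map_top, LinearMap.range_eq_top.mpr hπsurj]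
  have hfin : (π '' W).Finite := by
    apply Set.Finite.subset (s := insert 0 ((fun q : (T →₀ ℕ) × M => π (mon T q.1 • q.2)) ''
      ({α | Finsupp.weight (fun t : T => d t) α ≤ n} ×ˢ (G : Set M))))
    · have hf1 : {α : T →₀ ℕ | Finsupp.weight (fun t : T => d t) α ≤ n}.Finite :=
        Finsupp.finite_of_nat_weight_le (fun t : T => d t) (fun t => hd0 t.1 t.2) n
      exact Set.Finite.insert _ (Set.Finite.image _ (Set.Finite.prod hf1 G.finite_toSet))
    · rintro _ ⟨w, hw, rfl⟩
      rw [hWdef] at hw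
      obtain ⟨α, g, hg, rfl⟩ := hw
      have hw : mon T α • g ∈ ℳ (Finsupp.weight (fun t : T => d t) α + e g) :=
        SetLike.GradedSMul.smul_mem (mon_mem 𝒜 T d hd α) (he g hg)
      by_cases hk : Finsupp.weight (fun t : T => d t) α + e g = n
      · right
        refine ⟨(α, g), ⟨?_, hg⟩, rfl⟩
        change Finsupp.weight (fun t : T => d t) α ≤ n
        omega
      · left
        exact hπ_ne _ _ hw hk
  exact ⟨⟨hfin.toFinset, by simpa using h1⟩⟩

end Groth.Agent.S9617
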