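import Groth.Statements.S9620
import Mathlib

set_option autoImplicit false
universe u
open CAlg

namespace Groth.Agent.S9620

/-- For a ring R and a point p of Spec R, the connected component of p is the zero locus of the ideal I
generated by the idempotents of R contained in p, and every idempotent e of R satisfies e ∈ I or 1 -
e ∈ I (e maps to 0 or 1 in R/I). -/
theorem result {R : Type u} [CommRing R] (p : PrimeSpectrum R) :
    connectedComponent p = PrimeSpectrum.zeroLocus {e : R | IsIdempotentElem e ∧ e ∈ p.asIdeal} ∧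
      ∀ e : R, IsIdempotentElem e → (e ∈ Ideal.span {e : R | IsIdempotentElem e ∧ e ∈ p.asIdeal} ∨ 1 - e ∈ Ideal.span {e : R | IsIdempotentElem e ∧ e ∈ p.asIdeal}) := by
  classical
  set E : Set R := {e : R | IsIdempotentElem e ∧ e ∈ p.asIdeal} with hE
  set I : Ideal R := Ideal.span E with hI
  have hEI : ∀ e ∈ E, e ∈ I := fun e he => Ideal.subset_span he
  have hdich : ∀ e : R, IsIdempotentElem e → e ∈ E ∨ 1 - e ∈ E := by
    intro e he
    have h0 : e * (1 - e) = 0 := by
      rw [mul_sub, mul_one, he.eq, sub_self]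
    have : e * (1 - e) ∈ p.asIdeal := by rw [h0]; exact Ideal.zero_mem _
    rcases p.2.mem_or_mem this with h | h
    · exact Or.inl ⟨he, h⟩
    · exact Or.inr ⟨he.one_sub, h⟩
  -- single idempotent
  have hsingle : ∀ y ∈ I, ∃ e ∈ E, y ∈ Ideal.span {e} := by
    intro y hy
    induction hy using Submodule.span_induction with
    | mem y hy => exact ⟨y, hy, Ideal.subset_span rfl⟩
    | zero => exact ⟨0, ⟨IsIdempotentElem.zero, Ideal.zero_mem _⟩, Ideal.zero_mem _⟩
    | add y z _ _ hy hz =>
      obtain ⟨e1, he1, hy1⟩ := hy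
      obtain ⟨e2, he2, hz2⟩ := hz
      have hidem : IsIdempotentElem (1 - (1 - e1) * (1 - e2)) :=
        (he1.1.one_sub.mul he2.1.one_sub).one_sub
      have hmem : 1 - (1 - e1) * (1 - e2) ∈ p.asIdeal := by
        have : 1 - (1 - e1) * (1 - e2) = e1 + e2 * (1 - e1) := by ring
        rw [this]
        exact Ideal.add_mem _ he1.2 (Ideal.mul_mem_right _ _ he2.2)
      refine ⟨1 - (1 - e1) * (1 - e2), ⟨hidem, hmem⟩, ?_⟩
      have h1 : e1 ∈ Ideal.span {1 - (1 - e1) * (1 - e2)} := by
        rw [Ideal.mem_span_singleton]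
        refine ⟨e1, ?_⟩
        have := he1.1.eq
        linear_combination (e2 - 1) * this
      have h2 : e2 ∈ Ideal.span {1 - (1 - e1) * (1 - e2)} := by
        rw [Ideal.mem_span_singleton]
        refine ⟨e2, ?_⟩
        have := he2.1.eq
        linear_combination (e1 - 1) * this
      apply Ideal.add_mem
      · exact (Ideal.span_singleton_le_iff_mem _).mpr h1 hy1
      · exact (Ideal.span_singleton_le_iff_mem _).mpr h2 hz2
    | smul a y _ hy =>
      obtain ⟨e, he, hy⟩ := hy
      exact ⟨e, he, Ideal.mul_mem_left _ _ hy⟩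
  have hlift : ∀ x : R, x * x - x ∈ I → ∃ x' : R, IsIdempotentElem x' ∧ x' - x ∈ I := by
    intro x hx
    obtain ⟨e, he, hxe⟩ := hsingle _ hx
    obtain ⟨r, hr⟩ := Ideal.mem_span_singleton'.mp hxe
    refine ⟨x * (1 - e), ?_, ?_⟩
    · show x * (1 - e) * (x * (1 - e)) = x * (1 - e)
      have h1 := he.1.eq
      linear_combination (1 - e) * hr.symm + (x * x - r) * h1 
    · have : x * (1 - e) - x = -x * e := by ring
      rw [this]
      exact Ideal.mul_mem_left _ _ (hEI e he)
  haveI hpre : PreconnectedSpace (PrimeSpectrum (R ⧸ I)) := by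
    rw [preconnectedSpace_iff_clopen]
    intro s hs
    obtain ⟨ebar, hebar, rfl⟩ := PrimeSpectrum.isClopen_iff.mp hs
    obtain ⟨x, rfl⟩ := Ideal.Quotient.mk_surjective ebar
    have hx : x * x - x ∈ I := by
      rw [← Ideal.Quotient.eq_zero_iff_mem, map_sub, map_mul, hebar.eq, sub_self]
    obtain ⟨x', hx'idem, hx'⟩ := hlift x hx
    have hmk : Ideal.Quotient.mk I x' = Ideal.Quotient.mk I x := by
      rw [Ideal.Quotient.eq]; exact hx'
    rcases hdich x' hx'idem with h | h
    · left
      have : Ideal.Quotient.mk I x = 0 := by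
        rw [← hmk, Ideal.Quotient.eq_zero_iff_mem]; exact hEI _ h
      rw [this]
      simp
    · right
      have : Ideal.Quotient.mk I x = 1 := by
        rw [← hmk]
        have h1 : Ideal.Quotient.mk I (1 - x') = 0 := by
          rw [Ideal.Quotient.eq_zero_iff_mem]; exact hEI _ h
        rw [map_sub, map_one, sub_eq_zero] at h1
        exact h1.symm
      rw [this]
      simp
  have hzl : PrimeSpectrum.zeroLocus E = PrimeSpectrum.zeroLocus (I : Set R) := by
    rw [hI, PrimeSpectrum.zeroLocus_span]
  refine ⟨?_, ?_⟩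
  · apply Set.Subset.antisymm
    · intro q hq
      rw [PrimeSpectrum.mem_zeroLocus]
      intro e he
      have hclopen : IsClopen (PrimeSpectrum.zeroLocus ({e} : Set R)) :=
        PrimeSpectrum.isClopen_iff_zeroLocus.mpr ⟨e, he.1, rfl⟩
      have hp : p ∈ PrimeSpectrum.zeroLocus ({e} : Set R) := by
        rw [PrimeSpectrum.mem_zeroLocus, Set.singleton_subset_iff]; exact he.2
      have := hclopen.connectedComponent_subset hp hq
      rw [PrimeSpectrum.mem_zeroLocus, Set.singleton_subset_iff] at this
      exact this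
    · rw [hzl]
      apply IsPreconnected.subset_connectedComponent
      · have hr := range_comap_of_surjective (R ⧸ I) (Ideal.Quotient.mk I)
          Ideal.Quotient.mk_surjective
        rw [Ideal.mk_ker] at hr
        rw [← hr]
        exact isPreconnected_range (PrimeSpectrum.continuous_comap _)
      · rw [PrimeSpectrum.mem_zeroLocus]
        intro y hy
        have : I ≤ p.asIdeal := Ideal.span_le.mpr fun e he => he.2
        exact this hy
  · intro e he
    rcases hdich e he with h | h
    · exact Or.inl (hEI _ h)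
    · exact Or.inr (hEI _ h)

end Groth.Agent.S9620
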