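import Groth.Statements.S9618
import Mathlib
import Groth.Agent.S9620

set_option autoImplicit false
universe u
open CAlg

namespace Groth.Agent.S9618

/-- For a ring R and a subset T of Spec R the following are equivalent: (1) T is closed and contains the
connected component of each of its points; (2) T can be written as an intersection of subsets of
Spec R that are both open and closed; (3) T is the common zero locus of some set of idempotent
elements of R (equivalently, of the ideal they generate). -/
theorem result {R : Type u} [CommRing R] (T : Set (PrimeSpectrum R)) :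
    [IsClosed T ∧ ∀ x ∈ T, connectedComponent x ⊆ T,
      ∃ U : Set (Set (PrimeSpectrum R)), (∀ u ∈ U, IsClopen u) ∧ T = ⋂₀ U,
      ∃ E : Set R, (∀ e ∈ E, IsIdempotentElem e) ∧ T = PrimeSpectrum.zeroLocus E].TFAE := by
  classical
  have hclopen : ∀ e : R, IsIdempotentElem e → IsClopen (PrimeSpectrum.zeroLocus ({e} : Set R)) :=
    fun e he => PrimeSpectrum.isClopen_iff_zeroLocus.mpr ⟨e, he, rfl⟩
  tfae_have 3 → 2 := by
    rintro ⟨E, hE, rfl⟩
    refine ⟨(fun e => PrimeSpectrum.zeroLocus ({e} : Set R)) '' E, ?_, ?_⟩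
    · rintro _ ⟨e, he, rfl⟩
      exact hclopen e (hE e he)
    · ext q
      simp only [PrimeSpectrum.mem_zeroLocus, Set.sInter_image, Set.mem_iInter,
        Set.singleton_subset_iff]
      exact Iff.rfl
  tfae_have 2 → 1 := by
    rintro ⟨U, hU, rfl⟩
    refine ⟨isClosed_sInter fun u hu => (hU u hu).1, ?_⟩
    intro x hx
    apply Set.subset_sInter
    intro u hu
    exact (hU u hu).connectedComponent_subset (hx u hu)
  tfae_have 1 → 3 := by
    rintro ⟨hT, hcc⟩
    refine ⟨{e : R | IsIdempotentElem e ∧ T ⊆ PrimeSpectrum.zeroLocus ({e} : Set R)},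
      fun e he => he.1, ?_⟩
    apply Set.Subset.antisymm
    · intro x hx
      rw [PrimeSpectrum.mem_zeroLocus]
      intro e he
      have := he.2 hx
      rw [PrimeSpectrum.mem_zeroLocus, Set.singleton_subset_iff] at this
      exact this
    · intro q hq
      by_contra hqT
      -- for each x ∈ T an idempotent in x not in q
      have hex : ∀ x ∈ T, ∃ e : R, IsIdempotentElem e ∧ e ∈ x.asIdeal ∧ e ∉ q.asIdeal := by
        intro x hx
        have hq' : q ∉ connectedComponent x := fun h => hqT (hcc x hx h)
        rw [(Groth.Agent.S9620.result x).1, PrimeSpectrum.mem_zeroLocus, Set.not_subset] at hq'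
        obtain ⟨e, he, heq⟩ := hq'
        exact ⟨e, he.1, he.2, heq⟩
      choose! ef hef using hex
      have hTc : IsCompact T := hT.isCompact
      obtain ⟨t', ht'T, ht'fin, ht'cover⟩ := hTc.elim_finite_subcover_image (b := T)
        (c := fun x => PrimeSpectrum.zeroLocus ({ef x} : Set R))
        (fun x hx => (hclopen _ (hef x hx).1).2)
        (fun x hx => Set.mem_biUnion hx (by
          rw [PrimeSpectrum.mem_zeroLocus, Set.singleton_subset_iff]; exact (hef x hx).2.1))
      set t := ht'fin.toFinset with htdef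
      have htT : ∀ {x}, x ∈ t → x ∈ T := fun {x} hx => ht'T ((Set.Finite.mem_toFinset ht'fin).mp hx)
      have htcover : T ⊆ ⋃ i ∈ t, PrimeSpectrum.zeroLocus ({ef i} : Set R) := by
        intro y hy
        obtain ⟨x, hx, hyx⟩ := Set.mem_iUnion₂.mp (ht'cover hy)
        exact Set.mem_iUnion₂.mpr ⟨x, (Set.Finite.mem_toFinset ht'fin).mpr hx, hyx⟩
      have hidem : IsIdempotentElem (∏ x ∈ t, ef x) := by
        show (∏ x ∈ t, ef x) * (∏ x ∈ t, ef x) = ∏ x ∈ t, ef x
        rw [← Finset.prod_mul_distrib]
        apply Finset.prod_congr rfl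
        intro x hx
        exact (hef x (htT hx)).1.eq
      have hsub : T ⊆ PrimeSpectrum.zeroLocus ({∏ x ∈ t, ef x} : Set R) := by
        intro y hy
        obtain ⟨x, hx, hyx⟩ := Set.mem_iUnion₂.mp (htcover hy)
        rw [PrimeSpectrum.mem_zeroLocus, Set.singleton_subset_iff] at hyx ⊢
        exact Ideal.IsPrime.prod_mem_iff.mpr ⟨x, hx, hyx⟩ |> fun h => h
      have hmemq : (∏ x ∈ t, ef x) ∈ q.asIdeal := by
        have := hq
        rw [PrimeSpectrum.mem_zeroLocus] at this
        exact this ⟨hidem, hsub⟩
      obtain ⟨x, hx, hxq⟩ := (Ideal.IsPrime.prod_mem_iff (hp := q.2)).mp hmemq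
      exact (hef x (htT hx)).2.2 hxq
  tfae_finish

end Groth.Agent.S9618
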