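import Groth.Statements.S9621
-- import your own Groth.Agent.* helpers here

set_option autoImplicit false
universe u
open CAlg

namespace Groth.Agent.S9621

theorem exists_notMem_mul_pow_eq_zero {R : Type u} [CommRing R] {p : Ideal R}
    (hp : p ∈ minimalPrimes R) {x : R} (hx : x ∈ p) :
    ∃ s ∉ p, ∃ n : ℕ, s * x ^ n = 0 := by
  classical
  have hpp : p.IsPrime := hp.1.1
  let T : Submonoid R := p.primeCompl ⊔ Submonoid.powers x
  by_contra hcon
  have hdisj : Disjoint ((⊥ : Ideal R) : Set R) (T : Set R) := by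
    rw [Set.disjoint_left]
    intro y hyI hyT
    obtain ⟨s, hs, t, ⟨n, rfl⟩, rfl⟩ := Submonoid.mem_sup.mp hyT
    exact hcon ⟨s, hs, n, by simpa using hyI⟩
  obtain ⟨q, hq, hIq, hqT⟩ := Ideal.exists_le_prime_disjoint ⊥ T hdisj
  have hqp : q ≤ p := by
    intro y hy
    by_contra hyp
    exact Set.disjoint_left.mp hqT hy ((le_sup_left : p.primeCompl ≤ T) hyp)
  have hpq : p ≤ q := hp.2 ⟨hq, hIq⟩ hqp
  exact Set.disjoint_left.mp hqT (hpq hx)
    ((le_sup_right : Submonoid.powers x ≤ T) (Submonoid.mem_powers x))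


/-- Let R be a ring, p a minimal prime of R and W a quasi-compact open subset of Spec R not containing
p. Then there is an f ∈ R, f ∉ p, whose basic open D(f) is disjoint from W. -/
theorem result {R : Type u} [CommRing R] (p : PrimeSpectrum R) (hp : p.asIdeal ∈ minimalPrimes R) (W : Set (PrimeSpectrum R)) (hWo : IsOpen W) (hWc : IsCompact W) (hpW : p ∉ W) :
    ∃ f : R, f ∉ p.asIdeal ∧ Disjoint (PrimeSpectrum.basicOpen f : Set (PrimeSpectrum R)) W := by
  classical
  obtain ⟨t, ht⟩ := PrimeSpectrum.isCompact_isOpen_iff.mp ⟨hWc, hWo⟩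
  have hpp : p.asIdeal.IsPrime := p.isPrime
  have htp : ∀ g ∈ t, g ∈ p.asIdeal := by
    intro g hg
    by_contra hgp
    apply hpW
    rw [← ht]
    intro hpz
    exact hgp (hpz (by simpa using hg))
  choose! s hs n hn using fun g (hg : g ∈ t) => exists_notMem_mul_pow_eq_zero hp (htp g hg)
  refine ⟨∏ g ∈ t, s g, ?_, ?_⟩
  · intro hmem
    obtain ⟨g, hg, hsg⟩ := Ideal.IsPrime.prod_mem_iff.mp hmem
    exact hs g hg hsg
  · rw [Set.disjoint_left]
    intro q hqf hqW
    rw [← ht] at hqW
    have hqf' : (∏ g ∈ t, s g) ∉ q.asIdeal := hqf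
    have : ∃ g ∈ t, g ∉ q.asIdeal := by
      by_contra hcon
      simp only [not_exists, not_and, not_not] at hcon
      apply hqW
      intro g hg
      exact hcon g (by simpa using hg)
    obtain ⟨g, hg, hgq⟩ := this
    have h0 : s g * g ^ n g ∈ q.asIdeal := by rw [hn g hg]; exact zero_mem _
    have hsq : s g ∈ q.asIdeal := by
      rcases q.isPrime.mem_or_mem h0 with h | h
      · exact h
      · exact absurd (q.isPrime.mem_of_pow_mem _ h) hgq
    apply hqf'
    exact Ideal.mem_of_dvd _ (Finset.dvd_prod_of_mem s hg) hsq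

end Groth.Agent.S9621
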