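import Groth.Statements.S9622
import Mathlib.RingTheory.Finiteness.NilpotentKer
import Mathlib.RingTheory.KrullDimension.Zero
import Mathlib.RingTheory.HopkinsLevitzki
import Mathlib.RingTheory.Adjoin.FG
-- import your own Groth.Agent.* helpers here

set_option autoImplicit false
universe u
open CAlg

namespace Groth.Agent.S9622

open IsLocalRing in
theorem finite_of_finite_quotient {R S : Type u} [CommRing R] [CommRing S] [Algebra R S]
    [IsArtinianRing S] [IsLocalRing S] (h : Module.Finite R (S ⧸ maximalIdeal S)) :
    Module.Finite R S := by
  haveI : Ring.KrullDimLE 0 S := inferInstance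
  refine Module.finite_of_surjective_of_ker_le_nilradical
    (Ideal.Quotient.mkₐ R (maximalIdeal S)) Ideal.Quotient.mk_surjective ?_ ?_
  · refine Ideal.mk_ker.trans_le ?_
    rw [← Ring.KrullDimLE.nilradical_eq_maximalIdeal]
  · rw [← RingHom.ker_coe_toRingHom, Ideal.Quotient.mkₐ_ker]
    exact IsNoetherian.noetherian _


/-- Let R → S be a ring map whose target S is a local Artinian ring, and write m for the maximal ideal
of S. Then S is a finite R-module exactly when S/m is, and S is an R-algebra of finite type exactly
when S/m is. -/
theorem result {R S : Type u} [CommRing R] [CommRing S] [Algebra R S] [IsArtinianRing S] [IsLocalRing S] :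
    (Module.Finite R S ↔ Module.Finite R (S ⧸ IsLocalRing.maximalIdeal S)) ∧
      (Algebra.FiniteType R S ↔ Algebra.FiniteType R (S ⧸ IsLocalRing.maximalIdeal S)) := by
  classical
  constructor
  · constructor
    · intro h
      exact Module.Finite.of_surjective (Ideal.Quotient.mkₐ R (IsLocalRing.maximalIdeal S)).toLinearMap
        Ideal.Quotient.mk_surjective
    · exact finite_of_finite_quotient
  · constructor
    · intro h
      exact Algebra.FiniteType.of_surjective (Ideal.Quotient.mkₐ R (IsLocalRing.maximalIdeal S))
        Ideal.Quotient.mk_surjective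
    · intro h
      obtain ⟨t, ht⟩ := h.out
      -- lift generators
      have hlift : ∀ x : S ⧸ IsLocalRing.maximalIdeal S, ∃ y : S, Ideal.Quotient.mk _ y = x :=
        fun x => Ideal.Quotient.mk_surjective x
      choose lift hlift' using hlift
      let s : Finset S := t.image lift
      let R'' : Subalgebra R S := Algebra.adjoin R (s : Set S)
      haveI hft : Algebra.FiniteType R R'' :=
        (Subalgebra.fg_iff_finiteType R'').mp (Subalgebra.fg_adjoin_finset s)
      -- the map R'' → S/m is surjective
      let φ : R'' →ₐ[R] S ⧸ IsLocalRing.maximalIdeal S :=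
        (Ideal.Quotient.mkₐ R (IsLocalRing.maximalIdeal S)).comp R''.val
      have hφ : Function.Surjective φ := by
        rw [← AlgHom.range_eq_top, AlgHom.range_comp, Subalgebra.range_val]
        show Subalgebra.map _ (Algebra.adjoin R (s : Set S)) = ⊤
        rw [AlgHom.map_adjoin, ← ht]
        congr 1
        ext x
        simp only [s, Finset.coe_image, Set.mem_image, Finset.mem_coe, exists_exists_and_eq_and,
          Ideal.Quotient.mkₐ_eq_mk, hlift']
        simp
      haveI : Module.Finite R'' (S ⧸ IsLocalRing.maximalIdeal S) :=
        Module.Finite.of_surjective (Algebra.linearMap R'' (S ⧸ IsLocalRing.maximalIdeal S))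
          (fun x => by
            obtain ⟨y, hy⟩ := hφ x
            exact ⟨y, hy⟩)
      haveI : Module.Finite R'' S := finite_of_finite_quotient (R := R'') inferInstance
      exact Algebra.FiniteType.trans hft inferInstance

end Groth.Agent.S9622
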