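import Groth.Statements.S9623
import Mathlib
import Groth.Agent.Lib.Helper14Idem

set_option autoImplicit false
universe u
open CAlg

namespace Groth.Agent.S9623

open Groth.Agent.Lib.Helper14Idem

open TensorProduct in
/-- Let k be a separably closed field and R, S two k-algebras with connected (nonempty) spectra. Then
Spec(R ⊗_k S) is connected. -/
theorem result {k R S : Type u} [Field k] [IsSepClosed k] [CommRing R] [CommRing S] [Algebra k R] [Algebra k S]
    [ConnectedSpace (PrimeSpectrum R)] [ConnectedSpace (PrimeSpectrum S)] :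
    ConnectedSpace (PrimeSpectrum (R ⊗[k] S)) := by
  haveI : Nontrivial R := (PrimeSpectrum.nonempty_iff_nontrivial).1 ConnectedSpace.toNonempty
  haveI : Nontrivial S := (PrimeSpectrum.nonempty_iff_nontrivial).1 ConnectedSpace.toNonempty
  haveI : Nontrivial (R ⊗[k] S) :=
    (Algebra.TensorProduct.includeLeft_injective (S := k) (A := R) (algebraMap k S).injective).nontrivial
  apply connected_of_idem_trivial
  intro x hx
  obtain ⟨R₀, hfg, x₀, hx₀⟩ := exists_fg_subalgebra x
  haveI : Algebra.FiniteType k R₀ := (Subalgebra.fg_iff_finiteType _).mp hfg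
  have hinj := map_val_injective (S := S) R₀
  have hx₀id : IsIdempotentElem x₀ := hinj (by rw [map_mul, hx₀]; exact hx)
  obtain ⟨ε, hε, hxε⟩ := exists_idem_of_forall_maximal x₀ hx₀id (fun m hm => by
    letI : Field (R₀ ⧸ m) := Ideal.Quotient.field m
    haveI : Module.Finite k (R₀ ⧸ m) := finite_of_finite_type_of_isJacobsonRing k (R₀ ⧸ m)
    haveI : Algebra.IsAlgebraic k (R₀ ⧸ m) := Algebra.IsAlgebraic.of_finite _ _
    exact idem_trivial_tensor_of_purelyInseparable (fun e he => idem_trivial_of_connected he) _
      (hx₀id.map _))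
  have hεR : IsIdempotentElem (ε : R) := hε.map R₀.val
  rcases idem_trivial_of_connected hεR with h | h
  · left
    have h0 : ε = 0 := Subtype.ext h
    rw [← hx₀, hxε, h0, TensorProduct.zero_tmul, map_zero]
  · right
    have h1 : ε = 1 := Subtype.ext h
    rw [← hx₀, hxε, h1, ← Algebra.TensorProduct.one_def, map_one]


end Groth.Agent.S9623
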