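import Groth.Statements.S9624
import Mathlib
import Groth.Agent.Lib.Helper14Idem

set_option autoImplicit false
universe u
open CAlg

namespace Groth.Agent.S9624

open Groth.Agent.Lib.Helper14Idem

open TensorProduct in
/-- Let k be a field, S a geometrically connected k-algebra (the spectrum of k' ⊗_k S is connected for
every field extension k'/k) and R any k-algebra. Then the map R → R ⊗_k S induces a bijection on
idempotents: each idempotent of R ⊗_k S comes from exactly one idempotent of R. Here the test fields
range over field extensions in the universe of k; this is equivalent to the unrestricted notion,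
since an algebraic closure of k suffices as a test. -/
theorem result {k R S : Type u} [Field k] [CommRing R] [CommRing S] [Algebra k R] [Algebra k S]
    (hS : ∀ (k' : Type u) [Field k'] [Algebra k k'], ConnectedSpace (PrimeSpectrum (k' ⊗[k] S)))
    (x : R ⊗[k] S) (hx : IsIdempotentElem x) :
    ∃! e : R, IsIdempotentElem e ∧ algebraMap R (R ⊗[k] S) e = x := by
  haveI : Nontrivial S := by
    haveI := hS k
    haveI : Nontrivial (k ⊗[k] S) :=
      (PrimeSpectrum.nonempty_iff_nontrivial).1 ConnectedSpace.toNonempty
    exact (Algebra.TensorProduct.lid k S).injective.nontrivial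
  have hincl : Function.Injective (algebraMap R (R ⊗[k] S)) := by
    have := Algebra.TensorProduct.includeLeft_injective (S := k) (A := R) (algebraMap k S).injective
    intro a b hab
    apply this
    simpa [Algebra.TensorProduct.algebraMap_apply] using hab
  obtain ⟨R₀, hfg, x₀, hx₀⟩ := exists_fg_subalgebra x
  haveI : Algebra.FiniteType k R₀ := (Subalgebra.fg_iff_finiteType _).mp hfg
  have hinj := map_val_injective (S := S) R₀
  have hx₀id : IsIdempotentElem x₀ := hinj (by rw [map_mul, hx₀]; exact hx)
  obtain ⟨ε, hε, hxε⟩ := exists_idem_of_forall_maximal x₀ hx₀id (fun m hm => by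
    letI : Field (R₀ ⧸ m) := Ideal.Quotient.field m
    haveI := hS (R₀ ⧸ m)
    exact idem_trivial_of_connected (hx₀id.map _))
  have hεR : IsIdempotentElem (ε : R) := hε.map R₀.val
  have hεx : algebraMap R (R ⊗[k] S) (ε : R) = x := by
    rw [← hx₀, hxε, Algebra.TensorProduct.algebraMap_apply]
    simp
  refine ⟨ε, ⟨hεR, hεx⟩, ?_⟩
  rintro e' ⟨-, he'⟩
  exact hincl (he'.trans hεx.symm)


end Groth.Agent.S9624
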