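import Groth.Statements.S9625
import Mathlib.RingTheory.Flat.Basic
import Mathlib.LinearAlgebra.Basis.VectorSpace
-- import your own Groth.Agent.* helpers here

set_option autoImplicit false
universe u
open CAlg

namespace Groth.Agent.S9625

open TensorProduct in
/-- Let k be a field and S a k-algebra such that Spec(k' ⊗_k S) is irreducible for every field extension
k'/k. Then every k-subalgebra of S has the same property. Here the test fields range over field
extensions in the universe of k; this is equivalent to the unrestricted notion, since an algebraic
closure of k suffices as a test. -/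
theorem result {k S : Type u} [Field k] [CommRing S] [Algebra k S]
    (hS : ∀ (k' : Type u) [Field k'] [Algebra k k'], IrreducibleSpace (PrimeSpectrum (k' ⊗[k] S))) (S' : Subalgebra k S) :
    ∀ (k' : Type u) [Field k'] [Algebra k k'], IrreducibleSpace (PrimeSpectrum (k' ⊗[k] S')) := by
  classical
  intro k' _ _
  have hirr := hS k'
  rw [PrimeSpectrum.irreducibleSpace_iff_isPrime_nilradical] at hirr ⊢
  let φ : k' ⊗[k] S' →ₐ[k] k' ⊗[k] S :=
    Algebra.TensorProduct.map (AlgHom.id k k') S'.val
  have hφ : Function.Injective φ := by
    have h1 : Function.Injective (S'.val.toLinearMap) := Subtype.val_injective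
    have h2 := Module.Flat.lTensor_preserves_injective_linearMap (M := k')
      (S'.val.toLinearMap) h1
    intro x y hxy
    apply h2
    have : ∀ z, (LinearMap.lTensor k' S'.val.toLinearMap) z = φ z := by
      intro z
      induction z using TensorProduct.induction_on with
      | zero => simp
      | tmul a b => simp [φ]
      | add a b ha hb => rw [map_add, map_add, ha, hb]
    rw [this, this, hxy]
  have hnil : nilradical (k' ⊗[k] S') = (nilradical (k' ⊗[k] S)).comap φ.toRingHom := by
    ext x
    rw [Ideal.mem_comap, mem_nilradical, mem_nilradical]
    exact (IsNilpotent.map_iff hφ).symm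
  rw [hnil]
  exact Ideal.IsPrime.comap _

end Groth.Agent.S9625
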