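import Groth.Statements.S9626
import Groth.Agent.Lib.Helper14GeomIrr

set_option autoImplicit false
universe u
open CAlg

namespace Groth.Agent.S9626
open Groth.Agent.Lib.Helper14.GeomIrr

open TensorProduct in
/-- Let k be a field, S a k-algebra with Spec(k' ⊗_k S) irreducible for every field extension k'/k, and
R any k-algebra. Then Spec(R ⊗_k S) → Spec(R) induces a bijection on irreducible components: taking
inverse images along R → R ⊗_k S maps the set of minimal primes of R ⊗_k S bijectively onto the set
of minimal primes of R. Here the test fields range over field extensions in the universe of k; this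
is equivalent to the unrestricted notion, since an algebraic closure of k suffices as a test. -/
theorem result {k R S : Type u} [Field k] [CommRing R] [CommRing S] [Algebra k R] [Algebra k S]
    (hS : ∀ (k' : Type u) [Field k'] [Algebra k k'], IrreducibleSpace (PrimeSpectrum (k' ⊗[k] S))) :
    Set.BijOn (Ideal.comap (algebraMap R (R ⊗[k] S))) (minimalPrimes (R ⊗[k] S)) (minimalPrimes R) := by
  simp only [PrimeSpectrum.irreducibleSpace_iff_isPrime_nilradical] at hS
  exact bijOn_comap_minimalPrimes hS

end Groth.Agent.S9626
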