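import Groth.Statements.S9633
import Mathlib
-- import your own Groth.Agent.* helpers here

set_option autoImplicit false
universe u
open CAlg

namespace Groth.Agent.S9633

/-- For a ring R with spectrum X the following are equivalent: (1) X is profinite, i.e. compact,
Hausdorff and totally disconnected; (2) X is Hausdorff; (3) X is totally disconnected; (4) every
quasi-compact open subset of X is closed; (5) there are no nontrivial inclusions among prime ideals
of R; (6) every prime ideal of R is maximal; (7) every prime ideal of R is a minimal prime; (8)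
every standard open D(f) is closed. -/
theorem result {R : Type u} [CommRing R] :
    [CompactSpace (PrimeSpectrum R) ∧ T2Space (PrimeSpectrum R) ∧ TotallyDisconnectedSpace (PrimeSpectrum R),
      T2Space (PrimeSpectrum R),
      TotallyDisconnectedSpace (PrimeSpectrum R),
      ∀ W : Set (PrimeSpectrum R), IsOpen W → IsCompact W → IsClosed W,
      ∀ p q : PrimeSpectrum R, p ≤ q → p = q,
      ∀ p : Ideal R, p.IsPrime → p.IsMaximal,
      ∀ p : Ideal R, p.IsPrime → p ∈ minimalPrimes R,
      ∀ f : R, IsClosed (PrimeSpectrum.basicOpen f : Set (PrimeSpectrum R))].TFAE := by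
  classical
  tfae_have 1 → 2 := fun h => h.2.1
  tfae_have 1 → 3 := fun h => h.2.2
  tfae_have 2 → 5 := by
    intro h p q hpq
    exact ((PrimeSpectrum.le_iff_specializes p q).mp hpq).eq
  tfae_have 3 → 5 := by
    intro h p q hpq
    have hq : q ∈ closure ({p} : Set (PrimeSpectrum R)) :=
      (PrimeSpectrum.le_iff_mem_closure p q).mp hpq
    have hpre : IsPreconnected (closure ({p} : Set (PrimeSpectrum R))) :=
      isPreconnected_singleton.closure
    exact hpre.subsingleton (subset_closure (Set.mem_singleton p)) hq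
  tfae_have 5 → 6 := by
    intro h p hp
    obtain ⟨m, hm, hpm⟩ := Ideal.exists_le_maximal p hp.ne_top
    have := h ⟨p, hp⟩ ⟨m, hm.isPrime⟩ hpm
    have h2 : p = m := congrArg PrimeSpectrum.asIdeal this
    rw [h2]
    exact hm
  tfae_have 6 → 7 := by
    intro h p hp
    refine ⟨⟨hp, bot_le⟩, fun q hq hqp => ?_⟩
    have hqm := h q hq.1
    exact (hqm.eq_of_le hp.ne_top hqp).ge
  tfae_have 7 → 5 := by
    intro h p q hpq
    have hq := h q.asIdeal q.isPrime
    have := hq.2 ⟨p.isPrime, bot_le⟩ hpq
    exact le_antisymm hpq this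
  tfae_have 5 → 8 := by
    intro h f
    apply PrimeSpectrum.isClosed_of_stableUnderSpecialization_of_isConstructible _
      PrimeSpectrum.isConstructible_basicOpen
    intro x y hxy hx
    have := h x y ((PrimeSpectrum.le_iff_specializes x y).mpr hxy)
    rw [← this]
    exact hx
  tfae_have 8 → 4 := by
    intro h W hWo hWc
    obtain ⟨t, rfl⟩ := PrimeSpectrum.isCompact_isOpen_iff.mp ⟨hWc, hWo⟩
    have : (PrimeSpectrum.zeroLocus (t : Set R))ᶜ = ⋃ f ∈ t, (PrimeSpectrum.basicOpen f : Set (PrimeSpectrum R)) := by
      ext x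
      simp only [Set.mem_compl_iff, PrimeSpectrum.mem_zeroLocus, Set.mem_iUnion, SetLike.mem_coe,
        PrimeSpectrum.mem_basicOpen, Set.not_subset]
      constructor
      · rintro ⟨f, hf, hfx⟩
        exact ⟨f, hf, hfx⟩
      · rintro ⟨f, hf, hfx⟩
        exact ⟨f, hf, hfx⟩
    rw [this]
    exact Set.Finite.isClosed_biUnion t.finite_toSet (fun f _ => h f)
  tfae_have 4 → 8 := by
    intro h f
    exact h _ (PrimeSpectrum.basicOpen f).2 (PrimeSpectrum.isCompact_basicOpen f)
  tfae_have 8 → 1 := by
    intro h
    have hts : TotallySeparatedSpace (PrimeSpectrum R) := by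
      rw [totallySeparatedSpace_iff_exists_isClopen]
      intro x y hxy
      have hcl : ∀ f : R, IsClopen (PrimeSpectrum.basicOpen f : Set (PrimeSpectrum R)) :=
        fun f => ⟨h f, (PrimeSpectrum.basicOpen f).2⟩
      by_cases hle : x ≤ y
      · have hnle : ¬ y ≤ x := fun h' => hxy (le_antisymm hle h')
        obtain ⟨f, hfy, hfx⟩ := Set.not_subset.mp hnle
        exact ⟨PrimeSpectrum.basicOpen f, hcl f, hfx, fun h' => h' hfy⟩
      · obtain ⟨f, hfx, hfy⟩ := Set.not_subset.mp hle
        refine ⟨(PrimeSpectrum.basicOpen f : Set (PrimeSpectrum R))ᶜ, (hcl f).compl, fun h' => h' hfx, ?_⟩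
        rw [compl_compl]
        exact hfy
    exact ⟨inferInstance, inferInstance, inferInstance⟩
  tfae_finish

end Groth.Agent.S9633
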