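import Groth.Statements.S9635
import Groth.Agent.Lib.Helper14GeomRedB
import Groth.Agent.S9634

set_option autoImplicit false
universe u
open CAlg

namespace Groth.Agent.S9635

open TensorProduct in
/-- Let k ⊆ k' be fields with k' separable algebraic over k, and A a k'-algebra. Then A is geometrically
reduced over k (K ⊗_k A reduced for all field extensions K/k) if and only if A is geometrically
reduced over k' (K ⊗_{k'} A reduced for all field extensions K/k'). Here the test fields K range
over field extensions (of k, respectively of k') in the common universe of k and k'; this is
equivalent to the unrestricted notions, since an algebraic closure of the base field suffices as a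
test. -/
theorem result {k k' A : Type u} [Field k] [Field k'] [Algebra k k'] [Algebra.IsSeparable k k'] [CommRing A] [Algebra k' A] [Algebra k A] [IsScalarTower k k' A] :
    (∀ (K : Type u) [Field K] [Algebra k K], IsReduced (K ⊗[k] A)) ↔
      ∀ (K : Type u) [Field K] [Algebra k' K], IsReduced (K ⊗[k'] A) := by
  constructor
  · intro H K _ _
    letI : Algebra k K := ((algebraMap k' K).comp (algebraMap k k')).toAlgebra
    haveI : IsScalarTower k k' K := IsScalarTower.of_algebraMap_eq fun _ => rfl
    haveI h1 : IsReduced (K ⊗[k] A) := H K
    haveI h2 : IsReduced (A ⊗[k] K) :=
      isReduced_of_injective (Algebra.TensorProduct.comm k A K).toRingEquiv.toRingHom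
        (Algebra.TensorProduct.comm k A K).injective
    haveI h3 : IsReduced (A ⊗[k'] K) :=
      Groth.Agent.Lib.Helper14.GeomRed.isReduced_tensor_of_tower K h2
    exact isReduced_of_injective (Algebra.TensorProduct.comm k' K A).toRingEquiv.toRingHom
      (Algebra.TensorProduct.comm k' K A).injective
  · intro H
    have h := (Groth.Agent.S9634.result (k := k) (S := A)).out 0 2
    apply h.mp
    intro K _ _ _ _
    exact Groth.Agent.Lib.Helper14.GeomRed.isReduced_tensor_of_tower_purelyInseparable K H

end Groth.Agent.S9635
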