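import Groth.Statements.S9636
import Mathlib

set_option autoImplicit false
universe u
open CAlg

namespace Groth.Agent.S9636

open TensorProduct in
/-- Let k'/k be a separable algebraic field extension. Then for some multiplicative subset S of k' ⊗_k
k' the multiplication map k' ⊗_k k' → k' is a localization at S: there is a ring isomorphism S⁻¹(k'
⊗_k k') ≅ k' carrying the localization map to the multiplication map. -/
theorem result {k k' : Type u} [Field k] [Field k'] [Algebra k k'] [Algebra.IsSeparable k k'] :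
    ∃ (S : Submonoid (k' ⊗[k] k')) (e : Localization S ≃+* k'), ∀ x : k' ⊗[k] k', e (algebraMap (k' ⊗[k] k') (Localization S) x) = Algebra.TensorProduct.lmul' (S := k') k x := by
  classical
  let μ : k' ⊗[k] k' →ₐ[k] k' := Algebra.TensorProduct.lmul' (S := k') k
  -- for each s an element t with μ t = 1 killing 1 ⊗ s - s ⊗ 1
  have hts : ∀ s : k', ∃ t : k' ⊗[k] k', μ t = 1 ∧
      ((1 : k') ⊗ₜ[k] s - s ⊗ₜ[k] (1 : k')) * t = 0 := by
    intro s
    let L : IntermediateField k k' := IntermediateField.adjoin k {s}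
    have hsL : s ∈ L := IntermediateField.mem_adjoin_simple_self k s
    haveI : FiniteDimensional k L :=
      IntermediateField.adjoin.finiteDimensional (Algebra.IsIntegral.isIntegral s)
    haveI : Algebra.IsSeparable k L := Algebra.isSeparable_tower_bot_of_isSeparable k L k'
    haveI : Algebra.FormallyUnramified k L := Algebra.FormallyUnramified.of_isSeparable k L
    obtain ⟨t, ht1, ht2⟩ :=
      (Algebra.FormallyUnramified.iff_exists_tensorProduct (R := k) (S := L)).mp inferInstance
    let φ : L ⊗[k] L →ₐ[k] k' ⊗[k] k' := Algebra.TensorProduct.map L.val L.val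
    refine ⟨φ t, ?_, ?_⟩
    · have hcomp : μ.comp φ = L.val.comp (Algebra.TensorProduct.lmul' (S := L) k) := by
        apply Algebra.TensorProduct.ext'
        intro a b
        simp [μ, φ]
      have := AlgHom.congr_fun hcomp t
      simp only [AlgHom.comp_apply] at this
      rw [this, ht2, map_one]
    · have h1 := congrArg φ (ht1 ⟨s, hsL⟩)
      rw [map_mul, map_sub, map_zero] at h1
      simpa [φ] using h1
  let S : Submonoid (k' ⊗[k] k') :=
    { carrier := {t | μ t = 1}
      one_mem' := map_one μ
      mul_mem' := fun {a b} ha hb => by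
        show μ (a * b) = 1
        rw [map_mul, ha, hb, mul_one] }
  have hspan : ∀ x ∈ Ideal.span (Set.range fun s : k' => (1 : k') ⊗ₜ[k] s - s ⊗ₜ[k] (1 : k')),
      ∃ t ∈ S, t * x = 0 := by
    intro x hx'
    induction hx' using Submodule.span_induction with
    | mem y hy =>
      obtain ⟨s, rfl⟩ := hy
      obtain ⟨t, ht1, ht2⟩ := hts s
      exact ⟨t, ht1, by rw [mul_comm]; exact ht2⟩
    | zero => exact ⟨1, S.one_mem, mul_zero _⟩
    | add y z _ _ hy hz =>
      obtain ⟨t1, ht1, h1⟩ := hy
      obtain ⟨t2, ht2, h2⟩ := hz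
      refine ⟨t1 * t2, S.mul_mem ht1 ht2, ?_⟩
      rw [mul_add, mul_right_comm, h1, zero_mul, mul_assoc, h2, mul_zero, add_zero]
    | smul a y _ hy =>
      obtain ⟨t, ht, h⟩ := hy
      refine ⟨t, ht, ?_⟩
      rw [smul_eq_mul, mul_left_comm, h, mul_zero]
  have hker : ∀ x : k' ⊗[k] k', μ x = 0 → ∃ t ∈ S, t * x = 0 := by
    intro x hx
    have hx' : x ∈ KaehlerDifferential.ideal k k' := hx
    rw [← KaehlerDifferential.span_range_eq_ideal] at hx'
    exact hspan x hx'
  letI : Algebra (k' ⊗[k] k') k' := μ.toRingHom.toAlgebra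
  haveI : IsLocalization S k' := by
    refine ⟨⟨?_, ?_, ?_⟩⟩
    · rintro ⟨s, hs⟩
      show IsUnit (μ s)
      rw [hs]
      exact isUnit_one
    · intro z
      refine ⟨(z ⊗ₜ[k] 1, 1), ?_⟩
      show z * μ 1 = μ (z ⊗ₜ[k] 1)
      simp [μ]
    · intro x y hxy
      have hxy' : μ x = μ y := hxy
      obtain ⟨t, ht, h⟩ := hker (x - y) (by rw [map_sub, hxy', sub_self])
      refine ⟨⟨t, ht⟩, ?_⟩
      show t * x = t * y
      rw [mul_sub, sub_eq_zero] at h
      exact h
  let e : Localization S ≃ₐ[k' ⊗[k] k'] k' := IsLocalization.algEquiv S (Localization S) k'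
  refine ⟨S, e.toRingEquiv, fun x => ?_⟩
  show e (algebraMap (k' ⊗[k] k') (Localization S) x) = μ x
  rw [e.commutes]
  rfl

end Groth.Agent.S9636
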