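import Groth.Statements.S9637
import Mathlib
-- import your own Groth.Agent.* helpers here

set_option autoImplicit false
universe u
open CAlg

namespace Groth.Agent.S9637

/-- Let R be a local Noetherian ring, I an ideal contained in its maximal ideal, and M a finite
R-module. Then I contains an M-regular element (one acting injectively on M) if and only if no
associated prime of M contains I. -/
theorem result {R : Type u} [CommRing R] [IsNoetherianRing R] [IsLocalRing R] (I : Ideal R) (hI : I ≤ IsLocalRing.maximalIdeal R) (M : Type u) [AddCommGroup M] [Module R M] [Module.Finite R M] :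
    (∃ x ∈ I, IsSMulRegular M x) ↔ ∀ q ∈ associatedPrimes R M, ¬ I ≤ q := by
  classical
  have hfin : (associatedPrimes R M).Finite := associatedPrimes.finite R M
  have hU := biUnion_associatedPrimes_eq_compl_regular R M
  constructor
  · rintro ⟨x, hxI, hx⟩ q hq hIq
    have hxq : x ∈ (⋃ p ∈ associatedPrimes R M, (p : Set R)) :=
      Set.mem_biUnion hq (hIq hxI)
    rw [hU] at hxq
    exact hxq hx
  · intro h
    by_contra hcon
    have hsub : (I : Set R) ⊆ ⋃ p ∈ associatedPrimes R M, (p : Set R) := by
      intro x hx
      rw [hU]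
      intro hreg
      exact hcon ⟨x, hx, hreg⟩
    have hsub' : (I : Set R) ⊆ ⋃ p ∈ (↑hfin.toFinset : Set (Ideal R)), ((fun q : Ideal R => q) p : Set R) := by
      simpa using hsub
    have hp : ∀ i ∈ hfin.toFinset, i ≠ (⊥ : Ideal R) → i ≠ (⊥ : Ideal R) → Ideal.IsPrime ((fun q : Ideal R => q) i) := by
      intro i hi _ _
      exact ((Set.Finite.mem_toFinset hfin).mp hi).isPrime
    obtain ⟨q, hq, hIq⟩ := (Ideal.subset_union_prime (s := hfin.toFinset) (f := fun q : Ideal R => q) ⊥ ⊥ hp).mp hsub'
    exact h q ((Set.Finite.mem_toFinset hfin).mp hq) hIq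

end Groth.Agent.S9637
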