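import Groth.Statements.S9639
import Mathlib
-- import your own Groth.Agent.* helpers here

set_option autoImplicit false
universe u
open CAlg

namespace Groth.Agent.S9639

theorem idem_of_connected {A : Type u} [CommRing A] [ConnectedSpace (PrimeSpectrum A)] (e : A)
    (he : IsIdempotentElem e) : e = 0 ∨ e = 1 := by
  have hpre : PreconnectedSpace (PrimeSpectrum A) := inferInstance
  have hcl : IsClopen (PrimeSpectrum.basicOpen e : Set (PrimeSpectrum A)) :=
    PrimeSpectrum.isClopen_iff.mpr ⟨e, he, rfl⟩
  rcases (preconnectedSpace_iff_clopen.mp hpre) _ hcl with h | h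
  · left
    have : PrimeSpectrum.basicOpen e = ⊥ := TopologicalSpace.Opens.ext h
    rw [PrimeSpectrum.basicOpen_eq_bot_iff] at this
    exact he.eq_zero_of_isNilpotent this
  · right
    have h1 : PrimeSpectrum.basicOpen e = ⊤ := TopologicalSpace.Opens.ext h
    have h2 : PrimeSpectrum.basicOpen (1 - e) = ⊥ := by
      have h3 : PrimeSpectrum.basicOpen ((1 - e) * e) = ⊥ := by
        have : (1 - e) * e = 0 := by
          rw [sub_mul, one_mul, he.eq, sub_self]
        rw [this, PrimeSpectrum.basicOpen_zero]
      rw [PrimeSpectrum.basicOpen_mul, h1, inf_top_eq] at h3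
      exact h3
    rw [PrimeSpectrum.basicOpen_eq_bot_iff] at h2
    have := he.one_sub.eq_zero_of_isNilpotent h2
    exact (sub_eq_zero.mp this).symm


open TensorProduct in
/-- Let k be a field and S a k-algebra such that Spec(k' ⊗_k S) is connected for every field extension
k'/k. Then every k-subalgebra of S has the same property. Here the test fields range over field
extensions in the universe of k; this is equivalent to the unrestricted notion, since an algebraic
closure of k suffices as a test. -/
theorem result {k S : Type u} [Field k] [CommRing S] [Algebra k S]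
    (hS : ∀ (k' : Type u) [Field k'] [Algebra k k'], ConnectedSpace (PrimeSpectrum (k' ⊗[k] S))) (S' : Subalgebra k S) :
    ∀ (k' : Type u) [Field k'] [Algebra k k'], ConnectedSpace (PrimeSpectrum (k' ⊗[k] S')) := by
  classical
  intro k' _ _
  have hconn := hS k'
  let φ : k' ⊗[k] S' →ₐ[k] k' ⊗[k] S :=
    Algebra.TensorProduct.map (AlgHom.id k k') S'.val
  have hφ : Function.Injective φ := by
    have h1 : Function.Injective (S'.val.toLinearMap) := Subtype.val_injective
    have h2 := Module.Flat.lTensor_preserves_injective_linearMap (M := k')
      (S'.val.toLinearMap) h1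
    intro x y hxy
    apply h2
    have : ∀ z, (LinearMap.lTensor k' S'.val.toLinearMap) z = φ z := by
      intro z
      induction z using TensorProduct.induction_on with
      | zero => simp
      | tmul a b => simp [φ]
      | add a b ha hb => rw [map_add, map_add, ha, hb]
    rw [this, this, hxy]
  rw [connectedSpace_iff_clopen]
  constructor
  · have hne : Nonempty (PrimeSpectrum (k' ⊗[k] S)) := inferInstance
    have hnt : Nontrivial (k' ⊗[k] S) := (PrimeSpectrum.nonempty_iff_nontrivial).mp hne
    have : Nontrivial (k' ⊗[k] S') := by
      refine ⟨⟨0, 1, fun h => ?_⟩⟩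
      have := congrArg φ h
      rw [map_zero, map_one] at this
      exact zero_ne_one this
    exact (PrimeSpectrum.nonempty_iff_nontrivial).mpr this
  · intro s hs
    obtain ⟨e, he, rfl⟩ := PrimeSpectrum.isClopen_iff.mp hs
    rcases idem_of_connected (φ e) (he.map φ) with h | h
    · left
      have : e = 0 := hφ (by rw [h, map_zero])
      rw [this, PrimeSpectrum.basicOpen_zero]
      rfl
    · right
      have : e = 1 := hφ (by rw [h, map_one])
      rw [this, PrimeSpectrum.basicOpen_one]
      rfl

end Groth.Agent.S9639
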