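import Groth.Statements.S9641
import Mathlib
-- import your own Groth.Agent.* helpers here

set_option autoImplicit false
universe u
open CAlg

namespace Groth.Agent.S9641

open TensorProduct in
/-- Let k be a field and R, S two k-algebras. If R ⊗_k S is not reduced then there are finitely
generated k-subalgebras R' ⊆ R and S' ⊆ S such that R' ⊗_k S' is not reduced. -/
theorem result {k R S : Type u} [Field k] [CommRing R] [CommRing S] [Algebra k R] [Algebra k S] (h : ¬ IsReduced (R ⊗[k] S)) :
    ∃ (R' : Subalgebra k R) (S' : Subalgebra k S), R'.FG ∧ S'.FG ∧ ¬ IsReduced (R' ⊗[k] S') := by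
  classical
  -- a nonzero nilpotent
  have hz : ∃ z : R ⊗[k] S, IsNilpotent z ∧ z ≠ 0 := by
    by_contra hcon
    apply h
    refine ⟨fun z hz => ?_⟩
    by_contra hne
    exact hcon ⟨z, hz, hne⟩
  obtain ⟨z, ⟨n, hn⟩, hz0⟩ := hz
  obtain ⟨T, hT⟩ := TensorProduct.exists_finset z
  set R' : Subalgebra k R := Algebra.adjoin k ((T.image Prod.fst : Finset R) : Set R) with hR'
  set S' : Subalgebra k S := Algebra.adjoin k ((T.image Prod.snd : Finset S) : Set S) with hS'
  have hr : ∀ i ∈ T, i.1 ∈ R' := fun i hi =>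
    Algebra.subset_adjoin (Finset.mem_coe.mpr (Finset.mem_image_of_mem Prod.fst hi))
  have hs : ∀ i ∈ T, i.2 ∈ S' := fun i hi =>
    Algebra.subset_adjoin (Finset.mem_coe.mpr (Finset.mem_image_of_mem Prod.snd hi))
  refine ⟨R', S', Subalgebra.fg_adjoin_finset _, Subalgebra.fg_adjoin_finset _, ?_⟩
  let φ : R' ⊗[k] S' →ₐ[k] R ⊗[k] S := Algebra.TensorProduct.map R'.val S'.val
  have hφ : Function.Injective φ := by
    have h2 := TensorProduct.map_injective_of_flat_flat (R := k) R'.val.toLinearMap S'.val.toLinearMap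
      Subtype.val_injective Subtype.val_injective
    intro x y hxy
    apply h2
    have : ∀ w, (TensorProduct.map R'.val.toLinearMap S'.val.toLinearMap) w = φ w := by
      intro w
      induction w using TensorProduct.induction_on with
      | zero => simp
      | tmul a b => simp [φ]
      | add a b ha hb => rw [map_add, map_add, ha, hb]
    rw [this, this, hxy]
  set z' : R' ⊗[k] S' := ∑ i ∈ T.attach, (⟨i.1.1, hr i.1 i.2⟩ : R') ⊗ₜ[k] (⟨i.1.2, hs i.1 i.2⟩ : S') with hz'
  have hφz : φ z' = z := by
    rw [hz', map_sum, hT]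
    rw [← Finset.sum_attach T (fun i => i.1 ⊗ₜ[k] i.2)]
    refine Finset.sum_congr rfl (fun i _ => ?_)
    simp [φ]
  intro hred
  apply hz0
  have hnil : IsNilpotent z' := by
    refine ⟨n, hφ ?_⟩
    rw [map_pow, hφz, hn, map_zero]
  have := hred.eq_zero z' hnil
  rw [← hφz, this, map_zero]

end Groth.Agent.S9641
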