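import Groth.Statements.S9643
import Mathlib
-- import your own Groth.Agent.* helpers here

set_option autoImplicit false
universe u
open CAlg

namespace Groth.Agent.S9643

/-- Let R be a Noetherian ring, M a finite R-module and 0 = M_0 ⊆ M_1 ⊆ ⋯ ⊆ M_n = M a chain of
submodules whose successive quotients M_i/M_{i-1} are isomorphic to R/p_i for prime ideals p_i. Then
the primes minimal among p_1, …, p_n are exactly the primes minimal in the support of M. -/
theorem result {R : Type u} [CommRing R] [IsNoetherianRing R] (M : Type u) [AddCommGroup M] [Module R M] [Module.Finite R M]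
    {n : ℕ} (N : Fin (n + 1) → Submodule R M) (hN : Monotone N) (h0 : N 0 = ⊥) (hlast : N (Fin.last n) = ⊤)
    (p : Fin n → PrimeSpectrum R)
    (hquot : ∀ i : Fin n, Nonempty ((↥(N i.succ) ⧸ Submodule.comap (N i.succ).subtype (N i.castSucc)) ≃ₗ[R] (R ⧸ (p i).asIdeal))) :
    {q : PrimeSpectrum R | Minimal (fun x => x ∈ Set.range p) q} = {q : PrimeSpectrum R | Minimal (fun x => x ∈ Module.support R M) q} := by
  classical
  -- support of the quotient R/p
  have hsupp_quot : ∀ I : Ideal R, Module.support R (R ⧸ I) = PrimeSpectrum.zeroLocus (I : Set R) := by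
    intro I
    rw [Module.support_eq_zeroLocus, Ideal.annihilator_quotient]
  -- support of N i
  have key : ∀ i : Fin (n + 1), Module.support R (N i) =
      ⋃ j : Fin n, ⋃ (_ : j.castSucc < i), PrimeSpectrum.zeroLocus ((p j).asIdeal : Set R) := by
    intro i
    induction i using Fin.induction with
    | zero =>
      rw [h0]
      have : Module.support R (⊥ : Submodule R M) = ∅ := Module.support_eq_empty
      rw [this]
      symm
      simp
    | succ i ih =>
      obtain ⟨e⟩ := hquot i
      have hle : N i.castSucc ≤ N i.succ := hN (Fin.castSucc_lt_succ).le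
      let K := Submodule.comap (N i.succ).subtype (N i.castSucc)
      have hex : Function.Exact K.subtype K.mkQ := LinearMap.exact_subtype_mkQ K
      have h1 := Module.support_of_exact hex K.injective_subtype (Submodule.mkQ_surjective K)
      have h2 : Module.support R K = Module.support R (N i.castSucc) :=
        (Submodule.comapSubtypeEquivOfLe hle).support_eq
      have h3 : Module.support R (↥(N i.succ) ⧸ K) =
          PrimeSpectrum.zeroLocus ((p i).asIdeal : Set R) := by
        rw [e.support_eq, hsupp_quot]
      rw [h1, h2, h3, ih]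
      ext q
      simp only [Set.mem_union, Set.mem_iUnion, exists_prop]
      constructor
      · rintro (⟨j, hj, hq⟩ | hq)
        · exact ⟨j, hj.trans Fin.castSucc_lt_succ, hq⟩
        · exact ⟨i, Fin.castSucc_lt_succ, hq⟩
      · rintro ⟨j, hj, hq⟩
        have hji : j ≤ i := by
          rw [Fin.lt_def] at hj
          simp only [Fin.val_castSucc, Fin.val_succ] at hj
          exact Fin.le_def.2 (by omega)
        rcases hji.lt_or_eq with h | h
        · exact Or.inl ⟨j, by rwa [Fin.castSucc_lt_castSucc_iff], hq⟩
        · subst h; exact Or.inr hq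
  have hsupp : Module.support R M =
      ⋃ j : Fin n, PrimeSpectrum.zeroLocus ((p j).asIdeal : Set R) := by
    have h1 : Module.support R (N (Fin.last n)) = Module.support R M := by
      rw [hlast]
      exact (Submodule.topEquiv : (⊤ : Submodule R M) ≃ₗ[R] M).support_eq
    rw [← h1, key]
    ext q
    simp only [Set.mem_iUnion, exists_prop]
    constructor
    · rintro ⟨j, -, hq⟩; exact ⟨j, hq⟩
    · rintro ⟨j, hq⟩; exact ⟨j, Fin.castSucc_lt_last j, hq⟩
  have hmem : ∀ q : PrimeSpectrum R, q ∈ Module.support R M ↔ ∃ j, p j ≤ q := by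
    intro q
    rw [hsupp]
    simp only [Set.mem_iUnion, PrimeSpectrum.mem_zeroLocus, SetLike.coe_subset_coe]
    rfl
  ext q
  simp only [Set.mem_setOf_eq]
  constructor
  · rintro ⟨⟨j, rfl⟩, hmin⟩
    refine ⟨(hmem _).2 ⟨j, le_rfl⟩, ?_⟩
    intro q' hq' hle
    obtain ⟨k, hk⟩ := (hmem q').1 hq'
    exact (hmin ⟨k, rfl⟩ (hk.trans hle)).trans hk
  · rintro ⟨hq, hmin⟩
    obtain ⟨k, hk⟩ := (hmem q).1 hq
    have hk' : p k ∈ Module.support R M := (hmem _).2 ⟨k, le_rfl⟩
    have hqk : q = p k := le_antisymm (hmin hk' hk) hk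
    refine ⟨⟨k, hqk.symm⟩, ?_⟩
    rintro q' ⟨j, rfl⟩ hle
    exact hmin ((hmem _).2 ⟨j, le_rfl⟩) hle

end Groth.Agent.S9643
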