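import Groth.Statements.S9646
import Mathlib.RingTheory.Localization.Integral
-- import your own Groth.Agent.* helpers here

set_option autoImplicit false
universe u
open CAlg

namespace Groth.Agent.S9646

/-- (2) ⇒ (1): let R → S be a ring map and x ∈ S. If for every prime ideal p of R the image of x in S_p
(the localization of S at the image of R ∖ p) is integral over R_p, then x is integral over R. Here
R_p and S_p are any rings satisfying the localization universal properties. -/
theorem result {R S : Type u} [CommRing R] [CommRing S] [Algebra R S] (x : S)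
    (h : ∀ (p : Ideal R) [p.IsPrime] (Rp Sp : Type u) [CommRing Rp] [CommRing Sp] [Algebra R Rp] [Algebra S Sp] [Algebra Rp Sp] [Algebra R Sp] [IsScalarTower R S Sp] [IsScalarTower R Rp Sp] [IsLocalization.AtPrime Rp p] [IsLocalization (Algebra.algebraMapSubmonoid S p.primeCompl) Sp], IsIntegral Rp (algebraMap S Sp x)) :
    IsIntegral R x := by
  classical
  set I : Ideal R := Submodule.comap (LinearMap.toSpanSingleton R S x)
    (Subalgebra.toSubmodule (integralClosure R S)) with hI
  have hmem : ∀ u : R, u ∈ I ↔ IsIntegral R (u • x) := by
    intro u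
    rw [hI, Submodule.mem_comap, LinearMap.toSpanSingleton_apply]
    rfl
  have hloc : ∀ (p : Ideal R) [p.IsPrime], ∃ u ∈ I, u ∉ p := by
    intro p _
    have hp := h p (Localization.AtPrime p) (Localization (Algebra.algebraMapSubmonoid S p.primeCompl))
    obtain ⟨m, hm⟩ := IsIntegral.exists_multiple_integral_of_isLocalization p.primeCompl
      (Rₘ := Localization.AtPrime p) _ hp
    have h1 : IsIntegral R (algebraMap S (Localization (Algebra.algebraMapSubmonoid S p.primeCompl))
        ((m : R) • x)) := by
      have : algebraMap S (Localization (Algebra.algebraMapSubmonoid S p.primeCompl)) ((m : R) • x) =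
          m • algebraMap S (Localization (Algebra.algebraMapSubmonoid S p.primeCompl)) x := by
        rw [Submonoid.smul_def, Algebra.smul_def, Algebra.smul_def, map_mul,
          ← IsScalarTower.algebraMap_apply]
      rw [this]
      exact hm
    obtain ⟨m', hm', hm's⟩ := IsLocalization.exists_isIntegral_smul_of_isIntegral_map
      (Sₘ := Localization (Algebra.algebraMapSubmonoid S p.primeCompl)) p.primeCompl h1
    refine ⟨m' * m, ?_, ?_⟩
    · rw [hmem, mul_smul]
      exact hm's
    · exact p.primeCompl.mul_mem hm' m.2
  have htop : I = ⊤ := by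
    by_contra hne
    obtain ⟨𝔪, h𝔪, hle⟩ := Ideal.exists_le_maximal I hne
    haveI := h𝔪.isPrime
    obtain ⟨u, hu, hu'⟩ := hloc 𝔪
    exact hu' (hle hu)
  have h1 : (1 : R) ∈ I := by
    rw [htop]
    exact Submodule.mem_top
  rw [hmem, one_smul] at h1
  exact h1

end Groth.Agent.S9646
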