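import Groth.Statements.S9665
import Groth.Agent.Lib.Helper13Fiber
-- import your own Groth.Agent.* helpers here

set_option autoImplicit false
universe u
open CAlg

namespace Groth.Agent.S9665

/-- Part (2): (A_fin ⊆ A): let R → S be a ring map, N an S-module, q a prime of S and p the prime of R
below q; an associated prime of a module is a prime ideal equal to the annihilator of some element.
If q is an associated prime of the S-module N/pN, then q is an associated prime of the S-module N
⊗_R κ(p) (the fibre module over p, an S-module by restriction of scalars). -/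
theorem result {R S : Type u} [CommRing R] [CommRing S] [Algebra R S] (N : Type u) [AddCommGroup N] [Module S N] [Module R N] [IsScalarTower R S N]
    (p : Ideal R) [p.IsPrime] (q : Ideal S) [q.IsPrime] (hq : q.comap (algebraMap R S) = p)
    (h : q ∈ FlatCA.ass S (N ⧸ (p.map (algebraMap R S)) • (⊤ : Submodule S N))) :
    q ∈ FlatCA.ass S (FlatCA.fiberMod p S N) := by
  classical
  obtain ⟨hqp, m, hm⟩ := h
  obtain ⟨n, rfl⟩ := Submodule.Quotient.mk_surjective _ m
  refine ⟨hqp, FlatCA.toFiberMod p S N n, ?_⟩
  have hx : ∀ y : S, y ∈ q ↔ y • n ∈ ((p.map (algebraMap R S)) • (⊤ : Submodule S N)) := by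
    intro y
    rw [hm, Submodule.mem_annihilator_span_singleton, ← Submodule.Quotient.mk_smul,
      Submodule.Quotient.mk_eq_zero]
  ext x
  rw [Submodule.mem_annihilator_span_singleton,
    Groth.Agent.Helper13Fiber.smul_toFiberMod_eq_zero_iff]
  constructor
  · intro hxq
    refine ⟨1, fun h1 => (Ideal.IsPrime.ne_top inferInstance) ((Ideal.eq_top_iff_one p).mpr h1), ?_⟩
    rw [map_one, one_smul]
    exact (hx x).mp hxq
  · rintro ⟨t, ht, htx⟩
    rw [smul_smul] at htx
    have := (hx _).mpr htx
    rcases hqp.mem_or_mem this with h1 | h1
    · exfalso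
      apply ht
      rw [← hq]
      exact h1
    · exact h1

end Groth.Agent.S9665
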