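import Groth.Statements.S9669
import Groth.Agent.Lib.Helper13Fiber
import Groth.Agent.S9665
-- import your own Groth.Agent.* helpers here

set_option autoImplicit false
universe u
open CAlg

namespace Groth.Agent.S9669

/-- Part (4): (A = A_fin = A'_fin): let R → S be a ring map, N an S-module flat over R and p a prime of
R; an associated prime of a module is a prime ideal equal to the annihilator of some element. Then
the set of associated primes of the S-module N/pN equals the set of associated primes of the
S-module N ⊗_R κ(p) (the fibre module over p, an S-module by restriction of scalars), and every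
prime in this set lies over p. -/
theorem result {R S : Type u} [CommRing R] [CommRing S] [Algebra R S] (N : Type u) [AddCommGroup N] [Module S N] [Module R N] [IsScalarTower R S N] [Module.Flat R N] (p : Ideal R) [p.IsPrime] :
    FlatCA.ass S (N ⧸ (p.map (algebraMap R S)) • (⊤ : Submodule S N)) = FlatCA.ass S (FlatCA.fiberMod p S N) ∧
      ∀ q ∈ FlatCA.ass S (N ⧸ (p.map (algebraMap R S)) • (⊤ : Submodule S N)), q.comap (algebraMap R S) = p := by
  classical
  have hone : (1 : R) ∉ p := fun h1 => (Ideal.IsPrime.ne_top inferInstance) ((Ideal.eq_top_iff_one p).mpr h1)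
  -- lying over
  have hover : ∀ q ∈ FlatCA.ass S (N ⧸ (p.map (algebraMap R S)) • (⊤ : Submodule S N)),
      q.comap (algebraMap R S) = p := by
    rintro q ⟨hqp, m, hm⟩
    obtain ⟨n, rfl⟩ := Submodule.Quotient.mk_surjective _ m
    have hx : ∀ y : S, y ∈ q ↔ y • n ∈ ((p.map (algebraMap R S)) • (⊤ : Submodule S N)) := by
      intro y
      rw [hm, Submodule.mem_annihilator_span_singleton, ← Submodule.Quotient.mk_smul,
        Submodule.Quotient.mk_eq_zero]
    ext r
    rw [Ideal.mem_comap, hx]
    constructor
    · intro h
      by_contra hr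
      have hn := Groth.Agent.Helper13Fiber.mem_of_smul_mem_of_flat p S N hr h
      apply hqp.ne_top
      rw [Ideal.eq_top_iff_one, hx, one_smul]
      exact hn
    · intro hr
      exact Submodule.smul_mem_smul (Ideal.mem_map_of_mem _ hr) Submodule.mem_top
  refine ⟨?_, hover⟩
  ext q
  constructor
  · intro h
    have hq := hover q h
    haveI : q.IsPrime := h.1
    exact Groth.Agent.S9665.result N p q hq h
  · rintro ⟨hqp, z, hz⟩
    obtain ⟨t₀, ht₀, n, htn⟩ := Groth.Agent.Helper13Fiber.exists_smul_eq_toFiberMod p S N z
    refine ⟨hqp, Submodule.Quotient.mk n, ?_⟩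
    ext x
    rw [hz, Submodule.mem_annihilator_span_singleton, Submodule.mem_annihilator_span_singleton,
      ← Submodule.Quotient.mk_smul, Submodule.Quotient.mk_eq_zero,
      ← Groth.Agent.Helper13Fiber.toFiberMod_eq_zero_iff_of_flat, map_smul, ← htn, smul_comm,
      Groth.Agent.Helper13Fiber.smul_eq_zero_iff p S N ht₀]

end Groth.Agent.S9669
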