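import Groth.Statements.S9648
import Groth.Agent.Lib.Helper13Fiber
import Groth.Agent.S9669
-- import your own Groth.Agent.* helpers here

set_option autoImplicit false
universe u
open CAlg

namespace Groth.Agent.S9648

open TensorProduct in
/-- For `N` flat and `p = Ann(m)`: `n ⊗ m = 0` iff `n ∈ pN`. -/
theorem tmul_eq_zero_iff {R : Type u} [CommRing R] {N M : Type u} [AddCommGroup N] [Module R N]
    [AddCommGroup M] [Module R M] [Module.Flat R N] (p : Ideal R) (m : M)
    (hp : p = (Submodule.span R {m}).annihilator) (n : N) :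
    n ⊗ₜ[R] m = 0 ↔ n ∈ (p • ⊤ : Submodule R N) := by
  have hker : p ≤ LinearMap.ker (LinearMap.toSpanSingleton R M m) := by
    intro r hr
    rw [hp, Submodule.mem_annihilator_span_singleton] at hr
    rw [LinearMap.mem_ker, LinearMap.toSpanSingleton_apply]
    exact hr
  let ψ : (R ⧸ p) →ₗ[R] M := Submodule.liftQ p (LinearMap.toSpanSingleton R M m) hker
  have hψ : Function.Injective ψ := by
    rw [← LinearMap.ker_eq_bot, Submodule.ker_liftQ_eq_bot']
    ext r
    rw [LinearMap.mem_ker, LinearMap.toSpanSingleton_apply, hp,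
      Submodule.mem_annihilator_span_singleton]
  have hinj := Module.Flat.lTensor_preserves_injective_linearMap (M := N) ψ hψ
  have h1 : ψ.lTensor N (n ⊗ₜ[R] (Ideal.Quotient.mk p 1)) = n ⊗ₜ[R] m := by
    rw [LinearMap.lTensor_tmul]
    congr 1
    change (LinearMap.toSpanSingleton R M m) 1 = m
    rw [LinearMap.toSpanSingleton_apply, one_smul]
  have h2 : TensorProduct.tensorQuotEquivQuotSMul N p (n ⊗ₜ[R] (Ideal.Quotient.mk p 1)) =
      Submodule.Quotient.mk n := by
    rw [TensorProduct.tensorQuotEquivQuotSMul_tmul_mk, one_smul]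
  rw [← h1, ← Submodule.Quotient.mk_eq_zero, ← h2]
  constructor
  · intro h
    rw [hinj (by rw [h, map_zero] : ψ.lTensor N (n ⊗ₜ[R] (Ideal.Quotient.mk p 1)) = ψ.lTensor N 0), map_zero]
  · intro h
    have : n ⊗ₜ[R] (Ideal.Quotient.mk p 1) = 0 :=
      (TensorProduct.tensorQuotEquivQuotSMul N p).injective (by rw [h, map_zero])
    rw [this, map_zero]


open TensorProduct in
/-- The inclusion, valid for any ring R: let R → S be a ring map, M an R-module and N an S-module which
is flat over R. For an associated prime p of M (a prime equal to the annihilator of an element) and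
an associated prime Q of the fibre module N ⊗_R κ(p) over the fibre ring S ⊗_R κ(p), the inverse
image of Q in S is an associated prime of N ⊗_R M. -/
theorem result {R S : Type u} [CommRing R] [CommRing S] [Algebra R S] (M : Type u) [AddCommGroup M] [Module R M] (N : Type u) [AddCommGroup N] [Module S N] [Module R N] [IsScalarTower R S N] [Module.Flat R N]
    (p : Ideal R) [p.IsPrime] (hp : p ∈ FlatCA.ass R M) (Q : Ideal (p.Fiber S)) (hQ : Q ∈ FlatCA.ass (p.Fiber S) (FlatCA.fiberMod p S N)) :
    Q.comap (Algebra.TensorProduct.includeRight (R := R) (A := p.ResidueField) (B := S)).toRingHom ∈ FlatCA.ass S (N ⊗[R] M) := by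
  classical
  letI : Algebra S (p.Fiber S) := Algebra.TensorProduct.rightAlgebra
  obtain ⟨hpp, m, hm⟩ := hp
  obtain ⟨hQ, z, hz⟩ := hQ
  set q : Ideal S := Q.comap (Algebra.TensorProduct.includeRight (R := R) (A := p.ResidueField) (B := S)).toRingHom with hq
  have hqprime : q.IsPrime := Ideal.comap_isPrime _ Q
  have hqz : q = (Submodule.span S {z}).annihilator := by
    ext x
    rw [hq, Ideal.mem_comap, hz, Submodule.mem_annihilator_span_singleton,
      Submodule.mem_annihilator_span_singleton]
    change algebraMap S (p.Fiber S) x • z = 0 ↔ _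
    rw [algebraMap_smul (p.Fiber S) x z]
  have h1 : q ∈ FlatCA.ass S (FlatCA.fiberMod p S N) := ⟨hqprime, z, hqz⟩
  rw [← (Groth.Agent.S9669.result N p).1] at h1
  obtain ⟨_, nbar, hn⟩ := h1
  obtain ⟨n, rfl⟩ := Submodule.Quotient.mk_surjective _ nbar
  refine ⟨hqprime, n ⊗ₜ[R] m, ?_⟩
  rw [hn]
  ext x
  rw [Submodule.mem_annihilator_span_singleton, Submodule.mem_annihilator_span_singleton,
    ← Submodule.Quotient.mk_smul, Submodule.Quotient.mk_eq_zero, TensorProduct.smul_tmul',
    tmul_eq_zero_iff p m hm, Groth.Agent.Helper13Fiber.smul_top_eq_restrictScalars p S N,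
    Submodule.restrictScalars_mem]

end Groth.Agent.S9648
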