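import Groth.Statements.S9650
import Mathlib
-- import your own Groth.Agent.* helpers here

set_option autoImplicit false
universe u
open CAlg

namespace Groth.Agent.S9650

/-- Let K/k be a finitely generated field extension that is separably generated, i.e. admits a
transcendence basis over whose generated subfield K is separable algebraic. Then K is generated over
k by finitely many elements x_1, …, x_r, y such that the x_i form a transcendence basis of K/k and y
is separable over the subfield k(x_1, …, x_r). -/
theorem result {k K : Type u} [Field k] [Field K] [Algebra k K]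
    (hfg : ∃ s : Finset K, IntermediateField.adjoin k (s : Set K) = ⊤)
    (hsep : ∃ (ι : Type u) (x : ι → K), IsTranscendenceBasis k x ∧ Algebra.IsSeparable (IntermediateField.adjoin k (Set.range x)) K) :
    ∃ (r : ℕ) (x : Fin r → K) (y : K), IsTranscendenceBasis k x ∧ IntermediateField.adjoin k (insert y (Set.range x)) = ⊤ ∧ IsSeparable (IntermediateField.adjoin k (Set.range x)) y := by
  classical
  obtain ⟨S, hS⟩ := hfg
  obtain ⟨ι, x, hx, hsepx⟩ := hsep
  -- finite transcendence degree
  haveI : FinTrdeg k K :=
    ⟨⟨⊤, ⟨S, hS⟩, ⟨fun y => isAlgebraic_algebraMap (⟨y, trivial⟩ : (⊤ : IntermediateField k K))⟩⟩⟩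
  haveI : Finite ι := finite_of_isTranscendenceBasis hx
  let e : ι ≃ Fin (Nat.card ι) := Finite.equivFin ι
  let x' : Fin (Nat.card ι) → K := x ∘ e.symm
  have hx' : IsTranscendenceBasis k x' := (isTranscendenceBasis_equiv e.symm).2 hx
  have hrange : Set.range x' = Set.range x := by
    simp only [x']
    rw [Set.range_comp, Equiv.range_eq_univ, Set.image_univ]
  haveI hsep' : Algebra.IsSeparable (IntermediateField.adjoin k (Set.range x')) K := by
    rw [hrange]; exact hsepx
  set F := IntermediateField.adjoin k (Set.range x') with hF
  -- K finite over F
  have hSF : IntermediateField.adjoin F (S : Set K) = ⊤ := by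
    rw [eq_top_iff]
    intro y _
    have hy : y ∈ IntermediateField.adjoin k (S : Set K) := by rw [hS]; trivial
    have hle : IntermediateField.adjoin k (S : Set K) ≤
        (IntermediateField.adjoin F (S : Set K)).restrictScalars k := by
      rw [IntermediateField.adjoin_le_iff]
      intro s hs
      exact IntermediateField.subset_adjoin F _ hs
    exact hle hy
  haveI : FiniteDimensional F K := by
    have h1 : FiniteDimensional F (IntermediateField.adjoin F (S : Set K)) :=
      IntermediateField.finiteDimensional_adjoin
        (fun y _ => Algebra.IsSeparable.isIntegral F y)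
    rw [hSF] at h1
    exact (IntermediateField.topEquiv : (⊤ : IntermediateField F K) ≃ₐ[F] K).toLinearEquiv.finiteDimensional
  obtain ⟨y, hy⟩ := Field.exists_primitive_element F K
  refine ⟨Nat.card ι, x', y, hx', ?_, Algebra.IsSeparable.isSeparable F y⟩
  have h2 := IntermediateField.adjoin_adjoin_left k (Set.range x') ({y} : Set K)
  rw [Set.insert_eq, Set.union_comm, ← h2]
  rw [eq_top_iff]
  intro z _
  have : z ∈ IntermediateField.adjoin F ({y} : Set K) := by rw [hy]; trivial
  exact this

end Groth.Agent.S9650
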