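import Groth.Statements.S9654
import Mathlib

set_option autoImplicit false
universe u
open CAlg

namespace Groth.Agent.S9654

theorem isIntegral_of_stable {R A : Type*} [CommRing R] [CommRing A] [Algebra R A]
    (N : Submodule R A) (h1 : (1 : A) ∈ N) (hfg : N.FG) (z : A) (hz : ∀ n ∈ N, z * n ∈ N) :
    IsIntegral R z := by
  let A' : Subalgebra R A :=
    { carrier := { x | ∀ n ∈ N, x * n ∈ N }
      mul_mem' := fun {a b} ha hb n hn => by rw [mul_assoc]; exact ha _ (hb _ hn)
      one_mem' := fun n hn => by rw [one_mul]; exact hn
      add_mem' := fun {a b} ha hb n hn => by rw [add_mul]; exact N.add_mem (ha _ hn) (hb _ hn)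
      zero_mem' := fun n _hn => by rw [zero_mul]; exact N.zero_mem
      algebraMap_mem' := fun r n hn => by
        rw [← Algebra.smul_def]; exact N.smul_mem r hn }
  let f : A' →ₐ[R] Module.End R N :=
    AlgHom.ofLinearMap
      { toFun := fun x => (LinearMap.mulLeft R (x : A)).restrict x.prop
        map_add' := by intro x y; ext n; exact add_mul _ _ _
        map_smul' := by intro r s; ext n; exact smul_mul_assoc _ _ _ }
      (by ext n; exact one_mul _)
      (by intro x y; ext n; exact mul_assoc _ _ _)
  have hinj : Function.Injective f := by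
    intro s t hst
    have h2 : (f s) ⟨1, h1⟩ = (f t) ⟨1, h1⟩ := by rw [hst]
    have h3 : (s : A) * 1 = (t : A) * 1 := congr_arg Subtype.val h2
    rw [mul_one, mul_one] at h3
    exact Subtype.ext h3
  change IsIntegral R (A'.val ⟨z, hz⟩)
  rw [isIntegral_algHom_iff A'.val Subtype.val_injective,
    ← isIntegral_algHom_iff (A := A') (B := Module.End R N) f hinj]
  have : Module.Finite R N := by rwa [Module.Finite.iff_fg]
  apply Algebra.IsIntegral.isIntegral

/-- `R[a] ∩ R[a⁻¹]` is integral over `R`. -/
theorem isIntegral_of_mem_inf {R A : Type*} [CommRing R] [CommRing A] [Algebra R A] (a b : A)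
    (hab : a * b = 1) (z : A) (hza : z ∈ Algebra.adjoin R {a}) (hzb : z ∈ Algebra.adjoin R {b}) :
    IsIntegral R z := by
  rw [Algebra.adjoin_singleton_eq_range_aeval, AlgHom.mem_range] at hza hzb
  obtain ⟨p, hp⟩ := hza
  obtain ⟨q, hq⟩ := hzb
  set n := p.natDegree with hn
  set m := q.natDegree with hm
  have hpow : ∀ j k : ℕ, j ≤ k → b ^ j * a ^ k = a ^ (k - j) := by
    intro j k hjk
    obtain ⟨l, rfl⟩ := Nat.exists_eq_add_of_le hjk
    rw [Nat.add_sub_cancel_left, pow_add, ← mul_assoc, ← mul_pow, mul_comm b a, hab, one_pow,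
      one_mul]
  let N : Submodule R A := Submodule.span R ((fun k : ℕ => a ^ k) '' (Set.Iio (n + m + 1)))
  have hmem : ∀ k, k < n + m + 1 → a ^ k ∈ N := fun k hk =>
    Submodule.subset_span ⟨k, hk, rfl⟩
  refine isIntegral_of_stable N (by simpa using hmem 0 (Nat.succ_pos _))
    (Submodule.fg_span ((Set.finite_Iio _).image _)) z ?_
  intro x hx
  induction hx using Submodule.span_induction with
  | mem x hx =>
    obtain ⟨k, hk, rfl⟩ := hx
    by_cases hkm : m ≤ k
    · rw [← hq, Polynomial.aeval_eq_sum_range, Finset.sum_mul]
      refine N.sum_mem (fun j hj => ?_)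
      rw [Finset.mem_range] at hj
      rw [smul_mul_assoc, hpow j k (by omega)]
      exact N.smul_mem _ (hmem _ (by have := Set.mem_Iio.mp hk; omega))
    · rw [← hp, Polynomial.aeval_eq_sum_range, Finset.sum_mul]
      refine N.sum_mem (fun i hi => ?_)
      rw [Finset.mem_range] at hi
      rw [smul_mul_assoc, ← pow_add]
      exact N.smul_mem _ (hmem _ (by omega))
  | zero => rw [mul_zero]; exact N.zero_mem
  | add x y _ _ hx hy => rw [mul_add]; exact N.add_mem hx hy
  | smul r x _ hx => rw [mul_smul_comm]; exact N.smul_mem r hx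

theorem key {R L : Type*} [CommRing R] [CommRing L] [Algebra R L] (x y w : R)
    (hx : x ∈ nonZeroDivisors R) (hy : y ∈ nonZeroDivisors R) (hw : w = x * y)
    [IsLocalization.Away w L] (u : L) (hu : algebraMap R L (x * y) * u = 1)
    [IsIntegrallyClosedIn R (Localization.Away x)] (z : L) (hz : IsIntegral R z)
    (hzb : z ∈ Algebra.adjoin R {algebraMap R L (y * y) * u}) : ∃ r, algebraMap R L r = z := by
  have hwn : w ∈ nonZeroDivisors R := hw ▸ mul_mem hx hy
  have hιinj : Function.Injective (algebraMap R L) :=
    IsLocalization.injective L (M := Submonoid.powers w) (Submonoid.powers_le.mpr hwn)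
  have hxu : algebraMap R L x * (algebraMap R L y * u) = 1 := by
    rw [← mul_assoc, ← map_mul]; exact hu
  have hunit : ∀ s : Submonoid.powers x, IsUnit (Algebra.ofId R L (s : R)) := by
    rintro ⟨_, k, rfl⟩
    show IsUnit (algebraMap R L (x ^ k))
    rw [map_pow]
    exact (IsUnit.of_mul_eq_one _ hxu).pow k
  let g : Localization.Away x →ₐ[R] L :=
    IsLocalization.liftAlgHom (M := Submonoid.powers x) (f := Algebra.ofId R L) hunit
  have hginj : Function.Injective g := by
    rw [injective_iff_map_eq_zero]
    intro v hv
    obtain ⟨r, s, rfl⟩ := IsLocalization.exists_mk'_eq (Submonoid.powers x) v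
    have h1 : g (algebraMap R (Localization.Away x) (s : R) *
        IsLocalization.mk' (Localization.Away x) r s) = 0 := by
      rw [map_mul, hv, mul_zero]
    rw [IsLocalization.mk'_spec', AlgHom.commutes] at h1
    have h2 : r = 0 := hιinj (by rw [h1, map_zero])
    rw [h2, IsLocalization.mk'_zero]
  set b' : Localization.Away x :=
    IsLocalization.mk' (Localization.Away x) y (⟨x, Submonoid.mem_powers x⟩ : Submonoid.powers x)
    with hb'
  have hgb : g b' = algebraMap R L (y * y) * u := by
    have h1 : algebraMap R L x * g b' = algebraMap R L y := by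
      rw [← AlgHom.commutes g x, ← map_mul]
      have : algebraMap R (Localization.Away x) x * b' = algebraMap R (Localization.Away x) y :=
        IsLocalization.mk'_spec' (Localization.Away x) y
          (⟨x, Submonoid.mem_powers x⟩ : Submonoid.powers x)
      rw [this, AlgHom.commutes]
    have h2 : algebraMap R L x * (algebraMap R L (y * y) * u) = algebraMap R L y := by
      rw [map_mul]
      calc algebraMap R L x * (algebraMap R L y * algebraMap R L y * u)
          = algebraMap R L y * (algebraMap R L x * (algebraMap R L y * u)) := by ring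
        _ = algebraMap R L y := by rw [hxu, mul_one]
    have hux : IsUnit (algebraMap R L x) := IsUnit.of_mul_eq_one _ hxu
    exact hux.mul_left_cancel (h1.trans h2.symm)
  rw [Algebra.adjoin_singleton_eq_range_aeval, AlgHom.mem_range] at hzb
  obtain ⟨q, hq⟩ := hzb
  have hgz : g (Polynomial.aeval b' q) = z := by
    rw [← Polynomial.aeval_algHom_apply, hgb, hq]
  have hz' : IsIntegral R (Polynomial.aeval b' q) := by
    rw [← isIntegral_algHom_iff g hginj, hgz]
    exact hz
  obtain ⟨r, hr⟩ := IsIntegrallyClosedIn.isIntegral_iff.mp hz'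
  refine ⟨r, ?_⟩
  rw [← hgz, ← hr, AlgHom.commutes]

theorem sup_part {R A : Type*} [CommRing R] [CommRing A] [Algebra R A] (a b : A)
    (hab : a * b = 1) :
    (Algebra.adjoin R {a}).toSubmodule ⊔ (Algebra.adjoin R {b}).toSubmodule =
      (Algebra.adjoin R {a, b}).toSubmodule := by
  apply le_antisymm
  · refine sup_le ?_ ?_
    · exact Subalgebra.toSubmodule.monotone (Algebra.adjoin_mono (by simp))
    · exact Subalgebra.toSubmodule.monotone (Algebra.adjoin_mono (by simp))
  · rw [Algebra.adjoin_eq_span, Submodule.span_le]
    intro m hm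
    have hP : ∃ k : ℕ, m = a ^ k ∨ m = b ^ k := by
      induction hm using Submonoid.closure_induction with
      | mem m hm =>
        rcases hm with rfl | hm
        · exact ⟨1, Or.inl (pow_one _).symm⟩
        · rw [Set.mem_singleton_iff] at hm
          subst hm
          exact ⟨1, Or.inr (pow_one _).symm⟩
      | one => exact ⟨0, Or.inl (pow_zero _).symm⟩
      | mul m m' _ _ h1 h2 =>
        obtain ⟨k, hk⟩ := h1
        obtain ⟨l, hl⟩ := h2
        have hpow : ∀ i j : ℕ, a ^ i * b ^ j = if j ≤ i then a ^ (i - j) else b ^ (j - i) := by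
          intro i j
          split_ifs with h
          · obtain ⟨c, rfl⟩ := Nat.exists_eq_add_of_le h
            rw [Nat.add_sub_cancel_left, pow_add, mul_comm (a ^ j), mul_assoc, ← mul_pow, hab,
              one_pow, mul_one]
          · push_neg at h
            obtain ⟨c, rfl⟩ := Nat.exists_eq_add_of_le h.le
            rw [Nat.add_sub_cancel_left, pow_add, ← mul_assoc, ← mul_pow, hab, one_pow, one_mul]
        rcases hk with rfl | rfl <;> rcases hl with rfl | rfl
        · exact ⟨k + l, Or.inl (pow_add _ _ _).symm⟩
        · rw [hpow]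
          split_ifs
          · exact ⟨_, Or.inl rfl⟩
          · exact ⟨_, Or.inr rfl⟩
        · rw [mul_comm, hpow]
          split_ifs
          · exact ⟨_, Or.inl rfl⟩
          · exact ⟨_, Or.inr rfl⟩
        · exact ⟨k + l, Or.inr (pow_add _ _ _).symm⟩
    obtain ⟨k, rfl | rfl⟩ := hP
    · exact Submodule.mem_sup_left (Subalgebra.pow_mem _ (Algebra.self_mem_adjoin_singleton R a) k)
    · exact Submodule.mem_sup_right (Subalgebra.pow_mem _ (Algebra.self_mem_adjoin_singleton R b) k)

/-- Let R be a ring and x, y ∈ R nonzerodivisors. In the localization R_{xy} let a = x/y and b = y/x,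
and let R[a], R[b], R[a, b] be the R-subalgebras they generate. If R is integrally closed in R_x or
in R_y, then the sequence 0 → R → R[a] ⊕ R[b] → R[a, b] → 0 (difference map, then sum map) is short
exact; equivalently R[a] ∩ R[b] is the image of R and R[a] + R[b] = R[a, b] inside R_{xy}. -/
theorem result {R : Type u} [CommRing R] (x y : R) (hx : x ∈ nonZeroDivisors R) (hy : y ∈ nonZeroDivisors R)
    (hint : IsIntegrallyClosedIn R (Localization.Away x) ∨ IsIntegrallyClosedIn R (Localization.Away y)) :
    (Algebra.adjoin R {algebraMap R (Localization.Away (x * y)) (x * x) * IsLocalization.Away.invSelf (x * y)}).toSubmodule ⊓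
        (Algebra.adjoin R {algebraMap R (Localization.Away (x * y)) (y * y) * IsLocalization.Away.invSelf (x * y)}).toSubmodule =
        (⊥ : Subalgebra R (Localization.Away (x * y))).toSubmodule ∧
      (Algebra.adjoin R {algebraMap R (Localization.Away (x * y)) (x * x) * IsLocalization.Away.invSelf (x * y)}).toSubmodule ⊔
        (Algebra.adjoin R {algebraMap R (Localization.Away (x * y)) (y * y) * IsLocalization.Away.invSelf (x * y)}).toSubmodule =
        (Algebra.adjoin R {algebraMap R (Localization.Away (x * y)) (x * x) * IsLocalization.Away.invSelf (x * y), algebraMap R (Localization.Away (x * y)) (y * y) * IsLocalization.Away.invSelf (x * y)}).toSubmodule := by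
  set L := Localization.Away (x * y) with hL
  set u : L := IsLocalization.Away.invSelf (x * y) with hu
  have hu1 : algebraMap R L (x * y) * u = 1 := IsLocalization.Away.mul_invSelf (x * y)
  have hab : (algebraMap R L (x * x) * u) * (algebraMap R L (y * y) * u) = 1 := by
    have : (algebraMap R L (x * x) * u) * (algebraMap R L (y * y) * u) =
        (algebraMap R L (x * y) * u) * (algebraMap R L (x * y) * u) := by
      simp only [map_mul]; ring
    rw [this, hu1, one_mul]
  refine ⟨?_, sup_part _ _ hab⟩
  apply le_antisymm
  · intro z hz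
    rw [Submodule.mem_inf, Subalgebra.mem_toSubmodule, Subalgebra.mem_toSubmodule] at hz
    have hzint : IsIntegral R z := isIntegral_of_mem_inf _ _ hab z hz.1 hz.2
    rw [Subalgebra.mem_toSubmodule, Algebra.mem_bot]
    rcases hint with h | h
    · exact key x y (x * y) hx hy rfl u hu1 z hzint hz.2
    · haveI : IsLocalization.Away (y * x) L := by rw [mul_comm]; infer_instance
      exact key y x (y * x) hy hx rfl u (by rw [mul_comm y x]; exact hu1) z hzint hz.1
  · refine le_inf ?_ ?_
    · exact Subalgebra.toSubmodule.monotone bot_le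
    · exact Subalgebra.toSubmodule.monotone bot_le

end Groth.Agent.S9654
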