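import Groth.Statements.S9656
-- import your own Groth.Agent.* helpers here

set_option autoImplicit false
universe u
open CAlg

namespace Groth.Agent.S9656

/-- Let R_i → S_i be ring maps indexed by a finite type ι, with product map R = Π R_i → S = Π S_i. Then
an element (s_i) of S is integral over R exactly when s_i is integral over R_i for every i; so
integral closure in a finite product is computed factor by factor. -/
theorem result {ι : Type u} [Fintype ι] {R S : ι → Type u} [∀ i, CommRing (R i)] [∀ i, CommRing (S i)] (f : ∀ i, R i →+* S i) (s : ∀ i, S i) :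
    (RingHom.pi fun i => (f i).comp (Pi.evalRingHom R i)).IsIntegralElem s ↔ ∀ i, (f i).IsIntegralElem (s i) := by
  classical
  set F : (∀ i, R i) →+* (∀ i, S i) := RingHom.pi fun i => (f i).comp (Pi.evalRingHom R i) with hF
  have hcomp : ∀ i, (Pi.evalRingHom S i).comp F = (f i).comp (Pi.evalRingHom R i) := by
    intro i
    ext x
    rfl
  have hev : ∀ (P : Polynomial (∀ i, R i)) (i : ι),
      (Polynomial.eval₂ F s P) i = Polynomial.eval₂ (f i) (s i) (P.map (Pi.evalRingHom R i)) := by
    intro P i
    have h1 := Polynomial.hom_eval₂ P F (Pi.evalRingHom S i) s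
    rw [hcomp] at h1
    rw [Polynomial.eval₂_map]
    exact h1
  constructor
  · rintro ⟨P, hP, hPs⟩ i
    refine ⟨P.map (Pi.evalRingHom R i), hP.map _, ?_⟩
    rw [← hev, hPs]
    rfl
  · intro h
    choose p hp hps using h
    set d : ℕ := Finset.univ.sup (fun i => (p i).natDegree) with hd
    set q : ∀ i, Polynomial (R i) := fun i => p i * Polynomial.X ^ (d - (p i).natDegree) with hq
    have hqm : ∀ i, (q i).Monic := fun i => (hp i).mul (Polynomial.monic_X_pow _)
    have hle : ∀ i, (p i).natDegree ≤ d := fun i =>
      Finset.le_sup (f := fun i => (p i).natDegree) (Finset.mem_univ i)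
    have hqd : ∀ i, (q i).natDegree ≤ d := by
      intro i
      rw [hq]
      simp only
      refine (Polynomial.natDegree_mul_le).trans ?_
      have h1 := Polynomial.natDegree_X_pow_le (R := R i) (d - (p i).natDegree)
      have := hle i
      omega
    have hqc : ∀ i, (q i).coeff d = 1 := by
      intro i
      rw [hq]
      simp only
      obtain ⟨k, hk⟩ : ∃ k, d - (p i).natDegree = k := ⟨_, rfl⟩
      have : d = (p i).natDegree + k := by
        have := hle i
        omega
      rw [hk, this, Polynomial.coeff_mul_X_pow]
      exact (hp i).coeff_natDegree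
    set P : Polynomial (∀ i, R i) :=
      ∑ k ∈ Finset.range (d + 1), Polynomial.monomial k (fun i => (q i).coeff k) with hPdef
    have hcoeff : ∀ n, P.coeff n = fun i => (q i).coeff n := by
      intro n
      rw [hPdef, Polynomial.finsetSum_coeff]
      simp only [Polynomial.coeff_monomial]
      rw [Finset.sum_ite_eq' (Finset.range (d + 1)) n]
      split_ifs with hn
      · rfl
      · funext i
        rw [Finset.mem_range, not_lt] at hn
        symm
        apply Polynomial.coeff_eq_zero_of_natDegree_lt
        have := hqd i
        omega
    have hmap : ∀ i, P.map (Pi.evalRingHom R i) = q i := by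
      intro i
      ext n
      rw [Polynomial.coeff_map, hcoeff]
      rfl
    have hPm : P.Monic := by
      apply Polynomial.monic_of_natDegree_le_of_coeff_eq_one d
      · rw [hPdef]
        apply Polynomial.natDegree_sum_le_of_forall_le
        intro k hk
        refine (Polynomial.natDegree_monomial_le _).trans ?_
        rw [Finset.mem_range] at hk
        omega
      · rw [hcoeff]
        funext i
        exact hqc i
    refine ⟨P, hPm, ?_⟩
    funext i
    rw [hev, hmap, hq]
    simp only
    rw [Polynomial.eval₂_mul, hps, zero_mul]
    rfl

end Groth.Agent.S9656
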