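import Groth.Statements.S9658
import Mathlib
-- import your own Groth.Agent.* helpers here

set_option autoImplicit false
universe u
open CAlg

namespace Groth.Agent.S9658

/-- Let R be a ring, f_1, …, f_n ∈ R generating the unit ideal and M an R-module. With M_i = M_{f_i},
M_ij = M_{f_i f_j} (any localizations, with the canonical compatible maps M → M_i → M_ij), the
sequence 0 → M → ⊕ M_i → ⊕ M_ij is exact: an element of M whose image vanishes in every M_i is zero,
and every family (m_i ∈ M_i) such that m_i and m_j have the same image in M_ij for all i, j is the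
image of an element of M. -/
theorem result {R : Type u} [CommRing R] {ι : Type u} [Fintype ι] (f : ι → R) (hf : Ideal.span (Set.range f) = ⊤)
    (M : Type u) [AddCommGroup M] [Module R M]
    (Mi : ι → Type u) [∀ i, AddCommGroup (Mi i)] [∀ i, Module R (Mi i)] (g : ∀ i, M →ₗ[R] Mi i) [∀ i, IsLocalizedModule (Submonoid.powers (f i)) (g i)]
    (Mij : ι → ι → Type u) [∀ i j, AddCommGroup (Mij i j)] [∀ i j, Module R (Mij i j)] (gij : ∀ i j, M →ₗ[R] Mij i j) [∀ i j, IsLocalizedModule (Submonoid.powers (f i * f j)) (gij i j)]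
    (ρ₁ : ∀ i j, Mi i →ₗ[R] Mij i j) (hρ₁ : ∀ i j, ρ₁ i j ∘ₗ g i = gij i j) (ρ₂ : ∀ i j, Mi j →ₗ[R] Mij i j) (hρ₂ : ∀ i j, ρ₂ i j ∘ₗ g j = gij i j) :
    (∀ m : M, (∀ i, g i m = 0) → m = 0) ∧
      ∀ s : ∀ i, Mi i, (∀ i j, ρ₁ i j (s i) = ρ₂ i j (s j)) → ∃ m : M, ∀ i, g i m = s i := by
  classical
  -- partition of unity for powers
  have hpu : ∀ n : ℕ, ∃ c : ι → R, ∑ i, c i * f i ^ n = 1 := by
    intro n
    have h1 := Ideal.span_pow_eq_top (Set.range f) hf n
    have h2 : (fun x : R => x ^ n) '' Set.range f = Set.range (fun i => f i ^ n) := by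
      ext x
      constructor
      · rintro ⟨_, ⟨i, rfl⟩, rfl⟩
        exact ⟨i, rfl⟩
      · rintro ⟨i, rfl⟩
        exact ⟨f i, ⟨i, rfl⟩, rfl⟩
    rw [h2] at h1
    have h3 : (1 : R) ∈ Ideal.span (Set.range (fun i => f i ^ n)) := by
      rw [h1]; exact Submodule.mem_top
    exact Ideal.mem_span_range_iff_exists_fun.mp h3
  constructor
  · intro m hm
    have h1 : ∀ i, ∃ n : ℕ, f i ^ n • m = 0 := by
      intro i
      obtain ⟨⟨_, n, rfl⟩, hc⟩ := (IsLocalizedModule.eq_zero_iff (Submonoid.powers (f i)) (g i)).mp (hm i)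
      exact ⟨n, hc⟩
    choose n hn using h1
    set N := ∑ i, n i with hN
    have h2 : ∀ i, f i ^ N • m = 0 := by
      intro i
      have hle : n i ≤ N := Finset.single_le_sum (f := n) (fun _ _ => Nat.zero_le _) (Finset.mem_univ i)
      rw [← Nat.sub_add_cancel hle, pow_add, mul_smul, hn, smul_zero]
    obtain ⟨c, hc⟩ := hpu N
    calc m = (1 : R) • m := (one_smul R m).symm
      _ = (∑ i, c i * f i ^ N) • m := by rw [hc]
      _ = ∑ i, (c i * f i ^ N) • m := Finset.sum_smul
      _ = 0 := Finset.sum_eq_zero (fun i _ => by rw [mul_smul, h2, smul_zero])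
  · intro s hs
    -- Step A: uniform numerators
    have hA : ∃ (N : ℕ) (m : ι → M), ∀ i, f i ^ N • s i = g i (m i) := by
      have h1 : ∀ i, ∃ (n : ℕ) (x : M), f i ^ n • s i = g i x := by
        intro i
        obtain ⟨⟨x, ⟨_, n, rfl⟩⟩, hx⟩ := IsLocalizedModule.surj (Submonoid.powers (f i)) (g i) (s i)
        exact ⟨n, x, hx⟩
      choose n x hx using h1
      refine ⟨∑ i, n i, fun i => f i ^ ((∑ i, n i) - n i) • x i, fun i => ?_⟩
      have hle : n i ≤ ∑ i, n i := Finset.single_le_sum (f := n) (fun _ _ => Nat.zero_le _) (Finset.mem_univ i)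
      conv_lhs => rw [← Nat.sub_add_cancel hle, pow_add, mul_smul, hx]
      rw [map_smul]
    obtain ⟨N, m, hm⟩ := hA
    -- Step B: uniform exponent for compatibility
    have hB : ∃ K : ℕ, ∀ i j, (f i * f j) ^ K • (f j ^ N • m i) = (f i * f j) ^ K • (f i ^ N • m j) := by
      have h1 : ∀ i j, ∃ k : ℕ, (f i * f j) ^ k • (f j ^ N • m i) = (f i * f j) ^ k • (f i ^ N • m j) := by
        intro i j
        have heq : gij i j (f j ^ N • m i) = gij i j (f i ^ N • m j) := by
          have e1 : gij i j (f j ^ N • m i) = (f j ^ N * f i ^ N) • ρ₁ i j (s i) := by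
            rw [← hρ₁ i j, LinearMap.comp_apply, map_smul, map_smul, ← hm i, map_smul, mul_smul]
          have e2 : gij i j (f i ^ N • m j) = (f j ^ N * f i ^ N) • ρ₂ i j (s j) := by
            rw [← hρ₂ i j, LinearMap.comp_apply, map_smul, map_smul, ← hm j, map_smul, mul_comm, mul_smul]
          rw [e1, e2, hs i j]
        obtain ⟨⟨_, k, rfl⟩, hc⟩ := IsLocalizedModule.exists_of_eq (S := Submonoid.powers (f i * f j)) heq
        exact ⟨k, hc⟩
      choose k hk using h1
      refine ⟨∑ i, ∑ j, k i j, fun i j => ?_⟩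
      have hle : k i j ≤ ∑ i, ∑ j, k i j :=
        (Finset.single_le_sum (f := k i) (fun _ _ => Nat.zero_le _) (Finset.mem_univ j)).trans
          (Finset.single_le_sum (f := fun i => ∑ j, k i j) (fun _ _ => Nat.zero_le _) (Finset.mem_univ i))
      rw [← Nat.sub_add_cancel hle, pow_add, mul_smul, mul_smul, hk]
    obtain ⟨K, hK⟩ := hB
    -- Step C
    set m' : ι → M := fun i => f i ^ K • m i with hm'
    have hC1 : ∀ i, f i ^ (N + K) • s i = g i (m' i) := by
      intro i
      rw [hm']
      simp only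
      rw [map_smul, ← hm i, pow_add, mul_comm, mul_smul]
    have hC2 : ∀ i j, f j ^ (N + K) • m' i = f i ^ (N + K) • m' j := by
      intro i j
      have e1 : f j ^ (N + K) • m' i = (f i * f j) ^ K • (f j ^ N • m i) := by
        rw [hm']
        simp only
        rw [smul_smul, smul_smul]
        congr 1
        ring
      have e2 : f i ^ (N + K) • m' j = (f i * f j) ^ K • (f i ^ N • m j) := by
        rw [hm']
        simp only
        rw [smul_smul, smul_smul]
        congr 1
        ring
      rw [e1, e2, hK]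
    obtain ⟨c, hc⟩ := hpu (N + K)
    refine ⟨∑ i, c i • m' i, fun j => ?_⟩
    have h1 : f j ^ (N + K) • (∑ i, c i • m' i) = m' j := by
      rw [Finset.smul_sum]
      calc ∑ i, f j ^ (N + K) • c i • m' i = ∑ i, (c i * f i ^ (N + K)) • m' j := by
            refine Finset.sum_congr rfl (fun i _ => ?_)
            rw [smul_comm, hC2 i j, smul_smul]
        _ = (∑ i, c i * f i ^ (N + K)) • m' j := Finset.sum_smul.symm
        _ = m' j := by rw [hc, one_smul]
    have h2 : (⟨f j ^ (N + K), N + K, rfl⟩ : Submonoid.powers (f j)) • g j (∑ i, c i • m' i) =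
        (⟨f j ^ (N + K), N + K, rfl⟩ : Submonoid.powers (f j)) • s j := by
      change f j ^ (N + K) • g j (∑ i, c i • m' i) = f j ^ (N + K) • s j
      rw [← map_smul, h1, hC1]
    exact (IsLocalizedModule.smul_inj (g j) _ _ _).mp h2

end Groth.Agent.S9658
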