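import Groth.Statements.S9659
import Mathlib
-- import your own Groth.Agent.* helpers here

set_option autoImplicit false
set_option linter.style.haveILetI false
set_option linter.unusedSectionVars false
universe u
open CAlg

namespace Groth.Agent.S9659

open DirectSum

section
variable {R S : Type u} [CommRing R] [CommRing S] [Algebra R S] (𝒜 : ℤ → Submodule R S)
  [GradedAlgebra 𝒜]

/-- the inverse of a homogeneous unit is homogeneous. -/
theorem exists_inv (f : S) (d : ℤ) (hf : f ∈ 𝒜 d) (hu : IsUnit f) :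
    ∃ g ∈ 𝒜 (-d), f * g = 1 := by
  obtain ⟨g₀, hg₀⟩ := hu.exists_right_inv
  refine ⟨(decompose 𝒜 g₀ (-d) : S), SetLike.coe_mem _, ?_⟩
  have h1 := DirectSum.coe_decompose_mul_add_of_left_mem 𝒜 (b := g₀) (j := -d) hf
  rw [← h1, hg₀, add_neg_cancel]
  exact decompose_of_mem_same 𝒜 (SetLike.GradedOne.one_mem)

variable (f g : S) (d : ℤ)

/-- weight-correcting unit. -/
noncomputable def wt (i : ℤ) : S := if 0 ≤ i then g ^ i.toNat else f ^ (-i).toNat

theorem wt_mem (hf : f ∈ 𝒜 d) (hg : g ∈ 𝒜 (-d)) (i : ℤ) : wt f g i ∈ 𝒜 (-(d * i)) := by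
  unfold wt
  split_ifs with h
  · have h1 := SetLike.pow_mem_graded i.toNat hg
    have h2 : i.toNat • (-d) = -(d * i) := by
      rw [nsmul_eq_mul, Int.toNat_of_nonneg h]; ring
    rwa [h2] at h1
  · have h1 := SetLike.pow_mem_graded (-i).toNat hf
    have h2 : (-i).toNat • d = -(d * i) := by
      rw [nsmul_eq_mul, Int.toNat_of_nonneg (by omega)]; ring
    rwa [h2] at h1

theorem isUnit_wt (hfg : f * g = 1) (i : ℤ) : IsUnit (wt f g i) := by
  have hf : IsUnit f := IsUnit.of_mul_eq_one g hfg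
  have hg : IsUnit g := IsUnit.of_mul_eq_one f (by rw [mul_comm]; exact hfg)
  unfold wt
  split_ifs
  · exact hg.pow _
  · exact hf.pow _

theorem theta_mem (hf : f ∈ 𝒜 d) (hg : g ∈ 𝒜 (-d)) (hd : 0 < d) {a : S} {i : ℤ} (ha : a ∈ 𝒜 i) :
    a ^ d.toNat * wt f g i ∈ 𝒜 0 := by
  have h1 := SetLike.mul_mem_graded (SetLike.pow_mem_graded d.toNat ha) (wt_mem 𝒜 f g d hf hg i)
  have h2 : d.toNat • i + -(d * i) = 0 := by
    rw [nsmul_eq_mul, Int.toNat_of_nonneg hd.le]; ring
  rwa [h2] at h1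

/-- degree-zero projection of the extended ideal lands in the ideal. -/
theorem proj_zero_mem (p₀ : Ideal (SetLike.GradeZero.subring 𝒜)) (x : S)
    (hx : x ∈ Ideal.map (SetLike.GradeZero.subring 𝒜).subtype p₀) :
    ∃ a ∈ p₀, (a : S) = GradedRing.proj 𝒜 0 x := by
  rw [Ideal.map, Ideal.span, Submodule.mem_span_set'] at hx
  obtain ⟨n, c, gg, rfl⟩ := hx
  rw [map_sum]
  refine Finset.sum_induction _ (fun y => ∃ a ∈ p₀, (a : S) = y) ?_ ?_ ?_
  · rintro _ _ ⟨a, ha, rfl⟩ ⟨b, hb, rfl⟩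
    exact ⟨a + b, p₀.add_mem ha hb, rfl⟩
  · exact ⟨0, p₀.zero_mem, rfl⟩
  · intro i _
    obtain ⟨_, ⟨b, hb, rfl⟩⟩ := gg i
    have hb0 : (b : S) ∈ 𝒜 0 := b.2
    have h1 := DirectSum.coe_decompose_mul_add_of_right_mem 𝒜 (a := c i) (i := 0) hb0
    rw [add_zero] at h1
    refine ⟨⟨(decompose 𝒜 (c i) 0 : S), SetLike.coe_mem _⟩ * b, p₀.mul_mem_left _ hb, ?_⟩
    rw [GradedRing.proj_apply]
    exact h1.symm

theorem map_inter (p₀ : Ideal (SetLike.GradeZero.subring 𝒜))
    (x : SetLike.GradeZero.subring 𝒜)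
    (hx : (x : S) ∈ Ideal.map (SetLike.GradeZero.subring 𝒜).subtype p₀) : x ∈ p₀ := by
  obtain ⟨a, ha, hax⟩ := proj_zero_mem 𝒜 p₀ x hx
  rw [GradedRing.proj_apply, decompose_of_mem_same 𝒜 x.2] at hax
  have : a = x := Subtype.ext hax
  rwa [← this]

end


/-- Let S be a ℤ-graded ring which contains an invertible homogeneous element of positive degree. Then
the set of homogeneous prime ideals of S, with the topology induced from Spec(S), maps
homeomorphically onto Spec(S₀) by p ↦ p ∩ S₀. -/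
theorem result {R S : Type u} [CommRing R] [CommRing S] [Algebra R S] (𝒜 : ℤ → Submodule R S) [GradedAlgebra 𝒜]
    (f : S) (d : ℤ) (hd : 0 < d) (hf : f ∈ 𝒜 d) (hu : IsUnit f) :
    IsHomeomorph (fun p : {p : PrimeSpectrum S // p.asIdeal.IsHomogeneous 𝒜} => PrimeSpectrum.comap (SetLike.GradeZero.subring 𝒜).subtype p.1) := by
  classical
  obtain ⟨g, hg, hfg⟩ := exists_inv 𝒜 f d hf hu
  have hDpos : 0 < d.toNat := by omega
  -- key fact
  have hθ : ∀ (p : PrimeSpectrum S) {a : S} {i : ℤ} (ha : a ∈ 𝒜 i),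
      a ∈ p.asIdeal ↔ (⟨a ^ d.toNat * wt f g i, theta_mem 𝒜 f g d hf hg hd ha⟩ :
        SetLike.GradeZero.subring 𝒜) ∈
        (PrimeSpectrum.comap (SetLike.GradeZero.subring 𝒜).subtype p).asIdeal := by
    intro p a i ha
    rw [PrimeSpectrum.comap_asIdeal, Ideal.mem_comap]
    change a ∈ p.asIdeal ↔ a ^ d.toNat * wt f g i ∈ p.asIdeal
    constructor
    · intro h
      exact Ideal.mul_mem_right _ _ (Ideal.pow_mem_of_mem _ h d.toNat hDpos)
    · intro h
      rcases p.2.mem_or_mem h with h1 | h1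
      · exact p.2.mem_of_pow_mem _ h1
      · exact absurd (p.asIdeal.eq_top_of_isUnit_mem h1 (isUnit_wt f g hfg i)) p.2.ne_top
  have hle : ∀ p q : {p : PrimeSpectrum S // p.asIdeal.IsHomogeneous 𝒜},
      PrimeSpectrum.comap (SetLike.GradeZero.subring 𝒜).subtype p.1 =
        PrimeSpectrum.comap (SetLike.GradeZero.subring 𝒜).subtype q.1 →
      p.1.asIdeal ≤ q.1.asIdeal := by
    intro p q hpq x hx
    rw [q.2.mem_iff]
    intro i
    have hxi : (decompose 𝒜 x i : S) ∈ p.1.asIdeal := (p.2.mem_iff.mp hx) i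
    have hmem : (decompose 𝒜 x i : S) ∈ 𝒜 i := SetLike.coe_mem _
    rw [hθ q.1 hmem, ← hpq, ← hθ p.1 hmem]
    exact hxi
  have hinj : Function.Injective (fun p : {p : PrimeSpectrum S // p.asIdeal.IsHomogeneous 𝒜} =>
      PrimeSpectrum.comap (SetLike.GradeZero.subring 𝒜).subtype p.1) :=
    fun p q h => Subtype.ext (PrimeSpectrum.ext (le_antisymm (hle p q h) (hle q p h.symm)))
  have hsurj : Function.Surjective
      (fun p : {p : PrimeSpectrum S // p.asIdeal.IsHomogeneous 𝒜} =>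
      PrimeSpectrum.comap (SetLike.GradeZero.subring 𝒜).subtype p.1) := by
    intro p₀
    have hIhom : (Ideal.map (SetLike.GradeZero.subring 𝒜).subtype p₀.asIdeal).IsHomogeneous 𝒜 := by
      apply Ideal.homogeneous_span
      rintro _ ⟨a, -, rfl⟩
      exact ⟨0, a.2⟩
    have hPhom := hIhom.radical
    have hP0 : ∀ x : SetLike.GradeZero.subring 𝒜,
        (x : S) ∈ (Ideal.map (SetLike.GradeZero.subring 𝒜).subtype p₀.asIdeal).radical ↔
          x ∈ p₀.asIdeal := by
      intro x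
      constructor
      · rintro ⟨n, hn⟩
        have : x ^ n ∈ p₀.asIdeal := map_inter 𝒜 p₀.asIdeal (x ^ n) (by simpa using hn)
        exact p₀.2.mem_of_pow_mem n this
      · intro hx
        exact Ideal.le_radical (Ideal.mem_map_of_mem _ hx)
    have hPne : (Ideal.map (SetLike.GradeZero.subring 𝒜).subtype p₀.asIdeal).radical ≠ ⊤ := by
      intro h
      have h1 : ((1 : SetLike.GradeZero.subring 𝒜) : S) ∈
          (Ideal.map (SetLike.GradeZero.subring 𝒜).subtype p₀.asIdeal).radical := by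
        rw [h]; trivial
      exact p₀.2.ne_top ((Ideal.eq_top_iff_one _).mpr ((hP0 1).mp h1))
    have hPprime : (Ideal.map (SetLike.GradeZero.subring 𝒜).subtype p₀.asIdeal).radical.IsPrime := by
      apply hPhom.isPrime_of_homogeneous_mem_or_mem hPne
      rintro a b ⟨i, ha⟩ ⟨j, hb⟩ hab
      obtain ⟨n, hn⟩ := hab
      let ta : SetLike.GradeZero.subring 𝒜 :=
        ⟨a ^ d.toNat * wt f g i, theta_mem 𝒜 f g d hf hg hd ha⟩
      let tb : SetLike.GradeZero.subring 𝒜 :=
        ⟨b ^ d.toNat * wt f g j, theta_mem 𝒜 f g d hf hg hd hb⟩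
      have h1 : (((ta * tb) ^ n : SetLike.GradeZero.subring 𝒜) : S) ∈
          Ideal.map (SetLike.GradeZero.subring 𝒜).subtype p₀.asIdeal := by
        have : (((ta * tb) ^ n : SetLike.GradeZero.subring 𝒜) : S) =
            ((a * b) ^ n) ^ d.toNat * (wt f g i * wt f g j) ^ n := by
          change ((a ^ d.toNat * wt f g i) * (b ^ d.toNat * wt f g j)) ^ n = _
          ring
        rw [this]
        exact Ideal.mul_mem_right _ _ (Ideal.pow_mem_of_mem _ hn d.toNat hDpos)
      have h2 : (ta * tb) ^ n ∈ p₀.asIdeal := map_inter 𝒜 p₀.asIdeal _ h1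
      have h3 : ta * tb ∈ p₀.asIdeal := p₀.2.mem_of_pow_mem n h2
      have key : ∀ {c : S} {l : ℤ} (hc : c ∈ 𝒜 l),
          (⟨c ^ d.toNat * wt f g l, theta_mem 𝒜 f g d hf hg hd hc⟩ :
            SetLike.GradeZero.subring 𝒜) ∈ p₀.asIdeal →
          c ∈ (Ideal.map (SetLike.GradeZero.subring 𝒜).subtype p₀.asIdeal).radical := by
        intro c l hc h
        have h4 : c ^ d.toNat * wt f g l ∈
            Ideal.map (SetLike.GradeZero.subring 𝒜).subtype p₀.asIdeal :=
          Ideal.mem_map_of_mem (SetLike.GradeZero.subring 𝒜).subtype h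
        obtain ⟨v, hv⟩ := (isUnit_wt f g hfg l).exists_right_inv
        refine ⟨d.toNat, ?_⟩
        have : c ^ d.toNat = (c ^ d.toNat * wt f g l) * v := by rw [mul_assoc, hv, mul_one]
        rw [this]
        exact Ideal.mul_mem_right _ _ h4
      rcases p₀.2.mem_or_mem h3 with h | h
      · exact Or.inl (key ha h)
      · exact Or.inr (key hb h)
    refine ⟨⟨⟨_, hPprime⟩, hPhom⟩, ?_⟩
    apply PrimeSpectrum.ext
    ext x
    exact hP0 x
  refine ⟨(PrimeSpectrum.continuous_comap _).comp continuous_subtype_val, ?_, ⟨hinj, hsurj⟩⟩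
  have hbasis := (PrimeSpectrum.isTopologicalBasis_basic_opens (R := S)).isInducing
    (Topology.IsInducing.subtypeVal (t := {p : PrimeSpectrum S | p.asIdeal.IsHomogeneous 𝒜}))
  rw [hbasis.isOpenMap_iff]
  rintro _ ⟨_, ⟨r, rfl⟩, rfl⟩
  have himg : (fun p : {p : PrimeSpectrum S // p.asIdeal.IsHomogeneous 𝒜} =>
        PrimeSpectrum.comap (SetLike.GradeZero.subring 𝒜).subtype p.1) ''
      (Subtype.val ⁻¹' (PrimeSpectrum.basicOpen r : Set (PrimeSpectrum S))) =
      ⋃ i : ℤ, (PrimeSpectrum.basicOpen (⟨(decompose 𝒜 r i : S) ^ d.toNat * wt f g i,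
        theta_mem 𝒜 f g d hf hg hd (SetLike.coe_mem _)⟩ : SetLike.GradeZero.subring 𝒜) :
          Set (PrimeSpectrum (SetLike.GradeZero.subring 𝒜))) := by
    ext p₀
    simp only [Set.mem_image, Set.mem_preimage, Set.mem_iUnion, SetLike.mem_coe,
      PrimeSpectrum.mem_basicOpen]
    constructor
    · rintro ⟨p, hp, rfl⟩
      by_contra hcon
      push Not at hcon
      apply hp
      rw [p.2.mem_iff]
      intro i
      exact (hθ p.1 (SetLike.coe_mem _)).mpr (hcon i)
    · rintro ⟨i, hi⟩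
      obtain ⟨p, rfl⟩ := hsurj p₀
      refine ⟨p, ?_, rfl⟩
      intro hr
      exact hi ((hθ p.1 (SetLike.coe_mem _)).mp ((p.2.mem_iff.mp hr) i))
  change IsOpen ((fun p : {p : PrimeSpectrum S // p.asIdeal.IsHomogeneous 𝒜} =>
        PrimeSpectrum.comap (SetLike.GradeZero.subring 𝒜).subtype p.1) ''
      (Subtype.val ⁻¹' (PrimeSpectrum.basicOpen r : Set (PrimeSpectrum S))))
  rw [himg]
  exact isOpen_iUnion fun i => (PrimeSpectrum.basicOpen _).2

end Groth.Agent.S9659
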