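import Groth.Statements.S9661
import Groth.Agent.Lib.Helper5PolyLike
import Groth.Agent.Lib.Helper4HilbFunA
import Groth.Agent.Lib.Helper4HilbFunD
import Groth.Agent.Lib.Helper4HilbMultA

set_option autoImplicit false
universe u
attribute [local instance] MvPolynomial.gradedAlgebra
open CAlg

namespace Groth.Agent.S9661

/-- Let k be a field, d ≥ 1, and I a nonzero homogeneous ideal of the standard-graded polynomial ring
k[X_1, …, X_d]; put M = k[X_1, …, X_d]/I. Then the function n ↦ dim_k M_n (equal to dim_k of the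
degree-n part of the polynomial ring minus dim_k of the degree-n part of I) coincides for all large
n with a polynomial of degree < d - 1, the zero polynomial if d = 1. -/
theorem result {k : Type u} [Field k] (d : ℕ) (hd : 0 < d)
    (I : HomogeneousIdeal (MvPolynomial.homogeneousSubmodule (Fin d) k)) (hI : I ≠ ⊥) :
    ∃ P : Polynomial ℚ, P.degree < ((d - 1 : ℕ) : WithBot ℕ) ∧ ∃ N : ℕ, ∀ n : ℕ, N ≤ n →
      ((Module.finrank k ↥(MvPolynomial.homogeneousSubmodule (Fin d) k n) : ℚ) -
        (Module.finrank k ↥(I.toIdeal.restrictScalars k ⊓ MvPolynomial.homogeneousSubmodule (Fin d) k n) : ℚ)) = P.eval (n : ℚ) := by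
  classical
  obtain ⟨n, rfl⟩ : ∃ n, d = n + 1 := ⟨d - 1, by omega⟩
  have hJ : I.toIdeal.IsHomogeneous (CohB1.polyGrading n k) := I.isHomogeneous
  have hne : I.toIdeal ≠ ⊥ := by
    intro h
    apply hI
    apply HomogeneousIdeal.toIdeal_injective
    rw [h]
    rfl
  obtain ⟨a, haI, ha0⟩ := Submodule.exists_mem_ne_zero_of_ne_bot hne
  have hdim : ringKrullDim (MvPolynomial (Fin (n + 1)) k ⧸ I.toIdeal) ≤ (n : WithBot ℕ∞) := by
    have h1 := ringKrullDim_quotient_succ_le_of_nonZeroDivisor (mem_nonZeroDivisors_of_ne_zero ha0)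
    have h2 : ringKrullDim (MvPolynomial (Fin (n + 1)) k) = ((n + 1 : ℕ) : WithBot ℕ∞) := by
      rw [MvPolynomial.ringKrullDim_of_isNoetherianRing, ringKrullDim_eq_zero_of_field]
      simp
    have h3 : ringKrullDim (MvPolynomial (Fin (n + 1)) k ⧸ I.toIdeal) ≤
        ringKrullDim (MvPolynomial (Fin (n + 1)) k ⧸ Ideal.span {a}) :=
      Groth.Agent.Lib.Helper4.HilbFun.ringKrullDim_quotient_anti
        ((Ideal.span_singleton_le_iff_mem _).mpr haI)
    rw [h2] at h1
    have h4 : ringKrullDim (MvPolynomial (Fin (n + 1)) k ⧸ I.toIdeal) + 1 ≤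
        ((n + 1 : ℕ) : WithBot ℕ∞) := (add_le_add_left h3 1).trans h1
    generalize ringKrullDim (MvPolynomial (Fin (n + 1)) k ⧸ I.toIdeal) = x at h4
    induction x using WithBot.recBotCoe with
    | bot => exact bot_le
    | coe b =>
      have h' : b + 1 ≤ ((n + 1 : ℕ) : ℕ∞) := by exact_mod_cast h4
      have hfin : b ≠ ⊤ := by
        rintro rfl
        simp at h'
      lift b to ℕ using hfin
      have h5 : b + 1 ≤ n + 1 := by exact_mod_cast h'
      have h6 : b ≤ n := by omega
      exact_mod_cast h6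
  have hpl := Groth.Agent.Lib.Helper4.HilbFun.isPolyLike_hfun k n I.toIdeal hJ n hdim
  obtain ⟨c, N, hc⟩ := (Groth.Agent.Lib.Helper5.PolyLike.isPolyLike_iff n _).mp hpl
  refine ⟨∑ i ∈ Finset.range n, Polynomial.C (c i : ℚ) * Groth.Agent.Lib.Helper4.HilbFun.P0 i,
    ?_, N, fun m hm => ?_⟩
  · refine lt_of_le_of_lt (Polynomial.degree_sum_le _ _) ?_
    rw [Finset.sup_lt_iff (WithBot.bot_lt_coe _)]
    intro i hi
    have hi' : i < n := Finset.mem_range.mp hi
    calc (Polynomial.C (c i : ℚ) * Groth.Agent.Lib.Helper4.HilbFun.P0 i).degree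
        ≤ (Groth.Agent.Lib.Helper4.HilbFun.P0 i).degree := by
          refine (Polynomial.degree_mul_le _ _).trans ?_
          have h0 : (Polynomial.C (c i : ℚ)).degree ≤ 0 := Polynomial.degree_C_le
          calc (Polynomial.C (c i : ℚ)).degree + (Groth.Agent.Lib.Helper4.HilbFun.P0 i).degree
              ≤ 0 + (Groth.Agent.Lib.Helper4.HilbFun.P0 i).degree := add_le_add h0 le_rfl
            _ = _ := zero_add _
      _ ≤ ((Groth.Agent.Lib.Helper4.HilbFun.P0 i).natDegree : WithBot ℕ) :=
          Polynomial.degree_le_natDegree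
      _ = (i : WithBot ℕ) := by rw [Groth.Agent.Lib.Helper4.HilbFun.P0_natDegree]
      _ < ((n + 1 - 1 : ℕ) : WithBot ℕ) := by
          rw [Nat.add_sub_cancel]
          exact_mod_cast hi'
  · rw [Groth.Agent.Lib.Helper4.HilbFun.finrank_eq_hilb_add I.toIdeal m]
    have h1 := hc m hm
    rw [Groth.Agent.Lib.Helper4.HilbFun.hfun_apply] at h1
    have h2 : ((Groth.Agent.Lib.Helper4.HilbFun.hilb I.toIdeal m : ℤ) : ℚ) =
        ((∑ i ∈ Finset.range n, c i * Groth.Agent.Lib.Helper5.PolyLike.B i m : ℤ) : ℚ) := by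
      rw [h1]
    rw [Polynomial.eval_finsetSum]
    push_cast at h2 ⊢
    rw [add_sub_cancel_right, h2]
    apply Finset.sum_congr rfl
    intro i _
    rw [Polynomial.eval_mul, Polynomial.eval_C, Groth.Agent.Lib.Helper4.HilbFun.P0_eval,
      Groth.Agent.Lib.Helper5.PolyLike.B_apply]
    congr 2
    rw [add_comm i m]
    exact_mod_cast (Nat.choose_symm_add (a := m) (b := i)).symm

end Groth.Agent.S9661
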