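import Groth.Statements.S9663
import Mathlib

set_option autoImplicit false
universe u
open CAlg

namespace Groth.Agent.S9663

/-- For a localization `g : M → M'` at powers of `a`, given as smul by raw powers. -/
theorem exists_pow_smul_eq {R : Type u} [CommRing R] {M M' : Type u} [AddCommGroup M] [Module R M]
    [AddCommGroup M'] [Module R M'] (a : R) (g : M →ₗ[R] M')
    [IsLocalizedModule (Submonoid.powers a) g] (y : M') :
    ∃ (n : ℕ) (m : M), a ^ n • y = g m := by
  obtain ⟨⟨m, s⟩, hs⟩ := IsLocalizedModule.surj (Submonoid.powers a) g y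
  obtain ⟨n, hn⟩ := s.2
  refine ⟨n, m, ?_⟩
  have hn' : a ^ n = (s : R) := hn
  rw [hn']
  exact hs

theorem exists_pow_smul_eq_zero {R : Type u} [CommRing R] {M M' : Type u} [AddCommGroup M]
    [Module R M] [AddCommGroup M'] [Module R M'] (a : R) (g : M →ₗ[R] M')
    [IsLocalizedModule (Submonoid.powers a) g] (m : M) (h : g m = 0) :
    ∃ n : ℕ, a ^ n • m = 0 := by
  obtain ⟨s, hs⟩ := (IsLocalizedModule.eq_zero_iff (Submonoid.powers a) g).mp h
  obtain ⟨n, hn⟩ := s.2
  refine ⟨n, ?_⟩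
  have hn' : a ^ n = (s : R) := hn
  rw [hn']
  exact hs

theorem pow_smul_injective {R : Type u} [CommRing R] {M M' : Type u} [AddCommGroup M]
    [Module R M] [AddCommGroup M'] [Module R M'] (a : R) (g : M →ₗ[R] M')
    [IsLocalizedModule (Submonoid.powers a) g] (n : ℕ) (y : M') (h : a ^ n • y = 0) : y = 0 := by
  have := IsLocalizedModule.smul_injective g (⟨a ^ n, n, rfl⟩ : Submonoid.powers a)
  apply this
  change a ^ n • y = a ^ n • (0 : M')
  rw [h, smul_zero]

theorem pow_smul_injective_of_isUnit {R : Type u} [CommRing R] {M : Type u} [AddCommGroup M]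
    [Module R M] (a : R) (ha : IsUnit (algebraMap R (Module.End R M) a)) (n : ℕ) (y : M)
    (h : a ^ n • y = 0) : y = 0 := by
  have hu : IsUnit (algebraMap R (Module.End R M) (a ^ n)) := by
    rw [map_pow]; exact ha.pow n
  have := ((Module.End.isUnit_iff _).mp hu).injective
  apply this
  rw [map_zero]
  exact h

theorem pow_smul_surjective_of_isUnit {R : Type u} [CommRing R] {M : Type u} [AddCommGroup M]
    [Module R M] (a : R) (ha : IsUnit (algebraMap R (Module.End R M) a)) (n : ℕ) (y : M) :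
    ∃ x : M, a ^ n • x = y := by
  have hu : IsUnit (algebraMap R (Module.End R M) (a ^ n)) := by
    rw [map_pow]; exact ha.pow n
  obtain ⟨x, hx⟩ := ((Module.End.isUnit_iff _).mp hu).surjective y
  exact ⟨x, hx⟩


/-- Let R be a ring and f_i, i in a finite index set, elements of R (no condition on the ideal they
generate). Suppose given for each i an R-module M_i on which f_i acts invertibly, for each pair (i,
j) an R-linear isomorphism ψ_ij : (M_i)_{f_j} → (M_j)_{f_i}, and suppose the cocycle condition ψ_jk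
∘ ψ_ij = ψ_ik holds as maps (M_i)_{f_j f_k} → (M_k)_{f_i f_j} for all triples (i, j, k). All
localizations are given through their universal properties: (M_i)_{f_j} with its map g from M_i;
(M_i)_{f_j f_k} with its map t from M_i and the compatible maps u from (M_i)_{f_j} and v from
(M_i)_{f_k}; and the three localized isomorphisms Ψ₁ (ψ_ij on (M_i)_{f_j f_k}), Ψ₂ (ψ_jk on
(M_j)_{f_i f_k}) and Ψ₃ (ψ_ik on (M_i)_{f_j f_k}) are given as maps compatible with the ψ's. Let M ⊆
Π_i M_i be the submodule of families (m_i) with m_i/1 = ψ_ji(m_j/1) in (M_i)_{f_j} for all i, j.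
Then for each i the projection M → M_i exhibits M_i as the localization of M at f_i. -/
theorem result {R : Type u} [CommRing R] {ι : Type u} [Finite ι] (f : ι → R)
    (Mi : ι → Type u) [∀ i, AddCommGroup (Mi i)] [∀ i, Module R (Mi i)]
    (hMi : ∀ i, IsUnit (algebraMap R (Module.End R (Mi i)) (f i)))
    (Mij : ι → ι → Type u) [∀ i j, AddCommGroup (Mij i j)] [∀ i j, Module R (Mij i j)]
    (g : ∀ i j, Mi i →ₗ[R] Mij i j) [∀ i j, IsLocalizedModule (Submonoid.powers (f j)) (g i j)]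
    (ψ : ∀ i j, Mij i j ≃ₗ[R] Mij j i)
    (T : ι → ι → ι → Type u) [∀ i j k, AddCommGroup (T i j k)] [∀ i j k, Module R (T i j k)]
    (t : ∀ i j k, Mi i →ₗ[R] T i j k) [∀ i j k, IsLocalizedModule (Submonoid.powers (f j * f k)) (t i j k)]
    (u : ∀ i j k, Mij i j →ₗ[R] T i j k) (hu : ∀ i j k, u i j k ∘ₗ g i j = t i j k)
    (v : ∀ i j k, Mij i k →ₗ[R] T i j k) (hv : ∀ i j k, v i j k ∘ₗ g i k = t i j k)
    (Ψ₁ : ∀ i j k, T i j k →ₗ[R] T j i k) (hΨ₁ : ∀ i j k, Ψ₁ i j k ∘ₗ u i j k = u j i k ∘ₗ (ψ i j).toLinearMap)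
    (Ψ₂ : ∀ i j k, T j i k →ₗ[R] T k i j) (hΨ₂ : ∀ i j k, Ψ₂ i j k ∘ₗ v j i k = v k i j ∘ₗ (ψ j k).toLinearMap)
    (Ψ₃ : ∀ i j k, T i j k →ₗ[R] T k i j) (hΨ₃ : ∀ i j k, Ψ₃ i j k ∘ₗ v i j k = u k i j ∘ₗ (ψ i k).toLinearMap)
    (hcoc : ∀ i j k, Ψ₂ i j k ∘ₗ Ψ₁ i j k = Ψ₃ i j k)
    (M : Submodule R (∀ i, Mi i)) (hM : ∀ m : ∀ i, Mi i, m ∈ M ↔ ∀ i j, g i j (m i) = ψ j i (g j i (m j))) (i : ι) :
    IsLocalizedModule (Submonoid.powers (f i)) ((LinearMap.proj i).comp M.subtype : ↥M →ₗ[R] Mi i) := by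
  classical
  -- (B) the kernel of `v a b c` is `f b`-power torsion
  have hB : ∀ (a b c : ι) (y : Mij a c), v a b c y = 0 → ∃ n : ℕ, f b ^ n • y = 0 := by
    intro a b c y hy
    obtain ⟨n, m, hm⟩ := exists_pow_smul_eq (f c) (g a c) y
    have h1 : t a b c m = 0 := by
      rw [← hv a b c, LinearMap.comp_apply, ← hm, map_smul, hy, smul_zero]
    obtain ⟨k, hk⟩ := exists_pow_smul_eq_zero (f b * f c) (t a b c) m h1
    refine ⟨k, ?_⟩
    apply pow_smul_injective (f c) (g a c) (n + k)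
    have h2 : f c ^ (n + k) • f b ^ k • y = (f b * f c) ^ k • (f c ^ n • y) := by
      rw [smul_smul, smul_smul]; congr 1; ring
    rw [h2, hm, ← map_smul, hk, map_zero]
  have hgii_inj : ∀ (a : ι) (x : Mi a), g a a x = 0 → x = 0 := by
    intro a x hx
    obtain ⟨n, hn⟩ := exists_pow_smul_eq_zero (f a) (g a a) x hx
    exact pow_smul_injective_of_isUnit (f a) (hMi a) n x hn
  have hgii_surj : ∀ (a : ι) (y : Mij a a), ∃ x, g a a x = y := by
    intro a y
    obtain ⟨n, m, hm⟩ := exists_pow_smul_eq (f a) (g a a) y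
    obtain ⟨x, hx⟩ := pow_smul_surjective_of_isUnit (f a) (hMi a) n m
    refine ⟨x, ?_⟩
    have h1 : f a ^ n • (g a a x - y) = 0 := by
      rw [smul_sub, ← map_smul, hx, hm, sub_self]
    have h2 := pow_smul_injective (f a) (g a a) n _ h1
    exact sub_eq_zero.mp h2
  have huv : ∀ (a : ι) (y : Mij a a), u a a a y = v a a a y := by
    intro a y
    obtain ⟨x, rfl⟩ := hgii_surj a y
    have h1 := LinearMap.congr_fun (hu a a a) x
    have h2 := LinearMap.congr_fun (hv a a a) x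
    simp only [LinearMap.comp_apply] at h1 h2
    rw [h1, h2]
  have hψid : ∀ (a : ι) (y : Mij a a), ψ a a y = y := by
    intro a y
    have h1 : Ψ₁ a a a (u a a a y) = u a a a (ψ a a y) := LinearMap.congr_fun (hΨ₁ a a a) y
    have h2 : Ψ₂ a a a (v a a a (ψ a a y)) = v a a a (ψ a a (ψ a a y)) :=
      LinearMap.congr_fun (hΨ₂ a a a) (ψ a a y)
    have h3 : Ψ₃ a a a (v a a a y) = u a a a (ψ a a y) := LinearMap.congr_fun (hΨ₃ a a a) y
    have h4 : Ψ₂ a a a (Ψ₁ a a a (u a a a y)) = Ψ₃ a a a (u a a a y) :=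
      LinearMap.congr_fun (hcoc a a a) (u a a a y)
    rw [h1, huv a (ψ a a y), h2, huv a y, h3, huv a (ψ a a y)] at h4
    have h5 : v a a a (ψ a a (ψ a a y) - ψ a a y) = 0 := by rw [map_sub, h4, sub_self]
    obtain ⟨n, hn⟩ := hB a a a _ h5
    have h6 := pow_smul_injective (f a) (g a a) n _ hn
    have h7 : ψ a a (ψ a a y) = ψ a a y := sub_eq_zero.mp h6
    exact (ψ a a).injective h7
  -- the cocycle computation
  have hkey : ∀ (y' : Mi i) (m : ∀ j, Mi j), (∀ j, g j i (m j) = ψ i j (g i j y')) →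
      ∀ j k, ∃ n : ℕ, f i ^ n • (ψ j k (g j k (m j)) - g k j (m k)) = 0 := by
    intro y' m hm j k
    apply hB k i j
    rw [map_sub, sub_eq_zero]
    have hx1 : t i j k y' = u i j k (g i j y') := (LinearMap.congr_fun (hu i j k) y').symm
    have hx2 : t i j k y' = v i j k (g i k y') := (LinearMap.congr_fun (hv i j k) y').symm
    have e1 : Ψ₁ i j k (t i j k y') = v j i k (g j k (m j)) := by
      rw [hx1]
      have h1 := LinearMap.congr_fun (hΨ₁ i j k) (g i j y')
      simp only [LinearMap.comp_apply, LinearEquiv.coe_coe] at h1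
      rw [h1, ← hm j]
      have a1 := LinearMap.congr_fun (hu j i k) (m j)
      have a2 := LinearMap.congr_fun (hv j i k) (m j)
      simp only [LinearMap.comp_apply] at a1 a2
      rw [a1, a2]
    have e2 : Ψ₂ i j k (Ψ₁ i j k (t i j k y')) = v k i j (ψ j k (g j k (m j))) := by
      rw [e1]
      have h1 := LinearMap.congr_fun (hΨ₂ i j k) (g j k (m j))
      simpa only [LinearMap.comp_apply, LinearEquiv.coe_coe] using h1
    have e3 : Ψ₃ i j k (t i j k y') = v k i j (g k j (m k)) := by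
      rw [hx2]
      have h1 := LinearMap.congr_fun (hΨ₃ i j k) (g i k y')
      simp only [LinearMap.comp_apply, LinearEquiv.coe_coe] at h1
      rw [h1, ← hm k]
      have a1 := LinearMap.congr_fun (hu k i j) (m k)
      have a2 := LinearMap.congr_fun (hv k i j) (m k)
      simp only [LinearMap.comp_apply] at a1 a2
      rw [a1, a2]
    have e4 := LinearMap.congr_fun (hcoc i j k) (t i j k y')
    simp only [LinearMap.comp_apply] at e4
    rw [← e2, ← e3, e4]
  refine ⟨?_, ?_, ?_⟩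
  · rintro ⟨s, n, rfl⟩
    change IsUnit (algebraMap R (Module.End R (Mi i)) (f i ^ n))
    rw [map_pow]; exact (hMi i).pow n
  · intro y
    have h1 : ∀ j, ∃ (n : ℕ) (m' : Mi j), f i ^ n • ψ i j (g i j y) = g j i m' := fun j =>
      exists_pow_smul_eq (f i) (g j i) _
    choose n m' hm' using h1
    obtain ⟨N, hN⟩ : ∃ N, ∀ j, n j ≤ N := by
      obtain ⟨N, hN⟩ := Set.finite_range n |>.bddAbove
      exact ⟨N, fun j => hN ⟨j, rfl⟩⟩
    have hm : ∀ j, g j i (f i ^ (N - n j) • m' j) = ψ i j (g i j (f i ^ N • y)) := by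
      intro j
      rw [map_smul, ← hm' j, smul_smul, ← pow_add, Nat.sub_add_cancel (hN j), map_smul, map_smul]
    have h2 := hkey (f i ^ N • y) (fun j => f i ^ (N - n j) • m' j) hm
    choose n2 hn2 using h2
    obtain ⟨N', hN'⟩ : ∃ N', ∀ p : ι × ι, n2 p.1 p.2 ≤ N' := by
      obtain ⟨N', hN'⟩ := Set.finite_range (fun p : ι × ι => n2 p.1 p.2) |>.bddAbove
      exact ⟨N', fun p => hN' ⟨p, rfl⟩⟩
    have hmem : (fun j => f i ^ N' • (f i ^ (N - n j) • m' j)) ∈ M := by
      rw [hM]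
      intro a b
      have h3 := hn2 b a
      have h4 : f i ^ N' • (ψ b a (g b a (f i ^ (N - n b) • m' b)) -
          g a b (f i ^ (N - n a) • m' a)) = 0 := by
        rw [← Nat.sub_add_cancel (hN' (b, a)), pow_add, mul_smul, h3, smul_zero]
      rw [smul_sub, sub_eq_zero] at h4
      rw [map_smul (g a b), map_smul (g b a), map_smul (ψ b a)]
      exact h4.symm
    have hmi : f i ^ (N - n i) • m' i = f i ^ N • y := by
      have h5 := hm i
      rw [hψid] at h5
      have h6 : g i i (f i ^ (N - n i) • m' i - f i ^ N • y) = 0 := by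
        rw [map_sub, h5, sub_self]
      exact sub_eq_zero.mp (hgii_inj i _ h6)
    refine ⟨(⟨_, hmem⟩, ⟨f i ^ (N' + N), N' + N, rfl⟩), ?_⟩
    change f i ^ (N' + N) • y = f i ^ N' • (f i ^ (N - n i) • m' i)
    rw [hmi, pow_add, mul_smul]
  · intro x₁ x₂ hx
    have hx' : (x₁ : ∀ j, Mi j) i = (x₂ : ∀ j, Mi j) i := hx
    have hd := (hM _).mp (x₁ - x₂).2
    have h1 : ∀ j, ∃ n : ℕ, f i ^ n • ((x₁ : ∀ j, Mi j) j - (x₂ : ∀ j, Mi j) j) = 0 := by
      intro j
      apply exists_pow_smul_eq_zero (f i) (g j i)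
      have h2 := hd j i
      simp only [Submodule.coe_sub, Pi.sub_apply] at h2
      rw [h2, hx', sub_self, map_zero, map_zero]
    choose n hn using h1
    obtain ⟨N, hN⟩ : ∃ N, ∀ j, n j ≤ N := by
      obtain ⟨N, hN⟩ := Set.finite_range n |>.bddAbove
      exact ⟨N, fun j => hN ⟨j, rfl⟩⟩
    refine ⟨⟨f i ^ N, N, rfl⟩, ?_⟩
    apply Subtype.ext
    funext j
    change f i ^ N • (x₁ : ∀ j, Mi j) j = f i ^ N • (x₂ : ∀ j, Mi j) j
    rw [← sub_eq_zero, ← smul_sub, ← Nat.sub_add_cancel (hN j), pow_add, mul_smul, hn j, smul_zero]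

end Groth.Agent.S9663
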