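import Groth.Statements.S9664
import Groth.Agent.Lib.Helper13Fiber
-- import your own Groth.Agent.* helpers here

set_option autoImplicit false
universe u
open CAlg

namespace Groth.Agent.S9664

/-- Let R → S be a ring map, N an S-module, q a prime of S and p the prime of R below q; an associated
prime of a module is a prime ideal equal to the annihilator of some element. Then q is an associated
prime of the S-module N ⊗_R κ(p) (the fibre module of N over p, an S-module by restriction of
scalars along S → S ⊗_R κ(p)) if and only if q is the inverse image in S of an associated prime of N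
⊗_R κ(p) regarded as a module over the fibre ring S ⊗_R κ(p). -/
theorem result {R S : Type u} [CommRing R] [CommRing S] [Algebra R S] (N : Type u) [AddCommGroup N] [Module S N] [Module R N] [IsScalarTower R S N]
    (p : Ideal R) [p.IsPrime] (q : Ideal S) [q.IsPrime] (hq : q.comap (algebraMap R S) = p) :
    q ∈ FlatCA.ass S (FlatCA.fiberMod p S N) ↔
      ∃ Q ∈ FlatCA.ass (p.Fiber S) (FlatCA.fiberMod p S N),
        Q.comap (Algebra.TensorProduct.includeRight (R := R) (A := p.ResidueField) (B := S)).toRingHom = q := by
  classical
  letI : Algebra S (p.Fiber S) := Algebra.TensorProduct.rightAlgebra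
  have hι : ∀ x : S, (Algebra.TensorProduct.includeRight (R := R) (A := p.ResidueField) (B := S)).toRingHom x =
      algebraMap S (p.Fiber S) x := fun x => rfl
  have hcompat : ∀ (x : S) (z : FlatCA.fiberMod p S N),
      algebraMap S (p.Fiber S) x • z = x • z := fun x z => algebraMap_smul (p.Fiber S) x z
  have hcomap : ∀ z : FlatCA.fiberMod p S N,
      ((Submodule.span (p.Fiber S) {z}).annihilator).comap
        (Algebra.TensorProduct.includeRight (R := R) (A := p.ResidueField) (B := S)).toRingHom =
      (Submodule.span S {z}).annihilator := by
    intro z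
    ext x
    rw [Ideal.mem_comap, hι, Submodule.mem_annihilator_span_singleton,
      Submodule.mem_annihilator_span_singleton, hcompat]
  constructor
  · rintro ⟨hqp, z, hz⟩
    refine ⟨(Submodule.span (p.Fiber S) {z}).annihilator, ⟨?_, z, rfl⟩, ?_⟩
    · have hmem : ∀ x : S, algebraMap S (p.Fiber S) x ∈ (Submodule.span (p.Fiber S) {z}).annihilator ↔ x ∈ q := by
        intro x
        rw [hz, Submodule.mem_annihilator_span_singleton, Submodule.mem_annihilator_span_singleton,
          hcompat]
      constructor
      · intro htop
        apply hqp.ne_top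
        rw [Ideal.eq_top_iff_one, ← hmem, map_one, htop]
        exact Submodule.mem_top
      · intro f g hfg
        obtain ⟨u, hu, x, hx⟩ := Groth.Agent.Helper13Fiber.exists_isUnit_mul_eq_algebraMap p S f
        obtain ⟨v, hv, y, hy⟩ := Groth.Agent.Helper13Fiber.exists_isUnit_mul_eq_algebraMap p S g
        have h1 : algebraMap S (p.Fiber S) (x * y) ∈ (Submodule.span (p.Fiber S) {z}).annihilator := by
          rw [map_mul, ← hx, ← hy]
          have : u * f * (v * g) = (u * v) * (f * g) := by ring
          rw [this]
          exact Ideal.mul_mem_left _ _ hfg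
        rw [hmem] at h1
        rcases hqp.mem_or_mem h1 with h2 | h2
        · left
          rw [← hmem, ← hx] at h2
          exact (Ideal.unit_mul_mem_iff_mem _ hu).mp h2
        · right
          rw [← hmem, ← hy] at h2
          exact (Ideal.unit_mul_mem_iff_mem _ hv).mp h2
    · rw [hcomap, hz]
  · rintro ⟨Q, ⟨hQ, z, hz⟩, rfl⟩
    refine ⟨Ideal.comap_isPrime _ Q, z, ?_⟩
    rw [hz, hcomap]

end Groth.Agent.S9664
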