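import Groth.Statements.S9666
import Groth.Agent.Lib.Helper13Fiber
-- import your own Groth.Agent.* helpers here

set_option autoImplicit false
universe u
open CAlg

namespace Groth.Agent.S9666

/-- Part (3): (A ⊆ A_fin): let R → S be a ring map with S Noetherian, N an S-module, q a prime of S and
p the prime of R below q; an associated prime of a module is a prime ideal equal to the annihilator
of some element. If q is an associated prime of the S-module N ⊗_R κ(p) (the fibre module over p, an
S-module by restriction of scalars), then q is an associated prime of the S-module N/pN. -/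
theorem result {R S : Type u} [CommRing R] [CommRing S] [Algebra R S] (N : Type u) [AddCommGroup N] [Module S N] [Module R N] [IsScalarTower R S N] [IsNoetherianRing S]
    (p : Ideal R) [p.IsPrime] (q : Ideal S) [q.IsPrime] (hq : q.comap (algebraMap R S) = p)
    (h : q ∈ FlatCA.ass S (FlatCA.fiberMod p S N)) :
    q ∈ FlatCA.ass S (N ⧸ (p.map (algebraMap R S)) • (⊤ : Submodule S N)) := by
  classical
  obtain ⟨hqp, z, hz⟩ := h
  obtain ⟨t₀, ht₀, n, htn⟩ := Groth.Agent.Helper13Fiber.exists_smul_eq_toFiberMod p S N z
  have hq' : ∀ x : S, x ∈ q ↔ x • FlatCA.toFiberMod p S N n = 0 := by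
    intro x
    rw [hz, Submodule.mem_annihilator_span_singleton, ← htn, smul_comm,
      Groth.Agent.Helper13Fiber.smul_eq_zero_iff p S N ht₀]
  have hq'' : ∀ x : S, x ∈ q ↔ ∃ t ∉ p, algebraMap R S t • x • n ∈
      ((p.map (algebraMap R S)) • (⊤ : Submodule S N)) := by
    intro x
    rw [hq', Groth.Agent.Helper13Fiber.smul_toFiberMod_eq_zero_iff]
  obtain ⟨s, hs⟩ := (isNoetherianRing_iff_ideal_fg S).mp inferInstance q
  have key : ∀ s' : Finset S, (∀ x ∈ s', x ∈ q) → ∃ t ∉ p, ∀ x ∈ s',
      algebraMap R S t • x • n ∈ ((p.map (algebraMap R S)) • (⊤ : Submodule S N)) := by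
    intro s'
    induction s' using Finset.induction_on with
    | empty =>
      intro _
      exact ⟨1, fun h1 => (Ideal.IsPrime.ne_top inferInstance) ((Ideal.eq_top_iff_one p).mpr h1),
        by simp⟩
    | insert a s' ha ih =>
      intro hall
      obtain ⟨t₁, ht₁, h₁⟩ := ih (fun x hx => hall x (Finset.mem_insert_of_mem hx))
      obtain ⟨t₂, ht₂, h₂⟩ := (hq'' a).mp (hall a (Finset.mem_insert_self a s'))
      refine ⟨t₁ * t₂, fun h => (Ideal.IsPrime.mem_or_mem inferInstance h).elim ht₁ ht₂, ?_⟩
      intro x hx
      rcases Finset.mem_insert.mp hx with rfl | hx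
      · rw [map_mul, mul_smul]
        exact Submodule.smul_mem _ _ h₂
      · rw [map_mul, mul_comm, mul_smul]
        exact Submodule.smul_mem _ _ (h₁ x hx)
  obtain ⟨t, ht, hts⟩ := key s (fun x hx => by rw [← hs]; exact Ideal.subset_span hx)
  have htq : algebraMap R S t ∉ q := by
    intro h
    apply ht
    rw [← hq]
    exact h
  refine ⟨hqp, Submodule.Quotient.mk (algebraMap R S t • n), ?_⟩
  apply le_antisymm
  · rw [← hs, Ideal.span_le]
    intro x hx
    rw [SetLike.mem_coe, Submodule.mem_annihilator_span_singleton, ← Submodule.Quotient.mk_smul,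
      Submodule.Quotient.mk_eq_zero, smul_comm]
    exact hts x hx
  · intro x hx
    rw [Submodule.mem_annihilator_span_singleton, ← Submodule.Quotient.mk_smul,
      Submodule.Quotient.mk_eq_zero, smul_smul] at hx
    have h1 : x * algebraMap R S t ∈ q := by
      rw [hq'']
      refine ⟨1, fun h1 => (Ideal.IsPrime.ne_top inferInstance) ((Ideal.eq_top_iff_one p).mpr h1), ?_⟩
      rw [map_one, one_smul]
      exact hx
    exact (hqp.mem_or_mem h1).resolve_right htq

end Groth.Agent.S9666
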