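import Groth.Statements.S9667
import Mathlib.RingTheory.TensorProduct.DirectLimitFG
-- import your own Groth.Agent.* helpers here

set_option autoImplicit false
universe u
open CAlg

namespace Groth.Agent.S9667

open TensorProduct in
theorem comm_lTensor {R : Type u} [CommRing R] {N M M' : Type u} [AddCommGroup N] [Module R N]
    [AddCommGroup M] [Module R M] [AddCommGroup M'] [Module R M'] (f : M →ₗ[R] M') (t : N ⊗[R] M) :
    LinearMap.rTensor N f (TensorProduct.comm R N M t) =
      TensorProduct.comm R N M' (LinearMap.lTensor N f t) := by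
  induction t using TensorProduct.induction_on with
  | zero => simp
  | tmul x y => simp
  | add x y hx hy => simp only [map_add, hx, hy]

open TensorProduct in
theorem eq_zero_lTensor {R : Type u} [CommRing R] {N M : Type u} [AddCommGroup N] [Module R N]
    [AddCommGroup M] [Module R M] {P : Submodule R M} (hP : P.FG) {t : N ⊗[R] ↥P}
    (h : LinearMap.lTensor N P.subtype t = 0) :
    ∃ (Q : Submodule R M) (hPQ : P ≤ Q), Q.FG ∧ LinearMap.lTensor N (Submodule.inclusion hPQ) t = 0 := by
  have h1 : LinearMap.rTensor N P.subtype (TensorProduct.comm R N ↥P t) = 0 := by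
    rw [comm_lTensor, h, map_zero]
  obtain ⟨Q, hPQ, hQ, h2⟩ := TensorProduct.eq_zero_of_fg_of_subtype_eq_zero hP h1
  refine ⟨Q, hPQ, hQ, ?_⟩
  rw [comm_lTensor] at h2
  exact (TensorProduct.comm R N ↥Q).injective (by rw [h2, map_zero])


open TensorProduct in
/-- Part (3): (B = B_fin): let R → S be a ring map with S Noetherian, N an S-module, M an R-module and q
a prime of S; an associated prime of a module is a prime ideal equal to the annihilator of some
element. If q is an associated prime of the S-module N ⊗_R M, then there is a finitely generated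
R-submodule M' ⊆ M such that q is an associated prime of the S-module N ⊗_R M'. -/
theorem result {R S : Type u} [CommRing R] [CommRing S] [Algebra R S] (N : Type u) [AddCommGroup N] [Module S N] [Module R N] [IsScalarTower R S N] [IsNoetherianRing S]
    (M : Type u) [AddCommGroup M] [Module R M] (q : Ideal S) [q.IsPrime] (h : q ∈ FlatCA.ass S (N ⊗[R] M)) :
    ∃ M' : Submodule R M, M'.FG ∧ q ∈ FlatCA.ass S (N ⊗[R] ↥M') := by
  classical
  obtain ⟨hq, z, hz⟩ := h
  obtain ⟨s, hs⟩ := (isNoetherianRing_iff_ideal_fg S).mp inferInstance q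
  have key : ∀ s' : Finset S, (∀ x ∈ s', x • z = 0) →
      ∃ (M' : Submodule R M) (z' : N ⊗[R] ↥M'), M'.FG ∧
        TensorProduct.AlgebraTensorModule.lTensor S N M'.subtype z' = z ∧ ∀ x ∈ s', x • z' = 0 := by
    intro s'
    induction s' using Finset.induction_on with
    | empty =>
      intro _
      obtain ⟨M', hfin, hM'⟩ := TensorProduct.exists_finite_submodule_right_of_setFinite (M := N) ({z} : Set (N ⊗[R] M)) (Set.finite_singleton z)
      obtain ⟨z', hz'⟩ := hM' (Set.mem_singleton z)
      exact ⟨M', z', Module.Finite.iff_fg.mp hfin, hz', by simp⟩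
    | insert a s' ha ih =>
      intro hall
      obtain ⟨M', z', hfg, hz', hs'⟩ := ih (fun x hx => hall x (Finset.mem_insert_of_mem hx))
      have h0 : LinearMap.lTensor N M'.subtype (a • z') = 0 := by
        have : TensorProduct.AlgebraTensorModule.lTensor S N M'.subtype (a • z') = 0 := by
          rw [map_smul, hz']
          exact hall a (Finset.mem_insert_self a s')
        exact this
      obtain ⟨Q, hPQ, hQ, h2⟩ := eq_zero_lTensor hfg h0
      set ψ : N ⊗[R] ↥M' →ₗ[S] N ⊗[R] ↥Q :=
        TensorProduct.AlgebraTensorModule.lTensor S N (Submodule.inclusion hPQ) with hψ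
      refine ⟨Q, ψ z', hQ, ?_, ?_⟩
      · rw [← hz', hψ, ← LinearMap.comp_apply, ← TensorProduct.AlgebraTensorModule.lTensor_comp]
        rfl
      · intro x hx
        rw [← map_smul]
        rcases Finset.mem_insert.mp hx with rfl | hx
        · exact h2
        · rw [hs' x hx, map_zero]
  have hsq : ∀ x ∈ s, x • z = 0 := by
    intro x hx
    have : x ∈ q := by
      rw [← hs]
      exact Ideal.subset_span hx
    rw [hz, Submodule.mem_annihilator_span_singleton] at this
    exact this
  obtain ⟨M', z', hfg, hz', hs'⟩ := key s hsq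
  refine ⟨M', hfg, hq, z', ?_⟩
  apply le_antisymm
  · rw [← hs, Ideal.span_le]
    intro x hx
    rw [SetLike.mem_coe, Submodule.mem_annihilator_span_singleton]
    exact hs' x hx
  · intro x hx
    rw [Submodule.mem_annihilator_span_singleton] at hx
    rw [hz, Submodule.mem_annihilator_span_singleton, ← hz', ← map_smul, hx, map_zero]

end Groth.Agent.S9667
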