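import Groth.Statements.S9668
-- import your own Groth.Agent.* helpers here

set_option autoImplicit false
universe u
open CAlg

namespace Groth.Agent.S9668

open TensorProduct in
/-- Part (4): (B = B_fin): let R → S be a ring map, N an S-module flat over R, M an R-module and q a
prime of S; an associated prime of a module is a prime ideal equal to the annihilator of some
element. If q is an associated prime of the S-module N ⊗_R M, then there is a finitely generated
R-submodule M' ⊆ M such that q is an associated prime of the S-module N ⊗_R M'. -/
theorem result {R S : Type u} [CommRing R] [CommRing S] [Algebra R S] (N : Type u) [AddCommGroup N] [Module S N] [Module R N] [IsScalarTower R S N] [Module.Flat R N]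
    (M : Type u) [AddCommGroup M] [Module R M] (q : Ideal S) [q.IsPrime] (h : q ∈ FlatCA.ass S (N ⊗[R] M)) :
    ∃ M' : Submodule R M, M'.FG ∧ q ∈ FlatCA.ass S (N ⊗[R] ↥M') := by
  classical
  obtain ⟨hq, z, hz⟩ := h
  obtain ⟨M', hfin, hM'⟩ := TensorProduct.exists_finite_submodule_right_of_setFinite (M := N) ({z} : Set (N ⊗[R] M)) (Set.finite_singleton z)
  obtain ⟨z', hz'⟩ := hM' (Set.mem_singleton z)
  refine ⟨M', Module.Finite.iff_fg.mp hfin, hq, z', ?_⟩
  set φ : N ⊗[R] ↥M' →ₗ[S] N ⊗[R] M := TensorProduct.AlgebraTensorModule.lTensor S N M'.subtype with hφ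
  have hφz : φ z' = z := by
    rw [hφ, ← hz']
    rfl
  have hinj : Function.Injective φ := by
    have := Module.Flat.lTensor_preserves_injective_linearMap (M := N) M'.subtype M'.injective_subtype
    intro a b hab
    apply this
    exact hab
  rw [hz]
  ext x
  rw [Submodule.mem_annihilator_span_singleton, Submodule.mem_annihilator_span_singleton]
  constructor
  · intro hx
    apply hinj
    rw [map_smul, hφz, hx, map_zero]
  · intro hx
    rw [← hφz, ← map_smul, hx, map_zero]

end Groth.Agent.S9668
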