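import Groth.Statements.S9670
import Groth.Agent.Lib.Helper13Fiber
import Groth.Agent.S9669
import Groth.Agent.S9648
-- import your own Groth.Agent.* helpers here

set_option autoImplicit false
universe u
open CAlg

namespace Groth.Agent.S9670

/-- Associated primes (annihilators of elements) in a short exact sequence. -/
theorem ass_subset_union {R : Type u} [CommRing R] {M' M M'' : Type u} [AddCommGroup M'] [Module R M']
    [AddCommGroup M] [Module R M] [AddCommGroup M''] [Module R M''] (f : M' →ₗ[R] M) (g : M →ₗ[R] M'')
    (hf : Function.Injective f) (hfg : Function.Exact f g) :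
    FlatCA.ass R M ⊆ FlatCA.ass R M' ∪ FlatCA.ass R M'' := by
  classical
  rintro q ⟨hq, z, hz⟩
  have hmem : ∀ y : R, y ∈ q ↔ y • z = 0 := by
    intro y
    rw [hz, Submodule.mem_annihilator_span_singleton]
  by_cases hcase : ∃ (x : R) (m' : M'), x • z = f m' ∧ m' ≠ 0
  · left
    obtain ⟨x, m', hx, hm'⟩ := hcase
    have hxq : x ∉ q := by
      intro hxq
      rw [hmem, hx] at hxq
      exact hm' (hf (by rw [hxq, map_zero]))
    refine ⟨hq, m', ?_⟩
    ext y
    rw [Submodule.mem_annihilator_span_singleton]
    constructor
    · intro hy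
      apply hf
      rw [map_smul, ← hx, smul_smul, map_zero, ← hmem]
      exact Ideal.mul_mem_right _ _ hy
    · intro hy
      have : (y * x) • z = 0 := by
        rw [mul_smul, hx, ← map_smul, hy, map_zero]
      rw [← hmem] at this
      exact (hq.mem_or_mem this).resolve_right hxq
  · right
    refine ⟨hq, g z, ?_⟩
    ext y
    rw [Submodule.mem_annihilator_span_singleton, ← map_smul]
    constructor
    · intro hy
      rw [(hmem y).mp hy, map_zero]
    · intro hy
      obtain ⟨m', hm'⟩ := (hfg _).mp hy
      by_contra hyq
      apply hcase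
      refine ⟨y, m', hm'.symm, ?_⟩
      rintro rfl
      apply hyq
      rw [hmem, ← hm', map_zero]

open TensorProduct in
theorem main {R S : Type u} [CommRing R] [CommRing S] [Algebra R S] (N : Type u) [AddCommGroup N]
    [Module S N] [Module R N] [IsScalarTower R S N] [IsNoetherianRing R] [Module.Flat R N]
    (M : Type u) [AddCommGroup M] [Module R M] [Module.Finite R M] :
    ∀ (q : Ideal S) (p : Ideal R), q.comap (algebraMap R S) = p →
      q ∈ FlatCA.ass S (N ⊗[R] M) →
      q ∈ FlatCA.ass S (N ⧸ (p.map (algebraMap R S)) • (⊤ : Submodule S N)) := by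
  classical
  induction ‹Module.Finite R M› using
    IsNoetherianRing.induction_on_isQuotientEquivQuotientPrime R with
  | subsingleton M =>
    rintro q p _ ⟨hqp, z, hz⟩
    exfalso
    apply hqp.ne_top
    rw [hz, Subsingleton.elim z 0, Ideal.eq_top_iff_one, Submodule.mem_annihilator_span_singleton,
      smul_zero]
  | quotient M p' e =>
    set m₀ : M := e.symm (Ideal.Quotient.mk p'.asIdeal 1) with hm₀
    have hgen : ∀ m : M, ∃ r : R, m = r • m₀ := by
      intro m
      obtain ⟨r, hr⟩ := Ideal.Quotient.mk_surjective (e m)
      refine ⟨r, ?_⟩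
      apply e.injective
      rw [map_smul, hm₀, LinearEquiv.apply_symm_apply, ← hr, Algebra.smul_def,
        Ideal.Quotient.algebraMap_eq, map_one, mul_one]
    have hann : p'.asIdeal = (Submodule.span R {m₀}).annihilator := by
      ext r
      rw [Submodule.mem_annihilator_span_singleton, hm₀, ← map_smul,
        LinearEquiv.map_eq_zero_iff, Algebra.smul_def, Ideal.Quotient.algebraMap_eq, map_one, mul_one,
        Ideal.Quotient.eq_zero_iff_mem]
    have hz' : ∀ z : N ⊗[R] M, ∃ n : N, z = n ⊗ₜ[R] m₀ := by
      intro z
      induction z using TensorProduct.induction_on with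
      | zero => exact ⟨0, by rw [TensorProduct.zero_tmul]⟩
      | tmul x m =>
        obtain ⟨r, rfl⟩ := hgen m
        exact ⟨r • x, by rw [TensorProduct.smul_tmul]⟩
      | add a b ha hb =>
        obtain ⟨n₁, rfl⟩ := ha
        obtain ⟨n₂, rfl⟩ := hb
        exact ⟨n₁ + n₂, by rw [TensorProduct.add_tmul]⟩
    rintro q p hqp ⟨hqprime, z, hz⟩
    obtain ⟨n, rfl⟩ := hz' z
    have hq1 : q ∈ FlatCA.ass S (N ⧸ (p'.asIdeal.map (algebraMap R S)) • (⊤ : Submodule S N)) := by
      refine ⟨hqprime, Submodule.Quotient.mk n, ?_⟩
      rw [hz]
      ext x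
      rw [Submodule.mem_annihilator_span_singleton, Submodule.mem_annihilator_span_singleton,
        ← Submodule.Quotient.mk_smul, Submodule.Quotient.mk_eq_zero, TensorProduct.smul_tmul',
        Groth.Agent.S9648.tmul_eq_zero_iff p'.asIdeal m₀ hann,
        Groth.Agent.Helper13Fiber.smul_top_eq_restrictScalars p'.asIdeal S N,
        Submodule.restrictScalars_mem]
    have hp' := (Groth.Agent.S9669.result N p'.asIdeal).2 q hq1
    rw [hqp] at hp'
    rw [hp']
    exact hq1
  | exact M₁ M₂ M₃ f g hf hg hfg h₁ h₃ =>
    intro q p hqp hq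
    have hF : Function.Injective (TensorProduct.AlgebraTensorModule.lTensor S N f) :=
      Module.Flat.lTensor_preserves_injective_linearMap (M := N) f hf
    have hE : Function.Exact (TensorProduct.AlgebraTensorModule.lTensor S N f)
        (TensorProduct.AlgebraTensorModule.lTensor S N g) :=
      lTensor_exact N hfg hg
    rcases ass_subset_union _ _ hF hE hq with h | h
    · exact h₁ q p hqp h
    · exact h₃ q p hqp h


open TensorProduct in
/-- Part (5): (B_fin ⊆ A_fin): let R → S be a ring map with R Noetherian, N an S-module flat over R, M a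
finite R-module, q a prime of S and p the prime of R below q; an associated prime of a module is a
prime ideal equal to the annihilator of some element. If q is an associated prime of the S-module N
⊗_R M, then q is an associated prime of the S-module N/pN. -/
theorem result {R S : Type u} [CommRing R] [CommRing S] [Algebra R S] (N : Type u) [AddCommGroup N] [Module S N] [Module R N] [IsScalarTower R S N] [IsNoetherianRing R] [Module.Flat R N]
    (M : Type u) [AddCommGroup M] [Module R M] [Module.Finite R M] (p : Ideal R) [p.IsPrime] (q : Ideal S) [q.IsPrime] (hq : q.comap (algebraMap R S) = p)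
    (h : q ∈ FlatCA.ass S (N ⊗[R] M)) :
    q ∈ FlatCA.ass S (N ⧸ (p.map (algebraMap R S)) • (⊤ : Submodule S N)) := by
  exact main N M q p hq h

end Groth.Agent.S9670
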