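import Groth.Statements.S9671
import Groth.Agent.Lib.Helper14Rees

set_option autoImplicit false
universe u
open CAlg

namespace Groth.Agent.S9671

open DirectSum Groth.Agent.Lib.Helper14.Rees

variable {R R' : Type u} [CommRing R] [CommRing R'] [Algebra R R']

/-- `U = 0 × W` inside `R × R'`. -/
def Usub (W : Submodule R R') : Submodule R (R × R') := W.map (LinearMap.inr R R R')

theorem mem_Usub {W : Submodule R R'} {x : R × R'} : x ∈ Usub W ↔ x.1 = 0 ∧ x.2 ∈ W := by
  constructor
  · rintro ⟨y, hy, rfl⟩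
    exact ⟨rfl, hy⟩
  · rintro ⟨h1, h2⟩
    refine ⟨x.2, h2, ?_⟩
    ext
    · exact h1.symm
    · rfl

theorem inr_mem_Usub_pow (W : Submodule R R') (d : ℕ) (hd : 1 ≤ d) (y : R') (hy : y ∈ W ^ d) :
    ((0 : R), y) ∈ Usub W ^ d := by
  induction d, hd using Nat.le_induction generalizing y with
  | base =>
    rw [pow_one] at hy ⊢
    exact mem_Usub.mpr ⟨rfl, hy⟩
  | succ d hd ih =>
    rw [pow_succ] at hy ⊢
    refine Submodule.mul_induction_on hy ?_ ?_
    · intro a ha b hb
      have h1 : ((0 : R), a * b) = ((0 : R), a) * ((0 : R), b) := by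
        ext <;> simp
      rw [h1]
      rw [← pow_one W] at hb
      exact Submodule.mul_mem_mul (ih a ha) (by
        have := mem_Usub (W := W) (x := ((0 : R), b))
        rw [pow_one] at hb
        exact this.mpr ⟨rfl, hb⟩)
    · intro a b ha hb
      have h1 : ((0 : R), a + b) = ((0 : R), a) + ((0 : R), b) := by
        ext <;> simp
      rw [h1]
      exact Submodule.add_mem _ ha hb

/-- elements of positive powers of `U` have first component `0`. -/
theorem fst_eq_zero_of_mem_pow (W : Submodule R R') (d : ℕ) (hd : 1 ≤ d) (x : R × R')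
    (hx : x ∈ Usub W ^ d) : x.1 = 0 := by
  have hle : Usub W ^ d ≤ (LinearMap.ker (LinearMap.fst R R R')) := by
    obtain ⟨e, rfl⟩ : ∃ e, d = e + 1 := ⟨d - 1, by omega⟩
    rw [pow_succ]
    rw [Submodule.mul_le]
    intro a _ b hb
    rw [LinearMap.mem_ker]
    change (a * b).1 = 0
    rw [Prod.fst_mul, (mem_Usub.mp hb).1, mul_zero]
  exact hle hx


variable (W : Submodule R R')

/-- The Rees-type ring `⨁ d, U^d`. -/
abbrev Sring : Type u := ⨁ d : ℕ, ↥(Usub W ^ d)

/-- its grading -/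
abbrev grading : ℕ → Submodule R (Sring W) := piece (fun d => Usub W ^ d)

/-- dehomogenization `S → R'` -/
noncomputable def ε : Sring W →ₐ[R] R' :=
  (AlgHom.snd R R R').comp (DirectSum.coeAlgHom (fun d => Usub W ^ d))

theorem ε_of (d : ℕ) (w : ↥(Usub W ^ d)) :
    ε W (DirectSum.of (fun d => ↥(Usub W ^ d)) d w) = (w : R × R').2 := by
  simp [ε, DirectSum.coeAlgHom_of]

theorem zero_one_mem (hW1 : (1 : R') ∈ W) : ((0 : R), (1 : R')) ∈ Usub W ^ 1 := by
  rw [pow_one]; exact mem_Usub.mpr ⟨rfl, hW1⟩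

/-- the degree one element `f = T` -/
noncomputable def fElt (hW1 : (1 : R') ∈ W) : Sring W :=
  DirectSum.of (fun d => ↥(Usub W ^ d)) 1 ⟨((0 : R), (1 : R')), zero_one_mem W hW1⟩

theorem fElt_mem (hW1 : (1 : R') ∈ W) : fElt W hW1 ∈ grading W 1 := of_mem_piece _ 1 _

theorem ε_fElt (hW1 : (1 : R') ∈ W) : ε W (fElt W hW1) = 1 := by
  rw [fElt, ε_of]

theorem fElt_mul_eq_zero (hW1 : (1 : R') ∈ W) (d : ℕ) (a : Sring W) (ha : a ∈ grading W d) (h : ε W a = 0) :
    fElt W hW1 * a = 0 := by
  obtain ⟨w, rfl⟩ := ha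
  rw [DirectSum.lof_eq_of] at h ⊢
  rw [ε_of] at h
  rw [fElt, DirectSum.of_mul_of]
  have h1 : (GradedMonoid.GMul.mul (A := fun d => ↥(Usub W ^ d))
      (⟨((0 : R), (1 : R')), zero_one_mem W hW1⟩ : ↥(Usub W ^ 1)) w : ↥(Usub W ^ (1 + d))) = 0 := by
    apply Subtype.ext
    change ((0 : R), (1 : R')) * (w : R × R') = 0
    ext
    · simp
    · simp [h]
  rw [h1, map_zero]

/-- the degree-one generator attached to `y ∈ R'` -/
noncomputable def gen (y : R') : Sring W := by
  classical
  exact if h : ((0 : R), y) ∈ Usub W ^ 1 then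
    DirectSum.of (fun d => ↥(Usub W ^ d)) 1 ⟨((0 : R), y), h⟩ else 0

theorem gen_mem (y : R') : gen W y ∈ grading W 1 := by
  classical
  unfold gen
  split_ifs with h
  · exact of_mem_piece _ 1 _
  · exact Submodule.zero_mem _

theorem gen_of_mem (y : R') (h : ((0 : R), y) ∈ Usub W ^ 1) :
    gen W y = DirectSum.of (fun d => ↥(Usub W ^ d)) 1 ⟨((0 : R), y), h⟩ := by
  classical
  unfold gen
  rw [dif_pos h]

theorem of_one_mem_adjoin_aux (t : Set R') (hW : W = Submodule.span R t) :
    ∀ y ∈ Submodule.span R t, ∃ h : ((0 : R), y) ∈ Usub W ^ 1,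
      DirectSum.of (fun d => ↥(Usub W ^ d)) 1 ⟨((0 : R), y), h⟩ ∈
        Algebra.adjoin R (gen W '' t) := by
  intro y hy
  induction hy using Submodule.span_induction with
  | mem y hyt =>
    have h1 : ((0 : R), y) ∈ Usub W ^ 1 := by
      rw [pow_one]; exact mem_Usub.mpr ⟨rfl, hW ▸ Submodule.subset_span hyt⟩
    refine ⟨h1, ?_⟩
    rw [← gen_of_mem W y h1]
    exact Algebra.subset_adjoin ⟨y, hyt, rfl⟩
  | zero =>
    have h1 : ((0 : R), (0 : R')) ∈ Usub W ^ 1 := by
      have : ((0 : R), (0 : R')) = 0 := rfl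
      rw [this]; exact Submodule.zero_mem _
    refine ⟨h1, ?_⟩
    have h2 : (⟨((0 : R), (0 : R')), h1⟩ : ↥(Usub W ^ 1)) = 0 := rfl
    rw [h2, map_zero]
    exact Subalgebra.zero_mem _
  | add x y _ _ hx hy =>
    obtain ⟨hx1, hx2⟩ := hx
    obtain ⟨hy1, hy2⟩ := hy
    have h1 : ((0 : R), x + y) ∈ Usub W ^ 1 := by
      have : ((0 : R), x + y) = ((0 : R), x) + ((0 : R), y) := by ext <;> simp
      rw [this]; exact Submodule.add_mem _ hx1 hy1
    refine ⟨h1, ?_⟩
    have h2 : (⟨((0 : R), x + y), h1⟩ : ↥(Usub W ^ 1)) =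
        ⟨((0 : R), x), hx1⟩ + ⟨((0 : R), y), hy1⟩ := by
      apply Subtype.ext
      change ((0 : R), x + y) = ((0 : R), x) + ((0 : R), y)
      ext <;> simp
    rw [h2, map_add]
    exact Subalgebra.add_mem _ hx2 hy2
  | smul r x _ hx =>
    obtain ⟨hx1, hx2⟩ := hx
    have h1 : ((0 : R), r • x) ∈ Usub W ^ 1 := by
      have : ((0 : R), r • x) = r • ((0 : R), x) := by ext <;> simp
      rw [this]; exact Submodule.smul_mem _ r hx1
    refine ⟨h1, ?_⟩
    have h2 : (⟨((0 : R), r • x), h1⟩ : ↥(Usub W ^ 1)) = r • ⟨((0 : R), x), hx1⟩ := by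
      apply Subtype.ext
      change ((0 : R), r • x) = r • ((0 : R), x)
      ext <;> simp
    rw [h2, ← DirectSum.lof_eq_of R, map_smul, DirectSum.lof_eq_of]
    exact Subalgebra.smul_mem _ hx2 r

theorem of_one_mem_adjoin (t : Set R') (hW : W = Submodule.span R t)
    (b : R × R') (hb : b ∈ Usub W ^ 1) :
    DirectSum.of (fun d => ↥(Usub W ^ d)) 1 ⟨b, hb⟩ ∈ Algebra.adjoin R (gen W '' t) := by
  have hb' := hb
  rw [pow_one] at hb'
  obtain ⟨y, hy, hyb⟩ := hb'
  subst hyb
  obtain ⟨_, h2⟩ := of_one_mem_adjoin_aux W t hW y (hW ▸ hy)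
  exact h2

theorem of_mem_adjoin (t : Set R') (hW : W = Submodule.span R t) (d : ℕ) :
    ∀ (w : R × R') (hw : w ∈ Usub W ^ d),
      DirectSum.of (fun d => ↥(Usub W ^ d)) d ⟨w, hw⟩ ∈ Algebra.adjoin R (gen W '' t) := by
  induction d with
  | zero =>
    intro w hw
    have hw' := hw
    rw [pow_zero, Submodule.mem_one] at hw'
    obtain ⟨r, hr⟩ := hw'
    have h1 : DirectSum.of (fun d => ↥(Usub W ^ d)) 0 ⟨w, hw⟩ = algebraMap R (Sring W) r := by
      rw [DirectSum.algebraMap_apply]
      congr 1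
      exact Subtype.ext hr.symm
    rw [h1]
    exact Subalgebra.algebraMap_mem _ r
  | succ d ih =>
    intro w hw
    suffices h : ∃ h : w ∈ Usub W ^ (d + 1),
        DirectSum.of (fun d => ↥(Usub W ^ d)) (d + 1) ⟨w, h⟩ ∈ Algebra.adjoin R (gen W '' t) by
      obtain ⟨_, h2⟩ := h
      exact h2
    have hw' := hw
    rw [pow_succ] at hw'
    refine Submodule.mul_induction_on hw' ?_ ?_
    · intro a ha b hb
      have hb1 : b ∈ Usub W ^ 1 := by rw [pow_one]; exact hb
      have hab : a * b ∈ Usub W ^ (d + 1) := by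
        rw [pow_succ]; exact Submodule.mul_mem_mul ha hb
      refine ⟨hab, ?_⟩
      have h1 : DirectSum.of (fun d => ↥(Usub W ^ d)) (d + 1) ⟨a * b, hab⟩ =
          DirectSum.of (fun d => ↥(Usub W ^ d)) d ⟨a, ha⟩ *
            DirectSum.of (fun d => ↥(Usub W ^ d)) 1 ⟨b, hb1⟩ := by
        rw [DirectSum.of_mul_of]
        rfl
      rw [h1]
      exact Subalgebra.mul_mem _ (ih a ha) (of_one_mem_adjoin W t hW b hb1)
    · rintro x y ⟨hx1, hx2⟩ ⟨hy1, hy2⟩
      refine ⟨Submodule.add_mem _ hx1 hy1, ?_⟩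
      have h2 : (⟨x + y, Submodule.add_mem _ hx1 hy1⟩ : ↥(Usub W ^ (d + 1))) =
          ⟨x, hx1⟩ + ⟨y, hy1⟩ := rfl
      rw [h2, map_add]
      exact Subalgebra.add_mem _ hx2 hy2

theorem adjoin_eq_top (t : Set R') (hW : W = Submodule.span R t) :
    Algebra.adjoin R (gen W '' t) = ⊤ := by
  rw [eq_top_iff]
  intro x hxtop
  clear hxtop
  induction x using DirectSum.induction_on with
  | zero => exact Subalgebra.zero_mem _
  | of d w => exact of_mem_adjoin W t hW d w.1 w.2
  | add x y hx hy => exact Subalgebra.add_mem _ hx hy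

theorem algebraMap_injective : Function.Injective (algebraMap R (Sring W)) := by
  rw [injective_iff_map_eq_zero]
  intro r hr
  rw [DirectSum.algebraMap_apply] at hr
  have h1 := DirectSum.of_injective (β := fun d => ↥(Usub W ^ d)) 0
  have h2 : (DirectSum.GAlgebra.toFun (R := R) (A := fun d => ↥(Usub W ^ d)) r) = 0 := by
    apply h1
    rw [hr, map_zero]
  have h3 := congrArg (fun z : ↥(Usub W ^ 0) => (z : R × R').1) h2
  exact h3

theorem mem_range_of_mem_zero (x : Sring W) (hx : x ∈ grading W 0) :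
    x ∈ Set.range (algebraMap R (Sring W)) := by
  obtain ⟨w, rfl⟩ := hx
  obtain ⟨w, hw⟩ := w
  have hw' : w ∈ Usub W ^ 0 := hw
  rw [pow_zero, Submodule.mem_one] at hw'
  obtain ⟨r, hr⟩ := hw'
  refine ⟨r, ?_⟩
  rw [DirectSum.algebraMap_apply, DirectSum.lof_eq_of]
  congr 1
  exact Subtype.ext hr

theorem exists_mem_pow (t : Set R') (ht : Algebra.adjoin R t = ⊤)
    (hW : W = Submodule.span R (insert 1 t)) (y : R') : ∃ d : ℕ, 1 ≤ d ∧ y ∈ W ^ d := by
  have h1W : (1 : R') ∈ W := hW ▸ Submodule.subset_span (Set.mem_insert _ _)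
  have h1 : (1 : Submodule R R') ≤ W := Submodule.one_le.mpr h1W
  have hy : y ∈ Algebra.adjoin R t := ht ▸ Algebra.mem_top
  induction hy using Algebra.adjoin_induction with
  | mem x hx =>
    refine ⟨1, le_rfl, ?_⟩
    rw [pow_one, hW]
    exact Submodule.subset_span (Set.mem_insert_of_mem _ hx)
  | algebraMap r =>
    refine ⟨1, le_rfl, ?_⟩
    rw [pow_one, Algebra.algebraMap_eq_smul_one]
    exact Submodule.smul_mem _ r h1W
  | add x y _ _ hx hy =>
    obtain ⟨a, ha1, ha⟩ := hx
    obtain ⟨b, _, hb⟩ := hy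
    refine ⟨a + b, by omega, ?_⟩
    refine Submodule.add_mem _ (pow_le_pow_right' h1 (Nat.le_add_right a b) ha) ?_
    exact pow_le_pow_right' h1 (Nat.le_add_left b a) hb
  | mul x y _ _ hx hy =>
    obtain ⟨a, ha1, ha⟩ := hx
    obtain ⟨b, _, hb⟩ := hy
    refine ⟨a + b, by omega, ?_⟩
    rw [pow_add]
    exact Submodule.mul_mem_mul ha hb

/-- The comparison map `S_(f) → R'`. -/
noncomputable def e₀ (hW1 : (1 : R') ∈ W) :
    HomogeneousLocalization.Away (grading W) (fElt W hW1) →+* R' :=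
  (Localization.awayLift (ε W).toRingHom (fElt W hW1)
      (isUnit_iff_exists_inv.mpr ⟨1, by
        rw [AlgHom.toRingHom_eq_coe, RingHom.coe_coe, ε_fElt, mul_one]⟩)).comp
    (algebraMap (HomogeneousLocalization.Away (grading W) (fElt W hW1))
      (Localization.Away (fElt W hW1)))

theorem e₀_apply (hW1 : (1 : R') ∈ W) (a : Sring W) (j : ℕ)
    (z : HomogeneousLocalization.Away (grading W) (fElt W hW1))
    (hz : z.val = Localization.mk a
      (⟨fElt W hW1 ^ j, j, rfl⟩ : Submonoid.powers (fElt W hW1))) :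
    e₀ W hW1 z = ε W a := by
  have hv : (ε W).toRingHom (fElt W hW1) * 1 = 1 := by
    rw [AlgHom.toRingHom_eq_coe, RingHom.coe_coe, ε_fElt, mul_one]
  rw [e₀, RingHom.comp_apply, HomogeneousLocalization.algebraMap_apply, hz,
    Localization.awayLift_mk (v := 1) (hv := hv), one_pow, mul_one]
  rfl

theorem e₀_eq_num (hW1 : (1 : R') ∈ W)
    (z : HomogeneousLocalization.Away (grading W) (fElt W hW1)) :
    e₀ W hW1 z = ε W z.num := by
  obtain ⟨j, hj⟩ := z.den_mem
  apply e₀_apply W hW1 z.num j z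
  rw [z.eq_num_div_den]
  congr 1
  exact Subtype.ext hj.symm

theorem e₀_injective (hW1 : (1 : R') ∈ W) : Function.Injective (e₀ W hW1) := by
  rw [injective_iff_map_eq_zero]
  intro z hz
  rw [e₀_eq_num] at hz
  have h1 := fElt_mul_eq_zero W hW1 z.deg z.num z.num_mem_deg hz
  apply HomogeneousLocalization.val_injective
  rw [HomogeneousLocalization.val_zero, z.eq_num_div_den, Localization.mk_eq_mk',
    IsLocalization.mk'_eq_zero_iff]
  exact ⟨⟨fElt W hW1, 1, pow_one _⟩, h1⟩

theorem e₀_surjective (hW1 : (1 : R') ∈ W) (t : Set R') (ht : Algebra.adjoin R t = ⊤)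
    (hW : W = Submodule.span R (insert 1 t)) : Function.Surjective (e₀ W hW1) := by
  intro y
  obtain ⟨d, hd, hy⟩ := exists_mem_pow W t ht hW y
  have hmem := inr_mem_Usub_pow W d hd y hy
  have hfd : fElt W hW1 ^ d ∈ grading W d := by
    have := SetLike.pow_mem_graded d (fElt_mem W hW1)
    rwa [smul_eq_mul, mul_one] at this
  refine ⟨HomogeneousLocalization.mk ⟨d, ⟨DirectSum.of (fun d => ↥(Usub W ^ d)) d ⟨_, hmem⟩,
    of_mem_piece _ d _⟩, ⟨fElt W hW1 ^ d, hfd⟩, ⟨d, rfl⟩⟩, ?_⟩
  rw [e₀_apply W hW1 (DirectSum.of (fun d => ↥(Usub W ^ d)) d ⟨_, hmem⟩) d _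
    (HomogeneousLocalization.val_mk _), ε_of]

/-- Let R be a ring and R' an R-algebra of finite type. Then there are an ℕ-graded R-algebra S such that
R → S₀ is bijective and S is generated as an R-algebra by a finite set of degree-1 elements, an
element f ∈ S₁, and a ring isomorphism e between the degree-zero part S_(f) of the localization S_f
and R' which matches r/1 with the image of r in R' for every r ∈ R (so R' is identified with S_(f)
as an R-algebra). The published statement also produces, from a finite R'-module, a finite graded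
S-module whose degree-zero localization at f recovers it; that half is not part of this row. -/
theorem result (R R' : Type u) [CommRing R] [CommRing R'] [Algebra R R'] [Algebra.FiniteType R R'] :
    ∃ (S : Type u) (_ : CommRing S) (_ : Algebra R S) (𝒜 : ℕ → Submodule R S) (_ : GradedAlgebra 𝒜) (f : S) (_ : f ∈ 𝒜 1) (s : Finset S)
      (e : HomogeneousLocalization.Away 𝒜 f ≃+* R'),
      Function.Injective (algebraMap R S) ∧ (∀ x ∈ 𝒜 0, x ∈ Set.range (algebraMap R S)) ∧
      (↑s ⊆ (𝒜 1 : Set S)) ∧ Algebra.adjoin R (s : Set S) = ⊤ ∧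
      ∀ r : R, (e.symm (algebraMap R R' r)).val = algebraMap S (Localization.Away f) (algebraMap R S r) := by
  classical
  obtain ⟨t, ht⟩ := (Algebra.FiniteType.out : (⊤ : Subalgebra R R').FG)
  set W : Submodule R R' := Submodule.span R (insert 1 (t : Set R')) with hW
  have hW1 : (1 : R') ∈ W := Submodule.subset_span (Set.mem_insert _ _)
  let e : HomogeneousLocalization.Away (grading W) (fElt W hW1) ≃+* R' :=
    RingEquiv.ofBijective (e₀ W hW1) ⟨e₀_injective W hW1, e₀_surjective W hW1 t ht hW⟩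
  refine ⟨Sring W, inferInstance, inferInstance, grading W, inferInstance, fElt W hW1,
    fElt_mem W hW1, (insert 1 t).image (gen W), e, algebraMap_injective W,
    mem_range_of_mem_zero W, ?_, ?_, ?_⟩
  · intro x hx
    rw [Finset.coe_image] at hx
    obtain ⟨y, _, rfl⟩ := hx
    exact gen_mem W y
  · rw [Finset.coe_image, Finset.coe_insert]
    exact adjoin_eq_top W (insert 1 (t : Set R')) hW
  · intro r
    have hmem : algebraMap R (Sring W) r ∈ grading W 0 :=
      SetLike.algebraMap_mem_graded (grading W) r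
    set zr : HomogeneousLocalization.Away (grading W) (fElt W hW1) :=
      HomogeneousLocalization.fromZeroRingHom (grading W) (Submonoid.powers (fElt W hW1))
        ⟨algebraMap R (Sring W) r, hmem⟩ with hzr
    have hval : zr.val = Localization.mk (algebraMap R (Sring W) r)
        (⟨fElt W hW1 ^ 0, 0, rfl⟩ : Submonoid.powers (fElt W hW1)) := by
      rw [hzr]
      change Localization.mk _ _ = _
      congr 1
    have h1 : e zr = algebraMap R R' r := by
      change e₀ W hW1 zr = _
      rw [e₀_apply W hW1 _ 0 zr hval, AlgHom.commutes]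
    have h2 : e.symm (algebraMap R R' r) = zr := by
      rw [RingEquiv.symm_apply_eq, h1]
    rw [h2, hzr]
    change Localization.mk _ _ = _
    rw [← Localization.mk_one_eq_algebraMap]
    rfl

end Groth.Agent.S9671
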