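import Groth.Statements.S9673
import Groth.Agent.Lib.Helper9NormProdSch
import Groth.Agent.S9672

set_option autoImplicit false
universe u
open CategoryTheory CategoryTheory.Limits AlgebraicGeometry
open Mor

namespace Groth.Agent.S9673

/-- Let f : Y ⟶ X be quasi-compact and quasi-separated, with Y normal and the irreducible components of
Y locally finite (equivalently, each quasi-compact open subset of Y meets only finitely many of
them). Let X' be the normalization of X in Y and f' : Y ⟶ X' the canonical morphism. Then X' is
normal with locally finitely many irreducible components (hence a disjoint union of normal integral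
schemes), f' maps generic points of irreducible components of Y to generic points of irreducible
components of X', and over each generic point of a component of X' there lies exactly one generic
point of a component of Y. (Dominance of f' holds for every quasi-compact quasi-separated f and is
not restated.) -/
theorem result {X Y : Scheme.{u}} (f : Y ⟶ X)
    [QuasiCompact f] [QuasiSeparated f] (hY : Pi1.IsNormalScheme Y)
    (hfin : LocallyFinite (fun Z : ↥(irreducibleComponents ↥Y) => (Z : Set ↥Y))) :
    Pi1.IsNormalScheme f.normalization ∧
    LocallyFinite (fun Z : ↥(irreducibleComponents ↥f.normalization) => (Z : Set ↥f.normalization)) ∧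
    (∀ y : Y, closure {y} ∈ irreducibleComponents ↥Y →
      closure {f.toNormalization.base y} ∈ irreducibleComponents ↥f.normalization) ∧
    (∀ x' : ↥f.normalization, closure {x'} ∈ irreducibleComponents ↥f.normalization →
      ∃! y : Y, closure {y} ∈ irreducibleComponents ↥Y ∧ f.toNormalization.base y = x') := by
  refine ⟨Groth.Agent.Lib.Helper9.NormProd.isNormalScheme_normalization f hY hfin,
    Groth.Agent.Lib.Helper9.NormProd.locallyFinite_normalization f hfin,
    fun y hy => Groth.Agent.Lib.Helper9.NormProd.closure_toNormalization_mem f hY hfin y hy,
    fun x' hx' => ?_⟩
  obtain ⟨y, hy, hyx⟩ := Groth.Agent.S9672.result f x' hx'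
  refine ⟨y, ⟨hy, hyx⟩, fun y' hy' => ?_⟩
  exact (Groth.Agent.Lib.Helper9.NormProd.eq_of_toNormalization_eq f hY hfin y y' hy hy'.1
    (hyx.trans hy'.2.symm)).symm

end Groth.Agent.S9673
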