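import Groth.Statements.S9678
import Groth.Agent.Lib.Helper4BirOpen

set_option autoImplicit false
set_option linter.style.haveILetI false
universe u
open CategoryTheory CategoryTheory.Limits AlgebraicGeometry
open Mor

namespace Groth.Agent.S9678

/-- Suppose X and Y have finitely many irreducible components and f : X ⟶ Y is birational, i.e. f
restricts to a bijection between the generic points of the irreducible components of X and those of
Y and induces an isomorphism of local rings at every generic point of an irreducible component of X.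
Suppose moreover that Y is reduced and f is locally of finite type, or alternatively that f is
locally finitely presented. Then there are dense opens U ⊆ X and V ⊆ Y with f(U) ⊆ V such that the
restriction U ⟶ V of f is an isomorphism. -/
theorem result {X Y : Scheme.{u}} (f : X ⟶ Y)
    (hXfin : (irreducibleComponents ↥X).Finite) (hYfin : (irreducibleComponents ↥Y).Finite)
    (hbij : Set.BijOn (fun x : X => f.base x) {x : X | closure {x} ∈ irreducibleComponents ↥X}
      {y : Y | closure {y} ∈ irreducibleComponents ↥Y})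
    (hiso : ∀ x : X, closure {x} ∈ irreducibleComponents ↥X → IsIso (f.stalkMap x))
    (hf : (LocallyOfFiniteType f ∧ IsReduced Y) ∨ LocallyOfFinitePresentation f) :
    ∃ (U : X.Opens) (V : Y.Opens) (hUV : U ≤ f ⁻¹ᵁ V), Dense (U : Set ↥X) ∧ Dense (V : Set ↥Y) ∧
      IsIso (f.resLE V U hUV) := by
  classical
  haveI hlft : LocallyOfFiniteType f := by
    rcases hf with ⟨h, -⟩ | h
    · exact h
    · infer_instance
  obtain ⟨G, hG⟩ : ∃ G : Set X, G = {x : X | closure {x} ∈ irreducibleComponents ↥X} := ⟨_, rfl⟩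
  have hGmem : ∀ ξ : G, closure {ξ.1} ∈ irreducibleComponents ↥X := fun ξ =>
    (Set.ext_iff.mp hG ξ.1).mp ξ.2
  have hGY : ∀ ξ : G, closure {f ξ.1} ∈ irreducibleComponents ↥Y := fun ξ =>
    hbij.mapsTo (hGmem ξ)
  haveI hI : ∀ ξ : G, IsIso (f.stalkMap ξ.1) := fun ξ => hiso ξ.1 (hGmem ξ)
  have hsec : ∀ ξ : G, ∃ (V : Y.Opens) (hV : f ξ.1 ∈ V) (g : V.toScheme ⟶ X), g ≫ f = V.ι ∧
      V.fromSpecStalkOfMem (f ξ.1) hV ≫ g =
        Spec.map (inv (f.stalkMap ξ.1)) ≫ X.fromSpecStalk ξ.1 := by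
    intro ξ
    have hcond : f.stalkMap ξ.1 ≫ inv (f.stalkMap ξ.1) =
        Y.presheaf.stalkSpecializes
          (Inseparable.of_eq (rfl : (𝟙 Y : Y ⟶ Y) (f ξ.1) = f ξ.1)).specializes ≫
          (𝟙 Y : Y ⟶ Y).stalkMap (f ξ.1) := by
      rw [IsIso.hom_inv_id]
      erw [Scheme.Hom.stalkMap_id, TopCat.Presheaf.stalkSpecializes_refl, Category.comp_id]
      rfl
    rcases hf with ⟨_, hred⟩ | hfp
    · haveI := hred
      haveI : Y.IsGermInjectiveAt (f ξ.1) :=
        Groth.Agent.Lib.Helper4.BirOpen.isGermInjectiveAt_of_isReduced_of_finite Y hYfin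
          (f ξ.1) (hGY ξ)
      obtain ⟨V, hV, g, hg1, hg2⟩ := spread_out_of_isGermInjective (𝟙 Y) f (x := f ξ.1)
        (y := ξ.1) rfl (inv (f.stalkMap ξ.1)) hcond
      exact ⟨V, hV, g, by rw [hg2, Category.comp_id], hg1.symm⟩
    · haveI := hfp
      obtain ⟨V, hV, g, hg1, hg2⟩ :=
        Groth.Agent.Lib.Helper4.SpreadFP.spread_out_of_finitePresentation (𝟙 Y) f (x := f ξ.1)
          (y := ξ.1) rfl (inv (f.stalkMap ξ.1)) hcond
      exact ⟨V, hV, g, by rw [hg2, Category.comp_id], hg1.symm⟩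
  have hloc : ∀ ξ : G, ∃ (A : X.Opens) (B : Y.Opens) (e : A.toScheme ≅ B.toScheme),
      ξ.1 ∈ A ∧ f ξ.1 ∈ B ∧
      (∀ Z' ∈ irreducibleComponents ↥Y, Z' ≠ closure {f ξ.1} → Disjoint (B : Set Y) Z') ∧
      (B : Set Y) ⊆ closure {f ξ.1} ∧ e.hom ≫ B.ι = A.ι ≫ f := by
    intro ξ
    obtain ⟨V₀', hηV₀, hV₀sub, hV₀d⟩ :=
      Groth.Agent.Lib.Helper4.BirOpen.exists_open_subset_component hYfin (f ξ.1) (hGY ξ)
    obtain ⟨V₀, rfl⟩ : ∃ V₀ : Y.Opens, V₀ = V₀' := ⟨V₀', rfl⟩
    obtain ⟨A, B, e, h1, h2, -, h4, h5⟩ :=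
      Groth.Agent.Lib.Helper4.BirOpen.local_iso f ξ.1 (hsec ξ) ⊤ trivial V₀ hηV₀
    exact ⟨A, B, e, h1, h2,
      fun Z' hZ' hne => (hV₀d Z' hZ' hne).mono_left h4, fun y hy => hV₀sub (h4 hy), h5⟩
  choose A B e hξA hηB hBd hBsub he using hloc
  have hdisj : ∀ ξ ξ' : G, ξ ≠ ξ' → Disjoint ((B ξ : Y.Opens) : Set Y) (B ξ') := by
    intro ξ ξ' hne
    have hne' : closure {f ξ'.1} ≠ closure {f ξ.1} := by
      intro h
      have h1 : f ξ'.1 = f ξ.1 := (inseparable_iff_closure_eq.mpr h).eq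
      exact hne (Subtype.ext (hbij.injOn (hGmem ξ) (hGmem ξ') h1.symm))
    exact (hBd ξ _ (hGY ξ') hne').mono_right (hBsub ξ')
  obtain ⟨hUV, hIso⟩ := Groth.Agent.Lib.Helper4.BirOpen.isIso_resLE_iSup f A B e he hdisj
  refine ⟨⨆ ξ, A ξ, ⨆ ξ, B ξ, hUV, ?_, ?_, hIso⟩
  · intro x
    obtain ⟨ξ, hξ⟩ := QuasiSober.sober (isIrreducible_irreducibleComponent (x := x))
      isClosed_irreducibleComponent
    have hξG : ξ ∈ G := by
      rw [hG]
      change closure {ξ} ∈ irreducibleComponents ↥X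
      rw [hξ.def]
      exact irreducibleComponent_mem_irreducibleComponents x
    have hx : x ∈ closure {ξ} := by rw [hξ.def]; exact mem_irreducibleComponent
    exact closure_mono (Set.singleton_subset_iff.mpr
      (TopologicalSpace.Opens.mem_iSup.mpr ⟨⟨ξ, hξG⟩, hξA _⟩)) hx
  · intro y
    obtain ⟨η, hη⟩ := QuasiSober.sober (isIrreducible_irreducibleComponent (x := y))
      isClosed_irreducibleComponent
    have hηG : closure {η} ∈ irreducibleComponents ↥Y := by
      rw [hη.def]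
      exact irreducibleComponent_mem_irreducibleComponents y
    obtain ⟨ξ, hξ, hξη⟩ := hbij.surjOn hηG
    have hξG : ξ ∈ G := by rw [hG]; exact hξ
    have hy : y ∈ closure {η} := by rw [hη.def]; exact mem_irreducibleComponent
    have hηV : η ∈ (⨆ ξ, B ξ : Y.Opens) := by
      refine TopologicalSpace.Opens.mem_iSup.mpr ⟨⟨ξ, hξG⟩, ?_⟩
      have := hηB ⟨ξ, hξG⟩
      rw [← hξη]
      exact this
    exact closure_mono (Set.singleton_subset_iff.mpr hηV) hy

end Groth.Agent.S9678
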