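import Groth.Statements.S9679
import Groth.Agent.Lib.Helper4BirOpen2

set_option autoImplicit false
set_option linter.style.haveILetI false
universe u
open CategoryTheory CategoryTheory.Limits AlgebraicGeometry
open Mor

namespace Groth.Agent.S9679

/-- Suppose X and Y have finitely many irreducible components and f : X ⟶ Y is birational, i.e. f
restricts to a bijection between the generic points of the irreducible components of X and those of
Y and induces an isomorphism of local rings at every generic point of an irreducible component of X.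
Assume that f is quasi-compact or separated, and moreover that f is locally of finite presentation,
or else Y is reduced and f is locally of finite type. Under these hypotheses, some dense open V ⊆ Y
has the property that the restriction f⁻¹(V) ⟶ V of f is an isomorphism. -/
theorem result {X Y : Scheme.{u}} (f : X ⟶ Y)
    (hXfin : (irreducibleComponents ↥X).Finite) (hYfin : (irreducibleComponents ↥Y).Finite)
    (hbij : Set.BijOn (fun x : X => f.base x) {x : X | closure {x} ∈ irreducibleComponents ↥X}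
      {y : Y | closure {y} ∈ irreducibleComponents ↥Y})
    (hiso : ∀ x : X, closure {x} ∈ irreducibleComponents ↥X → IsIso (f.stalkMap x))
    (hf₁ : QuasiCompact f ∨ IsSeparated f)
    (hf₂ : (LocallyOfFiniteType f ∧ IsReduced Y) ∨ LocallyOfFinitePresentation f) :
    ∃ V : Y.Opens, Dense (V : Set ↥Y) ∧ IsIso (f ∣_ V) := by
  classical
  obtain ⟨A, B, e, hξA, hηB, hBd, hBsub, he⟩ :=
    Groth.Agent.Lib.Helper4.BirOpen.exists_local_isos f hYfin (fun x hx => hbij.mapsTo hx) hiso hf₂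
  have hGY : ∀ ξ : {x : X // closure {x} ∈ irreducibleComponents ↥X},
      closure {f ξ.1} ∈ irreducibleComponents ↥Y := fun ξ => hbij.mapsTo ξ.2
  have hdisj : ∀ ξ ξ' : {x : X // closure {x} ∈ irreducibleComponents ↥X}, ξ ≠ ξ' →
      Disjoint ((B ξ : Y.Opens) : Set Y) (B ξ') := by
    intro ξ ξ' hne
    have hne' : closure {f ξ'.1} ≠ closure {f ξ.1} := by
      intro h
      have h1 : f ξ'.1 = f ξ.1 := (inseparable_iff_closure_eq.mpr h).eq
      exact hne (Subtype.ext (hbij.injOn ξ.2 ξ'.2 h1.symm))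
    exact (hBd ξ _ (hGY ξ') hne').mono_right (hBsub ξ')
  obtain ⟨U, hU⟩ : ∃ U : X.Opens, U = ⨆ ξ, A ξ := ⟨_, rfl⟩
  obtain ⟨V, hV⟩ : ∃ V : Y.Opens, V = ⨆ ξ, B ξ := ⟨_, rfl⟩
  obtain ⟨hUV, hIso⟩ : ∃ hUV : U ≤ f ⁻¹ᵁ V, IsIso (f.resLE V U hUV) := by
    subst hU
    subst hV
    exact Groth.Agent.Lib.Helper4.BirOpen.isIso_resLE_iSup f A B e he hdisj
  have hAU : ∀ ξ, A ξ ≤ U := fun ξ => hU ▸ le_iSup A ξ
  have hBV : ∀ ξ, B ξ ≤ V := fun ξ => hV ▸ le_iSup B ξ
  -- every point is a specialization of a generic point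
  have hgenX : ∀ z : X, ∃ ξ : {x : X // closure {x} ∈ irreducibleComponents ↥X}, ξ.1 ⤳ z := by
    intro z
    obtain ⟨ξ, hξ⟩ := QuasiSober.sober (isIrreducible_irreducibleComponent (x := z))
      isClosed_irreducibleComponent
    refine ⟨⟨ξ, ?_⟩, ?_⟩
    · rw [hξ.def]; exact irreducibleComponent_mem_irreducibleComponents z
    · rw [specializes_iff_mem_closure, hξ.def]; exact mem_irreducibleComponent
  have hYgen : ∀ ξ : {x : X // closure {x} ∈ irreducibleComponents ↥X},
      ∀ y' : Y, y' ⤳ f ξ.1 → y' = f ξ.1 := fun ξ =>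
    (Groth.Agent.Lib.Helper14.closure_mem_irreducibleComponents_iff (f ξ.1)).mp (hGY ξ)
  -- key claim
  have hclaim : ∀ ξ : {x : X // closure {x} ∈ irreducibleComponents ↥X},
      f ξ.1 ∉ closure (f.base '' ((U : Set X)ᶜ)) := by
    intro ξ hmem
    rcases hf₁ with hqc | hsep
    · haveI := hqc
      obtain ⟨z, hzU, hzs⟩ := Groth.Agent.Lib.Helper4.BirOpen.exists_specializes_of_mem_closure_image
        f _ U.2.isClosed_compl (f ξ.1) hmem
      have hfz : f z = f ξ.1 := hYgen ξ _ hzs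
      obtain ⟨ξ', hξ'⟩ := hgenX z
      have h1 : f ξ'.1 ⤳ f z := hξ'.map f.continuous
      rw [hfz] at h1
      have h2 : f ξ'.1 = f ξ.1 := hYgen ξ _ h1
      have h3 : ξ' = ξ := Subtype.ext (hbij.injOn ξ'.2 ξ.2 h2)
      subst h3
      have h4 : ξ'.1 = z :=
        Groth.Agent.Lib.Helper4.BirStalk.eq_of_isIso_stalkMap f hξ' hfz.symm (hiso _ ξ'.2)
      exact hzU (h4 ▸ hAU ξ' (hξA ξ'))
    · haveI := hsep
      have hpre : ∀ z : X, f z ∈ B ξ → z ∈ A ξ := by
        intro z hz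
        obtain ⟨ξ', hξ'⟩ := hgenX z
        have h1 : f ξ'.1 ⤳ f z := hξ'.map f.continuous
        have h2 : f ξ'.1 ∈ B ξ := h1.mem_open (B ξ).2 hz
        have h3 : f ξ.1 ⤳ f ξ'.1 := specializes_iff_mem_closure.mpr (hBsub ξ h2)
        have h4 : f ξ.1 = f ξ'.1 := hYgen ξ' _ h3
        have h5 : ξ = ξ' := Subtype.ext (hbij.injOn ξ.2 ξ'.2 h4)
        subst h5
        have hcl := Groth.Agent.Lib.Helper4.BirOpen.li_isClosed f (A ξ) (B ξ) (e ξ) (he ξ)
        have hξW : ξ.1 ∈ f ⁻¹ᵁ B ξ := hηB ξ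
        have hzW : z ∈ f ⁻¹ᵁ B ξ := hz
        have hsp : (⟨ξ.1, hξW⟩ : (f ⁻¹ᵁ B ξ).toScheme) ⤳ ⟨z, hzW⟩ :=
          (subtype_specializes_iff _ _).mpr hξ'
        exact hsp.mem_closed hcl (hξA ξ)
      obtain ⟨y, hyB, z, hzU, rfl⟩ := mem_closure_iff.mp hmem (B ξ) (B ξ).2 (hηB ξ)
      exact hzU (hAU ξ (hpre z hyB))
  obtain ⟨V', hV'⟩ : ∃ V' : Y.Opens,
      V' = V ⊓ ⟨(closure (f.base '' ((U : Set X)ᶜ)))ᶜ, isClosed_closure.isOpen_compl⟩ := ⟨_, rfl⟩
  have hV'V : V' ≤ V := hV' ▸ inf_le_left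
  have hmemV' : ∀ ξ : {x : X // closure {x} ∈ irreducibleComponents ↥X}, f ξ.1 ∈ V' := fun ξ => by
    rw [hV']; exact ⟨hBV ξ (hηB ξ), hclaim ξ⟩
  have hpreU : f ⁻¹ᵁ V' ≤ U := by
    intro z hz
    by_contra hzU
    have hz' : f z ∈ V' := hz
    rw [hV'] at hz'
    exact hz'.2 (subset_closure ⟨z, hzU, rfl⟩)
  refine ⟨V', ?_, ?_⟩
  · intro y
    obtain ⟨η, hη⟩ := QuasiSober.sober (isIrreducible_irreducibleComponent (x := y))
      isClosed_irreducibleComponent
    have hηG : closure {η} ∈ irreducibleComponents ↥Y := by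
      rw [hη.def]
      exact irreducibleComponent_mem_irreducibleComponents y
    obtain ⟨ξ, hξ, hξη⟩ := hbij.surjOn hηG
    have hy : y ∈ closure {η} := by rw [hη.def]; exact mem_irreducibleComponent
    have hηV : η ∈ V' := by
      have := hmemV' ⟨ξ, hξ⟩
      rw [← hξη]
      exact this
    exact closure_mono (Set.singleton_subset_iff.mpr hηV) hy
  · haveI := hIso
    haveI h1 : IsOpenImmersion (U.ι ≫ f) := by
      rw [← Scheme.Hom.resLE_comp_ι f hUV]; infer_instance
    haveI h2 : IsOpenImmersion ((f ⁻¹ᵁ V').ι ≫ f) := by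
      rw [← X.homOfLE_ι hpreU, Category.assoc]; infer_instance
    haveI h3 : IsOpenImmersion (f ∣_ V' ≫ V'.ι) := by rw [morphismRestrict_ι]; exact h2
    haveI h4 : IsOpenImmersion (f ∣_ V') := IsOpenImmersion.of_comp _ V'.ι
    have hsurj : Function.Surjective (f ∣_ V') := by
      intro v
      have hvV : v.1 ∈ V := hV'V v.2
      rw [hV] at hvV
      obtain ⟨ξ, hξ⟩ := TopologicalSpace.Opens.mem_iSup.mp hvV
      obtain ⟨x, hxA, hx⟩ := Groth.Agent.Lib.Helper4.BirOpen.li_surj f _ _ (e ξ) (he ξ) hξ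
      have hxV' : x ∈ f ⁻¹ᵁ V' := by
        show f x ∈ V'
        rw [hx]; exact v.2
      refine ⟨⟨x, hxV'⟩, ?_⟩
      apply V'.ι.isOpenEmbedding.injective
      have : (f ∣_ V' ≫ V'.ι) ⟨x, hxV'⟩ = f x := by
        rw [morphismRestrict_ι]; rfl
      exact this.trans hx
    exact (isIso_iff_isOpenImmersion_and_epi_base _).mpr
      ⟨inferInstance, (TopCat.epi_iff_surjective _).mpr hsurj⟩

end Groth.Agent.S9679
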