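import Groth.Statements.S9682
import Groth.Agent.Lib.Helper4GenFinite5

set_option autoImplicit false
set_option linter.style.haveILetI false
universe u
open CategoryTheory CategoryTheory.Limits AlgebraicGeometry
open Mor

namespace Groth.Agent.S9682

/-- Take f : X ⟶ Y locally of finite type and η the generic point of some irreducible component of Y.
Three conditions turn out to coincide: (1) each point of X mapping to η is the generic point of some
irreducible component of X; (2) f is quasi-finite at every point over η; (3) f is quasi-finite at
each point over η that is generic in some irreducible component of X. Stated as (1) iff (2) together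
with (1) iff (3). -/
theorem result {X Y : Scheme.{u}} (f : X ⟶ Y)
    [LocallyOfFiniteType f] (η : Y) (hη : closure {η} ∈ irreducibleComponents ↥Y) :
    ((∀ x : X, f.base x = η → closure {x} ∈ irreducibleComponents ↥X) ↔
      (∀ x : X, f.base x = η → f.QuasiFiniteAt x)) ∧
    ((∀ x : X, f.base x = η → closure {x} ∈ irreducibleComponents ↥X) ↔
      (∀ x : X, f.base x = η → closure {x} ∈ irreducibleComponents ↥X → f.QuasiFiniteAt x)) := by
  open Groth.Agent.Lib.Helper4.GenFinite in
  have hmaxiff : ∀ x : X, closure {x} ∈ irreducibleComponents (X : Type u) ↔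
      ∀ x' : X, x' ⤳ x → x' = x :=
    fun x => Groth.Agent.Lib.Helper14.closure_mem_irreducibleComponents_iff x
  have h12 : (∀ x : X, f.base x = η → closure {x} ∈ irreducibleComponents (X : Type u)) →
      ∀ x : X, f.base x = η → f.QuasiFiniteAt x := by
    intro h x hx
    apply quasiFiniteAt_of_forall_fiber_maximal f x
    intro z hz z' hz'
    exact (hmaxiff z).mp (h z (hz.trans hx)) z' hz'
  have h31 : (∀ x : X, f.base x = η → closure {x} ∈ irreducibleComponents (X : Type u) →
      f.QuasiFiniteAt x) →
      ∀ x : X, f.base x = η → closure {x} ∈ irreducibleComponents (X : Type u) := by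
    intro h x hx
    obtain ⟨x₀, hx₀⟩ := Groth.Agent.Lib.Helper14.exists_closure_eq_of_mem_irreducibleComponents
      (irreducibleComponent_mem_irreducibleComponents x)
    have hx₀max : closure {x₀} ∈ irreducibleComponents (X : Type u) := by
      rw [hx₀]; exact irreducibleComponent_mem_irreducibleComponents x
    have hs : x₀ ⤳ x := by
      rw [specializes_iff_mem_closure, hx₀]; exact mem_irreducibleComponent
    have hfx₀ : f.base x₀ = η :=
      eq_of_specializes_of_mem_irreducibleComponents hη (by rw [← hx]; exact hs.map f.continuous)
    have hq := h x₀ hfx₀ hx₀max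
    have hxx₀ := eq_of_quasiFiniteAt_of_specializes f hq (hx.trans hfx₀.symm) hs
    rw [hxx₀]; exact hx₀max
  exact ⟨⟨h12, fun h => h31 (fun x hx _ => h x hx)⟩, ⟨fun h x hx _ => h12 h x hx, h31⟩⟩

end Groth.Agent.S9682
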