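import Groth.Statements.S9688
import Groth.Agent.Lib.Helper4NormFinite
set_option linter.style.haveILetI false
open Mor Groth CAlg Groth.Agent.Lib.Helper14

set_option autoImplicit false
universe u
open CategoryTheory CategoryTheory.Limits AlgebraicGeometry
open Mor

namespace Groth.Agent.S9688

/-- Let X be an integral Japanese scheme (every nonempty affine open has Japanese, i.e. N-2, coordinate
ring). Then the normalization morphism X^ν ⟶ X is finite. (The quasi-compactness and
quasi-separatedness binders on Spec K(X) ⟶ X always hold; they are only needed to form the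
normalization.) -/
theorem result (X : Scheme.{u}) [IsIntegral X] [QuasiCompact (X.fromSpecStalk (genericPoint ↥X))] [QuasiSeparated (X.fromSpecStalk (genericPoint ↥X))]
    (hJ : ∀ (U : X.Opens), IsAffineOpen U → ∀ (hne : Nonempty ↥U),
      @CAlg.IsN2 ↑Γ(X, U) _ (@IsIntegral.component_integral X _ U hne)) :
    IsFinite (Curv2.normalizationι X) := by
  unfold Curv2.normalizationι
  refine Groth.Agent.Lib.Helper4.NormFinite.isFinite_fromNormalization_of_finite _ (fun U hU => ?_)
  letI := ((X.fromSpecStalk (genericPoint X)).app U).hom.toAlgebra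
  by_cases hne : Nonempty U
  · haveI : IsDomain Γ(X, U) := IsIntegral.component_integral (X := X) U
    have hN1 : IsN1 Γ(X, U) := IsN2.isN1 (hJ U hU hne)
    have hξ : genericPoint X ∈ U :=
      ((genericPoint_spec X).mem_open_set_iff U.isOpen).mpr (by simpa using hne)
    have hTop : (X.fromSpecStalk (genericPoint X)) ⁻¹ᵁ U = ⊤ := by
      rw [eq_top_iff]
      intro y _
      have : (X.fromSpecStalk (genericPoint X)) y = genericPoint X := by
        have h1 := Scheme.range_fromSpecStalk (X := X) (x := genericPoint X)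
        have h2 : (X.fromSpecStalk (genericPoint X)) y ∈ Set.range (X.fromSpecStalk (genericPoint X)) :=
          ⟨y, rfl⟩
        rw [h1] at h2
        exact (((genericPoint_spec X).specializes trivial).antisymm h2 |>.eq).symm
      show (X.fromSpecStalk (genericPoint X)) y ∈ U
      rw [this]; exact hξ
    -- the iso `K ≅ Γ(Spec K, f⁻¹U)`
    let iTop : (X.fromSpecStalk (genericPoint X)) ⁻¹ᵁ U ≅ (⊤ : (Spec (X.presheaf.stalk (genericPoint X))).Opens) :=
      ⟨homOfLE le_top, homOfLE hTop.ge, Subsingleton.elim _ _, Subsingleton.elim _ _⟩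
    let φ : X.functionField ≅
        Γ(Spec (X.presheaf.stalk (genericPoint X)), (X.fromSpecStalk (genericPoint X)) ⁻¹ᵁ U) :=
      (Scheme.ΓSpecIso (X.presheaf.stalk (genericPoint X))).symm ≪≫
        (Spec (X.presheaf.stalk (genericPoint X))).presheaf.mapIso iTop.op
    have hφ : (X.fromSpecStalk (genericPoint X)).app U = X.germToFunctionField U ≫ φ.hom := by
      rw [Scheme.fromSpecStalk_app hξ]
      rfl
    let ψ : X.functionField ≃ₐ[Γ(X, U)]
        Γ(Spec (X.presheaf.stalk (genericPoint X)), (X.fromSpecStalk (genericPoint X)) ⁻¹ᵁ U) :=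
      AlgEquiv.ofRingEquiv (f := φ.commRingCatIsoToRingEquiv) (fun a => by
        change φ.hom ((X.germToFunctionField U).hom a) = ((X.fromSpecStalk (genericPoint X)).app U).hom a
        rw [hφ]; rfl)
    haveI := functionField_isFractionRing_of_isAffineOpen X U hU
    haveI : IsFractionRing Γ(X, U)
        Γ(Spec (X.presheaf.stalk (genericPoint X)), (X.fromSpecStalk (genericPoint X)) ⁻¹ᵁ U) :=
      IsLocalization.isLocalization_of_algEquiv (nonZeroDivisors Γ(X, U)) ψ
    let e : FractionRing Γ(X, U) ≃ₐ[Γ(X, U)]
        Γ(Spec (X.presheaf.stalk (genericPoint X)), (X.fromSpecStalk (genericPoint X)) ⁻¹ᵁ U) :=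
      FractionRing.algEquiv Γ(X, U) _
    haveI : Module.Finite Γ(X, U) (integralClosure Γ(X, U) (FractionRing Γ(X, U))) := hN1
    exact Module.Finite.equiv e.mapIntegralClosure.toLinearEquiv
  · have hU0 : U = ⊥ := by
      ext x
      simp only [TopologicalSpace.Opens.coe_bot, Set.mem_empty_iff_false, iff_false]
      exact fun hx => hne ⟨⟨x, hx⟩⟩
    subst hU0
    haveI : Subsingleton (integralClosure Γ(X, (⊥ : X.Opens))
        Γ(Spec (X.presheaf.stalk (genericPoint X)), (X.fromSpecStalk (genericPoint X)) ⁻¹ᵁ ⊥)) :=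
      Module.subsingleton Γ(X, (⊥ : X.Opens)) _
    exact Module.Finite.of_finite

end Groth.Agent.S9688
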