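import Groth.Statements.S9691
import Mathlib
import Groth.Agent.Lib.Helper23Restr2
-- import your own Groth.Agent.* helpers here

set_option autoImplicit false
universe u
open CategoryTheory CategoryTheory.Limits AlgebraicGeometry
open Mor

namespace Groth.Agent.S9691
open Groth.Agent.Lib.Helper23.SecTw Groth.Agent.Lib.Helper23.AmpleIso


/-- Let f : X ⟶ S be a morphism of schemes and L an invertible O_X-module which is ample relative to f.
Then f is separated. -/
theorem result {X S : Scheme.{u}} (f : X ⟶ S) (L : X.Modules)
    (hL : RelAmple.IsRelAmple f L) : IsSeparated f := by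
  refine IsZariskiLocalAtTarget.of_iSup_eq_top (P := @IsSeparated) (fun V : S.affineOpens => V.1)
    (iSup_affineOpens_eq_top S) (fun V => ?_)
  haveI : (↑(f ⁻¹ᵁ V.1) : Scheme.{u}).IsSeparated := isSeparated_of_isAmple _ (hL.2 V)
  have h1 : IsSeparated ((f ∣_ V.1) ≫ terminal.from _) := by
    rw [terminal.comp_from]
    infer_instance
  exact IsSeparated.of_comp (f ∣_ V.1) (terminal.from _)

end Groth.Agent.S9691
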