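import Groth.Statements.S9692
import Mathlib
import Groth.Agent.Lib.Helper27SegreBC
import Groth.Agent.Lib.Helper27ProjOverBC

set_option autoImplicit false
universe u
open CategoryTheory CategoryTheory.Limits AlgebraicGeometry
open Mor

namespace Groth.Agent.S9692

/-- A composition of H-projective morphisms (closed immersions into a projective space P^n over the
target, followed by the projection) is H-projective. -/
theorem result {X Y Z : Scheme.{u}} (f : X ⟶ Y) (g : Y ⟶ Z)
    (hf : RelProj.IsHProjective f) (hg : RelProj.IsHProjective g) :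
    RelProj.IsHProjective (f ≫ g) := by
  obtain ⟨n, i, hi, hif⟩ := hf
  obtain ⟨m, j, hj, hjg⟩ := hg
  obtain ⟨φ, hφ, hφb⟩ := Groth.Agent.Lib.Helper27SegreBC.exists_segre_over Z n m
  have hw : Groth.Agent.Lib.Helper27ProjOverBC.bcOver n g ≫ CohB1.ProjSpaceOver.toBase n Z =
      (CohB1.ProjSpaceOver.toBase n Y ≫ j) ≫ CohB1.ProjSpaceOver.toBase m Z := by
    rw [Groth.Agent.Lib.Helper27ProjOverBC.bcOver_toBase, Category.assoc, hjg]
  have hbfst : pullback.lift (Groth.Agent.Lib.Helper27ProjOverBC.bcOver n g)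
      (CohB1.ProjSpaceOver.toBase n Y ≫ j) hw ≫
      pullback.fst (CohB1.ProjSpaceOver.toBase n Z) (CohB1.ProjSpaceOver.toBase m Z) =
      Groth.Agent.Lib.Helper27ProjOverBC.bcOver n g := pullback.lift_fst _ _ _
  have hbsnd : pullback.lift (Groth.Agent.Lib.Helper27ProjOverBC.bcOver n g)
      (CohB1.ProjSpaceOver.toBase n Y ≫ j) hw ≫
      pullback.snd (CohB1.ProjSpaceOver.toBase n Z) (CohB1.ProjSpaceOver.toBase m Z) =
      CohB1.ProjSpaceOver.toBase n Y ≫ j := pullback.lift_snd _ _ _
  have hb : IsPullback (pullback.lift (Groth.Agent.Lib.Helper27ProjOverBC.bcOver n g)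
      (CohB1.ProjSpaceOver.toBase n Y ≫ j) hw) (CohB1.ProjSpaceOver.toBase n Y)
      (pullback.snd (CohB1.ProjSpaceOver.toBase n Z) (CohB1.ProjSpaceOver.toBase m Z)) j := by
    refine IsPullback.of_right (h₁₂ := pullback.fst (CohB1.ProjSpaceOver.toBase n Z)
      (CohB1.ProjSpaceOver.toBase m Z)) (v₁₃ := CohB1.ProjSpaceOver.toBase n Z)
      (h₂₂ := CohB1.ProjSpaceOver.toBase m Z) ?_ hbsnd (IsPullback.of_hasPullback _ _)
    exact Groth.Agent.Lib.Helper27ProjOverBC.isPullback_congr
      (Groth.Agent.Lib.Helper27ProjOverBC.isPullback_bcOver n g) hbfst.symm hjg.symm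
  have hbc : IsClosedImmersion (pullback.lift (Groth.Agent.Lib.Helper27ProjOverBC.bcOver n g)
      (CohB1.ProjSpaceOver.toBase n Y ≫ j) hw) :=
    MorphismProperty.of_isPullback (P := @IsClosedImmersion) hb.flip hj
  refine ⟨n * m + n + m, i ≫ pullback.lift (Groth.Agent.Lib.Helper27ProjOverBC.bcOver n g)
      (CohB1.ProjSpaceOver.toBase n Y ≫ j) hw ≫ φ, ?_, ?_⟩
  · infer_instance
  · rw [Category.assoc, Category.assoc, hφb, ← Category.assoc (pullback.lift _ _ _), hbfst,
      Groth.Agent.Lib.Helper27ProjOverBC.bcOver_toBase, ← Category.assoc, hif]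

end Groth.Agent.S9692
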