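import Groth.Statements.S9693
-- import your own Groth.Agent.* helpers here

set_option autoImplicit false
universe u
open CategoryTheory CategoryTheory.Limits AlgebraicGeometry
open Mor

namespace Groth.Agent.S9693

/-- The comparison map `P^n_{S'} ⟶ P^n_S` over `g : S' ⟶ S`, and the cartesian square it sits in. -/
theorem projSpaceOver_isPullback (n : ℕ) {S S' : Scheme.{u}} (g : S' ⟶ S) :
    ∃ q : CohB1.ProjSpaceOver n S' ⟶ CohB1.ProjSpaceOver n S,
      IsPullback q (CohB1.ProjSpaceOver.toBase n S') (CohB1.ProjSpaceOver.toBase n S) g := by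
  have hcomm : pullback.fst (CohB1.ProjSpace.toSpec n (ULift.{u} ℤ)) (specULiftZIsTerminal.from S') ≫
      CohB1.ProjSpace.toSpec n (ULift.{u} ℤ) =
      (pullback.snd (CohB1.ProjSpace.toSpec n (ULift.{u} ℤ)) (specULiftZIsTerminal.from S') ≫ g) ≫
        specULiftZIsTerminal.from S := specULiftZIsTerminal.hom_ext _ _
  refine ⟨pullback.lift _ _ hcomm, ?_⟩
  have hT : g ≫ specULiftZIsTerminal.from S = specULiftZIsTerminal.from S' :=
    specULiftZIsTerminal.hom_ext _ _
  have hout : IsPullback (pullback.lift _ _ hcomm ≫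
      pullback.fst (CohB1.ProjSpace.toSpec n (ULift.{u} ℤ)) (specULiftZIsTerminal.from S))
      (pullback.snd (CohB1.ProjSpace.toSpec n (ULift.{u} ℤ)) (specULiftZIsTerminal.from S'))
      (CohB1.ProjSpace.toSpec n (ULift.{u} ℤ)) (g ≫ specULiftZIsTerminal.from S) := by
    rw [pullback.lift_fst, hT]
    exact IsPullback.of_hasPullback _ _
  exact IsPullback.of_right hout (pullback.lift_snd _ _ hcomm) (IsPullback.of_hasPullback _ _)


/-- A base change of an H-projective morphism (a closed immersion into some P^n over the base followed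
by the projection) is H-projective. -/
theorem result {X S S' : Scheme.{u}} (f : X ⟶ S) (hf : RelProj.IsHProjective f)
    (g : S' ⟶ S) : RelProj.IsHProjective (pullback.snd f g) := by
  obtain ⟨n, i, hi, hif⟩ := hf
  obtain ⟨q, hq⟩ := projSpaceOver_isPullback n g
  have hcomm : (pullback.fst f g ≫ i) ≫ CohB1.ProjSpaceOver.toBase n S = pullback.snd f g ≫ g := by
    rw [Category.assoc, hif, pullback.condition]
  set i' : pullback f g ⟶ CohB1.ProjSpaceOver n S' := hq.lift (pullback.fst f g ≫ i) (pullback.snd f g) hcomm with hi'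
  have h1 : i' ≫ q = pullback.fst f g ≫ i := hq.lift_fst _ _ _
  have h2 : i' ≫ CohB1.ProjSpaceOver.toBase n S' = pullback.snd f g := hq.lift_snd _ _ _
  refine ⟨n, i', ?_, h2⟩
  have hout : IsPullback (i' ≫ CohB1.ProjSpaceOver.toBase n S') (pullback.fst f g) g
      (i ≫ CohB1.ProjSpaceOver.toBase n S) := by
    rw [h2, hif]
    exact (IsPullback.of_hasPullback f g).flip
  have hL : IsPullback i' (pullback.fst f g) q i := IsPullback.of_right hout h1 hq.flip
  exact MorphismProperty.of_isPullback (P := @IsClosedImmersion) hL.flip hi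

end Groth.Agent.S9693
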