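import Groth.Statements.S9694
import Mathlib
import Groth.Agent.Lib.Helper23UCAffine
import Groth.Agent.Lib.Helper23Restr
-- import your own Groth.Agent.* helpers here

set_option autoImplicit false
universe u
open CategoryTheory CategoryTheory.Limits AlgebraicGeometry
open Mor

namespace Groth.Agent.S9694


/-- Let f : X ⟶ S be universally closed, L an O_X-module ample relative to f and s a global section of
L, viewed as a morphism O_X ⟶ L. Then the open subscheme X_s of X where s generates L is affine over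
S: the inclusion of X_s followed by f is an affine morphism. -/
theorem result {X S : Scheme.{u}} (f : X ⟶ S) [UniversallyClosed f]
    (L : X.Modules) (hL : RelAmple.IsRelAmple f L) (s : Coh.structureModule X ⟶ L) :
    IsAffineHom ((CohB1.genLocus L s).ι ≫ f) := by
  refine ⟨fun V hV => ?_⟩
  haveI : IsAffine V := hV
  have hamp : CohB1.IsAmple (L.restrict (f ⁻¹ᵁ V).ι) := hL.2 ⟨V, hV⟩
  have h1 := Groth.Agent.Lib.Helper23.UCAffine.isAffineOpen_genLocus_of_universallyClosed (f ∣_ V)
    (L.restrict (f ⁻¹ᵁ V).ι) hamp (Groth.Agent.Lib.Helper23.SecTw.restrSec s (f ⁻¹ᵁ V))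
  rw [Groth.Agent.Lib.Helper23.SecTw.genLocus_restrSec] at h1
  have h2 := h1.image_of_isOpenImmersion (f ⁻¹ᵁ V).ι
  rw [Scheme.Hom.image_preimage_eq_opensRange_inf, Scheme.Opens.opensRange_ι] at h2
  rw [← Scheme.Hom.isAffineOpen_iff_of_isOpenImmersion (CohB1.genLocus L s).ι]
  have h3 : (CohB1.genLocus L s).ι ''ᵁ (((CohB1.genLocus L s).ι ≫ f) ⁻¹ᵁ V) =
      f ⁻¹ᵁ V ⊓ CohB1.genLocus L s := by
    change (CohB1.genLocus L s).ι ''ᵁ ((CohB1.genLocus L s).ι ⁻¹ᵁ (f ⁻¹ᵁ V)) = _
    rw [Scheme.Hom.image_preimage_eq_opensRange_inf, Scheme.Opens.opensRange_ι, inf_comm]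
  rw [h3]
  exact h2

end Groth.Agent.S9694
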