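import Groth.Statements.S9695
import Mathlib
import Groth.Agent.S4380
import Groth.Agent.S4387
import Groth.Agent.S4417
import Groth.Agent.Lib.Helper23VeryAmple2
import Groth.Agent.Lib.Helper23VeryAmple3
import Groth.Agent.Lib.Helper23VeryAmple4
import Groth.Agent.Lib.Helper23TensorUnit
import Groth.Agent.Lib.Helper23AmpleIso
-- import your own Groth.Agent.* helpers here

set_option autoImplicit false
universe u
open CategoryTheory CategoryTheory.Limits AlgebraicGeometry
open Mor

namespace Groth.Agent.S9695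


/-- Suppose f : X ⟶ S is a morphism of finite type and L is an invertible O_X-module. Then L is
f-relatively ample exactly when S can be covered by open subsets V with the following property: for
every such V there is an integer d ≥ 1 for which the tensor power L^{⊗d}, restricted to f⁻¹(V), is
isomorphic to the pullback of O(1) under some V-immersion of f⁻¹(V) into a projective space P^n_V. -/
theorem result {X S : Scheme.{u}} (f : X ⟶ S)
    [LocallyOfFiniteType f] [QuasiCompact f] (L : X.Modules) (hLinv : PicF.IsInvertible L) :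
    RelAmple.IsRelAmple f L ↔
      ∃ (ι : Type u) (V : ι → S.Opens), (⨆ j, V j) = ⊤ ∧
        ∀ j, ∃ d : ℕ, 0 < d ∧
          RelAmple.IsRelVeryAmplePn (f ∣_ V j) ((CohB1.tensorPow L d).restrict (f ⁻¹ᵁ V j).ι) := by
  constructor
  · intro hL
    refine ⟨S.affineOpens, fun V => V.1, iSup_affineOpens_eq_top S, fun V => ?_⟩
    have hample := hL.2 V
    obtain ⟨n₀, h⟩ := Groth.Agent.Lib.Helper23.VeryAmple2.isRelVeryAmplePn_twist_eventually (f ∣_ V.1)
      (L.restrict (f ⁻¹ᵁ V.1).ι) hample (Coh.structureModule _)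
      (Groth.Agent.Lib.Helper23.TensorUnit.isInvertible_structureModule _)
    refine ⟨n₀ + 1, Nat.succ_pos _, ?_⟩
    obtain ⟨Ψ⟩ := Groth.Agent.Lib.Helper23.SecTw.nonempty_restrict_tensorPow_iso L hLinv (f ⁻¹ᵁ V.1) (n₀ + 1)
    exact Groth.Agent.Lib.Helper23.VeryAmple3.isRelVeryAmplePn_of_iso _
      (Groth.Agent.Lib.Helper23.TensorUnit.unitTensorIso _ ≪≫ Ψ.symm) (h (n₀ + 1) (Nat.le_succ _))
  · rintro ⟨ι, V, hV, h⟩
    rw [Groth.Agent.S4380.result f L V hV]
    intro j
    obtain ⟨d, hd, hva⟩ := h j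
    have hLr : PicF.IsInvertible (L.restrict (f ⁻¹ᵁ V j).ι) :=
      Groth.Agent.Lib.Helper23.SecTw.isInvertible_restrict L hLinv _
    rw [Groth.Agent.S4387.result (f ∣_ V j) _ hLr d hd]
    obtain ⟨Ψ⟩ := Groth.Agent.Lib.Helper23.SecTw.nonempty_restrict_tensorPow_iso L hLinv (f ⁻¹ᵁ V j) d
    exact Groth.Agent.S4417.isRelAmple_of_iso _ Ψ (Groth.Agent.Lib.Helper23.VeryAmple4.isRelAmple_of_isRelVeryAmplePn _ _ hva)

end Groth.Agent.S9695
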