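import Groth.Statements.S9696
import Groth.Agent.Lib.Helper20BCDescSch

set_option autoImplicit false
universe u
open CategoryTheory CategoryTheory.Limits AlgebraicGeometry
open Mor

namespace Groth.Agent.S9696

/-- Let f : X ⟶ S be flat and locally of finite presentation and g : S' ⟶ S any morphism, with base
change f' : X ×_S S' ⟶ S' and projection g' : X ×_S S' ⟶ X. Then the open set of points where f' is
etale is the inverse image under g' of the open set of points where f is etale. -/
theorem result {X S S' : Scheme.{u}} (f : X ⟶ S) [Flat f]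
    [LocallyOfFinitePresentation f] (g : S' ⟶ S) (x' : ↑(pullback f g)) :
    (∃ U' : (pullback f g).Opens, x' ∈ U' ∧ Etale (U'.ι ≫ pullback.snd f g)) ↔
      (∃ U : X.Opens, (pullback.fst f g).base x' ∈ U ∧ Etale (U.ι ≫ f)) := by
  constructor
  · rintro ⟨U', hx', hU'⟩
    have := hU'
    apply Groth.Agent.Lib.Helper20.EtLocal.exists_etale_nbhd f (pullback.fst f g x')
    · apply Groth.Agent.Lib.Helper20.FlatDesc.formallyUnramified_stalkMap_of_baseChange f g x'
      exact Groth.Agent.Lib.Helper20.EtLocal.formallyUnramified_stalkMap_of_nbhd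
        (pullback.snd f g) x' U' hx'
    · exact Flat.stalkMap f _
  · rintro ⟨U, hx, hU⟩
    refine ⟨(pullback.fst f g) ⁻¹ᵁ U, hx, ?_⟩
    exact MorphismProperty.of_isPullback (P := @Etale)
      ((isPullback_morphismRestrict (pullback.fst f g) U).paste_vert
        (IsPullback.of_hasPullback f g)) hU

end Groth.Agent.S9696
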