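import Groth.Statements.S9698
import Mathlib

set_option autoImplicit false
universe u
open CategoryTheory CategoryTheory.Limits AlgebraicGeometry
open Mor

namespace Groth.Agent.S9698

open CategoryTheory AlgebraicGeometry Limits TopologicalSpace

theorem exists_finset_generators {A B : Type u} [CommRing A] [CommRing B] (σ : A →+* B)
    (hft : σ.FiniteType) :
    ∃ s : Finset B, ∀ R' : Subring B, (∀ a, σ a ∈ R') → (∀ b ∈ s, b ∈ R') → R' = ⊤ := by
  classical
  let _ : Algebra A B := σ.toAlgebra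
  obtain ⟨s, hs⟩ : ∃ s : Finset B, Algebra.adjoin A (s : Set B) = ⊤ := hft.out
  refine ⟨s, ?_⟩
  intro R' h1 hb
  have key : ∀ z ∈ Algebra.adjoin A (s : Set B), z ∈ R' := by
    intro z hz
    induction hz using Algebra.adjoin_induction with
    | mem x hx => exact hb x hx
    | algebraMap r => exact h1 r
    | add x y _ _ hx hy => exact R'.add_mem hx hy
    | mul x y _ _ hx hy => exact R'.mul_mem hx hy
  rw [eq_top_iff]
  intro z _
  exact key z (by rw [hs]; trivial)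

/-- restriction of global sections to `X_h` -/
noncomputable def ρ {X : Scheme.{u}} (h : Γ(X, ⊤)) : Γ(X, ⊤) →+* Γ(X, X.basicOpen h) :=
  (X.presheaf.map (homOfLE (le_top : X.basicOpen h ≤ ⊤)).op).hom

theorem isUnit_ρ {X : Scheme.{u}} (h : Γ(X, ⊤)) : IsUnit (ρ h h) :=
  X.toRingedSpace.isUnit_res_basicOpen h

/-- the generation property -/
def GenProp {X S : Scheme.{u}} (π : X ⟶ S) (V : S.Opens) (h : Γ(X, ⊤))
    (hle : X.basicOpen h ≤ π ⁻¹ᵁ V) (G : Finset Γ(X, ⊤)) : Prop :=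
  ∀ R' : Subring Γ(X, X.basicOpen h), (∀ s : Γ(S, V), (π.appLE V (X.basicOpen h) hle).hom s ∈ R') →
    (∀ g ∈ G, ρ h g ∈ R') → (∀ u, u * ρ h h = 1 → u ∈ R') → R' = ⊤

theorem exists_genProp {X S : Scheme.{u}} (π : X ⟶ S) [LocallyOfFiniteType π] [CompactSpace X]
    [QuasiSeparatedSpace X] {V : S.Opens} (hV : IsAffineOpen V) (h : Γ(X, ⊤))
    (hh : IsAffineOpen (X.basicOpen h)) (hle : X.basicOpen h ≤ π ⁻¹ᵁ V) :
    ∃ G : Finset Γ(X, ⊤), GenProp π V h hle G := by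
  classical
  have hft : (π.appLE V (X.basicOpen h) hle).hom.FiniteType :=
    HasRingHomProperty.appLE @LocallyOfFiniteType π inferInstance ⟨V, hV⟩ ⟨_, hh⟩ hle
  obtain ⟨s, hs⟩ := exists_finset_generators _ hft
  have hex : ∀ b : Γ(X, X.basicOpen h), ∃ (n : ℕ) (y : Γ(X, ⊤)), ρ h y = (ρ h h) ^ n * b :=
    fun b => exists_eq_pow_mul_of_isCompact_of_isQuasiSeparated X ⊤ isCompact_univ
      isQuasiSeparated_univ h b
  choose n y hy using hex
  refine ⟨s.image y, ?_⟩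
  intro R' h1 h2 h3
  obtain ⟨u, hu⟩ := (isUnit_ρ h).exists_left_inv
  have hu' : u ∈ R' := h3 u hu
  refine hs R' h1 ?_
  intro b hb
  have : b = u ^ (n b) * ρ h (y b) := by
    rw [hy b, ← mul_assoc, ← mul_pow, hu, one_pow, one_mul]
  rw [this]
  exact R'.mul_mem (R'.pow_mem hu' _) (h2 _ (Finset.mem_image_of_mem y hb))

/-- the comorphism of a chart is surjective -/
theorem surjective_appLE {X A S : Scheme.{u}} (i : X ⟶ A) (p : A ⟶ S) (π : X ⟶ S)
    (hπ : i ≫ p = π) (V : S.Opens) (h : Γ(X, ⊤)) (hle : X.basicOpen h ≤ π ⁻¹ᵁ V)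
    (G : Finset Γ(X, ⊤)) (hG : GenProp π V h hle G) (Th : Γ(A, ⊤)) (hTh : i.appTop.hom Th = h)
    (hcoord : ∀ g ∈ G, ∃ T : Γ(A, ⊤), i.appTop.hom T = g)
    (W : A.Opens) (hW : W = p ⁻¹ᵁ V ⊓ A.basicOpen Th) (hle' : X.basicOpen h ≤ i ⁻¹ᵁ W) :
    Function.Surjective (i.appLE W (X.basicOpen h) hle').hom := by
  subst hπ
  have hWV : W ≤ p ⁻¹ᵁ V := hW ▸ inf_le_left
  have hWT : W ≤ A.basicOpen Th := hW ▸ inf_le_right
  -- restriction of a global coordinate
  have hres : ∀ T : Γ(A, ⊤), (i.appLE W (X.basicOpen h) hle').hom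
      ((A.presheaf.map (homOfLE (le_top : W ≤ ⊤)).op).hom T) = ρ h (i.appTop.hom T) := by
    intro T
    have h1 : A.presheaf.map (homOfLE (le_top : W ≤ ⊤)).op ≫ i.appLE W (X.basicOpen h) hle' =
        i.appTop ≫ X.presheaf.map (homOfLE (le_top : X.basicOpen h ≤ ⊤)).op := by
      rw [Scheme.Hom.map_appLE]
      rfl
    exact congrArg (fun φ => φ.hom T) h1
  rw [← RingHom.range_eq_top]
  apply hG
  · intro s
    refine ⟨(p.appLE V W hWV).hom s, ?_⟩
    have h1 := Scheme.Hom.appLE_comp_appLE i p V W (X.basicOpen h) hWV hle'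
    exact congrArg (fun φ => φ.hom s) h1
  · intro g hg
    obtain ⟨T, rfl⟩ := hcoord g hg
    exact ⟨_, hres T⟩
  · intro u hu
    -- Th is a unit on W
    have hunit : IsUnit ((A.presheaf.map (homOfLE (le_top : W ≤ ⊤)).op).hom Th) := by
      have h0 : IsUnit ((A.presheaf.map (homOfLE (A.basicOpen_le Th)).op).hom Th) :=
        A.toRingedSpace.isUnit_res_basicOpen Th
      have hcomp : A.presheaf.map (homOfLE (le_top : W ≤ ⊤)).op =
          A.presheaf.map (homOfLE (A.basicOpen_le Th)).op ≫ A.presheaf.map (homOfLE hWT).op := by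
        rw [← Functor.map_comp]
        rfl
      rw [hcomp, CommRingCat.hom_comp, RingHom.comp_apply]
      exact h0.map _
    obtain ⟨w, hw⟩ := hunit.exists_left_inv
    refine ⟨w, ?_⟩
    have h2 : (i.appLE W (X.basicOpen h) hle').hom w * ρ h h = 1 := by
      have h3 := hres Th
      rw [hTh] at h3
      rw [← h3, ← map_mul, hw, map_one]
    -- uniqueness of inverses
    calc (i.appLE W (X.basicOpen h) hle').hom w
        = (i.appLE W (X.basicOpen h) hle').hom w * (ρ h h * u) := by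
          rw [mul_comm (ρ h h) u, hu, mul_one]
      _ = u := by rw [← mul_assoc, h2, one_mul]

theorem surjective_app_of_appLE {X Y : Scheme.{u}} (f : X ⟶ Y) (U : Y.Opens) (O : X.Opens)
    (hO : O = f ⁻¹ᵁ U) (h : Function.Surjective (f.appLE U O hO.le).hom) :
    Function.Surjective (f.app U).hom := by
  subst hO
  rwa [Scheme.Hom.appLE_eq_app] at h

theorem surjective_app_of_eq {X Y : Scheme.{u}} (f : X ⟶ Y) (U U' : Y.Opens) (hU : U' = U)
    (h : Function.Surjective (f.app U).hom) : Function.Surjective (f.app U').hom := by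
  subst hU
  exact h

/-- the chart is a closed immersion -/
theorem isClosedImmersion_chart {X A S : Scheme.{u}} (i : X ⟶ A) (p : A ⟶ S) [IsAffineHom p]
    (π : X ⟶ S) (hπ : i ≫ p = π) (V : S.Opens) (hV : IsAffineOpen V) (h : Γ(X, ⊤))
    (hh : IsAffineOpen (X.basicOpen h)) (hle : X.basicOpen h ≤ π ⁻¹ᵁ V)
    (G : Finset Γ(X, ⊤)) (hG : GenProp π V h hle G) (Th : Γ(A, ⊤)) (hTh : i.appTop.hom Th = h)
    (hcoord : ∀ g ∈ G, ∃ T : Γ(A, ⊤), i.appTop.hom T = g) :
    IsClosedImmersion (i ∣_ (p ⁻¹ᵁ V ⊓ A.basicOpen Th)) ∧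
      i ⁻¹ᵁ (p ⁻¹ᵁ V ⊓ A.basicOpen Th) = X.basicOpen h := by
  set W : A.Opens := p ⁻¹ᵁ V ⊓ A.basicOpen Th with hW
  have hpre : i ⁻¹ᵁ W = X.basicOpen h := by
    rw [hW, Scheme.Hom.preimage_inf, ← Scheme.Hom.comp_preimage, hπ, Scheme.preimage_basicOpen_top]
    have : i.appTop Th = h := hTh
    rw [this]
    exact inf_eq_right.mpr hle
  refine ⟨?_, hpre⟩
  have hWaff : IsAffineOpen W := by
    have h1 : IsAffineOpen (p ⁻¹ᵁ V) := hV.preimage p
    have h2 := h1.basicOpen ((A.presheaf.map (homOfLE (le_top : p ⁻¹ᵁ V ≤ ⊤)).op).hom Th)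
    rwa [Scheme.basicOpen_res] at h2
  have : IsAffine W.toScheme := hWaff
  have : IsAffine (i ⁻¹ᵁ W).toScheme := by
    have : IsAffineOpen (i ⁻¹ᵁ W) := hpre ▸ hh
    exact this
  apply IsClosedImmersion.of_surjective_of_isAffine
  rw [morphismRestrict_appTop]
  have h1 : Function.Surjective (i.app W).hom :=
    surjective_app_of_appLE i W (X.basicOpen h) hpre.symm
      (surjective_appLE i p π hπ V h hle G hG Th hTh hcoord W hW hpre.ge)
  have h2 : Function.Surjective (i.app (W.ι ''ᵁ ⊤)).hom :=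
    surjective_app_of_eq i W _ W.ι_image_top h1
  have h3 : Function.Bijective (X.presheaf.map
      (eqToHom (image_morphismRestrict_preimage i W ⊤)).op).hom :=
    ConcreteCategory.bijective_of_isIso _
  exact h3.2.comp h2

/-- Let π : X ⟶ S be locally of finite type with X quasi-affine. Then there exist n ≥ 0 and an immersion
i : X ⟶ A^n_S over S (affine n-space on the index type Fin n, lifted to the ambient universe). -/
theorem result {X S : Scheme.{u}} (π : X ⟶ S)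
    [LocallyOfFiniteType π] [X.IsQuasiAffine] :
    ∃ (n : ℕ) (i : X ⟶ 𝔸(ULift.{u} (Fin n); S)), IsImmersion i ∧ i ≫ (𝔸(ULift.{u} (Fin n); S) ↘ S) = π := by
  classical
  have key : ∀ x : X, ∃ (V : S.Opens) (h : Γ(X, ⊤)) (hle : X.basicOpen h ≤ π ⁻¹ᵁ V)
      (G : Finset Γ(X, ⊤)), IsAffineOpen V ∧ IsAffineOpen (X.basicOpen h) ∧ x ∈ X.basicOpen h ∧
        GenProp π V h hle G := by
    intro x
    obtain ⟨_, ⟨V, hV, rfl⟩, hxV, -⟩ := S.isBasis_affineOpens.exists_subset_of_mem_open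
      (Set.mem_univ (π x)) isOpen_univ
    obtain ⟨_, ⟨_, ⟨h, hh, rfl⟩, rfl⟩, hxh, hle⟩ :=
      (Scheme.IsQuasiAffine.isBasis_basicOpen X).exists_subset_of_mem_open
        (show x ∈ ((π ⁻¹ᵁ V : X.Opens) : Set X) from hxV) (π ⁻¹ᵁ V).isOpen
    obtain ⟨G, hG⟩ := exists_genProp π hV h hh hle
    exact ⟨V, h, hle, G, hV, hh, hxh, hG⟩
  choose V h hle G hV hh hxh hG using key
  obtain ⟨t, ht⟩ := CompactSpace.elim_nhds_subcover (fun x => (X.basicOpen (h x) : Set X))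
    (fun x => (X.basicOpen (h x)).2.mem_nhds (hxh x))
  let T : Finset Γ(X, ⊤) := t.image h ∪ t.biUnion G
  let n := T.card
  let e : T ≃ Fin n := T.equivFin
  let v : ULift.{u} (Fin n) → Γ(X, ⊤) := fun j => (e.symm j.down).1
  have hv : ∀ g ∈ T, ∃ j, v j = g := fun g hg => ⟨⟨e ⟨g, hg⟩⟩, by simp [v]⟩
  let i := AffineSpace.homOfVector π v
  have hover : i ≫ (𝔸(ULift.{u} (Fin n); S) ↘ S) = π := AffineSpace.homOfVector_over π v
  refine ⟨n, i, ?_, hover⟩
  have hcoord : ∀ g ∈ T, ∃ Tc : Γ(𝔸(ULift.{u} (Fin n); S), ⊤), i.appTop.hom Tc = g := by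
    intro g hg
    obtain ⟨j, rfl⟩ := hv g hg
    exact ⟨AffineSpace.coord S j, AffineSpace.homOfVector_appTop_coord π v j⟩
  choose! Tc hTc using hcoord
  let W : t → (𝔸(ULift.{u} (Fin n); S)).Opens := fun x =>
    (𝔸(ULift.{u} (Fin n); S) ↘ S) ⁻¹ᵁ (V x.1) ⊓ (𝔸(ULift.{u} (Fin n); S)).basicOpen (Tc (h x.1))
  have hmem1 : ∀ x : t, h x.1 ∈ T := fun x =>
    Finset.mem_union_left _ (Finset.mem_image_of_mem h x.2)
  have hmem2 : ∀ x : t, ∀ g ∈ G x.1, g ∈ T := fun x g hg =>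
    Finset.mem_union_right _ (Finset.mem_biUnion.mpr ⟨x.1, x.2, hg⟩)
  have hchart : ∀ x : t, IsClosedImmersion (i ∣_ W x) ∧ i ⁻¹ᵁ W x = X.basicOpen (h x.1) :=
    fun x => isClosedImmersion_chart i (𝔸(ULift.{u} (Fin n); S) ↘ S) π hover (V x.1) (hV x.1)
      (h x.1) (hh x.1) (hle x.1) (G x.1) (hG x.1) (Tc (h x.1)) (hTc _ (hmem1 x))
      (fun g hg => ⟨Tc g, hTc g (hmem2 x g hg)⟩)
  have : MorphismProperty.RespectsRight (@IsImmersion) @IsOpenImmersion :=
    ⟨fun {X Y Z} i hi f hf => by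
      have : IsOpenImmersion i := hi
      have : IsImmersion f := hf
      infer_instance⟩
  apply IsZariskiLocalAtTarget.of_range_subset_iSup W
  · rintro _ ⟨y, rfl⟩
    have hy : y ∈ ⋃ x ∈ t, (X.basicOpen (h x) : Set X) := by rw [ht]; trivial
    simp only [Set.mem_iUnion] at hy
    obtain ⟨x, hxt, hyx⟩ := hy
    refine Opens.mem_iSup.mpr ⟨⟨x, hxt⟩, ?_⟩
    change y ∈ i ⁻¹ᵁ W ⟨x, hxt⟩
    rw [(hchart ⟨x, hxt⟩).2]
    exact hyx
  · intro x
    have := (hchart x).1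
    infer_instance

end Groth.Agent.S9698
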