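import Groth.Statements.S9700
-- import your own Groth.Agent.* helpers here
import Mathlib
import Groth.Agent.S19892

set_option autoImplicit false
universe u
open CategoryTheory CategoryTheory.Limits AlgebraicGeometry
open Mor

namespace Groth.Agent.S9700

/-- General form of the refined separatedness criterion. -/
theorem isSeparated_of_refined {X Y Z : Scheme.{u}} (h : Z ⟶ Y) (f : Y ⟶ X)
    [QuasiCompact h] [QuasiSeparated f] (hd : DenseRange h.base)
    (H : ∀ (z : ↥Z) (R : ValuationSubring ↑(Z.residueField z)) (φ : Spec (CommRingCat.of ↥R) ⟶ X),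
        Spec.map (CommRingCat.ofHom R.subtype) ≫ φ = Z.fromSpecResidueField z ≫ h ≫ f →
        ∀ φ₁ φ₂ : Spec (CommRingCat.of ↥R) ⟶ Y,
          Spec.map (CommRingCat.ofHom R.subtype) ≫ φ₁ = Z.fromSpecResidueField z ≫ h → φ₁ ≫ f = φ →
          Spec.map (CommRingCat.ofHom R.subtype) ≫ φ₂ = Z.fromSpecResidueField z ≫ h → φ₂ ≫ f = φ →
          φ₁ = φ₂) : IsSeparated f := by
  have hqc : QuasiCompact (h ≫ Limits.pullback.diagonal f) := inferInstance
  refine ⟨?_⟩
  apply IsClosedImmersion.of_isPreimmersion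
  apply isClosed_of_closure_subset
  intro w hw
  have hw' : w ∈ closure (Set.range (h ≫ Limits.pullback.diagonal f).base) := by
    have hsub : Set.range (Limits.pullback.diagonal f).base ⊆
        closure (Set.range (h ≫ Limits.pullback.diagonal f).base) := by
      rintro _ ⟨y, rfl⟩
      have hy : y ∈ closure (Set.range h.base) := hd y
      have := image_closure_subset_closure_image (Limits.pullback.diagonal f).continuous
        (Set.mem_image_of_mem _ hy)
      rwa [← Set.range_comp] at this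
    exact closure_minimal hsub isClosed_closure hw
  obtain ⟨z, hz⟩ := Groth.Agent.Lib.Helper12.exists_specializes_of_mem_closure_range _ w hw'
  obtain ⟨A, ψ, hψw, hψ⟩ := Groth.Agent.S19891.exists_valuationRing_of_specializes_map _ z w hz
  have key : ψ ≫ Limits.pullback.fst f f = ψ ≫ Limits.pullback.snd f f := by
    refine H z A (ψ ≫ Limits.pullback.fst f f ≫ f) ?_ _ _ ?_ ?_ ?_ ?_
    · rw [reassoc_of% hψ]; simp
    · rw [reassoc_of% hψ]; simp
    · simp
    · rw [reassoc_of% hψ]; simp
    · simp [Limits.pullback.condition]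
  have hψΔ : ψ = (ψ ≫ Limits.pullback.fst f f) ≫ Limits.pullback.diagonal f := by
    apply Limits.pullback.hom_ext
    · simp
    · simp [key]
  refine ⟨(ψ ≫ Limits.pullback.fst f f) (IsLocalRing.closedPoint ↥A), ?_⟩
  rw [← hψw]
  conv_rhs => rw [hψΔ]
  rfl

/-- Let f : X ⟶ S and h : U ⟶ X be quasi-compact with h(U) dense in X. Suppose each valuative square
over f, whose map Spec K ⟶ X factors through h, has a unique diagonal lift. Then f is universally
closed, and f is also separated provided it is quasi-separated. -/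
theorem result {U X S : Scheme.{u}} (f : X ⟶ S) (h : U ⟶ X)
    [QuasiCompact f] [QuasiCompact h] (hd : DenseRange h.base)
    (H : ∀ sq : ValuativeCommSq f, (∃ i : Spec (.of sq.K) ⟶ U, i ≫ h = sq.i₁) →
      Nonempty (Unique sq.commSq.LiftStruct)) :
    UniversallyClosed f ∧ (QuasiSeparated f → IsSeparated f) := by
  have H' : ∀ (z : ↥U) (R : ValuationSubring ↑(U.residueField z))
      (φ : Spec (CommRingCat.of ↥R) ⟶ S),
      Spec.map (CommRingCat.ofHom R.subtype) ≫ φ = U.fromSpecResidueField z ≫ h ≫ f →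
      ∃! φ' : Spec (CommRingCat.of ↥R) ⟶ X,
        Spec.map (CommRingCat.ofHom R.subtype) ≫ φ' = U.fromSpecResidueField z ≫ h ∧
          φ' ≫ f = φ := by
    intro z R φ hφ
    have hc : CommSq (U.fromSpecResidueField z ≫ h)
        (Spec.map (CommRingCat.ofHom (algebraMap ↥R (U.residueField z)))) f φ :=
      ⟨by rw [Category.assoc]; exact hφ.symm⟩
    let sq : ValuativeCommSq f :=
      { R := ↥R, K := U.residueField z, i₁ := U.fromSpecResidueField z ≫ h, i₂ := φ, commSq := hc }
    obtain ⟨hS⟩ := H sq ⟨U.fromSpecResidueField z, rfl⟩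
    refine ⟨hS.default.l, ⟨hS.default.fac_left, hS.default.fac_right⟩, ?_⟩
    rintro φ'' ⟨h1, h2⟩
    let l' : sq.commSq.LiftStruct := ⟨φ'', h1, h2⟩
    exact congrArg CommSq.LiftStruct.l (hS.uniq l')
  constructor
  · apply UniversallyClosed.of_valuativeCriterion
    intro sq
    obtain ⟨l, hl1, hl2⟩ := Groth.Agent.S19892.exists_lift_of_refined h f hd H' sq.R sq.K sq.i₁ sq.i₂
      sq.commSq.w
    exact ⟨⟨⟨l, hl1, hl2⟩⟩⟩
  · intro hqs
    apply isSeparated_of_refined h f hd
    intro z R φ hφ φ₁ φ₂ h1 h1' h2 h2'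
    obtain ⟨φ'', -, huniq⟩ := H' z R φ hφ
    rw [huniq φ₁ ⟨h1, h1'⟩, huniq φ₂ ⟨h2, h2'⟩]

end Groth.Agent.S9700
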