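import Groth.Statements.S9703
import Mathlib

set_option autoImplicit false
universe u
open CategoryTheory CategoryTheory.Limits AlgebraicGeometry
open Mor

namespace Groth.Agent.S9703
open CategoryTheory CategoryTheory.Limits AlgebraicGeometry
open Mor
open Polynomial
open scoped TensorProduct

theorem exists_split (d : ℕ) : ∀ (A : Type u) [CommRing A] (P : Polynomial A), P.Monic →
    P.natDegree = d →
    ∃ (A' : Type u) (_ : CommRing A') (_ : Algebra A A'), Module.Free A A' ∧ Module.Finite A A' ∧
      Module.FaithfullyFlat A A' ∧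
      ∃ roots : List A', P.map (algebraMap A A') = (roots.map (fun a => X - C a)).prod := by
  induction d with
  | zero =>
    intro A _ P hP hd
    refine ⟨A, inferInstance, inferInstance, inferInstance, inferInstance, inferInstance, [], ?_⟩
    rw [Polynomial.eq_one_of_monic_natDegree_zero hP hd]
    simp
  | succ d ih =>
    intro A _ P hP hd
    let A₁ := AdjoinRoot P
    let pb : PowerBasis A A₁ := AdjoinRoot.powerBasis' hP
    have hdim : pb.dim = d + 1 := by
      simp [pb, hd]
    haveI : Nonempty (Fin pb.dim) := by rw [hdim]; exact ⟨0⟩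
    haveI : Module.Free A A₁ := Module.Free.of_basis pb.basis
    haveI : Module.Finite A A₁ := pb.finite
    haveI : Module.FaithfullyFlat A A₁ := Module.FaithfullyFlat.of_linearEquiv A _ pb.basis.repr
    haveI : Nontrivial A := by
      by_contra hnt
      rw [not_nontrivial_iff_subsingleton] at hnt
      rw [Polynomial.natDegree_of_subsingleton] at hd
      omega
    haveI : Nontrivial A₁ := by
      have h1 : pb.basis ⟨0, by rw [hdim]; omega⟩ ≠ 0 := pb.basis.ne_zero _
      exact nontrivial_of_ne _ _ h1
    let r : A₁ := AdjoinRoot.root P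
    have hroot : (P.map (algebraMap A A₁)).IsRoot r := by
      rw [IsRoot, Polynomial.eval_map]
      exact AdjoinRoot.eval₂_root P
    let Q : Polynomial A₁ := P.map (algebraMap A A₁) /ₘ (X - C r)
    have hPQ : (X - C r) * Q = P.map (algebraMap A A₁) := mul_divByMonic_eq_iff_isRoot.mpr hroot
    have hPm : (P.map (algebraMap A A₁)).Monic := hP.map _
    have hQ : Q.Monic := by
      have : ((X - C r) * Q).Monic := by rw [hPQ]; exact hPm
      exact (monic_X_sub_C r).of_mul_monic_left this
    have hQd : Q.natDegree = d := by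
      have h1 := congrArg natDegree hPQ
      rw [(monic_X_sub_C r).natDegree_mul hQ, natDegree_X_sub_C, hP.natDegree_map, hd] at h1
      omega
    obtain ⟨A₂, _, _, hfree, hfin, hff, roots, hroots⟩ := ih A₁ Q hQ hQd
    letI : Algebra A A₂ := ((algebraMap A₁ A₂).comp (algebraMap A A₁)).toAlgebra
    haveI : IsScalarTower A A₁ A₂ := IsScalarTower.of_algebraMap_eq (fun _ => rfl)
    refine ⟨A₂, inferInstance, inferInstance,
      Module.Free.of_basis ((Module.Free.chooseBasis A A₁).smulTower (Module.Free.chooseBasis A₁ A₂)),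
      Module.Finite.trans A₁ A₂,
      Module.FaithfullyFlat.trans A A₁ A₂, algebraMap A₁ A₂ r :: roots, ?_⟩
    rw [List.map_cons, List.prod_cons, ← hroots]
    have : P.map (algebraMap A A₂) = (P.map (algebraMap A A₁)).map (algebraMap A₁ A₂) := by
      rw [Polynomial.map_map]; rfl
    rw [this, ← hPQ, Polynomial.map_mul, Polynomial.map_sub, map_X, map_C]

theorem exists_split_list_aux (n : ℕ) : ∀ (A : Type u) [CommRing A] (L : List (Polynomial A)),
    L.length = n → (∀ P ∈ L, P.Monic) →
    ∃ (A' : Type u) (_ : CommRing A') (_ : Algebra A A'), Module.Free A A' ∧ Module.Finite A A' ∧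
      Module.FaithfullyFlat A A' ∧
      ∀ P ∈ L, ∃ roots : List A', P.map (algebraMap A A') = (roots.map (fun a => X - C a)).prod := by
  induction n with
  | zero =>
    intro A _ L hn _
    rw [List.length_eq_zero_iff] at hn
    subst hn
    exact ⟨A, inferInstance, inferInstance, inferInstance, inferInstance, inferInstance,
      fun P hP => absurd hP (List.not_mem_nil)⟩
  | succ n ih =>
    intro A _ L hn hL
    obtain ⟨P, L, rfl⟩ : ∃ P L', L = P :: L' := by
      cases L with
      | nil => simp at hn
      | cons P L' => exact ⟨P, L', rfl⟩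
    obtain ⟨A₁, _, _, hfree₁, hfin₁, hff₁, roots₁, hroots₁⟩ :=
      exists_split P.natDegree A P (hL P (List.mem_cons_self)) rfl
    obtain ⟨A₂, _, _, hfree₂, hfin₂, hff₂, hroots₂⟩ := ih A₁ (L.map (Polynomial.map (algebraMap A A₁)))
      (by simpa using hn)
      (by
        intro Q hQ
        obtain ⟨Q', hQ', rfl⟩ := List.mem_map.mp hQ
        exact (hL Q' (List.mem_cons_of_mem _ hQ')).map _)
    letI : Algebra A A₂ := ((algebraMap A₁ A₂).comp (algebraMap A A₁)).toAlgebra
    haveI : IsScalarTower A A₁ A₂ := IsScalarTower.of_algebraMap_eq (fun _ => rfl)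
    have hmm : ∀ Q : Polynomial A, Q.map (algebraMap A A₂) =
        (Q.map (algebraMap A A₁)).map (algebraMap A₁ A₂) := by
      intro Q; rw [Polynomial.map_map]; rfl
    refine ⟨A₂, inferInstance, inferInstance,
      Module.Free.of_basis ((Module.Free.chooseBasis A A₁).smulTower (Module.Free.chooseBasis A₁ A₂)),
      Module.Finite.trans A₁ A₂, Module.FaithfullyFlat.trans A A₁ A₂, ?_⟩
    intro Q hQ
    rcases List.mem_cons.mp hQ with rfl | hQ
    · refine ⟨roots₁.map (algebraMap A₁ A₂), ?_⟩
      rw [hmm, hroots₁, Polynomial.map_list_prod, List.map_map, List.map_map]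
      congr 1
      apply List.map_congr_left
      intro a _
      simp
    · obtain ⟨roots, hroots⟩ := hroots₂ (Q.map (algebraMap A A₁)) (List.mem_map_of_mem hQ)
      exact ⟨roots, by rw [hmm, hroots]⟩

theorem list_prod_mem_prime {C : Type*} [CommRing C] (q : Ideal C) [hq : q.IsPrime] :
    ∀ l : List C, l.prod ∈ q → ∃ x ∈ l, x ∈ q := by
  intro l
  induction l with
  | nil =>
    intro h
    rw [List.prod_nil] at h
    exact absurd ((Ideal.eq_top_iff_one q).mpr h) hq.ne_top
  | cons a l ih =>
    intro h
    rw [List.prod_cons] at h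
    rcases hq.mem_or_mem h with h | h
    · exact ⟨a, List.mem_cons_self, h⟩
    · obtain ⟨x, hx, hxq⟩ := ih h
      exact ⟨x, List.mem_cons_of_mem _ hx, hxq⟩

theorem monic_list_prod_X_sub_C {C : Type*} [CommRing C] (l : List C) :
    (l.map (fun a => X - Polynomial.C a)).prod.Monic := by
  induction l with
  | nil => simp
  | cons a l ih =>
    rw [List.map_cons, List.prod_cons]
    exact (monic_X_sub_C a).mul ih

theorem eval₂_list_prod_X_sub_C {C T : Type*} [CommRing C] [CommRing T] (i : C →+* T) (x : T)
    (l : List C) :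
    ((l.map (fun a => X - Polynomial.C a)).prod).eval₂ i x = (l.map (fun a => x - i a)).prod := by
  induction l with
  | nil => simp
  | cons a l ih =>
    rw [List.map_cons, List.prod_cons, eval₂_mul, ih, List.map_cons, List.prod_cons]
    simp

theorem exists_cover_algebra (R : Type u) [CommRing R] (B' : Type u) [CommRing B'] [Algebra R B'] :
    ∀ (L : List B'),
    (∀ b ∈ L, ∃ roots : List R, (roots.map (fun α => b - algebraMap R B' α)).prod = 0) →
    ∃ (C : Type u) (_ : CommRing C) (_ : Algebra R C) (ψ : C →ₐ[R] B') (J : Type) (_ : Fintype J)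
      (π : J → (C →ₐ[R] R)),
      Module.Free R C ∧ Module.Finite R C ∧ (∀ b ∈ L, b ∈ ψ.range) ∧
      ∀ q : Ideal C, q.IsPrime → ∃ j, RingHom.ker (π j) ≤ q := by
  intro L
  induction L with
  | nil =>
    intro _
    refine ⟨R, inferInstance, inferInstance, Algebra.ofId R B', Unit, inferInstance,
      fun _ => AlgHom.id R R, inferInstance, inferInstance, fun b hb => absurd hb List.not_mem_nil, ?_⟩
    intro q _
    refine ⟨(), ?_⟩
    intro x hx
    have : x = 0 := hx
    rw [this]; exact q.zero_mem
  | cons b L ih =>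
    intro hL
    obtain ⟨C, _, _, ψ, J, _, π, hfree, hfin, hrange, hcover⟩ :=
      ih (fun b' hb' => hL b' (List.mem_cons_of_mem _ hb'))
    obtain ⟨roots, hroots⟩ := hL b List.mem_cons_self
    let rC : List C := roots.map (algebraMap R C)
    let Q : Polynomial C := (rC.map (fun a => X - Polynomial.C a)).prod
    have hQ : Q.Monic := monic_list_prod_X_sub_C rC
    let C' := AdjoinRoot Q
    let pb : PowerBasis C C' := AdjoinRoot.powerBasis' hQ
    haveI : Module.Free C C' := Module.Free.of_basis pb.basis
    haveI : Module.Finite C C' := pb.finite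
    have hevalψ : Q.eval₂ (ψ : C →+* B') b = 0 := by
      rw [eval₂_list_prod_X_sub_C, List.map_map]
      rw [← hroots]
      congr 1
      apply List.map_congr_left
      intro a _
      simp
    let ψ' : C' →ₐ[R] B' := AdjoinRoot.liftAlgHom Q ψ b hevalψ
    have hevalπ : ∀ (j : J) (k : Fin roots.length),
        Q.eval₂ ((π j : C →ₐ[R] R) : C →+* R) (roots.get k) = 0 := by
      intro j k
      rw [eval₂_list_prod_X_sub_C, List.map_map]
      apply List.prod_eq_zero
      rw [List.mem_map]
      refine ⟨roots.get k, List.get_mem _ _, ?_⟩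
      simp
    let π' : J × Fin roots.length → (C' →ₐ[R] R) := fun jk =>
      AdjoinRoot.liftAlgHom Q (π jk.1) (roots.get jk.2) (hevalπ jk.1 jk.2)
    refine ⟨C', inferInstance, inferInstance, ψ', J × Fin roots.length, inferInstance, π',
      Module.Free.of_basis ((Module.Free.chooseBasis R C).smulTower pb.basis),
      Module.Finite.trans C C', ?_, ?_⟩
    · intro b' hb'
      rcases List.mem_cons.mp hb' with rfl | hb'
      · exact ⟨AdjoinRoot.root Q, AdjoinRoot.liftAlgHom_root Q ψ _ hevalψ⟩
      · obtain ⟨c, hc⟩ := hrange b' hb'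
        exact ⟨AdjoinRoot.of Q c, (AdjoinRoot.liftAlgHom_of Q ψ _ hevalψ c).trans hc⟩
    · intro q hq
      haveI := hq
      obtain ⟨j, hj⟩ := hcover (q.comap (AdjoinRoot.of Q)) inferInstance
      -- the root satisfies Q, so some factor lies in q
      have hrootQ : ((rC.map (fun a => AdjoinRoot.root Q - AdjoinRoot.of Q a)).prod) = 0 := by
        rw [← eval₂_list_prod_X_sub_C (AdjoinRoot.of Q) (AdjoinRoot.root Q) rC]
        exact AdjoinRoot.eval₂_root Q
      have hmem : ((rC.map (fun a => AdjoinRoot.root Q - AdjoinRoot.of Q a)).prod) ∈ q := by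
        rw [hrootQ]; exact q.zero_mem
      obtain ⟨x, hx, hxq⟩ := list_prod_mem_prime q _ hmem
      rw [List.mem_map] at hx
      obtain ⟨a, ha, rfl⟩ := hx
      rw [List.mem_map] at ha
      obtain ⟨α, hα, rfl⟩ := ha
      obtain ⟨k, hk⟩ := List.get_of_mem hα
      refine ⟨(j, k), ?_⟩
      intro x hx
      obtain ⟨p, rfl⟩ := AdjoinRoot.mk_surjective x
      have hp0 : p.eval₂ ((π j : C →ₐ[R] R) : C →+* R) α = 0 := by
        have h1 : π' (j, k) (AdjoinRoot.mk Q p) = 0 := hx
        rw [← hk]
        exact h1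
      let g : R →+* C' ⧸ q := (Ideal.Quotient.mk q).comp (algebraMap R C')
      let χ : Polynomial C →+* C' ⧸ q := (Ideal.Quotient.mk q).comp (AdjoinRoot.mk Q)
      let χ' : Polynomial C →+* C' ⧸ q :=
        Polynomial.eval₂RingHom (g.comp ((π j : C →ₐ[R] R) : C →+* R)) (g α)
      have hχ : χ = χ' := by
        apply Polynomial.ringHom_ext
        · intro c
          simp only [χ, χ', RingHom.comp_apply, AdjoinRoot.mk_C, Polynomial.coe_eval₂RingHom,
            Polynomial.eval₂_C, g]
          rw [Ideal.Quotient.eq]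
          have h1 : c - algebraMap R C (π j c) ∈ RingHom.ker (π j) := by
            rw [RingHom.mem_ker, map_sub, AlgHom.commutes, Algebra.algebraMap_self_apply, sub_self]
          have h2 := hj h1
          rw [Ideal.mem_comap, map_sub] at h2
          have h3 : algebraMap R C' (((π j : C →ₐ[R] R) : C →+* R) c) =
              AdjoinRoot.of Q (algebraMap R C (π j c)) := by
            rw [AdjoinRoot.algebraMap_eq']; rfl
          rw [h3, AdjoinRoot.mk_C]
          exact h2
        · simp only [χ, χ', RingHom.comp_apply, AdjoinRoot.mk_X, Polynomial.coe_eval₂RingHom,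
            Polynomial.eval₂_X, g]
          rw [Ideal.Quotient.eq]
          have h3 : algebraMap R C' α = AdjoinRoot.of Q (algebraMap R C α) := by
            rw [AdjoinRoot.algebraMap_eq']; rfl
          rw [h3, AdjoinRoot.mk_X]
          exact hxq
      have h4 : χ p = 0 := by
        rw [hχ]
        change p.eval₂ (g.comp ((π j : C →ₐ[R] R) : C →+* R)) (g α) = 0
        rw [← Polynomial.hom_eval₂, hp0, map_zero]
      exact Ideal.Quotient.eq_zero_iff_mem.mp h4

theorem ring_level (A B : Type u) [CommRing A] [CommRing B] [Algebra A B] [Module.Finite A B] :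
    ∃ (A' : Type u) (_ : CommRing A') (_ : Algebra A A') (C : Type u) (_ : CommRing C)
      (_ : Algebra A' C) (ψ : C →ₐ[A'] (A' ⊗[A] B)) (J : Type) (_ : Fintype J)
      (π : J → (C →ₐ[A'] A')),
      Module.Free A A' ∧ Module.Finite A A' ∧ Module.FaithfullyFlat A A' ∧
      Module.Free A' C ∧ Module.Finite A' C ∧ Function.Surjective ψ ∧
      ∀ q : Ideal C, q.IsPrime → ∃ j, RingHom.ker (π j) ≤ q := by
  classical
  obtain ⟨s, hs⟩ := (Module.Finite.fg_top : (⊤ : Submodule A B).FG)
  have hint : ∀ b : B, ∃ P : Polynomial A, P.Monic ∧ P.eval₂ (algebraMap A B) b = 0 :=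
    fun b => Algebra.IsIntegral.isIntegral (R := A) b
  choose P hPm hP0 using hint
  obtain ⟨A', _, _, hfree, hfin, hff, hroots⟩ :=
    exists_split_list_aux _ A (s.toList.map P) rfl (by
      intro Q hQ
      obtain ⟨b, _, rfl⟩ := List.mem_map.mp hQ
      exact hPm b)
  let ιB : B →ₐ[A] A' ⊗[A] B := Algebra.TensorProduct.includeRight
  have hL : ∀ b' ∈ s.toList.map ιB, ∃ roots : List A',
      (roots.map (fun α => b' - algebraMap A' (A' ⊗[A] B) α)).prod = 0 := by
    intro b' hb'
    obtain ⟨b, hb, rfl⟩ := List.mem_map.mp hb'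
    obtain ⟨roots, hr⟩ := hroots (P b) (List.mem_map_of_mem hb)
    refine ⟨roots, ?_⟩
    rw [← eval₂_list_prod_X_sub_C (algebraMap A' (A' ⊗[A] B)) (ιB b) roots, ← hr,
      Polynomial.eval₂_map, ← IsScalarTower.algebraMap_eq A A' (A' ⊗[A] B)]
    have h1 : (P b).eval₂ (algebraMap A (A' ⊗[A] B)) (ιB b) =
        ιB ((P b).eval₂ (algebraMap A B) b) := by
      have h2 := Polynomial.hom_eval₂ (P b) (algebraMap A B) (ιB : B →+* A' ⊗[A] B) b
      rw [show ((ιB : B →+* A' ⊗[A] B).comp (algebraMap A B)) = algebraMap A (A' ⊗[A] B) from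
        ιB.comp_algebraMap] at h2
      exact h2.symm
    rw [h1, hP0, map_zero]
  obtain ⟨C, _, _, ψ, J, _, π, hCfree, hCfin, hrange, hcover⟩ :=
    exists_cover_algebra A' (A' ⊗[A] B) (s.toList.map ιB) hL
  refine ⟨A', inferInstance, inferInstance, C, inferInstance, inferInstance, ψ, J, inferInstance, π,
    hfree, hfin, hff, hCfree, hCfin, ?_, hcover⟩
  -- surjectivity of ψ
  have h1 : ∀ b : B, ιB b ∈ ψ.range := by
    intro b
    have hb : b ∈ Submodule.span A (s : Set B) := by rw [hs]; trivial
    induction hb using Submodule.span_induction with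
    | mem x hx =>
      exact hrange _ (List.mem_map_of_mem (Finset.mem_toList.mpr hx))
    | zero => rw [map_zero]; exact Subalgebra.zero_mem _
    | add x y _ _ hx hy => rw [map_add]; exact Subalgebra.add_mem _ hx hy
    | smul a x _ hx =>
      rw [map_smul, Algebra.smul_def, IsScalarTower.algebraMap_apply A A' (A' ⊗[A] B)]
      exact Subalgebra.mul_mem _ (Subalgebra.algebraMap_mem _ _) hx
  intro x
  change x ∈ ψ.range
  induction x using TensorProduct.induction_on with
  | zero => exact Subalgebra.zero_mem _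
  | tmul a' b =>
    have : a' ⊗ₜ[A] b = algebraMap A' (A' ⊗[A] B) a' * ιB b := by
      simp [ιB, Algebra.TensorProduct.algebraMap_apply]
    rw [this]
    exact Subalgebra.mul_mem _ (Subalgebra.algebraMap_mem _ _) (h1 b)
  | add x y hx hy => exact Subalgebra.add_mem _ hx hy

theorem finLocFree_SpecMap {R S : Type u} [CommRing R] [CommRing S] [Algebra R S]
    [Module.Free R S] [Module.Finite R S] :
    Mor2.IsFinLocFree (Spec.map (CommRingCat.ofHom (algebraMap R S))) := by
  refine ⟨?_, ?_, ?_⟩
  · rw [IsFinite.SpecMap_iff]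
    exact RingHom.finite_algebraMap.mpr inferInstance
  · rw [Flat.SpecMap_iff]
    exact RingHom.flat_algebraMap_iff.mpr inferInstance
  · rw [HasRingHomProperty.Spec_iff (P := @LocallyOfFinitePresentation)]
    haveI : Module.FinitePresentation R S := Module.finitePresentation_of_projective R S
    have : Algebra.FinitePresentation R S := Algebra.FinitePresentation.of_finitePresentation R S
    exact RingHom.finitePresentation_algebraMap.mpr this

theorem isFinLocFree_comp_iso {X Y Z : Scheme.{u}} (f : X ⟶ Y) (g : Y ⟶ Z) [IsIso g]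
    (hf : Mor2.IsFinLocFree f) : Mor2.IsFinLocFree (f ≫ g) := by
  obtain ⟨h1, h2, h3⟩ := hf
  exact ⟨inferInstance, inferInstance, inferInstance⟩


/-- Let f : Y ⟶ X be finite with X affine. Then there exist a surjective finite locally free b : X' ⟶ X,
a finite locally free c : Z' ⟶ X' and a closed immersion i of Y' = X' ×_X Y into Z' over X' such
that Z' is, as a set, the union of finitely many closed subschemes each mapping isomorphically onto
X'. (The published statement also records that Y' ⟶ Y is surjective finite locally free, which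
follows by base change; this row omits it.) -/
theorem result {X Y : Scheme.{u}} [IsAffine X] (f : Y ⟶ X)
    [IsFinite f] :
    ∃ (X' : Scheme.{u}) (b : X' ⟶ X) (Z' : Scheme.{u}) (c : Z' ⟶ X') (i : pullback f b ⟶ Z'),
      Mor2.IsFinLocFree b ∧ Surjective b ∧ Mor2.IsFinLocFree c ∧ IsClosedImmersion i ∧
      i ≫ c = pullback.snd f b ∧
      ∃ (m : ℕ) (Zj : Fin m → Scheme.{u}) (ιj : ∀ j, Zj j ⟶ Z'),
        (∀ j, IsClosedImmersion (ιj j)) ∧ (∀ j, IsIso (ιj j ≫ c)) ∧
        (⋃ j, Set.range (ιj j).base) = Set.univ := by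
  haveI : IsAffine Y := isAffine_of_isAffineHom f
  have hfin : RingHom.Finite f.appTop.hom :=
    ((HasAffineProperty.iff_of_isAffine (P := @IsFinite)).mp ‹IsFinite f›).2
  letI : Algebra Γ(X, ⊤) Γ(Y, ⊤) := f.appTop.hom.toAlgebra
  haveI : Module.Finite Γ(X, ⊤) Γ(Y, ⊤) := hfin
  obtain ⟨A', _, _, C, _, _, ψ, J, _, π, hfree, hfinA', hff, hCfree, hCfin, hψ, hcover⟩ :=
    ring_level Γ(X, ⊤) Γ(Y, ⊤)
  -- schemes
  let b : Spec (CommRingCat.of A') ⟶ X :=
    Spec.map (CommRingCat.ofHom (algebraMap Γ(X, ⊤) A')) ≫ X.isoSpec.inv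
  let c : Spec (CommRingCat.of C) ⟶ Spec (CommRingCat.of A') :=
    Spec.map (CommRingCat.ofHom (algebraMap A' C))
  -- pullback square
  have sq0 := isPullback_SpecMap_of_isPushout _ _ _ _
    (CommRingCat.isPushout_tensorProduct Γ(X, ⊤) A' Γ(Y, ⊤))
  have hfeq : f = Y.isoSpec.hom ≫ Spec.map f.appTop ≫ X.isoSpec.inv := by
    rw [← Category.assoc, Scheme.isoSpec_hom_naturality, Category.assoc, Iso.hom_inv_id,
      Category.comp_id]
  have sq : IsPullback
      (Spec.map (CommRingCat.ofHom (S := A' ⊗[Γ(X, ⊤)] Γ(Y, ⊤))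
        Algebra.TensorProduct.includeRight.toRingHom) ≫ Y.isoSpec.inv)
      (Spec.map (CommRingCat.ofHom (S := A' ⊗[Γ(X, ⊤)] Γ(Y, ⊤))
        Algebra.TensorProduct.includeLeftRingHom)) f b := by
    refine IsPullback.of_iso sq0.flip (Iso.refl _) Y.isoSpec.symm (Iso.refl _) X.isoSpec.symm
      ?_ ?_ ?_ ?_
    · simp
    · simp
    · simp only [Iso.symm_hom]
      rw [hfeq]
      simp
      rfl
    · simp [b]
  let i : pullback f b ⟶ Spec (CommRingCat.of C) :=
    sq.isoPullback.inv ≫ Spec.map (CommRingCat.ofHom ψ.toRingHom)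
  let e : Fin (Fintype.card J) ≃ J := (Fintype.equivFin J).symm
  refine ⟨Spec (CommRingCat.of A'), b, Spec (CommRingCat.of C), c, i, ?_, ?_, ?_, ?_, ?_,
    Fintype.card J, fun _ => Spec (CommRingCat.of A'),
    fun k => Spec.map (CommRingCat.ofHom (π (e k)).toRingHom), ?_, ?_, ?_⟩
  · exact isFinLocFree_comp_iso _ _ finLocFree_SpecMap
  · have h1 : Surjective (Spec.map (CommRingCat.ofHom (algebraMap Γ(X, ⊤) A'))) := by
      have := (flat_and_surjective_SpecMap_iff (CommRingCat.ofHom (algebraMap Γ(X, ⊤) A'))).mpr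
        (RingHom.faithfullyFlat_algebraMap_iff.mpr hff)
      exact this.2
    exact inferInstance
  · exact finLocFree_SpecMap
  · have h1 : IsClosedImmersion (Spec.map (CommRingCat.ofHom ψ.toRingHom)) :=
      IsClosedImmersion.spec_of_surjective _ hψ
    exact inferInstance
  · simp only [i, c, Category.assoc]
    rw [← Spec.map_comp]
    have h1 : CommRingCat.ofHom (algebraMap A' C) ≫ CommRingCat.ofHom ψ.toRingHom =
        CommRingCat.ofHom (S := A' ⊗[Γ(X, ⊤)] Γ(Y, ⊤))
          Algebra.TensorProduct.includeLeftRingHom := by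
      ext a
      exact ψ.commutes a
    rw [h1]
    exact sq.isoPullback_inv_snd
  · intro k
    apply IsClosedImmersion.spec_of_surjective
    intro a
    exact ⟨algebraMap A' C a, (π (e k)).commutes a⟩
  · intro k
    have h1 : Spec.map (CommRingCat.ofHom (π (e k)).toRingHom) ≫ c = 𝟙 _ := by
      simp only [c]
      rw [← Spec.map_comp]
      have : CommRingCat.ofHom (algebraMap A' C) ≫ CommRingCat.ofHom (π (e k)).toRingHom =
          𝟙 (CommRingCat.of A') := by
        ext a
        exact (π (e k)).commutes a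
      rw [this, Spec.map_id]
    rw [h1]
    infer_instance
  · rw [Set.eq_univ_iff_forall]
    intro z
    obtain ⟨j, hj⟩ := hcover z.asIdeal z.isPrime
    rw [Set.mem_iUnion]
    refine ⟨e.symm j, ?_⟩
    change z ∈ Set.range ⇑(Spec.map (CommRingCat.ofHom (π (e (e.symm j))).toRingHom))
    rw [Equiv.apply_symm_apply]
    have hsurj : Function.Surjective (π j).toRingHom := fun a =>
      ⟨algebraMap A' C a, (π j).commutes a⟩
    have := range_comap_of_surjective _ (π j).toRingHom hsurj
    change z ∈ Set.range (PrimeSpectrum.comap (π j).toRingHom)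
    rw [this]
    exact hj

end Groth.Agent.S9703
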