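import Groth.Statements.S9709
import Mathlib
-- import your own Groth.Agent.* helpers here

set_option autoImplicit false
universe u
open CategoryTheory CategoryTheory.Limits AlgebraicGeometry
open Mor

namespace Groth.Agent.S9709

/-- Let f : X ⟶ S be an integral morphism. Then every point x of X is closed in its fibre: a point of
f⁻¹(f x) specialising from x equals x. -/
theorem result {X S : Scheme.{u}} (f : X ⟶ S) [IsIntegralHom f] (x : X) :
    closure {x} ∩ f.base ⁻¹' {f.base x} = {x} := by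
  classical
  apply Set.eq_singleton_iff_unique_mem.2
  refine ⟨⟨subset_closure rfl, rfl⟩, ?_⟩
  rintro x' ⟨hcl, hfx'⟩
  have hfx : f x' = f x := hfx'
  have hsp : x ⤳ x' := specializes_iff_mem_closure.2 hcl
  obtain ⟨_, ⟨V, hV, rfl⟩, hyV, -⟩ :=
    S.isBasis_affineOpens.exists_subset_of_mem_open (Set.mem_univ (f x)) isOpen_univ
  have hU : IsAffineOpen (f ⁻¹ᵁ V) := hV.preimage f
  have hx'U : x' ∈ f ⁻¹ᵁ V := by
    show f x' ∈ V
    rw [hfx]; exact hyV
  have hxU : x ∈ f ⁻¹ᵁ V := hyV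
  set q := hU.primeIdealOf ⟨x, hxU⟩ with hq
  set q' := hU.primeIdealOf ⟨x', hx'U⟩ with hq'
  have hqx : hU.fromSpec q = x := hU.fromSpec_primeIdealOf ⟨x, hxU⟩
  have hqx' : hU.fromSpec q' = x' := hU.fromSpec_primeIdealOf ⟨x', hx'U⟩
  have hsp' : q ⤳ q' := by
    have h0 : hU.fromSpec q ⤳ hU.fromSpec q' := by rw [hqx, hqx']; exact hsp
    exact (hU.fromSpec.isOpenEmbedding.isInducing.specializes_iff).1 h0
  have hle : q.asIdeal ≤ q'.asIdeal := (PrimeSpectrum.le_iff_specializes q q').2 hsp'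
  have h1 := IsAffineOpen.comap_primeIdealOf_appLE (f := f) V hV (f ⁻¹ᵁ V) hU le_rfl hxU
  have h2 := IsAffineOpen.comap_primeIdealOf_appLE (f := f) V hV (f ⁻¹ᵁ V) hU le_rfl hx'U
  have h3 : q.comap (f.appLE V (f ⁻¹ᵁ V) le_rfl).hom = q'.comap (f.appLE V (f ⁻¹ᵁ V) le_rfl).hom := by
    rw [hq, hq', h1, h2]
    congr 1
    exact Subtype.ext hfx.symm
  have hint : (f.appLE V (f ⁻¹ᵁ V) le_rfl).hom.IsIntegral := by
    rw [← Scheme.Hom.app_eq_appLE]
    exact f.isIntegral_app V hV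
  letI : Algebra Γ(S, V) Γ(X, f ⁻¹ᵁ V) := (f.appLE V (f ⁻¹ᵁ V) le_rfl).hom.toAlgebra
  haveI : Algebra.IsIntegral Γ(S, V) Γ(X, f ⁻¹ᵁ V) := ⟨hint⟩
  have heq : q.asIdeal = q'.asIdeal := by
    by_contra hne
    have hlt : q.asIdeal < q'.asIdeal := lt_of_le_of_ne hle hne
    have := Ideal.IsIntegral.comap_lt_comap (R := Γ(S, V)) hlt
    have h4 := congrArg PrimeSpectrum.asIdeal h3
    exact absurd h4 (ne_of_lt this)
  have : q = q' := PrimeSpectrum.ext heq
  rw [← hqx', ← this, hqx]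

end Groth.Agent.S9709
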