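import Groth.Statements.S9714
import Groth.Agent.Lib.Helper20UnrField

set_option autoImplicit false
universe u
open CategoryTheory CategoryTheory.Limits AlgebraicGeometry
open Mor

namespace Groth.Agent.S9714

/-- Let k be a field and X a scheme over k. The structure morphism X ⟶ Spec k is unramified (formally
unramified and locally of finite type) if and only if X is isomorphic over k to a disjoint union of
spectra of finite separable field extensions of k. -/
theorem result (k : Type u) [Field k] {X : Scheme.{u}}
    (f : X ⟶ Spec (CommRingCat.of k)) :
    (FormallyUnramified f ∧ LocallyOfFiniteType f) ↔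
      ∃ (ι : Type u) (K : ι → Type u) (_ : ∀ i, Field (K i)) (_ : ∀ i, Algebra k (K i)),
        (∀ i, FiniteDimensional k (K i) ∧ Algebra.IsSeparable k (K i)) ∧
        ∃ e : X ≅ ∐ (fun i => Spec (CommRingCat.of (K i))),
          e.hom ≫ Sigma.desc (fun i => Spec.map (CommRingCat.ofHom (algebraMap k (K i)))) = f := by
  constructor
  · rintro ⟨_, _⟩
    choose K hK1 hK2 j hfin hsep hj hrange hcomp using
      Groth.Agent.Lib.Helper20.UnrField.exists_point_chart k f
    have hiso : IsIso (Sigma.desc j) := by
      have := nonempty_isColimit_cofanMk_of j ?_ ?_
      · rwa [Cofan.nonempty_isColimit_iff_isIso_sigmaDesc (Cofan.mk X j)] at this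
      · rw [eq_top_iff]
        intro x _
        refine TopologicalSpace.Opens.mem_iSup.mpr ⟨x, ?_⟩
        change x ∈ Set.range (j x)
        rw [hrange x]; rfl
      · intro x y hxy
        change Disjoint (j x).opensRange (j y).opensRange
        rw [← TopologicalSpace.Opens.coe_disjoint]
        change Disjoint (Set.range (j x)) (Set.range (j y))
        rw [hrange x, hrange y]
        simpa using hxy
    refine ⟨X, K, hK1, hK2, fun i => ⟨hfin i, hsep i⟩, (asIso (Sigma.desc j)).symm, ?_⟩
    change inv (Sigma.desc j) ≫ _ = f
    rw [IsIso.inv_comp_eq]
    refine Sigma.hom_ext _ _ fun i => ?_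
    rw [Sigma.ι_desc, Sigma.ι_desc_assoc, hcomp i]
  · rintro ⟨ι, K, _, _, hK, e, he⟩
    rw [← he]
    constructor
    · have : FormallyUnramified (Sigma.desc fun i =>
          Spec.map (CommRingCat.ofHom (algebraMap k (K i)))) := by
        apply IsZariskiLocalAtSource.sigmaDesc
        intro i
        rw [HasRingHomProperty.Spec_iff (P := @FormallyUnramified)]
        rw [CommRingCat.hom_ofHom, RingHom.formallyUnramified_algebraMap]
        have := (hK i).2
        exact Algebra.FormallyUnramified.of_isSeparable k (K i)
      exact (MorphismProperty.cancel_left_of_respectsIso @FormallyUnramified e.hom _).mpr this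
    · have : LocallyOfFiniteType (Sigma.desc fun i =>
          Spec.map (CommRingCat.ofHom (algebraMap k (K i)))) := by
        apply IsZariskiLocalAtSource.sigmaDesc
        intro i
        rw [HasRingHomProperty.Spec_iff (P := @LocallyOfFiniteType)]
        rw [CommRingCat.hom_ofHom, RingHom.finiteType_algebraMap]
        have := (hK i).1
        infer_instance
      exact (MorphismProperty.cancel_left_of_respectsIso @LocallyOfFiniteType e.hom _).mpr this

end Groth.Agent.S9714
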