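import Groth.Statements.S9720
import Groth.Agent.Lib.Helper20BCDescSch

set_option autoImplicit false
universe u
open CategoryTheory CategoryTheory.Limits AlgebraicGeometry
open Mor

namespace Groth.Agent.S9720

/-- Let f : X ⟶ S be locally of finite type such that for every point s of S the fibre X_s is isomorphic
over κ(s) to a coproduct of schemes Spec K_i, each K_i a finite separable extension field of κ(s).
In that case f is formally unramified (so unramified, being locally of finite type). -/
theorem result {X S : Scheme.{u}} (f : X ⟶ S) [LocallyOfFiniteType f]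
    (H : ∀ s : S, ∃ (ι : Type u) (K : ι → Type u) (_ : ∀ i, Field (K i))
      (_ : ∀ i, Algebra (S.residueField s) (K i)),
      (∀ i, FiniteDimensional (S.residueField s) (K i) ∧ Algebra.IsSeparable (S.residueField s) (K i)) ∧
        ∃ e : f.fiber s ≅ ∐ (fun i => Spec (CommRingCat.of (K i))),
          e.hom ≫ Sigma.desc (fun i => Spec.map (CommRingCat.ofHom (algebraMap (S.residueField s) (K i)))) =
            f.fiberToSpecResidueField s) :
    FormallyUnramified f := by
  apply Groth.Agent.Lib.Helper20.FlatDesc.of_forall_exists_nbhd (P := @FormallyUnramified)
  intro x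
  apply Groth.Agent.Lib.Helper20.EtLocal.exists_formallyUnramified_nbhd f x
  obtain ⟨ι, K, _, _, hK, e, he⟩ := H (f x)
  have hfu : FormallyUnramified (f.fiberToSpecResidueField (f x)) := by
    rw [← he]
    have : FormallyUnramified (Sigma.desc fun i =>
        Spec.map (CommRingCat.ofHom (algebraMap (S.residueField (f x)) (K i)))) := by
      apply IsZariskiLocalAtSource.sigmaDesc
      intro i
      rw [HasRingHomProperty.Spec_iff (P := @FormallyUnramified)]
      rw [CommRingCat.hom_ofHom, RingHom.formallyUnramified_algebraMap]
      have := (hK i).2
      exact Algebra.FormallyUnramified.of_isSeparable (S.residueField (f x)) (K i)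
    exact (MorphismProperty.cancel_left_of_respectsIso @FormallyUnramified e.hom _).mpr this
  have h1 := FormallyUnramified.stalkMap (f.fiberToSpecResidueField (f x)) (f.asFiber x)
  have h2 := Groth.Agent.Lib.Helper20.FlatDesc.formallyUnramified_stalkMap_of_baseChange f
    (S.fromSpecResidueField (f x)) (f.asFiber x) h1
  have key : ∀ z : X, z = x → (f.stalkMap z).hom.FormallyUnramified →
      (f.stalkMap x).hom.FormallyUnramified := by
    rintro z rfl h; exact h
  exact key _ (f.fiberι_asFiber x) h2

end Groth.Agent.S9720
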