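import Groth.Statements.S9721
import Groth.Agent.Lib.Helper3AppLE
import Mathlib

set_option autoImplicit false
universe u
open CategoryTheory AlgebraicGeometry
open Mor

namespace Groth.Agent.S9721

/-- Let f : X ⟶ S be a morphism, x a point of X and V an affine open neighbourhood of f(x) in S. Then f
is smooth on some open neighbourhood of x if and only if there is an affine open neighbourhood U of
x with f(U) ⊆ V such that the induced ring map Γ(S, V) ⟶ Γ(X, U) is standard smooth. -/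
theorem result {X S : Scheme.{u}} (f : X ⟶ S) (x : X)
    (V : S.Opens) (hV : IsAffineOpen V) (hxV : f x ∈ V) :
    (∃ W : X.Opens, x ∈ W ∧ Smooth (W.ι ≫ f)) ↔
      ∃ (U : X.Opens) (_ : IsAffineOpen U) (_ : x ∈ U) (e : U ≤ f ⁻¹ᵁ V),
        (f.appLE V U e).hom.IsStandardSmooth := by
  constructor
  · rintro ⟨W, hxW, hW⟩
    obtain ⟨U₀', hU₀, hxU₀, hU₀le⟩ :=
      TopologicalSpace.Opens.isBasis_iff_nbhd.mp X.isBasis_affineOpens
        (show x ∈ W ⊓ f ⁻¹ᵁ V from ⟨hxW, hxV⟩)
    let U₀ : X.Opens := U₀' 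
    have hU₀W : U₀ ≤ W := hU₀le.trans inf_le_left
    have e₀ : U₀ ≤ f ⁻¹ᵁ V := hU₀le.trans inf_le_right
    have hsm : Smooth (U₀.ι ≫ f) := by
      show Smooth (Scheme.Opens.ι U₀ ≫ f)
      rw [← X.homOfLE_ι hU₀W, Category.assoc]
      infer_instance
    have h1 : (f.appLE V U₀ e₀).hom.Smooth := Groth.Agent.Lib.Helper3.AppLE.appLE_of_ι_comp (P := @Smooth) f hV hU₀ e₀ hsm
    algebraize [(f.appLE V U₀ e₀).hom]
    haveI : Algebra.FinitePresentation Γ(S, V) Γ(X, U₀) := inferInstance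
    haveI : Algebra.IsSmoothAt Γ(S, V) (hU₀.primeIdealOf ⟨x, hxU₀⟩).asIdeal := by
      show Algebra.FormallySmooth _ _
      infer_instance
    obtain ⟨r, hrx, hr⟩ := Algebra.IsSmoothAt.exists_notMem_isStandardSmooth Γ(S, V)
      (hU₀.primeIdealOf ⟨x, hxU₀⟩).asIdeal
    refine ⟨X.basicOpen r, hU₀.basicOpen r,
      Groth.Agent.Lib.Helper20.EtLocal.mem_basicOpen_of_notMem_primeIdealOf hU₀ x hxU₀ r hrx,
      (X.basicOpen_le r).trans e₀, ?_⟩
    apply Groth.Agent.Lib.Helper20.EtLocal.appLE_basicOpen_of_away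
      RingHom.isStandardSmooth_respectsIso f hU₀ e₀ r
    rw [RingHom.isStandardSmooth_algebraMap]
    exact hr
  · rintro ⟨U, hU, hxU, e, h⟩
    refine ⟨U, hxU, ?_⟩
    apply Groth.Agent.Lib.Helper20.EtLocal.ι_comp_of_appLE (P := @Smooth)
      (fun f g hf hg => by have := hf; have := hg; infer_instance)
      (fun g _ => inferInstance) f hV hU e
    algebraize [(f.appLE V U e).hom]
    rw [← RingHom.algebraMap_toAlgebra (f.appLE V U e).hom, RingHom.smooth_algebraMap]
    infer_instance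

end Groth.Agent.S9721
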