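import Groth.Statements.S9723
import Mathlib
-- import your own Groth.Agent.* helpers here

set_option autoImplicit false
universe u
open FlatMor

namespace Groth.Agent.S9723

open AlgebraicGeometry CategoryTheory in
theorem surj_specMap_mk (A : Type u) [CommRing A] (I : Ideal A) (hI : I ^ 2 = ⊥)
    (y : ↥(Spec (CommRingCat.of A))) :
    ∃ y₀ : ↥(Spec (CommRingCat.of (A ⧸ I))),
      (Spec.map (CommRingCat.ofHom (Ideal.Quotient.mk I))).base y₀ = y := by
  have hle : I ≤ nilradical A := by
    intro x hx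
    refine ⟨2, ?_⟩
    have : x ^ 2 ∈ I ^ 2 := Ideal.pow_mem_pow hx 2
    rw [hI] at this
    exact this
  have hy := (PrimeSpectrum.comap_quotientMk_bijective_of_le_nilradical hle).2 y
  obtain ⟨y₀, hy₀⟩ := hy
  exact ⟨y₀, hy₀⟩


open AlgebraicGeometry CategoryTheory in
/-- Let f : X ⟶ S be formally étale (unique infinitesimal lifting against square-zero thickenings of
affine schemes), and let U be an open subscheme of X and V an open subscheme of S such that f maps U
into V. Then the restricted morphism U ⟶ V is formally étale. -/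
theorem result {X S : Scheme.{u}} (f : X ⟶ S) (hf : MoreMor.IsFormallyEtaleHom f)
    (U : X.Opens) (V : S.Opens) (h : U ≤ f ⁻¹ᵁ V) : MoreMor.IsFormallyEtaleHom (f.resLE V U h) := by
  intro A _ I hI a b hab
  have hab' : Spec.map (CommRingCat.ofHom (Ideal.Quotient.mk I)) ≫ (b ≫ V.ι) = (a ≫ U.ι) ≫ f := by
    rw [← Category.assoc, hab, Category.assoc, Category.assoc, Scheme.Hom.resLE_comp_ι]
  obtain ⟨l', ⟨hl'1, hl'2⟩, hl'u⟩ := hf A I hI (a ≫ U.ι) (b ≫ V.ι) hab'
  have hrange : Set.range l'.base ⊆ Set.range U.ι.base := by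
    rintro _ ⟨y, rfl⟩
    obtain ⟨y₀, rfl⟩ := surj_specMap_mk A I hI y
    have : l'.base ((Spec.map (CommRingCat.ofHom (Ideal.Quotient.mk I))).base y₀) =
        U.ι.base (a.base y₀) := by
      have := congrArg (fun g => g.base y₀) hl'1
      simpa using this
    rw [this]
    exact ⟨_, rfl⟩
  set l := IsOpenImmersion.lift U.ι l' hrange with hl
  have hlfac : l ≫ U.ι = l' := IsOpenImmersion.lift_fac _ _ _
  refine ⟨l, ⟨?_, ?_⟩, ?_⟩
  · rw [← cancel_mono U.ι, Category.assoc, hlfac, hl'1]
  · rw [← cancel_mono V.ι, Category.assoc, Scheme.Hom.resLE_comp_ι, ← Category.assoc, hlfac, hl'2]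
  · rintro l₂ ⟨h1, h2⟩
    rw [← cancel_mono U.ι, hlfac]
    apply hl'u
    refine ⟨?_, ?_⟩
    · rw [← Category.assoc, h1]
    · rw [Category.assoc, ← Scheme.Hom.resLE_comp_ι f h, ← Category.assoc, h2]

end Groth.Agent.S9723
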