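import Groth.Statements.S9728
import Groth.Agent.Lib.Helper13LciSmD
-- import your own Groth.Agent.* helpers here

set_option autoImplicit false
universe u
open FlatMor

namespace Groth.Agent.S9728

open AlgebraicGeometry CategoryTheory Limits in
theorem aux {S U P P' : Scheme.{u}} (q : U ⟶ S)
    (p : P ⟶ S) (p' : P' ⟶ S) [Smooth p] [Smooth p'] (i : U ⟶ P) (i' : U ⟶ P') [IsImmersion i']
    (hi : i ≫ p = q) (hi' : i' ≫ p' = q) (V : U.Opens)
    (h : RegImm.IsRegularImmersion RegImm.Kind.koszul (V.ι ≫ i)) :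
    RegImm.IsRegularImmersion RegImm.Kind.koszul (V.ι ≫ i') := by
  have h1 := Groth.Agent.Helper13SmKR.lciMor_comp (V.ι ≫ i) p
    (Groth.Agent.Helper13SmKR.lciMor_of_isRegularImmersion _ h)
    (Groth.Agent.Helper13SmKR.lciMor_of_smooth p)
  have h2 : (V.ι ≫ i) ≫ p = (V.ι ≫ i') ≫ p' := by
    rw [Category.assoc, Category.assoc, hi, hi']
  rw [h2] at h1
  exact Groth.Agent.Helper13SmKR.isRegularImmersion_of_lciMor _
    (Groth.Agent.Helper13SmKR.lciMor_of_comp_of_smooth _ p' h1)


open AlgebraicGeometry CategoryTheory Limits in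
/-- Given S-schemes U, P, P' with P and P' smooth over S, immersions i : U ⟶ P and i' : U ⟶ P'
compatible with the structure maps to S, and a point u of U, some restriction of i to an open
neighbourhood of u is a Koszul-regular immersion exactly when some restriction of i' to an open
neighbourhood of u is. -/
theorem result {S U P P' : Scheme.{u}} (q : U ⟶ S)
    (p : P ⟶ S) (p' : P' ⟶ S) [Smooth p] [Smooth p'] (i : U ⟶ P) (i' : U ⟶ P') [IsImmersion i] [IsImmersion i']
    (hi : i ≫ p = q) (hi' : i' ≫ p' = q) (u : U) :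
    (∃ V : U.Opens, u ∈ V ∧ RegImm.IsRegularImmersion RegImm.Kind.koszul (V.ι ≫ i)) ↔
      (∃ V : U.Opens, u ∈ V ∧ RegImm.IsRegularImmersion RegImm.Kind.koszul (V.ι ≫ i')) := by
  constructor
  · rintro ⟨V, hV, h⟩
    exact ⟨V, hV, aux q p p' i i' hi hi' V h⟩
  · rintro ⟨V, hV, h⟩
    exact ⟨V, hV, aux q p' p i' i hi' hi V h⟩

end Groth.Agent.S9728
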