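import Groth.Statements.S9733
import Groth.Agent.Lib.Helper20IdealComap

set_option autoImplicit false
universe u
open OmegaSh

namespace Groth.Agent.S9733

open AlgebraicGeometry CategoryTheory Limits in
/-- Let h : Z ⟶ X and f : Z ⟶ W make Z the fibre product of g : X ⟶ Y and a formally unramified h' : W ⟶
Y, and let (j : W ⟶ W', k : W' ⟶ Y) be universal first-order thickening data for h'. Then the map Z
⟶ X ×_Y W' with components h and f ≫ j, together with the first projection X ×_Y W' ⟶ X, is a
universal first-order thickening for h. The published statement also asserts that h is formally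
unramified and that the pullback along f of the conormal sheaf of W relative to Y surjects onto the
conormal sheaf of Z relative to X; this row states neither. -/
theorem result {Z X W Y W' : Scheme.{u}} (h : Z ⟶ X) (f : Z ⟶ W) (g : X ⟶ Y) (h' : W ⟶ Y)
    [FormallyUnramified h'] (hc : IsPullback h f g h') (j : W ⟶ W') (k : W' ⟶ Y) (hu : OmegaSh.IsUnivThickening h' j k) :
    OmegaSh.IsUnivThickening h (pullback.lift h (f ≫ j) (hc.w.trans (congrArg (f ≫ ·) hu.2.1).symm)) (pullback.fst g k) := by
  obtain ⟨hj, hjk, huniv⟩ := hu
  have hsq : IsPullback (pullback.lift h (f ≫ j) (hc.w.trans (congrArg (f ≫ ·) hjk).symm)) f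
      (pullback.snd g k) j := by
    refine IsPullback.of_right ?_ (pullback.lift_snd _ _ _) (IsPullback.of_hasPullback g k)
    rw [pullback.lift_fst, hjk]
    exact hc
  refine ⟨Groth.Agent.Lib.Helper20.IdealComap.isFirstOrderThickening_of_isPullback hsq.flip hj,
    pullback.lift_fst _ _ _, ?_⟩
  intro T T' t b a ht hw
  have hw' : t ≫ (b ≫ g) = (a ≫ f) ≫ h' := by
    rw [← Category.assoc, hw, Category.assoc, Category.assoc, hc.w]
  obtain ⟨c, ⟨hc1, hc2⟩, hcuniq⟩ := huniv T T' t (b ≫ g) (a ≫ f) ht hw'
  refine ⟨pullback.lift b c hc2.symm, ⟨?_, pullback.lift_fst _ _ _⟩, ?_⟩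
  · apply pullback.hom_ext
    · rw [Category.assoc, pullback.lift_fst, Category.assoc, pullback.lift_fst, hw]
    · rw [Category.assoc, pullback.lift_snd, Category.assoc, pullback.lift_snd, hc1, Category.assoc]
  · intro a'' ⟨ha1, ha2⟩
    apply pullback.hom_ext
    · rw [pullback.lift_fst, ha2]
    · rw [pullback.lift_snd]
      apply hcuniq
      refine ⟨?_, ?_⟩
      · rw [← Category.assoc, ha1, Category.assoc, pullback.lift_snd, Category.assoc]
      · rw [Category.assoc, ← pullback.condition, ← Category.assoc, ha2]

end Groth.Agent.S9733
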