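import Groth.Statements.S9737
-- import your own Groth.Agent.* helpers here
import Mathlib
import Groth.Agent.Lib.Helper26FGZ
import Groth.Agent.Lib.Helper26LimIso

set_option autoImplicit false
universe u
open FlatMor

namespace Groth.Agent.S9737

open AlgebraicGeometry CategoryTheory Limits
open Groth.Agent.Lib.Helper26.FGZ Groth.Agent.Lib.Helper26.LimIso Groth.Agent.Lib.Helper22.LimBC

/-- the range of a ring map from a f.g. ℤ-algebra, as a f.g. ℤ-subalgebra. -/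
theorem fg_range {R A : Type u} [CommRing R] [CommRing A] (h : Algebra.FiniteType ℤ R) (φ : R →+* A) :
    (φ.toIntAlgHom.range).FG := by
  rw [← Algebra.map_top]
  exact Subalgebra.FG.map _ h.out

/-- data of a model over a f.g. subalgebra containing the range. -/
theorem exists_model_over_fg {X S X₁ S₁ : Scheme.{u}} [IsAffine S] [IsAffine X₁] [IsAffine S₁]
    (f : X ⟶ S) (f₁ : X₁ ⟶ S₁) (g₁ : S ⟶ S₁) (g₁' : X ⟶ X₁) (h₁ : IsPullback g₁' f f₁ g₁)
    (e : S ⟶ (specCone Γ(S, ⊤)).pt) (he : e = S.isoSpec.hom) [IsIso e]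
    (B : FGSub Γ(S, ⊤)) (hB : (g₁.appTop.hom.toIntAlgHom).range ≤ B.1) :
    ∃ (t₁ : (specDiagram Γ(S, ⊤)).obj (Opposite.op B) ⟶ S₁) (qX : X ⟶ pullback f₁ t₁),
      IsPullback qX (f ≫ e) (pullback.snd f₁ t₁)
        ((specCone Γ(S, ⊤)).π.app (Opposite.op B)) := by
  let ψ : Γ(S₁, ⊤) ⟶ CommRingCat.of ↥B.1 :=
    CommRingCat.ofHom (g₁.appTop.hom.codRestrict B.1.toSubring
      (fun x => hB ⟨x, rfl⟩))
  let t₁ : (specDiagram Γ(S, ⊤)).obj (Opposite.op B) ⟶ S₁ := Spec.map ψ ≫ S₁.isoSpec.inv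
  have hψ : ψ ≫ CommRingCat.ofHom (algebraMap B.1 Γ(S, ⊤)) = g₁.appTop := by
    ext x
    rfl
  have ht : e ≫ (specCone Γ(S, ⊤)).π.app (Opposite.op B) ≫ t₁ = g₁ := by
    rw [specCone_π_app, he]
    show S.isoSpec.hom ≫ Spec.map _ ≫ Spec.map ψ ≫ S₁.isoSpec.inv = g₁
    rw [← Spec.map_comp_assoc, hψ, ← Category.assoc, Scheme.isoSpec_hom_naturality,
      Category.assoc, Iso.hom_inv_id, Category.comp_id]
  have hw : g₁' ≫ f₁ = ((f ≫ e) ≫ (specCone Γ(S, ⊤)).π.app (Opposite.op B)) ≫ t₁ := by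
    rw [h₁.w, Category.assoc, Category.assoc, ht]
  let qX : X ⟶ pullback f₁ t₁ :=
    pullback.lift g₁' ((f ≫ e) ≫ (specCone Γ(S, ⊤)).π.app (Opposite.op B)) hw
  refine ⟨t₁, qX, ?_⟩
  have hbig : IsPullback (qX ≫ pullback.fst f₁ t₁) (f ≫ e) f₁
      ((specCone Γ(S, ⊤)).π.app (Opposite.op B) ≫ t₁) := by
    rw [pullback.lift_fst]
    refine IsPullback.of_iso h₁ (Iso.refl _) (Iso.refl _) (asIso e) (Iso.refl _) (by simp) (by simp)
      (by simp) ?_
    rw [Iso.refl_hom, Category.comp_id, asIso_hom, ht]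
  exact IsPullback.of_right hbig (pullback.lift_snd _ _ _) (IsPullback.of_hasPullback f₁ t₁)

open AlgebraicGeometry CategoryTheory Limits in
/-- Suppose P and Q are classes of morphisms of schemes preserved by arbitrary pullback, and f : X ⟶ S
is a finitely presented morphism of affine schemes. If f arises by pullback from a finite-type
morphism f₁ : X₁ ⟶ S₁ satisfying P, and also from a finite-type morphism f₂ : X₂ ⟶ S₂ satisfying Q,
where all four schemes are affine and Γ(S₁), Γ(S₂) are finitely generated ℤ-algebras, then f arises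
by pullback from a single finite-type morphism f₀ : X₀ ⟶ S₀ of affine schemes, with Γ(S₀) finitely
generated over ℤ, satisfying both P and Q. -/
theorem result (P Q : MorphismProperty Scheme.{u}) [P.IsStableUnderBaseChange] [Q.IsStableUnderBaseChange]
    {X S : Scheme.{u}} (f : X ⟶ S) [IsAffine X] [IsAffine S] [LocallyOfFinitePresentation f]
    {X₁ S₁ X₂ S₂ : Scheme.{u}} [IsAffine X₁] [IsAffine S₁] [IsAffine X₂] [IsAffine S₂]
    (f₁ : X₁ ⟶ S₁) (g₁ : S ⟶ S₁) (g₁' : X ⟶ X₁) (h₁ : IsPullback g₁' f f₁ g₁)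
    (f₂ : X₂ ⟶ S₂) (g₂ : S ⟶ S₂) (g₂' : X ⟶ X₂) (h₂ : IsPullback g₂' f f₂ g₂)
    (hS₁ : Algebra.FiniteType ℤ Γ(S₁, ⊤)) (hS₂ : Algebra.FiniteType ℤ Γ(S₂, ⊤))
    [LocallyOfFiniteType f₁] [LocallyOfFiniteType f₂] (hP : P f₁) (hQ : Q f₂) :
    ∃ (X₀ S₀ : Scheme.{u}) (f₀ : X₀ ⟶ S₀) (g : S ⟶ S₀) (g' : X ⟶ X₀), IsAffine X₀ ∧ IsAffine S₀ ∧ IsPullback g' f f₀ g ∧
      Algebra.FiniteType ℤ Γ(S₀, ⊤) ∧ LocallyOfFiniteType f₀ ∧ P f₀ ∧ Q f₀ := by
  let e : S ⟶ (specCone Γ(S, ⊤)).pt := S.isoSpec.hom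
  haveI : IsIso e := by
    show IsIso S.isoSpec.hom
    infer_instance
  let B₀ : FGSub Γ(S, ⊤) := ⟨(g₁.appTop.hom.toIntAlgHom).range ⊔ (g₂.appTop.hom.toIntAlgHom).range,
    (fg_range hS₁ _).sup (fg_range hS₂ _)⟩
  obtain ⟨t₁, qX, hX⟩ := exists_model_over_fg f f₁ g₁ g₁' h₁ e rfl B₀ le_sup_left
  obtain ⟨t₂, qY, hY⟩ := exists_model_over_fg f f₂ g₂ g₂' h₂ e rfl B₀ le_sup_right
  have hfgk : ∀ B : FGSub Γ(S, ⊤), Algebra.FiniteType ℤ ↥B.1 := fun B =>
    (Subalgebra.fg_iff_finiteType B.1).1 B.2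
  haveI : IsNoetherianRing ↥B₀.1 := Algebra.FiniteType.isNoetherianRing ℤ _
  haveI : IsLocallyNoetherian ((specDiagram Γ(S, ⊤)).obj (Opposite.op B₀)) := by
    show IsLocallyNoetherian (Spec (CommRingCat.of ↥B₀.1))
    infer_instance
  haveI : CompactSpace ((specDiagram Γ(S, ⊤)).obj (Opposite.op B₀)) := by
    show CompactSpace (Spec (CommRingCat.of ↥B₀.1))
    infer_instance
  haveI : QuasiSeparatedSpace ((specDiagram Γ(S, ⊤)).obj (Opposite.op B₀)) := by
    show QuasiSeparatedSpace (Spec (CommRingCat.of ↥B₀.1))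
    infer_instance
  haveI : IsAffine ((specDiagram Γ(S, ⊤)).obj (Opposite.op B₀)) := by
    show IsAffine (Spec (CommRingCat.of ↥B₀.1))
    infer_instance
  haveI hD : ∀ {i j : (FGSub Γ(S, ⊤))ᵒᵖ} (φ : i ⟶ j), IsAffineHom ((specDiagram Γ(S, ⊤)).map φ) :=
    fun φ => inferInstance
  obtain ⟨k, ek, hek, hek2, hek3⟩ := exists_iso_stage (specDiagram Γ(S, ⊤)) (specIsLimit Γ(S, ⊤))
    (Opposite.op B₀) (pullback.snd f₁ t₁) (pullback.snd f₂ t₂) hX hY (𝟙 X) (Category.id_comp _)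
  refine ⟨(bcDiagram (specDiagram Γ(S, ⊤)) (Opposite.op B₀) (pullback.snd f₁ t₁)).obj k,
    (specDiagram Γ(S, ⊤)).obj k.left, dSnd _ _ _ k, e ≫ (specCone Γ(S, ⊤)).π.app k.left,
    bcπ (Opposite.op B₀) hX k, ?_, ?_, ?_, ?_, ?_, ?_, ?_⟩
  · -- X₀ affine
    haveI : IsAffine ((specDiagram Γ(S, ⊤)).obj k.left) := by
      show IsAffine (Spec _)
      infer_instance
    haveI : IsAffine (pullback f₁ t₁) := inferInstance
    show IsAffine (pullback (pullback.snd f₁ t₁) ((specDiagram Γ(S, ⊤)).map k.hom))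
    infer_instance
  · show IsAffine (Spec _)
    infer_instance
  · have h := isPullback_bcπ (Opposite.op B₀) hX k
    refine IsPullback.of_iso h (Iso.refl _) (Iso.refl _) (asIso e).symm (Iso.refl _) (by simp)
      (by simp) (by simp) (by simp)
  · have h := hfgk k.left.unop
    exact Algebra.FiniteType.equiv h
      (Scheme.ΓSpecIso (CommRingCat.of ↥k.left.unop.1)).symm.commRingCatIsoToRingEquiv.toIntAlgEquiv
  · have h1 : LocallyOfFiniteType (pullback.snd f₁ t₁) :=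
      MorphismProperty.of_isPullback (P := @LocallyOfFiniteType) (IsPullback.of_hasPullback f₁ t₁)
        inferInstance
    exact MorphismProperty.of_isPullback (P := @LocallyOfFiniteType) (isPullback_d _ _ _ k) h1
  · exact P.of_isPullback (isPullback_d _ _ _ k)
      (P.of_isPullback (IsPullback.of_hasPullback f₁ t₁) hP)
  · have h2 : Q (dSnd (specDiagram Γ(S, ⊤)) (Opposite.op B₀) (pullback.snd f₂ t₂) k) :=
      Q.of_isPullback (isPullback_d _ _ _ k)
        (Q.of_isPullback (IsPullback.of_hasPullback f₂ t₂) hQ)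
    rw [← hek2]
    exact (MorphismProperty.cancel_left_of_respectsIso Q ek _).2 h2

end Groth.Agent.S9737
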