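import Groth.Statements.S9738
import Groth.Agent.Lib.Helper2InfSmooth
import Groth.Agent.Lib.Helper20EtLocalSch
import Mathlib

set_option autoImplicit false
universe u
open FlatMor

namespace Groth.Agent.S9738

open AlgebraicGeometry CategoryTheory Limits in

open AlgebraicGeometry CategoryTheory Limits in
/-- For a morphism f : X ⟶ S between locally Noetherian schemes, an ideal sheaf I on S with closed
subscheme Z, and Z_n the closed subscheme cut out by I^(n+1): if each base change X ×_S Z_n ⟶ Z_n is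
flat, then f is flat at each point of X lying over Z. -/
theorem result {X S : Scheme.{u}} (f : X ⟶ S) [IsLocallyNoetherian X] [IsLocallyNoetherian S]
    (I : S.IdealSheafData) (h : ∀ n : ℕ, Flat (pullback.snd f (I ^ (n + 1)).subschemeι)) (x : X) (hx : f x ∈ I.support) :
    (f.stalkMap x).hom.Flat := by
  obtain ⟨_, ⟨U, hU, rfl⟩, hxU, -⟩ :=
    S.isBasis_affineOpens.exists_subset_of_mem_open (Set.mem_univ (f x)) isOpen_univ
  obtain ⟨_, ⟨V, hV, rfl⟩, hxV, hVU⟩ :=
    X.isBasis_affineOpens.exists_subset_of_mem_open hxU (U.2.preimage f.continuous)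
  have hle := Groth.Agent.Lib.Helper2.InfSmooth.ideal_map_le_primeIdealOf f I x hx hU hV hVU hxV
  rw [Groth.Agent.Lib.Helper20.EtLocal.flat_stalkMap_iff_chart U hU V hV hVU hxV]
  algebraize [(f.appLE U V hVU).hom]
  have : IsNoetherianRing Γ(S, U) := IsLocallyNoetherian.component_noetherian ⟨U, hU⟩
  have : IsNoetherianRing Γ(X, V) := IsLocallyNoetherian.component_noetherian ⟨V, hV⟩
  have hfl : Module.Flat Γ(S, U) (Localization.AtPrime (hV.primeIdealOf ⟨x, hxV⟩).asIdeal) := by
    refine Groth.Agent.Lib.Helper2.InfSmooth.flat_localization_of_flat_pow (I.ideal ⟨U, hU⟩)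
      (fun n => ?_) _ hle
    have h1 := Groth.Agent.Lib.Helper2.InfSmooth.P_quotient_tensor @Flat
      (fun g _ => inferInstance) f (I ^ (n + 1)) (h n) ⟨U, hU⟩ ⟨V, hV⟩ hVU
    rw [HasRingHomProperty.Spec_iff (P := @Flat)] at h1
    exact RingHom.flat_algebraMap_iff.mp h1
  haveI : (hV.primeIdealOf ⟨x, hxV⟩).asIdeal.LiesOver (hU.primeIdealOf ⟨f x, hVU hxV⟩).asIdeal :=
    ⟨congr($(IsAffineOpen.comap_primeIdealOf_appLE U hU V hV hVU hxV).1).symm⟩
  letI := Localization.AtPrime.algebraOfLiesOver (hU.primeIdealOf ⟨f x, hVU hxV⟩).asIdeal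
    (hV.primeIdealOf ⟨x, hxV⟩).asIdeal
  exact (Module.flat_iff_of_isLocalization
    (Localization.AtPrime (hU.primeIdealOf ⟨f x, hVU hxV⟩).asIdeal)
    (hU.primeIdealOf ⟨f x, hVU hxV⟩).asIdeal.primeCompl
    (Localization.AtPrime (hV.primeIdealOf ⟨x, hxV⟩).asIdeal)).mpr hfl

end Groth.Agent.S9738
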