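import Groth.Statements.S9739
import Groth.Agent.Lib.Helper3GoingDownFibC
import Mathlib

set_option autoImplicit false
universe u
open FlatMor

namespace Groth.Agent.S9739

open AlgebraicGeometry CategoryTheory Limits in
/-- the generic point of an irreducible component of a fibre is a maximal point of that fibre. -/
theorem maximal_of_generic {X S : Scheme.{u}} (f : X ⟶ S) (x : X)
    (hgen : ∃ Z ∈ irreducibleComponents ↥(f.fiber (f x)), IsGenericPoint (f.asFiber x) Z) :
    ∀ y : X, f y = f x → y ⤳ x → y = x := by
  obtain ⟨Z, hZ, hg⟩ := hgen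
  intro y hy hsp
  have hyr : y ∈ Set.range (f.fiberι (f x)) := by
    rw [f.range_fiberι]
    exact hy
  obtain ⟨w, rfl⟩ := hyr
  have hw : w ⤳ f.asFiber x := by
    apply (f.fiberι (f x)).isEmbedding.isInducing.specializes_iff.mp
    rw [Scheme.Hom.fiberι_asFiber]
    exact hsp
  have hcl : closure ({f.asFiber x} : Set ↥(f.fiber (f x))) ∈ irreducibleComponents ↥(f.fiber (f x)) := by
    rw [hg.def]
    exact hZ
  rw [Groth.Agent.Lib.Helper4.VarDim.eq_of_specializes_generic _ w hcl hw,
    Scheme.Hom.fiberι_asFiber]

open AlgebraicGeometry CategoryTheory Limits in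

open AlgebraicGeometry CategoryTheory Limits in
/-- Let f : X ⟶ S be flat and locally of finite presentation, and let x' ⤳ x be points of X. Assume the
closure of x in its fibre is one of that fibre's irreducible components. Then the fibre through x'
has the same local dimension at x' as the fibre through x has at x. -/
theorem result {X S : Scheme.{u}} (f : X ⟶ S) [Flat f] [LocallyOfFinitePresentation f]
    (x x' : X) (hsp : x' ⤳ x) (hgen : ∃ Z ∈ irreducibleComponents ↥(f.fiber (f x)), IsGenericPoint (f.asFiber x) Z) :
    FlatMor.fibreDimAt f x' = FlatMor.fibreDimAt f x := by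
  refine le_antisymm (Groth.Agent.Lib.Helper4.DimFormula.fibreDimAt_le_of_specializes f x' x hsp) ?_
  exact Groth.Agent.Lib.Helper3.GoingDownFibC.le_of_specializes_of_maximal f x x' hsp
    (maximal_of_generic f x hgen)

end Groth.Agent.S9739
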