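import Groth.Statements.S9741
import Groth.Agent.Lib.Helper20IdealComap

set_option autoImplicit false
universe u
open OmegaSh

namespace Groth.Agent.S9741

open AlgebraicGeometry CategoryTheory Limits in
/-- Let a : Z ⟶ Y and b : Y ⟶ X be formally unramified, let (i : Z ⟶ Z', c : Z' ⟶ X) be universal among
first order thickenings of Z relative to X (for a ≫ b), and (j : Y ⟶ Y', d : Y' ⟶ X) likewise for Y
relative to X (for b). Then there is a morphism of thickenings m : Z' ⟶ Y' over X (i ≫ m = a ≫ j and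
m ≫ d = c) such that Z ⟶ Y ×_{Y'} Z' (components a and i), together with the projection to Y, is
universal among first order thickenings of Z relative to Y (for a). The published statement also
asserts an exact sequence of conormal sheaves; this row states only the thickening assertion. -/
theorem result {Z Y X Z' Y' : Scheme.{u}} (a : Z ⟶ Y) (b : Y ⟶ X)
    [FormallyUnramified a] [FormallyUnramified b] (i : Z ⟶ Z') (c : Z' ⟶ X) (hZ : OmegaSh.IsUnivThickening (a ≫ b) i c)
    (j : Y ⟶ Y') (d : Y' ⟶ X) (hY : OmegaSh.IsUnivThickening b j d) :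
    ∃ (m : Z' ⟶ Y') (hm : i ≫ m = a ≫ j), m ≫ d = c ∧
      OmegaSh.IsUnivThickening a (pullback.lift a i hm.symm) (pullback.fst j m) := by
  obtain ⟨hi, hic, hZuniv⟩ := hZ
  obtain ⟨hj, hjd, hYuniv⟩ := hY
  obtain ⟨m, ⟨hm1, hm2⟩, -⟩ := hYuniv Z Z' i c a hi hic
  refine ⟨m, hm1, hm2, ?_⟩
  haveI : IsClosedImmersion j := hj.1.1
  haveI : Mono (pullback.snd j m) := inferInstance
  have hιs : pullback.lift a i hm1.symm ≫ pullback.snd j m = i := pullback.lift_snd _ _ _
  have hιf : pullback.lift a i hm1.symm ≫ pullback.fst j m = a := pullback.lift_fst _ _ _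
  have hsq : IsPullback (𝟙 Z) (pullback.lift a i hm1.symm) i (pullback.snd j m) := by
    refine ⟨⟨by rw [Category.id_comp, hιs]⟩, ⟨PullbackCone.IsLimit.mk _ (fun c => c.fst) ?_ ?_ ?_⟩⟩
    · intro c
      exact Category.comp_id _
    · intro c
      rw [← cancel_mono (pullback.snd j m), Category.assoc, hιs]
      exact c.condition
    · intro c l h1 _
      rw [← h1, Category.comp_id]
  refine ⟨Groth.Agent.Lib.Helper20.IdealComap.isFirstOrderThickening_of_isPullback hsq hi, hιf, ?_⟩
  intro T T' t β α ht hw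
  have hw' : t ≫ (β ≫ b) = α ≫ (a ≫ b) := by
    rw [← Category.assoc, hw, Category.assoc]
  obtain ⟨γ, ⟨hγ1, hγ2⟩, hγuniq⟩ := hZuniv T T' t (β ≫ b) α ht hw'
  have hw'' : t ≫ (β ≫ b) = (α ≫ a) ≫ b := by rw [hw', Category.assoc]
  obtain ⟨δ, -, hδuniq⟩ := hYuniv T T' t (β ≫ b) (α ≫ a) ht hw''
  have hβγ : β ≫ j = γ ≫ m := by
    have e1 : β ≫ j = δ := hδuniq _ ⟨by rw [← Category.assoc, hw, Category.assoc],
      by rw [Category.assoc, hjd]⟩
    have e2 : γ ≫ m = δ := hδuniq _ ⟨by rw [← Category.assoc, hγ1, Category.assoc, hm1, Category.assoc],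
      by rw [Category.assoc, hm2, hγ2]⟩
    rw [e1, e2]
  refine ⟨pullback.lift β γ hβγ, ⟨?_, pullback.lift_fst _ _ _⟩, ?_⟩
  · apply pullback.hom_ext
    · rw [Category.assoc, pullback.lift_fst, Category.assoc, hιf, hw]
    · rw [Category.assoc, pullback.lift_snd, Category.assoc, hιs, hγ1]
  · intro α'' ⟨h1, h2⟩
    apply pullback.hom_ext
    · rw [pullback.lift_fst, h2]
    · rw [pullback.lift_snd]
      apply hγuniq
      refine ⟨?_, ?_⟩
      · rw [← Category.assoc, h1, Category.assoc, hιs]
      · rw [← hm2, Category.assoc, ← Category.assoc (pullback.snd j m), ← pullback.condition,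
          Category.assoc, hjd, ← Category.assoc, h2]

end Groth.Agent.S9741
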