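import Groth.Statements.S9754
import Groth.Agent.Lib.Helper3FibBrC
import Groth.Agent.Lib.Helper3EtNbhdA
import Groth.Agent.Lib.Helper3EtNbhdB
import Groth.Agent.Lib.Helper3IndEtHz
import Mathlib

set_option autoImplicit false
universe u
open Brnch

namespace Groth.Agent.S9754

open AlgebraicGeometry CategoryTheory Limits IsLocalRing Groth.Agent.Lib.Helper3
  Groth.Agent.Lib.Helper3.IndEt Groth.Agent.Lib.Helper3.PuncConn Groth.Agent.Lib.Helper3.EtNbhd
  Groth.Agent.Lib.Helper3.FibBr Groth.Agent.Lib.Helper5.FiberStalk in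
theorem le_iSup_etale {X S : Scheme.{u}} (f : X ⟶ S) (x : X) :
    Brnch.numGeomBranchesAt (f.fiber (f x)) (f.asFiber x) ≤
      ⨆ (U : Scheme.{u}) (g : U ⟶ X) (u : U) (_ : Etale g ∧ g u = x),
      {Z : Set ↑((g ≫ f).fiber (f x)) | Z ∈ irreducibleComponents ↑((g ≫ f).fiber (f x)) ∧
        ∃ u' ∈ Z, (g ≫ f).fiberι (f x) u' = u}.encard := by
  obtain ⟨V, hV, hxV, -⟩ := TopologicalSpace.Opens.isBasis_iff_nbhd.mp X.isBasis_affineOpens
    (TopologicalSpace.Opens.mem_top x)
  have hV' : IsAffineOpen V := hV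
  letI : Algebra Γ(X, V) (X.presheaf.stalk x) :=
    TopCat.Presheaf.algebra_section_stalk X.presheaf ⟨x, hxV⟩
  haveI hloc : IsLocalization.AtPrime (X.presheaf.stalk x) (hV'.primeIdealOf ⟨x, hxV⟩).asIdeal :=
    hV'.isLocalization_stalk ⟨x, hxV⟩
  obtain ⟨S', _, _, _, _, _⟩ := Branch.exists_isStrictHenselization (X.presheaf.stalk x)
  rw [numGeomBranchesAt_fibre_eq]
  haveI : IsLocalRing (S' ⧸ (fibIdeal f x).map (algebraMap (X.presheaf.stalk x) S')) :=
    isLocalRing_quot_map (fibIdeal f x) (fibIdeal_ne_top f x)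
  haveI : IsLocalHom (algebraMap (X.presheaf.stalk x ⧸ fibIdeal f x)
      (S' ⧸ (fibIdeal f x).map (algebraMap (X.presheaf.stalk x) S'))) :=
    isLocalHom_quot_map (fibIdeal f x)
  haveI := ShQuot.isStrictHenselization_quotient (A := X.presheaf.stalk x) (S := S') (fibIdeal f x)
  rw [← Groth.Agent.S9238.result (X.presheaf.stalk x ⧸ fibIdeal f x)
    (S' ⧸ (fibIdeal f x).map (algebraMap (X.presheaf.stalk x) S'))]
  letI : Algebra Γ(X, V) S' :=
    ((algebraMap (X.presheaf.stalk x) S').comp (algebraMap Γ(X, V) (X.presheaf.stalk x))).toAlgebra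
  haveI : IsScalarTower Γ(X, V) (X.presheaf.stalk x) S' :=
    IsScalarTower.of_algebraMap_eq (fun _ => rfl)
  have hA : EtPBC.IsIndEtale Γ(X, V) (X.presheaf.stalk x) :=
    isIndEtale_of_factor (factor_of_isLocalization Γ(X, V)
      (hV'.primeIdealOf ⟨x, hxV⟩).asIdeal.primeCompl (X.presheaf.stalk x))
  have hS : EtPBC.IsIndEtale Γ(X, V) S' :=
    isIndEtale_comp Γ(X, V) (X.presheaf.stalk x) S' hA
      (isIndEtale_of_isStrictHenselization (X.presheaf.stalk x) S')
  have HF : Obj.Factor Γ(X, V) S' := factor_of_isIndEtale hS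
  have hcomap : (maximalIdeal S').comap (algebraMap Γ(X, V) S') =
      (hV'.primeIdealOf ⟨x, hxV⟩).asIdeal := by
    rw [IsScalarTower.algebraMap_eq Γ(X, V) (X.presheaf.stalk x) S', ← Ideal.comap_comap,
      ((local_hom_TFAE (algebraMap (X.presheaf.stalk x) S')).out 0 4 rfl rfl).mp inferInstance]
    exact IsLocalization.AtPrime.under_maximalIdeal (X.presheaf.stalk x) _
  have hJ0 : ((fibIdeal f x).comap (X.presheaf.germ V x hxV).hom).map (algebraMap Γ(X, V) S') =
      (fibIdeal f x).map (algebraMap (X.presheaf.stalk x) S') := by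
    rw [IsScalarTower.algebraMap_eq Γ(X, V) (X.presheaf.stalk x) S', ← Ideal.map_map]
    congr 1
    exact IsLocalization.map_comap (hV'.primeIdealOf ⟨x, hxV⟩).asIdeal.primeCompl
      (X.presheaf.stalk x) (fibIdeal f x)
  rw [← ENat.forall_natCast_le_iff_le]
  intro n hn
  rw [← hJ0] at hn
  obtain ⟨E, _, _, _, g, hle⟩ := exists_etale_of_le_card Γ(X, V) S' HF _ n hn
  haveI : ((maximalIdeal S').comap g.toRingHom).IsPrime := Ideal.comap_isPrime _ _
  let gU : Spec (CommRingCat.of E) ⟶ X :=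
    Spec.map (CommRingCat.ofHom (algebraMap Γ(X, V) E)) ≫ hV'.fromSpec
  have hgU : Etale gU := by
    haveI : Etale (Spec.map (CommRingCat.ofHom (algebraMap Γ(X, V) E))) := by
      rw [HasRingHomProperty.Spec_iff (P := @Etale)]
      exact RingHom.etale_algebraMap.mpr inferInstance
    infer_instance
  let u : Spec (CommRingCat.of E) := ⟨(maximalIdeal S').comap g.toRingHom, inferInstance⟩
  have hu : gU u = x := by
    have h1 : (Spec.map (CommRingCat.ofHom (algebraMap Γ(X, V) E))) u =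
        hV'.primeIdealOf ⟨x, hxV⟩ := by
      apply PrimeSpectrum.ext
      rw [← hcomap]
      show ((maximalIdeal S').comap g.toRingHom).comap (algebraMap Γ(X, V) E) = _
      rw [Ideal.comap_comap]
      congr 1
      ext r
      exact g.commutes r
    show hV'.fromSpec ((Spec.map (CommRingCat.ofHom (algebraMap Γ(X, V) E))) u) = x
    rw [h1]
    exact hV'.fromSpec_primeIdealOf ⟨x, hxV⟩
  have hmem : gU u ∈ V := comp_fromSpec_mem hV' (CommRingCat.of E) _ u
  have key := le_encard_fibre_components f hV' E (algebraMap Γ(X, V) E) u hmem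
  rw [← comap_germ_fibIdeal_congr f hu.symm V hxV hmem] at key
  refine hle.trans (key.trans ?_)
  rw [← encard_fibre_components_congr gU f u hu]
  exact le_iSup_of_le (Spec (CommRingCat.of E)) (le_iSup_of_le gU (le_iSup_of_le u
    (le_iSup_of_le ⟨hgU, hu⟩ le_rfl)))

open AlgebraicGeometry CategoryTheory Limits in

open AlgebraicGeometry CategoryTheory Limits in
/-- For a morphism f : X ⟶ S and a point x of X over s = f x, the geometric branch count of the fibre
X_s at x equals the supremum, over étale neighbourhoods (U, u) of (X, x), of how many irreducible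
components of U_s (the fibre of U ⟶ X ⟶ S over s) contain the point of U_s lying over u. -/
theorem result {X S : Scheme.{u}} (f : X ⟶ S) (x : X) :
    Brnch.numGeomBranchesAt (f.fiber (f x)) (f.asFiber x) = ⨆ (U : Scheme.{u}) (g : U ⟶ X) (u : U) (_ : Etale g ∧ g u = x),
      {Z : Set ↑((g ≫ f).fiber (f x)) | Z ∈ irreducibleComponents ↑((g ≫ f).fiber (f x)) ∧
        ∃ u' ∈ Z, (g ≫ f).fiberι (f x) u' = u}.encard := by
  apply le_antisymm (le_iSup_etale f x)
  refine iSup_le fun U => iSup_le fun g => iSup_le fun u => iSup_le fun h => ?_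
  obtain ⟨hg, hgu⟩ := h
  subst hgu
  rw [Groth.Agent.Lib.Helper3.FibBr.numGeomBranchesAt_fibre_eq]
  refine (Groth.Agent.Lib.Helper3.FibBr.encard_fibre_components_eq (g ≫ f) u).le.trans ?_
  rw [Groth.Agent.Lib.Helper3.FibBr.fibIdeal_comp]
  letI := (g.stalkMap u).hom.toAlgebra
  exact Groth.Agent.Lib.Helper3.FibBr.card_minimalPrimes_quot_le_numGeomBranches
    (X.presheaf.stalk (g u)) (Groth.Agent.Lib.Helper5.FiberStalk.fibIdeal f (g u))
    (U.presheaf.stalk u)
    (Groth.Agent.Lib.Helper3.EtNbhd.isEssentiallyEtale_stalkMap g u)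

end Groth.Agent.S9754
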