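import Groth.Statements.S9755
import Groth.Agent.Lib.Helper3FibBrC
import Groth.Agent.Lib.Helper3EtNbhdA
import Groth.Agent.Lib.Helper3EtNbhdB
import Groth.Agent.Lib.Helper3IndEtHz
import Groth.Agent.Lib.Helper20ResFld
import Groth.Agent.S9781
import Mathlib

set_option autoImplicit false
universe u
open Brnch

namespace Groth.Agent.S9755

open AlgebraicGeometry CategoryTheory Limits IsLocalRing Groth.Agent.Lib.Helper3
  Groth.Agent.Lib.Helper3.IndEt Groth.Agent.Lib.Helper3.PuncConn Groth.Agent.Lib.Helper3.EtNbhd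
  Groth.Agent.Lib.Helper3.FibBr Groth.Agent.Lib.Helper5.FiberStalk in
theorem le_iSup_etale {X S : Scheme.{u}} (f : X ⟶ S) (x : X) :
    Brnch.numBranchesAt (f.fiber (f x)) (f.asFiber x) ≤
      ⨆ (U : Scheme.{u}) (g : U ⟶ X) (u : U) (_ : Hens2.IsEtaleNbhd g u x),
      {Z : Set ↑((g ≫ f).fiber (f x)) | Z ∈ irreducibleComponents ↑((g ≫ f).fiber (f x)) ∧
        ∃ u' ∈ Z, (g ≫ f).fiberι (f x) u' = u}.encard := by
  obtain ⟨V, hV, hxV, -⟩ := TopologicalSpace.Opens.isBasis_iff_nbhd.mp X.isBasis_affineOpens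
    (TopologicalSpace.Opens.mem_top x)
  have hV' : IsAffineOpen V := hV
  letI : Algebra Γ(X, V) (X.presheaf.stalk x) :=
    TopCat.Presheaf.algebra_section_stalk X.presheaf ⟨x, hxV⟩
  haveI hloc : IsLocalization.AtPrime (X.presheaf.stalk x) (hV'.primeIdealOf ⟨x, hxV⟩).asIdeal :=
    hV'.isLocalization_stalk ⟨x, hxV⟩
  rw [numBranchesAt_fibre_eq]
  haveI : IsLocalRing (Hz.Rh (X.presheaf.stalk x) ⧸
      (fibIdeal f x).map (algebraMap (X.presheaf.stalk x) (Hz.Rh (X.presheaf.stalk x)))) :=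
    isLocalRing_quot_map (fibIdeal f x) (fibIdeal_ne_top f x)
  haveI : IsLocalHom (algebraMap (X.presheaf.stalk x ⧸ fibIdeal f x)
      (Hz.Rh (X.presheaf.stalk x) ⧸
        (fibIdeal f x).map (algebraMap (X.presheaf.stalk x) (Hz.Rh (X.presheaf.stalk x))))) :=
    isLocalHom_quot_map (fibIdeal f x)
  haveI := Groth.Agent.S13598.result (A := X.presheaf.stalk x) (S := Hz.Rh (X.presheaf.stalk x))
    (fibIdeal f x) (fibIdeal_le f x)
  rw [← Groth.Agent.S9237.result (X.presheaf.stalk x ⧸ fibIdeal f x)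
    (Hz.Rh (X.presheaf.stalk x) ⧸
      (fibIdeal f x).map (algebraMap (X.presheaf.stalk x) (Hz.Rh (X.presheaf.stalk x))))]
  letI : Algebra Γ(X, V) (Hz.Rh (X.presheaf.stalk x)) :=
    ((algebraMap (X.presheaf.stalk x) (Hz.Rh (X.presheaf.stalk x))).comp
      (algebraMap Γ(X, V) (X.presheaf.stalk x))).toAlgebra
  haveI : IsScalarTower Γ(X, V) (X.presheaf.stalk x) (Hz.Rh (X.presheaf.stalk x)) :=
    IsScalarTower.of_algebraMap_eq (fun _ => rfl)
  have hA : EtPBC.IsIndEtale Γ(X, V) (X.presheaf.stalk x) :=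
    isIndEtale_of_factor (factor_of_isLocalization Γ(X, V)
      (hV'.primeIdealOf ⟨x, hxV⟩).asIdeal.primeCompl (X.presheaf.stalk x))
  have hS : EtPBC.IsIndEtale Γ(X, V) (Hz.Rh (X.presheaf.stalk x)) :=
    isIndEtale_comp Γ(X, V) (X.presheaf.stalk x) (Hz.Rh (X.presheaf.stalk x)) hA
      (isIndEtale_Rh (X.presheaf.stalk x))
  have HF : Obj.Factor Γ(X, V) (Hz.Rh (X.presheaf.stalk x)) := factor_of_isIndEtale hS
  have hcomap : (maximalIdeal (Hz.Rh (X.presheaf.stalk x))).comap
      (algebraMap Γ(X, V) (Hz.Rh (X.presheaf.stalk x))) =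
      (hV'.primeIdealOf ⟨x, hxV⟩).asIdeal := by
    rw [IsScalarTower.algebraMap_eq Γ(X, V) (X.presheaf.stalk x) (Hz.Rh (X.presheaf.stalk x)),
      ← Ideal.comap_comap,
      ((local_hom_TFAE (algebraMap (X.presheaf.stalk x) (Hz.Rh (X.presheaf.stalk x)))).out 0 4
        rfl rfl).mp inferInstance]
    exact IsLocalization.AtPrime.under_maximalIdeal (X.presheaf.stalk x) _
  have hJ0 : ((fibIdeal f x).comap (X.presheaf.germ V x hxV).hom).map
      (algebraMap Γ(X, V) (Hz.Rh (X.presheaf.stalk x))) =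
      (fibIdeal f x).map (algebraMap (X.presheaf.stalk x) (Hz.Rh (X.presheaf.stalk x))) := by
    rw [IsScalarTower.algebraMap_eq Γ(X, V) (X.presheaf.stalk x) (Hz.Rh (X.presheaf.stalk x)),
      ← Ideal.map_map]
    congr 1
    exact IsLocalization.map_comap (hV'.primeIdealOf ⟨x, hxV⟩).asIdeal.primeCompl
      (X.presheaf.stalk x) (fibIdeal f x)
  rw [← ENat.forall_natCast_le_iff_le]
  intro n hn
  rw [← hJ0] at hn
  obtain ⟨E, _, _, _, g, hle⟩ :=
    exists_etale_of_le_card Γ(X, V) (Hz.Rh (X.presheaf.stalk x)) HF _ n hn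
  haveI : ((maximalIdeal (Hz.Rh (X.presheaf.stalk x))).comap g.toRingHom).IsPrime :=
    Ideal.comap_isPrime _ _
  let gU : Spec (CommRingCat.of E) ⟶ X :=
    Spec.map (CommRingCat.ofHom (algebraMap Γ(X, V) E)) ≫ hV'.fromSpec
  have hgU : Etale gU := by
    haveI : Etale (Spec.map (CommRingCat.ofHom (algebraMap Γ(X, V) E))) := by
      rw [HasRingHomProperty.Spec_iff (P := @Etale)]
      exact RingHom.etale_algebraMap.mpr inferInstance
    infer_instance
  let u : Spec (CommRingCat.of E) :=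
    ⟨(maximalIdeal (Hz.Rh (X.presheaf.stalk x))).comap g.toRingHom, inferInstance⟩
  have hu : gU u = x := by
    have h1 : (Spec.map (CommRingCat.ofHom (algebraMap Γ(X, V) E))) u =
        hV'.primeIdealOf ⟨x, hxV⟩ := by
      apply PrimeSpectrum.ext
      rw [← hcomap]
      show ((maximalIdeal (Hz.Rh (X.presheaf.stalk x))).comap g.toRingHom).comap
        (algebraMap Γ(X, V) E) = _
      rw [Ideal.comap_comap]
      congr 1
      ext r
      exact g.commutes r
    show hV'.fromSpec ((Spec.map (CommRingCat.ofHom (algebraMap Γ(X, V) E))) u) = x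
    rw [h1]
    exact hV'.fromSpec_primeIdealOf ⟨x, hxV⟩
  have hPQ : (hV'.primeIdealOf ⟨x, hxV⟩).asIdeal =
      ((maximalIdeal (Hz.Rh (X.presheaf.stalk x))).comap g.toRingHom).comap
        (algebraMap Γ(X, V) E) := by
    rw [← hcomap, Ideal.comap_comap]
    congr 1
    ext r
    exact (g.commutes r).symm
  have hres : Function.Bijective (gU.residueFieldMap u) := by
    apply Groth.Agent.Lib.Helper20.ResFld.bijective_residueFieldMap_comp
    · apply Groth.Agent.Lib.Helper20.ResFld.bijective_residueFieldMap_SpecMap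
        (CommRingCat.ofHom (algebraMap Γ(X, V) E)) u (hV'.primeIdealOf ⟨x, hxV⟩).asIdeal hPQ
      exact Groth.Agent.S9781.bijective_residueField_map_of_hz Γ(X, V) (X.presheaf.stalk x) E
        (hV'.primeIdealOf ⟨x, hxV⟩).asIdeal g _ rfl _ rfl hPQ
    · exact Groth.Agent.Lib.Helper20.ResFld.bijective_residueFieldMap_of_isOpenImmersion _ _
  have hmem : gU u ∈ V := comp_fromSpec_mem hV' (CommRingCat.of E) _ u
  have key := le_encard_fibre_components f hV' E (algebraMap Γ(X, V) E) u hmem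
  rw [← comap_germ_fibIdeal_congr f hu.symm V hxV hmem] at key
  refine hle.trans (key.trans ?_)
  rw [← encard_fibre_components_congr gU f u hu]
  exact le_iSup_of_le (Spec (CommRingCat.of E)) (le_iSup_of_le gU (le_iSup_of_le u
    (le_iSup_of_le ⟨hgU, hu, hres⟩ le_rfl)))

open AlgebraicGeometry CategoryTheory Limits in

open AlgebraicGeometry CategoryTheory Limits in
/-- For f : X ⟶ S and x ∈ X lying over s, the branch number of the fibre X_s at x equals the supremum,
over elementary étale neighbourhoods (U, u) of (X, x) (étale, u ↦ x, trivial residue field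
extension), of how many irreducible components of U_s contain the point of U_s above u. -/
theorem result {X S : Scheme.{u}} (f : X ⟶ S) (x : X) :
    Brnch.numBranchesAt (f.fiber (f x)) (f.asFiber x) = ⨆ (U : Scheme.{u}) (g : U ⟶ X) (u : U) (_ : Hens2.IsEtaleNbhd g u x),
      {Z : Set ↑((g ≫ f).fiber (f x)) | Z ∈ irreducibleComponents ↑((g ≫ f).fiber (f x)) ∧
        ∃ u' ∈ Z, (g ≫ f).fiberι (f x) u' = u}.encard := by
  apply le_antisymm (le_iSup_etale f x)
  refine iSup_le fun U => iSup_le fun g => iSup_le fun u => iSup_le fun h => ?_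
  obtain ⟨hg, hgu, hres⟩ := h
  haveI := hg
  subst hgu
  rw [Groth.Agent.Lib.Helper3.FibBr.numBranchesAt_fibre_eq]
  refine (Groth.Agent.Lib.Helper3.FibBr.encard_fibre_components_eq (g ≫ f) u).le.trans ?_
  rw [Groth.Agent.Lib.Helper3.FibBr.fibIdeal_comp]
  letI := (g.stalkMap u).hom.toAlgebra
  haveI : IsLocalHom (algebraMap (X.presheaf.stalk (g u)) (U.presheaf.stalk u)) :=
    inferInstanceAs (IsLocalHom (g.stalkMap u).hom)
  exact Groth.Agent.Lib.Helper3.FibBr.card_minimalPrimes_quot_le_numBranches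
    (X.presheaf.stalk (g u)) (Groth.Agent.Lib.Helper5.FiberStalk.fibIdeal f (g u))
    (U.presheaf.stalk u)
    ⟨Groth.Agent.Lib.Helper3.EtNbhd.isEssentiallyEtale_stalkMap g u, hres⟩

end Groth.Agent.S9755
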