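import Groth.Statements.S9757
import Groth.Agent.Lib.Helper3GoingDownFibC
import Groth.Agent.Lib.Helper6AnDensity
import Groth.Agent.Lib.Helper3RelDim
import Groth.Agent.Lib.Helper3GrpFibDim
import Mathlib

set_option autoImplicit false
universe u
open FlatMor

namespace Groth.Agent.S9757

open AlgebraicGeometry CategoryTheory Limits TopologicalSpace Topology in
/-- a point of the closure of a locally constructible subset of a scheme has a generization in
the subset. -/
theorem exists_specializes_mem_of_mem_closure {X : Scheme.{u}} {T : Set X}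
    (hT : IsLocallyConstructible T) (x : X) (hx : x ∈ closure T) : ∃ x' : X, x' ⤳ x ∧ x' ∈ T := by
  obtain ⟨_, ⟨(U : X.Opens), hU : IsAffineOpen U, rfl⟩, hxU, -⟩ :=
    X.isBasis_affineOpens.exists_subset_of_mem_open (Set.mem_univ x) isOpen_univ
  haveI : IsAffine U.toScheme := hU
  let u : U.toScheme := ⟨x, hxU⟩
  have hTU : IsConstructible (U.ι ⁻¹' T) :=
    (hT.preimage_of_isOpenEmbedding U.ι.isOpenEmbedding).isConstructible
  have hu : u ∈ closure (U.ι ⁻¹' T) := by
    rw [← U.ι.isOpenEmbedding.isOpenMap.preimage_closure_eq_closure_preimage U.ι.continuous]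
    exact hx
  let e : U.toScheme ≃ₜ PrimeSpectrum Γ(U.toScheme, ⊤) := U.toScheme.toSpecΓ.homeomorph
  have hT' : IsConstructible (e '' (U.ι ⁻¹' T)) := by
    apply hTU.image_of_isOpenEmbedding e.isOpenEmbedding
    rw [e.range_coe]
    exact IsRetrocompact.univ
  have hx' : e u ∈ closure (e '' (U.ι ⁻¹' T)) := by
    rw [← e.image_closure]
    exact Set.mem_image_of_mem e hu
  obtain ⟨p, h, hpm, hhp, hpT⟩ :=
    Groth.Agent.Lib.Helper6.exists_prime_le_of_mem_closure_constructible hT' _ hx'
  obtain ⟨u', hu', rfl⟩ := hpT p le_rfl hhp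
  refine ⟨U.ι u', ?_, hu'⟩
  have h1 : e u' ⤳ e u := (PrimeSpectrum.le_iff_specializes _ _).mp hpm
  have h2 : u' ⤳ u := e.isInducing.specializes_iff.mp h1
  exact h2.map U.ι.continuous

open AlgebraicGeometry CategoryTheory Limits TopologicalSpace Topology in
/-- a maximal point of a fibre of a flat lfp morphism is an interior point of its level set of
the local fibre dimension. -/
theorem mem_interior_of_maximal {X S : Scheme.{u}} (f : X ⟶ S) [Flat f]
    [LocallyOfFinitePresentation f] (x : X) (hmax : ∀ y : X, f y = f x → y ⤳ x → y = x) (d : ℕ)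
    (hd : FlatMor.fibreDimAt f x = d) : x ∈ interior {y : X | FlatMor.fibreDimAt f y = d} := by
  have hE : IsOpen {y : X | FlatMor.fibreDimAt f y ≤ (d : WithBot ℕ∞)} :=
    Groth.Agent.S0402.result f d
  have hTc : IsConstructible {y : X | (d : WithBot ℕ∞) ≤ FlatMor.fibreDimAt f y}ᶜ :=
    (Groth.Agent.Lib.Helper3.GrpFibDim.isConstructible_setOf_natCast_le_fibreDimAt f d).compl
  have hx : x ∉ closure {y : X | (d : WithBot ℕ∞) ≤ FlatMor.fibreDimAt f y}ᶜ := by
    intro hx
    obtain ⟨x', hsp, hx'⟩ := exists_specializes_mem_of_mem_closure hTc.isLocallyConstructible x hx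
    apply hx'
    rw [Set.mem_ofPred_eq, ← hd]
    exact Groth.Agent.Lib.Helper3.GoingDownFibC.le_of_specializes_of_maximal f x x' hsp hmax
  rw [mem_interior]
  refine ⟨{y : X | FlatMor.fibreDimAt f y ≤ (d : WithBot ℕ∞)} ∩
    (closure {y : X | (d : WithBot ℕ∞) ≤ FlatMor.fibreDimAt f y}ᶜ)ᶜ, ?_,
    hE.inter isClosed_closure.isOpen_compl, ⟨hd.le, hx⟩⟩
  rintro y ⟨hy1, hy2⟩
  refine le_antisymm hy1 ?_
  by_contra hcon
  exact hy2 (subset_closure hcon)

open AlgebraicGeometry CategoryTheory Limits in

open AlgebraicGeometry CategoryTheory Limits in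
/-- Suppose the morphism f : X ⟶ S is flat and locally of finite presentation. Then X contains open
subsets U_d, indexed by d ∈ ℕ, such that for every s ∈ S the union of all U_d intersects the fibre
X_s in a dense subset of X_s, and each U_d ⟶ S is of relative dimension d. Because U_d is open in X,
this is the same as requiring that at every point x of U_d the fibre of f containing x has local
dimension d at x; that pointwise form is the one this row uses. -/
theorem result {X S : Scheme.{u}} (f : X ⟶ S) [Flat f] [LocallyOfFinitePresentation f] :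
    ∃ U : ℕ → X.Opens, (∀ s : S, Dense ((f.fiberι s) ⁻¹' ((⨆ d, U d : X.Opens) : Set ↑X))) ∧
      ∀ (d : ℕ) (x : ↑X), x ∈ U d → FlatMor.fibreDimAt f x = d := by
  let U : ℕ → X.Opens := fun d =>
    ⟨interior {x : X | FlatMor.fibreDimAt f x = d}, isOpen_interior⟩
  refine ⟨U, ?_, fun d x hx =>
    (interior_subset (show x ∈ interior {y : X | FlatMor.fibreDimAt f y = d} from hx) :
      x ∈ {y : X | FlatMor.fibreDimAt f y = d})⟩
  intro s
  rw [dense_iff_inter_open]
  intro W hW hWne
  obtain ⟨w₀, hw₀⟩ := hWne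
  obtain ⟨η, hηmax, hηw⟩ :=
    Groth.Agent.Lib.Helper4.VarDim.exists_maximal_specializes (f.fiber s) w₀
  have hηW : η ∈ W := hηw.mem_open hW hw₀
  refine ⟨η, hηW, ?_⟩
  have hmax := Groth.Agent.Lib.Helper6.EquiSub.maximal_fiberι f s η hηmax
  obtain ⟨d, hd⟩ := Groth.Agent.Lib.Helper3.GrpFibDim.exists_nat_fibreDimAt_eq f (f.fiberι s η)
  have hmem := mem_interior_of_maximal f (f.fiberι s η) hmax d hd
  rw [Set.mem_preimage, SetLike.mem_coe, TopologicalSpace.Opens.mem_iSup]
  exact ⟨d, hmem⟩

end Groth.Agent.S9757
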