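import Groth.Statements.S9760
import Groth.Agent.Lib.Helper3NoethApprox
import Groth.Agent.Lib.Helper3ModelMod
import Mathlib

set_option autoImplicit false
universe u
open FlatMor

namespace Groth.Agent.S9760

open AlgebraicGeometry CategoryTheory Limits
open Groth.Agent.Lib.Helper23.FinType Groth.Agent.Lib.Helper23.QCohLocal
open Groth.Agent.Lib.Helper20.OmegaAff Groth.Agent.Lib.Helper20.PullbackAff
open Groth.Agent.Lib.Helper20.Thickening Groth.Agent.Lib.Helper2.PullbackSec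
open Groth.Agent.Lib.Helper3.NoethApprox

open AlgebraicGeometry CategoryTheory Limits in
/-- Given affine schemes X and S, a finitely presented morphism f : X ⟶ S, and a finitely presented
quasi-coherent O_X-module F, the morphism f is a pullback, along some g' : X ⟶ X₀, of a finite type
morphism f₀ : X₀ ⟶ S₀ of affine schemes with Γ(S₀) of finite type over ℤ, and there is a coherent
O_{X₀}-module F₀ whose pullback along g' is isomorphic to F. -/
theorem result {X S : Scheme.{u}} (f : X ⟶ S) [IsAffine X] [IsAffine S] [LocallyOfFinitePresentation f]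
    (F : X.Modules) [Coh.IsQCoh F] (hF : CohB1.IsFP F) :
    ∃ (X₀ S₀ : Scheme.{u}) (f₀ : X₀ ⟶ S₀) (g : S ⟶ S₀) (g' : X ⟶ X₀), IsAffine X₀ ∧ IsAffine S₀ ∧ IsPullback g' f f₀ g ∧
      Algebra.FiniteType ℤ Γ(S₀, ⊤) ∧ LocallyOfFiniteType f₀ ∧
      ∃ F₀ : X₀.Modules, Coh.IsCoh F₀ ∧ Nonempty ((Scheme.Modules.pullback g').obj F₀ ≅ F) := by
  haveI : F.IsQuasicoherent := ‹_›
  haveI : SheafOfModules.IsFinitePresentation (R := X.ringCatSheaf) F := hF
  have hTop : IsAffineOpen (⊤ : X.Opens) := isAffineOpen_top X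
  have hTopS : IsAffineOpen (⊤ : S.Opens) := isAffineOpen_top S
  letI algRB : Algebra Γ(S, ⊤) Γ(X, ⊤) := f.appTop.hom.toAlgebra
  haveI : Algebra.FinitePresentation Γ(S, ⊤) Γ(X, ⊤) := f.finitePresentation_appTop
  let M : ModuleCat.{u} Γ(X, ⊤) := (ΓUF hTop).obj F
  letI modRM : Module Γ(S, ⊤) M := Module.compHom M f.appTop.hom
  haveI : IsScalarTower Γ(S, ⊤) Γ(X, ⊤) M :=
    ⟨fun r s m => by
      change (f.appTop.hom r * s) • m = f.appTop.hom r • (s • m)
      rw [mul_smul]⟩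
  haveI : Module.FinitePresentation Γ(X, ⊤) Γ(F, ⊤) :=
    Groth.Agent.Lib.Helper3.AffFP.finitePresentation_sections F hTop
  haveI : Module.FinitePresentation Γ(X, ⊤) M :=
    Module.FinitePresentation.of_equiv (ΓUEquiv hTop F)
  obtain ⟨R₀, i1, i2, B₀, i3, i4, i5, i6, i7, i8, M₀, i9, i10, i11, i12, i13, i14, φ, h1, h2, h3,
    h5, h6⟩ := Groth.Agent.Lib.Helper3.ModelMod.exists_module_model Γ(S, ⊤) Γ(X, ⊤) M
  let a : CommRingCat.of R₀ ⟶ Γ(S, ⊤) := CommRingCat.ofHom (algebraMap R₀ Γ(S, ⊤))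
  let b : CommRingCat.of B₀ ⟶ Γ(X, ⊤) := CommRingCat.ofHom (algebraMap B₀ Γ(X, ⊤))
  let φ₀ : CommRingCat.of R₀ ⟶ CommRingCat.of B₀ := CommRingCat.ofHom (algebraMap R₀ B₀)
  have hpo : IsPushout a φ₀ f.appTop b :=
    CommRingCat.isPushout_of_isPushout R₀ Γ(S, ⊤) B₀ Γ(X, ⊤)
  have hpb := isPullback_of_isPushout f φ₀ a b hpo
  let eM : (ModuleCat.extendScalars b.hom).obj (ModuleCat.of B₀ M₀) ≅ ΓU F hTop :=
    ((Groth.Agent.Lib.Helper1.Extend.extEquiv (A := B₀) (B := Γ(X, ⊤)) M₀).trans h6.equiv).toModuleIso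
  haveI : IsNoetherianRing R₀ := Algebra.FiniteType.isNoetherianRing ℤ R₀
  haveI : IsNoetherianRing B₀ := Algebra.FiniteType.isNoetherianRing R₀ B₀
  refine ⟨Spec (CommRingCat.of B₀), Spec (CommRingCat.of R₀), Spec.map φ₀, S.toSpecΓ ≫ Spec.map a,
    X.toSpecΓ ≫ Spec.map b, inferInstance, inferInstance, hpb, ?_, ?_,
    tilde (ModuleCat.of B₀ M₀), ⟨inferInstance, ?_⟩, ⟨pullbackTildeIso' F b _ eM⟩⟩
  · exact Algebra.FiniteType.equiv h1
      (Scheme.ΓSpecIso (CommRingCat.of R₀)).symm.commRingCatIsoToRingEquiv.toIntAlgEquiv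
  · rw [HasRingHomProperty.Spec_iff (P := @LocallyOfFiniteType)]
    change (algebraMap R₀ B₀).FiniteType
    exact RingHom.finiteType_algebraMap.2 h2
  · exact (isFiniteType_tilde_iff _ _).2 h3

end Groth.Agent.S9760
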