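import Groth.Statements.S9761
import Groth.Agent.Lib.Helper3NoethApprox
import Groth.Agent.Lib.Helper3FlatModelMod
import Mathlib

set_option autoImplicit false
universe u
open FlatMor

namespace Groth.Agent.S9761

open AlgebraicGeometry CategoryTheory Limits
open Groth.Agent.Lib.Helper23.FinType Groth.Agent.Lib.Helper23.QCohLocal
open Groth.Agent.Lib.Helper20.OmegaAff Groth.Agent.Lib.Helper20.PullbackAff
open Groth.Agent.Lib.Helper20.Thickening Groth.Agent.Lib.Helper2.PullbackSec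
open Groth.Agent.Lib.Helper3.NoethApprox

open AlgebraicGeometry CategoryTheory Limits in
/-- For a finitely presented morphism f : X ⟶ S of affine schemes and a quasi-coherent, finitely
presented O_X-module F that is flat over S, f is the base change along some g' : X ⟶ X₀ of a finite
type morphism f₀ : X₀ ⟶ S₀ of affine schemes with S₀ of finite type over ℤ, and some coherent
O_{X₀}-module F₀, flat over S₀, satisfies g'^*F₀ ≅ F. -/
theorem result {X S : Scheme.{u}} (f : X ⟶ S) [IsAffine X] [IsAffine S] [LocallyOfFinitePresentation f]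
    (F : X.Modules) [Coh.IsQCoh F] (hF : CohB1.IsFP F) (hfl : FlatMod.IsFlatOver f F) :
    ∃ (X₀ S₀ : Scheme.{u}) (f₀ : X₀ ⟶ S₀) (g : S ⟶ S₀) (g' : X ⟶ X₀), IsAffine X₀ ∧ IsAffine S₀ ∧ IsPullback g' f f₀ g ∧
      Algebra.FiniteType ℤ Γ(S₀, ⊤) ∧ LocallyOfFiniteType f₀ ∧
      ∃ F₀ : X₀.Modules, Coh.IsCoh F₀ ∧ FlatMod.IsFlatOver f₀ F₀ ∧ Nonempty ((Scheme.Modules.pullback g').obj F₀ ≅ F) := by
  haveI : F.IsQuasicoherent := ‹_›
  haveI : SheafOfModules.IsFinitePresentation (R := X.ringCatSheaf) F := hF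
  have hTop : IsAffineOpen (⊤ : X.Opens) := isAffineOpen_top X
  have hTopS : IsAffineOpen (⊤ : S.Opens) := isAffineOpen_top S
  letI algRB : Algebra Γ(S, ⊤) Γ(X, ⊤) := f.appTop.hom.toAlgebra
  haveI : Algebra.FinitePresentation Γ(S, ⊤) Γ(X, ⊤) := f.finitePresentation_appTop
  let M : ModuleCat.{u} Γ(X, ⊤) := (ΓUF hTop).obj F
  letI modRM : Module Γ(S, ⊤) M := Module.compHom M f.appTop.hom
  haveI : IsScalarTower Γ(S, ⊤) Γ(X, ⊤) M :=
    ⟨fun r s m => by
      change (f.appTop.hom r * s) • m = f.appTop.hom r • (s • m)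
      rw [mul_smul]⟩
  haveI : Module.FinitePresentation Γ(X, ⊤) Γ(F, ⊤) :=
    Groth.Agent.Lib.Helper3.AffFP.finitePresentation_sections F hTop
  haveI : Module.FinitePresentation Γ(X, ⊤) M :=
    Module.FinitePresentation.of_equiv (ΓUEquiv hTop F)
  have hflat : Module.Flat Γ(S, ⊤) M := by
    have e : (⊤ : X.Opens) ≤ f ⁻¹ᵁ ⊤ := le_of_eq rfl
    have h1 := Groth.Agent.Lib.Helper2.FlatOver.flat_sections_of_isFlatOverAt f F hTop hTopS e
      (fun x _ => hfl x)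
    have happ : (f.appLE ⊤ ⊤ e).hom = f.appTop.hom := by
      simp [Scheme.Hom.appLE, Scheme.Hom.appTop]
    letI : Module Γ(S, ⊤) Γ(F, ⊤) := Module.compHom Γ(F, ⊤) (f.appLE ⊤ ⊤ e).hom
    let ε : Γ(F, ⊤) ≃ₗ[Γ(S, ⊤)] M :=
      { (ΓUEquiv hTop F) with
        map_smul' := fun r m => by
          change (ΓUEquiv hTop F) ((f.appLE ⊤ ⊤ e).hom r • m) = f.appTop.hom r • (ΓUEquiv hTop F) m
          rw [happ, LinearEquiv.map_smul] }
    exact Module.Flat.of_linearEquiv ε.symm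
  obtain ⟨R₀, i1, i2, B₀, i3, i4, i5, i6, i7, i8, M₀, i9, i10, i11, i12, i13, i14, φ, h1, h2, h3, h4,
    h5, h6⟩ := Groth.Agent.Lib.Helper3.FlatModelMod.exists_flat_module_model Γ(S, ⊤) Γ(X, ⊤) M
  let a : CommRingCat.of R₀ ⟶ Γ(S, ⊤) := CommRingCat.ofHom (algebraMap R₀ Γ(S, ⊤))
  let b : CommRingCat.of B₀ ⟶ Γ(X, ⊤) := CommRingCat.ofHom (algebraMap B₀ Γ(X, ⊤))
  let φ₀ : CommRingCat.of R₀ ⟶ CommRingCat.of B₀ := CommRingCat.ofHom (algebraMap R₀ B₀)
  have hpo : IsPushout a φ₀ f.appTop b :=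
    CommRingCat.isPushout_of_isPushout R₀ Γ(S, ⊤) B₀ Γ(X, ⊤)
  have hpb := isPullback_of_isPushout f φ₀ a b hpo
  let eM : (ModuleCat.extendScalars b.hom).obj (ModuleCat.of B₀ M₀) ≅ ΓU F hTop :=
    ((Groth.Agent.Lib.Helper1.Extend.extEquiv (A := B₀) (B := Γ(X, ⊤)) M₀).trans h6.equiv).toModuleIso
  haveI : IsNoetherianRing R₀ := Algebra.FiniteType.isNoetherianRing ℤ R₀
  haveI : IsNoetherianRing B₀ := Algebra.FiniteType.isNoetherianRing R₀ B₀
  refine ⟨Spec (CommRingCat.of B₀), Spec (CommRingCat.of R₀), Spec.map φ₀, S.toSpecΓ ≫ Spec.map a,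
    X.toSpecΓ ≫ Spec.map b, inferInstance, inferInstance, hpb, ?_, ?_,
    tilde (ModuleCat.of B₀ M₀), ⟨inferInstance, ?_⟩, ?_, ⟨pullbackTildeIso' F b _ eM⟩⟩
  · exact Algebra.FiniteType.equiv h1
      (Scheme.ΓSpecIso (CommRingCat.of R₀)).symm.commRingCatIsoToRingEquiv.toIntAlgEquiv
  · rw [HasRingHomProperty.Spec_iff (P := @LocallyOfFiniteType)]
    change (algebraMap R₀ B₀).FiniteType
    exact RingHom.finiteType_algebraMap.2 h2
  · exact (isFiniteType_tilde_iff _ _).2 h3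
  · exact (Groth.Agent.Lib.Helper2.FlatOver.tilde_isFlatOver_iff φ₀ (ModuleCat.of B₀ M₀)
      (N := M₀) (AddEquiv.refl _) (fun r n => by
        change r • n = algebraMap R₀ B₀ r • n
        rw [algebraMap_smul])).2 h4

end Groth.Agent.S9761
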