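import Groth.Statements.S9763
import Groth.Agent.S9723
-- import your own Groth.Agent.* helpers here

set_option autoImplicit false
universe u
open FlatMor

namespace Groth.Agent.S9763

open AlgebraicGeometry CategoryTheory Limits in
/-- Let f : X ⟶ S be formally smooth (infinitesimal lifting against square-zero thickenings of affine
schemes), and let U be an open of X and V an open of S with U contained in the preimage of V under
f. Then the induced morphism U ⟶ V is formally smooth. -/
theorem result {X S : Scheme.{u}} (f : X ⟶ S) (hf : MoreMor.IsFormallySmoothHom f)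
    (U : X.Opens) (V : S.Opens) (h : U ≤ f ⁻¹ᵁ V) : MoreMor.IsFormallySmoothHom (f.resLE V U h) := by
  intro A _ I hI a b hab
  have hab' : Spec.map (CommRingCat.ofHom (Ideal.Quotient.mk I)) ≫ (b ≫ V.ι) = (a ≫ U.ι) ≫ f := by
    rw [← Category.assoc, hab, Category.assoc, Category.assoc, Scheme.Hom.resLE_comp_ι]
  obtain ⟨l', hl'1, hl'2⟩ := hf A I hI (a ≫ U.ι) (b ≫ V.ι) hab'
  have hrange : Set.range l'.base ⊆ Set.range U.ι.base := by
    rintro _ ⟨y, rfl⟩
    obtain ⟨y₀, rfl⟩ := Groth.Agent.S9723.surj_specMap_mk A I hI y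
    have : l'.base ((Spec.map (CommRingCat.ofHom (Ideal.Quotient.mk I))).base y₀) =
        U.ι.base (a.base y₀) := by
      have := congrArg (fun g => g.base y₀) hl'1
      simpa using this
    rw [this]
    exact ⟨_, rfl⟩
  set l := IsOpenImmersion.lift U.ι l' hrange with hl
  have hlfac : l ≫ U.ι = l' := IsOpenImmersion.lift_fac _ _ _
  refine ⟨l, ?_, ?_⟩
  · rw [← cancel_mono U.ι, Category.assoc, hlfac, hl'1]
  · rw [← cancel_mono V.ι, Category.assoc, Scheme.Hom.resLE_comp_ι, ← Category.assoc, hlfac, hl'2]

end Groth.Agent.S9763
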