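import Groth.Statements.S9768
import Groth.Agent.Lib.Helper5FiberMor

set_option autoImplicit false
universe u
open FlatMor

namespace Groth.Agent.S9768

open AlgebraicGeometry CategoryTheory Limits in
/-- Suppose X and Y are locally Noetherian schemes, f : X ⟶ Y is flat, and every local ring of X is
Cohen–Macaulay. Then at each point x of X the morphism f is Cohen–Macaulay (flat at x with
Cohen–Macaulay local ring of the fibre), and the local ring of Y at f x is Cohen–Macaulay. -/
theorem result {X Y : Scheme.{u}} (f : X ⟶ Y) [IsLocallyNoetherian X] [IsLocallyNoetherian Y] [Flat f]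
    (hX : ∀ x : X, LocCoh.IsCohenMacaulayLocalRing ↑(X.presheaf.stalk x)) (x : X) :
    MoreMor.IsCMAt f x ∧ LocCoh.IsCohenMacaulayLocalRing ↑(Y.presheaf.stalk (f x)) := by
  have hfl := AlgebraicGeometry.Flat.stalkMap f x
  have h := (Groth.Agent.Lib.Helper5.FiberMor.flat_iff f x
    Groth.Agent.Lib.Helper5.FiberRing.flatLocalIff_cm
    Groth.Agent.Lib.Helper5.FiberMor.isoInv_cm hfl).mp (hX x)
  exact ⟨⟨hfl, h.2⟩, h.1⟩

end Groth.Agent.S9768
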