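import Groth.Statements.S9769
import Groth.Agent.Lib.Helper26FibInj
import Groth.Agent.Lib.Helper3FibreFree
import Groth.Agent.S1393
import Mathlib

set_option autoImplicit false
set_option linter.style.haveILetI false
universe u
open FlatMor

namespace Groth.Agent.S9769

open AlgebraicGeometry CategoryTheory Limits TensorProduct IsLocalRing
open Groth.Agent.Lib.Helper4.NormDelta Groth.Agent.Lib.Helper26.StalkBC Groth.Agent.Lib.Helper26.FibInj
  Groth.Agent.Lib.Helper26.FibFlatSch Groth.Agent.Lib.Helper26.ModLim2 Groth.Agent.Lib.Helper26.FlatLim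
  Groth.Agent.Lib.Helper2.PullbackSec

-- flatness of the reduction from flatness of a surjective semilinear image
theorem flat_quotient_of_semilinear {B C M N : Type*} [CommRing B] [CommRing C]
    [AddCommGroup M] [Module B M] [AddCommGroup N] [Module C N]
    (φ : B →+* C) (hφ : Function.Surjective φ) (u : M →+ N) (hu : Function.Surjective u)
    (hsl : ∀ (b : B) (m : M), u (b • m) = φ b • u m)
    (J : Ideal B) (hJ : RingHom.ker φ = J)
    (hker : ∀ m : M, u m = 0 ↔ m ∈ J • (⊤ : Submodule B M)) [Module.Flat C N] :
    Module.Flat (B ⧸ J) (M ⧸ J • (⊤ : Submodule B M)) := by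
  classical
  apply Module.Flat.of_forall_isTrivialRelation
  intro l f x hfx
  choose f' hf' using fun i => Ideal.Quotient.mk_surjective (f i)
  choose x' hx' using fun i => Submodule.Quotient.mk_surjective _ (x i)
  have h1 : ∑ i, f' i • x' i ∈ J • (⊤ : Submodule B M) := by
    rw [← Submodule.Quotient.mk_eq_zero, ← hfx]
    rw [← Submodule.mkQ_apply, map_sum]
    refine Finset.sum_congr rfl fun i _ => ?_
    rw [← hf' i, ← hx' i]
    rfl
  have h2 : ∑ i, φ (f' i) • u (x' i) = 0 := by
    rw [← (hker _).mpr h1, map_sum]
    exact Finset.sum_congr rfl fun i _ => (hsl _ _).symm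
  obtain ⟨k, a, y, hy0, ha0⟩ := Module.Flat.isTrivialRelation_of_sum_smul_eq_zero h2
  have hy : ∀ i, u (x' i) = ∑ j, a i j • y j := hy0
  have ha : ∀ j, ∑ i, φ (f' i) * a i j = 0 := ha0
  choose a' ha' using fun i j => hφ (a i j)
  choose y' hy' using fun j => hu (y j)
  refine ⟨k, fun i j => Ideal.Quotient.mk J (a' i j), fun j => Submodule.Quotient.mk (y' j), ?_, ?_⟩
  · intro i
    rw [← hx' i]
    have h3 : x' i - ∑ j, a' i j • y' j ∈ J • (⊤ : Submodule B M) := by
      rw [← hker, map_sub, map_sum, sub_eq_zero, hy i]
      refine Finset.sum_congr rfl fun j _ => ?_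
      rw [hsl, ha', hy']
    rw [← Submodule.Quotient.mk_eq_zero, Submodule.Quotient.mk_sub, sub_eq_zero] at h3
    rw [h3, ← Submodule.mkQ_apply, map_sum]
    rfl
  · intro j
    have h4 : ∑ i, f' i * a' i j ∈ J := by
      rw [← hJ, RingHom.mem_ker, map_sum, ← ha j]
      refine Finset.sum_congr rfl fun i _ => ?_
      rw [map_mul, ha']
    rw [← Ideal.Quotient.eq_zero_iff_mem, map_sum] at h4
    rw [← h4]
    refine Finset.sum_congr rfl fun i _ => ?_
    rw [map_mul, hf' i]

-- the stalk equivalence attached to an isomorphism of modules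
noncomputable def stalkEquiv {X : Scheme.{u}} {M N : X.Modules} (e : M ≅ N) (x : X) :
    M.presheaf.stalk x ≃ₗ[X.presheaf.stalk x] N.presheaf.stalk x :=
  { toFun := stalkLin e.hom x
    invFun := stalkLin e.inv x
    map_add' := map_add _
    map_smul' := (stalkLin e.hom x).map_smul
    left_inv := fun m => by
      show stalkHom e.inv x (stalkHom e.hom x m) = m
      rw [stalkHom_comp, e.hom_inv_id, stalkHom_id]
    right_inv := fun m => by
      show stalkHom e.hom x (stalkHom e.inv x m) = m
      rw [stalkHom_comp, e.inv_hom_id, stalkHom_id] }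

theorem free_congr_point {X : Scheme.{u}} (F : X.Modules) {y y' : X} (e : y = y')
    (h : Module.Free (X.presheaf.stalk y) (F.presheaf.stalk y)) :
    Module.Free (X.presheaf.stalk y') (F.presheaf.stalk y') := by
  subst e
  exact h

-- freeness of stalks is preserved by pullback
theorem free_pullback_stalk {X' X : Scheme.{u}} (g : X' ⟶ X) (F : X.Modules) [F.IsQuasicoherent]
    (x' : X') (h : Module.Free (X.presheaf.stalk (g x')) (F.presheaf.stalk (g x'))) :
    Module.Free (X'.presheaf.stalk x')
      (((Scheme.Modules.pullback g).obj F).presheaf.stalk x') := by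
  letI : Algebra (X.presheaf.stalk (g x')) (X'.presheaf.stalk x') := (g.stalkMap x').hom.toAlgebra
  letI := FlatMod.moduleStalkOver g ((Scheme.Modules.pullback g).obj F) x'
  obtain ⟨t, hbc⟩ := isBaseChange_stalkUnit g F x'
  exact Module.Free.of_equiv hbc.equiv

-- flatness of stalks descends along a pullback which is flat at the point
theorem flat_stalk_of_flat_pullback {X' X : Scheme.{u}} (g : X' ⟶ X) (F : X.Modules)
    [F.IsQuasicoherent] (x' : X') (hfl : (g.stalkMap x').hom.Flat)
    (h : Module.Flat (X'.presheaf.stalk x')
      (((Scheme.Modules.pullback g).obj F).presheaf.stalk x')) :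
    Module.Flat (X.presheaf.stalk (g x')) (F.presheaf.stalk (g x')) := by
  letI : Algebra (X.presheaf.stalk (g x')) (X'.presheaf.stalk x') := (g.stalkMap x').hom.toAlgebra
  letI := FlatMod.moduleStalkOver g ((Scheme.Modules.pullback g).obj F) x'
  obtain ⟨t, hbc⟩ := isBaseChange_stalkUnit g F x'
  haveI : Module.Flat (X.presheaf.stalk (g x')) (X'.presheaf.stalk x') := hfl
  haveI : IsLocalHom (algebraMap (X.presheaf.stalk (g x')) (X'.presheaf.stalk x')) :=
    inferInstanceAs (IsLocalHom (g.stalkMap x').hom)
  haveI : Module.FaithfullyFlat (X.presheaf.stalk (g x')) (X'.presheaf.stalk x') :=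
    Module.FaithfullyFlat.of_flat_of_isLocalHom
  haveI : Module.Flat (X'.presheaf.stalk x')
      (X'.presheaf.stalk x' ⊗[X.presheaf.stalk (g x')] F.presheaf.stalk (g x')) :=
    Module.Flat.of_linearEquiv hbc.equiv
  exact Module.Flat.of_flat_tensorProduct _ _ (X'.presheaf.stalk x')

-- flatness on the fibre gives flatness of the reduction
theorem flat_reduction_of_flat_fibre {X S : Scheme.{u}} (f : X ⟶ S) (F : X.Modules)
    [F.IsQuasicoherent] (s : S) (z : f.fiber s)
    (h : Module.Flat ((f.fiber s).presheaf.stalk z)
      (((Scheme.Modules.pullback (f.fiberι s)).obj F).presheaf.stalk z)) :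
    Module.Flat (X.presheaf.stalk (f.fiberι s z) ⧸
        (maximalIdeal (S.presheaf.stalk (f (f.fiberι s z)))).map (f.stalkMap (f.fiberι s z)).hom)
      (F.presheaf.stalk (f.fiberι s z) ⧸
        ((maximalIdeal (S.presheaf.stalk (f (f.fiberι s z)))).map
          (f.stalkMap (f.fiberι s z)).hom) •
          (⊤ : Submodule (X.presheaf.stalk (f.fiberι s z)) (F.presheaf.stalk (f.fiberι s z)))) := by
  have hs : Function.Surjective ((f.fiberι s).stalkMap z).hom := (f.fiberι s).stalkMap_surjective z
  have hk := ker_stalkMap_fiberι f s z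
  refine flat_quotient_of_semilinear ((f.fiberι s).stalkMap z).hom hs
    (stalkUnit (f.fiberι s) F z).hom (stalkUnit_surjective_of_surjective (f.fiberι s) F z hs)
    (fun b m => stalkUnit_smul (f.fiberι s) F z b m) _ hk (fun m => ?_)
  rw [← hk]
  exact stalkUnit_eq_zero_iff_of_surjective (f.fiberι s) F z hs m

-- freeness of the stalk from flatness over the base and flatness on the fibre
theorem free_of_flat_fibre {X S : Scheme.{u}} (f : X ⟶ S) (F : X.Modules)
    [SheafOfModules.IsFinitePresentation (R := X.ringCatSheaf) F] (s : S) (z : f.fiber s)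
    (hfl : FlatMod.IsFlatOverAt f F (f.fiberι s z))
    (h : Module.Flat ((f.fiber s).presheaf.stalk z)
      (((Scheme.Modules.pullback (f.fiberι s)).obj F).presheaf.stalk z)) :
    Module.Free (X.presheaf.stalk (f.fiberι s z)) (F.presheaf.stalk (f.fiberι s z)) := by
  set x := f.fiberι s z with hx
  haveI := Groth.Agent.S1393.finitePresentation_stalk F x
  letI algAB : Algebra (S.presheaf.stalk (f x)) (X.presheaf.stalk x) := (f.stalkMap x).hom.toAlgebra
  letI modA := FlatMod.moduleStalkOver f F x
  haveI : IsScalarTower (S.presheaf.stalk (f x)) (X.presheaf.stalk x) (F.presheaf.stalk x) :=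
    ⟨fun r s y => by
      change ((f.stalkMap x).hom r * s) • y = (f.stalkMap x).hom r • (s • y)
      rw [mul_smul]⟩
  haveI : Module.Flat (S.presheaf.stalk (f x)) (F.presheaf.stalk x) := hfl
  have hI : (IsLocalRing.maximalIdeal (S.presheaf.stalk (f x))).map
      (algebraMap (S.presheaf.stalk (f x)) (X.presheaf.stalk x)) ≤
      IsLocalRing.maximalIdeal (X.presheaf.stalk x) := by
    rw [Ideal.map_le_iff_le_comap]
    intro a ha
    rw [Ideal.mem_comap]
    exact (IsLocalRing.mem_maximalIdeal _).mpr fun hu =>
      (IsLocalRing.mem_maximalIdeal a).mp ha (isUnit_of_map_unit (f.stalkMap x).hom a hu)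
  exact Groth.Agent.Lib.Helper3.FibreFree.free_of_flat_of_flat_quotient
    (IsLocalRing.maximalIdeal (S.presheaf.stalk (f x))) hI
    (flat_reduction_of_flat_fibre f F s z h)

open AlgebraicGeometry CategoryTheory Limits in

open AlgebraicGeometry CategoryTheory Limits in
/-- Let f : X ⟶ S be locally of finite presentation and F a finitely presented O_X-module which is flat
over S. Then the formation of the locus of points of X near which F is free (equivalently, for
finitely presented F, where the stalk of F is a free module) commutes with arbitrary base change: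
for a cartesian square with g' : X' ⟶ X over S' ⟶ S, the free locus of (g')^*F is the preimage of
that of F. The published statement also asserts that this locus is open; this row states only that
its formation commutes with base change. -/
theorem result {X S X' S' : Scheme.{u}} (f : X ⟶ S) [LocallyOfFinitePresentation f]
    (F : X.Modules) (hF : CohB1.IsFP F) (hfl : FlatMod.IsFlatOver f F)
    (g : S' ⟶ S) (f' : X' ⟶ S') (g' : X' ⟶ X) (hc : IsPullback g' f' f g) :
    {x' : ↑X' | Module.Free ↑(X'.presheaf.stalk x') ↑(((Scheme.Modules.pullback g').obj F).presheaf.stalk x')} =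
      g' ⁻¹' {x : ↑X | Module.Free ↑(X.presheaf.stalk x) ↑(F.presheaf.stalk x)} := by
  haveI : SheafOfModules.IsFinitePresentation (R := X.ringCatSheaf) F := hF
  haveI : F.IsQuasicoherent := inferInstance
  ext x'
  simp only [Set.mem_setOf_eq, Set.mem_preimage]
  constructor
  · intro h
    set F' := (Scheme.Modules.pullback g').obj F with hF'
    haveI : F'.IsQuasicoherent := isQuasicoherent_pullback g' F
    set s' := f' x' with hs'
    set z' := f'.asFiber x' with hz'
    have hz'x : f'.fiberι s' z' = x' := f'.fiberι_asFiber x'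
    -- free on the fibre upstairs
    have hA : Module.Free ((f'.fiber s').presheaf.stalk z')
        (((Scheme.Modules.pullback (f'.fiberι s')).obj F').presheaf.stalk z') :=
      free_pullback_stalk (f'.fiberι s') F' z' (free_congr_point F' hz'x.symm h)
    -- compare with the pullback along the map of fibres
    set G := (Scheme.Modules.pullback (f.fiberι (g s'))).obj F with hG
    haveI : G.IsQuasicoherent := isQuasicoherent_pullback _ F
    let E : (Scheme.Modules.pullback (fibMap hc s')).obj G ≅
        (Scheme.Modules.pullback (f'.fiberι s')).obj F' :=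
      (compIso (fibMap hc s') (f.fiberι (g s')) (f'.fiberι s' ≫ g') (fibMap_fiberι hc s')).app F ≪≫
        ((compIso (f'.fiberι s') g' (f'.fiberι s' ≫ g') rfl).app F).symm
    haveI := hA
    have hB : Module.Flat ((f'.fiber s').presheaf.stalk z')
        (((Scheme.Modules.pullback (fibMap hc s')).obj G).presheaf.stalk z') :=
      Module.Flat.of_linearEquiv (stalkEquiv E z')
    haveI := flat_fibMap hc s'
    have hC := flat_stalk_of_flat_pullback (fibMap hc s') G z' (Flat.stalkMap (fibMap hc s') z') hB
    have hD := free_of_flat_fibre f F (g s') (fibMap hc s' z') (hfl _) hC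
    refine free_congr_point F ?_ hD
    rw [fiberι_fibMap_apply, hz'x]
  · intro h
    exact free_pullback_stalk g' F x' h

end Groth.Agent.S9769
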