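import Groth.Statements.S9778
import Groth.Agent.Lib.Helper20EtSplitClopen

set_option autoImplicit false
universe u
open FlatMor

namespace Groth.Agent.S9778

open AlgebraicGeometry CategoryTheory Limits in
/-- Let f : X ⟶ S be separated and locally of finite type, s a point of S and x_1, …, x_n pairwise
distinct points of X over s at which f is quasi-finite (isolated points of the fibre). Then there
are an étale morphism g : U ⟶ S with a point u over s and finitely many pairwise disjoint open and
closed subschemes V_{i,j} of X_U = X ×_S U, each finite over U and containing exactly one point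
v_{i,j} over u, with v_{i,j} mapping to x_i and κ(v_{i,j}) purely inseparable over κ(u), such that
every point of X_U over u mapping to some x_i lies in one of the V_{i,j} (so the open and closed
complement W of their union has no point over u mapping to any x_i). -/
theorem result {X S : Scheme.{u}} (f : X ⟶ S) [LocallyOfFiniteType f] [IsSeparated f] (s : S)
    {ι : Type} [Finite ι] (x : ι → ↑X) (hinj : Function.Injective x) (hs : ∀ i, f (x i) = s) (hx : ∀ i, f.QuasiFiniteAt (x i)) :
    ∃ (U : Scheme.{u}) (g : U ⟶ S) (u : U), Etale g ∧ g u = s ∧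
      ∃ (J : ι → Type) (_ : ∀ i, Finite (J i)) (V : ∀ i, J i → (pullback f g).Opens) (v : ∀ i, J i → ↑(pullback f g)),
        (∀ i j, IsClopen ((V i j : Set ↑(pullback f g)))) ∧
        (∀ i j i' j', ((V i j : Set ↑(pullback f g)) ∩ (V i' j')).Nonempty → i = i' ∧ HEq j j') ∧
        (∀ i j, v i j ∈ V i j ∧ IsFinite ((V i j).ι ≫ pullback.snd f g) ∧ pullback.snd f g (v i j) = u ∧
          (∀ w : ↑(pullback f g), w ∈ V i j → pullback.snd f g w = u → w = v i j) ∧
          (letI := ((pullback.snd f g).residueFieldMap (v i j)).hom.toAlgebra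
           IsPurelyInseparable ↑(U.residueField (pullback.snd f g (v i j))) ↑((pullback f g).residueField (v i j))) ∧
          pullback.fst f g (v i j) = x i) ∧
        (∀ (w : ↑(pullback f g)) (i : ι), pullback.snd f g w = u → pullback.fst f g w = x i → ∃ j, w ∈ V i j) := by
  obtain ⟨U, g, u, hg, hu, hFfin, V, hdisj, H⟩ :=
    Groth.Agent.Lib.Helper20.EtSections.exists_etale_split_clopen f s (Set.range x)
      (Set.finite_range x) (by rintro _ ⟨i, rfl⟩; exact ⟨hs i, hx i⟩)
  have hFi : ∀ i, Finite {w : ↥(pullback f g) // pullback.snd f g w = u ∧ pullback.fst f g w = x i} := by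
    intro i
    have : Finite {w : ↥(pullback f g) | pullback.snd f g w = u ∧
        pullback.fst f g w ∈ Set.range x} := hFfin.to_subtype
    exact Finite.of_injective (fun w => (⟨w.1, w.2.1, ⟨i, w.2.2.symm⟩⟩ :
      {w : ↥(pullback f g) | pullback.snd f g w = u ∧ pullback.fst f g w ∈ Set.range x}))
      (fun a b hab => Subtype.ext (congrArg (fun z => z.1) hab))
  let eq : ∀ i, {w : ↥(pullback f g) // pullback.snd f g w = u ∧ pullback.fst f g w = x i} ≃
      Fin (Nat.card {w : ↥(pullback f g) // pullback.snd f g w = u ∧ pullback.fst f g w = x i}) :=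
    fun i => Finite.equivFin _
  have hmem : ∀ (i : ι) (j : Fin (Nat.card {w : ↥(pullback f g) // pullback.snd f g w = u ∧
      pullback.fst f g w = x i})), pullback.snd f g ((eq i).symm j).1 = u ∧
      pullback.fst f g ((eq i).symm j).1 ∈ Set.range x :=
    fun i j => ⟨((eq i).symm j).2.1, ⟨i, ((eq i).symm j).2.2.symm⟩⟩
  refine ⟨U, g, u, hg, hu, fun i => Fin (Nat.card {w : ↥(pullback f g) //
    pullback.snd f g w = u ∧ pullback.fst f g w = x i}), fun i => inferInstance,
    fun i j => V ((eq i).symm j).1, fun i j => ((eq i).symm j).1, ?_, ?_, ?_, ?_⟩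
  · intro i j
    exact (H _ (hmem i j).1 (hmem i j).2).2.1
  · intro i j i' j' hne
    have hvv : ((eq i).symm j).1 = ((eq i').symm j').1 :=
      hdisj _ _ (hmem i j).1 (hmem i j).2 (hmem i' j').1 (hmem i' j').2 hne
    have hii : i = i' := by
      apply hinj
      have h1 := ((eq i).symm j).2.2
      have h2 := ((eq i').symm j').2.2
      rw [← h1, ← h2, hvv]
    subst hii
    refine ⟨rfl, heq_of_eq ?_⟩
    apply (eq i).symm.injective
    exact Subtype.ext hvv
  · intro i j
    have hw := H _ (hmem i j).1 (hmem i j).2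
    refine ⟨hw.1, hw.2.2.1, ((eq i).symm j).2.1, hw.2.2.2.1, ?_, ((eq i).symm j).2.2⟩
    exact (Groth.Agent.Lib.Helper20.ResFld.pInsep_iff _).mp hw.2.2.2.2.1
  · intro w i hwu hwx
    refine ⟨eq i ⟨w, hwu, hwx⟩, ?_⟩
    change w ∈ V ((eq i).symm (eq i ⟨w, hwu, hwx⟩)).1
    rw [Equiv.symm_apply_apply]
    exact (H w hwu ⟨i, hwx.symm⟩).1

end Groth.Agent.S9778
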