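import Groth.Statements.S9791
import Groth.Agent.Lib.Helper3SmNormSch
import Groth.Agent.S7830
import Groth.Agent.S8019
import Mathlib

set_option autoImplicit false
universe u
open CategoryTheory CategoryTheory.Limits AlgebraicGeometry
open FlatMor

namespace Groth.Agent.S9791

open Groth.Agent.Lib.Helper3.SmNormSch Groth.Agent.Lib.Helper4.NormIso
  Groth.Agent.Lib.Helper4.NormCurve

theorem toNormalization_closedPoint_of_eq {X : Scheme.{u}} [IsIntegral X]
    (g : Spec (CommRingCat.of X.functionField) ⟶ X)
    (hg : g = gen X X.functionField (RingHom.id _)) [QuasiCompact g] [QuasiSeparated g] :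
    g.toNormalization (IsLocalRing.closedPoint X.functionField) = genericPoint g.normalization := by
  subst hg
  exact toNormalization_closedPoint _ _

set_option backward.isDefEq.respectTransparency false in
theorem main {X Y : Scheme.{u}} (f : X ⟶ Y) [Smooth f] [IsIntegral X] [IsIntegral Y]
    [QuasiCompact (X.fromSpecStalk (genericPoint X))]
    [QuasiSeparated (X.fromSpecStalk (genericPoint X))]
    [QuasiCompact (Y.fromSpecStalk (genericPoint Y))]
    [QuasiSeparated (Y.fromSpecStalk (genericPoint Y))] :
    ∃! e : (X.fromSpecStalk (genericPoint X)).normalization ≅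
        pullback f (Y.fromSpecStalk (genericPoint Y)).fromNormalization,
      e.hom ≫ pullback.fst f (Y.fromSpecStalk (genericPoint Y)).fromNormalization =
        (X.fromSpecStalk (genericPoint X)).fromNormalization := by
  set jX := X.fromSpecStalk (genericPoint X) with hjX
  set jY := Y.fromSpecStalk (genericPoint Y) with hjY
  set νY := jY.fromNormalization with hνY
  set νX := jX.fromNormalization with hνX
  set π := pullback.fst f νY with hπ
  set q := pullback.snd f νY with hq
  have hgen : f (genericPoint X) = genericPoint Y := apply_genericPoint_of_flat f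
  -- Y^ν is normal and integral
  have hYn : Pi1.IsNormalScheme jY.normalization :=
    isNormalScheme_normalization_of_eq Y.functionField (RingHom.id _) jY fromSpecStalk_eq_gen
  haveI : IsIntegral jY.normalization := inferInstance
  haveI : IsIntegral jX.normalization := inferInstance
  -- P is normal
  haveI : Smooth q := inferInstance
  have hPn : Pi1.IsNormalScheme (pullback f νY) := isNormalScheme_of_smooth hYn q
  -- P is irreducible
  haveI := irreducibleSpace_genericFibre f hgen
  haveI : IrreducibleSpace ↥(pullback.snd jY f).normalization :=
    irreducibleSpace_of_isDominant (pullback.snd jY f).toNormalization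
  let φ : (pullback.snd jY f).normalization ⟶ pullback f νY :=
    jY.normalizationPullback f ≫ (pullbackSymmetry _ _).hom
  haveI : IsIso φ := inferInstance
  haveI : IrreducibleSpace ↥(pullback f νY) := irreducibleSpace_of_isDominant φ
  haveI : IsReduced (pullback f νY) := by
    haveI : ∀ z, _root_.IsReduced ((pullback f νY).presheaf.stalk z) := fun z => by
      haveI := (hPn z).1
      infer_instance
    exact isReduced_of_isReduced_stalk _
  haveI : IsIntegral (pullback f νY) := isIntegral_of_irreducibleSpace_of_isReduced _
  haveI : IsIntegralHom π := inferInstance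
  -- the comparison morphism
  have hsp : f (genericPoint X) ⤳ genericPoint Y := (Inseparable.of_eq hgen).specializes
  let ρ : Spec (X.presheaf.stalk (genericPoint X)) ⟶ Spec (Y.presheaf.stalk (genericPoint Y)) :=
    Spec.map (Y.presheaf.stalkSpecializes hsp ≫ f.stalkMap (genericPoint X))
  have hρ : ρ ≫ jY = jX ≫ f := by
    rw [← Scheme.SpecMap_stalkMap_fromSpecStalk, ← Scheme.SpecMap_stalkSpecializes_fromSpecStalk hsp,
      ← Category.assoc, ← Spec.map_comp]
  let s₂ : Spec (X.presheaf.stalk (genericPoint X)) ⟶ jY.normalization := ρ ≫ jY.toNormalization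
  have hs₂ : jX ≫ f = s₂ ≫ νY := by
    rw [Category.assoc, Scheme.Hom.toNormalization_fromNormalization, hρ]
  let s : Spec (X.presheaf.stalk (genericPoint X)) ⟶ pullback f νY := pullback.lift jX s₂ hs₂
  have hsπ : jX = s ≫ π := (pullback.lift_fst _ _ _).symm
  set c := jX.normalizationDesc s π hsπ with hc
  have hcπ : c ≫ π = νX := Scheme.Hom.normalizationDesc_comp _ _ _ _
  have hτc : jX.toNormalization ≫ c = s := Scheme.Hom.toNormalization_normalizationDesc _ _ _ _
  haveI : IsIntegralHom c := inferInstance
  -- generic points
  set η := genericPoint jX.normalization with hη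
  have hνη : νX η = genericPoint X := by
    have h1 := fromNormalization_preimage_genericPoint_of_eq jX fromSpecStalk_eq_gen
    have h2 : η ∈ νX.base ⁻¹' {genericPoint X} := by rw [h1]; rfl
    exact h2
  have hπc : π (c η) = genericPoint X := by
    rw [← Scheme.Hom.comp_apply, hcπ, hνη]
  have h1 : genericPoint ↥(pullback f νY) ⤳ c η := genericPoint_specializes _
  have h3 : π (genericPoint ↥(pullback f νY)) = genericPoint X := by
    have h4 : π (genericPoint ↥(pullback f νY)) ⤳ genericPoint X := by
      rw [← hπc]; exact h1.map π.continuous
    exact (h4.antisymm (genericPoint_specializes _)).eq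
  have hcη : c η = genericPoint ↥(pullback f νY) :=
    (Groth.Agent.S8019.eq_of_specializes_of_isIntegralHom π h1 (h3.trans hπc.symm)).symm
  -- stalk maps at the generic points
  haveI hνiso : IsIso (νX.stalkMap η) := isIso_stalkMap_fromNormalization_of_eq jX fromSpecStalk_eq_gen
  have hcomp : IsIso (π.stalkMap (c η) ≫ c.stalkMap η) := by
    rw [← Scheme.Hom.stalkMap_comp, Scheme.Hom.stalkMap_congr_hom (c ≫ π) νX hcπ η]
    infer_instance
  have hbij : Function.Bijective (π.stalkMap (c η) ≫ c.stalkMap η).hom :=
    ConcreteCategory.bijective_of_isIso _
  have hfield : ∀ z : ↥(pullback f νY), z = genericPoint ↥(pullback f νY) →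
      IsField ((pullback f νY).presheaf.stalk z) := by
    rintro z rfl
    exact Field.toIsField (pullback f νY).functionField
  have hcbij : Function.Bijective (c.stalkMap η).hom := by
    constructor
    · letI := (hfield _ hcη).toField
      exact RingHom.injective _
    · intro y
      obtain ⟨x, hx⟩ := hbij.2 y
      exact ⟨(π.stalkMap (c η)).hom x, hx⟩
  haveI hciso : IsIso (c.stalkMap η) := (ConcreteCategory.isIso_iff_bijective _).mpr hcbij
  haveI hcIso : IsIso c :=
    Groth.Agent.S7830.isIso_of_isIntegralHom_of_birational c hPn hcη hciso
  haveI hπiso : IsIso (π.stalkMap (c η)) := IsIso.of_isIso_comp_right _ (c.stalkMap η)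
  refine ⟨asIso c, hcπ, ?_⟩
  intro e' he'
  apply Iso.ext
  change e'.hom = c
  have htc : jX.toNormalization (IsLocalRing.closedPoint X.functionField) = η :=
    toNormalization_closedPoint_of_eq jX fromSpecStalk_eq_gen
  have hz1 : (jX.toNormalization ≫ c) (IsLocalRing.closedPoint X.functionField) = c η :=
    (Scheme.Hom.comp_apply _ _ _).trans (congrArg c htc)
  have hz2 : (jX.toNormalization ≫ e'.hom) (IsLocalRing.closedPoint X.functionField) = c η := by
    refine (Scheme.Hom.comp_apply _ _ _).trans ((congrArg e'.hom htc).trans ?_)
    rw [hcη]
    exact apply_genericPoint_of_isDominant e'.hom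
  have hepi : ∀ z, z = c η → Epi (π.stalkMap z) := by
    rintro z rfl
    infer_instance
  refine Scheme.Hom.normalization.hom_ext jX e'.hom c π ?_ he' hcπ
  exact spec_hom_ext π _ _ (by rw [Category.assoc, Category.assoc, he', hcπ]) (hz2.trans hz1.symm)
    (hepi _ hz2)

/-- In the case of integral schemes: let f : X ⟶ Y be a smooth morphism with X and Y integral, and let
X^ν ⟶ X and Y^ν ⟶ Y be the normalizations (in the function fields). Then X^ν is isomorphic over X to
the fibre product X ×_Y Y^ν, and such an isomorphism is unique. (The published statement requires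
only that each quasi-compact open subset of Y meet finitely many irreducible components of Y, and
also derives this for X; this row assumes X and Y integral, the case in which the normalization used
here is defined. The quasi-compactness and quasi-separatedness binders on Spec K(X) → X and Spec
K(Y) → Y always hold and are needed only to form the normalization.) -/
theorem result {X Y : Scheme.{u}} (f : X ⟶ Y) [Smooth f] [IsIntegral X] [IsIntegral Y]
    [QuasiCompact (X.fromSpecStalk (genericPoint X))] [QuasiSeparated (X.fromSpecStalk (genericPoint X))]
    [QuasiCompact (Y.fromSpecStalk (genericPoint Y))] [QuasiSeparated (Y.fromSpecStalk (genericPoint Y))] :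
    ∃! e : Curv2.normalization X ≅ pullback f (Curv2.normalizationι Y),
      e.hom ≫ pullback.fst f (Curv2.normalizationι Y) = Curv2.normalizationι X := by
  exact main f

end Groth.Agent.S9791
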