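import Groth.Statements.S9793
import Mathlib
-- import your own Groth.Agent.* helpers here

set_option autoImplicit false
universe u
open CategoryTheory AlgebraicGeometry TopologicalSpace
open Props

namespace Groth.Agent.S9793

/-- Let S be a Noetherian scheme and T a set of points of S. Every point of T is a specialization of
some point of T which admits no non-trivial generization lying in T. -/
theorem result (S : Scheme.{u}) [IsNoetherian S]
    (T : Set S) (t : S) (ht : t ∈ T) :
    ∃ t₀ ∈ T, (∀ t' ∈ T, t' ⤳ t₀ → t' = t₀) ∧ t₀ ⤳ t := by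
  let R := S.presheaf.stalk t
  let f := S.fromSpecStalk t
  have hrange : Set.range f = {y | y ⤳ t} := Scheme.range_fromSpecStalk
  have hemb : Topology.IsEmbedding f := f.isEmbedding
  let G : Set (PrimeSpectrum R) := f ⁻¹' T
  have hGne : G.Nonempty := by
    refine ⟨IsLocalRing.closedPoint R, ?_⟩
    show f (IsLocalRing.closedPoint R) ∈ T
    rw [Scheme.fromSpecStalk_closedPoint]
    exact ht
  obtain ⟨p₀, hp₀, hmin⟩ := WellFounded.has_min
    (InvImage.wf (fun p : PrimeSpectrum R => p.asIdeal.height) wellFounded_lt) G hGne
  refine ⟨f p₀, hp₀, ?_, ?_⟩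
  · intro t' ht' hspec
    have hp₀t : f p₀ ⤳ t := by
      have : f p₀ ∈ Set.range f := ⟨p₀, rfl⟩
      rw [hrange] at this
      exact this
    have ht't : t' ⤳ t := hspec.trans hp₀t
    have : t' ∈ Set.range f := by rw [hrange]; exact ht't
    obtain ⟨p', rfl⟩ := this
    have hle' : p' ⤳ p₀ := hemb.isInducing.specializes_iff.1 hspec
    have hle : (show PrimeSpectrum R from p') ≤ p₀ :=
      (PrimeSpectrum.le_iff_specializes (show PrimeSpectrum R from p') p₀).2 hle'
    by_contra hne
    have hlt : (show PrimeSpectrum R from p').asIdeal < p₀.asIdeal := by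
      refine lt_of_le_of_ne hle ?_
      intro h
      exact hne (congrArg f (PrimeSpectrum.ext h))
    have := Ideal.height_strict_mono_of_isPrime_of_isPrime hlt
    exact hmin (show PrimeSpectrum R from p') ht' this
  · have : f p₀ ∈ Set.range f := ⟨p₀, rfl⟩
    rw [hrange] at this
    exact this

end Groth.Agent.S9793
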