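import Groth.Statements.S9792
import Mathlib
import Groth.Agent.S9793
-- import your own Groth.Agent.* helpers here

set_option autoImplicit false
universe u
open CategoryTheory AlgebraicGeometry TopologicalSpace
open Props

namespace Groth.Agent.S9792

/-- In a Noetherian scheme, every infinite set of points contains an infinite subset no two distinct
members of which are related by specialization. -/
theorem result (S : Scheme.{u}) [IsNoetherian S]
    (T : Set S) (hT : T.Infinite) :
    ∃ T' : Set S, T' ⊆ T ∧ T'.Infinite ∧ ∀ a ∈ T', ∀ b ∈ T', a ⤳ b → a = b := by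
  classical
  -- minimal closed `Z` with `T ∩ Z` infinite
  let F : Set (TopologicalSpace.Closeds S) := {Z | (T ∩ (Z : Set S)).Infinite}
  have hFne : F.Nonempty := ⟨⊤, by simpa [F] using hT⟩
  obtain ⟨Z, hZ, hZmin⟩ := WellFounded.has_min
    (wellFounded_lt : WellFounded ((· < ·) : TopologicalSpace.Closeds S → _ → Prop)) F hFne
  have hZinf : (T ∩ (Z : Set S)).Infinite := hZ
  have hmin' : ∀ Z' : TopologicalSpace.Closeds S, Z' < Z → (T ∩ (Z' : Set S)).Finite := by
    intro Z' hlt
    by_contra hinf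
    exact hZmin Z' hinf hlt
  -- `Z` is irreducible
  have hZne : (Z : Set S).Nonempty := by
    obtain ⟨x, hx⟩ := hZinf.nonempty
    exact ⟨x, hx.2⟩
  have hZirr : IsIrreducible (Z : Set S) := by
    refine ⟨hZne, ?_⟩
    rw [isPreirreducible_iff_isClosed_union_isClosed]
    intro Z₁ Z₂ h₁ h₂ hsub
    by_contra hcon
    push Not at hcon
    obtain ⟨hn₁, hn₂⟩ := hcon
    let W₁ : TopologicalSpace.Closeds S := ⟨Z₁ ∩ Z, h₁.inter Z.isClosed⟩
    let W₂ : TopologicalSpace.Closeds S := ⟨Z₂ ∩ Z, h₂.inter Z.isClosed⟩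
    have hW₁ : W₁ < Z := by
      refine lt_of_le_of_ne (fun x hx => hx.2) ?_
      intro heq
      apply hn₁
      intro x hx
      have : x ∈ (W₁ : Set S) := by rw [heq]; exact hx
      exact this.1
    have hW₂ : W₂ < Z := by
      refine lt_of_le_of_ne (fun x hx => hx.2) ?_
      intro heq
      apply hn₂
      intro x hx
      have : x ∈ (W₂ : Set S) := by rw [heq]; exact hx
      exact this.1
    have hfin := (hmin' W₁ hW₁).union (hmin' W₂ hW₂)
    apply hZinf
    refine hfin.subset ?_
    rintro x ⟨hxT, hxZ⟩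
    rcases hsub hxZ with h | h
    · exact Or.inl ⟨hxT, h, hxZ⟩
    · exact Or.inr ⟨hxT, h, hxZ⟩
  obtain ⟨η, hη⟩ := QuasiSober.sober hZirr Z.isClosed
  -- remove the generic point
  let T' : Set S := (T ∩ (Z : Set S)) \ {η}
  have hT'inf : T'.Infinite := hZinf.sdiff (Set.finite_singleton η)
  let M : Set S := {m | m ∈ T' ∧ ∀ t' ∈ T', t' ⤳ m → t' = m}
  have hMsub : M ⊆ T := fun m hm => hm.1.1.1
  refine ⟨M, hMsub, ?_, ?_⟩
  · -- `M` is infinite
    intro hMfin
    apply hT'inf
    have hcover : T' ⊆ ⋃ m ∈ M, (T ∩ closure {m}) := by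
      intro t ht
      obtain ⟨t₀, ht₀, hmax, hspec⟩ := Groth.Agent.S9793.result S T' t ht
      refine Set.mem_iUnion₂.2 ⟨t₀, ⟨ht₀, hmax⟩, ht.1.1, ?_⟩
      exact hspec.mem_closure
    refine (Set.Finite.biUnion hMfin ?_).subset hcover
    intro m hm
    have hmZ : m ∈ (Z : Set S) := hm.1.1.2
    let W : TopologicalSpace.Closeds S := ⟨closure {m}, isClosed_closure⟩
    have hWle : W ≤ Z := by
      intro x hx
      exact (Z.isClosed.closure_subset_iff.2 (Set.singleton_subset_iff.2 hmZ)) hx
    have hWne : W ≠ Z := by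
      intro heq
      have h1 : closure {m} = (Z : Set S) := congrArg (fun W : TopologicalSpace.Closeds S => (W : Set S)) heq
      have h2 : IsGenericPoint m (Z : Set S) := h1
      have : m = η := h2.eq hη
      exact hm.1.2 this
    exact hmin' W (lt_of_le_of_ne hWle hWne)
  · intro a ha b hb hab
    exact hb.2 a ha.1 hab

end Groth.Agent.S9792
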