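import Groth.Statements.S9794
import Mathlib
import Groth.Agent.S9793
-- import your own Groth.Agent.* helpers here

set_option autoImplicit false
universe u
open CategoryTheory AlgebraicGeometry TopologicalSpace
open Props

namespace Groth.Agent.S9794

/-- In a Noetherian scheme, an infinite dense set of points contains a countable subset which is dense. -/
theorem result (S : Scheme.{u}) [IsNoetherian S]
    (T : Set S) (hT : T.Infinite) (hd : Dense T) :
    ∃ E : Set S, E ⊆ T ∧ E.Countable ∧ Dense E := by
  classical
  let T' : Set S := {s | ∃ E : Set S, E ⊆ T ∧ E.Countable ∧ closure {s} ⊆ closure E}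
  have hTT' : T ⊆ T' := fun t ht =>
    ⟨{t}, Set.singleton_subset_iff.2 ht, Set.countable_singleton t, le_rfl⟩
  let M : Set S := {m | m ∈ T' ∧ ∀ t' ∈ T', t' ⤳ m → t' = m}
  have hMT' : M ⊆ T' := fun m hm => hm.1
  choose! Em hEmT hEmc hEmcl using fun (m : S) (hm : m ∈ T') => hm
  -- `M` is finite
  have hMfin : M.Finite := by
    by_contra hMinf
    have hMinf : M.Infinite := hMinf
    let F : Set (TopologicalSpace.Closeds S) :=
      {Z | ∃ N : Set S, N ⊆ M ∧ N.Infinite ∧ (Z : Set S) = closure N}
    have hFne : F.Nonempty := ⟨⟨closure M, isClosed_closure⟩, M, le_rfl, hMinf, rfl⟩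
    obtain ⟨Z, ⟨N, hNM, hNinf, hZN⟩, hZmin⟩ := WellFounded.has_min
      (wellFounded_lt : WellFounded ((· < ·) : TopologicalSpace.Closeds S → _ → Prop)) F hFne
    have hmin' : ∀ N' : Set S, N' ⊆ M → N'.Infinite → closure N' ⊆ closure N →
        closure N' = closure N := by
      intro N' hN'M hN'inf hsub
      by_contra hne
      let Z' : TopologicalSpace.Closeds S := ⟨closure N', isClosed_closure⟩
      have hZ'F : Z' ∈ F := ⟨N', hN'M, hN'inf, rfl⟩
      refine hZmin Z' hZ'F (lt_of_le_of_ne ?_ ?_)
      · intro x hx
        show x ∈ (Z : Set S)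
        rw [hZN]
        exact hsub hx
      · intro heq
        apply hne
        have : (Z' : Set S) = (Z : Set S) := congrArg _ heq
        rw [hZN] at this
        exact this
    -- a countable infinite subset
    let f := hNinf.natEmbedding
    let N₀ : Set S := Set.range (fun n => (f n : S))
    have hN₀N : N₀ ⊆ N := by rintro _ ⟨n, rfl⟩; exact (f n).2
    have hN₀c : N₀.Countable := Set.countable_range _
    have hN₀inf : N₀.Infinite :=
      Set.infinite_range_of_injective (Subtype.val_injective.comp f.injective)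
    have hN₀M : N₀ ⊆ M := hN₀N.trans hNM
    have hcl₀ : closure N₀ = closure N := hmin' N₀ hN₀M hN₀inf (closure_mono hN₀N)
    -- irreducibility
    have hirr : IsIrreducible (closure N₀) := by
      refine ⟨(hN₀inf.nonempty).mono subset_closure, ?_⟩
      rw [isPreirreducible_iff_isClosed_union_isClosed]
      intro A B hA hB hsub
      have hN₀AB : N₀ = (N₀ ∩ A) ∪ (N₀ ∩ B) := by
        rw [← Set.inter_union_distrib_left]
        exact (Set.inter_eq_left.2 (subset_closure.trans hsub)).symm
      have hor : (N₀ ∩ A).Infinite ∨ (N₀ ∩ B).Infinite := by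
        rw [← Set.infinite_union, ← hN₀AB]
        exact hN₀inf
      rcases hor with h | h
      · left
        have := hmin' (N₀ ∩ A) (Set.inter_subset_left.trans hN₀M) h
          ((closure_mono Set.inter_subset_left).trans hcl₀.le)
        rw [hcl₀, ← this]
        exact closure_minimal Set.inter_subset_right hA
      · right
        have := hmin' (N₀ ∩ B) (Set.inter_subset_left.trans hN₀M) h
          ((closure_mono Set.inter_subset_left).trans hcl₀.le)
        rw [hcl₀, ← this]
        exact closure_minimal Set.inter_subset_right hB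
    obtain ⟨ζ, hζ⟩ := QuasiSober.sober hirr isClosed_closure
    have hζcl : closure {ζ} = closure N₀ := hζ
    have hζT' : ζ ∈ T' := by
      refine ⟨⋃ m ∈ N₀, Em m, ?_, ?_, ?_⟩
      · exact Set.iUnion₂_subset fun m hm => hEmT m (hMT' (hN₀M hm))
      · exact hN₀c.biUnion fun m hm => hEmc m (hMT' (hN₀M hm))
      · rw [hζcl]
        refine closure_minimal ?_ isClosed_closure
        intro m hm
        have h1 : m ∈ closure {m} := subset_closure rfl
        have h2 := hEmcl m (hMT' (hN₀M hm)) h1
        exact closure_mono (Set.subset_biUnion_of_mem hm) h2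
    have hall : ∀ m ∈ N₀, ζ = m := by
      intro m hm
      have hmζ : ζ ⤳ m := by
        rw [specializes_iff_mem_closure, hζcl]
        exact subset_closure hm
      exact (hN₀M hm).2 ζ hζT' hmζ
    obtain ⟨m₁, hm₁, m₂, hm₂, hne⟩ := hN₀inf.nontrivial
    exact hne ((hall m₁ hm₁).symm.trans (hall m₂ hm₂))
  -- the points of `T` lie in the closures of the maximal points
  have hcover : T ⊆ ⋃ m ∈ M, closure {m} := by
    intro t ht
    obtain ⟨t₀, ht₀, hmax, hspec⟩ := Groth.Agent.S9793.result S T' t (hTT' ht)
    exact Set.mem_iUnion₂.2 ⟨t₀, ⟨ht₀, hmax⟩, hspec.mem_closure⟩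
  have hclosed : IsClosed (⋃ m ∈ M, closure ({m} : Set S)) :=
    hMfin.isClosed_biUnion fun m _ => isClosed_closure
  have huniv : (⋃ m ∈ M, closure ({m} : Set S)) = Set.univ := by
    apply Set.eq_univ_of_univ_subset
    rw [← hd.closure_eq]
    exact closure_minimal hcover hclosed
  refine ⟨⋃ m ∈ M, Em m, ?_, ?_, ?_⟩
  · exact Set.iUnion₂_subset fun m hm => hEmT m (hMT' hm)
  · exact hMfin.countable.biUnion fun m hm => hEmc m (hMT' hm)
  · rw [dense_iff_closure_eq, ← Set.univ_subset_iff, ← huniv]
    refine Set.iUnion₂_subset fun m hm => ?_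
    exact (hEmcl m (hMT' hm)).trans (closure_mono (Set.subset_biUnion_of_mem hm))

end Groth.Agent.S9794
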