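import Groth.Statements.S9830
import Mathlib
-- import your own Groth.Agent.* helpers here

set_option autoImplicit false
universe u
open CategoryTheory AlgebraicGeometry TopologicalSpace
open Props

namespace Groth.Agent.S9830

open CategoryTheory CategoryTheory.Limits AlgebraicGeometry in
/-- A quasi-separated scheme without non-trivial specializations is separated. -/
theorem isSeparated_of_forall_specializes_eq (X : Scheme.{u}) [QuasiSeparatedSpace X]
    (hX : ∀ x y : X, x ⤳ y → x = y) : X.IsSeparated := by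
  have : QuasiSeparated (terminal.from X) := (quasiSeparatedSpace_iff_quasiSeparated X).1 ‹_›
  refine ⟨IsSeparated.of_valuativeCriterion _ ?_⟩
  intro S
  constructor
  rintro ⟨l₁, hl₁, hl₁'⟩ ⟨l₂, hl₂, hl₂'⟩
  ext : 1
  dsimp at *
  let φ := Spec.map (CommRingCat.ofHom (algebraMap S.R S.K))
  -- the generic point of `Spec R`
  let pt : Spec (.of S.K) := (⊥ : PrimeSpectrum S.K)
  let ξ : Spec (.of S.R) := φ pt
  have hξ : ∀ p : Spec (.of S.R), ξ ⤳ p := by
    intro p
    have hbot : ξ = (⊥ : PrimeSpectrum S.R) := by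
      apply PrimeSpectrum.ext
      show Ideal.comap (algebraMap S.R S.K) ⊥ = ⊥
      rw [← RingHom.ker_eq_comap_bot]
      exact (RingHom.injective_iff_ker_eq_bot _).1 (IsFractionRing.injective S.R S.K)
    rw [hbot]
    exact (PrimeSpectrum.le_iff_specializes (⊥ : PrimeSpectrum S.R) p).1 bot_le
  let x₀ : X := S.i₁ pt
  have hconst : ∀ (l : Spec (.of S.R) ⟶ X), φ ≫ l = S.i₁ → ∀ p, l p = x₀ := by
    intro l hl p
    have h1 : l ξ = x₀ := by
      show l (φ pt) = S.i₁ pt
      rw [← hl]
      rfl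
    have h2 : l ξ ⤳ l p := (hξ p).map l.continuous
    rw [← h1]
    exact (hX _ _ h2).symm
  -- an affine open neighbourhood of `x₀`
  obtain ⟨_, ⟨U, hU, rfl⟩, hxU, -⟩ :=
    (X.isBasis_affineOpens).exists_subset_of_mem_open (Set.mem_univ x₀) isOpen_univ
  let U : X.Opens := U
  have hr : ∀ (l : Spec (.of S.R) ⟶ X), φ ≫ l = S.i₁ → Set.range l ⊆ Set.range U.ι := by
    intro l hl
    rw [Scheme.Opens.range_ι]
    rintro _ ⟨p, rfl⟩
    rw [hconst l hl p]
    exact hxU
  let l₁' := IsOpenImmersion.lift U.ι l₁ (hr l₁ hl₁)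
  let l₂' := IsOpenImmersion.lift U.ι l₂ (hr l₂ hl₂)
  have e₁ : l₁' ≫ U.ι = l₁ := IsOpenImmersion.lift_fac _ _ _
  have e₂ : l₂' ≫ U.ι = l₂ := IsOpenImmersion.lift_fac _ _ _
  have hφ : φ ≫ l₁' = φ ≫ l₂' := by
    rw [← cancel_mono U.ι, Category.assoc, Category.assoc, e₁, e₂, hl₁, hl₂]
  have : IsAffine U := hU
  have hsepU : IsSeparated (terminal.from (U : Scheme.{u})) := inferInstance
  let S' : ValuativeCommSq (terminal.from (U : Scheme.{u})) :=
    ⟨S.R, S.K, φ ≫ l₁', terminal.from _, ⟨by simp⟩⟩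
  have hsub : Subsingleton S'.commSq.LiftStruct := IsSeparated.valuativeCriterion _ S'
  let L₁ : S'.commSq.LiftStruct := ⟨l₁', rfl, by simp [S']⟩
  let L₂ : S'.commSq.LiftStruct := ⟨l₂', hφ.symm, by simp [S']⟩
  have hL : L₁ = L₂ := Subsingleton.elim _ _
  have hl' : l₁' = l₂' := congrArg CommSq.LiftStruct.l hL
  rw [← e₁, ← e₂, hl']

/-- A scheme whose underlying space is Hausdorff is separated. (The published statement assumes X of
dimension zero; a Hausdorff scheme always has dimension at most zero, so this row omits that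
hypothesis.) -/
theorem result (X : Scheme.{u}) [T2Space X] : X.IsSeparated := by
  have : QuasiSeparatedSpace X := inferInstance
  refine isSeparated_of_forall_specializes_eq X ?_
  intro x y h
  exact h.eq

end Groth.Agent.S9830
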