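import Groth.Statements.S9795
import Mathlib
import Groth.Agent.S9830
import Groth.Agent.Lib.Helper7TopDim
-- import your own Groth.Agent.* helpers here

set_option autoImplicit false
universe u
open CategoryTheory AlgebraicGeometry TopologicalSpace
open Props

namespace Groth.Agent.S9795

/-- A quasi-separated scheme of dimension at most zero is separated. -/
theorem result (X : Scheme.{u}) [QuasiSeparatedSpace X]
    (h : topologicalKrullDim X ≤ 0) : X.IsSeparated := by
  refine Groth.Agent.S9830.isSeparated_of_forall_specializes_eq X ?_
  intro x y hxy
  have hcl : IsClosed ({x} : Set X) := Groth.Agent.Lib.Helper7.TopDim.isClosed_singleton_of_dim_le_zero h x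
  have : y ∈ closure ({x} : Set X) := hxy.mem_closure
  rw [hcl.closure_eq] at this
  exact (Set.mem_singleton_iff.1 this).symm

end Groth.Agent.S9795
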