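import Groth.Statements.S9796
import Mathlib
import Groth.Agent.Lib.Helper7TopDim
import Groth.Agent.Lib.Helper10Spectral
-- import your own Groth.Agent.* helpers here

set_option autoImplicit false
universe u
open CategoryTheory AlgebraicGeometry TopologicalSpace
open Props

namespace Groth.Agent.S9796

open CategoryTheory AlgebraicGeometry TopologicalSpace in
/-- In a quasi-separated scheme without non-trivial specializations, compact opens are closed. -/
theorem isClosed_of_isCompact_isOpen (X : Scheme.{u}) [QuasiSeparatedSpace X]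
    (hX : ∀ x y : X, x ⤳ y → x = y) (Q : Set X) (hQo : IsOpen Q) (hQc : IsCompact Q) :
    IsClosed Q := by
  rw [← isOpen_compl_iff, isOpen_iff_forall_mem_open]
  intro z hz
  obtain ⟨_, ⟨W, hW, rfl⟩, hzW, -⟩ :=
    (X.isBasis_affineOpens).exists_subset_of_mem_open (Set.mem_univ z) isOpen_univ
  let W : X.Opens := W
  have hW : IsAffineOpen W := hW
  let g := hW.fromSpec
  have hg : Topology.IsOpenEmbedding g := g.isOpenEmbedding
  have hrange : Set.range g = (W : Set X) := hW.range_fromSpec
  -- the preimage of `Q`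
  have hpre_c : IsCompact (g ⁻¹' Q) := by
    have h1 : IsCompact (Q ∩ (W : Set X)) :=
      QuasiSeparatedSpace.inter_isCompact Q W hQo hQc W.isOpen hW.isCompact
    have h2 : g ⁻¹' Q = g ⁻¹' (Q ∩ (W : Set X)) := by
      ext p
      simp only [Set.mem_preimage, Set.mem_inter_iff, iff_self_and]
      intro _
      rw [← hrange]
      exact ⟨p, rfl⟩
    rw [h2]
    exact hg.isInducing.isCompact_preimage' h1 (by rw [hrange]; exact Set.inter_subset_right)
  have hpre_o : IsOpen (g ⁻¹' Q) := hQo.preimage g.continuous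
  have hstable : StableUnderSpecialization (g ⁻¹' Q) := by
    intro a b hab ha
    have : g a ⤳ g b := hab.map g.continuous
    have := hX _ _ this
    show g b ∈ Q
    rw [← this]
    exact ha
  have hclosed : IsClosed (g ⁻¹' Q) :=
    Groth.Agent.Lib.Helper10.Spectral.isClosed_of_isClosed_constr_of_stableUnderSpecialization
      (Groth.Agent.Lib.Helper10.Spectral.isClosed_constr_of_isCompact_isOpen hpre_o hpre_c) hstable
  refine ⟨g '' (g ⁻¹' Q)ᶜ, ?_, hg.isOpenMap _ hclosed.isOpen_compl, ?_⟩
  · rintro _ ⟨p, hp, rfl⟩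
    exact hp
  · have : z ∈ Set.range g := by rw [hrange]; exact hzW
    obtain ⟨p, rfl⟩ := this
    exact ⟨p, hz, rfl⟩

/-- (2) implies (3) with the complement on connected components: a separated scheme of dimension at most
zero is Hausdorff and totally disconnected. -/
theorem result (X : Scheme.{u}) [X.IsSeparated]
    (h : topologicalKrullDim X ≤ 0) : T2Space X ∧ TotallyDisconnectedSpace X := by
  have hX : ∀ x y : X, x ⤳ y → x = y := by
    intro x y hxy
    have hcl : IsClosed ({x} : Set X) :=
      Groth.Agent.Lib.Helper7.TopDim.isClosed_singleton_of_dim_le_zero h x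
    have : y ∈ closure ({x} : Set X) := hxy.mem_closure
    rw [hcl.closure_eq] at this
    exact (Set.mem_singleton_iff.1 this).symm
  have hT1 : ∀ x : X, IsClosed ({x} : Set X) := fun x =>
    Groth.Agent.Lib.Helper7.TopDim.isClosed_singleton_of_dim_le_zero h x
  -- clopen separation
  have hsep : ∀ x y : X, x ≠ y → ∃ C : Set X, IsClopen C ∧ x ∈ C ∧ y ∉ C := by
    intro x y hxy
    have hopen : IsOpen ({y}ᶜ : Set X) := (hT1 y).isOpen_compl
    obtain ⟨_, ⟨W, hW, rfl⟩, hxW, hWy⟩ :=
      (X.isBasis_affineOpens).exists_subset_of_mem_open (show x ∈ ({y}ᶜ : Set X) from hxy) hopen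
    refine ⟨W, ⟨isClosed_of_isCompact_isOpen X hX W W.isOpen hW.isCompact, W.isOpen⟩, hxW, ?_⟩
    intro hy
    exact hWy hy rfl
  have hts : TotallySeparatedSpace X := by
    rw [totallySeparatedSpace_iff_exists_isClopen]
    intro x y hxy
    obtain ⟨C, hC, hx, hy⟩ := hsep x y hxy
    exact ⟨C, hC, hx, hy⟩
  exact ⟨inferInstance, inferInstance⟩

end Groth.Agent.S9796
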