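import Groth.Statements.S9797
import Mathlib
import Groth.Agent.Lib.Helper7TopDim
import Groth.Agent.S9796
-- import your own Groth.Agent.* helpers here

set_option autoImplicit false
universe u
open CategoryTheory AlgebraicGeometry TopologicalSpace
open Props

namespace Groth.Agent.S9797

open CategoryTheory AlgebraicGeometry TopologicalSpace in
/-- A clopen subset of an affine open is affine. -/
theorem isAffineOpen_of_isClopen (X : Scheme.{u}) {W : X.Opens} (hW : IsAffineOpen W)
    (V : X.Opens) (hVW : V ≤ W) (hV : IsClosed (V : Set X)) : IsAffineOpen V := by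
  let g := hW.fromSpec
  have hrange : Set.range g = (W : Set X) := hW.range_fromSpec
  have hclopen : IsClopen (g ⁻¹' (V : Set X)) :=
    ⟨hV.preimage g.continuous, V.isOpen.preimage g.continuous⟩
  obtain ⟨e, -, he⟩ := PrimeSpectrum.isClopen_iff.1 hclopen
  have hVe : V = X.basicOpen e := by
    rw [← hW.fromSpec_image_basicOpen]
    ext x
    constructor
    · intro hx
      have hxr : x ∈ Set.range g := by rw [hrange]; exact hVW hx
      obtain ⟨p, rfl⟩ := hxr
      have hp : p ∈ g ⁻¹' (V : Set X) := hx
      rw [he] at hp
      exact ⟨p, hp, rfl⟩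
    · rintro ⟨p, hp, rfl⟩
      have hp' : p ∈ g ⁻¹' (V : Set X) := by rw [he]; exact hp
      exact hp'
  rw [hVe]
  exact hW.basicOpen e

/-- In a separated scheme of dimension at most zero, every quasi-compact open is affine. -/
theorem result (X : Scheme.{u}) [X.IsSeparated]
    (h : topologicalKrullDim X ≤ 0) (U : X.Opens) (hU : IsCompact (U : Set X)) :
    IsAffineOpen U := by
  have hX : ∀ x y : X, x ⤳ y → x = y := by
    intro x y hxy
    have hcl : IsClosed ({x} : Set X) :=
      Groth.Agent.Lib.Helper7.TopDim.isClosed_singleton_of_dim_le_zero h x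
    have : y ∈ closure ({x} : Set X) := hxy.mem_closure
    rw [hcl.closure_eq] at this
    exact (Set.mem_singleton_iff.1 this).symm
  obtain ⟨s, hs, hUs⟩ :=
    isCompact_and_isOpen_iff_finite_and_eq_biUnion_affineOpens.mp ⟨hU, U.isOpen⟩
  -- generalize over finite sets of affine opens
  suffices H : ∀ s : Set X.affineOpens, s.Finite → ∀ U : X.Opens,
      (U : Set X) = ⋃ i ∈ s, (i : Set X) → IsAffineOpen U from H s hs U hUs
  intro s hs
  induction s, hs using Set.Finite.induction_on with
  | empty =>
    intro U hU
    have : U = ⊥ := by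
      ext1
      simpa using hU
    rw [this]
    exact isAffineOpen_bot X
  | @insert W s hWs hs ih =>
    intro U hU
    -- `U' = ⋃ s`
    let U' : X.Opens := ⟨⋃ i ∈ s, (i : Set X), isOpen_biUnion fun i _ => i.1.isOpen⟩
    have hU' : IsAffineOpen U' := ih U' rfl
    have hU'closed : IsClosed (U' : Set X) :=
      Groth.Agent.S9796.isClosed_of_isCompact_isOpen X hX U' U'.isOpen hU'.isCompact
    let V : X.Opens := ⟨(W : Set X) ∩ (U' : Set X)ᶜ, W.1.isOpen.inter hU'closed.isOpen_compl⟩
    have hWclosed : IsClosed ((W : X.Opens) : Set X) :=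
      Groth.Agent.S9796.isClosed_of_isCompact_isOpen X hX W W.1.isOpen W.2.isCompact
    have hV : IsAffineOpen V := by
      refine isAffineOpen_of_isClopen X W.2 V (fun x hx => hx.1) ?_
      exact hWclosed.inter (isClosed_compl_iff.2 U'.isOpen)
    have hdisj : Disjoint U' V := by
      rw [← Opens.coe_disjoint]
      rw [Set.disjoint_left]
      intro x hx hxV
      exact hxV.2 hx
    have hsup : U = U' ⊔ V := by
      ext1
      rw [hU, Set.biUnion_insert]
      show _ = (U' : Set X) ∪ ((W : Set X) ∩ (U' : Set X)ᶜ)
      ext x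
      simp only [Set.mem_union, Set.mem_inter_iff, Set.mem_compl_iff]
      by_cases hx : x ∈ (U' : Set X)
      · exact ⟨fun _ => Or.inl hx, fun _ => Or.inr hx⟩
      · constructor
        · rintro (h | h)
          · exact Or.inr ⟨h, hx⟩
          · exact absurd h hx
        · rintro (h | h)
          · exact absurd h hx
          · exact Or.inl h.1
    rw [hsup]
    exact hU'.sup_of_disjoint hV hdisj

end Groth.Agent.S9797
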