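import Groth.Statements.S9798
import Mathlib
import Groth.Agent.Lib.Helper7TopDim
open Groth.Agent.Lib.Helper7.TopDim
-- import your own Groth.Agent.* helpers here

set_option autoImplicit false
universe u
open CategoryTheory AlgebraicGeometry TopologicalSpace
open Props

namespace Groth.Agent.S9798

/-- A point of a locally Noetherian scheme has local dimension zero exactly when it is isolated. -/
theorem result (X : Scheme.{u}) [IsLocallyNoetherian X] (x : X) :
    FlatMor.localDim X x = 0 ↔ IsOpen ({x} : Set X) := by
  constructor
  · intro h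
    obtain ⟨U, hxU, hU⟩ := exists_opens_dim_eq_localDim (X := X) x
    rw [h] at hU
    obtain ⟨_, ⟨V, hV : IsAffineOpen V, rfl⟩, hxV, hVU⟩ :=
      X.isBasis_affineOpens.exists_subset_of_mem_open hxU U.2
    haveI : IsNoetherianRing Γ(X, V) := IsLocallyNoetherian.component_noetherian ⟨V, hV⟩
    haveI : NoetherianSpace (V : Set X) := noetherianSpace_of_isAffineOpen V hV
    haveI : Nonempty (V : Set X) := ⟨⟨x, hxV⟩⟩
    have hdimV : topologicalKrullDim (V : Set X) = 0 := by
      apply le_antisymm _ topologicalKrullDim_nonneg
      have h1 : topologicalKrullDim (V : Set X) ≤ topologicalKrullDim (U : Set X) :=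
        (Topology.IsEmbedding.inclusion hVU).isInducing.topologicalKrullDim_le
      exact h1.trans hU.le
    obtain ⟨_, hdisc⟩ := (dim_eq_zero_iff_finite_discrete (X := (V : Set X))).mp hdimV
    have h1 : IsOpen ({⟨x, hxV⟩} : Set (V : Set X)) := isOpen_discrete _
    have h2 := V.2.isOpenMap_subtype_val _ h1
    have h3 : ({x} : Set X) = Subtype.val '' ({⟨x, hxV⟩} : Set (V : Set X)) := by
      rw [Set.image_singleton]
    rw [h3]
    exact h2
  · intro h
    apply le_antisymm _ (localDim_nonneg x)
    refine (localDim_le x ⟨{x}, h⟩ rfl).trans ?_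
    have : Subsingleton (({x} : Set X) : Type _) :=
      (Set.subsingleton_coe _).mpr Set.subsingleton_singleton
    exact topologicalKrullDim_zero_of_discreteTopology ({x} : Set X)

end Groth.Agent.S9798
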