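import Groth.Statements.S9799
import Mathlib
import Groth.Agent.Lib.Helper4EtNormalSch
import Groth.Agent.Lib.Helper14LocNoeth
-- import your own Groth.Agent.* helpers here

set_option autoImplicit false
universe u
open CategoryTheory AlgebraicGeometry TopologicalSpace
open Props

namespace Groth.Agent.S9799

/-- Let X be a normal scheme (all local rings are integrally closed domains) such that every
quasi-compact open subset has finitely many irreducible components. Then the irreducible components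
of X are open and pairwise disjoint; hence X is the disjoint union of its irreducible components,
each an open subscheme which is normal and integral. -/
theorem result (X : Scheme.{u})
    (hfin : ∀ U : X.Opens, IsCompact (U : Set X) → (irreducibleComponents ↥U).Finite)
    (hN : Pi1.IsNormalScheme X) :
    (∀ Z ∈ irreducibleComponents X, IsOpen Z) ∧
      ∀ Z ∈ irreducibleComponents X, ∀ Z' ∈ irreducibleComponents X, Z ≠ Z' → Disjoint Z Z' := by
  classical
  have hdisj : ∀ Z ∈ irreducibleComponents X, ∀ Z' ∈ irreducibleComponents X, Z ≠ Z' →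
      Disjoint Z Z' := by
    intro Z hZ Z' hZ' hne
    rw [Set.disjoint_iff]
    rintro x ⟨hx, hx'⟩
    haveI := (hN x).1
    exact hne (Groth.Agent.Lib.Helper4.EtNormalSch.irreducibleComponents_eq_of_mem x hZ hZ' hx hx')
  refine ⟨fun Z hZ => ?_, hdisj⟩
  rw [isOpen_iff_mem_nhds]
  intro x hxZ
  obtain ⟨_, ⟨U, hU, rfl⟩, hxU, -⟩ :=
    X.isBasis_affineOpens.exists_subset_of_mem_open (Set.mem_univ x) isOpen_univ
  replace hU : IsAffineOpen U := hU
  have hfinU : (irreducibleComponents ↥U).Finite := hfin U hU.isCompact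
  have hex : ∀ T : Set ↥U, T ∈ irreducibleComponents ↥U →
      ∃ Z' ∈ irreducibleComponents X, Subtype.val '' T ⊆ Z' := by
    intro T hT
    exact Groth.Agent.Lib.Helper14.exists_mem_irreducibleComponents_superset
      (hT.1.image _ continuous_subtype_val.continuousOn)
  choose! Zc hZc hTZc using hex
  set 𝒵 : Set (Set X) := {Z' | Z' ∈ Zc '' irreducibleComponents ↥U ∧ Z' ≠ Z} with h𝒵
  have h𝒵fin : 𝒵.Finite := (hfinU.image Zc).subset (fun _ h => h.1)
  have hclosed : IsClosed (⋃₀ 𝒵) := by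
    rw [Set.sUnion_eq_biUnion]
    refine h𝒵fin.isClosed_biUnion ?_
    rintro Z' ⟨⟨T, hT, rfl⟩, -⟩
    exact isClosed_of_mem_irreducibleComponents _ (hZc T hT)
  have hxn : x ∉ ⋃₀ 𝒵 := by
    rintro ⟨Z', ⟨⟨T, hT, rfl⟩, hne⟩, hxZ'⟩
    have := hdisj _ (hZc T hT) _ hZ hne
    exact (Set.disjoint_iff.mp this) ⟨hxZ', hxZ⟩
  have hVopen : IsOpen ((U : Set X) ∩ (⋃₀ 𝒵)ᶜ) := U.isOpen.inter hclosed.isOpen_compl
  refine Filter.mem_of_superset (hVopen.mem_nhds ⟨hxU, hxn⟩) ?_
  rintro v ⟨hvW, hvn⟩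
  have hcov : (⟨v, hvW⟩ : ↥U) ∈ ⋃₀ irreducibleComponents ↥U := by
    rw [sUnion_irreducibleComponents]; trivial
  obtain ⟨T, hT, hvT⟩ := hcov
  have hvZc : v ∈ Zc T := hTZc T hT ⟨⟨v, hvW⟩, hvT, rfl⟩
  by_contra hvZ
  apply hvn
  refine ⟨Zc T, ⟨⟨T, hT, rfl⟩, ?_⟩, hvZc⟩
  rintro rfl
  exact hvZ hvZc

end Groth.Agent.S9799
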