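import Groth.Statements.S9800
import Mathlib
import Groth.Agent.Lib.Helper10CurveFlat
-- import your own Groth.Agent.* helpers here

set_option autoImplicit false
universe u
open CategoryTheory AlgebraicGeometry TopologicalSpace
open Props

namespace Groth.Agent.S9800

/-- A locally Noetherian normal scheme of dimension at most one is regular, that is, all of its local
rings are regular local rings. -/
theorem result (X : Scheme.{u})
    [IsLocallyNoetherian X] (hN : Pi1.IsNormalScheme X) (hd : topologicalKrullDim X ≤ 1) (x : X) :
    IsRegularLocalRing (X.presheaf.stalk x) := by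
  obtain ⟨hdom, hic⟩ := hN x
  haveI := hdom
  haveI := hic
  haveI : IsNoetherianRing (X.presheaf.stalk x) := inferInstance
  have hco : Order.coheight x ≤ 1 :=
    Groth.Agent.Lib.Helper10.CurveFlat.coheight_le_of_topologicalKrullDim_le X 1 (by exact_mod_cast hd) x
  haveI : Ring.KrullDimLE 1 (X.presheaf.stalk x) := krullDimLE_of_coheight_le (by exact_mod_cast hco)
  have h4 : IsIntegrallyClosed (X.presheaf.stalk x) ∧ ∀ P : Ideal (X.presheaf.stalk x), P ≠ ⊥ →
      P.IsPrime → P = IsLocalRing.maximalIdeal (X.presheaf.stalk x) :=
    ⟨hic, fun P hP hP' => IsLocalRing.eq_maximalIdeal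
      ((Ring.krullDimLE_one_iff_of_noZeroDivisors.mp inferInstance) P hP hP')⟩
  haveI : IsPrincipalIdealRing (X.presheaf.stalk x) :=
    ((tfae_of_isNoetherianRing_of_isLocalRing_of_isDomain
      (X.presheaf.stalk x)).out 0 3).mpr h4
  infer_instance

end Groth.Agent.S9800
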