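import Groth.Statements.S9801
import Groth.Agent.Lib.Helper28Normal
import Groth.Agent.Lib.Helper5RLR3
import Groth.Agent.Lib.Helper10CurveFlat

set_option autoImplicit false
universe u
open CategoryTheory AlgebraicGeometry TopologicalSpace
open Props

namespace Groth.Agent.S9801

set_option linter.style.haveILetI false

/-- a normal Noetherian local domain of dimension at most two is Cohen–Macaulay. -/
theorem cm_of_normal_of_dim_le_two (A : Type u) [CommRing A] [IsLocalRing A] [IsNoetherianRing A]
    [IsDomain A] [IsIntegrallyClosed A] (hdim : ringKrullDim A ≤ 2) :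
    LocCoh.IsCohenMacaulayLocalRing A := by
  by_cases h1 : ringKrullDim A ≤ 1
  · haveI := Groth.Agent.Lib.Helper28.isRegularLocalRing_of_isIntegrallyClosed_of_dim_le_one h1
    exact Groth.Agent.Lib.Helper5.isCohenMacaulayLocalRing_of_isRegularLocalRing A
  · have h2 : (2 : WithBot ℕ∞) ≤ ringKrullDim A := by
      rw [not_le] at h1
      have : ringKrullDim A ≠ ⊥ := ne_bot_of_gt h1
      obtain ⟨d, hd⟩ := WithBot.ne_bot_iff_exists.1 this
      rw [← hd] at h1 ⊢
      have h1' : (1 : ℕ∞) < d := by exact_mod_cast h1
      have : (2 : ℕ∞) ≤ d := by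
        have := Order.add_one_le_of_lt h1'
        rwa [one_add_one_eq_two] at this
      exact WithBot.coe_le_coe.2 this
    have h3 := Groth.Agent.Lib.Helper28.two_le_depth_of_isIntegrallyClosed_of_two_le_dim h2
    refine ⟨le_antisymm ?_ Groth.Agent.Lib.Helper28.depth_le_supportDim⟩
    rw [Module.supportDim_self_eq_ringKrullDim]
    refine hdim.trans ?_
    exact WithBot.coe_le_coe.2 h3

/-- A locally Noetherian normal scheme of dimension at most two is Cohen-Macaulay, that is, all of its
local rings are Cohen-Macaulay local rings. -/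
theorem result (X : Scheme.{u})
    [IsLocallyNoetherian X] (hN : Pi1.IsNormalScheme X) (hd : topologicalKrullDim X ≤ 2) (x : X) :
    LocCoh.IsCohenMacaulayLocalRing (X.presheaf.stalk x) := by
  obtain ⟨hdom, hic⟩ := hN x
  haveI := hdom
  haveI := hic
  apply cm_of_normal_of_dim_le_two
  rw [ringKrullDim_stalk_eq_coheight]
  have := Groth.Agent.Lib.Helper10.CurveFlat.coheight_le_of_topologicalKrullDim_le X 2
    (by exact_mod_cast hd) x
  exact WithBot.coe_le_coe.2 this

end Groth.Agent.S9801
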