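import Groth.Statements.S9802
import Groth.Agent.Lib.Helper9NagJap

set_option autoImplicit false
universe u
open CategoryTheory AlgebraicGeometry TopologicalSpace
open Props

namespace Groth.Agent.S9802

/-- A locally Noetherian scheme is Nagata (every affine open has a Nagata coordinate ring) if and only
if every integral closed subscheme is Japanese (every nonempty affine open of it has an N-2
coordinate ring). -/
theorem result (X : Scheme.{u})
    [IsLocallyNoetherian X] :
    (∀ U : X.Opens, IsAffineOpen U → CAlg.IsNagata Γ(X, U)) ↔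
      ∀ (Z : Scheme.{u}) (i : Z ⟶ X) [IsClosedImmersion i] [IsIntegral Z]
        (V : Z.Opens) [Nonempty V], IsAffineOpen V → CAlg.IsN2 Γ(Z, V) := by
  constructor
  · intro h Z i _ _ V _ hV
    exact Groth.Agent.Lib.Helper9.NagJap.forward X h Z i V hV
  · intro h U hU
    haveI : IsNoetherianRing Γ(X, U) := IsLocallyNoetherian.component_noetherian ⟨U, hU⟩
    refine ⟨inferInstance, fun p hp => ?_⟩
    obtain ⟨Z, i, hi, hZ, V, hne, hV, ⟨e⟩⟩ :=
      Groth.Agent.Lib.Helper9.NagJap.exists_integral_closed X U hU p
    exact Groth.Agent.Lib.Helper14.isN2_of_ringEquiv e (h Z i V hV)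

end Groth.Agent.S9802
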