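import Groth.Statements.S9805
import Groth.Agent.Lib.Helper2LocFree

set_option autoImplicit false
universe u
open CategoryTheory AlgebraicGeometry TopologicalSpace
open Props

namespace Groth.Agent.S9805

open Groth.Agent.Lib.Helper2.LocFree in

/-- A quasi-coherent module on a scheme is flat and of finite presentation if and only if it is finite
locally free. -/
theorem result (X : Scheme.{u}) (M : X.Modules) (hM : Coh.IsQCoh M) :
    (FlatMod.IsFlat M ∧ CohB1.IsFP M) ↔ FlatMod.IsFinLocFree M := by
  haveI : M.IsQuasicoherent := hM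
  constructor
  · rintro ⟨hfl, hfp⟩ x
    haveI : SheafOfModules.IsFinitePresentation (R := X.ringCatSheaf) M := hfp
    obtain ⟨D, m, hxD, h⟩ := exists_restrict_iso_freeMod_of_isFlatAt M x (hfl x)
    exact ⟨D, m, hxD, h⟩
  · intro h
    exact ⟨isFlat_of_isFinLocFree M h, isFP_of_isFinLocFree M h⟩

end Groth.Agent.S9805
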