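import Groth.Statements.S9808
import Groth.Agent.Lib.Helper7ClosedPts
import Groth.Agent.Lib.Helper28CMFib1

set_option autoImplicit false
universe u
open CategoryTheory AlgebraicGeometry TopologicalSpace
open Props

namespace Groth.Agent.S9808

/-- A locally Noetherian scheme is Cohen-Macaulay (all local rings Cohen-Macaulay) as soon as its local
rings at closed points are Cohen-Macaulay, and conversely. -/
theorem result (X : Scheme.{u}) [IsLocallyNoetherian X] :
    (∀ x : X, LocCoh.IsCohenMacaulayLocalRing (X.presheaf.stalk x)) ↔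
      ∀ x : X, IsClosed ({x} : Set X) → LocCoh.IsCohenMacaulayLocalRing (X.presheaf.stalk x) := by
  refine ⟨fun h x _ => h x, fun h x => ?_⟩
  obtain ⟨x₀, hx₀, hsp⟩ := Groth.Agent.Lib.Helper7.ClosedPts.exists_isClosed_specializes X x
  obtain ⟨q, hq, ⟨e⟩⟩ := Groth.Agent.Lib.Helper7.ClosedPts.exists_atPrime_of_specializes X hsp
  haveI := h x₀ hx₀
  have hR := Groth.Agent.Lib.Helper28.CMFib.isCohenMacaulayRing_of_isCohenMacaulayLocalRing
    (X.presheaf.stalk x₀)
  haveI := hR.isCohenMacaulayLocalRing_localization q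
  exact Groth.Agent.Lib.Helper28.isCohenMacaulayLocalRing_of_ringEquiv e.symm


end Groth.Agent.S9808
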