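import Groth.Statements.S9809
import Groth.Agent.Lib.Helper3PuncConnB
import Groth.Agent.Lib.Helper3EtGUSch
import Groth.Agent.Lib.Helper14IrrComp
import Mathlib

set_option autoImplicit false
universe u
open CategoryTheory AlgebraicGeometry TopologicalSpace
open Props

namespace Groth.Agent.S9809

open IsLocalRing in
-- forward direction: punctured spectrum of a strict henselization of a geometrically unibranch
-- local ring with a non-maximal prime is connected
theorem connected_of_isGeomUnibranch (A : Type u) [CommRing A] [IsLocalRing A]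
    (hA : CAlg2.IsGeomUnibranch A) (p0 : Ideal A) [p0.IsPrime] (hp0 : p0 ≠ maximalIdeal A)
    (Ash : Type u) [CommRing Ash] [IsLocalRing Ash] [Algebra A Ash]
    [IsLocalHom (algebraMap A Ash)] [Hensel.IsStrictHenselization A Ash] :
    ConnectedSpace ↥({IsLocalRing.closedPoint Ash}ᶜ : Set (PrimeSpectrum Ash)) := by
  have hnil : (nilradical Ash).IsPrime :=
    Groth.Agent.Lib.Helper3.EtGU.nilradical_isPrime_of_isStrictHenselization A Ash hA
  haveI : Module.FaithfullyFlat A Ash := Groth.Agent.Lib.Helper3.HzP.sh_faithfullyFlat A Ash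
  obtain ⟨q', hq'⟩ := PrimeSpectrum.comap_surjective_of_faithfullyFlat (A := A) (B := Ash)
    ⟨p0, inferInstance⟩
  have hq'm : q'.asIdeal ≠ maximalIdeal Ash := by
    intro h
    apply hp0
    have h1 := congrArg PrimeSpectrum.asIdeal hq'
    rw [PrimeSpectrum.comap_asIdeal, h] at h1
    change _ = p0 at h1
    rw [← h1]
    exact ((local_hom_TFAE (algebraMap A Ash)).out 0 4 rfl rfl).mp inferInstance
  have hnm : nilradical Ash ≠ maximalIdeal Ash := by
    intro h
    apply hq'm
    exact le_antisymm (le_maximalIdeal q'.2.ne_top) (h ▸ nilradical_le_prime q'.asIdeal)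
  have hirr : IsIrreducible (Set.univ : Set (PrimeSpectrum Ash)) := by
    have := (PrimeSpectrum.isIrreducible_zeroLocus_iff (⊥ : Ideal Ash)).mpr hnil
    rwa [show ((⊥ : Ideal Ash) : Set Ash) = {0} from rfl, PrimeSpectrum.zeroLocus_singleton_zero]
      at this
  have hopen : IsOpen ({IsLocalRing.closedPoint Ash}ᶜ : Set (PrimeSpectrum Ash)) := by
    rw [isOpen_compl_iff]
    exact (PrimeSpectrum.isClosed_singleton_iff_isMaximal _).mpr
      (inferInstanceAs (maximalIdeal Ash).IsMaximal)
  have hpre : IsPreirreducible ({IsLocalRing.closedPoint Ash}ᶜ : Set (PrimeSpectrum Ash)) :=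
    hirr.2.open_subset hopen (Set.subset_univ _)
  have hne : ({IsLocalRing.closedPoint Ash}ᶜ : Set (PrimeSpectrum Ash)).Nonempty := by
    refine ⟨⟨nilradical Ash, hnil⟩, ?_⟩
    intro h
    rw [Set.mem_singleton_iff] at h
    exact hnm (congrArg PrimeSpectrum.asIdeal h)
  exact isConnected_iff_connectedSpace.mp ⟨hne, hpre.isPreconnected⟩

/-- A Noetherian scheme is geometrically unibranch (all local rings geometrically unibranch) if and only
if at every point which is not the generic point of an irreducible component, the punctured spectrum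
of a strict henselization of the local ring is connected. -/
theorem result
    (X : Scheme.{u}) [IsNoetherian X] :
    (∀ x : X, CAlg2.IsGeomUnibranch (X.presheaf.stalk x)) ↔
      ∀ (x : X), closure ({x} : Set X) ∉ irreducibleComponents X →
        ∀ (Ash : Type u) [CommRing Ash] [IsLocalRing Ash] [Algebra (X.presheaf.stalk x) Ash]
          [IsLocalHom (algebraMap (X.presheaf.stalk x) Ash)]
          [Hensel.IsStrictHenselization (X.presheaf.stalk x) Ash],
          ConnectedSpace ↥({IsLocalRing.closedPoint Ash}ᶜ : Set (PrimeSpectrum Ash)) := by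
  constructor
  · intro h x hx Ash _ _ _ _ _
    rw [Groth.Agent.Lib.Helper14.closure_mem_irreducibleComponents_iff] at hx
    push Not at hx
    obtain ⟨y, hyx, hne⟩ := hx
    obtain ⟨z, hz⟩ := Groth.Agent.Lib.Helper14.exists_fromSpecStalk_eq X x y hyx
    have hzm : z.asIdeal ≠ IsLocalRing.maximalIdeal (X.presheaf.stalk x) := by
      intro hzm
      apply hne
      have : z = IsLocalRing.closedPoint (X.presheaf.stalk x) := PrimeSpectrum.ext hzm
      rw [← hz, this, Scheme.fromSpecStalk_closedPoint]
    haveI : z.asIdeal.IsPrime := z.2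
    exact connected_of_isGeomUnibranch (X.presheaf.stalk x) (h x) z.asIdeal hzm Ash
  · intro H x
    obtain ⟨V, hV, hxV, -⟩ := TopologicalSpace.Opens.isBasis_iff_nbhd.mp X.isBasis_affineOpens
      (TopologicalSpace.Opens.mem_top x)
    have hV' : IsAffineOpen V := hV
    apply Groth.Agent.Lib.Helper3.EtGUSch.isGeomUnibranch_stalk_of_localization hV' x hxV
    haveI : IsNoetherianRing Γ(X, V) := IsLocallyNoetherian.component_noetherian ⟨V, hV'⟩
    apply Groth.Agent.Lib.Helper3.PuncConn.isGeomUnibranch_localization_of_connected Γ(X, V)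
    intro P _ hPmin S _ _ _ _ _
    let y : X := hV'.fromSpec ⟨P, inferInstance⟩
    have hy : y ∈ V := by
      have : y ∈ Set.range hV'.fromSpec := ⟨_, rfl⟩
      rwa [hV'.range_fromSpec] at this
    letI := TopCat.Presheaf.algebra_section_stalk X.presheaf ⟨y, hy⟩
    haveI hloc : IsLocalization.AtPrime (X.presheaf.stalk y) P :=
      hV'.isLocalization_stalk' ⟨P, inferInstance⟩ hy
    let e : Localization.AtPrime P ≃ₐ[Γ(X, V)] X.presheaf.stalk y :=
      IsLocalization.algEquiv P.primeCompl _ _
    letI : Algebra (X.presheaf.stalk y) S :=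
      ((algebraMap (Localization.AtPrime P) S).comp
        (e.symm : X.presheaf.stalk y →+* Localization.AtPrime P)).toAlgebra
    haveI : IsLocalHom (algebraMap (X.presheaf.stalk y) S) := by
      show IsLocalHom ((algebraMap (Localization.AtPrime P) S).comp
        (e.symm : X.presheaf.stalk y →+* Localization.AtPrime P))
      haveI : IsLocalHom (e.symm : X.presheaf.stalk y →+* Localization.AtPrime P) :=
        ⟨fun a ha => by
          have := ha.map (e : Localization.AtPrime P →+* X.presheaf.stalk y)
          simpa using this⟩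
      exact RingHom.isLocalHom_comp _ _
    haveI : Hensel.IsStrictHenselization (X.presheaf.stalk y) S :=
      Groth.Agent.Lib.Helper3.GeomUnibranch.isStrictHenselization_of_ringEquiv
        (R := Localization.AtPrime P) e.toRingEquiv (fun r => by
          show (algebraMap (Localization.AtPrime P) S) (e.symm (e r)) = _
          rw [e.symm_apply_apply])
    apply H y _ S
    rw [Groth.Agent.Lib.Helper14.closure_mem_irreducibleComponents_iff]
    intro hall
    apply hPmin
    obtain ⟨P'', hP'', hle⟩ :=
      Ideal.exists_minimalPrimes_le (I := (⊥ : Ideal Γ(X, V))) (J := P) bot_le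
    have hspec : (⟨P'', hP''.1.1⟩ : PrimeSpectrum Γ(X, V)) ⤳ ⟨P, inferInstance⟩ :=
      (PrimeSpectrum.le_iff_specializes _ _).mp hle
    have h1 := hall _ (hspec.map hV'.fromSpec.continuous)
    have h2 := hV'.fromSpec.isOpenEmbedding.injective h1
    have h3 : P'' = P := congrArg PrimeSpectrum.asIdeal h2
    rw [← h3]
    exact hP''

end Groth.Agent.S9809
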