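import Groth.Statements.S9814
import Mathlib
import Groth.Agent.Lib.Helper23SecTw6
import Groth.Agent.S2350
-- import your own Groth.Agent.* helpers here

set_option autoImplicit false
universe u
open CategoryTheory CategoryTheory.Limits AlgebraicGeometry TopologicalSpace
open Props

namespace Groth.Agent.S9814


open Opposite
open Groth.Agent.Lib.Helper23.SecTw Groth.Agent.Lib.Helper23.GenLocus Groth.Agent.Lib.Helper6

theorem isAffineOpen_inf_genLocus {X : Scheme.{u}} (L : X.Modules) (hL : PicF.IsInvertible L)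
    (s : Coh.structureModule X ⟶ L) (U : X.Opens) (hU : IsAffineOpen U) :
    IsAffineOpen (U ⊓ CohB1.genLocus L s) := by
  have h1 : IsAffineHom (CohB1.genLocus L s).ι := Groth.Agent.S2350.result X L hL s
  have h2 : IsAffineOpen ((CohB1.genLocus L s).ι ⁻¹ᵁ U) := hU.preimage (CohB1.genLocus L s).ι
  have h3 := h2.image_of_isOpenImmersion (CohB1.genLocus L s).ι
  rw [Scheme.Hom.image_preimage_eq_opensRange_inf, Scheme.Opens.opensRange_ι, inf_comm] at h3
  exact h3

/-- Let L be an invertible module on a scheme X. If the opens X_s (s a global section of a positive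
tensor power of L) form a basis for the topology, then so do the affine ones among them. -/
theorem result (X : Scheme.{u}) (L : X.Modules) (hL : PicF.IsInvertible L)
    (hB : Opens.IsBasis {U : X.Opens | ∃ (n : ℕ) (s : Coh.structureModule X ⟶ CohB1.tensorPow L (n + 1)),
      U = CohB1.genLocus _ s}) :
    Opens.IsBasis {U : X.Opens | IsAffineOpen U ∧ ∃ (n : ℕ) (s : Coh.structureModule X ⟶ CohB1.tensorPow L (n + 1)),
      U = CohB1.genLocus _ s} := by
  rw [Opens.isBasis_iff_nbhd] at hB ⊢
  intro U x hxU
  obtain ⟨V, hV, hxV, hVU⟩ := exists_isAffineOpen_mem_and_subset (x := x) (U := U) hxU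
  obtain ⟨U', ⟨n, s, rfl⟩, hxU', hU'V⟩ := hB (U := V) hxV
  refine ⟨_, ⟨?_, n, s, rfl⟩, hxU', hU'V.trans hVU⟩
  have := isAffineOpen_inf_genLocus _ (isInvertible_tensorPow hL (n + 1)) s V hV
  rwa [inf_eq_right.2 hU'V] at this

end Groth.Agent.S9814
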