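import Groth.Statements.S9816
import Mathlib
import Groth.Agent.Lib.Helper23ExtTensor
-- import your own Groth.Agent.* helpers here

set_option autoImplicit false
universe u
open CategoryTheory CategoryTheory.Limits AlgebraicGeometry TopologicalSpace
open Props

namespace Groth.Agent.S9816
open Groth.Agent.Lib.Helper23.AmpleIso Groth.Agent.Lib.Helper23.SecTw Groth.Agent.Lib.Helper23.PB Groth.Agent.Lib.Helper23.ExtTensor

open Groth.Agent.Lib.Helper23.AmpleIso Groth.Agent.Lib.Helper23.SecTw Groth.Agent.Lib.Helper23.PB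
open Groth.Agent.Lib.Helper23.ExtTensor

/-- local version of `isAmple_tensorMod_pullback_pullback` -/
theorem isAmple_tensorMod_pullback_pullback' {Z U₁ U₂ : Scheme.{u}} [CompactSpace Z] (π₁ : Z ⟶ U₁) (π₂ : Z ⟶ U₂)
    (N₁ : U₁.Modules) (N₂ : U₂.Modules) (h₁ : CohB1.IsAmple N₁) (h₂ : CohB1.IsAmple N₂)
    (haff : ∀ z : Z, ∃ (B₁ : U₁.Opens) (B₂ : U₂.Opens), π₁ z ∈ B₁ ∧ π₂ z ∈ B₂ ∧
      ∀ (A₁ : U₁.Opens) (A₂ : U₂.Opens), IsAffineOpen A₁ → IsAffineOpen A₂ → A₁ ≤ B₁ → A₂ ≤ B₂ →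
        IsAffineOpen (π₁ ⁻¹ᵁ A₁ ⊓ π₂ ⁻¹ᵁ A₂)) :
    CohB1.IsAmple (CohB1.tensorMod ((Scheme.Modules.pullback π₁).obj N₁) ((Scheme.Modules.pullback π₂).obj N₂)) := by
  have hP₁ := isInvertible_pullback π₁ N₁ h₁.1
  have hP₂ := isInvertible_pullback π₂ N₂ h₂.1
  haveI := h₁.2.1
  haveI := h₂.2.1
  refine ⟨isInvertible_tensorMod hP₁ hP₂, inferInstance, fun z => ?_⟩
  obtain ⟨B₁, B₂, hz₁, hz₂, hB⟩ := haff z
  obtain ⟨n₁, s₁, hx₁, hs₁B, ha₁⟩ := exists_affine_genLocus_of_finite N₁ h₁ {π₁ z} (Set.finite_singleton _) B₁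
    (Set.singleton_subset_iff.2 hz₁)
  obtain ⟨n₂, s₂, hx₂, hs₂B, ha₂⟩ := exists_affine_genLocus_of_finite N₂ h₂ {π₂ z} (Set.finite_singleton _) B₂
    (Set.singleton_subset_iff.2 hz₂)
  obtain ⟨s₁', hs₁'⟩ := exists_pullback_section π₁ N₁ h₁.1 (n₁ + 1) s₁
  obtain ⟨s₂', hs₂'⟩ := exists_pullback_section π₂ N₂ h₂.1 (n₂ + 1) s₂
  obtain ⟨k, hk⟩ : ∃ k, (n₁ + 1) * (n₂ + 1) = k + 1 := ⟨n₁ * n₂ + n₁ + n₂, by ring⟩
  have hk' : (n₂ + 1) * (n₁ + 1) = k + 1 := by rw [mul_comm]; exact hk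
  obtain ⟨Φ₁⟩ := nonempty_tensorPow_tensorPow_iso _ hP₁ (n₁ + 1) (n₂ + 1) (k + 1) hk
  obtain ⟨Φ₂⟩ := nonempty_tensorPow_tensorPow_iso _ hP₂ (n₂ + 1) (n₁ + 1) (k + 1) hk'
  obtain ⟨Ψ⟩ := nonempty_tensorPow_tensorMod_iso _ _ hP₁ hP₂ (k + 1)
  refine ⟨k, SecTwist.tmulHom (SecTwist.powHom s₁' (n₂ + 1) ≫ Φ₁.hom) (SecTwist.powHom s₂' (n₁ + 1) ≫ Φ₂.hom) ≫ Ψ.hom,
    ?_, ?_⟩
  all_goals
    rw [genLocus_comp_iso, genLocus_tmulHom (isInvertible_tensorPow hP₁ (k + 1)) (isInvertible_tensorPow hP₂ (k + 1)),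
      genLocus_comp_iso, genLocus_comp_iso,
      genLocus_powHom (isInvertible_tensorPow hP₁ (n₁ + 1)) s₁' (n₂ + 1) (Nat.succ_pos _),
      genLocus_powHom (isInvertible_tensorPow hP₂ (n₂ + 1)) s₂' (n₁ + 1) (Nat.succ_pos _), hs₁', hs₂']
  · exact ⟨hx₁ rfl, hx₂ rfl⟩
  · exact hB _ _ ha₁ ha₂ hs₁B hs₂B

/-- Over a quasi-separated base S, if X and Y carry ample invertible modules L and N, then the tensor
product of their pullbacks along the two projections is an ample invertible module on the fibre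
product of X and Y over S. -/
theorem result {X Y S : Scheme.{u}} [QuasiSeparatedSpace S]
    (f : X ⟶ S) (g : Y ⟶ S) (L : X.Modules) (N : Y.Modules) (hL : CohB1.IsAmple L) (hN : CohB1.IsAmple N) :
    CohB1.IsAmple (CohB1.tensorMod ((Scheme.Modules.pullback (pullback.fst f g)).obj L)
      ((Scheme.Modules.pullback (pullback.snd f g)).obj N)) := by
  haveI := hL.2.1
  haveI := hN.2.1
  haveI : QuasiCompact f := inferInstance
  haveI : CompactSpace ↑(pullback f g) := inferInstance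
  refine isAmple_tensorMod_pullback_pullback' _ _ L N hL hN (fun z => ?_)
  obtain ⟨V, hV, hzV, -⟩ := exists_isAffineOpen_mem_and_subset (X := S) (x := f (pullback.fst f g z)) (U := ⊤) trivial
  refine ⟨f ⁻¹ᵁ V, g ⁻¹ᵁ V, hzV, ?_, fun A₁ A₂ hA₁ hA₂ h1 h2 => isAffineOpen_pullback_inf hA₁ hA₂ hV h1 h2⟩
  change g (pullback.snd f g z) ∈ V
  have hc : f (pullback.fst f g z) = g (pullback.snd f g z) := by
    rw [← Scheme.Hom.comp_apply, ← Scheme.Hom.comp_apply, pullback.condition]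
  rw [← hc]
  exact hzV

end Groth.Agent.S9816
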