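import Groth.Statements.S9821
import Mathlib
import Groth.Agent.Lib.Helper4NormIso
-- import your own Groth.Agent.* helpers here

set_option autoImplicit false
universe u
open CategoryTheory CategoryTheory.Limits AlgebraicGeometry TopologicalSpace Opposite
open Props

namespace Groth.Agent.S9821

/-- An integral scheme is normal if and only if the coordinate ring of every nonempty affine open is an
integrally closed domain. -/
theorem result (X : Scheme.{u}) [IsIntegral X] :
    Pi1.IsNormalScheme X ↔ ∀ (U : X.Opens) [Nonempty U], IsAffineOpen U → IsIntegrallyClosed Γ(X, U) := by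
  constructor
  · intro hX U hne hU
    exact Groth.Agent.Lib.Helper4.NormIso.isIntegrallyClosed_sections hX U hU
  · intro h x
    refine ⟨inferInstance, ?_⟩
    obtain ⟨_, ⟨W, hW, rfl⟩, hxW, -⟩ := X.isBasis_affineOpens.exists_subset_of_mem_open
      (Set.mem_univ x) isOpen_univ
    haveI : Nonempty W := ⟨⟨x, hxW⟩⟩
    haveI : IsDomain Γ(X, W) := IsIntegral.component_integral W
    haveI := h W hW
    letI := TopCat.Presheaf.algebra_section_stalk X.presheaf ⟨x, hxW⟩
    haveI := hW.isLocalization_stalk ⟨x, hxW⟩
    exact isIntegrallyClosed_of_isLocalization (X.presheaf.stalk x)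
      (hW.primeIdealOf ⟨x, hxW⟩).asIdeal.primeCompl
      (Ideal.primeCompl_le_nonZeroDivisors _)

end Groth.Agent.S9821
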