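import Groth.Statements.S9822
import Mathlib
-- import your own Groth.Agent.* helpers here

set_option autoImplicit false
universe u
open CategoryTheory CategoryTheory.Limits AlgebraicGeometry TopologicalSpace Opposite
open Props

namespace Groth.Agent.S9822

/-- A scheme is irreducible if and only if it is nonempty and every nonempty affine open subset is
irreducible. -/
theorem result (X : Scheme.{u}) :
    IrreducibleSpace X ↔ Nonempty X ∧ ∀ U : X.Opens, IsAffineOpen U → (U : Set X).Nonempty → IsIrreducible (U : Set X) := by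
  constructor
  · intro h
    refine ⟨inferInstance, fun U _ hne => ⟨hne, ?_⟩⟩
    exact (IrreducibleSpace.isIrreducible_univ X).isPreirreducible.open_subset U.2 (Set.subset_univ _)
  · rintro ⟨hne, H⟩
    haveI : PreirreducibleSpace X := by
      refine PreirreducibleSpace.of_forall_nonempty_inter ?_
      intro U V hU hV hUne hVne
      by_contra hcon
      rw [Set.not_nonempty_iff_eq_empty] at hcon
      obtain ⟨x, hx⟩ := hUne
      obtain ⟨y, hy⟩ := hVne
      obtain ⟨_, ⟨U', hU'aff : IsAffineOpen U', rfl⟩, hxU', hU'U⟩ :=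
        X.isBasis_affineOpens.exists_subset_of_mem_open hx hU
      obtain ⟨_, ⟨V', hV'aff : IsAffineOpen V', rfl⟩, hyV', hV'V⟩ :=
        X.isBasis_affineOpens.exists_subset_of_mem_open hy hV
      have hdisj : Disjoint U' V' := by
        rw [← TopologicalSpace.Opens.coe_disjoint, Set.disjoint_iff_inter_eq_empty]
        exact Set.subset_eq_empty (Set.inter_subset_inter hU'U hV'V) hcon
      have haff : IsAffineOpen (U' ⊔ V') := hU'aff.sup_of_disjoint hV'aff hdisj
      have hirr := H (U' ⊔ V') haff ⟨x, Or.inl hxU'⟩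
      obtain ⟨z, -, hzU, hzV⟩ := hirr.2 U' V' U'.2 V'.2 ⟨x, Or.inl hxU', hxU'⟩ ⟨y, Or.inr hyV', hyV'⟩
      exact (Set.disjoint_iff.mp ((TopologicalSpace.Opens.coe_disjoint).mpr hdisj)) ⟨hzU, hzV⟩
    exact ⟨hne⟩

end Groth.Agent.S9822
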