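import Groth.Statements.S9823
import Groth.Agent.Lib.Helper2AdmSep

set_option autoImplicit false
universe u
open CategoryTheory CategoryTheory.Limits AlgebraicGeometry TopologicalSpace Opposite
open Props

namespace Groth.Agent.S9823

/-- In a quasi-compact quasi-separated scheme, an open subset is quasi-compact exactly when its
complement is the support of some quasi-coherent ideal sheaf of finite type. -/
theorem result (X : Scheme.{u}) [CompactSpace X] [QuasiSeparatedSpace X]
    (U : X.Opens) :
    IsCompact (U : Set X) ↔
      ∃ I : X.IdealSheafData, (∀ V : X.affineOpens, (I.ideal V).FG) ∧ (I.support : Set X) = (U : Set X)ᶜ := by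
  constructor
  · intro hU
    exact Groth.Agent.Lib.Helper2.AdmSep.exists_ft_support_eq_compl U hU
  · rintro ⟨I, hI, hsupp⟩
    classical
    have hU : (U : Set X) = (I.support : Set X)ᶜ := by rw [hsupp, compl_compl]
    rw [hU]
    obtain ⟨t, ht⟩ := isCompact_univ.elim_finite_subcover (fun V : X.affineOpens => (V.1 : Set X))
      (fun V => V.1.2) (by
        intro x _
        obtain ⟨V, hV, hxV, -⟩ := exists_isAffineOpen_mem_and_subset (x := x) (U := ⊤) trivial
        exact Set.mem_iUnion.mpr ⟨⟨V, hV⟩, hxV⟩)
    choose s hs using fun V : X.affineOpens => hI V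
    have heq : (I.support : Set X)ᶜ = ⋃ V ∈ t, ⋃ c ∈ s V, (X.basicOpen c : Set X) := by
      ext x
      simp only [Set.mem_compl_iff, Set.mem_iUnion, SetLike.mem_coe, exists_prop]
      constructor
      · intro hx
        obtain ⟨V, hVt, hxV⟩ : ∃ V ∈ t, x ∈ V.1 := by
          have := ht (Set.mem_univ x)
          simpa using this
        rw [Scheme.IdealSheafData.mem_support_iff_of_mem (U := V) hxV, ← hs V, X.zeroLocus_span,
          Scheme.mem_zeroLocus_iff] at hx
        push Not at hx
        obtain ⟨c, hc, hxc⟩ := hx
        exact ⟨V, hVt, c, Finset.mem_coe.mp hc, hxc⟩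
      · rintro ⟨V, -, c, hc, hxc⟩
        have hcI : c ∈ I.ideal V := by
          rw [← hs V]
          exact Ideal.subset_span (Finset.mem_coe.mpr hc)
        exact Groth.Agent.Lib.Helper2.AdmSep.not_mem_support_of_mem_basicOpen I V c hcI x hxc
    rw [heq]
    exact t.isCompact_biUnion fun V _ =>
      (s V).isCompact_biUnion fun c _ => (V.2.basicOpen c).isCompact

end Groth.Agent.S9823
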