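import Groth.Statements.S9831
import Mathlib
import Groth.Agent.Lib.Helper23Extend2
-- import your own Groth.Agent.* helpers here

set_option autoImplicit false
universe u
open CategoryTheory CategoryTheory.Limits AlgebraicGeometry TopologicalSpace Opposite
open Props

namespace Groth.Agent.S9831


open CategoryTheory Limits AlgebraicGeometry TopologicalSpace Opposite
open Groth.Agent.Lib.Helper23.QCohLocal Groth.Agent.Lib.Helper2.Push Groth.Agent.Lib.Helper2.QCoh
  Groth.Agent.Lib.Helper23.FinType Groth.Agent.Lib.Helper23.ModLocal Groth.Agent.Lib.Helper23.Extend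

/-- On a quasi-compact quasi-separated scheme, a quasi-coherent module of finite type on a quasi-compact
open U is the restriction of a quasi-coherent module of finite type on the whole scheme. -/
theorem result {X : Scheme.{u}} [CompactSpace X]
    [QuasiSeparatedSpace X] (U : X.Opens) (hU : IsCompact (U : Set X)) (G : (U : Scheme.{u}).Modules)
    [Coh.IsQCoh G] (hG : CohB1.IsFT G) :
    ∃ G' : X.Modules, Coh.IsQCoh G' ∧ CohB1.IsFT G' ∧ Nonempty (G'.restrict U.ι ≅ G) := by
  have : CompactSpace (U : Scheme.{u}) := isCompact_iff_compactSpace.1 hU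
  have : QuasiCompact U.ι := quasiCompact_of_compactSpace U.ι
  let H : X.Modules := (Scheme.Modules.pushforward U.ι).obj G
  have : H.IsQuasicoherent := isQuasicoherent_pushforward U.ι G
  let e₀ : H.restrict U.ι ≅ G := (Scheme.Modules.restrictFunctorAdjCounitIso U.ι).app G
  have : SheafOfModules.IsFiniteType (R := (U : Scheme.{u}).ringCatSheaf) G := hG
  have : SheafOfModules.IsFiniteType (R := (U : Scheme.{u}).ringCatSheaf) (H.restrict U.ι) :=
    isFiniteType_of_iso e₀.symm
  have hH : FTOn H U := by
    have := ftOn_of_isFiniteType_restrict U.ι H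
    rw [Scheme.Opens.opensRange_ι] at this
    exact this
  obtain ⟨F, ψ, hm, hq, hft, hiso⟩ := exists_sub_isFiniteType H U hU hH
  have : IsIso ((Scheme.Modules.restrictFunctor U.ι).map ψ) := by
    rw [isIso_restrict_iff, Scheme.Opens.opensRange_ι]; exact hiso
  exact ⟨F, hq, hft, ⟨asIso ((Scheme.Modules.restrictFunctor U.ι).map ψ) ≪≫ e₀⟩⟩

end Groth.Agent.S9831
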