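import Groth.Statements.S9835
import Groth.Agent.Lib.Helper14Japanese
import Mathlib.AlgebraicGeometry.Properties

set_option autoImplicit false
universe u
open CategoryTheory AlgebraicGeometry TopologicalSpace
open Props

namespace Groth.Agent.S9835

/-- If an integral scheme has an affine open covering by spectra of Japanese (N-2) domains, then the
coordinate ring of every nonempty affine open is a Japanese domain. -/
theorem result (X : Scheme.{u}) [IsIntegral X] {ι : Type u}
    (U : ι → X.Opens) [∀ i, Nonempty (U i)] (hU : iSup U = ⊤) (haff : ∀ i, IsAffineOpen (U i))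
    (hJ : ∀ i, CAlg.IsN2 Γ(X, U i)) (V : X.Opens) [Nonempty V] (hV : IsAffineOpen V) :
    CAlg.IsN2 Γ(X, V) := by
  have key : ∀ W : X.affineOpens, ∀ [Nonempty (W.1 : X.Opens)], CAlg.IsN2 Γ(X, W.1) := by
    intro W
    refine of_affine_open_cover
      (P := fun W : X.affineOpens => ∀ [Nonempty (W.1 : X.Opens)], CAlg.IsN2 Γ(X, W.1))
      (fun i => ⟨U i, haff i⟩) (by simpa using hU) W ?_ ?_ (fun i _ => hJ i)
    · intro W f hW hne
      haveI : Nonempty (W.1 : X.Opens) := by
        obtain ⟨x⟩ := hne
        exact ⟨⟨x.1, X.basicOpen_le f x.2⟩⟩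
      haveI := W.2.isLocalization_basicOpen f
      haveI : Nonempty (X.basicOpen f : X.Opens) := hne
      exact Groth.Agent.Lib.Helper14.isN2_of_isLocalization Γ(X, W.1) (Submonoid.powers f)
        Γ(X, X.basicOpen f) hW
    · intro W s hs h hne
      classical
      let J := {f : s // f.1 ≠ 0}
      haveI hneJ : ∀ f : J, Nonempty (X.basicOpen f.1.1 : X.Opens) := by
        intro f
        have h1 : X.basicOpen f.1.1 ≠ ⊥ := fun h0 => f.2 ((basicOpen_eq_bot_iff _).mp h0)
        obtain ⟨x, hx⟩ := (TopologicalSpace.Opens.ne_bot_iff_nonempty _).mp h1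
        exact ⟨⟨x, hx⟩⟩
      haveI : ∀ f : J, IsLocalization.Away f.1.1 Γ(X, X.basicOpen f.1.1) :=
        fun f => W.2.isLocalization_basicOpen f.1.1
      have hspan : Ideal.span (Set.range fun f : J => f.1.1) = ⊤ := by
        rw [_root_.eq_top_iff, ← hs, Ideal.span_le]
        intro g hg
        by_cases hg0 : g = 0
        · simp only [hg0, SetLike.mem_coe, zero_mem]
        · exact Ideal.subset_span ⟨⟨⟨g, hg⟩, hg0⟩, rfl⟩
      exact Groth.Agent.Lib.Helper14.isN2_of_away_cover Γ(X, W.1) (fun f : J => f.1.1) hspan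
        (fun f => Γ(X, X.basicOpen f.1.1)) (fun f => @h f.1 (hneJ f))
  exact @key ⟨V, hV⟩ ‹_›

end Groth.Agent.S9835
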