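import Groth.Statements.S9839
import Mathlib
import Groth.Agent.S6045

set_option autoImplicit false
open CategoryTheory CategoryTheory.Limits AlgebraicGeometry Opposite
universe u
open Desc

namespace Groth.Agent.S9839




/-- Let f i : T i ⟶ T be an fpqc covering family of a scheme T (a family in the fpqc precoverage) and W
i ⊆ T i open subsets such that for all i, j the inverse images of W i and W j under the two
projections of T i ×_T T j coincide. Then there is a unique open subset W ⊆ T with (f i)⁻¹(W) = W i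
for every i. -/
theorem result {ι : Type u} {T : Scheme.{u}} {Ti : ι → Scheme.{u}}
    (f : ∀ i, Ti i ⟶ T) (hf : Presieve.ofArrows Ti f ∈ Scheme.fpqcPrecoverage T)
    (W : ∀ i, (Ti i).Opens)
    (hW : ∀ i j, (pullback.fst (f i) (f j)) ⁻¹ᵁ (W i) = (pullback.snd (f i) (f j)) ⁻¹ᵁ (W j)) :
    ∃! V : T.Opens, ∀ i, (f i) ⁻¹ᵁ V = W i := by
  have hU : ∀ i j (z : ↥(pullback (f i) (f j))),
      (pullback.fst (f i) (f j)).base z ∈ W i ↔ (pullback.snd (f i) (f j)).base z ∈ W j := by
    intro i j z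
    have h1 : z ∈ (pullback.fst (f i) (f j)) ⁻¹ᵁ (W i) ↔ z ∈ (pullback.snd (f i) (f j)) ⁻¹ᵁ (W j) := by
      rw [hW i j]
    exact h1
  obtain ⟨V, hV⟩ := Groth.Agent.S6045.exists_open f hf W hU
  refine ⟨V, hV, fun V' hV' => ?_⟩
  have hs := (Scheme.ofArrows_mem_precoverage_iff (P := @Flat)).mp hf.2
  ext x
  obtain ⟨i, y, rfl⟩ := hs.1 x
  have h1 : y ∈ (f i) ⁻¹ᵁ V' ↔ y ∈ (f i) ⁻¹ᵁ V := by rw [hV i, hV' i]
  exact h1

end Groth.Agent.S9839
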