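import Groth.Statements.S9842
import Mathlib
-- import your own Groth.Agent.* helpers here

set_option autoImplicit false
open CategoryTheory CategoryTheory.Limits AlgebraicGeometry Opposite
universe u
open Desc

namespace Groth.Agent.S9842

/-- Let E/k be a field extension, Y a scheme over k and f : X ⟶ Y a morphism. Writing Y_E = Y ×_k Spec
E, the morphism f is dominant if and only if its base change X ×_Y Y_E ⟶ Y_E is dominant. -/
theorem result {k E : Type u} [Field k] [Field E] [Algebra k E]
    {X Y : Scheme.{u}} (f : X ⟶ Y) (q : Y ⟶ Spec (.of k)) :
    IsDominant f ↔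
      IsDominant (pullback.snd f (pullback.fst q (Spec.map (CommRingCat.ofHom (algebraMap k E))))) := by
  set φ : Spec (.of E) ⟶ Spec (.of k) := Spec.map (CommRingCat.ofHom (algebraMap k E)) with hφ
  haveI : Surjective φ := by
    refine ⟨fun x => ?_⟩
    have hx : x = (default : Spec (.of k)) := Subsingleton.elim _ _
    exact ⟨(default : Spec (.of E)), Subsingleton.elim _ _⟩
  haveI : UniversallyOpen φ := inferInstance
  set g := pullback.fst q φ with hg
  haveI : Surjective g := inferInstance
  haveI : UniversallyOpen g := inferInstance
  constructor
  · intro hf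
    refine ⟨?_⟩
    rw [DenseRange, Scheme.Pullback.range_snd]
    exact hf.denseRange.preimage g.isOpenMap
  · intro hfE
    have h1 : IsDominant (pullback.snd f g ≫ g) := inferInstance
    rw [← pullback.condition] at h1
    exact IsDominant.of_comp (pullback.fst f g) f

end Groth.Agent.S9842
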