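import Groth.Statements.S9843
import Mathlib
-- import your own Groth.Agent.* helpers here

set_option autoImplicit false
open CategoryTheory CategoryTheory.Limits AlgebraicGeometry Opposite
universe u
open Desc

namespace Groth.Agent.S9843

/-- Being dominant is fppf local on the base: for every fppf covering family Y i ⟶ Y (flat, locally of
finite presentation, jointly surjective), a morphism X ⟶ Y is dominant if and only if all its base
changes X ×_Y Y i ⟶ Y i are. -/
theorem result :
    MorphismProperty.IsLocalAtTarget (@IsDominant : MorphismProperty Scheme.{u}) Scheme.fppfPrecoverage := by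
  haveI : (Scheme.fppfPrecoverage.{u}).HasPullbacks := by
    unfold Scheme.fppfPrecoverage; infer_instance
  refine MorphismProperty.IsLocalAtTarget.mk_of_iff_of_zeroHypercover ?_
  intro X Y f 𝒰
  have hmem := 𝒰.mem₀
  have h2 : (∀ x, ∃ i, x ∈ Set.range (𝒰.f i)) ∧
      ∀ i, (@Flat ⊓ @LocallyOfFinitePresentation : MorphismProperty Scheme.{u}) (𝒰.f i) :=
    (Scheme.ofArrows_mem_precoverage_iff _).1 hmem
  constructor
  · intro hf i
    haveI : Flat (𝒰.f i) := (h2.2 i).1
    haveI : LocallyOfFinitePresentation (𝒰.f i) := (h2.2 i).2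
    refine ⟨?_⟩
    rw [DenseRange, Scheme.Pullback.range_snd]
    exact hf.denseRange.preimage (𝒰.f i).isOpenMap
  · intro h
    refine ⟨?_⟩
    intro y
    obtain ⟨i, y', rfl⟩ := h2.1 y
    rw [mem_closure_iff]
    intro V hV hyV
    have hd := (h i).denseRange
    rw [DenseRange, Scheme.Pullback.range_snd] at hd
    have hopen : IsOpen (⇑(𝒰.f i) ⁻¹' V) := hV.preimage (𝒰.f i).continuous
    obtain ⟨z, hzV, hz⟩ := hd.inter_open_nonempty _ hopen ⟨y', hyV⟩
    exact ⟨_, hzV, hz⟩

end Groth.Agent.S9843
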