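import Groth.Statements.S9845
import Mathlib
-- import your own Groth.Agent.* helpers here

set_option autoImplicit false
open CategoryTheory CategoryTheory.Limits AlgebraicGeometry Opposite
universe u
open Desc

namespace Groth.Agent.S9845

open AlgebraicGeometry CategoryTheory Limits in
theorem aux : MorphismProperty.IsLocalAtSource (topologically @IsOpenMap : MorphismProperty Scheme.{u})
      Scheme.fppfPrecoverage := by
  refine MorphismProperty.IsLocalAtSource.mk_of_iff_of_zeroHypercover ?_
  intro X Y f 𝒰
  have hmem := 𝒰.mem₀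
  have h2 : (∀ x, ∃ i, x ∈ Set.range (𝒰.f i)) ∧
      ∀ i, (@Flat ⊓ @LocallyOfFinitePresentation : MorphismProperty Scheme.{u}) (𝒰.f i) :=
    (Scheme.ofArrows_mem_precoverage_iff _).1 hmem
  constructor
  · intro hf i
    haveI : Flat (𝒰.f i) := (h2.2 i).1
    haveI : LocallyOfFinitePresentation (𝒰.f i) := (h2.2 i).2
    have hg : IsOpenMap (𝒰.f i) := (𝒰.f i).isOpenMap
    change IsOpenMap (𝒰.f i ≫ f)
    have : ⇑(𝒰.f i ≫ f) = ⇑f ∘ ⇑(𝒰.f i) := by
      ext x; simp
    rw [this]
    exact IsOpenMap.comp hf hg
  · intro h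
    change IsOpenMap f
    intro U hU
    have : ⇑f '' U = ⋃ i, ⇑(𝒰.f i ≫ f) '' (⇑(𝒰.f i) ⁻¹' U) := by
      ext y
      simp only [Set.mem_image, Set.mem_iUnion, Set.mem_preimage]
      constructor
      · rintro ⟨x, hx, rfl⟩
        obtain ⟨i, z, rfl⟩ := h2.1 x
        exact ⟨i, z, hx, by simp⟩
      · rintro ⟨i, z, hz, rfl⟩
        exact ⟨_, hz, by simp⟩
    rw [this]
    exact isOpen_iUnion fun i => h i _ (hU.preimage (𝒰.f i).continuous)

/-- Being an open morphism (open underlying map) is fppf local on the source: for every fppf covering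
family g i : X i ⟶ X, a morphism f : X ⟶ Y has open underlying map if and only if every composite g
i ≫ f does. -/
theorem result :
    MorphismProperty.IsLocalAtSource (topologically (fun f => IsOpenMap f) : MorphismProperty Scheme.{u})
      Scheme.fppfPrecoverage := by
  exact aux

end Groth.Agent.S9845
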