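import Groth.Statements.S9846
import Mathlib
import Groth.Agent.S9845
-- import your own Groth.Agent.* helpers here

set_option autoImplicit false
open CategoryTheory CategoryTheory.Limits AlgebraicGeometry Opposite
universe u
open Desc

namespace Groth.Agent.S9846

set_option backward.isDefEq.respectTransparency.types false in
set_option backward.defeqAttrib.useBackward true in
open AlgebraicGeometry CategoryTheory Limits in
/-- `universally` preserves locality at the source for a precoverage stable under base change. -/
theorem universally_isLocalAtSource (K : Precoverage Scheme.{u}) [K.IsStableUnderBaseChange]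
    (P : MorphismProperty Scheme.{u})
    [P.IsLocalAtSource K] : P.universally.IsLocalAtSource K := by
  refine .mk_of_iff_of_zeroHypercover ?_
  intro X Y f 𝒰
  refine ⟨fun hf i ↦ ?_, fun hf ↦ ?_⟩
  · apply MorphismProperty.universally_mk'
    intro T g _
    rw [← P.cancel_left_of_respectsIso (pullbackLeftPullbackSndIso g f _).hom,
      pullbackLeftPullbackSndIso_hom_fst]
    have h1 : P (pullback.fst g f) := hf _ _ _ (IsPullback.of_hasPullback ..)
    exact (MorphismProperty.IsLocalAtSource.iff_of_zeroHypercover (P := P)
      (𝒰.pullback₁ <| pullback.snd g f)).1 h1 i
  · apply MorphismProperty.universally_mk'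
    intro T g _
    rw [MorphismProperty.IsLocalAtSource.iff_of_zeroHypercover (P := P)
      (𝒰.pullback₁ <| pullback.snd g f)]
    intro i
    dsimp only [Precoverage.ZeroHypercover.pullback₁_toPreZeroHypercover,
      PreZeroHypercover.pullback₁_X, PreZeroHypercover.pullback₁_f]
    rw [← pullbackLeftPullbackSndIso_hom_fst, P.cancel_left_of_respectsIso]
    exact hf i _ _ _ (IsPullback.of_hasPullback ..)

/-- Being universally open is fppf local on the source: for every fppf covering family g i : X i ⟶ X, a
morphism f : X ⟶ Y is universally open if and only if every composite g i ≫ f is. -/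
theorem result :
    MorphismProperty.IsLocalAtSource (@UniversallyOpen : MorphismProperty Scheme.{u}) Scheme.fppfPrecoverage := by
  rw [UniversallyOpen.eq]
  haveI := Groth.Agent.S9845.aux.{u}
  exact universally_isLocalAtSource Scheme.fppfPrecoverage (topologically @IsOpenMap)

end Groth.Agent.S9846
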