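import Groth.Statements.S9847
import Mathlib
import Groth.Agent.Lib.Helper12EtSrc

set_option autoImplicit false
open CategoryTheory CategoryTheory.Limits AlgebraicGeometry Opposite
universe u
open Desc

namespace Groth.Agent.S9847





/-- Being etale is etale local on the source: for every etale covering family g i : X i ⟶ X (etale,
jointly surjective), a morphism f : X ⟶ Y is etale if and only if every composite g i ≫ f is. -/
theorem result :
    MorphismProperty.IsLocalAtSource (@Etale : MorphismProperty Scheme.{u}) Scheme.etalePrecoverage := by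
  refine MorphismProperty.IsLocalAtSource.mk_of_iff_of_zeroHypercover ?_
  intro X Y f 𝒰
  have h2 : (∀ x, ∃ i, x ∈ Set.range (𝒰.f i)) ∧
      ∀ i, (@Etale : MorphismProperty Scheme.{u}) (𝒰.f i) :=
    (Scheme.ofArrows_mem_precoverage_iff _).1 𝒰.mem₀
  constructor
  · intro hf i
    haveI : Etale (𝒰.f i) := h2.2 i
    haveI : Etale f := hf
    exact (inferInstance : Etale (𝒰.f i ≫ f))
  · intro h
    let V : 𝒰.I₀ → X.Opens := fun i =>
      haveI : Etale (𝒰.f i) := h2.2 i
      ⟨Set.range (𝒰.f i), (𝒰.f i).isOpenMap.isOpen_range⟩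
    have hV : iSup V = ⊤ := by
      rw [eq_top_iff]
      intro x _
      obtain ⟨i, hi⟩ := h2.1 x
      exact TopologicalSpace.Opens.mem_iSup.2 ⟨i, hi⟩
    refine IsZariskiLocalAtSource.of_iSup_eq_top (P := @Etale) V hV (fun i => ?_)
    haveI : Etale (𝒰.f i) := h2.2 i
    have hr : Set.range (𝒰.f i) ⊆ Set.range (V i).ι := by
      rw [Scheme.Opens.range_ι]
      exact subset_rfl
    let ψ : 𝒰.X i ⟶ (V i).toScheme := IsOpenImmersion.lift (V i).ι (𝒰.f i) hr
    have hψ : ψ ≫ (V i).ι = 𝒰.f i := IsOpenImmersion.lift_fac _ _ _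
    haveI : Etale (ψ ≫ (V i).ι) := by rw [hψ]; infer_instance
    haveI : Etale ψ := Etale.of_comp ψ (V i).ι
    haveI : Surjective ψ := by
      constructor
      intro x
      obtain ⟨y, hy⟩ : ((V i).ι x) ∈ Set.range (𝒰.f i) := x.2
      refine ⟨y, ?_⟩
      apply (V i).ι.injective
      rw [← hy, ← hψ]
      rfl
    haveI : Etale (ψ ≫ (V i).ι ≫ f) := by
      rw [← Category.assoc, hψ]
      exact h i
    exact Groth.Agent.Lib.Helper12.EtSrc.etale_of_etale_cover_source ψ ((V i).ι ≫ f)

end Groth.Agent.S9847
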