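import Groth.Statements.S9848
import Groth.Agent.S9758
import Groth.Agent.S8662
-- import your own Groth.Agent.* helpers here

set_option autoImplicit false
open CategoryTheory CategoryTheory.Limits AlgebraicGeometry Opposite
universe u
open Desc

namespace Groth.Agent.S9848

open AlgebraicGeometry CategoryTheory Limits

theorem flat_codescendsAlong :
    RingHom.CodescendsAlong (fun {R S : Type u} [CommRing R] [CommRing S] (f : R →+* S) => f.Flat)
      RingHom.FaithfullyFlat := by
  apply RingHom.CodescendsAlong.mk _ RingHom.Flat.respectsIso
  introv h H
  rw [RingHom.faithfullyFlat_algebraMap_iff] at h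
  rw [RingHom.flat_algebraMap_iff] at H ⊢
  exact Module.Flat.of_flat_tensorProduct R T S


/-- Being syntomic is fpqc local on the base; the descent direction, stated for a single flat surjective
quasi-compact base change g : Y' ⟶ Y: if the base change X ×_Y Y' ⟶ Y' of f : X ⟶ Y is syntomic,
then f is syntomic. (With Zariski-locality on the target this gives the statement for arbitrary fpqc
coverings; stability of syntomic morphisms under base change is the other direction.) -/
theorem result {X Y Y' : Scheme.{u}} (f : X ⟶ Y) (g : Y' ⟶ Y)
    [Flat g] [Surjective g] [QuasiCompact g] (h : Synt.IsSyntomicMor (pullback.snd f g)) :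
    Synt.IsSyntomicMor f := by
  obtain ⟨hflat', hK'⟩ := (Groth.Agent.S9758.result (pullback.snd f g)).mpr h
  have hK : ∀ x : X, Synt.IsKoszulAt f x :=
    Groth.Agent.S8662.result f g (pullback.snd f g) (pullback.fst f g)
      (IsPullback.of_hasPullback f g) hK'
  have hdesc : MorphismProperty.DescendsAlong (@Flat)
      (@Surjective ⊓ @Flat ⊓ @QuasiCompact : MorphismProperty Scheme.{u}) :=
    HasRingHomProperty.descendsAlong_flat (P := @Flat) flat_codescendsAlong
  have hflat : Flat f := hdesc.of_isPullback (IsPullback.of_hasPullback f g).flip
    ⟨⟨inferInstance, inferInstance⟩, inferInstance⟩ hflat'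
  exact (Groth.Agent.S9758.result f).mp ⟨hflat, hK⟩

end Groth.Agent.S9848
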