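import Groth.Statements.S9860
import Mathlib
-- import your own Groth.Agent.* helpers here

set_option autoImplicit false
open CategoryTheory CategoryTheory.Limits AlgebraicGeometry Opposite
universe u
open Desc

namespace Groth.Agent.S9860

/-- Consider morphisms of schemes f i : X i ⟶ X indexed by i. Suppose that, whenever Y is an affine
scheme and g : Y ⟶ X is a morphism, the sieve on Y obtained by pulling back along g (generated by
the base changes X i ×_X Y ⟶ Y) is effective epimorphic. Then the pulled-back sieve along every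
morphism Y ⟶ X of schemes is effective epimorphic; in other words, within schemes the family forms a
universal effective epimorphism. -/
theorem result {ι : Type u} {X : Scheme.{u}} {Xi : ι → Scheme.{u}} (f : ∀ i, Xi i ⟶ X)
    (h : ∀ (Y : Scheme.{u}) (g : Y ⟶ X), IsAffine Y → ((Sieve.ofArrows Xi f).pullback g).EffectiveEpimorphic)
    {Y : Scheme.{u}} (g : Y ⟶ X) : ((Sieve.ofArrows Xi f).pullback g).EffectiveEpimorphic := by
  rw [Sieve.EffectiveEpimorphic.iff_forall_isSheafFor_yoneda]
  intro T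
  have haff : ∀ (V : Scheme.{u}) (k : V ⟶ Y), IsAffine V →
      ((((Sieve.ofArrows Xi f).pullback g).pullback k).arrows).IsSheafFor (yoneda.obj T) := by
    intro V k hV
    have := h V (k ≫ g) hV
    rw [Sieve.EffectiveEpimorphic.iff_forall_isSheafFor_yoneda] at this
    rw [← Sieve.pullback_comp]
    exact this T
  generalize (Sieve.ofArrows Xi f).pullback g = S at haff ⊢
  intro x hx
  have hxs := (Presieve.compatible_iff_sieveCompatible x).mp hx
  have hxc : ∀ {Z : Scheme.{u}} (a b : Z ⟶ Y) (e : a = b) (ha : S a) (hb : S b),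
      x a ha = x b hb := by
    intro Z a b e ha hb
    subst e
    rfl
  let 𝒰 := Y.affineCover
  have hloc : ∀ i, ∃! t : 𝒰.X i ⟶ T, (x.pullback (𝒰.f i)).IsAmalgamation t :=
    fun i => haff _ (𝒰.f i) inferInstance _ (hx.pullback _)
  choose t ht htu using hloc
  have hT : ∀ i {Z : Scheme.{u}} (k : Z ⟶ 𝒰.X i) (hk : S (k ≫ 𝒰.f i)),
      k ≫ t i = x (k ≫ 𝒰.f i) hk := fun i Z k hk => ht i k hk
  have hcompat : ∀ i j, pullback.fst (𝒰.f i) (𝒰.f j) ≫ t i =
      pullback.snd (𝒰.f i) (𝒰.f j) ≫ t j := by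
    intro i j
    refine Scheme.Cover.hom_ext (pullback (𝒰.f i) (𝒰.f j)).affineCover _ _ (fun l => ?_)
    have hsep := (haff _ ((pullback (𝒰.f i) (𝒰.f j)).affineCover.f l ≫
      pullback.fst _ _ ≫ 𝒰.f i) inferInstance).isSeparatedFor
    refine hsep.ext ?_
    intro Z m hm
    have hk1 : S ((m ≫ (pullback (𝒰.f i) (𝒰.f j)).affineCover.f l ≫ pullback.fst _ _) ≫
        𝒰.f i) := by simpa using hm
    have e : (m ≫ (pullback (𝒰.f i) (𝒰.f j)).affineCover.f l ≫ pullback.fst _ _) ≫ 𝒰.f i =
        (m ≫ (pullback (𝒰.f i) (𝒰.f j)).affineCover.f l ≫ pullback.snd _ _) ≫ 𝒰.f j := by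
      simp [pullback.condition]
    have hk2 : S ((m ≫ (pullback (𝒰.f i) (𝒰.f j)).affineCover.f l ≫ pullback.snd _ _) ≫
        𝒰.f j) := e ▸ hk1
    change m ≫ (pullback (𝒰.f i) (𝒰.f j)).affineCover.f l ≫ pullback.fst _ _ ≫ t i =
      m ≫ (pullback (𝒰.f i) (𝒰.f j)).affineCover.f l ≫ pullback.snd _ _ ≫ t j
    have h1 := hT i _ hk1
    have h2 := hT j _ hk2
    simp only [Category.assoc] at h1 h2
    rw [h1, h2]
    exact hxc _ _ (by simpa using e) _ _
  refine ⟨𝒰.glueMorphisms t hcompat, ?_, ?_⟩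
  · intro Z k hk
    change k ≫ 𝒰.glueMorphisms t hcompat = x k hk
    refine Scheme.Cover.hom_ext (𝒰.pullback₁ k) _ _ (fun i => ?_)
    change pullback.fst k (𝒰.f i) ≫ k ≫ 𝒰.glueMorphisms t hcompat =
      pullback.fst k (𝒰.f i) ≫ x k hk
    have hk' : S (pullback.snd k (𝒰.f i) ≫ 𝒰.f i) := by
      rw [← pullback.condition]
      exact S.downward_closed hk _
    rw [pullback.condition_assoc, Scheme.Cover.ι_glueMorphisms, hT i _ hk']
    have := hxs k (pullback.fst k (𝒰.f i)) hk
    rw [hxc _ _ pullback.condition.symm hk' (S.downward_closed hk _), this]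
    rfl
  · intro t' ht'
    refine Scheme.Cover.hom_ext 𝒰 _ _ (fun i => ?_)
    rw [Scheme.Cover.ι_glueMorphisms]
    refine htu i _ ?_
    intro Z k hk
    change k ≫ 𝒰.f i ≫ t' = x (k ≫ 𝒰.f i) hk
    have := ht' (k ≫ 𝒰.f i) hk
    simpa using this

end Groth.Agent.S9860
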