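import Groth.Statements.S9866
import Mathlib
import Groth.Agent.Lib.Helper15DescGlueC

set_option autoImplicit false
open CategoryTheory CategoryTheory.Limits AlgebraicGeometry Opposite
universe u
open Desc

namespace Groth.Agent.S9866

/-- Let p : X ⟶ S be a surjective, flat, quasi-compact morphism of schemes and D = (V, φ) a descent
datum for schemes relative to p. Suppose every point v of V lies in the image of some morphism of
descent data D' ⟶ D whose underlying morphism of schemes over X is an open immersion and whose
source D' is effective (isomorphic to the canonical descent datum of a scheme over S). Then D is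
effective. (A φ-stable open W ⊆ V with its restricted descent datum, as in the published statement,
is the same thing as such a morphism D' ⟶ D up to isomorphism.) -/
theorem result {X S : Scheme.{u}} (p : X ⟶ S) [Surjective p] [Flat p] [QuasiCompact p]
    (D : Desc.SchDD p)
    (h : ∀ v : D.obj.left, ∃ (D' : Desc.SchDD p) (j : D' ⟶ D), IsOpenImmersion j.hom.left ∧
      v ∈ Set.range j.hom.left.base ∧ ∃ U' : Over S, Nonempty ((Desc.toDD p).obj U' ≅ D')) :
    ∃ U : Over S, Nonempty ((Desc.toDD p).obj U ≅ D) := by
  classical
  choose D' j hj hv U' e using h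
  have hiso : ∀ v, IsIso ((e v).some.hom).hom.left := fun v =>
    ⟨((e v).some.inv).hom.left,
      congrArg (fun Φ : (Desc.toDD p).obj (U' v) ⟶ (Desc.toDD p).obj (U' v) => Φ.hom.left)
        (e v).some.hom_inv_id,
      congrArg (fun Φ : D' v ⟶ D' v => Φ.hom.left) (e v).some.inv_hom_id⟩
  have hc : ∀ v, IsOpenImmersion ((e v).some.hom ≫ j v).hom.left := by
    intro v
    have := hj v
    have := hiso v
    change IsOpenImmersion (((e v).some.hom).hom.left ≫ (j v).hom.left)
    infer_instance
  refine Groth.Agent.Lib.Helper15DescGlueC.exists_effective
    (fun v => (e v).some.hom ≫ j v) (fun v => ?_)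
  obtain ⟨y, hy⟩ := hv v
  have := hiso v
  refine ⟨v, (inv ((e v).some.hom).hom.left).base y, ?_⟩
  change (((e v).some.hom).hom.left ≫ (j v).hom.left).base _ = v
  rw [← Scheme.Hom.comp_apply, IsIso.inv_hom_id_assoc]
  exact hy

end Groth.Agent.S9866
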