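import Groth.Statements.S9869
import Mathlib
import Groth.Agent.Lib.Helper12EpiDescent
import Groth.Agent.Lib.Helper12EqvRelSp

set_option autoImplicit false
universe u
open CategoryTheory CategoryTheory.Limits AlgebraicGeometry
open AlgSp

namespace Groth.Agent.S9869


open Groth.Agent.Lib.Helper12 in
/-- naturality of `QuotSh.repIsoUliftYoneda`. -/
lemma repIso_inv_naturality {S : Scheme.{u}} {V W : Over S} (g : V ⟶ W) :
    (QuotSh.repIsoUliftYoneda Scheme.fppfPrecoverage V).inv ≫
        QuotSh.repMap Scheme.fppfPrecoverage g =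
      (AlgSp.yon S).map g ≫ (QuotSh.repIsoUliftYoneda Scheme.fppfPrecoverage W).inv :=
  ((sheafificationNatIso (AlgSp.J S) (Type (u + 1))).hom.naturality ((AlgSp.yon S).map g)).symm




/-- Let `s, t : R ⟶ U` be an etale equivalence relation on a scheme `U` over `S` and suppose that the
fppf quotient sheaf `U/R` is an algebraic space over `S`. Then the quotient map `h_U ⟶ U/R` is
representable etale and representable surjective, and `(U, R, h_U ⟶ U/R)` is a presentation of `U/R`
(in particular `h_R`, with `h_t` and `h_s`, is the fibre product `h_U ×_{U/R} h_U`). The quotient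
map is written on `h_U` through the canonical identification of `h_U` with the sheafified
representable presheaf. -/
theorem result (S : Scheme.{u}) {R U : Over S} (s t : R ⟶ U)
    (h : AlgSp.IsEtaleEqvRel s t) (hq : AlgSp.IsAlgSpace (QuotSh.quot Scheme.fppfPrecoverage s t)) :
    AlgSp.IsPresentation s t
      ((QuotSh.repIsoUliftYoneda Scheme.fppfPrecoverage U).inv ≫ QuotSh.quotπ Scheme.fppfPrecoverage s t) := by
  set K := Scheme.fppfPrecoverage.{u} with hK
  set eU := QuotSh.repIsoUliftYoneda K U with heU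
  set eR := QuotSh.repIsoUliftYoneda K R with heR
  set π := QuotSh.quotπ K s t with hπ
  set p := eU.inv ≫ π with hp
  have hns : eR.inv ≫ QuotSh.repMap K s = (AlgSp.yon S).map s ≫ eU.inv := repIso_inv_naturality s
  have hnt : eR.inv ≫ QuotSh.repMap K t = (AlgSp.yon S).map t ≫ eU.inv := repIso_inv_naturality t
  have w : (AlgSp.yon S).map s ≫ p = (AlgSp.yon S).map t ≫ p := by
    rw [hp, ← Category.assoc, ← hns, ← Category.assoc, ← hnt, Category.assoc, Category.assoc,
      QuotSh.quot_condition]
  haveI hπe : Epi π := coequalizer.π_epi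
  haveI hpe : Epi p := by rw [hp]; infer_instance
  -- p is a coequalizer
  have hcolim : IsColimit (Cofork.ofπ p w) := by
    refine Cofork.IsColimit.mk' _ (fun c => ?_)
    have hc : QuotSh.repMap K s ≫ (eU.hom ≫ c.π) = QuotSh.repMap K t ≫ (eU.hom ≫ c.π) := by
      have h1 : QuotSh.repMap K s ≫ eU.hom = eR.hom ≫ (AlgSp.yon S).map s := by
        rw [← cancel_epi eR.inv, ← Category.assoc, hns, Category.assoc, Iso.inv_hom_id,
          Category.comp_id, Iso.inv_hom_id_assoc]
      have h2 : QuotSh.repMap K t ≫ eU.hom = eR.hom ≫ (AlgSp.yon S).map t := by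
        rw [← cancel_epi eR.inv, ← Category.assoc, hnt, Category.assoc, Iso.inv_hom_id,
          Category.comp_id, Iso.inv_hom_id_assoc]
      rw [← Category.assoc, h1, ← Category.assoc, h2, Category.assoc, Category.assoc, c.condition]
    refine ⟨coequalizer.desc (eU.hom ≫ c.π) hc, ?_, ?_⟩
    · show (eU.inv ≫ π) ≫ _ = _
      rw [Category.assoc]
      erw [coequalizer.π_desc]
      rw [Iso.inv_hom_id_assoc]
    · intro m hm
      have hm' : (eU.inv ≫ π) ≫ m = c.π := hm
      have : π ≫ m = π ≫ coequalizer.desc (eU.hom ≫ c.π) hc := by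
        erw [coequalizer.π_desc]
        rw [← hm', Category.assoc, Iso.hom_inv_id_assoc]
      exact (cancel_epi π).1 this
  -- the relation on sheaves
  have hrel : AlgSp.IsEqvRelSp ((AlgSp.yon S).map s) ((AlgSp.yon S).map t) := by
    refine ⟨fun T r r' h1 h2 => ?_, fun T => ?_⟩
    · obtain ⟨r, rfl⟩ := (AlgSp.yon S).map_surjective r
      obtain ⟨r', rfl⟩ := (AlgSp.yon S).map_surjective r'
      rw [← Functor.map_comp, ← Functor.map_comp] at h1 h2
      rw [h.injective T r r' ((AlgSp.yon S).map_injective h1) ((AlgSp.yon S).map_injective h2)]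
    · have hiff : ∀ a b : T ⟶ U,
          (∃ r : (AlgSp.yon S).obj T ⟶ (AlgSp.yon S).obj R,
            r ≫ (AlgSp.yon S).map t = (AlgSp.yon S).map a ∧
              r ≫ (AlgSp.yon S).map s = (AlgSp.yon S).map b) ↔
          ∃ r : T ⟶ R, r ≫ t = a ∧ r ≫ s = b := by
        intro a b
        constructor
        · rintro ⟨r, h1, h2⟩
          obtain ⟨r, rfl⟩ := (AlgSp.yon S).map_surjective r
          rw [← Functor.map_comp] at h1 h2
          exact ⟨r, (AlgSp.yon S).map_injective h1, (AlgSp.yon S).map_injective h2⟩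
        · rintro ⟨r, rfl, rfl⟩
          exact ⟨(AlgSp.yon S).map r, by rw [Functor.map_comp], by rw [Functor.map_comp]⟩
      have he := h.equivalence T
      refine ⟨fun a => ?_, fun {a b} hab => ?_, fun {a b c} hab hbc => ?_⟩
      · obtain ⟨a, rfl⟩ := (AlgSp.yon S).map_surjective a
        exact (hiff a a).2 (he.refl a)
      · obtain ⟨a, rfl⟩ := (AlgSp.yon S).map_surjective a
        obtain ⟨b, rfl⟩ := (AlgSp.yon S).map_surjective b
        exact (hiff b a).2 (he.symm ((hiff a b).1 hab))
      · obtain ⟨a, rfl⟩ := (AlgSp.yon S).map_surjective a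
        obtain ⟨b, rfl⟩ := (AlgSp.yon S).map_surjective b
        obtain ⟨c, rfl⟩ := (AlgSp.yon S).map_surjective c
        exact (hiff a c).2 (he.trans ((hiff a b).1 hab) ((hiff b c).1 hbc))
  obtain ⟨e⟩ := Groth.Agent.Lib.Helper12.EqvRelSp.nonempty_equivalenceRelation _ _ hrel
  have hk : IsKernelPair p ((AlgSp.yon S).map s) ((AlgSp.yon S).map t) :=
    Groth.Agent.Lib.Helper9.ToposLike.isKernelPair_of_isColimit e p w hcolim
  have hrep : AlgSp.Representable p := hq.representable_from_yon p
  haveI := h.etale_left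
  haveI := h.etale_right
  have hsurj : Surjective s.left := by
    obtain ⟨r, hr1, hr2⟩ := (h.equivalence U).refl (𝟙 U)
    have : r.left ≫ s.left = 𝟙 _ := by rw [← Over.comp_left, hr2]; rfl
    refine ⟨fun x => ⟨r.left x, ?_⟩⟩
    rw [← Scheme.Hom.comp_apply, this]; rfl
  refine ⟨h, ?_, ?_, hk.flip⟩
  · exact Groth.Agent.Lib.Helper12.EpiDescent.repWith_of_epi @Etale inferInstance p p hrep hk.flip
      ((AlgSp.repWith_yon_map_iff _ _).2 h.etale_left)
  · exact Groth.Agent.Lib.Helper12.EpiDescent.repWith_of_epi @Surjective inferInstance p p hrep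
      hk.flip ((AlgSp.repWith_yon_map_iff _ _).2 hsurj)

end Groth.Agent.S9869
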