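import Groth.Statements.S9870
import Mathlib
import Groth.Agent.Lib.Helper12QuotOpen

set_option autoImplicit false
universe u
open CategoryTheory CategoryTheory.Limits AlgebraicGeometry
open AlgSp

namespace Groth.Agent.S9870





/-- Let `s, t : R ⟶ U` be a pre-relation on a scheme `U` over `S` which is an equivalence relation (on
`T`-points, for every scheme `T` over `S`), with `s` and `t` surjective, flat and locally of finite
presentation, and let `g : U' ⟶ U` be flat and locally of finite presentation. Let `s', t' : R' ⟶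
U'` be the restriction of the pre-relation to `U'`, i.e. `R'` with `(t', s')` and `R' ⟶ R` is the
fibre product of `U' ×_S U'` and `R` over `U ×_S U`. Then the map of fppf quotient sheaves `U'/R' ⟶
U/R` induced by `g` (the unique map under the quotient maps compatible with `h_g`) is representable
and an open immersion. -/
theorem result (S : Scheme.{u}) {R U R' U' : Over S} (s t : R ⟶ U)
    (g : U' ⟶ U) (s' t' : R' ⟶ U') (r : R' ⟶ R)
    (hsq : IsPullback (prod.lift t' s') r (prod.map g g) (prod.lift t s))
    (hR : AlgSp.IsEqvRel s t)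
    [Surjective s.left] [Flat s.left] [LocallyOfFinitePresentation s.left]
    [Surjective t.left] [Flat t.left] [LocallyOfFinitePresentation t.left]
    [Flat g.left] [LocallyOfFinitePresentation g.left]
    (φ : QuotSh.quot Scheme.fppfPrecoverage s' t' ⟶ QuotSh.quot Scheme.fppfPrecoverage s t)
    (hφ : QuotSh.quotπ Scheme.fppfPrecoverage s' t' ≫ φ = QuotSh.repMap Scheme.fppfPrecoverage g ≫ QuotSh.quotπ Scheme.fppfPrecoverage s t) :
    AlgSp.RepWith @IsOpenImmersion φ := by
  have hpre : Groth.Agent.Lib.Helper12.QuotOpen.IsPreEqv s t := hR.equivalence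
  have hR' : ∀ (T : Over S) (a b : T ⟶ U') (ρ : T ⟶ R), ρ ≫ t = a ≫ g → ρ ≫ s = b ≫ g →
      ∃ ρ' : T ⟶ R', ρ' ≫ t' = a ∧ ρ' ≫ s' = b := by
    intro T a b ρ h1 h2
    have hcomm : prod.lift a b ≫ prod.map g g = ρ ≫ prod.lift t s := by
      rw [prod.lift_map, prod.comp_lift, h1, h2]
    refine ⟨hsq.lift _ _ hcomm, ?_, ?_⟩
    · have h := congrArg (fun m => m ≫ prod.fst) (hsq.lift_fst _ _ hcomm)
      simp only [Category.assoc, prod.lift_fst] at h
      exact h
    · have h := congrArg (fun m => m ≫ prod.snd) (hsq.lift_fst _ _ hcomm)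
      simp only [Category.assoc, prod.lift_snd] at h
      exact h
  have hE : IsPullback (pullback.fst g t) (pullback.snd g t) g t := IsPullback.of_hasPullback g t
  have hEs := hE.map (Over.forget S)
  haveI h2fl : Flat (pullback.snd g t).left :=
    MorphismProperty.of_isPullback (P := @Flat) hEs (inferInstance : Flat g.left)
  haveI h2lfp : LocallyOfFinitePresentation (pullback.snd g t).left :=
    MorphismProperty.of_isPullback (P := @LocallyOfFinitePresentation) hEs
      (inferInstance : LocallyOfFinitePresentation g.left)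
  haveI hfl : Flat (pullback.snd g t ≫ s).left := by
    rw [Over.comp_left]; infer_instance
  haveI hlfp : LocallyOfFinitePresentation (pullback.snd g t ≫ s).left := by
    rw [Over.comp_left]; infer_instance
  let W : U.left.Opens := ⟨Set.range (pullback.snd g t ≫ s).left,
    (pullback.snd g t ≫ s).left.isOpenMap.isOpen_range⟩
  have hW : (W : Set ↥U.left) = Set.range (pullback.snd g t ≫ s).left := rfl
  have hrange : Set.range (pullback.snd g t ≫ s).left ⊆ Set.range W.ι := by
    rw [W.range_ι]; exact subset_rfl
  let l₀ : (pullback g t).left ⟶ W.toScheme :=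
    IsOpenImmersion.lift W.ι (pullback.snd g t ≫ s).left hrange
  have hl₀ : l₀ ≫ W.ι = (pullback.snd g t ≫ s).left := IsOpenImmersion.lift_fac _ _ _
  let hl : pullback g t ⟶ Over.mk (W.ι ≫ U.hom) := Over.homMk l₀ (by
    show l₀ ≫ W.ι ≫ U.hom = (pullback g t).hom
    rw [← Category.assoc, hl₀]; exact Over.w _)
  have hhl : hl ≫ (Over.homMk W.ι rfl : Over.mk (W.ι ≫ U.hom) ⟶ U) = pullback.snd g t ≫ s := by
    ext1; exact hl₀
  have h1 : Flat hl.left := by
    refine MorphismProperty.of_postcomp (W := @Flat) (W' := @IsOpenImmersion) l₀ W.ι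
      inferInstance ?_
    rw [hl₀]; exact hfl
  have h2 : LocallyOfFinitePresentation hl.left := by
    refine MorphismProperty.of_postcomp (W := @LocallyOfFinitePresentation)
      (W' := @IsOpenImmersion) l₀ W.ι inferInstance ?_
    rw [hl₀]; exact hlfp
  have h3 : Surjective hl.left := by
    refine ⟨fun x => ?_⟩
    have hx : W.ι x ∈ Set.range (pullback.snd g t ≫ s).left := by
      have h4 : W.ι x ∈ Set.range W.ι := ⟨x, rfl⟩
      rw [W.range_ι] at h4; exact h4
    obtain ⟨y, hy⟩ := hx
    refine ⟨y, ?_⟩
    apply W.ι.isOpenEmbedding.injective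
    rw [← hy, ← hl₀, Scheme.Hom.comp_apply]
    rfl
  exact Groth.Agent.Lib.Helper12.QuotOpen.repWith_isOpenImmersion_quot s t hpre g s' t' hR'
    (pullback.fst g t) (pullback.snd g t) hE W hW hl hhl
    (Groth.Agent.Lib.Helper12.QuotOpen.epi_yon_map hl h1 h2 h3) φ hφ

end Groth.Agent.S9870
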