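import Groth.Statements.S9871
import Mathlib

set_option autoImplicit false
universe u
open CategoryTheory CategoryTheory.Limits AlgebraicGeometry
open AlgSp

namespace Groth.Agent.S9871


variable {S : Scheme.{u}}

/-- point form of the restriction of a relation. -/
structure IsRestr {R U R' U' : Over S} (s t : R ⟶ U) (g : U' ⟶ U) (s' t' : R' ⟶ U')
    (r : R' ⟶ R) : Prop where
  ht : t' ≫ g = r ≫ t
  hs : s' ≫ g = r ≫ s
  lift : ∀ {T : Over S} (a' b' : T ⟶ U') (r0 : T ⟶ R), a' ≫ g = r0 ≫ t → b' ≫ g = r0 ≫ s →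
    ∃ l : T ⟶ R', l ≫ t' = a' ∧ l ≫ s' = b' ∧ l ≫ r = r0
  ext : ∀ {T : Over S} (l l' : T ⟶ R'), l ≫ t' = l' ≫ t' → l ≫ s' = l' ≫ s' → l ≫ r = l' ≫ r →
    l = l'

lemma IsRestr.symm {R U R' U' : Over S} {s t : R ⟶ U} {g : U' ⟶ U} {s' t' : R' ⟶ U'}
    {r : R' ⟶ R} (h : IsRestr s t g s' t' r) : IsRestr t s g t' s' r where
  ht := h.hs
  hs := h.ht
  lift a' b' r0 ha hb := by
    obtain ⟨l, h1, h2, h3⟩ := h.lift b' a' r0 hb ha
    exact ⟨l, h2, h1, h3⟩
  ext l l' h1 h2 h3 := h.ext l l' h2 h1 h3

lemma isRestr_of_isPullback {R U R' U' : Over S} {s t : R ⟶ U} {g : U' ⟶ U} {s' t' : R' ⟶ U'}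
    {r : R' ⟶ R} (hsq : IsPullback (prod.lift t' s') r (prod.map g g) (prod.lift t s)) :
    IsRestr s t g s' t' r where
  ht := by
    have := congrArg (fun m => m ≫ prod.fst) hsq.w
    simpa only [Category.assoc, prod.map_fst, prod.lift_fst, prod.lift_fst_assoc] using this
  hs := by
    have := congrArg (fun m => m ≫ prod.snd) hsq.w
    simpa only [Category.assoc, prod.map_snd, prod.lift_snd, prod.lift_snd_assoc] using this
  lift a' b' r0 ha hb := by
    have w : prod.lift a' b' ≫ prod.map g g = r0 ≫ prod.lift t s := by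
      apply Limits.prod.hom_ext
      · simp only [Category.assoc, prod.map_fst, prod.lift_fst, prod.lift_fst_assoc, ha]
      · simp only [Category.assoc, prod.map_snd, prod.lift_snd, prod.lift_snd_assoc, hb]
    refine ⟨hsq.lift _ _ w, ?_, ?_, hsq.lift_snd _ _ w⟩
    · have := congrArg (fun m => m ≫ prod.fst) (hsq.lift_fst _ _ w)
      simpa only [Category.assoc, prod.lift_fst] using this
    · have := congrArg (fun m => m ≫ prod.snd) (hsq.lift_fst _ _ w)
      simpa only [Category.assoc, prod.lift_snd] using this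
  ext l l' h1 h2 h3 := by
    apply hsq.hom_ext _ h3
    apply Limits.prod.hom_ext
    · simpa only [Category.assoc, prod.lift_fst] using h1
    · simpa only [Category.assoc, prod.lift_snd] using h2

/-- the target map of the restriction of a relation with étale target map along an étale map is
étale. -/
lemma IsRestr.etale_t {R U R' U' : Over S} {s t : R ⟶ U} {g : U' ⟶ U} {s' t' : R' ⟶ U'}
    {r : R' ⟶ R} (h : IsRestr s t g s' t' r) [Etale g.left] [Etale t.left] : Etale t'.left := by
  -- `m : R' ⟶ U' ×_{g,U,t} R`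
  let m : R' ⟶ pullback g t := pullback.lift t' r h.ht
  have hw : m ≫ (pullback.snd g t ≫ s) = s' ≫ g := by
    rw [← Category.assoc, pullback.lift_snd, h.hs]
  have hsq : IsPullback m s' (pullback.snd g t ≫ s) g := by
    refine IsPullback.of_isLimit' ⟨hw⟩ (PullbackCone.IsLimit.mk _
      (fun c => (h.lift (c.fst ≫ pullback.fst g t) c.snd (c.fst ≫ pullback.snd g t)
        (by rw [Category.assoc, pullback.condition, Category.assoc])
        (by rw [← c.condition, Category.assoc])).choose) ?_ ?_ ?_)
    · intro c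
      obtain ⟨h1, h2, h3⟩ := (h.lift (c.fst ≫ pullback.fst g t) c.snd (c.fst ≫ pullback.snd g t)
        (by rw [Category.assoc, pullback.condition, Category.assoc])
        (by rw [← c.condition, Category.assoc])).choose_spec
      apply pullback.hom_ext
      · rw [Category.assoc, pullback.lift_fst, h1]
      · rw [Category.assoc, pullback.lift_snd, h3]
    · intro c
      exact (h.lift (c.fst ≫ pullback.fst g t) c.snd (c.fst ≫ pullback.snd g t)
        (by rw [Category.assoc, pullback.condition, Category.assoc])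
        (by rw [← c.condition, Category.assoc])).choose_spec.2.1
    · intro c l hl1 hl2
      obtain ⟨h1, h2, h3⟩ := (h.lift (c.fst ≫ pullback.fst g t) c.snd (c.fst ≫ pullback.snd g t)
        (by rw [Category.assoc, pullback.condition, Category.assoc])
        (by rw [← c.condition, Category.assoc])).choose_spec
      apply h.ext
      · rw [h1, ← hl1, Category.assoc, pullback.lift_fst]
      · rw [h2, hl2]
      · rw [h3, ← hl1, Category.assoc, pullback.lift_snd]
  haveI : Etale m.left :=
    MorphismProperty.of_isPullback (P := @Etale) (hsq.map (Over.forget S)).flip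
      (inferInstance : Etale g.left)
  haveI : Etale (pullback.fst g t).left :=
    MorphismProperty.of_isPullback (P := @Etale)
      ((IsPullback.of_hasPullback g t).map (Over.forget S)).flip (inferInstance : Etale t.left)
  have e : t' = m ≫ pullback.fst g t := (pullback.lift_fst _ _ _).symm
  rw [e, Over.comp_left]
  infer_instance



/-- Let `s, t : R ⟶ U` be an etale equivalence relation on a scheme `U` over `S` and let `g : U' ⟶ U` be
an etale morphism over `S`. Let `s', t' : R' ⟶ U'` be the restriction to `U'`: `R'`, with `(t', s')`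
and `R' ⟶ R`, is the fibre product of `U' ×_S U'` and `R` over `U ×_S U`. Then `s', t'` is again an
etale equivalence relation. -/
theorem result (S : Scheme.{u}) {R U R' U' : Over S} (s t : R ⟶ U)
    (g : U' ⟶ U) (s' t' : R' ⟶ U') (r : R' ⟶ R)
    (hsq : IsPullback (prod.lift t' s') r (prod.map g g) (prod.lift t s))
    (h : AlgSp.IsEtaleEqvRel s t) [Etale g.left] :
    AlgSp.IsEtaleEqvRel s' t' := by
  have hR := isRestr_of_isPullback hsq
  haveI := h.etale_left
  haveI := h.etale_right
  refine ⟨⟨?_, ?_⟩, hR.symm.etale_t, hR.etale_t⟩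
  · intro T l l' h1 h2
    apply hR.ext l l' h1 h2
    apply h.injective
    · rw [Category.assoc, Category.assoc, ← hR.ht, ← Category.assoc, ← Category.assoc, h1]
    · rw [Category.assoc, Category.assoc, ← hR.hs, ← Category.assoc, ← Category.assoc, h2]
  · intro T
    have hE := h.equivalence T
    refine ⟨?_, ?_, ?_⟩
    · intro a
      obtain ⟨r0, h1, h2⟩ := hE.refl (a ≫ g)
      obtain ⟨l, hl1, hl2, -⟩ := hR.lift a a r0 h1.symm h2.symm
      exact ⟨l, hl1, hl2⟩
    · rintro a b ⟨l, rfl, rfl⟩
      obtain ⟨r0, h1, h2⟩ := hE.symm ⟨l ≫ r, rfl, rfl⟩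
      obtain ⟨l', hl1, hl2, -⟩ := hR.lift (l ≫ s') (l ≫ t') r0
        (by rw [h1, Category.assoc, Category.assoc, hR.hs])
        (by rw [h2, Category.assoc, Category.assoc, hR.ht])
      exact ⟨l', hl1, hl2⟩
    · rintro a b c ⟨l1, rfl, rfl⟩ ⟨l2, h21, rfl⟩
      obtain ⟨r0, h1, h2⟩ := hE.trans (y := (l1 ≫ s') ≫ g) ⟨l1 ≫ r, rfl, by
        rw [Category.assoc, Category.assoc, hR.hs]⟩ ⟨l2 ≫ r, by
        rw [Category.assoc, ← hR.ht, ← Category.assoc, h21], rfl⟩
      obtain ⟨l', hl1, hl2, -⟩ := hR.lift (l1 ≫ t') (l2 ≫ s') r0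
        (by rw [h1, Category.assoc, Category.assoc, hR.ht])
        (by rw [h2, Category.assoc, Category.assoc, hR.hs])
      exact ⟨l', hl1, hl2⟩

end Groth.Agent.S9871
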