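import Groth.Statements.S9873
import Mathlib
import Groth.Agent.Lib.Helper15BootRep

set_option autoImplicit false
universe u
open CategoryTheory CategoryTheory.Limits AlgebraicGeometry
open AlgSp

namespace Groth.Agent.S9873

/-- Let `X` be an algebraic space over `S`, `F` an fppf sheaf of sets over `S`, and `f : X ⟶ F` a map of
sheaves which is representable by schemes, etale and surjective (in the representable sense). Then
`F` is an algebraic space over `S`; in particular an fppf sheaf receiving a representable etale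
surjective map from a scheme is an algebraic space. -/
theorem result (S : Scheme.{u}) (X : AlgSp.Space S) (F : AlgSp.Sp S)
    (f : X.obj ⟶ F) (he : AlgSp.RepWith @Etale f) (hs : AlgSp.RepWith @Surjective f) :
    AlgSp.IsAlgSpace F := by
  obtain ⟨U, p₀, h1, h2⟩ := X.property.atlas
  have hpe' : AlgSp.RepWith @Etale (p₀ ≫ f) := (AlgSp.RepWith @Etale).comp_mem _ _ h1 he
  have hps' : AlgSp.RepWith @Surjective (p₀ ≫ f) :=
    (AlgSp.RepWith @Surjective).comp_mem _ _ h2 hs
  obtain ⟨p, hp⟩ : ∃ p : (AlgSp.yon S).obj U ⟶ F, p = p₀ ≫ f := ⟨_, rfl⟩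
  have hpe : AlgSp.RepWith @Etale p := hp ▸ hpe'
  have hps : AlgSp.RepWith @Surjective p := hp ▸ hps'
  obtain ⟨R, s, t', sqR'⟩ := hpe.1 p
  obtain ⟨t, rfl⟩ := (AlgSp.yon S).map_surjective t'
  have hs_et : Etale s.left := hpe.2 _ _ s sqR'
  have hrep : ∀ ⦃T : Over S⦄ (a : (AlgSp.yon S).obj T ⟶ F), AlgSp.Representable a := by
    intro T a B b
    obtain ⟨T₁, t₁, u₁', sqT⟩ := hpe.1 a
    obtain ⟨u₁, rfl⟩ := (AlgSp.yon S).map_surjective u₁'
    obtain ⟨B₁, b₁, v₁', sqB⟩ := hpe.1 b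
    obtain ⟨v₁, rfl⟩ := (AlgSp.yon S).map_surjective v₁'
    have e1 : Etale t₁.left := hpe.2 _ _ t₁ sqT
    have e2 : Surjective t₁.left := hps.2 _ _ t₁ sqT
    have e3 : Etale b₁.left := hpe.2 _ _ b₁ sqB
    have e4 : Surjective b₁.left := hps.2 _ _ b₁ sqB
    obtain ⟨W, w₁, w₂, sq⟩ := Groth.Agent.Lib.Helper15BootRep.exists_isPullback_of_lifts
      p s t sqR' a b t₁ u₁ sqT.w.symm b₁ v₁ sqB.w.symm
    exact ⟨W, w₂, (AlgSp.yon S).map w₁, sq⟩
  exact ⟨Functor.relativelyRepresentable.diag_of_map_from_obj hrep, ⟨U, p, hpe, hps⟩⟩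

end Groth.Agent.S9873
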