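import Groth.Statements.S9879
import Mathlib
import Groth.Agent.S9878

set_option autoImplicit false
universe u
open CategoryTheory CategoryTheory.Limits AlgebraicGeometry
open AlgSp

namespace Groth.Agent.S9879


open CategoryTheory.Limits Opposite MorphismProperty Groth.Agent.S13210 Groth.Agent.S9878



/-- Let `U` be a scheme over `S` and `F_i` a family of fppf sheaves of sets over `S` whose coproduct in
sheaves is isomorphic to `h_U`. Then each `F_i` is representable by a scheme `V_i` over `S` such
that `V_i ⟶ U` (the morphism inducing `h_{V_i} ≅ F_i ⟶ ∐ F_i ≅ h_U`) is an open and closed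
immersion, and `U` is the coproduct of the `V_i` in schemes. -/
theorem result (S : Scheme.{u}) (U : Over S) {ι : Type u}
    (F : ι → AlgSp.Sp S) (c : Cofan F) (hc : IsColimit c) (e : c.pt ≅ (AlgSp.yon S).obj U) :
    ∃ (V : ι → Over S) (g : ∀ i, V i ⟶ U) (ei : ∀ i, (AlgSp.yon S).obj (V i) ≅ F i),
      (∀ i, IsOpenImmersion (g i).left ∧ IsClosedImmersion (g i).left) ∧
      (∀ i, (ei i).hom ≫ c.inj i ≫ e.hom = (AlgSp.yon S).map (g i)) ∧
      Nonempty (IsColimit (Cofan.mk U.left (fun i => (g i).left))) := by
  obtain ⟨W, hd, hcov, hW⟩ := exists_clopen_decomposition c hc e.inv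
  choose a sq using hW
  haveI : ∀ i, IsIso (a i) := fun i => (sq i).isIso_fst_of_isIso
  refine ⟨fun i => Over.mk ((W i).ι ≫ U.hom), fun i => Over.homMk (W i).ι, fun i => asIso (a i),
    fun i => ⟨?_, ?_⟩, fun i => ?_, ?_⟩
  · exact (inferInstance : IsOpenImmersion (W i).ι)
  · have h2 : IsClosedImmersion (W i).ι := by
      refine IsClosedImmersion.of_isPreimmersion _ ?_
      rw [Scheme.Opens.range_ι]
      exact isClosed_of_partition W hd hcov _
    exact h2
  · rw [asIso_hom, ← Category.assoc, (sq i).w, Category.assoc, e.inv_hom_id, Category.comp_id]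
  · have h3 := nonempty_isColimit_cofanMk_of (fun i => (W i).ι) (by
      simp only [Scheme.Opens.opensRange_ι]
      exact hcov) (by
      intro i j hij
      simp only [Function.onFun, Scheme.Opens.opensRange_ι]
      exact hd i j hij)
    exact h3

end Groth.Agent.S9879
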