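import Groth.Statements.S9880
import Mathlib
import Groth.Agent.S9878
import Groth.Agent.S9874

set_option autoImplicit false
universe u
open CategoryTheory CategoryTheory.Limits AlgebraicGeometry
open AlgSp

namespace Groth.Agent.S9880


open CategoryTheory.Limits Opposite MorphismProperty Groth.Agent.S13210 Groth.Agent.S9878
  Groth.Agent.S9900

variable {S : Scheme.{u}}

/-- equalizer loci can be computed after a monomorphism. -/
lemma isEqLocus_of_mono {A B : AlgSp.Sp S} (m : A ⟶ B) [Mono m] {T E : Over S}
    {a b : (AlgSp.yon S).obj T ⟶ A} {e : E ⟶ T} (he : IsEqLocus (a ≫ m) (b ≫ m) e) :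
    IsEqLocus a b e := by
  refine ⟨he.1, fun T' t => ?_⟩
  rw [← he.2 T' t, ← Category.assoc, ← Category.assoc, cancel_mono]



/-- Let `F_i` be a family of fppf sheaves of sets over `S` whose coproduct `∐ F_i` in sheaves (any
colimit cofan) is an algebraic space over `S`. Then each `F_i` is an algebraic space over `S`. -/
theorem result (S : Scheme.{u}) {ι : Type u} (F : ι → AlgSp.Sp S) (c : Cofan F)
    (hc : IsColimit c) (h : AlgSp.IsAlgSpace c.pt) (i : ι) : AlgSp.IsAlgSpace (F i) := by
  haveI : Mono (c.inj i) := mono_inj c hc i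
  constructor
  · refine Groth.Agent.S9874.representable_diag_of_isEqLocus (fun {T} a b => ?_)
    obtain ⟨E, e, he⟩ := exists_isEqLocus h.diag (a ≫ c.inj i) (b ≫ c.inj i)
    exact ⟨E, e, isEqLocus_of_mono (c.inj i) he⟩
  · obtain ⟨U, p, hp, hps⟩ := h.atlas
    obtain ⟨W, hd, hcov, hW⟩ := exists_clopen_decomposition c hc p
    obtain ⟨a, sq⟩ := hW i
    exact ⟨_, a, MorphismProperty.of_isPullback (P := AlgSp.RepWith @Etale) sq.flip hp,
      MorphismProperty.of_isPullback (P := AlgSp.RepWith @Surjective) sq.flip hps⟩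

end Groth.Agent.S9880
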