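import Groth.Statements.S9882
import Mathlib
import Groth.Agent.S9921

set_option autoImplicit false
universe u
open CategoryTheory CategoryTheory.Limits AlgebraicGeometry
open AlgSp

namespace Groth.Agent.S9882


open CategoryTheory.Limits Opposite MorphismProperty Groth.Agent.S13210 Groth.Agent.S9900



/-- Let `X` be an algebraic space over `S` with diagonal `Δ : X ⟶ X × X` (representable by schemes).
Then, in the representable sense, `Δ` is locally of finite type, a monomorphism, separated, and
locally quasi-finite. (Mathlib's locally quasi-finite class has no finite-type clause; together with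
the first conjunct this is the usual notion.) -/
theorem result (S : Scheme.{u}) (X : AlgSp.Space S) :
    AlgSp.RepWith @LocallyOfFiniteType (Limits.diag X.obj) ∧
      AlgSp.RepWith (MorphismProperty.monomorphisms Scheme.{u}) (Limits.diag X.obj) ∧
      AlgSp.RepWith @IsSeparated (Limits.diag X.obj) ∧
      AlgSp.RepWith @LocallyQuasiFinite (Limits.diag X.obj) := by
  have hX : AlgSp.IsAlgSpace X.obj := X.property
  have key : ∀ (P : MorphismProperty Scheme.{u}) [P.IsStableUnderBaseChange],
      (∀ {T E : Over S} (a b : (AlgSp.yon S).obj T ⟶ X.obj) (e : E ⟶ T), IsEqLocus a b e →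
        P e.left) → AlgSp.RepWith P (Limits.diag X.obj) := by
    intro P _ hP
    refine Groth.Agent.S9921.repWith_diag_of_isEqLocus P (fun {T} a b => ?_)
    obtain ⟨E, e, he⟩ := exists_isEqLocus hX.diag a b
    exact ⟨E, e, he, hP a b e he⟩
  have hmono : ∀ {T E : Over S} (a b : (AlgSp.yon S).obj T ⟶ X.obj) (e : E ⟶ T),
      IsEqLocus a b e → Mono e.left := fun a b e he => by
    haveI := he.1
    infer_instance
  refine ⟨key @LocallyOfFiniteType (fun a b e he => he.locallyOfFiniteType hX),
    key _ (fun a b e he => hmono a b e he), key _ (fun a b e he => ?_),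
    key _ (fun a b e he => ?_)⟩
  · haveI := hmono a b e he
    infer_instance
  · haveI := hmono a b e he
    haveI := he.locallyOfFiniteType hX
    infer_instance

end Groth.Agent.S9882
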