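import Groth.Statements.S9886
import Mathlib
import Groth.Agent.S13210

set_option autoImplicit false
universe u
open CategoryTheory CategoryTheory.Limits AlgebraicGeometry
open AlgSp

namespace Groth.Agent.S9886


open CategoryTheory.Limits Opposite MorphismProperty Groth.Agent.S13210

variable {S : Scheme.{u}}

/-- the absolute diagonal has `P` as soon as all fibre products `h_T ×_F h_T` are represented with
`W ⟶ T × T` having `P`. -/
lemma repWith_diag_of_fibreProducts (F : AlgSp.Sp S) (P : MorphismProperty Scheme.{u})
    [P.IsStableUnderBaseChange]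
    (h : ∀ ⦃T : Over S⦄ (a b : (AlgSp.yon S).obj T ⟶ F),
      ∃ (W : Over S) (fst : W ⟶ T) (snd : W ⟶ T),
        IsPullback ((AlgSp.yon S).map fst) ((AlgSp.yon S).map snd) a b ∧ P (prod.lift fst snd).left) :
    AlgSp.RepWith P (Limits.diag F) := by
  refine MorphismProperty.relative.of_exists (fun T c => ?_)
  obtain ⟨W, fst, snd, sqW, hP⟩ := h (c ≫ prod.fst) (c ≫ prod.snd)
  have hPe : (P.inverseImage (Over.forget S)) (pullback.snd (prod.lift fst snd) (Limits.diag T)) :=
    MorphismProperty.of_isPullback (P := P.inverseImage (Over.forget S))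
      (IsPullback.of_hasPullback (prod.lift fst snd) (Limits.diag T)) hP
  set e := pullback.snd (prod.lift fst snd) (Limits.diag T) with he
  set x0 := pullback.fst (prod.lift fst snd) (Limits.diag T) with hx0
  have hcond : x0 ≫ prod.lift fst snd = e ≫ Limits.diag T := pullback.condition
  have hx1 : x0 ≫ fst = e := by
    have := congrArg (fun m => m ≫ prod.fst) hcond
    simpa only [Category.assoc, prod.lift_fst, Limits.diag, Category.comp_id] using this
  have hx2 : x0 ≫ snd = e := by
    have := congrArg (fun m => m ≫ prod.snd) hcond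
    simpa only [Category.assoc, prod.lift_snd, Limits.diag, Category.comp_id] using this
  haveI : Mono (prod.lift fst snd) := by
    constructor
    intro Z x x' hxx
    apply (AlgSp.yon S).map_injective
    apply sqW.hom_ext
    · rw [← Functor.map_comp, ← Functor.map_comp]
      congr 1
      have := congrArg (fun m => m ≫ prod.fst) hxx
      simpa only [Category.assoc, prod.lift_fst] using this
    · rw [← Functor.map_comp, ← Functor.map_comp]
      congr 1
      have := congrArg (fun m => m ≫ prod.snd) hxx
      simpa only [Category.assoc, prod.lift_snd] using this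
  haveI : Mono e := by rw [he]; exact pullback.snd_of_mono
  have he12 : (AlgSp.yon S).map e ≫ c ≫ prod.fst = (AlgSp.yon S).map e ≫ c ≫ prod.snd := by
    calc (AlgSp.yon S).map e ≫ c ≫ prod.fst
        = (AlgSp.yon S).map x0 ≫ (AlgSp.yon S).map fst ≫ c ≫ prod.fst := by
          rw [← hx1, Functor.map_comp, Category.assoc]
      _ = (AlgSp.yon S).map x0 ≫ (AlgSp.yon S).map snd ≫ c ≫ prod.snd := by rw [sqW.w]
      _ = (AlgSp.yon S).map e ≫ c ≫ prod.snd := by
          rw [← hx2, Functor.map_comp, Category.assoc]
  refine ⟨_, (AlgSp.yon S).map e ≫ c ≫ prod.fst, e, ?_, hPe⟩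
  have hw : ((AlgSp.yon S).map e ≫ c ≫ prod.fst) ≫ Limits.diag F = (AlgSp.yon S).map e ≫ c := by
    apply Limits.prod.hom_ext
    · simp only [Category.assoc, Limits.diag, prod.lift_fst, Category.comp_id]
    · simp only [Category.assoc, Limits.diag, prod.lift_snd, Category.comp_id]
      exact he12
  refine isPullback_of_yon hw ?_
  intro T' b y' hby
  obtain ⟨y, rfl⟩ := (AlgSp.yon S).map_surjective y'
  have hb1 : b = (AlgSp.yon S).map y ≫ c ≫ prod.fst := by
    have := congrArg (fun m => m ≫ prod.fst) hby
    simpa only [Category.assoc, Limits.diag, prod.lift_fst, Category.comp_id] using this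
  have hb2 : b = (AlgSp.yon S).map y ≫ c ≫ prod.snd := by
    have := congrArg (fun m => m ≫ prod.snd) hby
    simpa only [Category.assoc, Limits.diag, prod.lift_snd, Category.comp_id] using this
  obtain ⟨x, hx⟩ := (AlgSp.yon S).map_surjective (sqW.lift ((AlgSp.yon S).map y) ((AlgSp.yon S).map y)
    (by rw [← hb1, ← hb2]))
  have hxf : x ≫ fst = y := by
    apply (AlgSp.yon S).map_injective
    rw [Functor.map_comp, hx, sqW.lift_fst]
  have hxs : x ≫ snd = y := by
    apply (AlgSp.yon S).map_injective
    rw [Functor.map_comp, hx, sqW.lift_snd]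
  have hz : x ≫ prod.lift fst snd = y ≫ Limits.diag T := by
    apply Limits.prod.hom_ext
    · simp only [Category.assoc, Limits.diag, prod.lift_fst, Category.comp_id, hxf]
    · simp only [Category.assoc, Limits.diag, prod.lift_snd, Category.comp_id, hxs]
  refine ⟨(AlgSp.yon S).map (pullback.lift x y hz), ⟨?_, ?_⟩, ?_⟩
  · rw [← Category.assoc, ← Functor.map_comp, he, pullback.lift_snd, hb1]
  · rw [← Functor.map_comp, he, pullback.lift_snd]
  · rintro z' ⟨-, hz2⟩
    obtain ⟨z, rfl⟩ := (AlgSp.yon S).map_surjective z'
    congr 1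
    rw [← cancel_mono e]
    apply (AlgSp.yon S).map_injective
    rw [Functor.map_comp, hz2, he, pullback.lift_snd]



/-- Let `F` be an fppf sheaf of sets over `S` and `P` a property of morphisms of schemes stable under
base change. Assume that for all schemes `U`, `V` over `S` and all `a : h_U ⟶ F`, `b : h_V ⟶ F` the
fibre product `h_U ×_F h_V` is represented by some scheme `W` over `S` with its projections induced
by morphisms `W ⟶ U`, `W ⟶ V`, and that for every such represented fibre product the morphism `W ⟶ U
×_S V` has `P`. Then the diagonal `F ⟶ F × F` is representable by schemes and has `P`. (The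
published statement is for a presheaf of sets `F` and a property `P` that is also fppf local on the
base; this row takes `F` an fppf sheaf and `P` only stable under base change.) -/
theorem result (S : Scheme.{u}) (F : AlgSp.Sp S) (P : MorphismProperty Scheme.{u})
    [P.IsStableUnderBaseChange]
    (h₁ : ∀ ⦃U V : Over S⦄ (a : (AlgSp.yon S).obj U ⟶ F) (b : (AlgSp.yon S).obj V ⟶ F),
      ∃ (W : Over S) (fst : W ⟶ U) (snd : W ⟶ V), IsPullback ((AlgSp.yon S).map fst) ((AlgSp.yon S).map snd) a b)
    (h₂ : ∀ ⦃U V W : Over S⦄ (a : (AlgSp.yon S).obj U ⟶ F) (b : (AlgSp.yon S).obj V ⟶ F) (fst : W ⟶ U)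
      (snd : W ⟶ V), IsPullback ((AlgSp.yon S).map fst) ((AlgSp.yon S).map snd) a b → P (prod.lift fst snd).left) :
    AlgSp.RepWith P (Limits.diag F) := by
  refine repWith_diag_of_fibreProducts F P (fun T a b => ?_)
  obtain ⟨W, fst, snd, sq⟩ := h₁ a b
  exact ⟨W, fst, snd, sq, h₂ a b fst snd sq⟩

end Groth.Agent.S9886
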