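import Groth.Statements.S9887
import Mathlib

set_option autoImplicit false
universe u
open CategoryTheory CategoryTheory.Limits AlgebraicGeometry
open AlgSp

namespace Groth.Agent.S9887





/-- Let `a : X ⟶ Y` be a morphism of algebraic spaces over `S` and `q : h_V ⟶ Y` representable etale and
surjective with `V` a scheme over `S`. Then there exist a scheme `U` over `S`, a representable etale
and surjective `p : h_U ⟶ X` and a morphism `α : U ⟶ V` with `p ≫ a = h_α ≫ q`. -/
theorem result (S : Scheme.{u}) (X Y : AlgSp.Space S) (a : X ⟶ Y) {V : Over S}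
    (q : (AlgSp.yon S).obj V ⟶ Y.obj) (hqe : AlgSp.RepWith @Etale q) (hqs : AlgSp.RepWith @Surjective q) :
    ∃ (U : Over S) (p : (AlgSp.yon S).obj U ⟶ X.obj) (α : U ⟶ V),
      AlgSp.RepWith @Etale p ∧ AlgSp.RepWith @Surjective p ∧ p ≫ a.hom = (AlgSp.yon S).map α ≫ q := by
  obtain ⟨U0, p0, hp0e, hp0s⟩ := X.property.atlas
  obtain ⟨U, snd, fst', sqU⟩ := hqe.1 (p0 ≫ a.hom)
  obtain ⟨α, rfl⟩ := (AlgSp.yon S).map_surjective fst'
  refine ⟨U, (AlgSp.yon S).map snd ≫ p0, α, ?_, ?_, ?_⟩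
  · exact MorphismProperty.comp_mem _ _ _
      ((AlgSp.repWith_yon_map_iff _ _).2 (hqe.2 _ _ snd sqU)) hp0e
  · exact MorphismProperty.comp_mem _ _ _
      ((AlgSp.repWith_yon_map_iff _ _).2 (hqs.2 _ _ snd sqU)) hp0s
  · rw [Category.assoc, sqU.w]

end Groth.Agent.S9887
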