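import Groth.Statements.S9891
import Mathlib

set_option autoImplicit false
universe u
open CategoryTheory CategoryTheory.Limits AlgebraicGeometry
open AlgSp

namespace Groth.Agent.S9891


open CategoryTheory.Limits Opposite MorphismProperty

/-- the relative diagonal of a relatively representable morphism is relatively representable. -/
lemma relativelyRepresentable_diagonal {C : Type*} {D : Type*} [Category C] [Category D] (F : C ⥤ D)
    [F.Full] [F.Faithful] [HasPullbacks C] [HasPullbacks D] [PreservesLimitsOfShape WalkingCospan F]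
    {X Y : D} (f : X ⟶ Y) (hf : F.relativelyRepresentable f) :
    F.relativelyRepresentable (pullback.diagonal f) := by
  intro T c
  have hc : (c ≫ pullback.fst f f) ≫ f = (c ≫ pullback.snd f f) ≫ f := by
    rw [Category.assoc, Category.assoc, pullback.condition]
  obtain ⟨W, w, p, sqW⟩ := hf ((c ≫ pullback.fst f f) ≫ f)
  obtain ⟨σ1, hσ1⟩ := F.map_surjective (sqW.lift (c ≫ pullback.fst f f) (𝟙 _) (by rw [Category.id_comp]))
  obtain ⟨σ2, hσ2⟩ := F.map_surjective (sqW.lift (c ≫ pullback.snd f f) (𝟙 _)
    (by rw [Category.id_comp, hc]))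
  have h1p : F.map σ1 ≫ p = c ≫ pullback.fst f f := by rw [hσ1, sqW.lift_fst]
  have h2p : F.map σ2 ≫ p = c ≫ pullback.snd f f := by rw [hσ2, sqW.lift_fst]
  have h1w : σ1 ≫ w = 𝟙 T := F.map_injective (by rw [F.map_comp, hσ1, sqW.lift_snd, F.map_id])
  have h2w : σ2 ≫ w = 𝟙 T := F.map_injective (by rw [F.map_comp, hσ2, sqW.lift_snd, F.map_id])
  have hee' : pullback.fst σ1 σ2 = pullback.snd σ1 σ2 := by
    calc pullback.fst σ1 σ2 = pullback.fst σ1 σ2 ≫ σ1 ≫ w := by rw [h1w, Category.comp_id]
      _ = pullback.snd σ1 σ2 ≫ σ2 ≫ w := by rw [← Category.assoc, pullback.condition, Category.assoc]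
      _ = pullback.snd σ1 σ2 := by rw [h2w, Category.comp_id]
  have hFE : IsPullback (F.map (pullback.fst σ1 σ2)) (F.map (pullback.snd σ1 σ2)) (F.map σ1) (F.map σ2) :=
    (IsPullback.of_hasPullback σ1 σ2).map F
  rw [← hee'] at hFE
  have he12 : F.map (pullback.fst σ1 σ2) ≫ c ≫ pullback.fst f f =
      F.map (pullback.fst σ1 σ2) ≫ c ≫ pullback.snd f f := by
    rw [← h1p, ← h2p, ← Category.assoc, ← Category.assoc, hFE.w]
  refine ⟨pullback σ1 σ2, pullback.fst σ1 σ2, F.map (pullback.fst σ1 σ2) ≫ c ≫ pullback.fst f f, ?_⟩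
  have hw : (F.map (pullback.fst σ1 σ2) ≫ c ≫ pullback.fst f f) ≫ pullback.diagonal f =
      F.map (pullback.fst σ1 σ2) ≫ c := by
    apply pullback.hom_ext
    · simp only [Category.assoc, pullback.diagonal_fst, Category.comp_id]
    · simp only [Category.assoc, pullback.diagonal_snd, Category.comp_id]
      exact he12
  refine ⟨⟨hw⟩, ⟨PullbackCone.IsLimit.mk _ (fun s => hFE.lift s.snd s.snd ?_) ?_ ?_ ?_⟩⟩
  · have hs1 : s.fst = s.snd ≫ c ≫ pullback.fst f f := by
      have := congrArg (fun m => m ≫ pullback.fst f f) s.condition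
      simpa only [Category.assoc, pullback.diagonal_fst, Category.comp_id] using this
    have hs2 : s.fst = s.snd ≫ c ≫ pullback.snd f f := by
      have := congrArg (fun m => m ≫ pullback.snd f f) s.condition
      simpa only [Category.assoc, pullback.diagonal_snd, Category.comp_id] using this
    apply sqW.hom_ext
    · rw [Category.assoc, Category.assoc, h1p, h2p, ← hs1, ← hs2]
    · rw [Category.assoc, Category.assoc, ← F.map_comp, ← F.map_comp, h1w, h2w]
  · intro s
    have hs1 : s.fst = s.snd ≫ c ≫ pullback.fst f f := by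
      have := congrArg (fun m => m ≫ pullback.fst f f) s.condition
      simpa only [Category.assoc, pullback.diagonal_fst, Category.comp_id] using this
    rw [← Category.assoc, hFE.lift_fst, hs1]
  · intro s
    exact hFE.lift_fst _ _ _
  · intro s m hm1 hm2
    apply hFE.hom_ext
    · rw [hFE.lift_fst]; exact hm2
    · rw [hFE.lift_snd]; exact hm2



/-- Let `a : F ⟶ G` be a map of presheaves of sets on schemes over `S` which is representable by
schemes. Then the relative diagonal `F ⟶ F ×_G F` is representable by schemes. -/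
theorem result (S : Scheme.{u}) (F G : AlgSp.PSp S) (a : F ⟶ G)
    (ha : (AlgSp.pyon S).relativelyRepresentable a) :
    (AlgSp.pyon S).relativelyRepresentable (pullback.diagonal a) := by
  exact relativelyRepresentable_diagonal (AlgSp.pyon S) a ha

end Groth.Agent.S9891
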