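import Groth.Statements.S9894
import Mathlib
import Groth.Agent.Lib.Helper15EffDescA
import Groth.Agent.Lib.Helper15EffDescB
import Groth.Agent.S9883
import Groth.Agent.S9876

set_option autoImplicit false
universe u
open CategoryTheory CategoryTheory.Limits AlgebraicGeometry
open AlgSp

namespace Groth.Agent.S9894

/-- Let `P` be a property of morphisms of schemes which is stable under base change, fppf local on the
base, and such that morphisms of type `P` satisfy descent: for every surjective, flat, locally
finitely presented `p : X' ⟶ S'` every descent datum relative to `p` whose scheme has structure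
morphism in `P` is effective (descent is asked along single fppf covers, the case the argument
uses). Let `F` be an algebraic space over `S`, `G` an fppf sheaf of sets with a map `f : G ⟶ F`, and
`q : h_U ⟶ F` representable etale and surjective such that the base change of `f` along `q` is
represented by a scheme `V` over `S` with `g : V ⟶ U` having `P`. Then `G` is an algebraic space
over `S` and `f` is representable by schemes with property `P`. -/
theorem result (S : Scheme.{u}) (P : MorphismProperty Scheme.{u})
    [P.IsStableUnderBaseChange] [P.IsLocalAtTarget Scheme.fppfPrecoverage]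
    (hdesc : ∀ ⦃X' S' : Scheme.{u}⦄ (p : X' ⟶ S'), Surjective p → Flat p → LocallyOfFinitePresentation p →
      ∀ D : Desc.SchDD p, P D.obj.hom → (Desc.toDD p).essImage D)
    (F : AlgSp.Space S) (G : AlgSp.Sp S) (f : G ⟶ F.obj) {U V : Over S} (q : (AlgSp.yon S).obj U ⟶ F.obj)
    (hqe : AlgSp.RepWith @Etale q) (hqs : AlgSp.RepWith @Surjective q) (fst : (AlgSp.yon S).obj V ⟶ G)
    (g : V ⟶ U) (sq : IsPullback fst ((AlgSp.yon S).map g) f q) (hP : P g.left) :
    AlgSp.IsAlgSpace G ∧ AlgSp.RepWith P f := by
  have hrep : AlgSp.Representable f := by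
    intro T ξ
    obtain ⟨T', p, r', sqT⟩ := hqe.1 ξ
    obtain ⟨r₀, rfl⟩ := (AlgSp.yon S).map_surjective r'
    haveI : Etale p.left := hqe.2 _ _ p sqT
    haveI : Surjective p.left := hqs.2 _ _ p sqT
    have sqX₀ : IsPullback ((AlgSp.yon S).map (pullback.fst g r₀))
        ((AlgSp.yon S).map (pullback.snd g r₀)) ((AlgSp.yon S).map g) ((AlgSp.yon S).map r₀) :=
      (IsPullback.of_hasPullback g r₀).map (AlgSp.yon S)
    have sqX := sqX₀.paste_horiz sq
    rw [sqT.w] at sqX
    have sqE := IsPullback.of_hasPullback f ξ
    have hw : ((AlgSp.yon S).map (pullback.fst g r₀) ≫ fst) ≫ f =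
        ((AlgSp.yon S).map (pullback.snd g r₀) ≫ (AlgSp.yon S).map p) ≫ ξ := by
      rw [sqX.w, Category.assoc]
    have sqθ : IsPullback (sqE.lift _ _ hw) ((AlgSp.yon S).map (pullback.snd g r₀))
        (pullback.snd f ξ) ((AlgSp.yon S).map p) := by
      refine IsPullback.of_right ?_ (sqE.lift_snd _ _ hw) sqE
      rw [sqE.lift_fst]
      exact sqX
    have hPx : P (pullback.snd g r₀).left :=
      P.of_isPullback ((IsPullback.of_hasPullback g r₀).map (Over.forget S)) hP
    obtain ⟨W₀, ⟨i⟩⟩ := hdesc p.left inferInstance inferInstance inferInstance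
      (Groth.Agent.Lib.Helper15EffDescA.dd sqθ) hPx
    obtain ⟨W, w, c, hc, hce⟩ := Groth.Agent.Lib.Helper15EffDescB.exists_rep sqθ W₀ i
    refine ⟨W, w, c ≫ pullback.fst f ξ, ?_⟩
    exact IsPullback.of_iso sqE (asIso c).symm (Iso.refl _) (Iso.refl _) (Iso.refl _)
      (by simp) (by simp [hce]) (by simp) (by simp)
  refine ⟨?_, Groth.Agent.S9883.repWith_of_chart f hrep q hqe hqs fst g sq P hP⟩
  have ha : (AlgSp.pyon S).relativelyRepresentable f.hom := by
    intro T g'
    obtain ⟨W, w, a, sqW⟩ := hrep (ObjectProperty.homMk g' : (AlgSp.yon S).obj T ⟶ F.obj)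
    exact ⟨W, w, a.hom, sqW.map (sheafToPresheaf _ _)⟩
  exact (AlgSp.isAlgSpaceP_obj_iff G).1 (Groth.Agent.S9876.result S F G.obj f.hom ha)

end Groth.Agent.S9894
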