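import Groth.Statements.S9930
import Mathlib
import Groth.Agent.S9908

set_option autoImplicit false
universe u
open CategoryTheory CategoryTheory.Limits AlgebraicGeometry
open AlgSp

namespace Groth.Agent.S9930


open CategoryTheory.Limits Opposite MorphismProperty Groth.Agent.S13210 Groth.Agent.S9908

variable {S : Scheme.{u}}

lemma univSubmersive_isQuotientMap {X Y : Scheme.{u}} (f : X ⟶ Y) (h : SGA1.UnivSubmersive f) :
    Topology.IsQuotientMap f := h _ _ _ IsPullback.of_id_snd

lemma univSubmersive_le_surjective : SGA1.UnivSubmersive.{u} ≤ @Surjective := by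
  intro X Y f h
  exact ⟨(univSubmersive_isQuotientMap f h).surjective⟩

/-- a representable universally submersive map of sheaves is a quotient map on points. -/
lemma isQuotientMap_map_of_repWith {F G : AlgSp.Sp S} (f : F ⟶ G)
    (hf : AlgSp.RepWith SGA1.UnivSubmersive f) : Topology.IsQuotientMap (AlgSp.Points.map f) := by
  have hsurj : Function.Surjective (AlgSp.Points.map f) := by
    apply Groth.Agent.S9906.surjective_map_of_repWith
    refine ⟨hf.1, fun T W g pr w sq => ?_⟩
    exact univSubmersive_le_surjective _ (hf.2 g pr w sq)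
  rw [Topology.isQuotientMap_iff]
  refine ⟨.of_isOpen_preimage_iff_isOpen fun B =>
    ⟨fun hB => ?_, fun hB => hB.preimage (AlgSp.Points.continuous_map f)⟩, hsurj⟩
  rw [AlgSp.Points.isOpen_iff]
  intro T c
  obtain ⟨W, w, pr', sq⟩ := hf.1 c
  have hq : Topology.IsQuotientMap w.left := univSubmersive_isQuotientMap _ (hf.2 c _ w sq)
  rw [← hq.isOpen_preimage]
  have : w.left ⁻¹' (AlgSp.Points.ofPt c ⁻¹' B) =
      AlgSp.Points.ofPt pr' ⁻¹' (AlgSp.Points.map f ⁻¹' B) := by
    ext y
    simp only [Set.mem_preimage]
    rw [← Groth.Agent.S10176.ofPt_map_comp, ← sq.w, AlgSp.Points.map_ofPt]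
  rw [this]
  exact hB.preimage (AlgSp.Points.continuous_ofPt pr')

lemma isQuotientMap_left_of_points {T T' : Over S} (φ : T ⟶ T')
    (h : Topology.IsQuotientMap (AlgSp.Points.map ((AlgSp.yon S).map φ))) :
    Topology.IsQuotientMap φ.left := by
  have := (AlgSp.Points.schemeHomeo T').symm.isQuotientMap.comp (h.comp
    (AlgSp.Points.schemeHomeo T).isQuotientMap)
  rw [← left_eq_conj] at this
  exact this

lemma repWith_univSubmersive_of_isUnivSubmersiveMor {F G : AlgSp.Sp S} (f : F ⟶ G)
    (hf : AlgSp.Representable f) (h : AlgSp.IsUnivSubmersiveMor f) :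
    AlgSp.RepWith SGA1.UnivSubmersive f := by
  refine ⟨hf, ?_⟩
  intro T W g pr w sq
  change SGA1.UnivSubmersive w.left
  intro X' Y' i₁ i₂ f' hpb
  have sq' := isPullback_yon_of_isPullback sq i₁ i₂ f' hpb
  have hq := h (AlgSp.IsAlgSpace.yon_obj _) _ _ _ sq'
  exact isQuotientMap_left_of_points _ hq



/-- For a morphism of algebraic spaces representable by schemes, representable universal submersiveness
is equivalent to |Z x_Y X| -> |Z| being a quotient map after every base change along a morphism of
algebraic spaces. -/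
theorem result {S : Scheme.{u}} {X Y : AlgSp.Space S} (f : X ⟶ Y)
    (hf : AlgSp.Representable f.hom) :
    AlgSp.RepWith SGA1.UnivSubmersive f.hom ↔ AlgSp.IsUnivSubmersiveMor f.hom := by
  constructor
  · intro h Z Z' hZ g fst snd sq
    exact isQuotientMap_map_of_repWith snd
      (MorphismProperty.of_isPullback (P := AlgSp.RepWith SGA1.UnivSubmersive) sq h)
  · intro h
    exact repWith_univSubmersive_of_isUnivSubmersiveMor f.hom hf h

end Groth.Agent.S9930
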