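import Groth.Statements.S9933
import Mathlib
import Groth.Agent.S9900

set_option autoImplicit false
universe u
open CategoryTheory CategoryTheory.Limits AlgebraicGeometry
open AlgSp

namespace Groth.Agent.S9933


lemma of_postcomp_diag {S : Scheme.{u}} (P : MorphismProperty (AlgSp.Sp S))
    [P.IsStableUnderBaseChange] [P.IsMultiplicative] {Z Y X : AlgSp.Sp S} (a : Z ⟶ Y) (b : Y ⟶ X)
    (hab : P (a ≫ b)) (hb : P (pullback.diagonal b)) : P a := by
  haveI : P.HasOfPostcompProperty P.diagonal :=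
    (MorphismProperty.hasOfPostcompProperty_iff_le_diagonal (P := P) (Q := P.diagonal)).2 le_rfl
  exact P.of_postcomp (W' := P.diagonal) a b hb hab



/-- Permanence for Z -> Y -> X: the five representable finiteness/separation properties of Z -> X pass
to Z -> Y, and a closed immersion Z -> X with Y -> X separated gives a closed immersion Z -> Y. -/
theorem result {S : Scheme.{u}} {Z Y X : AlgSp.Space S} (a : Z ⟶ Y) (b : Y ⟶ X) :
    ((AlgSp.Representable (a ≫ b).hom ∧ AlgSp.RepWith @LocallyOfFiniteType (a ≫ b).hom ∧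
        AlgSp.RepWith (@LocallyQuasiFinite ⊓ @LocallyOfFiniteType) (a ≫ b).hom ∧
        AlgSp.RepWith @IsSeparated (a ≫ b).hom ∧
        AlgSp.RepWith (MorphismProperty.monomorphisms Scheme.{u}) (a ≫ b).hom) →
      (AlgSp.Representable a.hom ∧ AlgSp.RepWith @LocallyOfFiniteType a.hom ∧
        AlgSp.RepWith (@LocallyQuasiFinite ⊓ @LocallyOfFiniteType) a.hom ∧
        AlgSp.RepWith @IsSeparated a.hom ∧
        AlgSp.RepWith (MorphismProperty.monomorphisms Scheme.{u}) a.hom)) ∧
    (AlgSp.RepWith @IsClosedImmersion (a ≫ b).hom → AlgSp.IsSeparatedMor b.hom →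
      AlgSp.RepWith @IsClosedImmersion a.hom) := by
  obtain ⟨d1, d2, d3, d4, d5⟩ := Groth.Agent.S9900.result b
  refine ⟨fun ⟨h1, h2, h3, h4, h5⟩ => ⟨?_, ?_, ?_, ?_, ?_⟩, fun h hb => ?_⟩
  · exact of_postcomp_diag (AlgSp.Representable (S := S)) a.hom b.hom h1 d1
  · exact of_postcomp_diag (AlgSp.RepWith @LocallyOfFiniteType) a.hom b.hom h2 d2
  · exact of_postcomp_diag (AlgSp.RepWith (@LocallyQuasiFinite ⊓ @LocallyOfFiniteType)) a.hom b.hom h3 d5
  · exact of_postcomp_diag (AlgSp.RepWith @IsSeparated) a.hom b.hom h4 d4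
  · exact of_postcomp_diag (AlgSp.RepWith (MorphismProperty.monomorphisms Scheme.{u})) a.hom b.hom h5 d3
  · exact of_postcomp_diag (AlgSp.RepWith @IsClosedImmersion) a.hom b.hom h hb

end Groth.Agent.S9933
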