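import Groth.Statements.S9935
import Mathlib
import Groth.Agent.S9876
import Groth.Agent.S9912
import Groth.Agent.Lib.Helper12ClosedSub
import Groth.Agent.Lib.Helper12ImmDescent
import Groth.Agent.Lib.Helper12SchImage

set_option autoImplicit false
universe u
open CategoryTheory CategoryTheory.Limits AlgebraicGeometry
open AlgSp

namespace Groth.Agent.S9935





/-- A quasi-compact immersion of algebraic spaces factors as an open immersion followed by a closed
immersion. -/
theorem result {S : Scheme.{u}} {Z X : AlgSp.Space S}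
    (i : Z ⟶ X) (hi : AlgSp.RepWith @IsImmersion i.hom) (hq : AlgSp.IsQuasiCompactMor i.hom) :
    ∃ (Zbar : AlgSp.Space S) (j : Z ⟶ Zbar) (c : Zbar ⟶ X), j ≫ c = i ∧
      AlgSp.RepWith @IsOpenImmersion j.hom ∧ AlgSp.RepWith @IsClosedImmersion c.hom := by
  obtain ⟨V, p, hpe, hps⟩ := X.property.atlas
  have hqc : AlgSp.RepWith @QuasiCompact i.hom := (Groth.Agent.S9912.result i hi.1).2 hq
  obtain ⟨E, e, a, sqE⟩ := hi.1 p
  haveI : IsImmersion e.left := hi.2 _ _ e sqE
  haveI : QuasiCompact e.left := hqc.2 _ _ e sqE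
  haveI : Epi p := Groth.Agent.S9927.epi_of_repWith p hpe hps
  haveI : Epi a := Groth.Agent.Lib.Helper9.ToposLike.epi_of_isPullback sqE inferInstance
  -- the relation
  obtain ⟨R, t, s', sqR⟩ := hpe.1 p
  obtain ⟨s, rfl⟩ := (AlgSp.yon S).map_surjective s'
  haveI : Etale t.left := hpe.2 _ _ t sqR
  haveI : Etale s.left := hpe.2 _ _ s sqR.flip
  -- the ideal of the scheme theoretic image
  obtain ⟨J, hJdef⟩ : ∃ J : V.left.IdealSheafData, J = e.left.ker := ⟨_, rfl⟩
  have hJ : J.comap s.left = J.comap t.left := by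
    rw [hJdef, ← Groth.Agent.Lib.Helper12.SchImage.ker_fst_of_flat e.left s.left,
      ← Groth.Agent.Lib.Helper12.SchImage.ker_fst_of_flat e.left t.left]
    exact Groth.Agent.Lib.Helper12.SchImage.ker_fst_eq_of_isPullback i.hom p e a sqE s t sqR.w
  obtain ⟨z, hz⟩ : ∃ z : Over.mk (J.subschemeι ≫ V.hom) ⟶ V, z = Over.homMk J.subschemeι rfl :=
    ⟨_, rfl⟩
  have hzl : z.left = J.subschemeι := by rw [hz]; rfl
  haveI : IsClosedImmersion z.left := by rw [hzl]; infer_instance
  have hinv : ∀ (A : Over S) (a : A ⟶ Over.mk (J.subschemeι ≫ V.hom)) (b : A ⟶ V),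
      (AlgSp.yon S).map (a ≫ z) ≫ p = (AlgSp.yon S).map b ≫ p →
      ∃ b' : A ⟶ Over.mk (J.subschemeι ≫ V.hom), b' ≫ z = b := by
    intro A a b hab
    obtain ⟨ρ, hρ⟩ := (AlgSp.yon S).map_surjective (sqR.lift _ _ hab)
    have hρ1 : ρ ≫ s = a ≫ z := by
      apply (AlgSp.yon S).map_injective
      rw [Functor.map_comp, hρ, sqR.lift_fst]
    have hρ2 : ρ ≫ t = b := by
      apply (AlgSp.yon S).map_injective
      rw [Functor.map_comp, hρ, sqR.lift_snd]
    have ha : ρ.left ≫ s.left = a.left ≫ J.subschemeι := by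
      rw [← Over.comp_left, hρ1, Over.comp_left, hzl]
    obtain ⟨b', hb'⟩ := Groth.Agent.Lib.Helper12.SchImage.exists_lift_of_comap_eq J s.left t.left
      hJ ρ.left a.left ha
    have hb'l : b' ≫ J.subschemeι = b.left := by rw [hb', ← Over.comp_left, hρ2]
    refine ⟨Over.homMk b' ?_, ?_⟩
    · show b' ≫ (J.subschemeι ≫ V.hom) = A.hom
      rw [← Category.assoc, hb'l, Over.w b]
    · apply Over.OverMorphism.ext
      rw [Over.comp_left, hzl]
      exact hb'l
  obtain ⟨Zb, c, q, sqZ, hc⟩ :=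
    Groth.Agent.Lib.Helper12.ClosedSub.exists_closed_subspace p hpe hps z hinv
  have hqe : AlgSp.RepWith @Etale q :=
    MorphismProperty.of_isPullback (P := AlgSp.RepWith @Etale) sqZ.flip hpe
  have hqs : AlgSp.RepWith @Surjective q :=
    MorphismProperty.of_isPullback (P := AlgSp.RepWith @Surjective) sqZ.flip hps
  haveI : Mono c := Groth.Agent.S9928.mono_of_repWith @IsClosedImmersion
    (fun X Y g hg => by haveI : IsClosedImmersion g := hg; infer_instance) c hc
  -- the map `E ⟶ Ē`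
  obtain ⟨τ₀, hτ₀, hτ₀o⟩ : ∃ τ₀ : E.left ⟶ J.subscheme, τ₀ ≫ J.subschemeι = e.left ∧
      IsOpenImmersion τ₀ := by
    subst hJdef
    exact ⟨e.left.toImage, e.left.toImage_imageι, inferInstance⟩
  obtain ⟨τ, hτ⟩ : ∃ τ : E ⟶ Over.mk (J.subschemeι ≫ V.hom), τ = Over.homMk τ₀ (by
      show τ₀ ≫ J.subschemeι ≫ V.hom = E.hom
      rw [← Category.assoc, hτ₀, Over.w e]) := ⟨_, rfl⟩
  have hτl : τ.left = τ₀ := by rw [hτ]; rfl
  have hτz : τ ≫ z = e := by
    apply Over.OverMorphism.ext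
    rw [Over.comp_left, hτl, hzl]
    exact hτ₀
  haveI : IsOpenImmersion τ.left := by rw [hτl]; exact hτ₀o
  obtain ⟨j, hj, haj⟩ := Groth.Agent.Lib.Helper12.ClosedDescent.exists_factor_of_epi a
    ((AlgSp.yon S).map τ ≫ q) i.hom c (by
      rw [sqE.w, Category.assoc, sqZ.w, ← Category.assoc, ← Functor.map_comp, hτz])
  have big : IsPullback ((AlgSp.yon S).map τ ≫ (AlgSp.yon S).map z) a p (j ≫ c) := by
    rw [← Functor.map_comp, hτz, hj]
    exact sqE.flip
  have sqj : IsPullback a ((AlgSp.yon S).map τ) j q :=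
    (IsPullback.of_right big haj.symm sqZ.flip).flip
  have hjo : AlgSp.RepWith @IsOpenImmersion j :=
    Groth.Agent.Lib.Helper12.ImmDescent.repWith_isOpenImmersion_of_chart j q hqe hqs a _ sqj
      ((AlgSp.repWith_yon_map_iff _ _).2 inferInstance)
  have hZb : AlgSp.IsAlgSpace Zb := by
    rw [← AlgSp.isAlgSpaceP_obj_iff]
    refine Groth.Agent.S9876.result S X Zb.obj c.hom ?_
    intro T ξ
    obtain ⟨b, snd, fst, sq⟩ := hc.1 (ObjectProperty.homMk ξ : (AlgSp.yon S).obj T ⟶ X.obj)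
    exact ⟨b, snd, fst.hom, sq.map (sheafToPresheaf _ _)⟩
  refine ⟨⟨Zb, hZb⟩, ObjectProperty.homMk j, ObjectProperty.homMk c, ?_, hjo, hc⟩
  apply ObjectProperty.hom_ext
  exact hj

end Groth.Agent.S9935
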