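import Groth.Statements.S9939
import Mathlib
import Groth.Agent.S9938

set_option autoImplicit false
universe u
open CategoryTheory CategoryTheory.Limits AlgebraicGeometry
open AlgSp

namespace Groth.Agent.S9939


open CategoryTheory.Limits Opposite MorphismProperty Groth.Agent.S13210 Groth.Agent.S9938

variable {S : Scheme.{u}}

/-- a morphism of schemes over `S` which is injective on field-valued points over `S` is
universally injective. -/
lemma universallyInjective_of_injK {V T : Over S} (v : V ⟶ T) (h : InjK ((AlgSp.yon S).map v)) :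
    UniversallyInjective v.left := by
  have h31 : UniversallyInjective v.left ↔ ∀ (K : Type u) [Field K],
      Function.Injective (fun g : Spec (.of K) ⟶ V.left ↦ g ≫ v.left) :=
    (tfae_universallyInjective v.left).out 0 1
  rw [h31]
  intro K _ g₁ g₂ hg
  have hg' : g₁ ≫ v.left = g₂ ≫ v.left := hg
  have hw : g₂ ≫ V.hom = g₁ ≫ V.hom := by
    rw [← Over.w v, ← Category.assoc, ← Category.assoc, hg']
  let g₁' : Over.mk (g₁ ≫ V.hom) ⟶ V := Over.homMk g₁ rfl
  let g₂' : Over.mk (g₁ ≫ V.hom) ⟶ V := Over.homMk g₂ hw
  have h1 : (AlgSp.yon S).map g₁' ≫ (AlgSp.yon S).map v =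
      (AlgSp.yon S).map g₂' ≫ (AlgSp.yon S).map v := by
    rw [← Functor.map_comp, ← Functor.map_comp]
    congr 1
    ext
    exact hg'
  have h2 := (AlgSp.yon S).map_injective (h K (g₁ ≫ V.hom) h1)
  exact congrArg (fun m => m.left) h2



/-- For a morphism of algebraic spaces representable by schemes, representable universal injectivity is
equivalent to injectivity on K-valued points for every field K. -/
theorem result {S : Scheme.{u}} {X Y : AlgSp.Space S} (f : X ⟶ Y)
    (hf : AlgSp.Representable f.hom) :
    AlgSp.RepWith @UniversallyInjective f.hom ↔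
      ∀ (K : Type u) [Field K] (str : Spec (CommRingCat.of K) ⟶ S),
        Function.Injective (fun a : (AlgSp.yon S).obj (Over.mk str) ⟶ X.obj => a ≫ f.hom) := by
  constructor
  · intro h K _ str a b hab
    have hab' : a ≫ f.hom = b ≫ f.hom := hab
    obtain ⟨V, v, fst, sq⟩ := hf (a ≫ f.hom)
    haveI : UniversallyInjective v.left := h.2 _ _ v sq
    obtain ⟨σa, hσa⟩ := (AlgSp.yon S).map_surjective (sq.lift a (𝟙 _) (by rw [Category.id_comp]))
    obtain ⟨σb, hσb⟩ := (AlgSp.yon S).map_surjective
      (sq.lift b (𝟙 _) (by rw [Category.id_comp, hab']))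
    have h1 : σa ≫ v = 𝟙 _ := by
      apply (AlgSp.yon S).map_injective
      rw [Functor.map_comp, hσa, sq.lift_snd, CategoryTheory.Functor.map_id]
    have h2 : σb ≫ v = 𝟙 _ := by
      apply (AlgSp.yon S).map_injective
      rw [Functor.map_comp, hσb, sq.lift_snd, CategoryTheory.Functor.map_id]
    have h30 : UniversallyInjective v.left := inferInstance
    have h31 : UniversallyInjective v.left ↔ ∀ (K : Type u) [Field K],
        Function.Injective (fun g : Spec (.of K) ⟶ V.left ↦ g ≫ v.left) :=
      (tfae_universallyInjective v.left).out 0 1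
    have h3 := h31.1 h30 K
    have h4 : σa.left = σb.left := by
      apply h3
      show σa.left ≫ v.left = σb.left ≫ v.left
      rw [← Over.comp_left, ← Over.comp_left, h1, h2]
    have h5 : σa = σb := by
      ext
      exact h4
    have h6 : a = (AlgSp.yon S).map σa ≫ fst := by rw [hσa, sq.lift_fst]
    have h7 : b = (AlgSp.yon S).map σb ≫ fst := by rw [hσb, sq.lift_fst]
    rw [h6, h7, h5]
  · intro h
    refine ⟨hf, fun T V g fst v sq => ?_⟩
    have h1 : InjK ((AlgSp.yon S).map v) := injK_of_isPullback sq h
    have h2 : UniversallyInjective v.left := universallyInjective_of_injK v h1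
    exact h2

end Groth.Agent.S9939
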