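import Groth.Statements.S9940
import Mathlib
import Groth.Agent.S9874
import Groth.Agent.S10175

set_option autoImplicit false
universe u
open CategoryTheory CategoryTheory.Limits AlgebraicGeometry
open AlgSp

namespace Groth.Agent.S9940


open CategoryTheory.Limits Opposite MorphismProperty Groth.Agent.S13210

variable {S : Scheme.{u}}

/-- universal injectivity descends along a base change which is surjective on points. -/
lemma isUnivInjectiveMor_of_surjective {X Y H P : AlgSp.Sp S} (hY : AlgSp.Representable (Limits.diag Y))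
    (hH : AlgSp.IsAlgSpace H) (f : X ⟶ Y) (g : H ⟶ Y)
    (hg : Function.Surjective (AlgSp.Points.map g)) (fst : P ⟶ X) (snd : P ⟶ H)
    (sq : IsPullback fst snd f g) (h : AlgSp.IsUnivInjectiveMor snd) : AlgSp.IsUnivInjectiveMor f := by
  intro W W' hW c a b sqW w'₁ w'₂ hw
  obtain ⟨z, hz⟩ := hg (AlgSp.Points.map c (AlgSp.Points.map b w'₁))
  have sqZ := IsPullback.of_hasPullback c g
  obtain ⟨v, hv1, hv2⟩ := Groth.Agent.S10175.exists_point_of_isPullback sqZ _ z hz.symm
  have sqZ' := IsPullback.of_hasPullback b (pullback.fst c g)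
  obtain ⟨v'₁, h11, h12⟩ := Groth.Agent.S10175.exists_point_of_isPullback sqZ' w'₁ v hv1.symm
  obtain ⟨v'₂, h21, h22⟩ := Groth.Agent.S10175.exists_point_of_isPullback sqZ' w'₂ v
    (by rw [hv1, hw])
  have hWZ : AlgSp.IsAlgSpace (pullback c g) :=
    Groth.Agent.S9874.isAlgSpace_of_isPullback hY hW hH sqZ
  have big := sqZ'.paste_horiz sqW
  rw [pullback.condition] at big
  have hcomm : (pullback.fst b (pullback.fst c g) ≫ a) ≫ f =
      (pullback.snd b (pullback.fst c g) ≫ pullback.snd c g) ≫ g := by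
    rw [Category.assoc (f := pullback.snd b (pullback.fst c g)), ← big.w]
  have hl1 : sq.lift _ _ hcomm ≫ fst = pullback.fst b (pullback.fst c g) ≫ a := sq.lift_fst _ _ _
  have hl2 : sq.lift _ _ hcomm ≫ snd = pullback.snd b (pullback.fst c g) ≫ pullback.snd c g :=
    sq.lift_snd _ _ _
  have sq' : IsPullback (sq.lift _ _ hcomm) (pullback.snd b (pullback.fst c g)) snd
      (pullback.snd c g) := by
    refine IsPullback.of_right ?_ hl2 sq
    rw [hl1]
    exact big
  have hinj := h hWZ _ _ _ sq'
  have : v'₁ = v'₂ := hinj (by rw [h12, h22])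
  rw [← h11, ← h21, this]



/-- (4) ⇒ (1): universal injectivity of a morphism of algebraic spaces descends along a surjective base
change from a scheme. -/
theorem result {S : Scheme.{u}} {X Y : AlgSp.Space S} (f : X ⟶ Y)
    (Z : Over S) (g : (AlgSp.yon S).obj Z ⟶ Y.obj) (hg : AlgSp.IsSurjectiveMor g) {P : AlgSp.Sp S}
    (fst : P ⟶ X.obj) (snd : P ⟶ (AlgSp.yon S).obj Z) (sq : IsPullback fst snd f.hom g)
    (h : AlgSp.IsUnivInjectiveMor snd) : AlgSp.IsUnivInjectiveMor f.hom := by
  exact isUnivInjectiveMor_of_surjective Y.property.diag (AlgSp.IsAlgSpace.yon_obj Z) f.hom g hg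
    fst snd sq h

end Groth.Agent.S9940
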