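import Groth.Statements.S9942
import Mathlib
import Groth.Agent.S9943
import Groth.Agent.Lib.Helper12ZarGlue2

set_option autoImplicit false
universe u
open CategoryTheory CategoryTheory.Limits AlgebraicGeometry
open AlgSp

namespace Groth.Agent.S9942

/-- (3) ⇒ (2): if X x_Y V is an affine scheme for every affine scheme V etale over Y, then f : X -> Y is
affine. -/
theorem result {S : Scheme.{u}} {X Y : AlgSp.Space S} (f : X ⟶ Y)
    (h : ∀ (V : Over S), IsAffine V.left → ∀ (b : (AlgSp.yon S).obj V ⟶ Y.obj), AlgSp.RepWith @Etale b →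
      ∀ (P : AlgSp.Sp S) (fst : P ⟶ X.obj) (snd : P ⟶ (AlgSp.yon S).obj V), IsPullback fst snd f.hom b →
      ∃ (W : Over S), IsAffine W.left ∧ Nonempty ((AlgSp.yon S).obj W ≅ P)) :
    AlgSp.IsAffineMor f.hom := by
  obtain ⟨U, q, hqe, hqs⟩ := Y.property.atlas
  have sqU := IsPullback.of_hasPullback f.hom q
  refine Groth.Agent.S9943.result f U q hqe hqs (pullback.fst f.hom q) (pullback.snd f.hom q) sqU ?_
  intro Z hZ g'
  have : IsAffine Z.left := hZ
  obtain ⟨g₀, rfl⟩ := (AlgSp.yon S).map_surjective g'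
  let 𝒰 := U.left.affineCover
  -- the index set of the affine refinement
  let ι : Type u := Σ i : 𝒰.I₀, (pullback g₀.left (𝒰.f i)).affineCover.I₀
  let Zk : ι → Scheme.{u} := fun k => (pullback g₀.left (𝒰.f k.1)).affineCover.X k.2
  let jk : ∀ k : ι, Zk k ⟶ Z.left := fun k =>
    (pullback g₀.left (𝒰.f k.1)).affineCover.f k.2 ≫ pullback.fst g₀.left (𝒰.f k.1)
  let uk : ∀ k : ι, Zk k ⟶ 𝒰.X k.1 := fun k =>
    (pullback g₀.left (𝒰.f k.1)).affineCover.f k.2 ≫ pullback.snd g₀.left (𝒰.f k.1)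
  have hju : ∀ k, jk k ≫ g₀.left = uk k ≫ 𝒰.f k.1 := fun k => by
    simp only [jk, uk, Category.assoc, pullback.condition]
  have hcov : ∀ z : Z.left, ∃ k, z ∈ Set.range (jk k) := by
    intro z
    obtain ⟨y, hy⟩ := 𝒰.covers (g₀.left z)
    obtain ⟨w, hw1, -⟩ := Scheme.Pullback.exists_preimage_pullback (f := g₀.left)
      (g := 𝒰.f (𝒰.idx (g₀.left z))) z y hy.symm
    obtain ⟨v, hv⟩ := (pullback g₀.left (𝒰.f (𝒰.idx (g₀.left z)))).affineCover.covers w
    refine ⟨⟨𝒰.idx (g₀.left z), _⟩, v, ?_⟩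
    change ((pullback g₀.left (𝒰.f _)).affineCover.f _ ≫ pullback.fst g₀.left (𝒰.f _)) v = z
    rw [Scheme.Hom.comp_apply, hv, hw1]
  -- objects over `S`
  let Ui : 𝒰.I₀ → Over S := fun i => Over.mk (𝒰.f i ≫ U.hom)
  let ιU : ∀ i, Ui i ⟶ U := fun i => Over.homMk (𝒰.f i) rfl
  have hUi : ∀ i, IsAffine (Ui i).left := fun i => inferInstanceAs (IsAffine (𝒰.X i))
  let b : ∀ i, (AlgSp.yon S).obj (Ui i) ⟶ Y.obj := fun i => (AlgSp.yon S).map (ιU i) ≫ q
  have hb : ∀ i, AlgSp.RepWith @Etale (b i) := fun i =>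
    MorphismProperty.comp_mem _ _ _
      ((AlgSp.repWith_yon_map_iff @Etale (ιU i)).2
        (inferInstanceAs (Etale (𝒰.f i)))) hqe
  choose Wi hWi ei using fun i => h (Ui i) (hUi i) (b i) (hb i) (pullback f.hom (b i))
    (pullback.fst f.hom (b i)) (pullback.snd f.hom (b i)) (IsPullback.of_hasPullback _ _)
  let wU : ∀ i, Wi i ⟶ Ui i := fun i =>
    (AlgSp.yon S).preimage ((ei i).some.hom ≫ pullback.snd f.hom (b i))
  have hwU : ∀ i, (AlgSp.yon S).map (wU i) = (ei i).some.hom ≫ pullback.snd f.hom (b i) :=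
    fun i => (AlgSp.yon S).map_preimage _
  have sqWi : ∀ i, IsPullback ((ei i).some.hom ≫ pullback.fst f.hom (b i))
      ((AlgSp.yon S).map (wU i)) f.hom (b i) := fun i => by
    rw [hwU]
    exact IsPullback.of_iso (IsPullback.of_hasPullback f.hom (b i)) (ei i).some.symm (Iso.refl _)
      (Iso.refl _) (Iso.refl _) (by simp) (by simp) (by simp) (by simp)
  let Zk' : ι → Over S := fun k => Over.mk (jk k ≫ Z.hom)
  let jO : ∀ k, Zk' k ⟶ Z := fun k => Over.homMk (jk k) rfl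
  let uO : ∀ k : ι, Zk' k ⟶ Ui k.1 := fun k => Over.homMk (uk k) (by
    change uk k ≫ 𝒰.f k.1 ≫ U.hom = jk k ≫ Z.hom
    rw [← Category.assoc, ← hju, Category.assoc, Over.w g₀])
  have huO : ∀ k : ι, uO k ≫ ιU k.1 = jO k ≫ g₀ := fun k => by
    apply Over.OverMorphism.ext
    exact (hju k).symm
  have : ∀ k, IsOpenImmersion (jO k).left := fun k =>
    inferInstanceAs (IsOpenImmersion ((pullback g₀.left (𝒰.f k.1)).affineCover.f k.2 ≫
      pullback.fst g₀.left (𝒰.f k.1)))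
  have hZk : ∀ k, IsAffine (Zk' k).left := fun k =>
    inferInstanceAs (IsAffine ((pullback g₀.left (𝒰.f k.1)).affineCover.X k.2))
  let Wk : ι → Over S := fun k => pullback (wU k.1) (uO k)
  let wk : ∀ k, Wk k ⟶ Zk' k := fun k => pullback.snd (wU k.1) (uO k)
  let ak : ∀ k : ι, (AlgSp.yon S).obj (Wk k) ⟶ X.obj := fun k =>
    (AlgSp.yon S).map (pullback.fst (wU k.1) (uO k)) ≫ (ei k.1).some.hom ≫
      pullback.fst f.hom (b k.1)
  have sqk : ∀ k, IsPullback (ak k) ((AlgSp.yon S).map (wk k)) f.hom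
      ((AlgSp.yon S).map (jO k) ≫ ((AlgSp.yon S).map g₀ ≫ q)) := fun k => by
    have h1 := ((IsPullback.of_hasPullback (wU k.1) (uO k)).map (AlgSp.yon S)).paste_horiz
      (sqWi k.1)
    have h2 : (AlgSp.yon S).map (uO k) ≫ b k.1 =
        (AlgSp.yon S).map (jO k) ≫ ((AlgSp.yon S).map g₀ ≫ q) := by
      simp only [b]
      rw [← Category.assoc, ← Functor.map_comp, huO, Functor.map_comp, Category.assoc]
    rw [h2] at h1
    exact h1
  have hWk : ∀ k, IsAffine (Wk k).left := fun k => by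
    have hp : IsPullback (pullback.fst (wU k.1) (uO k)).left (pullback.snd (wU k.1) (uO k)).left
        (wU k.1).left (uO k).left :=
      (IsPullback.of_hasPullback (wU k.1) (uO k)).map (Over.forget S)
    have : IsAffine (Wi k.1).left := hWi k.1
    have : IsAffine (Zk' k).left := hZk k
    have : IsAffine (Ui k.1).left := hUi k.1
    exact IsAffine.of_isPullback hp
  obtain ⟨W₀, w₀, a₀, sq₀, hκ⟩ := Groth.Agent.Lib.Helper12.ZarGlue.exists_rep_of_openCover f.hom
    ((AlgSp.yon S).map g₀ ≫ q) Zk' jO Wk wk ak sqk hcov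
  choose κ hκ1 _ using hκ
  have hw₀ : IsAffineHom w₀.left :=
    Groth.Agent.Lib.Helper12.ZarGlue.property_of_openCover @IsAffineHom w₀ Zk' jO hcov Wk wk κ hκ1
      (fun k => by
        have : IsAffine (Wk k).left := hWk k
        have : IsAffine (Zk' k).left := hZk k
        infer_instance)
  have hw : a₀ ≫ f.hom = ((AlgSp.yon S).map w₀ ≫ (AlgSp.yon S).map g₀) ≫ q := by
    rw [sq₀.w, Category.assoc]
  refine ⟨W₀, w₀, sqU.lift _ _ hw, ?_, isAffine_of_isAffineHom w₀.left⟩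
  refine IsPullback.of_right ?_ (sqU.lift_snd _ _ hw) sqU
  rw [sqU.lift_fst]
  exact sq₀

end Groth.Agent.S9942
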