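import Groth.Statements.S9945
import Mathlib
import Groth.Agent.S9942
import Groth.Agent.Lib.Helper12QSep

set_option autoImplicit false
universe u
open CategoryTheory CategoryTheory.Limits AlgebraicGeometry
open AlgSp

namespace Groth.Agent.S9945

/-- Over a base scheme with quasi-separated underlying space, every morphism from the spectrum of an
Artinian ring to an algebraic space quasi-separated over S is affine. (The published statement
assumes X quasi-separated in the absolute sense over any base; this row assumes the base
quasi-separated and X quasi-separated over it, which on such bases is the same condition.) -/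
theorem result {S : Scheme.{u}} [QuasiSeparatedSpace ↥S] (X : AlgSp.Space S)
    (hX : AlgSp.IsQuasiSeparatedSp X.obj) (A : Type u) [CommRing A] [IsArtinianRing A]
    (str : Spec (CommRingCat.of A) ⟶ S) (a : (AlgSp.yon S).obj (Over.mk str) ⟶ X.obj) :
    AlgSp.IsAffineMor a := by
  have key : ∀ (T : Scheme.{u}) (g : T ⟶ Spec (CommRingCat.of A)), Etale g → CompactSpace T →
      IsAffine T := by
    intro T g hg hT
    have h1 : LocallyQuasiFinite g := by
      constructor
      intro U hU V hV e
      have h1 := g.etale_appLE hU hV e
      algebraize [(g.appLE U V e).hom]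
      have : Algebra.Etale Γ(Spec (CommRingCat.of A), U) Γ(T, V) := h1
      exact RingHom.quasiFinite_algebraMap.mpr inferInstance
    have h2 : QuasiCompact g := inferInstance
    have hfin : Finite (Spec (CommRingCat.of A)) := inferInstanceAs (Finite (PrimeSpectrum A))
    have hdisc : DiscreteTopology (Spec (CommRingCat.of A)) :=
      inferInstanceAs (DiscreteTopology (PrimeSpectrum A))
    have hF : (g ⁻¹' (Set.univ : Set (Spec (CommRingCat.of A)))).Finite :=
      g.finite_preimage Set.finite_univ
    have hD : _root_.IsDiscrete (g ⁻¹' (Set.univ : Set (Spec (CommRingCat.of A)))) :=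
      g.isDiscrete_preimage (isDiscrete_univ_iff.mpr hdisc)
    rw [Set.preimage_univ] at hF hD
    have : Finite T := Set.finite_univ_iff.mp hF
    have : DiscreteTopology T := isDiscrete_univ_iff.mp hD
    infer_instance
  have main := Groth.Agent.S9942.result
    (X := ⟨(AlgSp.yon S).obj (Over.mk str), AlgSp.IsAlgSpace.yon_obj (Over.mk str)⟩) (Y := X)
    (ObjectProperty.homMk a) (by
    intro V hV b hb P fst snd sq
    obtain ⟨T, t', fstT, sqT⟩ := hb.1 a
    have het : Etale t'.left := hb.2 a fstT t' sqT
    obtain ⟨tV, rfl⟩ := (AlgSp.yon S).map_surjective fstT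
    have : QuasiCompact (Over.mk str).hom := (inferInstance : QuasiCompact str)
    have hqc := Groth.Agent.Lib.Helper12.QSep.repWith_quasiCompact_of_quasiSeparated hX a
      (X.property.representable_from_yon a)
    have : QuasiCompact tV.left := hqc.2 b ((AlgSp.yon S).map t') tV sqT.flip
    have : IsAffine V.left := hV
    have hc : CompactSpace T.left := QuasiCompact.compactSpace_of_compactSpace tV.left
    exact ⟨T, key T.left t'.left het hc, ⟨sqT.flip.isoIsPullback _ _ sq⟩⟩)
  exact main

end Groth.Agent.S9945
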