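import Groth.Statements.S9946
import Mathlib
import Groth.Agent.Lib.Helper15FpqcQAff
import Groth.Agent.Lib.Helper15DiagDescent
import Groth.Agent.Lib.Helper15SrcCancel
import Groth.Agent.Lib.Helper12ZarGlue
import Groth.Agent.S9874

set_option autoImplicit false
universe u
open CategoryTheory CategoryTheory.Limits AlgebraicGeometry
open AlgSp

namespace Groth.Agent.S9946

/-- (3) ⇒ (1): if the base change of f along a surjective etale map from a scheme is quasi-affine, then
f is representable by schemes and quasi-affine. -/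
theorem result {S : Scheme.{u}} {X Y : AlgSp.Space S} (f : X ⟶ Y)
    (V : Over S) (p : (AlgSp.yon S).obj V ⟶ Y.obj) (hp : AlgSp.RepWith @Etale p) (hps : AlgSp.RepWith @Surjective p)
    {P : AlgSp.Sp S} (fst : P ⟶ X.obj) (snd : P ⟶ (AlgSp.yon S).obj V) (sq : IsPullback fst snd f.hom p)
    (h : AlgSp.IsQuasiAffineMor snd) : AlgSp.Representable f.hom ∧ AlgSp.IsQuasiAffineMor f.hom := by
  have hloc := Groth.Agent.Lib.Helper15DiagDescent.isLocalOnBase_fppf_of_fpqc _
    (Groth.Agent.Lib.Helper15FpqcQAff.isLocalOnBase_fpqc_isQuasiAffineMor (S := S))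
  have hP : AlgSp.IsAlgSpace P :=
    Groth.Agent.S9874.isAlgSpace_of_isPullback Y.property.diag X.property
      (AlgSp.IsAlgSpace.yon_obj V) sq
  have hqa : AlgSp.IsQuasiAffineMor f.hom :=
    (hloc (fun _ : PUnit.{u + 1} => (AlgSp.yon S).obj V) (fun _ => p) Y.property
      (fun _ => AlgSp.IsAlgSpace.yon_obj V)
      (Groth.Agent.Lib.Helper15SrcCancel.isFppfCover_atlas Y p hp hps) f.hom X.property
      (fun _ => P) (fun _ => snd) (fun _ => fst) (fun _ => hP) (fun _ => sq)).2 (fun _ => h)
  refine ⟨?_, hqa⟩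
  exact (Groth.Agent.Lib.Helper12.ZarGlue.repWith_of_affine @QuasiCompact f.hom (fun Z hZ g => by
    obtain ⟨W, i, fst', sq', hW⟩ := hqa hZ g
    have : IsAffine Z.left := hZ
    have : CompactSpace W.left := hW.toCompactSpace
    exact ⟨W, i, fst', sq', HasAffineProperty.iff_of_isAffine.mpr ‹CompactSpace W.left›⟩)).1

end Groth.Agent.S9946
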