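import Groth.Statements.S9955
import Mathlib
import Groth.Agent.S9874
import Groth.Agent.S10176
import Groth.Agent.S10177
import Groth.Agent.Lib.Helper12LocPCases
import Groth.Agent.Lib.Helper12Jacobson

set_option autoImplicit false
universe u
open CategoryTheory CategoryTheory.Limits AlgebraicGeometry
open AlgSp

namespace Groth.Agent.S9955


open Groth.Agent.Lib.Helper12 in
/-- a locally noetherian scheme all of whose points are closed is locally artinian. -/
lemma isLocallyArtinian_of_closed_points (W : Scheme.{u}) [IsLocallyNoetherian W]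
    (h : ∀ w : W, IsClosed ({w} : Set W)) : IsLocallyArtinian W := by
  apply IsLocallyArtinian.of_topologicalKrullDim_le_zero
  rw [topologicalKrullDim, Order.krullDim_nonpos_iff_forall_isMin]
  intro Z Z' hZ'
  have hη := Z.isIrreducible.closure_genericPoint Z.isClosed
  rw [(h _).closure_eq] at hη
  obtain ⟨z, hz⟩ := Z'.isIrreducible.nonempty
  have hzZ : z ∈ (Z : Set W) := hZ' hz
  rw [← hη, Set.mem_singleton_iff] at hzZ
  intro x hx
  have hxZ : x ∈ (Z : Set W) := hx
  rw [← hη, Set.mem_singleton_iff] at hxZ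
  rw [hxZ, ← hzZ]
  exact hz

/-- a scheme locally of finite type over a field with an etale map to a sheaf whose space of points
is discrete is discrete. -/
lemma discrete_of_etale_chart {S : Scheme.{u}} {Z : AlgSp.Sp S} [DiscreteTopology (AlgSp.Points Z)]
    {W : Over S} (g : (AlgSp.yon S).obj W ⟶ Z) (hg : AlgSp.RepWith @Etale g) {k : Type u} [Field k]
    (π : W.left ⟶ Spec (CommRingCat.of k)) [LocallyOfFiniteType π] : DiscreteTopology ↥W.left := by
  haveI : IsLocallyNoetherian W.left := LocallyOfFiniteType.isLocallyNoetherian π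
  haveI : JacobsonSpace ↥W.left := LocallyOfFiniteType.jacobsonSpace π
  haveI : IsLocallyArtinian W.left := by
    apply isLocallyArtinian_of_closed_points
    intro w'
    obtain ⟨w, hw1, hw2⟩ := nonempty_inter_closedPoints (Z := closure ({w'} : Set ↥W.left))
      ⟨w', subset_closure rfl⟩ isClosed_closure.isLocallyClosed
    have hspec : w' ⤳ w := specializes_iff_mem_closure.2 hw1
    have himg : AlgSp.Points.ofPt g w' = AlgSp.Points.ofPt g w :=
      (hspec.map (AlgSp.Points.continuous_ofPt g)).eq
    exact Groth.Agent.Lib.Helper12.Jac.isClosed_of_closed_chart g hg g hg w' w himg hw2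
  infer_instance



/-- A morphism locally of finite type is locally quasi-finite if and only if all its fibres over
field-valued points have discrete spaces of points. -/
theorem result {S : Scheme.{u}} {X Y : AlgSp.Space S} (f : X ⟶ Y)
    (hf : AlgSp.LocP @LocallyOfFiniteType f.hom) :
    AlgSp.LocP ((@LocallyQuasiFinite : MorphismProperty Scheme.{u}) ⊓ @LocallyOfFiniteType) f.hom ↔
      ∀ (k : Type u) [Field k] (str : Spec (CommRingCat.of k) ⟶ S) (y : (AlgSp.yon S).obj (Over.mk str) ⟶ Y.obj)
        (P : AlgSp.Sp S) (fst : P ⟶ X.obj) (snd : P ⟶ (AlgSp.yon S).obj (Over.mk str)),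
        IsPullback fst snd f.hom y → DiscreteTopology (AlgSp.Points P) := by
  have hg := Groth.Agent.Lib.Helper12.LocPCases.good_lqf.{u}
  constructor
  · intro hlqf k _ str y P fst snd sq
    have hκ := AlgSp.IsAlgSpace.yon_obj (S := S) (Over.mk str)
    have hP : AlgSp.IsAlgSpace P :=
      Groth.Agent.S9874.isAlgSpace_of_isPullback Y.property.diag X.property hκ sq
    have hsnd : AlgSp.LocP ((@LocallyQuasiFinite : MorphismProperty Scheme.{u}) ⊓ @LocallyOfFiniteType) snd :=
      hg.locP_baseChange X.property Y.property hκ sq hlqf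
    obtain ⟨W, q, hqe, hqs⟩ := hP.atlas
    obtain ⟨m, hm⟩ := (AlgSp.yon S).map_surjective (q ≫ snd)
    have hPm := hsnd q (𝟙 _) m hqe (AlgSp.repWith_id _ _) (by rw [hm, Category.comp_id])
    haveI : LocallyQuasiFinite m.left := hPm.1
    haveI : IsLocallyArtinian (Over.mk str).left :=
      (inferInstance : IsLocallyArtinian (Spec (CommRingCat.of k)))
    haveI : IsLocallyArtinian W.left := IsLocallyArtinian.of_locallyQuasiFinite m.left
    haveI : DiscreteTopology ↥W.left := inferInstance
    rw [discreteTopology_iff_isOpen_singleton]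
    intro p
    obtain ⟨w, rfl⟩ := Groth.Agent.S10177.surjective_ofPt q hqs p
    have := Groth.Agent.S10176.isOpenMap_ofPt q hqe {w} (isOpen_discrete _)
    rwa [Set.image_singleton] at this
  · intro H U V a b h ha hb comm
    have hlft : LocallyOfFiniteType h.left := hf a b h ha hb comm
    refine ⟨?_, hlft⟩
    rw [locallyQuasiFinite_iff_isDiscrete_preimage_singleton]
    intro v
    obtain ⟨T, t1, t2', sqT⟩ := hb.1 (a ≫ f.hom)
    obtain ⟨t2, rfl⟩ := (AlgSp.yon S).map_surjective t2'
    haveI : Etale t1.left := hb.2 _ _ t1 sqT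
    obtain ⟨σ, hσ⟩ := (AlgSp.yon S).map_surjective
      (sqT.lift ((AlgSp.yon S).map h) (𝟙 _) (by rw [Category.id_comp]; exact comm.symm))
    have hσ1 : σ ≫ t2 = h := by
      apply (AlgSp.yon S).map_injective
      rw [Functor.map_comp, hσ, sqT.lift_fst]
    have hσ2 : σ ≫ t1 = 𝟙 U := by
      apply (AlgSp.yon S).map_injective
      rw [Functor.map_comp, hσ, sqT.lift_snd]
      exact ((AlgSp.yon S).map_id U).symm
    have hat1 : AlgSp.RepWith @Etale ((AlgSp.yon S).map t1 ≫ a) :=
      (AlgSp.RepWith @Etale).comp_mem _ _ ((AlgSp.repWith_yon_map_iff _ _).2 inferInstance) ha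
    have hlft2 : LocallyOfFiniteType t2.left :=
      hf ((AlgSp.yon S).map t1 ≫ a) b t2 hat1 hb (by rw [Category.assoc]; exact sqT.w.symm)
    suffices hd : _root_.IsDiscrete (t2.left ⁻¹' {v}) by
      have hinj : Function.Injective σ.left := by
        intro x x' hxx'
        have h1 : ∀ z, t1.left (σ.left z) = z := fun z => by
          rw [← Scheme.Hom.comp_apply, ← Over.comp_left, hσ2]; rfl
        rw [← h1 x, ← h1 x', hxx']
      have h2 := hd.preimage (f := σ.left) σ.left.continuous.continuousOn hinj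
      convert h2 using 1
      ext x
      simp only [Set.mem_preimage, Set.mem_singleton_iff]
      rw [← Scheme.Hom.comp_apply, ← Over.comp_left, hσ1]
    -- the fibre of `t2` over `v`
    obtain ⟨κS, hκS⟩ : ∃ κS : Over S, κS = Over.mk (V.left.fromSpecResidueField v ≫ V.hom) := ⟨_, rfl⟩
    obtain ⟨j, hj⟩ : ∃ j : Over.mk (V.left.fromSpecResidueField v ≫ V.hom) ⟶ V,
      j = Over.homMk (V.left.fromSpecResidueField v) rfl := ⟨_, rfl⟩
    have hπw : t2.left.fiberToSpecResidueField v ≫ (V.left.fromSpecResidueField v ≫ V.hom) =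
        t2.left.fiberι v ≫ T.hom := by
      rw [← Category.assoc, ← Scheme.Hom.fiber_fac, Category.assoc, Over.w t2]
    obtain ⟨ι, hι⟩ : ∃ ι : Over.mk (t2.left.fiberι v ≫ T.hom) ⟶ T,
      ι = Over.homMk (t2.left.fiberι v) rfl := ⟨_, rfl⟩
    obtain ⟨π, hπ⟩ : ∃ π : Over.mk (t2.left.fiberι v ≫ T.hom) ⟶
        Over.mk (V.left.fromSpecResidueField v ≫ V.hom),
      π = Over.homMk (t2.left.fiberToSpecResidueField v) hπw := ⟨_, rfl⟩
    have sqTv : IsPullback ι π t2 j := by
      refine IsPullback.of_map (Over.forget S) ?_ ?_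
      · apply Over.OverMorphism.ext
        rw [hι, hπ, hj]
        exact Scheme.Hom.fiber_fac _ _
      · rw [hι, hπ, hj]
        exact IsPullback.of_hasPullback t2.left (V.left.fromSpecResidueField v)
    have big : IsPullback ((AlgSp.yon S).map ι ≫ (AlgSp.yon S).map t1) ((AlgSp.yon S).map π)
        (a ≫ f.hom) ((AlgSp.yon S).map j ≫ b) := (sqTv.map (AlgSp.yon S)).paste_horiz sqT.flip
    have sqP := IsPullback.of_hasPullback f.hom ((AlgSp.yon S).map j ≫ b)
    obtain ⟨g, hg1, hg2⟩ : ∃ g : (AlgSp.yon S).obj (Over.mk (t2.left.fiberι v ≫ T.hom)) ⟶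
        pullback f.hom ((AlgSp.yon S).map j ≫ b),
        g ≫ pullback.fst _ _ = ((AlgSp.yon S).map ι ≫ (AlgSp.yon S).map t1) ≫ a ∧
        g ≫ pullback.snd _ _ = (AlgSp.yon S).map π :=
      ⟨sqP.lift (((AlgSp.yon S).map ι ≫ (AlgSp.yon S).map t1) ≫ a) ((AlgSp.yon S).map π)
        (by rw [Category.assoc]; exact big.w), sqP.lift_fst _ _ _, sqP.lift_snd _ _ _⟩
    have sqg : IsPullback g ((AlgSp.yon S).map ι ≫ (AlgSp.yon S).map t1)
        (pullback.fst f.hom ((AlgSp.yon S).map j ≫ b)) a := by
      refine IsPullback.of_right ?_ hg1 sqP.flip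
      rw [hg2]
      exact big.flip
    have hge : AlgSp.RepWith @Etale g :=
      MorphismProperty.of_isPullback (P := AlgSp.RepWith @Etale) sqg.flip ha
    haveI : DiscreteTopology (AlgSp.Points (pullback f.hom ((AlgSp.yon S).map j ≫ b))) :=
      H _ _ _ _ _ _ sqP
    haveI : LocallyOfFiniteType (t2.left.fiberToSpecResidueField v) :=
      (inferInstance : LocallyOfFiniteType (pullback.snd t2.left (V.left.fromSpecResidueField v)))
    haveI : DiscreteTopology ↥(t2.left.fiber v) :=
      discrete_of_etale_chart (W := Over.mk (t2.left.fiberι v ≫ T.hom)) g hge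
        (k := ↥(V.left.residueField v)) (t2.left.fiberToSpecResidueField v)
    haveI : DiscreteTopology ↥(t2.left ⁻¹' {v}) := (t2.left.fiberHomeo v).discreteTopology
    exact isDiscrete_iff_discreteTopology.2 inferInstance

end Groth.Agent.S9955
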