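import Groth.Statements.S9957
import Mathlib
import Groth.Agent.S9921
import Groth.Agent.S9951

set_option autoImplicit false
universe u
open CategoryTheory CategoryTheory.Limits AlgebraicGeometry
open AlgSp

namespace Groth.Agent.S9957


open Groth.Agent.S9900 in
/-- a quasi-separated morphism to a space quasi-separated over `S` has source quasi-separated over `S`. -/
lemma isQuasiSeparatedSp_of_mor {S : Scheme.{u}} {X Y : AlgSp.Sp S}
    (hX : AlgSp.IsAlgSpace X) (hY : AlgSp.IsAlgSpace Y) (f : X ⟶ Y)
    (hf : AlgSp.IsQuasiSeparatedMor f) (hYs : AlgSp.IsQuasiSeparatedSp Y) :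
    AlgSp.IsQuasiSeparatedSp X := by
  refine Groth.Agent.S9921.repWith_diag_of_isEqLocus @QuasiCompact (fun {T} a b => ?_)
  obtain ⟨EY, eY, heY⟩ := exists_isEqLocus hYs.1 (a ≫ f) (b ≫ f)
  haveI : QuasiCompact eY.left := Groth.Agent.S9921.property_of_isEqLocus hYs heY
  haveI : Mono eY := heY.1
  have hab : ((AlgSp.yon S).map eY ≫ a) ≫ f = ((AlgSp.yon S).map eY ≫ b) ≫ f := by
    rw [Category.assoc, Category.assoc]
    exact heY.eq
  obtain ⟨E, e, pr, sq⟩ := hf.1 (pullback.lift _ _ hab)
  haveI : QuasiCompact e.left := hf.2 _ _ e sq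
  have h1 : pr = (AlgSp.yon S).map e ≫ (AlgSp.yon S).map eY ≫ a := by
    have := congrArg (· ≫ pullback.fst f f) sq.w
    simp only [Category.assoc, pullback.diagonal_fst, Category.comp_id] at this
    rw [this, pullback.lift_fst]
  have h2 : pr = (AlgSp.yon S).map e ≫ (AlgSp.yon S).map eY ≫ b := by
    have := congrArg (· ≫ pullback.snd f f) sq.w
    simp only [Category.assoc, pullback.diagonal_snd, Category.comp_id] at this
    rw [this, pullback.lift_snd]
  haveI : Mono (pullback.diagonal f) := inferInstance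
  haveI : Mono ((AlgSp.yon S).map e) := sq.mono_snd_of_mono
  haveI : Mono e := (AlgSp.yon S).mono_of_mono_map inferInstance
  refine ⟨E, e ≫ eY, ⟨mono_comp _ _, fun T' t => ⟨fun ht => ?_, ?_⟩⟩, ?_⟩
  · obtain ⟨t1, rfl⟩ := (heY.2 T' t).1 (by
      rw [← Category.assoc, ht, Category.assoc])
    have hc : (AlgSp.yon S).map t1 ≫ pullback.lift _ _ hab =
        ((AlgSp.yon S).map t1 ≫ (AlgSp.yon S).map eY ≫ a) ≫ pullback.diagonal f := by
      apply pullback.hom_ext
      · rw [Category.assoc, pullback.lift_fst, Category.assoc, pullback.diagonal_fst, Category.comp_id]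
      · rw [Category.assoc, pullback.lift_snd, Category.assoc, pullback.diagonal_snd, Category.comp_id,
          ← Functor.map_comp_assoc, ← ht, Functor.map_comp_assoc]
    obtain ⟨l, -, hl2⟩ := sq.exists_lift _ _ hc.symm
    obtain ⟨t', rfl⟩ := (AlgSp.yon S).map_surjective l
    refine ⟨t', ?_⟩
    rw [← Category.assoc]
    congr 1
    apply (AlgSp.yon S).map_injective
    rw [Functor.map_comp]
    exact hl2
  · rintro ⟨t', rfl⟩
    rw [Functor.map_comp, Functor.map_comp, Category.assoc, Category.assoc, ← h1, h2,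
      Category.assoc, Category.assoc]
  · rw [Over.comp_left]
    infer_instance



/-- The source of a morphism of finite presentation whose target is Noetherian is itself Noetherian,
Noetherian meaning quasi-compact, quasi-separated over S and locally Noetherian. (The published
statement uses quasi-separatedness in the absolute sense; this row uses quasi-separatedness over S
in hypothesis and conclusion.) -/
theorem result {S : Scheme.{u}} {X Y : AlgSp.Space S} (f : X ⟶ Y)
    (hf : AlgSp.IsFinitePresentationMor f.hom)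
    (hY : AlgSp.IsQuasiCompactSp Y.obj ∧ AlgSp.IsQuasiSeparatedSp Y.obj ∧ AlgSp.IsLocNoethSp Y.obj) :
    AlgSp.IsQuasiCompactSp X.obj ∧ AlgSp.IsQuasiSeparatedSp X.obj ∧ AlgSp.IsLocNoethSp X.obj := by
  obtain ⟨hlfp, hqc, hqs⟩ := hf
  obtain ⟨hYc, hYs, hYn⟩ := hY
  refine ⟨?_, ?_, ?_⟩
  · exact hqc Y.property hYc (𝟙 Y.obj) (𝟙 X.obj) f.hom IsPullback.of_id_fst
  · exact isQuasiSeparatedSp_of_mor X.property Y.property f.hom hqs hYs
  · refine Groth.Agent.S9951.result f ?_ hYn
    intro U V a b h ha hb hc
    haveI : LocallyOfFinitePresentation h.left := hlfp a b h ha hb hc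
    infer_instance

end Groth.Agent.S9957
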