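import Groth.Statements.S9958
import Mathlib
import Groth.Agent.S10262
import Groth.Agent.S0116

set_option autoImplicit false
universe u
open CategoryTheory CategoryTheory.Limits AlgebraicGeometry
open AlgSp

namespace Groth.Agent.S9958


open CategoryTheory.Limits Opposite MorphismProperty

variable {S : Scheme.{u}}



/-- Over a locally Noetherian algebraic space, locally of finite type implies locally of finite
presentation. -/
theorem result {S : Scheme.{u}} {X Y : AlgSp.Space S} (f : X ⟶ Y)
    (hY : AlgSp.IsLocNoethSp Y.obj) (hf : AlgSp.LocP @LocallyOfFiniteType f.hom) :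
    AlgSp.LocP @LocallyOfFinitePresentation f.hom := by
  obtain ⟨V0, q, hq, hqs, hV0⟩ := hY
  intro U V' a b h ha hb hcomm
  obtain ⟨W, w, w0', sqW⟩ := hq.1 b
  obtain ⟨w0, rfl⟩ := (AlgSp.yon S).map_surjective w0'
  haveI : Etale w.left := hq.2 _ _ w sqW
  haveI : Surjective w.left := hqs.2 _ _ w sqW
  haveI : Etale w0.left := hb.2 _ _ w0 sqW.flip
  haveI : IsLocallyNoetherian V0.left := hV0
  haveI : IsLocallyNoetherian W.left := LocallyOfFiniteType.isLocallyNoetherian w0.left
  haveI : IsLocallyNoetherian V'.left := Groth.Agent.S0116.result w.left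
  haveI : LocallyOfFiniteType h.left := hf a b h ha hb hcomm
  exact (inferInstance : LocallyOfFinitePresentation h.left)

end Groth.Agent.S9958
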