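import Groth.Statements.S9959
import Mathlib
import Groth.Agent.S10262
import Groth.Agent.Lib.Helper6LfpComp

set_option autoImplicit false
universe u
open CategoryTheory CategoryTheory.Limits AlgebraicGeometry
open AlgSp

namespace Groth.Agent.S9959


open CategoryTheory.Limits Opposite MorphismProperty

variable {S : Scheme.{u}}

/-- cancellation for `LocP` with a hypothesis on the second morphism. -/
lemma locP_of_comp' (P P' : MorphismProperty Scheme.{u})
    (hcancel : ∀ {A B C : Scheme.{u}} (u : A ⟶ B) (k : B ⟶ C), P' k → P (u ≫ k) → P u)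
    [P.DescendsAlong (@Surjective ⊓ @Flat ⊓ @LocallyOfFinitePresentation)]
    {X Y Z : AlgSp.Sp S} (hZ : AlgSp.IsAlgSpace Z) (f : X ⟶ Y) (g : Y ⟶ Z)
    (h : AlgSp.LocP P (f ≫ g)) (hg : AlgSp.LocP P' g) : AlgSp.LocP P f := by
  intro U V a b hh ha hb hcomm
  obtain ⟨W, c, hc, hcs⟩ := hZ.atlas
  obtain ⟨V', π, k', sqV'⟩ := hc.1 (b ≫ g)
  obtain ⟨k, rfl⟩ := (AlgSp.yon S).map_surjective k'
  haveI : Etale π.left := hc.2 _ _ π sqV'
  haveI : Surjective π.left := hcs.2 _ _ π sqV'
  have hsq : IsPullback (pullback.fst hh π).left (pullback.snd hh π).left hh.left π.left :=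
    (IsPullback.of_hasPullback hh π).map (Over.forget S)
  haveI : Etale (pullback.fst hh π).left :=
    MorphismProperty.of_isPullback (P := @Etale) hsq.flip inferInstance
  have hchart : ((AlgSp.yon S).map (pullback.fst hh π) ≫ a) ≫ (f ≫ g) =
      (AlgSp.yon S).map (pullback.snd hh π ≫ k) ≫ c := by
    have e2 : (AlgSp.yon S).map (pullback.fst hh π) ≫ (AlgSp.yon S).map hh =
        (AlgSp.yon S).map (pullback.snd hh π) ≫ (AlgSp.yon S).map π := by
      rw [← Functor.map_comp, ← Functor.map_comp, pullback.condition]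
    rw [Functor.map_comp]
    simp only [Category.assoc]
    rw [reassoc_of% hcomm, reassoc_of% e2, sqV'.w]
  have hP := h ((AlgSp.yon S).map (pullback.fst hh π) ≫ a) c (pullback.snd hh π ≫ k)
    ((AlgSp.RepWith @Etale).comp_mem _ _ ((AlgSp.repWith_yon_map_iff _ _).2 inferInstance) ha)
    hc hchart
  rw [Over.comp_left] at hP
  have hk : P' k.left := hg ((AlgSp.yon S).map π ≫ b) c k
    ((AlgSp.RepWith @Etale).comp_mem _ _ ((AlgSp.repWith_yon_map_iff _ _).2 inferInstance) hb)
    hc (by rw [Category.assoc, sqV'.w])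
  have h1 : P (pullback.snd hh π).left := hcancel _ _ hk hP
  have hπQ : (@Surjective ⊓ @Flat ⊓ @LocallyOfFinitePresentation : MorphismProperty Scheme.{u})
      π.left := ⟨⟨inferInstance, inferInstance⟩, inferInstance⟩
  exact MorphismProperty.of_isPullback_of_descendsAlong (P := P)
      (Q := @Surjective ⊓ @Flat ⊓ @LocallyOfFinitePresentation) hsq.flip hπQ h1



/-- Given X -> Y -> Z with X -> Z locally finitely presented and Y -> Z locally of finite type, X -> Y
is locally finitely presented (all three etale locally on source and target). -/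
theorem result {S : Scheme.{u}} {X Y Z : AlgSp.Space S} (f : X ⟶ Y) (g : Y ⟶ Z)
    (hX : AlgSp.LocP @LocallyOfFinitePresentation (f ≫ g).hom) (hY : AlgSp.LocP @LocallyOfFiniteType g.hom) :
    AlgSp.LocP @LocallyOfFinitePresentation f.hom := by
  refine locP_of_comp' @LocallyOfFinitePresentation @LocallyOfFiniteType (fun u k hk huk => ?_)
    Z.property f.hom g.hom hX hY
  exact Groth.Agent.Lib.Helper6.locallyOfFinitePresentation_of_comp hk huk

end Groth.Agent.S9959
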