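import Groth.Statements.S9967
import Mathlib
import Groth.Agent.S9912
import Groth.Agent.S10176
import Groth.Agent.S10177
import Groth.Agent.Lib.Helper12SchImage2
import Groth.Agent.Lib.Helper12ImmDescent
import Groth.Agent.Lib.Helper12SchDenseExt
import Groth.Agent.Lib.Helper12SchDense
import Groth.Agent.Lib.Helper12ImmersionDescent

set_option autoImplicit false
universe u
open CategoryTheory CategoryTheory.Limits AlgebraicGeometry
open AlgSp

namespace Groth.Agent.S9967


variable {S : Scheme.{u}}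

open Groth.Agent.Lib.Helper12

/-- a section-like morphism `s` with `s ≫ f` a quasi-compact open immersion and `f` separated is a
quasi-compact immersion. -/
lemma repWith_section {X Y V : AlgSp.Sp S} (f : X ⟶ Y) (s : V ⟶ X)
    (hf : AlgSp.RepWith @IsClosedImmersion (pullback.diagonal f))
    (hj : AlgSp.RepWith @IsOpenImmersion (s ≫ f)) (hjq : AlgSp.RepWith @QuasiCompact (s ≫ f)) :
    AlgSp.RepWith @IsImmersion s ∧ AlgSp.RepWith @QuasiCompact s := by
  have h1 := pullback_lift_diagonal_isPullback s f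
  have hcl : AlgSp.RepWith @IsClosedImmersion (pullback.lift (𝟙 V) s (by simp) :
      V ⟶ pullback (s ≫ f) f) :=
    MorphismProperty.of_isPullback (P := AlgSp.RepWith @IsClosedImmersion) h1 hf
  have h2 := IsPullback.of_hasPullback (s ≫ f) f
  have hop : AlgSp.RepWith @IsOpenImmersion (pullback.snd (s ≫ f) f) :=
    MorphismProperty.of_isPullback (P := AlgSp.RepWith @IsOpenImmersion) h2 hj
  have hopq : AlgSp.RepWith @QuasiCompact (pullback.snd (s ≫ f) f) :=
    MorphismProperty.of_isPullback (P := AlgSp.RepWith @QuasiCompact) h2 hjq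
  have hs : s = pullback.lift (𝟙 V) s (by simp) ≫ pullback.snd (s ≫ f) f := by
    rw [pullback.lift_snd]
  constructor
  · rw [hs]
    exact (AlgSp.RepWith @IsImmersion).comp_mem _ _
      (ImmDescent.repWith_of_le (fun _ _ g hg => by
        haveI : IsClosedImmersion g := hg; exact (inferInstance : IsImmersion g)) hcl)
      (ImmDescent.repWith_of_le (fun _ _ g hg => by
        haveI : IsOpenImmersion g := hg; exact (inferInstance : IsImmersion g)) hop)
  · rw [hs]
    exact (AlgSp.RepWith @QuasiCompact).comp_mem _ _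
      (ImmDescent.repWith_of_le (fun _ _ g hg => by
        haveI : IsClosedImmersion g := hg; exact (inferInstance : QuasiCompact g)) hcl) hopq

/-- two maps from a scheme to a sheaf separated over `Y`, equal over `Y` and on a schematically
dense open, are equal. -/
lemma eq_of_schDense {T E : Over S} (t : E ⟶ T) [IsOpenImmersion t.left]
    (hd : CInt.IsSchematicallyDense t.left.opensRange) {X Y : AlgSp.Sp S} (f : X ⟶ Y)
    (hf : AlgSp.RepWith @IsClosedImmersion (pullback.diagonal f))
    (g₁ g₂ : (AlgSp.yon S).obj T ⟶ X) (h₁ : g₁ ≫ f = g₂ ≫ f)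
    (h₂ : (AlgSp.yon S).map t ≫ g₁ = (AlgSp.yon S).map t ≫ g₂) : g₁ = g₂ := by
  have hsq := IsPullback.of_hasPullback (pullback.diagonal f) (pullback.lift g₁ g₂ h₁)
  have hi' : AlgSp.RepWith @IsClosedImmersion (pullback.snd (pullback.diagonal f)
      (pullback.lift g₁ g₂ h₁)) :=
    (AlgSp.RepWith @IsClosedImmersion).of_isPullback hsq hf
  obtain ⟨K₀, k, fst', sqK⟩ := hi'.1 (𝟙 _)
  haveI : IsClosedImmersion k.left := hi'.2 _ _ k sqK
  have hw : ((AlgSp.yon S).map t ≫ g₁) ≫ pullback.diagonal f =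
      (AlgSp.yon S).map t ≫ pullback.lift g₁ g₂ h₁ := by
    apply pullback.hom_ext
    · simp only [Category.assoc, pullback.diagonal_fst, pullback.lift_fst, Category.comp_id]
    · simp only [Category.assoc, pullback.diagonal_snd, pullback.lift_snd, Category.comp_id, h₂]
  obtain ⟨l₀, hl₀⟩ := (AlgSp.yon S).map_surjective (sqK.lift
    (pullback.lift ((AlgSp.yon S).map t ≫ g₁) ((AlgSp.yon S).map t) hw) ((AlgSp.yon S).map t)
    (by rw [pullback.lift_snd, Category.comp_id]))
  have hl₀k : l₀ ≫ k = t := by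
    apply (AlgSp.yon S).map_injective
    rw [Functor.map_comp, hl₀, sqK.lift_snd]
  have hlk : (t.left.isoOpensRange.inv ≫ l₀.left) ≫ k.left = t.left.opensRange.ι := by
    rw [Category.assoc, ← Over.comp_left, hl₀k]
    exact t.left.isoOpensRange_inv_comp
  haveI : IsIso k.left :=
    SchDense.isIso_of_isSchematicallyDense_factors k.left _ hd _ hlk
  haveI : IsIso ((Over.forget S).map k) := ‹IsIso k.left›
  haveI : IsIso k := isIso_of_reflects_iso k (Over.forget S)
  have h1 : pullback.snd (pullback.diagonal f) (pullback.lift g₁ g₂ h₁) ≫ g₁ =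
      pullback.fst (pullback.diagonal f) (pullback.lift g₁ g₂ h₁) := by
    have := congrArg (fun m => m ≫ pullback.fst f f) hsq.w
    simp only [Category.assoc, pullback.diagonal_fst, pullback.lift_fst, Category.comp_id] at this
    exact this.symm
  have h2 : pullback.snd (pullback.diagonal f) (pullback.lift g₁ g₂ h₁) ≫ g₂ =
      pullback.fst (pullback.diagonal f) (pullback.lift g₁ g₂ h₁) := by
    have := congrArg (fun m => m ≫ pullback.snd f f) hsq.w
    simp only [Category.assoc, pullback.diagonal_snd, pullback.lift_snd, Category.comp_id] at this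
    exact this.symm
  have hk : (AlgSp.yon S).map k = fst' ≫ pullback.snd (pullback.diagonal f)
      (pullback.lift g₁ g₂ h₁) := by
    rw [sqK.w, Category.comp_id]
  rw [← cancel_epi ((AlgSp.yon S).map k), hk, Category.assoc, Category.assoc, h1, h2]

/-- chart facts for a quasi-compact immersion. -/
lemma qc_chart_facts {E V : Scheme.{u}} (e : E ⟶ V) [IsImmersion e] [QuasiCompact e] :
    QuasiCompact e.toImage.opensRange.ι ∧ CInt.IsSchematicallyDense e.toImage.opensRange := by
  haveI := isSchemeTheoreticallyDominant_toImage e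
  have hεW : e.toImage.isoOpensRange.inv ≫ e.toImage = e.toImage.opensRange.ι :=
    e.toImage.isoOpensRange_inv_comp
  haveI : IsSchemeTheoreticallyDominant e.toImage.opensRange.ι := by rw [← hεW]; infer_instance
  haveI : QuasiCompact e.toImage.opensRange.ι := by rw [← hεW]; infer_instance
  exact ⟨inferInstance, (SchDense.isSchematicallyDense_iff _).2 inferInstance⟩

/-- restriction of a schematically dense quasi-compact open to an open containing it. -/
lemma isSchematicallyDense_of_comp {E B' B : Scheme.{u}} (t : E ⟶ B') (o : B' ⟶ B)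
    [IsOpenImmersion o] [IsOpenImmersion t] [IsOpenImmersion (t ≫ o)]
    [QuasiCompact (t ≫ o).opensRange.ι] (hd : CInt.IsSchematicallyDense (t ≫ o).opensRange) :
    CInt.IsSchematicallyDense t.opensRange := by
  have h1 := SchDense.isSchematicallyDense_preimage_of_flat o (t ≫ o).opensRange hd
  have h2 : o ⁻¹ᵁ (t ≫ o).opensRange = t.opensRange := by
    apply SetLike.coe_injective
    ext x
    simp only [Scheme.Hom.coe_preimage, Scheme.Hom.coe_opensRange, Set.mem_preimage, Set.mem_range]
    constructor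
    · rintro ⟨y, hy⟩
      refine ⟨y, ?_⟩
      apply o.isOpenEmbedding.injective
      rw [← hy]; rfl
    · rintro ⟨y, rfl⟩
      exact ⟨y, rfl⟩
  rw [← h2]
  exact h1



/-- For a separated f : X -> Y and a section s of f over a quasi-compact open V of Y, the scheme
theoretic image of s maps isomorphically to Y over V. -/
theorem result {S : Scheme.{u}} {X Y V Y' : AlgSp.Space S} (f : X ⟶ Y) (j : V ⟶ Y)
    (hj : AlgSp.RepWith @IsOpenImmersion j.hom) (hjq : AlgSp.IsQuasiCompactMor j.hom) (hf : AlgSp.IsSeparatedMor f.hom)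
    (s : V ⟶ X) (hs : s ≫ f = j) (c : Y' ⟶ X) (hc : AlgSp.IsSchImage s.hom c.hom)
    {P : AlgSp.Sp S} (fst : P ⟶ Y'.obj) (snd : P ⟶ V.obj) (sq : IsPullback fst snd (c ≫ f).hom j.hom) :
    IsIso snd := by
  subst hs
  have hf' : AlgSp.RepWith @IsClosedImmersion (pullback.diagonal f.hom) := hf
  have hjqc : AlgSp.RepWith @QuasiCompact (s ≫ f).hom :=
    (Groth.Agent.S9912.result (s ≫ f) hj.1).2 hjq
  obtain ⟨himm, hsqc⟩ := repWith_section f.hom s.hom hf' hj hjqc
  obtain ⟨U, u, hue, hus⟩ := X.property.atlas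
  obtain ⟨E, e, a, sqE⟩ := himm.1 u
  haveI : IsImmersion e.left := himm.2 _ _ e sqE
  haveI : QuasiCompact e.left := hsqc.2 _ _ e sqE
  obtain ⟨Z₀, i, q, f', τ, hZ₀, hSI, sqZ, hf'i, hτ, sqτ⟩ :=
    SchImage2.exists_isSchImage_of_chart X.property s.hom u hue hus e a sqE
  obtain ⟨ε, hε⟩ := SchImage2.isSchImage_unique Y'.property hZ₀ hc hSI
  haveI := SchImage2.mono_of_closedImmersion hSI.1
  haveI := SchImage2.mono_of_closedImmersion hc.1
  obtain ⟨s', hs'⟩ := hc.2.1
  have hs'ε : s' ≫ ε.hom = f' := by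
    rw [← cancel_mono i, Category.assoc, hε, hf'i, hs']
  have hqe : AlgSp.RepWith @Etale q :=
    MorphismProperty.of_isPullback (P := AlgSp.RepWith @Etale) sqZ.flip hue
  have hqs : AlgSp.RepWith @Surjective q :=
    MorphismProperty.of_isPullback (P := AlgSp.RepWith @Surjective) sqZ.flip hus
  haveI : Epi q := Groth.Agent.S9927.epi_of_repWith q hqe hqs
  have sq' : IsPullback a ((AlgSp.yon S).map τ) s' (q ≫ ε.inv) := by
    refine IsPullback.of_iso sqτ (Iso.refl _) (Iso.refl _) (Iso.refl _) ε.symm ?_ ?_ ?_ ?_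
    · simp
    · simp
    · simp only [Iso.refl_hom, Category.id_comp, Iso.symm_hom]
      rw [← hs'ε, Category.assoc, Iso.hom_inv_id, Category.comp_id]
    · simp
  -- the inverse image of `V` in the chart of `Y'`
  obtain ⟨BV, o, b, sqO⟩ := hj.1 ((q ≫ ε.inv) ≫ c.hom ≫ f.hom)
  haveI : IsOpenImmersion o.left := hj.2 _ _ o sqO
  have hw : ((AlgSp.yon S).map o ≫ q ≫ ε.inv) ≫ (c ≫ f).hom = b ≫ (s ≫ f).hom := by
    rw [sqO.w]; simp only [Category.assoc]; rfl
  obtain ⟨r, hr1, hr2⟩ : ∃ r : (AlgSp.yon S).obj BV ⟶ P,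
      r ≫ fst = (AlgSp.yon S).map o ≫ q ≫ ε.inv ∧ r ≫ snd = b :=
    ⟨sq.lift ((AlgSp.yon S).map o ≫ q ≫ ε.inv) b hw, sq.lift_fst _ _ _, sq.lift_snd _ _ _⟩
  have sqR : IsPullback r ((AlgSp.yon S).map o) fst (q ≫ ε.inv) := by
    refine IsPullback.of_right ?_ hr1 sq.flip
    rw [hr2]
    exact sqO
  haveI : Epi r := Groth.Agent.Lib.Helper9.ToposLike.epi_of_isPullback sqR inferInstance
  -- the chart of `V` inside
  have hw2 : a ≫ (s ≫ f).hom = (AlgSp.yon S).map τ ≫ (q ≫ ε.inv) ≫ c.hom ≫ f.hom := by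
    rw [← Category.assoc ((AlgSp.yon S).map τ), ← sq'.w, Category.assoc, ← Category.assoc s',
      hs']
    rfl
  obtain ⟨t, ht⟩ := (AlgSp.yon S).map_surjective (sqO.lift a ((AlgSp.yon S).map τ) hw2)
  have hto : t ≫ o = τ := by
    apply (AlgSp.yon S).map_injective
    rw [Functor.map_comp, ht, sqO.lift_snd]
  have htb : (AlgSp.yon S).map t ≫ b = a := by rw [ht, sqO.lift_fst]
  have hto' : t.left ≫ o.left = e.left.toImage := by rw [← Over.comp_left, hto, hτ]
  haveI : IsOpenImmersion (t.left ≫ o.left) := by rw [hto']; infer_instance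
  haveI : IsOpenImmersion t.left := IsOpenImmersion.of_comp t.left o.left
  have key : ∀ (m : E.left ⟶ (Over.mk (e.left.imageι ≫ U.hom)).left) (hm : m = e.left.toImage)
      [IsOpenImmersion m], QuasiCompact m.opensRange.ι ∧ CInt.IsSchematicallyDense m.opensRange := by
    intro m hm
    subst hm
    intro _
    exact qc_chart_facts e.left
  obtain ⟨hqcι, hdτ⟩ := key (t.left ≫ o.left) hto'
  have hd : CInt.IsSchematicallyDense t.left.opensRange :=
    isSchematicallyDense_of_comp t.left o.left hdτ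
  have heq : ((AlgSp.yon S).map o ≫ q ≫ ε.inv) ≫ c.hom = b ≫ s.hom := by
    refine eq_of_schDense t hd f.hom hf' _ _ ?_ ?_
    · rw [Category.assoc, Category.assoc b]
      exact hw
    · rw [← Category.assoc, ← Category.assoc, ← Functor.map_comp, hto, ← Category.assoc,
        ← Category.assoc, htb, Category.assoc ((AlgSp.yon S).map τ), ← sq'.w, Category.assoc, hs']
  have hfst : fst = snd ≫ s' := by
    rw [← cancel_mono c.hom, Category.assoc, hs', ← cancel_epi r]
    calc r ≫ fst ≫ c.hom = (r ≫ fst) ≫ c.hom := (Category.assoc _ _ _).symm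
      _ = ((AlgSp.yon S).map o ≫ q ≫ ε.inv) ≫ c.hom := by rw [hr1]
      _ = b ≫ s.hom := heq
      _ = (r ≫ snd) ≫ s.hom := by rw [hr2]
      _ = r ≫ snd ≫ s.hom := Category.assoc _ _ _
  have hσ : s' ≫ (c ≫ f).hom = 𝟙 V.obj ≫ (s ≫ f).hom := by
    rw [Category.id_comp]
    show s' ≫ c.hom ≫ f.hom = s.hom ≫ f.hom
    rw [← Category.assoc, hs']
  refine ⟨sq.lift s' (𝟙 V.obj) hσ, ?_, sq.lift_snd _ _ _⟩
  apply sq.hom_ext
  · rw [Category.assoc, sq.lift_fst, Category.id_comp, hfst]
  · rw [Category.assoc, sq.lift_snd, Category.id_comp, Category.comp_id]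

end Groth.Agent.S9967
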