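import Groth.Statements.S9971
import Mathlib
import Groth.Agent.S9912
import Groth.Agent.S9966
import Groth.Agent.S10176
import Groth.Agent.S10177
import Groth.Agent.Lib.Helper12SchImage2
import Groth.Agent.Lib.Helper12ImmDescent
import Groth.Agent.Lib.Helper12SchDenseExt
import Groth.Agent.Lib.Helper12Reduced

set_option autoImplicit false
universe u
open CategoryTheory CategoryTheory.Limits AlgebraicGeometry
open AlgSp

namespace Groth.Agent.S9971


variable {S : Scheme.{u}}

open Groth.Agent.Lib.Helper12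

/-- every scheme etale over a reduced sheaf is reduced. -/
lemma isReduced_of_etale_chart {Z : AlgSp.Sp S} (hZ : AlgSp.IsReducedSp Z) {E : Over S}
    (b : (AlgSp.yon S).obj E ⟶ Z) (hb : AlgSp.RepWith @Etale b) : IsReduced E.left := by
  obtain ⟨U₀, u₀, hue, hus, hred⟩ := hZ
  haveI : IsReduced U₀.left := hred
  obtain ⟨W, w, pr', sq⟩ := hue.1 b
  obtain ⟨pr, rfl⟩ := (AlgSp.yon S).map_surjective pr'
  haveI : Etale w.left := hue.2 _ _ w sq
  haveI : Surjective w.left := hus.2 _ _ w sq
  haveI : Etale pr.left := hb.2 _ _ pr sq.flip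
  haveI : IsReduced W.left := Reduced.isReduced_of_smooth pr.left
  exact Reduced.isReduced_of_flat_of_surjective w.left

/-- a dense open of a reduced scheme is schematically dense. -/
lemma isSchematicallyDense_of_dense {X : Scheme.{u}} [IsReduced X] (W : X.Opens)
    (hW : Dense (W : Set ↥X)) : CInt.IsSchematicallyDense W := by
  intro V'
  rw [injective_iff_map_eq_zero]
  intro s hs
  rw [← basicOpen_eq_bot_iff]
  by_contra hne
  obtain ⟨x, hx⟩ : (X.basicOpen s : Set ↥X).Nonempty := by
    rw [Set.nonempty_iff_ne_empty]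
    intro h0
    exact hne (SetLike.coe_injective (by simpa using h0))
  obtain ⟨y, hy1, hy2⟩ := hW.inter_open_nonempty _ (X.basicOpen s).2 ⟨x, hx⟩
  have hyV : y ∈ V' := X.basicOpen_le s hy1
  have h1 : y ∈ X.basicOpen (X.presheaf.map (homOfLE (inf_le_left : V' ⊓ W ≤ V')).op s) := by
    rw [Scheme.basicOpen_res]
    exact ⟨⟨hyV, hy2⟩, hy1⟩
  rw [hs, Scheme.basicOpen_zero] at h1
  exact h1

/-- an immersion into a reduced scheme with open range is an open immersion. -/
lemma isOpenImmersion_of_isOpen_range {E B : Scheme.{u}} (τ : E ⟶ B) [IsImmersion τ] [IsReduced B]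
    (h : IsOpen (Set.range τ)) : IsOpenImmersion τ := by
  let O : B.Opens := ⟨Set.range τ, h⟩
  have hsub : Set.range τ ⊆ Set.range O.ι := by rw [Scheme.Opens.range_ι]; exact subset_rfl
  let l : E ⟶ O := IsOpenImmersion.lift O.ι τ hsub
  have hl : l ≫ O.ι = τ := IsOpenImmersion.lift_fac _ _ _
  haveI : IsImmersion (l ≫ O.ι) := by rw [hl]; infer_instance
  haveI : IsImmersion l := IsImmersion.of_comp l O.ι
  haveI : Surjective l := ⟨fun x => by
    obtain ⟨y, hy⟩ := x.2
    refine ⟨y, ?_⟩
    apply O.ι.isOpenEmbedding.injective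
    rw [← Scheme.Hom.comp_apply, hl]
    exact hy⟩
  haveI : IsClosedImmersion l := IsClosedImmersion.of_isPreimmersion l (by
    rw [l.surjective.range_eq]; exact isClosed_univ)
  haveI : IsIso l := isIso_of_isClosedImmersion_of_surjective l
  rw [← hl]
  infer_instance

/-- assembly: the three conclusions from a chart in which the base change is a dense,
schematically dense open immersion. -/
lemma assemble {Z Zbar : AlgSp.Sp S} (h' : Z ⟶ Zbar) {B E : Over S}
    (q : (AlgSp.yon S).obj B ⟶ Zbar) (hqe : AlgSp.RepWith @Etale q)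
    (hqs : AlgSp.RepWith @Surjective q) (τ : E ⟶ B) (a : (AlgSp.yon S).obj E ⟶ Z)
    (sq : IsPullback a ((AlgSp.yon S).map τ) h' q) [IsOpenImmersion τ.left]
    (hd : CInt.IsSchematicallyDense τ.left.opensRange) (hdr : DenseRange τ.left) :
    AlgSp.RepWith @IsOpenImmersion h' ∧ AlgSp.IsSchDense h' ∧
      Dense (Set.range (AlgSp.Points.map h')) := by
  have hopen : AlgSp.RepWith @IsOpenImmersion h' :=
    ImmDescent.repWith_isOpenImmersion_of_chart h' q hqe hqs a _ sq
      ((AlgSp.repWith_yon_map_iff _ _).2 (show IsOpenImmersion τ.left from inferInstance))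
  refine ⟨hopen, ⟨hopen, ?_⟩, ?_⟩
  · let εW := τ.left.isoOpensRange
    have hεW : εW.inv ≫ τ.left = τ.left.opensRange.ι := τ.left.isoOpensRange_inv_comp
    let εO : Over.mk (τ.left.opensRange.ι ≫ B.hom) ≅ E := Over.isoMk εW.symm (by
      show εW.inv ≫ E.hom = τ.left.opensRange.ι ≫ B.hom
      rw [← Over.w τ, ← Category.assoc, hεW])
    have hεO : εO.hom ≫ τ =
        (Over.homMk τ.left.opensRange.ι rfl : Over.mk (τ.left.opensRange.ι ≫ B.hom) ⟶ B) := by
      apply Over.OverMorphism.ext
      exact hεW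
    refine ⟨B, q, τ.left.opensRange, (AlgSp.yon S).map εO.hom ≫ a, hqe, hqs, ?_, hd⟩
    refine IsPullback.of_iso sq ((AlgSp.yon S).mapIso εO.symm) (Iso.refl _) (Iso.refl _)
      (Iso.refl _) ?_ ?_ (by simp) (by simp)
    · simp only [Iso.refl_hom, Category.comp_id, Functor.mapIso_hom, Iso.symm_hom]
      rw [← Category.assoc, ← Functor.map_comp, Iso.inv_hom_id, (AlgSp.yon S).map_id,
        Category.id_comp]
    · simp only [Iso.refl_hom, Category.comp_id, Functor.mapIso_hom, Iso.symm_hom]
      rw [← hεO, Functor.map_comp, ← Category.assoc, ← Functor.map_comp, Iso.inv_hom_id,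
        (AlgSp.yon S).map_id, Category.id_comp]
  · have hsurj : Function.Surjective (AlgSp.Points.ofPt q) :=
      Groth.Agent.S10177.surjective_ofPt q hqs
    have h1 : Dense (AlgSp.Points.ofPt q '' Set.range τ.left) :=
      hsurj.denseRange.dense_image (AlgSp.Points.continuous_ofPt q) hdr
    refine h1.mono ?_
    rintro _ ⟨_, ⟨x, rfl⟩, rfl⟩
    refine ⟨AlgSp.Points.ofPt a x, ?_⟩
    rw [AlgSp.Points.map_ofPt, sq.w, Groth.Agent.S10176.ofPt_map_comp]

/-- chart facts for a quasi-compact immersion. -/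
lemma qc_chart_facts {E V : Scheme.{u}} (e : E ⟶ V) [IsImmersion e] [QuasiCompact e] :
    CInt.IsSchematicallyDense e.toImage.opensRange ∧ DenseRange e.toImage := by
  haveI := isSchemeTheoreticallyDominant_toImage e
  refine ⟨?_, e.toImage.denseRange⟩
  have hεW : e.toImage.isoOpensRange.inv ≫ e.toImage = e.toImage.opensRange.ι :=
    e.toImage.isoOpensRange_inv_comp
  haveI : IsSchemeTheoreticallyDominant e.toImage.opensRange.ι := by rw [← hεW]; infer_instance
  haveI : QuasiCompact e.toImage.opensRange.ι := by rw [← hεW]; infer_instance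
  exact (SchDense.isSchematicallyDense_iff _).2 inferInstance

/-- range of the base change to a chart is the preimage of the range on points. -/
lemma range_eq_preimage {F X : AlgSp.Sp S} (f : F ⟶ X) {V E : Over S}
    (p : (AlgSp.yon S).obj V ⟶ X) (e : E ⟶ V) (a : (AlgSp.yon S).obj E ⟶ F)
    (sqE : IsPullback a ((AlgSp.yon S).map e) f p) :
    Set.range e.left = AlgSp.Points.ofPt p ⁻¹' (Set.range (AlgSp.Points.map f)) := by
  ext v
  constructor
  · rintro ⟨w, rfl⟩
    refine ⟨AlgSp.Points.ofPt a w, ?_⟩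
    rw [AlgSp.Points.map_ofPt, sqE.w, Groth.Agent.S10176.ofPt_map_comp]
  · intro hv
    exact ZarGlue.mem_range_of_mem_range_map f p a e sqE v hv

/-- chart facts for an immersion into the reduced closure of its image. -/
lemma reduced_chart_facts {E B V : Scheme.{u}} (e : E ⟶ V) (z : B ⟶ V) (τ : E ⟶ B)
    (hτ : τ ≫ z = e) [IsImmersion e] [IsClosedImmersion z] [IsReduced B]
    (hcl : Set.range z = closure (Set.range e)) :
    ∃ _ : IsOpenImmersion τ, CInt.IsSchematicallyDense τ.opensRange ∧ DenseRange τ := by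
  haveI : IsImmersion (τ ≫ z) := by rw [hτ]; infer_instance
  haveI : IsImmersion τ := IsImmersion.of_comp τ z
  have hez : ∀ y, e y = z (τ y) := fun y => by rw [← hτ]; rfl
  have hrange : Set.range τ = z ⁻¹' coborder (Set.range e) := by
    ext x
    constructor
    · rintro ⟨y, rfl⟩
      exact subset_coborder ⟨y, hez y⟩
    · intro hx
      have h1 : z x ∈ coborder (Set.range e) ∩ closure (Set.range e) :=
        ⟨hx, by rw [← hcl]; exact ⟨x, rfl⟩⟩
      rw [coborder_inter_closure] at h1
      obtain ⟨y, hy⟩ := h1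
      refine ⟨y, ?_⟩
      apply z.isClosedEmbedding.injective
      rw [← hez, hy]
  have hopen : IsOpen (Set.range τ) := by
    rw [hrange]
    exact e.isLocallyClosed_range.isOpen_coborder.preimage z.continuous
  have hre : Set.range e = z '' Set.range τ := by
    ext v
    constructor
    · rintro ⟨y, rfl⟩
      exact ⟨τ y, ⟨y, rfl⟩, (hez y).symm⟩
    · rintro ⟨_, ⟨y, rfl⟩, rfl⟩
      exact ⟨y, hez y⟩
  have hdense : DenseRange τ := by
    intro x
    have h1 : z x ∈ closure (z '' Set.range τ) := by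
      rw [← hre, ← hcl]; exact ⟨x, rfl⟩
    rw [z.isClosedEmbedding.closure_image_eq] at h1
    obtain ⟨y, hy, hyx⟩ := h1
    rw [← z.isClosedEmbedding.injective hyx]
    exact hy
  haveI : IsOpenImmersion τ := isOpenImmersion_of_isOpen_range τ hopen
  refine ⟨inferInstance, isSchematicallyDense_of_dense _ ?_, hdense⟩
  rw [Scheme.Hom.coe_opensRange]
  exact hdense



/-- A quasi-compact (or reduced-source) immersion is a scheme theoretically dense, topologically dense
open immersion into its scheme theoretic image. -/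
theorem result {S : Scheme.{u}} {Z X Zbar : AlgSp.Space S} (h : Z ⟶ X)
    (hh : AlgSp.RepWith @IsImmersion h.hom) (hq : AlgSp.IsQuasiCompactMor h.hom ∨ AlgSp.IsReducedSp Z.obj)
    (c : Zbar ⟶ X) (hc : AlgSp.IsSchImage h.hom c.hom) (h' : Z ⟶ Zbar) (fac : h' ≫ c = h) :
    AlgSp.RepWith @IsOpenImmersion h'.hom ∧ AlgSp.IsSchDense h'.hom ∧
      Dense (Set.range (AlgSp.Points.map h'.hom)) := by
  have fac' : h'.hom ≫ c.hom = h.hom := congrArg (·.hom) fac
  rcases hq with hq | hred
  · obtain ⟨V, p, hpe, hps⟩ := X.property.atlas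
    have hqc : AlgSp.RepWith @QuasiCompact h.hom := (Groth.Agent.S9912.result h hh.1).2 hq
    obtain ⟨E, e, a, sqE⟩ := hh.1 p
    haveI : IsImmersion e.left := hh.2 _ _ e sqE
    haveI : QuasiCompact e.left := hqc.2 _ _ e sqE
    obtain ⟨Z₀, i, q, f', τ, hZ₀, hSI, sqZ, hf'i, hτ, sqτ⟩ :=
      SchImage2.exists_isSchImage_of_chart X.property h.hom p hpe hps e a sqE
    obtain ⟨ε, hε⟩ := SchImage2.isSchImage_unique Zbar.property hZ₀ hc hSI
    haveI := SchImage2.mono_of_closedImmersion hSI.1
    have hf' : h'.hom ≫ ε.hom = f' := by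
      rw [← cancel_mono i, Category.assoc, hε, hf'i, fac']
    have hqe : AlgSp.RepWith @Etale q :=
      MorphismProperty.of_isPullback (P := AlgSp.RepWith @Etale) sqZ.flip hpe
    have hqs : AlgSp.RepWith @Surjective q :=
      MorphismProperty.of_isPullback (P := AlgSp.RepWith @Surjective) sqZ.flip hps
    have sq' : IsPullback a ((AlgSp.yon S).map τ) h'.hom (q ≫ ε.inv) := by
      refine IsPullback.of_iso sqτ (Iso.refl _) (Iso.refl _) (Iso.refl _) ε.symm ?_ ?_ ?_ ?_
      · simp
      · simp
      · simp only [Iso.refl_hom, Category.id_comp, Iso.symm_hom]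
        rw [← hf', Category.assoc, Iso.hom_inv_id, Category.comp_id]
      · simp
    have key : ∀ (t : E.left ⟶ (Over.mk (e.left.imageι ≫ V.hom)).left) (ht : t = e.left.toImage),
        ∃ _ : IsOpenImmersion t, CInt.IsSchematicallyDense t.opensRange ∧ DenseRange t := by
      intro t ht
      subst ht
      exact ⟨inferInstance, qc_chart_facts e.left⟩
    obtain ⟨hτo, hd, hdr⟩ := key τ.left hτ
    exact assemble h'.hom (q ≫ ε.inv)
      ((AlgSp.RepWith @Etale).comp_mem _ _ hqe (MorphismProperty.of_isIso _ _))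
      ((AlgSp.RepWith @Surjective).comp_mem _ _ hqs (MorphismProperty.of_isIso _ _)) τ a sq' hd hdr
  · obtain ⟨hci, hrange, hZbarRed⟩ := Groth.Agent.S9966.result h c hred hc
    obtain ⟨V, p, hpe, hps⟩ := X.property.atlas
    obtain ⟨E, e, a, sqE⟩ := hh.1 p
    haveI : IsImmersion e.left := hh.2 _ _ e sqE
    obtain ⟨B, z, q, sqB⟩ := hci.1 p
    haveI : IsClosedImmersion z.left := hci.2 _ _ z sqB
    have hqe : AlgSp.RepWith @Etale q :=
      MorphismProperty.of_isPullback (P := AlgSp.RepWith @Etale) sqB.flip hpe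
    have hqs : AlgSp.RepWith @Surjective q :=
      MorphismProperty.of_isPullback (P := AlgSp.RepWith @Surjective) sqB.flip hps
    haveI : IsReduced B.left := isReduced_of_etale_chart hZbarRed q hqe
    obtain ⟨τ, hτ⟩ := (AlgSp.yon S).map_surjective (sqB.lift (a ≫ h'.hom) ((AlgSp.yon S).map e)
      (by rw [Category.assoc, fac', sqE.w]))
    have hτz : τ ≫ z = e := by
      apply (AlgSp.yon S).map_injective
      rw [Functor.map_comp, hτ, sqB.lift_snd]
    have hτa : (AlgSp.yon S).map τ ≫ q = a ≫ h'.hom := by rw [hτ, sqB.lift_fst]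
    have sq' : IsPullback a ((AlgSp.yon S).map τ) h'.hom q := by
      refine IsPullback.of_bot ?_ hτa.symm sqB
      rw [← Functor.map_comp, hτz, fac']
      exact sqE
    have hcl : Set.range z.left = closure (Set.range e.left) := by
      rw [range_eq_preimage c.hom p z q sqB, range_eq_preimage h.hom p e a sqE, hrange,
        (Groth.Agent.S10176.isOpenMap_ofPt p hpe).preimage_closure_eq_closure_preimage
          (AlgSp.Points.continuous_ofPt p)]
    obtain ⟨hτo, hd, hdr⟩ := reduced_chart_facts e.left z.left τ.left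
      (by rw [← Over.comp_left, hτz]) hcl
    exact assemble h'.hom q hqe hqs τ a sq' hd hdr

end Groth.Agent.S9971
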