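import Groth.Statements.S9976
import Mathlib
import Groth.Agent.Lib.Helper12FTPoint2

set_option autoImplicit false
universe u
open CategoryTheory CategoryTheory.Limits AlgebraicGeometry
open AlgSp

namespace Groth.Agent.S9976





/-- Under a surjective morphism locally of finite type, every finite type point of the target is the
image of a finite type point of the source. (The published lemma states that the two sets of finite
type points correspond exactly; the inclusion of the image in the finite type points of the target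
holds for every morphism locally of finite type and is omitted here.) -/
theorem result {S : Scheme.{u}} {X Y : AlgSp.Space S} (f : X ⟶ Y)
    (hf : AlgSp.LocP @LocallyOfFiniteType f.hom) (hs : AlgSp.IsSurjectiveMor f.hom) (y : AlgSp.Points Y.obj)
    (hy : ∃ (k : Type u) (_ : Field k) (str : Spec (CommRingCat.of k) ⟶ S) (ξ : (AlgSp.yon S).obj (Over.mk str) ⟶ Y.obj),
        AlgSp.LocP @LocallyOfFiniteType ξ ∧ AlgSp.Points.ofPt ξ (IsLocalRing.closedPoint k) = y) :
    ∃ x : AlgSp.Points X.obj, AlgSp.Points.map f.hom x = y ∧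
      ∃ (k : Type u) (_ : Field k) (str : Spec (CommRingCat.of k) ⟶ S) (ξ : (AlgSp.yon S).obj (Over.mk str) ⟶ X.obj),
        AlgSp.LocP @LocallyOfFiniteType ξ ∧ AlgSp.Points.ofPt ξ (IsLocalRing.closedPoint k) = x := by
  obtain ⟨V, ψ, v, hψ, hv, rfl⟩ :=
    Groth.Agent.Lib.Helper12.FTPoint.exists_isClosed_of_isFT Y.property y hy
  obtain ⟨U, p, hpe, hps⟩ := X.property.atlas
  obtain ⟨E, e₁, e₂', sq⟩ := hψ.1 (p ≫ f.hom)
  obtain ⟨e₂, rfl⟩ := (AlgSp.yon S).map_surjective e₂'
  haveI : Etale e₁.left := hψ.2 _ _ e₁ sq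
  obtain ⟨x₀, hx₀⟩ := hs (AlgSp.Points.ofPt ψ v)
  obtain ⟨u₀, rfl⟩ := Groth.Agent.S10177.surjective_ofPt p hps x₀
  have e : AlgSp.Points.ofPt ψ v = AlgSp.Points.ofPt (p ≫ f.hom) u₀ := by
    rw [← hx₀]; rfl
  obtain ⟨z₀, hz1, hz2⟩ := Groth.Agent.S10176.exists_point_of_isPullback_yon sq v u₀ e
  have hcl : IsClosed (e₂.left ⁻¹' {v}) := hv.preimage e₂.left.continuous
  obtain ⟨W, w, hwT, hw⟩ := Groth.Agent.Lib.Helper12.FTPoint.exists_closed_in_affineOpen
    (e₂.left ⁻¹' {v}) hcl.isLocallyClosed ⟨z₀, hz1⟩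
  have hφ : AlgSp.RepWith @Etale ((AlgSp.yon S).map e₁ ≫ p) :=
    (AlgSp.RepWith @Etale).comp_mem _ _ ((AlgSp.repWith_yon_map_iff _ _).2 inferInstance) hpe
  refine ⟨AlgSp.Points.ofPt ((AlgSp.yon S).map e₁ ≫ p) (W.ι w), ?_,
    Groth.Agent.Lib.Helper12.FTPoint.isFT_of_isClosed_opens X.property _ hφ W w hw⟩
  rw [AlgSp.Points.map_ofPt, Category.assoc, ← sq.w, Groth.Agent.S10509.ofPt_yon_map_comp]
  congr 1

end Groth.Agent.S9976
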