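import Groth.Statements.S9982
import Mathlib
import Groth.Agent.Lib.Helper12ConsDescent
import Groth.Agent.S9917
import Groth.Agent.S10180
import Groth.Agent.S9874
import Groth.Agent.S10177
import Groth.Agent.S10175

set_option autoImplicit false
universe u
open CategoryTheory CategoryTheory.Limits AlgebraicGeometry
open AlgSp

namespace Groth.Agent.S9982


lemma aux_affine {S : Scheme.{u}} {X Y : AlgSp.Space S} (f : X ⟶ Y)
    (hq : AlgSp.IsQuasiCompactMor f.hom) (hfp : AlgSp.LocP @LocallyOfFinitePresentation f.hom)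
    (E : Set (AlgSp.Points X.obj))
    (hE : (∀ (U : Over S) (φ : (AlgSp.yon S).obj U ⟶ X.obj), AlgSp.RepWith @Etale φ →
        Topology.IsLocallyConstructible (AlgSp.Points.ofPt φ ⁻¹' E)))
    (Z : Over S) (hZ : IsAffine Z.left) (ψ : (AlgSp.yon S).obj Z ⟶ Y.obj)
    (hψ : AlgSp.RepWith @Etale ψ) :
    Topology.IsLocallyConstructible (AlgSp.Points.ofPt ψ ⁻¹' (AlgSp.Points.map f.hom '' E)) := by
  have sq := IsPullback.of_hasPullback f.hom ψ
  have hP : AlgSp.IsAlgSpace (pullback f.hom ψ) :=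
    Groth.Agent.S9874.isAlgSpace_of_isPullback Y.property.diag X.property
      (AlgSp.IsAlgSpace.yon_obj Z) sq
  have hPq : AlgSp.IsQuasiCompactSp (pullback f.hom ψ) :=
    (Groth.Agent.S9917.result f).1 hq Z hZ ψ _ _ _ sq
  obtain ⟨W, r, hW, hre, hrs⟩ := (Groth.Agent.S10180.result ⟨_, hP⟩).1 hPq
  change (AlgSp.yon S).obj W ⟶ pullback f.hom ψ at r
  obtain ⟨k, hk⟩ := (AlgSp.yon S).map_surjective (r ≫ pullback.snd f.hom ψ)
  have hfst : AlgSp.RepWith @Etale (pullback.fst f.hom ψ) :=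
    MorphismProperty.of_isPullback (P := AlgSp.RepWith @Etale) sq.flip hψ
  have hchart : AlgSp.RepWith @Etale (r ≫ pullback.fst f.hom ψ) :=
    (AlgSp.RepWith @Etale).comp_mem _ _ hre hfst
  have hcomm : (r ≫ pullback.fst f.hom ψ) ≫ f.hom = (AlgSp.yon S).map k ≫ ψ := by
    rw [hk, Category.assoc, Category.assoc, pullback.condition]
  haveI : LocallyOfFinitePresentation k.left := hfp _ _ k hchart hψ hcomm
  haveI := hZ
  haveI := hW
  haveI : QuasiCompact k.left := inferInstance
  have h1 := hE W _ hchart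
  have h2 := k.left.isLocallyConstructible_image h1
  have heq : AlgSp.Points.ofPt ψ ⁻¹' (AlgSp.Points.map f.hom '' E) =
      k.left '' (AlgSp.Points.ofPt (r ≫ pullback.fst f.hom ψ) ⁻¹' E) := by
    ext z
    constructor
    · rintro ⟨x, hxE, hx⟩
      rw [AlgSp.Points.ofPt_eq_map_ofScheme] at hx
      obtain ⟨π, hπ1, hπ2⟩ := Groth.Agent.S10175.exists_point_of_isPullback sq.flip _ _ hx.symm
      obtain ⟨w, rfl⟩ := Groth.Agent.S10177.surjective_ofPt r hrs π
      refine ⟨w, ?_, ?_⟩
      · show AlgSp.Points.ofPt (r ≫ pullback.fst f.hom ψ) w ∈ E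
        rw [← AlgSp.Points.map_ofPt, hπ2]
        exact hxE
      · apply (AlgSp.Points.schemeHomeo Z).injective
        rw [← AlgSp.Points.map_yon_map_apply, hk]
        have : AlgSp.Points.map (r ≫ pullback.snd f.hom ψ) (AlgSp.Points.schemeHomeo W w) =
            AlgSp.Points.map (pullback.snd f.hom ψ) (AlgSp.Points.ofPt r w) := by
          rw [AlgSp.Points.map_comp, AlgSp.Points.ofPt_eq_map_ofScheme r]
          rfl
        rw [this, hπ1]
        rfl
    · rintro ⟨w, hw, rfl⟩
      refine ⟨AlgSp.Points.ofPt (r ≫ pullback.fst f.hom ψ) w, hw, ?_⟩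
      rw [AlgSp.Points.map_ofPt, hcomm, Groth.Agent.S10176.ofPt_map_comp]
  rw [heq]
  exact h2



/-- A quasi-compact morphism locally of finite presentation between algebraic spaces maps etale locally
constructible sets to etale locally constructible sets. -/
theorem result {S : Scheme.{u}} {X Y : AlgSp.Space S} (f : X ⟶ Y)
    (hq : AlgSp.IsQuasiCompactMor f.hom) (hfp : AlgSp.LocP @LocallyOfFinitePresentation f.hom)
    (E : Set (AlgSp.Points X.obj))
    (hE : (∀ (U : Over S) (φ : (AlgSp.yon S).obj U ⟶ X.obj), AlgSp.RepWith @Etale φ →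
        Topology.IsLocallyConstructible (AlgSp.Points.ofPt φ ⁻¹' E))) :
    (∀ (U : Over S) (φ : (AlgSp.yon S).obj U ⟶ Y.obj), AlgSp.RepWith @Etale φ →
        Topology.IsLocallyConstructible (AlgSp.Points.ofPt φ ⁻¹' (AlgSp.Points.map f.hom '' E))) := by
  intro U φ hφ
  refine Topology.IsLocallyConstructible.of_isOpenCover
    (U := fun i : U.left.affineOpens => (i.1 : TopologicalSpace.Opens U.left))
    (AlgebraicGeometry.iSup_affineOpens_eq_top _) (fun i => ?_)
  let Z : Over S := Over.mk (i.1.ι ≫ U.hom)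
  let j : Z ⟶ U := Over.homMk i.1.ι rfl
  have hj : AlgSp.RepWith @Etale ((AlgSp.yon S).map j) :=
    (AlgSp.repWith_yon_map_iff @Etale j).2 (inferInstanceAs (Etale i.1.ι))
  have h1 := aux_affine f hq hfp E hE Z i.2 ((AlgSp.yon S).map j ≫ φ)
    ((AlgSp.RepWith @Etale).comp_mem _ _ hj hφ)
  have heq : AlgSp.Points.ofPt ((AlgSp.yon S).map j ≫ φ) ⁻¹' (AlgSp.Points.map f.hom '' E) =
      (Subtype.val : ↥(i.1 : Set U.left) → U.left) ⁻¹'
        (AlgSp.Points.ofPt φ ⁻¹' (AlgSp.Points.map f.hom '' E)) := by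
    ext z
    simp only [Set.mem_preimage]
    rw [Groth.Agent.S10176.ofPt_map_comp]
    rfl
  rw [heq] at h1
  exact h1

end Groth.Agent.S9982
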