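import Groth.Statements.S9987
import Mathlib
import Groth.Agent.Lib.Helper12IdealEt

set_option autoImplicit false
universe u
open CategoryTheory CategoryTheory.Limits AlgebraicGeometry Opposite
open AlgSp

namespace Groth.Agent.S9987





/-- For a closed immersion i : Z ⟶ X of algebraic spaces over S (representable, every base change to a
scheme a closed immersion), the comparison map O_X ⟶ i_* O_Z of sheaves of rings on the small etale
site of X is locally surjective. (The published statement also asserts that i_* O_Z is a
quasi-coherent O_X-module and that the kernel of O_X ⟶ i_* O_Z is a quasi-coherent sheaf of ideals;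
those two assertions are the closed-immersion cases of the general facts that direct images along
quasi-compact quasi-separated morphisms preserve quasi-coherence and that the kernel ideal of a
quasi-compact morphism is quasi-coherent, a closed immersion being quasi-compact and separated, and
only the surjectivity is stated here.) -/
theorem result {S : Scheme.{u}} {Z X : AlgSp.Space S} (i : Z ⟶ X)
    (hi : AlgSp.RepWith @IsClosedImmersion i.hom) :
    Presheaf.IsLocallySurjective (AlgSp.etTop X.obj) (AlgSp.bcRingHom hi.1).hom := by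
  constructor
  intro E s
  have hcov : Sieve.ofArrows
      (fun W : E.obj.left.left.affineOpens =>
        Groth.Agent.Lib.Helper12.IdealEt.chartOfOpen E.obj.hom E.property W.1)
      (fun W => (AlgSp.EtOver.homMk
        (Groth.Agent.Lib.Helper12.IdealEt.openOverι E.obj.left W.1) rfl :
        Groth.Agent.Lib.Helper12.IdealEt.chartOfOpen E.obj.hom E.property W.1 ⟶ E)) ∈
      AlgSp.etTop X.obj E := by
    refine AlgSp.ofArrows_mem_etTop _ _ ?_
    intro x
    obtain ⟨W, hW, hxW, -⟩ := (E.obj.left.left.isBasis_affineOpens).exists_subset_of_mem_open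
      (Set.mem_univ x) isOpen_univ
    obtain ⟨W', hW', rfl⟩ := hW
    exact ⟨⟨W', hW'⟩, ⟨x, hxW⟩, rfl⟩
  refine (AlgSp.etTop X.obj).superset_covering ?_ hcov
  rintro E' h ⟨_, k, _, ⟨W⟩, rfl⟩
  refine (Presheaf.imageSieve _ s).downward_closed ?_ k
  have sqW := AlgSp.EtOver.isPullback_bcObj hi.1
    (Groth.Agent.Lib.Helper12.IdealEt.chartOfOpen E.obj.hom E.property W.1)
  haveI : IsClosedImmersion (AlgSp.EtOver.bcπ hi.1
      (Groth.Agent.Lib.Helper12.IdealEt.chartOfOpen E.obj.hom E.property W.1)).left :=
    hi.2 _ _ _ sqW
  haveI : IsAffine (Groth.Agent.Lib.Helper12.IdealEt.chartOfOpen E.obj.hom E.property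
      W.1).obj.left.left := W.2
  obtain ⟨-, hsurj⟩ := (HasAffineProperty.iff_of_isAffine (P := @IsClosedImmersion)).1
    (inferInstance : IsClosedImmersion (AlgSp.EtOver.bcπ hi.1
      (Groth.Agent.Lib.Helper12.IdealEt.chartOfOpen E.obj.hom E.property W.1)).left)
  set gW : Groth.Agent.Lib.Helper12.IdealEt.chartOfOpen E.obj.hom E.property W.1 ⟶ E :=
    AlgSp.EtOver.homMk (Groth.Agent.Lib.Helper12.IdealEt.openOverι E.obj.left W.1) rfl with hgW
  obtain ⟨a, ha⟩ := hsurj
    ((AlgSp.EtOver.bcMap hi.1 gW).hom.left.left.appTop.hom (ULift.down s))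
  refine ⟨ULift.up a, ?_⟩
  apply ULift.ext
  exact ha

end Groth.Agent.S9987
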