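import Groth.Statements.S9988
import Mathlib
import Groth.Agent.Lib.Helper12IdealEt3c
import Groth.Agent.Lib.Helper12SchImage2

set_option autoImplicit false
universe u
open CategoryTheory CategoryTheory.Limits AlgebraicGeometry Opposite
open AlgSp

namespace Groth.Agent.S9988





/-- Every quasi-coherent sheaf of ideals on the small etale site of an algebraic space X is the ideal
sheaf of a closed subspace: there is a closed immersion i : Z ⟶ X whose kernel ideal on every affine
etale chart U of X equals I(U). -/
theorem result {S : Scheme.{u}} (X : AlgSp.Space S) (I : AlgSp.IdealEt X.obj) (hI : I.IsQCoh) :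
    ∃ (Z : AlgSp.Space S) (i : Z ⟶ X), AlgSp.IsCutOutBy I i.hom := by
  obtain ⟨Z, i, hi⟩ := Groth.Agent.Lib.Helper12.IdealEt.exists_isCutOutBy X.property I hI
  have hrep := hi.1.1
  exact ⟨⟨Z, Groth.Agent.Lib.Helper12.SchImage2.isAlgSpace_of_closedImmersion X.property i hrep⟩,
    ObjectProperty.homMk i, hi⟩

end Groth.Agent.S9988
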