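import Groth.Statements.S9997
import Mathlib
import Groth.Agent.Lib.Helper12IdealEt2
import Groth.Agent.S9961

set_option autoImplicit false
universe u
open CategoryTheory CategoryTheory.Limits AlgebraicGeometry Opposite
open AlgSp

namespace Groth.Agent.S9997





/-- A closed immersion i : Z ⟶ X of algebraic spaces is (locally) of finite presentation if and only if
its sheaf of ideals is of finite type; finite type is rendered chart by chart, as finite generation
of the kernel ideal Ker(Γ(U, O_U) → Γ(Z ×_X U, O)) for every affine etale chart U of X (for a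
quasi-coherent sheaf of ideals the two readings agree by descent of finite generation along etale
coverings). -/
theorem result {S : Scheme.{u}} {Z X : AlgSp.Space S} (i : Z ⟶ X)
    (hi : AlgSp.RepWith @IsClosedImmersion i.hom) :
    AlgSp.LocP @LocallyOfFinitePresentation i.hom ↔
      ∀ (E : AlgSp.EtOver X.obj) (hE : IsAffine E.obj.left.left), ((AlgSp.idealOfRep hi.1).ideal E hE).FG := by
  constructor
  · intro hloc E hE
    have sq := AlgSp.EtOver.isPullback_bcObj hi.1 E
    haveI : IsAffine E.obj.left.left := hE
    haveI : IsClosedImmersion (AlgSp.EtOver.bcπ hi.1 E).left := hi.2 E.obj.hom _ _ sq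
    have hlfp : LocallyOfFinitePresentation (AlgSp.EtOver.bcπ hi.1 E).left :=
      hloc (AlgSp.EtOver.bcObj hi.1 E).obj.hom E.obj.hom (AlgSp.EtOver.bcπ hi.1 E)
        (AlgSp.EtOver.bcObj hi.1 E).property E.property sq.w
    exact (Groth.Agent.Lib.Helper12.IdealEt.locallyOfFinitePresentation_iff_ker_fg _).1 hlfp
  · intro hfg U V a b h ha hb hcomm
    obtain ⟨ZV, ι, b'', σ, sq, hσ, hσe⟩ :=
      Groth.Agent.S9961.exists_factor_of_representable i.hom hi.1 a b h ha hb hcomm
    haveI : IsClosedImmersion ι.left := hi.2 b b'' ι sq
    haveI := hσe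
    have hι : LocallyOfFinitePresentation ι.left := by
      rw [IsZariskiLocalAtTarget.iff_of_iSup_eq_top (P := @LocallyOfFinitePresentation)
        (fun W : V.left.affineOpens => W.1) (iSup_affineOpens_eq_top V.left)]
      intro W
      haveI : IsAffine ↑W.1 := W.2
      rw [Groth.Agent.Lib.Helper12.IdealEt.locallyOfFinitePresentation_iff_ker_fg,
        Groth.Agent.Lib.Helper12.IdealEt.ker_morphismRestrict_eq hi.1 b hb ι b'' sq W.1 W.2]
      exact hfg _ _
    have e1 : h.left = σ.left ≫ ι.left := by rw [← Over.comp_left, hσ]
    rw [e1]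
    infer_instance

end Groth.Agent.S9997
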